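import Mathlib
import Cfsg.Prelude.Def_LieTypeDatum

/-!
Automorphisms of `PSL_n(F)`: the standard automorphisms (inner-diagonal, field, inverse transpose),
transvection matrices, the subgroups of transvections with a common centre / axis and their images in `PSL`.
-/

set_option autoImplicit false
set_option linter.unusedSectionVars false
set_option linter.unusedVariables false
set_option linter.unusedSimpArgs false

namespace Cfsg.Agent.Lib.H13.AutPSL

section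

open Matrix

variable {n : ℕ} {F : Type*} [Field F]

/-- center of a group is preserved by automorphisms -/
theorem map_center_eq {G : Type*} [Group G] (e : G ≃* G) :
    (Subgroup.center G).map (e : G →* G) = Subgroup.center G := by
  ext x
  rw [Subgroup.mem_map]
  constructor
  · rintro ⟨y, hy, rfl⟩
    rw [Subgroup.mem_center_iff] at hy ⊢
    intro g
    have := hy (e.symm g)
    have h2 := congrArg e this
    simpa using h2
  · intro hx
    refine ⟨e.symm x, ?_, by simp⟩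
    rw [Subgroup.mem_center_iff] at hx ⊢
    intro g
    have := hx (e g)
    have h2 := congrArg e.symm this
    simpa using h2

/-- descend an automorphism of `SL` to `PSL` -/
noncomputable def desc (e : SpecialLinearGroup (Fin n) F ≃* SpecialLinearGroup (Fin n) F) :
    ProjectiveSpecialLinearGroup (Fin n) F ≃* ProjectiveSpecialLinearGroup (Fin n) F :=
  QuotientGroup.congr _ _ e (map_center_eq e)

theorem desc_mk (e : SpecialLinearGroup (Fin n) F ≃* SpecialLinearGroup (Fin n) F)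
    (s : SpecialLinearGroup (Fin n) F) :
    desc e (QuotientGroup.mk s) = QuotientGroup.mk (e s) := by
  unfold desc
  rw [QuotientGroup.congr_mk]

theorem desc_trans (e e' : SpecialLinearGroup (Fin n) F ≃* SpecialLinearGroup (Fin n) F) :
    desc (e.trans e') = (desc e).trans (desc e') := by
  ext x
  induction x using QuotientGroup.induction_on with
  | H s => simp [desc_mk]

theorem desc_symm (e : SpecialLinearGroup (Fin n) F ≃* SpecialLinearGroup (Fin n) F) :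
    desc e.symm = (desc e).symm := by
  ext x
  induction x using QuotientGroup.induction_on with
  | H s =>
    rw [MulEquiv.eq_symm_apply, desc_mk, desc_mk]
    simp

/-- conjugation by matrices `A`, `B` inverse to each other -/
def conjAB (A B : Matrix (Fin n) (Fin n) F) (h1 : A * B = 1) (h2 : B * A = 1) :
    SpecialLinearGroup (Fin n) F ≃* SpecialLinearGroup (Fin n) F where
  toFun s := ⟨A * s.1 * B, by
    rw [det_mul, det_mul, s.2, mul_one, ← det_mul, h1, det_one]⟩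
  invFun s := ⟨B * s.1 * A, by
    rw [det_mul, det_mul, s.2, mul_one, ← det_mul, h2, det_one]⟩
  left_inv s := by
    apply Subtype.ext
    show B * (A * s.1 * B) * A = s.1
    calc B * (A * s.1 * B) * A = (B * A) * s.1 * (B * A) := by simp only [Matrix.mul_assoc]
      _ = s.1 := by rw [h2, Matrix.one_mul, Matrix.mul_one]
  right_inv s := by
    apply Subtype.ext
    show A * (B * s.1 * A) * B = s.1
    calc A * (B * s.1 * A) * B = (A * B) * s.1 * (A * B) := by simp only [Matrix.mul_assoc]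
      _ = s.1 := by rw [h1, Matrix.one_mul, Matrix.mul_one]
  map_mul' s t := by
    apply Subtype.ext
    show A * (s.1 * t.1) * B = (A * s.1 * B) * (A * t.1 * B)
    calc A * (s.1 * t.1) * B = A * s.1 * 1 * t.1 * B := by simp only [Matrix.mul_assoc, Matrix.one_mul]
      _ = (A * s.1 * B) * (A * t.1 * B) := by rw [← h2]; simp only [Matrix.mul_assoc]

/-- conjugation by an element of `GL` -/
def conjGL (g : GL (Fin n) F) : SpecialLinearGroup (Fin n) F ≃* SpecialLinearGroup (Fin n) F :=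
  conjAB (g : Matrix (Fin n) (Fin n) F) ((g⁻¹ : GL (Fin n) F) : Matrix (Fin n) (Fin n) F)
    (by rw [← Units.val_mul, mul_inv_cancel, Units.val_one])
    (by rw [← Units.val_mul, inv_mul_cancel, Units.val_one])

theorem conjGL_coe (g : GL (Fin n) F) (s : SpecialLinearGroup (Fin n) F) :
    ((conjGL g s : SpecialLinearGroup (Fin n) F) : Matrix (Fin n) (Fin n) F) =
      (g : Matrix (Fin n) (Fin n) F) * (s : Matrix (Fin n) (Fin n) F) *
        ((g⁻¹ : GL (Fin n) F) : Matrix (Fin n) (Fin n) F) := rfl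

theorem conjGL_mul (g h : GL (Fin n) F) : conjGL (g * h) = (conjGL h).trans (conjGL g) := by
  ext s : 1
  apply Subtype.ext
  show _ = ((conjGL g (conjGL h s) : SpecialLinearGroup (Fin n) F) : Matrix (Fin n) (Fin n) F)
  rw [conjGL_coe, conjGL_coe, conjGL_coe, _root_.mul_inv_rev, Units.val_mul, Units.val_mul]
  simp only [Matrix.mul_assoc]

theorem conjGL_one : conjGL (1 : GL (Fin n) F) = MulEquiv.refl _ := by
  ext s : 1
  apply Subtype.ext
  show ((conjGL 1 s : SpecialLinearGroup (Fin n) F) : Matrix (Fin n) (Fin n) F) = s.1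
  rw [conjGL_coe]
  simp

theorem conjGL_symm (g : GL (Fin n) F) : (conjGL g).symm = conjGL g⁻¹ := by
  ext s : 1
  rw [MulEquiv.symm_apply_eq]
  have := conjGL_mul g g⁻¹
  rw [mul_inv_cancel, conjGL_one] at this
  have h2 := DFunLike.congr_fun this s
  simpa using h2

/-- field automorphism -/
def fieldAut (σ : F ≃+* F) : SpecialLinearGroup (Fin n) F ≃* SpecialLinearGroup (Fin n) F where
  toFun := SpecialLinearGroup.map (σ : F →+* F)
  invFun := SpecialLinearGroup.map (σ.symm : F →+* F)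
  left_inv s := by
    apply Subtype.ext
    ext i j
    show σ.symm (σ (s.1 i j)) = s.1 i j
    simp
  right_inv s := by
    apply Subtype.ext
    ext i j
    show σ (σ.symm (s.1 i j)) = s.1 i j
    simp
  map_mul' s t := map_mul _ s t

theorem fieldAut_coe (σ : F ≃+* F) (s : SpecialLinearGroup (Fin n) F) :
    ((fieldAut σ s : SpecialLinearGroup (Fin n) F) : Matrix (Fin n) (Fin n) F) =
      (s : Matrix (Fin n) (Fin n) F).map σ := rfl

theorem transpose_mul' (s t : SpecialLinearGroup (Fin n) F) :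
    (s * t).transpose = t.transpose * s.transpose := by
  apply Subtype.ext
  simp [SpecialLinearGroup.coe_transpose, Matrix.transpose_mul]

theorem transpose_one' : (1 : SpecialLinearGroup (Fin n) F).transpose = 1 := by
  apply Subtype.ext
  simp [SpecialLinearGroup.coe_transpose]

theorem transpose_inv' (s : SpecialLinearGroup (Fin n) F) :
    (s⁻¹).transpose = (s.transpose)⁻¹ := by
  apply eq_inv_of_mul_eq_one_right
  rw [← transpose_mul', inv_mul_cancel, transpose_one']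

theorem transpose_transpose' (s : SpecialLinearGroup (Fin n) F) :
    s.transpose.transpose = s := by
  apply Subtype.ext
  simp [SpecialLinearGroup.coe_transpose]

/-- inverse transpose -/
def invT : SpecialLinearGroup (Fin n) F ≃* SpecialLinearGroup (Fin n) F where
  toFun s := (s⁻¹).transpose
  invFun s := (s⁻¹).transpose
  left_inv s := by
    show ((s⁻¹).transpose⁻¹).transpose = s
    rw [transpose_inv', transpose_transpose', inv_inv]
  right_inv s := by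
    show ((s⁻¹).transpose⁻¹).transpose = s
    rw [transpose_inv', transpose_transpose', inv_inv]
  map_mul' s t := by
    show ((s * t)⁻¹).transpose = (s⁻¹).transpose * (t⁻¹).transpose
    rw [_root_.mul_inv_rev, transpose_mul']

theorem invT_coe (s : SpecialLinearGroup (Fin n) F) :
    ((invT s : SpecialLinearGroup (Fin n) F) : Matrix (Fin n) (Fin n) F) =
      ((s⁻¹ : SpecialLinearGroup (Fin n) F) : Matrix (Fin n) (Fin n) F).transpose := rfl

theorem invT_invT (s : SpecialLinearGroup (Fin n) F) : invT (invT s) = s := invT.left_inv s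

/-! ### The Prelude predicates -/

theorem isInnerDiagonal_desc_conjGL (g : GL (Fin n) F) :
    Cfsg.IsInnerDiagonalAutPSL (desc (conjGL g)) := by
  refine ⟨g, fun s s' h => ?_⟩
  rw [desc_mk]
  congr 1
  apply Subtype.ext
  rw [h]; rfl

theorem isStdFieldAut_desc_fieldAut (σ : F ≃+* F) :
    Cfsg.IsStdFieldAutPSL σ (desc (fieldAut (n := n) σ)) := by
  intro s s' h
  rw [desc_mk]
  congr 1
  apply Subtype.ext
  rw [h]; rfl

theorem isInverseTranspose_desc_invT :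
    Cfsg.IsInverseTransposeAutPSL (desc (invT (n := n) (F := F))) := by
  intro s s' h
  rw [desc_mk]
  congr 1
  apply Subtype.ext
  rw [h]; rfl

theorem isInducedBySemilinear_desc (g : GL (Fin n) F) (σ : F ≃+* F) :
    Cfsg.IsInducedBySemilinearPSL g σ (desc ((fieldAut σ).trans (conjGL g))) := by
  intro s s' h
  rw [desc_mk]
  congr 1
  apply Subtype.ext
  rw [h]; rfl

/-- uniqueness: an automorphism satisfying the predicate is the constructed one -/
theorem eq_of_isInnerDiagonal {β : ProjectiveSpecialLinearGroup (Fin n) F ≃* ProjectiveSpecialLinearGroup (Fin n) F}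
    (g : GL (Fin n) F)
    (h : ∀ s s' : SpecialLinearGroup (Fin n) F,
      (s' : Matrix (Fin n) (Fin n) F) = (g : Matrix (Fin n) (Fin n) F) * (s : Matrix (Fin n) (Fin n) F) *
        ((g⁻¹ : GL (Fin n) F) : Matrix (Fin n) (Fin n) F) → β (QuotientGroup.mk s) = QuotientGroup.mk s') :
    β = desc (conjGL g) := by
  ext x
  induction x using QuotientGroup.induction_on with
  | H s => rw [desc_mk]; exact h s _ rfl

theorem eq_of_isStdFieldAut {β : ProjectiveSpecialLinearGroup (Fin n) F ≃* ProjectiveSpecialLinearGroup (Fin n) F}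
    (σ : F ≃+* F) (h : Cfsg.IsStdFieldAutPSL σ β) : β = desc (fieldAut σ) := by
  ext x
  induction x using QuotientGroup.induction_on with
  | H s => rw [desc_mk]; exact h s _ rfl

theorem eq_of_isInverseTranspose {β : ProjectiveSpecialLinearGroup (Fin n) F ≃* ProjectiveSpecialLinearGroup (Fin n) F}
    (h : Cfsg.IsInverseTransposeAutPSL β) : β = desc invT := by
  ext x
  induction x using QuotientGroup.induction_on with
  | H s => rw [desc_mk]; exact h s _ rfl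

end

section

open Matrix

variable {n : ℕ} {F : Type*} [Field F]

/-- transvection matrix -/
def tm (v φ : Fin n → F) : Matrix (Fin n) (Fin n) F := 1 + vecMulVec v φ

theorem det_tm (v φ : Fin n → F) : (tm v φ).det = 1 + φ ⬝ᵥ v := by
  unfold tm
  rw [vecMulVec_eq Unit, det_one_add_replicateCol_mul_replicateRow]

/-- transvection as an element of `SL` -/
def tv (v φ : Fin n → F) (h : φ ⬝ᵥ v = 0) : SpecialLinearGroup (Fin n) F :=
  ⟨tm v φ, by rw [det_tm, h, add_zero]⟩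

theorem tv_coe (v φ : Fin n → F) (h : φ ⬝ᵥ v = 0) :
    ((tv v φ h : SpecialLinearGroup (Fin n) F) : Matrix (Fin n) (Fin n) F) = tm v φ := rfl

theorem tm_mulVec (v φ x : Fin n → F) : tm v φ *ᵥ x = x + (φ ⬝ᵥ x) • v := by
  unfold tm
  rw [add_mulVec, one_mulVec, vecMulVec_mulVec, op_smul_eq_smul]

theorem vecMul_tm (v φ x : Fin n → F) : x ᵥ* tm v φ = x + (x ⬝ᵥ v) • φ := by
  unfold tm
  rw [vecMul_add, vecMul_one, vecMul_vecMulVec]

theorem tm_zero_left (φ : Fin n → F) : tm 0 φ = 1 := by simp [tm]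

theorem tm_zero_right (v : Fin n → F) : tm v 0 = 1 := by simp [tm]

theorem tm_mul_tm (v φ w ψ : Fin n → F) :
    tm v φ * tm w ψ = 1 + vecMulVec v φ + vecMulVec w ψ + (φ ⬝ᵥ w) • vecMulVec v ψ := by
  unfold tm
  rw [mul_add, add_mul, add_mul, Matrix.one_mul, Matrix.mul_one, Matrix.one_mul,
    vecMulVec_mul_vecMulVec, vecMulVec_smul]
  abel

theorem tm_mul_right (v φ ψ : Fin n → F) (h : φ ⬝ᵥ v = 0) :
    tm v φ * tm v ψ = tm v (φ + ψ) := by
  rw [tm_mul_tm, h, zero_smul, add_zero]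
  unfold tm
  rw [vecMulVec_add, add_assoc]

theorem tm_mul_left (v w φ : Fin n → F) (h : φ ⬝ᵥ w = 0) :
    tm v φ * tm w φ = tm (v + w) φ := by
  rw [tm_mul_tm, h, zero_smul, add_zero]
  unfold tm
  rw [add_vecMulVec, add_assoc]

theorem conj_tm (A B : Matrix (Fin n) (Fin n) F) (h : A * B = 1) (v φ : Fin n → F) :
    A * tm v φ * B = tm (A *ᵥ v) (φ ᵥ* B) := by
  unfold tm
  rw [mul_add, add_mul, Matrix.mul_one, h, mul_vecMulVec, vecMulVec_mul]

theorem map_tm (σ : F ≃+* F) (v φ : Fin n → F) :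
    (tm v φ).map σ = tm (fun i => σ (v i)) (fun i => σ (φ i)) := by
  ext i j
  unfold tm
  simp only [Matrix.map_apply, Matrix.add_apply, vecMulVec_apply, map_add, map_mul]
  congr 1
  by_cases hij : i = j
  · subst hij; simp
  · simp [Matrix.one_apply_ne hij]

theorem transpose_tm (v φ : Fin n → F) : (tm v φ)ᵀ = tm φ v := by
  unfold tm
  rw [transpose_add, transpose_one, transpose_vecMulVec]

theorem tm_eq_tm_iff (v φ w ψ : Fin n → F) :
    tm v φ = tm w ψ ↔ vecMulVec v φ = vecMulVec w ψ := by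
  unfold tm
  exact add_right_inj 1

theorem tm_eq_one_iff (v φ : Fin n → F) : tm v φ = 1 ↔ v = 0 ∨ φ = 0 := by
  unfold tm
  rw [add_eq_left, vecMulVec_eq_zero]

theorem single_eq_vecMulVec (i j : Fin n) (c : F) :
    Matrix.single i j c = vecMulVec (Pi.single i 1) (Pi.single j c) := by
  ext k l
  rw [vecMulVec_apply, Matrix.single_apply, Pi.single_apply, Pi.single_apply]
  by_cases hk : i = k <;> by_cases hl : j = l <;> simp [hk, hl, eq_comm]

theorem transvection_coe_eq_tm {i j : Fin n} (hij : i ≠ j) (c : F) :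
    ((SpecialLinearGroup.transvection hij c : SpecialLinearGroup (Fin n) F) :
      Matrix (Fin n) (Fin n) F) = tm (Pi.single i 1) (Pi.single j c) := by
  rw [SpecialLinearGroup.transvection_coe, single_eq_vecMulVec]
  rfl

/-- proportional vectors -/
def Par (v w : Fin n → F) : Prop := ∃ c : F, c ≠ 0 ∧ w = c • v

theorem Par.refl (v : Fin n → F) : Par v v := ⟨1, one_ne_zero, (one_smul _ _).symm⟩

theorem Par.symm {v w : Fin n → F} (h : Par v w) : Par w v := by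
  obtain ⟨c, hc, rfl⟩ := h
  exact ⟨c⁻¹, inv_ne_zero hc, by rw [smul_smul, inv_mul_cancel₀ hc, one_smul]⟩

theorem Par.trans {u v w : Fin n → F} (h : Par u v) (h' : Par v w) : Par u w := by
  obtain ⟨c, hc, rfl⟩ := h
  obtain ⟨d, hd, rfl⟩ := h'
  exact ⟨d * c, mul_ne_zero hd hc, by rw [smul_smul]⟩

theorem Par.ne_zero {v w : Fin n → F} (h : Par v w) (hv : v ≠ 0) : w ≠ 0 := by
  obtain ⟨c, hc, rfl⟩ := h
  exact smul_ne_zero hc hv

theorem vecMulVec_eq_vecMulVec {v φ w ψ : Fin n → F} (h : vecMulVec v φ = vecMulVec w ψ)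
    (hv : v ≠ 0) (hφ : φ ≠ 0) : ∃ c : F, c ≠ 0 ∧ w = c • v ∧ φ = c • ψ := by
  obtain ⟨i, hi⟩ := Function.ne_iff.1 hv
  obtain ⟨j, hj⟩ := Function.ne_iff.1 hφ
  simp only [Pi.zero_apply] at hi hj
  have hij : v i * φ j = w i * ψ j := by
    have := congrFun (congrFun h i) j
    simpa [vecMulVec_apply] using this
  have hne : w i * ψ j ≠ 0 := by rw [← hij]; exact mul_ne_zero hi hj
  have hwi : w i ≠ 0 := left_ne_zero_of_mul hne
  have hψj : ψ j ≠ 0 := right_ne_zero_of_mul hne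
  refine ⟨φ j / ψ j, div_ne_zero hj hψj, ?_, ?_⟩
  · funext k
    have := congrFun (congrFun h k) j
    simp only [vecMulVec_apply] at this
    rw [Pi.smul_apply, smul_eq_mul]
    field_simp
    linear_combination -this
  · funext l
    have := congrFun (congrFun h i) l
    simp only [vecMulVec_apply] at this
    rw [Pi.smul_apply, smul_eq_mul]
    have h3 : w i = φ j / ψ j * v i := by
      field_simp
      linear_combination -hij
    rw [h3] at this
    have h4 : v i * φ l = v i * (φ j / ψ j * ψ l) := by rw [this]; ring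
    exact mul_left_cancel₀ hi h4

end

section

open Matrix

variable {n : ℕ} {F : Type*} [Field F]

/-- two elements of `SL` have the same image in `PSL` iff they differ by a scalar -/
theorem mk_eq_mk_iff (s s' : SpecialLinearGroup (Fin n) F) :
    (QuotientGroup.mk s : ProjectiveSpecialLinearGroup (Fin n) F) = QuotientGroup.mk s' ↔
      ∃ r : F, r ^ n = 1 ∧ (s' : Matrix (Fin n) (Fin n) F) = r • (s : Matrix (Fin n) (Fin n) F) := by
  rw [QuotientGroup.eq, Matrix.SpecialLinearGroup.mem_center_iff]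
  simp only [Fintype.card_fin]
  constructor
  · rintro ⟨r, hr, h⟩
    refine ⟨r, hr, ?_⟩
    have h2 : s' = s * (s⁻¹ * s') := by group
    rw [h2, Matrix.SpecialLinearGroup.coe_mul, ← h]
    simp [Matrix.scalar_apply, Matrix.smul_eq_mul_diagonal]
  · rintro ⟨r, hr, h⟩
    refine ⟨r, hr, ?_⟩
    rw [Matrix.SpecialLinearGroup.coe_mul, h, Matrix.mul_smul, ← Matrix.SpecialLinearGroup.coe_mul,
      inv_mul_cancel, Matrix.SpecialLinearGroup.coe_one]
    simp [Matrix.scalar_apply, Matrix.smul_one_eq_diagonal]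

/-- kernel of two functionals in dimension at least 3 -/
theorem exists_ker₂ (hn : 3 ≤ n) (φ ψ : Fin n → F) :
    ∃ z : Fin n → F, z ≠ 0 ∧ φ ⬝ᵥ z = 0 ∧ ψ ⬝ᵥ z = 0 := by
  let f : (Fin n → F) →ₗ[F] (Fin 2 → F) :=
    { toFun := fun z => ![φ ⬝ᵥ z, ψ ⬝ᵥ z]
      map_add' := fun x y => by
        ext i; fin_cases i <;> simp [dotProduct_add]
      map_smul' := fun c x => by
        ext i; fin_cases i <;> simp [dotProduct_smul] }
  have hker : LinearMap.ker f ≠ ⊥ := by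
    apply LinearMap.ker_ne_bot_of_finrank_lt
    simp only [Module.finrank_fin_fun]
    omega
  obtain ⟨z, hz, hz0⟩ := (Submodule.ne_bot_iff _).1 hker
  refine ⟨z, hz0, ?_, ?_⟩
  · have := congrFun (LinearMap.mem_ker.1 hz) 0
    simpa [f] using this
  · have := congrFun (LinearMap.mem_ker.1 hz) 1
    simpa [f] using this

/-- kernel of one functional in dimension at least 2 -/
theorem exists_ker₁ (hn : 2 ≤ n) (φ : Fin n → F) :
    ∃ z : Fin n → F, z ≠ 0 ∧ φ ⬝ᵥ z = 0 := by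
  let f : (Fin n → F) →ₗ[F] (Fin 1 → F) :=
    { toFun := fun z => ![φ ⬝ᵥ z]
      map_add' := fun x y => by
        ext i; fin_cases i; simp [dotProduct_add]
      map_smul' := fun c x => by
        ext i; fin_cases i; simp [dotProduct_smul] }
  have hker : LinearMap.ker f ≠ ⊥ := by
    apply LinearMap.ker_ne_bot_of_finrank_lt
    simp only [Module.finrank_fin_fun]
    omega
  obtain ⟨z, hz, hz0⟩ := (Submodule.ne_bot_iff _).1 hker
  refine ⟨z, hz0, ?_⟩
  have := congrFun (LinearMap.mem_ker.1 hz) 0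
  simpa [f] using this

/-- if `φ` and `ψ` are not proportional there is `x` with `φ x = 1`, `ψ x = 0`. -/
theorem exists_dual_of_not_par {φ ψ : Fin n → F} (hφ : φ ≠ 0) (h : ¬ Par ψ φ) :
    ∃ x : Fin n → F, φ ⬝ᵥ x = 1 ∧ ψ ⬝ᵥ x = 0 := by
  by_cases hψ : ψ = 0
  · obtain ⟨k, hk⟩ := Function.ne_iff.1 hφ
    simp only [Pi.zero_apply] at hk
    refine ⟨Pi.single k (φ k)⁻¹, ?_, by rw [hψ, zero_dotProduct]⟩
    rw [dotProduct_single, mul_inv_cancel₀ hk]
  obtain ⟨k, hk⟩ := Function.ne_iff.1 hψ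
  simp only [Pi.zero_apply] at hk
  -- φ' = φ - (φ k / ψ k) ψ
  set φ' : Fin n → F := φ - (φ k / ψ k) • ψ with hφ'
  have hφ'0 : φ' ≠ 0 := by
    intro h0
    have h1 : φ = (φ k / ψ k) • ψ := sub_eq_zero.1 h0
    have hc : φ k / ψ k ≠ 0 := by
      intro hc
      rw [hc, zero_smul] at h1
      exact hφ h1
    exact h ⟨_, hc, h1⟩
  obtain ⟨l, hl⟩ := Function.ne_iff.1 hφ'0
  simp only [Pi.zero_apply] at hl
  have hk' : φ' k = 0 := by
    simp only [hφ', Pi.sub_apply, Pi.smul_apply, smul_eq_mul]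
    field_simp
    ring
  refine ⟨(φ' l)⁻¹ • (Pi.single l 1 - (ψ l / ψ k) • Pi.single k 1), ?_, ?_⟩
  · have e : φ = φ' + (φ k / ψ k) • ψ := by rw [hφ']; abel
    have hψx : ψ ⬝ᵥ (Pi.single l 1 - (ψ l / ψ k) • Pi.single k 1) = 0 := by
      rw [dotProduct_sub, dotProduct_smul, dotProduct_single, dotProduct_single]
      simp only [smul_eq_mul, mul_one]
      field_simp
      ring
    rw [dotProduct_smul, e, add_dotProduct, smul_dotProduct, hψx, smul_zero, add_zero,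
      dotProduct_sub, dotProduct_smul, dotProduct_single, dotProduct_single, hk']
    simp only [smul_eq_mul, mul_one, mul_zero, sub_zero]
    exact inv_mul_cancel₀ hl
  · rw [dotProduct_smul, dotProduct_sub, dotProduct_smul, dotProduct_single, dotProduct_single]
    simp only [smul_eq_mul, mul_one]
    field_simp
    ring

end

section

open Matrix

variable {n : ℕ} {F : Type*} [Field F]

/-- Key lemma: if the product of two transvections is a scalar multiple of a transvection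
(or of the identity) then they share their centre or their axis. -/
theorem key (hn : 3 ≤ n) {v φ w ψ u χ : Fin n → F} (hv : v ≠ 0) (hφ : φ ≠ 0) (hw : w ≠ 0)
    (hψ : ψ ≠ 0) (h3 : χ ⬝ᵥ u = 0) (r : F)
    (h : tm u χ = r • (tm v φ * tm w ψ)) : Par v w ∨ Par φ ψ := by
  by_contra hcon
  push Not at hcon
  obtain ⟨hvw, hφψ⟩ := hcon
  -- step 1 : r = 1
  have hr : r = 1 := by
    obtain ⟨z, hz0, hz1, hz2⟩ := exists_ker₂ hn φ ψ
    have e1 := congrArg (fun M => M *ᵥ z) h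
    rw [smul_mulVec, ← mulVec_mulVec, tm_mulVec, tm_mulVec, tm_mulVec, hz2, zero_smul,
      add_zero, hz1, zero_smul, add_zero] at e1
    -- e1 : z + (χ ⬝ᵥ z) • u = r • z
    by_contra hr
    have e2 := congrArg (fun y => χ ⬝ᵥ y) e1
    rw [dotProduct_add, dotProduct_smul, h3, smul_zero, add_zero, dotProduct_smul,
      smul_eq_mul] at e2
    have hχz : χ ⬝ᵥ z = 0 := by
      have : (r - 1) * (χ ⬝ᵥ z) = 0 := by linear_combination -e2
      rcases mul_eq_zero.1 this with h0 | h0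
      · exact absurd (sub_eq_zero.1 h0) hr
      · exact h0
    rw [hχz, zero_smul, add_zero] at e1
    have : (r - 1) • z = 0 := by rw [sub_smul, one_smul, ← e1, sub_self]
    rcases smul_eq_zero.1 this with h0 | h0
    · exact hr (sub_eq_zero.1 h0)
    · exact hz0 h0
  rw [hr, one_smul] at h
  -- step 2
  obtain ⟨x₁, hx₁φ, hx₁ψ⟩ := exists_dual_of_not_par hφ (fun hp => hφψ hp.symm)
  obtain ⟨x₂, hx₂ψ, hx₂φ⟩ := exists_dual_of_not_par hψ hφψ
  have e1 := congrArg (fun M => M *ᵥ x₁) h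
  rw [← mulVec_mulVec, tm_mulVec, tm_mulVec, tm_mulVec, hx₁ψ, zero_smul, add_zero, hx₁φ,
    one_smul, add_right_inj] at e1
  -- e1 : (χ ⬝ᵥ x₁) • u = v
  have e2 := congrArg (fun M => M *ᵥ x₂) h
  rw [← mulVec_mulVec, tm_mulVec, tm_mulVec, tm_mulVec, hx₂ψ, one_smul, dotProduct_add,
    hx₂φ, zero_add, add_assoc, add_right_inj] at e2
  -- e2 : (χ ⬝ᵥ x₂) • u = w + (φ ⬝ᵥ w) • v
  have ha : χ ⬝ᵥ x₁ ≠ 0 := by
    intro h0
    rw [h0, zero_smul] at e1
    exact hv e1.symm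
  have hu : u = (χ ⬝ᵥ x₁)⁻¹ • v := by
    rw [← e1, smul_smul, inv_mul_cancel₀ ha, one_smul]
  have hw' : w = ((χ ⬝ᵥ x₂) * (χ ⬝ᵥ x₁)⁻¹ - φ ⬝ᵥ w) • v := by
    rw [sub_smul, ← smul_smul, ← hu, e2]
    abel
  apply hvw
  refine ⟨_, ?_, hw'⟩
  intro h0
  rw [h0, zero_smul] at hw'
  exact hw hw'

/-- the transvections with centre `v` -/
def Av (v : Fin n → F) : Subgroup (SpecialLinearGroup (Fin n) F) where
  carrier := {s | ∃ ψ : Fin n → F, ψ ⬝ᵥ v = 0 ∧ (s : Matrix (Fin n) (Fin n) F) = tm v ψ}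
  mul_mem' := by
    rintro s t ⟨ψ, hψ, hs⟩ ⟨ψ', hψ', ht⟩
    refine ⟨ψ + ψ', by rw [add_dotProduct, hψ, hψ', add_zero], ?_⟩
    rw [Matrix.SpecialLinearGroup.coe_mul, hs, ht, tm_mul_right _ _ _ hψ]
  one_mem' := ⟨0, zero_dotProduct _, by rw [tm_zero_right]; rfl⟩
  inv_mem' := by
    rintro s ⟨ψ, hψ, hs⟩
    refine ⟨-ψ, by rw [neg_dotProduct, hψ, neg_zero], ?_⟩
    have h1 : s * tv v (-ψ) (by rw [neg_dotProduct, hψ, neg_zero]) = 1 := by
      apply Subtype.ext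
      rw [Matrix.SpecialLinearGroup.coe_mul, hs, tv_coe, tm_mul_right _ _ _ hψ, add_neg_cancel,
        tm_zero_right]
      rfl
    rw [inv_eq_of_mul_eq_one_right h1, tv_coe]

/-- the transvections with axis `φ` -/
def Ah (φ : Fin n → F) : Subgroup (SpecialLinearGroup (Fin n) F) where
  carrier := {s | ∃ w : Fin n → F, φ ⬝ᵥ w = 0 ∧ (s : Matrix (Fin n) (Fin n) F) = tm w φ}
  mul_mem' := by
    rintro s t ⟨w, hw, hs⟩ ⟨w', hw', ht⟩
    refine ⟨w + w', by rw [dotProduct_add, hw, hw', add_zero], ?_⟩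
    rw [Matrix.SpecialLinearGroup.coe_mul, hs, ht, tm_mul_left _ _ _ hw']
  one_mem' := ⟨0, dotProduct_zero _, by rw [tm_zero_left]; rfl⟩
  inv_mem' := by
    rintro s ⟨w, hw, hs⟩
    refine ⟨-w, by rw [dotProduct_neg, hw, neg_zero], ?_⟩
    have h1 : s * tv (-w) φ (by rw [dotProduct_neg, hw, neg_zero]) = 1 := by
      apply Subtype.ext
      rw [Matrix.SpecialLinearGroup.coe_mul, hs, tv_coe,
        tm_mul_left _ _ _ (by rw [dotProduct_neg, hw, neg_zero]), add_neg_cancel, tm_zero_left]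
      rfl
    rw [inv_eq_of_mul_eq_one_right h1, tv_coe]

theorem mem_Av {v : Fin n → F} {s : SpecialLinearGroup (Fin n) F} :
    s ∈ Av v ↔ ∃ ψ : Fin n → F, ψ ⬝ᵥ v = 0 ∧ (s : Matrix (Fin n) (Fin n) F) = tm v ψ := Iff.rfl

theorem mem_Ah {φ : Fin n → F} {s : SpecialLinearGroup (Fin n) F} :
    s ∈ Ah φ ↔ ∃ w : Fin n → F, φ ⬝ᵥ w = 0 ∧ (s : Matrix (Fin n) (Fin n) F) = tm w φ := Iff.rfl

/-- the projection to `PSL` -/
abbrev pr : SpecialLinearGroup (Fin n) F →* ProjectiveSpecialLinearGroup (Fin n) F :=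
  QuotientGroup.mk' _

/-- the set of transvections -/
def Tset : Set (SpecialLinearGroup (Fin n) F) :=
  {s | ∃ v φ : Fin n → F, v ≠ 0 ∧ φ ≠ 0 ∧ φ ⬝ᵥ v = 0 ∧ (s : Matrix (Fin n) (Fin n) F) = tm v φ}

/-- the images of the transvections in `PSL` -/
def Tbar : Set (ProjectiveSpecialLinearGroup (Fin n) F) := pr '' Tset

/-- image of `Av v` -/
def PA (v : Fin n → F) : Subgroup (ProjectiveSpecialLinearGroup (Fin n) F) := (Av v).map pr

/-- image of `Ah φ` -/
def PH (φ : Fin n → F) : Subgroup (ProjectiveSpecialLinearGroup (Fin n) F) := (Ah φ).map pr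

theorem smul_vecMulVec_comm (c : F) (v φ : Fin n → F) :
    vecMulVec (c • v) φ = vecMulVec v (c • φ) := by
  ext i j
  simp only [vecMulVec_apply, Pi.smul_apply, smul_eq_mul]
  ring

theorem tm_smul_comm (c : F) (v φ : Fin n → F) : tm (c • v) φ = tm v (c • φ) := by
  unfold tm
  rw [smul_vecMulVec_comm]

theorem Av_eq_of_par {v v' : Fin n → F} (h : Par v v') : Av v = Av v' := by
  obtain ⟨c, hc, rfl⟩ := h
  ext s
  rw [mem_Av, mem_Av]
  constructor
  · rintro ⟨ψ, hψ, hs⟩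
    refine ⟨c⁻¹ • ψ, ?_, ?_⟩
    · rw [smul_dotProduct, dotProduct_smul, hψ, smul_zero, smul_zero]
    · rw [hs, tm_smul_comm, smul_smul, mul_inv_cancel₀ hc, one_smul]
  · rintro ⟨ψ, hψ, hs⟩
    refine ⟨c • ψ, ?_, ?_⟩
    · rw [smul_dotProduct, ← dotProduct_smul, hψ]
    · rw [hs, tm_smul_comm]

theorem Ah_eq_of_par {φ φ' : Fin n → F} (h : Par φ φ') : Ah φ = Ah φ' := by
  obtain ⟨c, hc, rfl⟩ := h
  ext s
  rw [mem_Ah, mem_Ah]
  constructor
  · rintro ⟨w, hw, hs⟩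
    refine ⟨c⁻¹ • w, ?_, ?_⟩
    · rw [smul_dotProduct, dotProduct_smul, hw, smul_zero, smul_zero]
    · rw [hs, ← tm_smul_comm, smul_smul, mul_inv_cancel₀ hc, one_smul]
  · rintro ⟨w, hw, hs⟩
    refine ⟨c • w, ?_, ?_⟩
    · rw [dotProduct_smul, ← smul_dotProduct, hw]
    · rw [hs, tm_smul_comm]

theorem PA_eq_of_par {v v' : Fin n → F} (h : Par v v') : PA v = PA v' := by
  unfold PA; rw [Av_eq_of_par h]

theorem PH_eq_of_par {φ φ' : Fin n → F} (h : Par φ φ') : PH φ = PH φ' := by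
  unfold PH; rw [Ah_eq_of_par h]

/-- equality in `PSL` of two transvections forces equality of matrices -/
theorem tm_eq_of_mk_eq (hn : 3 ≤ n) {s s' : SpecialLinearGroup (Fin n) F} {v ψ w φ : Fin n → F}
    (h : (pr s : ProjectiveSpecialLinearGroup (Fin n) F) = pr s')
    (hs : (s : Matrix (Fin n) (Fin n) F) = tm v ψ)
    (hs' : (s' : Matrix (Fin n) (Fin n) F) = tm w φ) : tm v ψ = tm w φ := by
  obtain ⟨r, -, hr⟩ := (mk_eq_mk_iff s s').1 h
  rw [hs, hs'] at hr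
  obtain ⟨z, hz0, hz1, hz2⟩ := exists_ker₂ hn ψ φ
  have e1 := congrArg (fun M => M *ᵥ z) hr
  rw [smul_mulVec, tm_mulVec, tm_mulVec, hz1, hz2, zero_smul, add_zero, zero_smul, add_zero] at e1
  have : (r - 1) • z = 0 := by rw [sub_smul, one_smul, ← e1, sub_self]
  rcases smul_eq_zero.1 this with h0 | h0
  · rw [sub_eq_zero.1 h0, one_smul] at hr
    exact hr.symm
  · exact absurd h0 hz0

theorem one_notMem_Tbar (hn : 3 ≤ n) : (1 : ProjectiveSpecialLinearGroup (Fin n) F) ∉ Tbar := by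
  rintro ⟨s, ⟨v, φ, hv, hφ, h, hs⟩, h1⟩
  have h2 : (pr s : ProjectiveSpecialLinearGroup (Fin n) F) = pr 1 := by rw [h1, map_one]
  have h3 := tm_eq_of_mk_eq hn h2 hs (show ((1 : SpecialLinearGroup (Fin n) F) :
    Matrix (Fin n) (Fin n) F) = tm 0 0 by rw [tm_zero_left]; rfl)
  rw [tm_zero_left, tm_eq_one_iff] at h3
  rcases h3 with h3 | h3
  · exact hv h3
  · exact hφ h3

theorem mem_PA {v : Fin n → F} {x : ProjectiveSpecialLinearGroup (Fin n) F} :
    x ∈ PA v ↔ ∃ (ψ : Fin n → F) (h : ψ ⬝ᵥ v = 0), x = pr (tv v ψ h) := by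
  unfold PA
  rw [Subgroup.mem_map]
  constructor
  · rintro ⟨s, ⟨ψ, hψ, hs⟩, rfl⟩
    refine ⟨ψ, hψ, ?_⟩
    congr 1
    exact Subtype.ext hs
  · rintro ⟨ψ, hψ, rfl⟩
    exact ⟨_, ⟨ψ, hψ, rfl⟩, rfl⟩

theorem mem_PH {φ : Fin n → F} {x : ProjectiveSpecialLinearGroup (Fin n) F} :
    x ∈ PH φ ↔ ∃ (w : Fin n → F) (h : φ ⬝ᵥ w = 0), x = pr (tv w φ h) := by
  unfold PH
  rw [Subgroup.mem_map]
  constructor
  · rintro ⟨s, ⟨w, hw, hs⟩, rfl⟩
    refine ⟨w, hw, ?_⟩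
    congr 1
    exact Subtype.ext hs
  · rintro ⟨w, hw, rfl⟩
    exact ⟨_, ⟨w, hw, rfl⟩, rfl⟩

theorem tv_zero_right (v : Fin n → F) : tv v 0 (zero_dotProduct _) = 1 := by
  apply Subtype.ext
  rw [tv_coe, tm_zero_right]; rfl

theorem tv_zero_left (φ : Fin n → F) : tv 0 φ (dotProduct_zero _) = 1 := by
  apply Subtype.ext
  rw [tv_coe, tm_zero_left]; rfl

theorem mem_Tbar_of_mem_PA {v : Fin n → F} (hv : v ≠ 0)
    {x : ProjectiveSpecialLinearGroup (Fin n) F} (hx : x ∈ PA v) (hx1 : x ≠ 1) : x ∈ Tbar := by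
  obtain ⟨ψ, hψ, rfl⟩ := mem_PA.1 hx
  refine ⟨_, ⟨v, ψ, hv, ?_, hψ, rfl⟩, rfl⟩
  rintro rfl
  apply hx1
  rw [tv_zero_right, map_one]

theorem mem_Tbar_of_mem_PH {φ : Fin n → F} (hφ : φ ≠ 0)
    {x : ProjectiveSpecialLinearGroup (Fin n) F} (hx : x ∈ PH φ) (hx1 : x ≠ 1) : x ∈ Tbar := by
  obtain ⟨w, hw, rfl⟩ := mem_PH.1 hx
  refine ⟨_, ⟨w, φ, ?_, hφ, hw, rfl⟩, rfl⟩
  rintro rfl
  apply hx1
  rw [tv_zero_left, map_one]

end

section

open Matrix

variable {n : ℕ} {F : Type*} [Field F]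

/-- a subgroup all of whose nonidentity elements are (images of) transvections -/
def IsTSub (S : Subgroup (ProjectiveSpecialLinearGroup (Fin n) F)) : Prop :=
  ∀ x ∈ S, x ≠ 1 → x ∈ Tbar

theorem isTSub_PA {v : Fin n → F} (hv : v ≠ 0) : IsTSub (PA v) :=
  fun _ hx hx1 => mem_Tbar_of_mem_PA hv hx hx1

theorem isTSub_PH {φ : Fin n → F} (hφ : φ ≠ 0) : IsTSub (PH φ) :=
  fun _ hx hx1 => mem_Tbar_of_mem_PH hφ hx hx1

/-- two transvections in a T-subgroup share their centre or their axis -/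
theorem par_of_isTSub (hn : 3 ≤ n) {S : Subgroup (ProjectiveSpecialLinearGroup (Fin n) F)}
    (hS : IsTSub S) {s t : SpecialLinearGroup (Fin n) F} {v φ w ψ : Fin n → F}
    (hv : v ≠ 0) (hφ : φ ≠ 0) (hw : w ≠ 0) (hψ : ψ ≠ 0)
    (hs : (s : Matrix (Fin n) (Fin n) F) = tm v φ) (ht : (t : Matrix (Fin n) (Fin n) F) = tm w ψ)
    (hsS : pr s ∈ S) (htS : pr t ∈ S) : Par v w ∨ Par φ ψ := by
  have hst : pr (s * t) ∈ S := by rw [map_mul]; exact S.mul_mem hsS htS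
  by_cases h1 : (pr (s * t) : ProjectiveSpecialLinearGroup (Fin n) F) = 1
  · have h2 : (pr (s * t) : ProjectiveSpecialLinearGroup (Fin n) F) = pr 1 := by rw [h1, map_one]
    obtain ⟨r, -, hr⟩ := (mk_eq_mk_iff (s * t) 1).1 h2
    rw [Matrix.SpecialLinearGroup.coe_mul, hs, ht, Matrix.SpecialLinearGroup.coe_one] at hr
    have hr' : tm (0 : Fin n → F) 0 = r • (tm v φ * tm w ψ) := by rw [tm_zero_left]; exact hr
    exact key hn hv hφ hw hψ (dotProduct_zero _) r hr'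
  · obtain ⟨x, ⟨u, χ, hu, hχ, huχ, hx⟩, hx2⟩ := hS _ hst h1
    obtain ⟨r, -, hr⟩ := (mk_eq_mk_iff (s * t) x).1 hx2.symm
    rw [Matrix.SpecialLinearGroup.coe_mul, hs, ht, hx] at hr
    exact key hn hv hφ hw hψ huχ r hr

/-- every T-subgroup is contained in some `PA v` or `PH φ` -/
theorem sub_PA_or_PH (hn : 3 ≤ n) (S : Subgroup (ProjectiveSpecialLinearGroup (Fin n) F))
    (hS : IsTSub S) : (∃ v : Fin n → F, v ≠ 0 ∧ S ≤ PA v) ∨ (∃ φ : Fin n → F, φ ≠ 0 ∧ S ≤ PH φ) := by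
  by_cases htriv : ∀ x ∈ S, x = 1
  · left
    refine ⟨Pi.single ⟨0, by omega⟩ 1, ?_, ?_⟩
    · intro h
      have := congrFun h ⟨0, by omega⟩
      simp at this
    · intro x hx
      rw [htriv x hx]
      exact Subgroup.one_mem _
  push Not at htriv
  obtain ⟨a, haS, ha1⟩ := htriv
  obtain ⟨s, ⟨v, φ, hv, hφ, hvφ, hs⟩, rfl⟩ := hS a haS ha1
  by_cases hall : ∀ (t : SpecialLinearGroup (Fin n) F) (w ψ : Fin n → F), w ≠ 0 → ψ ≠ 0 →
      ψ ⬝ᵥ w = 0 → (t : Matrix (Fin n) (Fin n) F) = tm w ψ → pr t ∈ S → Par v w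
  · left
    refine ⟨v, hv, ?_⟩
    intro b hb
    by_cases hb1 : b = 1
    · rw [hb1]; exact Subgroup.one_mem _
    obtain ⟨t, ⟨w, ψ, hw, hψ, hwψ, ht⟩, rfl⟩ := hS b hb hb1
    have hp := hall t w ψ hw hψ hwψ ht hb
    rw [PA_eq_of_par hp]
    exact Subgroup.mem_map_of_mem _ ⟨ψ, hwψ, ht⟩
  · push Not at hall
    obtain ⟨t₀, w₀, ψ₀, hw₀, hψ₀, hwψ₀, ht₀, ht₀S, hnp⟩ := hall
    have hφψ₀ : Par φ ψ₀ := by
      rcases par_of_isTSub hn hS hv hφ hw₀ hψ₀ hs ht₀ haS ht₀S with h | h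
      · exact absurd h hnp
      · exact h
    right
    refine ⟨φ, hφ, ?_⟩
    intro b hb
    by_cases hb1 : b = 1
    · rw [hb1]; exact Subgroup.one_mem _
    obtain ⟨t, ⟨w, ψ, hw, hψ, hwψ, ht⟩, rfl⟩ := hS b hb hb1
    have hp : Par φ ψ := by
      rcases par_of_isTSub hn hS hv hφ hw hψ hs ht haS hb with h | h
      · rcases par_of_isTSub hn hS hw hψ hw₀ hψ₀ ht ht₀ hb ht₀S with h' | h'
        · exact absurd (h.trans h') hnp
        · exact hφψ₀.trans h'.symm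
      · exact h
    rw [PH_eq_of_par hp]
    exact Subgroup.mem_map_of_mem _ ⟨w, hwψ, ht⟩

/-- a nonzero functional killing `v` -/
theorem exists_perp (hn : 2 ≤ n) (v : Fin n → F) : ∃ ψ : Fin n → F, ψ ≠ 0 ∧ ψ ⬝ᵥ v = 0 := by
  obtain ⟨z, hz, h⟩ := exists_ker₁ hn v
  exact ⟨z, hz, by rw [dotProduct_comm]; exact h⟩

theorem pr_tv_ne_one (hn : 3 ≤ n) {v ψ : Fin n → F} (hv : v ≠ 0) (hψ : ψ ≠ 0) (h : ψ ⬝ᵥ v = 0) :
    (pr (tv v ψ h) : ProjectiveSpecialLinearGroup (Fin n) F) ≠ 1 := by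
  intro h1
  apply one_notMem_Tbar (F := F) hn
  rw [← h1]
  exact ⟨_, ⟨v, ψ, hv, hψ, h, rfl⟩, rfl⟩

theorem par_of_PA_le_PA (hn : 3 ≤ n) {v v' : Fin n → F} (hv : v ≠ 0) (hv' : v' ≠ 0)
    (h : PA v ≤ PA v') : Par v v' := by
  obtain ⟨ψ, hψ0, hψ⟩ := exists_perp (by omega) v
  have h1 : pr (tv v ψ hψ) ∈ PA v' := h (mem_PA.2 ⟨ψ, hψ, rfl⟩)
  obtain ⟨ψ', hψ', h2⟩ := mem_PA.1 h1
  have h3 := tm_eq_of_mk_eq hn h2 (tv_coe _ _ _) (tv_coe _ _ _)
  rw [tm_eq_tm_iff] at h3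
  obtain ⟨c, hc, h4, -⟩ := vecMulVec_eq_vecMulVec h3 hv hψ0
  exact ⟨c, hc, h4⟩

theorem par_of_PH_le_PH (hn : 3 ≤ n) {φ φ' : Fin n → F} (hφ : φ ≠ 0) (hφ' : φ' ≠ 0)
    (h : PH φ ≤ PH φ') : Par φ φ' := by
  obtain ⟨w, hw0, hw⟩ := exists_ker₁ (by omega) φ
  have h1 : pr (tv w φ hw) ∈ PH φ' := h (mem_PH.2 ⟨w, hw, rfl⟩)
  obtain ⟨w', hw', h2⟩ := mem_PH.1 h1
  have h3 := tm_eq_of_mk_eq hn h2 (tv_coe _ _ _) (tv_coe _ _ _)
  rw [tm_eq_tm_iff] at h3
  obtain ⟨c, hc, -, h4⟩ := vecMulVec_eq_vecMulVec h3 hw0 hφ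
  exact ⟨c⁻¹, inv_ne_zero hc, by rw [h4, smul_smul, inv_mul_cancel₀ hc, one_smul]⟩

/-- two non-proportional functionals killing `v` -/
theorem exists_two_perp (hn : 3 ≤ n) (v : Fin n → F) :
    ∃ ψ₁ ψ₂ : Fin n → F, ψ₁ ≠ 0 ∧ ψ₂ ≠ 0 ∧ ψ₁ ⬝ᵥ v = 0 ∧ ψ₂ ⬝ᵥ v = 0 ∧ ¬ Par ψ₁ ψ₂ := by
  obtain ⟨ψ₁, h10, h1⟩ := exists_perp (by omega) v
  obtain ⟨k, hk⟩ := Function.ne_iff.1 h10
  simp only [Pi.zero_apply] at hk
  obtain ⟨ψ₂, h20, h2, h2'⟩ := exists_ker₂ hn v (Pi.single k 1)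
  refine ⟨ψ₁, ψ₂, h10, h20, h1, by rw [dotProduct_comm]; exact h2, ?_⟩
  rintro ⟨c, hc, h⟩
  have : ψ₂ k = 0 := by simpa using h2'
  rw [h, Pi.smul_apply, smul_eq_mul] at this
  rcases mul_eq_zero.1 this with h0 | h0
  · exact hc h0
  · exact hk h0

theorem not_PA_le_PH (hn : 3 ≤ n) {v φ : Fin n → F} (hv : v ≠ 0) (hφ : φ ≠ 0) :
    ¬ PA v ≤ PH φ := by
  intro h
  obtain ⟨ψ₁, ψ₂, h10, h20, h1, h2, hnp⟩ := exists_two_perp hn v
  have key : ∀ ψ : Fin n → F, ψ ≠ 0 → ψ ⬝ᵥ v = 0 → Par φ ψ := by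
    intro ψ hψ0 hψ
    have h1 : pr (tv v ψ hψ) ∈ PH φ := h (mem_PA.2 ⟨ψ, hψ, rfl⟩)
    obtain ⟨w', hw', h2⟩ := mem_PH.1 h1
    have h3 := tm_eq_of_mk_eq hn h2 (tv_coe _ _ _) (tv_coe _ _ _)
    rw [tm_eq_tm_iff] at h3
    obtain ⟨c, hc, -, h4⟩ := vecMulVec_eq_vecMulVec h3 hv hψ0
    exact ⟨c, hc, h4⟩
  exact hnp ((key ψ₁ h10 h1).symm.trans (key ψ₂ h20 h2))

theorem not_PH_le_PA (hn : 3 ≤ n) {v φ : Fin n → F} (hv : v ≠ 0) (hφ : φ ≠ 0) :
    ¬ PH φ ≤ PA v := by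
  intro h
  obtain ⟨w₁, w₂, h10, h20, h1, h2, hnp⟩ := exists_two_perp hn φ
  rw [dotProduct_comm] at h1 h2
  have key : ∀ w : Fin n → F, w ≠ 0 → φ ⬝ᵥ w = 0 → Par v w := by
    intro w hw0 hw
    have h1 : pr (tv w φ hw) ∈ PA v := h (mem_PH.2 ⟨w, hw, rfl⟩)
    obtain ⟨ψ', hψ', h2⟩ := mem_PA.1 h1
    have h3 := tm_eq_of_mk_eq hn h2 (tv_coe _ _ _) (tv_coe _ _ _)
    rw [tm_eq_tm_iff] at h3
    obtain ⟨c, hc, h4, -⟩ := vecMulVec_eq_vecMulVec h3 hw0 hφ
    exact ⟨c⁻¹, inv_ne_zero hc, by rw [h4, smul_smul, inv_mul_cancel₀ hc, one_smul]⟩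
  exact hnp ((key w₁ h10 h1).symm.trans (key w₂ h20 h2))

/-- `PA v` is a maximal T-subgroup -/
theorem PA_maximal (hn : 3 ≤ n) {v : Fin n → F} (hv : v ≠ 0)
    {S : Subgroup (ProjectiveSpecialLinearGroup (Fin n) F)} (hS : IsTSub S) (h : PA v ≤ S) :
    S = PA v := by
  apply le_antisymm _ h
  rcases sub_PA_or_PH hn S hS with ⟨v', hv', h'⟩ | ⟨φ', hφ', h'⟩
  · rw [PA_eq_of_par (par_of_PA_le_PA hn hv hv' (h.trans h'))]
    exact h'
  · exact absurd (h.trans h') (not_PA_le_PH hn hv hφ')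

theorem PH_maximal (hn : 3 ≤ n) {φ : Fin n → F} (hφ : φ ≠ 0)
    {S : Subgroup (ProjectiveSpecialLinearGroup (Fin n) F)} (hS : IsTSub S) (h : PH φ ≤ S) :
    S = PH φ := by
  apply le_antisymm _ h
  rcases sub_PA_or_PH hn S hS with ⟨v', hv', h'⟩ | ⟨φ', hφ', h'⟩
  · exact absurd (h.trans h') (not_PH_le_PA hn hv' hφ)
  · rw [PH_eq_of_par (par_of_PH_le_PH hn hφ hφ' (h.trans h'))]
    exact h'

/-- intersections -/
theorem PA_inf_PA (hn : 3 ≤ n) {v v' : Fin n → F} (hv : v ≠ 0) (h : ¬ Par v v') :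
    PA v ⊓ PA v' = ⊥ := by
  rw [eq_bot_iff]
  rintro x ⟨hx, hx'⟩
  obtain ⟨ψ, hψ, rfl⟩ := mem_PA.1 hx
  obtain ⟨ψ', hψ', h2⟩ := mem_PA.1 hx'
  have h3 := tm_eq_of_mk_eq hn h2 (tv_coe _ _ _) (tv_coe _ _ _)
  rw [tm_eq_tm_iff] at h3
  by_cases hψ0 : ψ = 0
  · subst hψ0
    rw [Subgroup.mem_bot, tv_zero_right, map_one]
  · obtain ⟨c, hc, h4, -⟩ := vecMulVec_eq_vecMulVec h3 hv hψ0
    exact absurd ⟨c, hc, h4⟩ h

theorem PH_inf_PH (hn : 3 ≤ n) {φ φ' : Fin n → F} (hφ : φ ≠ 0) (h : ¬ Par φ φ') :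
    PH φ ⊓ PH φ' = ⊥ := by
  rw [eq_bot_iff]
  rintro x ⟨hx, hx'⟩
  obtain ⟨w, hw, rfl⟩ := mem_PH.1 hx
  obtain ⟨w', hw', h2⟩ := mem_PH.1 hx'
  have h3 := tm_eq_of_mk_eq hn h2 (tv_coe _ _ _) (tv_coe _ _ _)
  rw [tm_eq_tm_iff] at h3
  by_cases hw0 : w = 0
  · subst hw0
    rw [Subgroup.mem_bot, tv_zero_left, map_one]
  · obtain ⟨c, hc, -, h4⟩ := vecMulVec_eq_vecMulVec h3 hw0 hφ
    exact absurd ⟨c⁻¹, inv_ne_zero hc, by rw [h4, smul_smul, inv_mul_cancel₀ hc, one_smul]⟩ h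

theorem mem_PA_inf_PH (hn : 3 ≤ n) {v φ : Fin n → F} (hv : v ≠ 0) (hφ : φ ≠ 0)
    {x : ProjectiveSpecialLinearGroup (Fin n) F} (hx : x ∈ PA v ⊓ PH φ) (hx1 : x ≠ 1) :
    φ ⬝ᵥ v = 0 ∧ ∃ (c : F) (h : φ ⬝ᵥ (c • v) = 0), x = pr (tv (c • v) φ h) := by
  obtain ⟨hx, hx'⟩ := hx
  obtain ⟨ψ, hψ, rfl⟩ := mem_PA.1 hx
  obtain ⟨w, hw, h2⟩ := mem_PH.1 hx'
  have h3 := tm_eq_of_mk_eq hn h2 (tv_coe _ _ _) (tv_coe _ _ _)
  have h3' := h3
  rw [tm_eq_tm_iff] at h3
  have hψ0 : ψ ≠ 0 := by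
    rintro rfl
    apply hx1
    rw [tv_zero_right, map_one]
  obtain ⟨c, hc, h4, h5⟩ := vecMulVec_eq_vecMulVec h3 hv hψ0
  have h6 : φ ⬝ᵥ v = 0 := by
    have : ψ ⬝ᵥ v = c * (φ ⬝ᵥ v) := by rw [h5, smul_dotProduct, smul_eq_mul]
    rw [hψ] at this
    rcases mul_eq_zero.1 this.symm with h0 | h0
    · exact absurd h0 hc
    · exact h0
  refine ⟨h6, c, by rw [dotProduct_smul, h6, smul_zero], ?_⟩
  congr 1
  apply Subtype.ext
  rw [tv_coe, tv_coe, h3', h4]

theorem PA_inf_PH_eq_bot (hn : 3 ≤ n) {v φ : Fin n → F} (hv : v ≠ 0) (hφ : φ ≠ 0)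
    (h : φ ⬝ᵥ v ≠ 0) : PA v ⊓ PH φ = ⊥ := by
  rw [eq_bot_iff]
  intro x hx
  by_contra hx1
  exact h (mem_PA_inf_PH hn hv hφ hx hx1).1

theorem PA_inf_PH_ne_bot (hn : 3 ≤ n) {v φ : Fin n → F} (hv : v ≠ 0) (hφ : φ ≠ 0)
    (h : φ ⬝ᵥ v = 0) : PA v ⊓ PH φ ≠ ⊥ := by
  intro hbot
  have h1 : pr (tv v φ h) ∈ PA v ⊓ PH φ :=
    ⟨mem_PA.2 ⟨φ, h, rfl⟩, mem_PH.2 ⟨v, h, rfl⟩⟩
  rw [hbot, Subgroup.mem_bot] at h1
  exact pr_tv_ne_one hn hv hφ h h1

theorem PA_ne_PH (hn : 3 ≤ n) {v φ : Fin n → F} (hv : v ≠ 0) (hφ : φ ≠ 0) : PA v ≠ PH φ :=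
  fun h => not_PA_le_PH hn hv hφ h.le

end

end Cfsg.Agent.Lib.H13.AutPSL
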