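import Mathlib
import Cfsg.Agent.Lib.H13.AutPSLBasic
import Cfsg.Agent.S0263

/-!
Automorphisms of `PSL_n(F)`, `F` finite: the unitriangular group is a Sylow `p`-subgroup, the centre of a Sylow
`p`-subgroup consists of transvections, hence every automorphism preserves the set of transvections (`presT`).
-/

set_option autoImplicit false
set_option linter.unusedSectionVars false
set_option linter.unusedVariables false
set_option linter.unusedSimpArgs false

namespace Cfsg.Agent.Lib.H13.AutPSL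

section

open Matrix

variable {n : ℕ} {F : Type*} [Field F]

/-- unitriangular matrices -/
def IsUT (M : Matrix (Fin n) (Fin n) F) : Prop :=
  (∀ i j, j < i → M i j = 0) ∧ ∀ i, M i i = 1

theorem isUT_one : IsUT (1 : Matrix (Fin n) (Fin n) F) :=
  ⟨fun i j h => Matrix.one_apply_ne (ne_of_gt h), fun i => Matrix.one_apply_eq i⟩

theorem IsUT.mul {M N : Matrix (Fin n) (Fin n) F} (hM : IsUT M) (hN : IsUT N) : IsUT (M * N) := by
  constructor
  · intro i j hji
    rw [Matrix.mul_apply]
    apply Finset.sum_eq_zero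
    intro k _
    by_cases hk : k < i
    · rw [hM.1 i k hk, zero_mul]
    · have : j < k := lt_of_lt_of_le hji (not_lt.1 hk)
      rw [hN.1 k j this, mul_zero]
  · intro i
    rw [Matrix.mul_apply, Finset.sum_eq_single i]
    · rw [hM.2, hN.2, one_mul]
    · intro k _ hk
      rcases lt_or_gt_of_ne hk with h | h
      · rw [hM.1 i k h, zero_mul]
      · rw [hN.1 k i h, mul_zero]
    · intro h; exact absurd (Finset.mem_univ i) h

theorem IsUT.pow {M : Matrix (Fin n) (Fin n) F} (hM : IsUT M) (k : ℕ) : IsUT (M ^ k) := by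
  induction k with
  | zero => rw [pow_zero]; exact isUT_one
  | succ k ih => rw [pow_succ]; exact ih.mul hM

variable [Fintype F]

/-- the group of unitriangular matrices -/
def UT : Subgroup (SpecialLinearGroup (Fin n) F) where
  carrier := {s | IsUT (s : Matrix (Fin n) (Fin n) F)}
  mul_mem' := by
    intro s t hs ht
    show IsUT ((s * t : SpecialLinearGroup (Fin n) F) : Matrix (Fin n) (Fin n) F)
    rw [Matrix.SpecialLinearGroup.coe_mul]
    exact IsUT.mul hs ht
  one_mem' := isUT_one
  inv_mem' := by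
    intro s hs
    have h1 : s⁻¹ = s ^ (orderOf s - 1) := by
      apply inv_eq_of_mul_eq_one_right
      rw [← pow_succ', Nat.sub_add_cancel (orderOf_pos s), pow_orderOf_eq_one]
    show IsUT ((s⁻¹ : SpecialLinearGroup (Fin n) F) : Matrix (Fin n) (Fin n) F)
    rw [h1, Matrix.SpecialLinearGroup.coe_pow]
    exact IsUT.pow hs _

theorem mem_UT {s : SpecialLinearGroup (Fin n) F} :
    s ∈ UT ↔ IsUT (s : Matrix (Fin n) (Fin n) F) := Iff.rfl

/-- the matrix with prescribed entries above the diagonal -/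
def utMat (c : {p : Fin n × Fin n // p.1 < p.2} → F) : Matrix (Fin n) (Fin n) F :=
  Matrix.of fun i j => if i = j then 1 else if h : i < j then c ⟨(i, j), h⟩ else 0

theorem isUT_utMat (c : {p : Fin n × Fin n // p.1 < p.2} → F) : IsUT (utMat c) := by
  constructor
  · intro i j hji
    simp only [utMat, Matrix.of_apply]
    rw [if_neg (ne_of_gt hji), dif_neg (not_lt.2 hji.le)]
  · intro i
    simp [utMat]

theorem det_of_isUT {M : Matrix (Fin n) (Fin n) F} (hM : IsUT M) : M.det = 1 := by
  rw [Matrix.det_of_isUpperTriangular]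
  · simp [hM.2]
  · intro i j hji
    exact hM.1 i j hji

/-- `UT` is in bijection with functions on pairs `i < j` -/
def utEquiv : (UT : Subgroup (SpecialLinearGroup (Fin n) F)) ≃
    ({p : Fin n × Fin n // p.1 < p.2} → F) where
  toFun s := fun p => (s.1 : Matrix (Fin n) (Fin n) F) p.1.1 p.1.2
  invFun c := ⟨⟨utMat c, det_of_isUT (isUT_utMat c)⟩, isUT_utMat c⟩
  left_inv := by
    rintro ⟨s, hs⟩
    apply Subtype.ext
    apply Subtype.ext
    ext i j
    change utMat (fun p : {p : Fin n × Fin n // p.1 < p.2} => s.1 p.1.1 p.1.2) i j = s.1 i j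
    simp only [utMat, Matrix.of_apply]
    by_cases hij : i = j
    · subst hij
      rw [if_pos rfl]
      exact (hs.2 i).symm
    · rw [if_neg hij]
      by_cases h : i < j
      · rw [dif_pos h]
      · rw [dif_neg h]
        exact (hs.1 i j (lt_of_le_of_ne (not_lt.1 h) (Ne.symm hij))).symm
  right_inv := by
    intro c
    funext p
    obtain ⟨⟨i, j⟩, h⟩ := p
    show utMat c i j = _
    simp only [utMat, Matrix.of_apply]
    rw [if_neg (ne_of_lt h), dif_pos h]

theorem card_pairs (n : ℕ) : Fintype.card {p : Fin n × Fin n // p.1 < p.2} = n * (n - 1) / 2 := by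
  have h1 : Fintype.card {p : Fin n × Fin n // p.1 < p.2} =
      Fintype.card {p : Fin n × Fin n // p.2 < p.1} := by
    apply Fintype.card_congr
    exact { toFun := fun p => ⟨(p.1.2, p.1.1), p.2⟩
            invFun := fun p => ⟨(p.1.2, p.1.1), p.2⟩
            left_inv := fun p => rfl
            right_inv := fun p => rfl }
  have h2 : Fintype.card {p : Fin n × Fin n // p.1 = p.2} = n := by
    have : Fintype.card {p : Fin n × Fin n // p.1 = p.2} = Fintype.card (Fin n) := by
      apply Fintype.card_congr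
      exact { toFun := fun p => p.1.1
              invFun := fun i => ⟨(i, i), rfl⟩
              left_inv := by
                rintro ⟨⟨i, j⟩, h⟩
                simp only at h
                subst h
                rfl
              right_inv := fun i => rfl }
    rw [this, Fintype.card_fin]
  have h3 : Fintype.card (Fin n × Fin n) = Fintype.card {p : Fin n × Fin n // p.1 < p.2} +
      Fintype.card {p : Fin n × Fin n // p.2 < p.1} +
      Fintype.card {p : Fin n × Fin n // p.1 = p.2} := by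
    rw [Fintype.card_subtype, Fintype.card_subtype, Fintype.card_subtype, ← Finset.card_univ,
      ← Finset.card_union_of_disjoint, ← Finset.card_union_of_disjoint]
    · congr 1
      ext p
      simp only [Finset.mem_univ, Finset.mem_union, Finset.mem_filter, true_and, true_iff]
      rcases lt_trichotomy p.1 p.2 with h | h | h
      · left; left; exact h
      · right; exact h
      · left; right; exact h
    · rw [Finset.disjoint_left]
      intro p hp hp'
      simp only [Finset.mem_union, Finset.mem_filter, Finset.mem_univ, true_and] at hp hp'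
      rcases hp with h | h
      · exact absurd hp' (ne_of_lt h)
      · exact absurd hp' (ne_of_gt h)
    · rw [Finset.disjoint_left]
      intro p hp hp'
      simp only [Finset.mem_filter, Finset.mem_univ, true_and] at hp hp'
      exact absurd hp' (not_lt.2 hp.le)
  rw [Fintype.card_prod, Fintype.card_fin, ← h1, h2] at h3
  have h4 : n * n = n * (n - 1) + n := by
    cases n with
    | zero => rfl
    | succ k => simp; ring
  have h5 : 2 * Fintype.card {p : Fin n × Fin n // p.1 < p.2} = n * (n - 1) := by omega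
  omega

theorem card_UT : Nat.card (UT : Subgroup (SpecialLinearGroup (Fin n) F)) =
    Fintype.card F ^ (n * (n - 1) / 2) := by
  rw [Nat.card_congr utEquiv, Nat.card_eq_fintype_card, Fintype.card_fun, card_pairs]

end

section

open Matrix

variable {n : ℕ} {F : Type*} [Field F] [Fintype F] {p : ℕ} [Fact p.Prime] [CharP F p]

theorem not_dvd_prod (q : ℕ) (hq0 : 0 < q) (hpq : p ∣ q) (n : ℕ) :
    ¬ p ∣ ∏ i ∈ Finset.range n, (q ^ (n - i) - 1) := by
  intro h
  have hp : p.Prime := Fact.out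
  obtain ⟨i, hi, hd⟩ := (Prime.dvd_finsetProd_iff hp.prime _).1 h
  rw [Finset.mem_range] at hi
  have hni : n - i ≠ 0 := by omega
  have h1 : p ∣ q ^ (n - i) := dvd_pow hpq hni
  have h2 : 1 ≤ q ^ (n - i) := Nat.one_le_pow _ _ hq0
  have h3 : p ∣ q ^ (n - i) - (q ^ (n - i) - 1) := Nat.dvd_sub h1 hd
  have h4 : q ^ (n - i) - (q ^ (n - i) - 1) = 1 := by omega
  rw [h4] at h3
  exact hp.one_lt.ne' (Nat.dvd_one.1 h3)

omit [Fintype F] in
theorem p_dvd_card [Fintype F] : p ∣ Fintype.card F := by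
  obtain ⟨k, -, hk⟩ := FiniteField.card F p
  rw [hk]
  exact dvd_pow_self p k.ne_zero

theorem not_dvd_index_UT : ¬ p ∣ (UT : Subgroup (SpecialLinearGroup (Fin n) F)).index := by
  intro h
  have h1 : Nat.card (SpecialLinearGroup (Fin n) F) ∣ Nat.card (GL (Fin n) F) :=
    Subgroup.card_dvd_of_injective _ Matrix.SpecialLinearGroup.toGL_injective
  rw [Cfsg.Agent.S0263.card_GL_factor, ← Subgroup.card_mul_index (UT : Subgroup (SpecialLinearGroup (Fin n) F)),
    card_UT] at h1
  have hq : 0 < Fintype.card F ^ (n * (n - 1) / 2) := pow_pos Fintype.card_pos _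
  have h2 := Nat.dvd_of_mul_dvd_mul_left hq h1
  exact not_dvd_prod (p := p) (Fintype.card F) Fintype.card_pos p_dvd_card n (h.trans h2)

theorem isPGroup_UT : IsPGroup p (UT : Subgroup (SpecialLinearGroup (Fin n) F)) := by
  obtain ⟨k, -, hk⟩ := FiniteField.card F p
  apply IsPGroup.of_card (n := (k : ℕ) * (n * (n - 1) / 2))
  rw [card_UT, hk, pow_mul]

/-- image of `UT` in `PSL` -/
def UTbar : Subgroup (ProjectiveSpecialLinearGroup (Fin n) F) := UT.map pr

theorem pr_surjective : Function.Surjective (pr : SpecialLinearGroup (Fin n) F →* _) :=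
  QuotientGroup.mk'_surjective _

/-- the standard Sylow `p`-subgroup of `PSL` -/
noncomputable def sylU (p : ℕ) [Fact p.Prime] [CharP F p] :
    Sylow p (ProjectiveSpecialLinearGroup (Fin n) F) :=
  (isPGroup_UT.map pr : IsPGroup p (UTbar : Subgroup (ProjectiveSpecialLinearGroup (Fin n) F))).toSylow
    (fun h => not_dvd_index_UT (p := p) (n := n) (F := F)
      (h.trans (Subgroup.index_map_dvd _ pr_surjective)))

theorem coe_sylU : ((sylU p : Sylow p (ProjectiveSpecialLinearGroup (Fin n) F)) :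
    Subgroup (ProjectiveSpecialLinearGroup (Fin n) F)) = UTbar := by
  unfold sylU
  rw [IsPGroup.toSylow_coe]
  rfl

/-- elements central in some Sylow `p`-subgroup -/
def ZS (p : ℕ) (G : Type*) [Group G] : Set G :=
  {x | ∃ P : Sylow p G, x ∈ P ∧ ∀ u ∈ P, u * x = x * u}

omit [Fintype F] [CharP F p] in
theorem ZS_map {G : Type*} [Group G] [Finite G] (θ : G ≃* G) {x : G} (hx : x ∈ ZS p G) :
    θ x ∈ ZS p G := by
  obtain ⟨P, hxP, hc⟩ := hx
  have hsurj : Function.Surjective θ.toMonoidHom := θ.surjective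
  have hcoe : ((P.mapSurjective hsurj : Sylow p G) : Subgroup G) =
      (P : Subgroup G).map θ.toMonoidHom := Sylow.coe_mapSurjective hsurj P
  refine ⟨P.mapSurjective hsurj, ?_, ?_⟩
  · change θ x ∈ ((P.mapSurjective hsurj : Sylow p G) : Subgroup G)
    rw [hcoe]
    exact Subgroup.mem_map_of_mem _ hxP
  · intro u hu
    change u ∈ ((P.mapSurjective hsurj : Sylow p G) : Subgroup G) at hu
    rw [hcoe] at hu
    obtain ⟨y, hy, rfl⟩ := Subgroup.mem_map.1 hu
    have := hc y hy
    show θ y * θ x = θ x * θ y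
    rw [← map_mul, ← map_mul, this]

omit [Fintype F] [CharP F p] in
theorem ZS_map_iff {G : Type*} [Group G] [Finite G] (θ : G ≃* G) {x : G} :
    θ x ∈ ZS p G ↔ x ∈ ZS p G := by
  constructor
  · intro h
    have := ZS_map θ.symm h
    simpa using this
  · exact ZS_map θ

/-- every Sylow subgroup is conjugate to the standard one -/
theorem exists_conj_sylU (P : Sylow p (ProjectiveSpecialLinearGroup (Fin n) F)) :
    ∃ g : ProjectiveSpecialLinearGroup (Fin n) F,
      ∀ x, x ∈ P ↔ g⁻¹ * x * g ∈ (UTbar : Subgroup (ProjectiveSpecialLinearGroup (Fin n) F)) := by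
  obtain ⟨g, hg⟩ := MulAction.exists_smul_eq (ProjectiveSpecialLinearGroup (Fin n) F) (sylU p) P
  refine ⟨g, fun x => ?_⟩
  rw [← hg, ← coe_sylU (p := p)]
  change x ∈ Sylow.toSubgroup (g • sylU p) ↔ _
  rw [Sylow.coe_subgroup_smul,
    Subgroup.mem_pointwise_smul_iff_inv_smul_mem, ← map_inv, MulAut.smul_def, MulAut.conj_apply,
    inv_inv]

end

section

open Matrix

variable {n : ℕ} {F : Type*} [Field F]

/-- first and last index -/
def i0 (hn : 2 ≤ n) : Fin n := ⟨0, by omega⟩
def il (hn : 2 ≤ n) : Fin n := ⟨n - 1, by omega⟩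

theorem i0_ne_il (hn : 2 ≤ n) : i0 hn ≠ il hn := by
  intro h
  have := congrArg Fin.val h
  simp only [i0, il] at this
  omega

theorem IsUT.mulVec_single_zero (hn : 2 ≤ n) {M : Matrix (Fin n) (Fin n) F} (hM : IsUT M) :
    M *ᵥ Pi.single (i0 hn) 1 = Pi.single (i0 hn) 1 := by
  funext i
  rw [Matrix.mulVec_single_one, Matrix.col_apply, Pi.single_apply]
  by_cases hi : i = i0 hn
  · rw [if_pos hi, hi, hM.2]
  · rw [if_neg hi]
    apply hM.1
    rw [Fin.lt_def]
    have : (i : ℕ) ≠ 0 := fun h => hi (Fin.ext h)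
    show 0 < (i : ℕ)
    omega

theorem IsUT.single_vecMul_last (hn : 2 ≤ n) {M : Matrix (Fin n) (Fin n) F} (hM : IsUT M) :
    Pi.single (il hn) 1 ᵥ* M = Pi.single (il hn) 1 := by
  funext j
  rw [Matrix.single_one_vecMul, Matrix.row_apply, Pi.single_apply]
  by_cases hj : j = il hn
  · rw [if_pos hj, hj, hM.2]
  · rw [if_neg hj]
    apply hM.1
    rw [Fin.lt_def]
    have : (j : ℕ) ≠ n - 1 := fun h => hj (Fin.ext h)
    show (j : ℕ) < n - 1
    have := j.2
    omega

/-- `E_{0,last}(c)` commutes with all unitriangular matrices -/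
theorem tm_comm_of_isUT (hn : 2 ≤ n) {M : Matrix (Fin n) (Fin n) F} (hM : IsUT M) (c : F) :
    M * tm (Pi.single (i0 hn) 1) (c • Pi.single (il hn) 1) =
      tm (Pi.single (i0 hn) 1) (c • Pi.single (il hn) 1) * M := by
  unfold tm
  rw [mul_add, add_mul, Matrix.mul_one, Matrix.one_mul, mul_vecMulVec, vecMulVec_mul,
    hM.mulVec_single_zero hn, smul_vecMul, hM.single_vecMul_last hn]

/-- a unitriangular matrix commuting with all `E_{ij}(1)`, `i < j`, is some `E_{0,last}(c)` -/
theorem eq_tm_of_comm (hn : 2 ≤ n) {M : Matrix (Fin n) (Fin n) F} (hM : IsUT M)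
    (h : ∀ i j : Fin n, i < j → M * tm (Pi.single i 1) (Pi.single j 1) =
      tm (Pi.single i 1) (Pi.single j 1) * M) :
    M = tm (Pi.single (i0 hn) 1) (M (i0 hn) (il hn) • Pi.single (il hn) 1) := by
  have h' : ∀ i j : Fin n, i < j → ∀ k l : Fin n,
      M k i * (if l = j then 1 else 0) = (if k = i then 1 else 0) * M j l := by
    intro i j hij k l
    have := h i j hij
    unfold tm at this
    rw [mul_add, add_mul, Matrix.mul_one, Matrix.one_mul, mul_vecMulVec, vecMulVec_mul,
      add_right_inj] at this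
    have h2 := congrFun (congrFun this k) l
    rw [vecMulVec_apply, vecMulVec_apply, Matrix.mulVec_single_one, Matrix.single_one_vecMul,
      Matrix.col_apply, Matrix.row_apply, Pi.single_apply, Pi.single_apply] at h2
    exact h2
  -- columns other than the last
  have ha : ∀ i : Fin n, i ≠ il hn → ∀ k, M k i = if k = i then 1 else 0 := by
    intro i hi k
    have hlt : i < il hn := by
      rw [Fin.lt_def]
      have : (i : ℕ) ≠ n - 1 := fun h => hi (Fin.ext h)
      show (i : ℕ) < n - 1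
      have := i.2
      omega
    have := h' i (il hn) hlt k (il hn)
    rw [if_pos rfl, mul_one, hM.2, mul_one] at this
    exact this
  -- rows other than the first
  have hb : ∀ j : Fin n, j ≠ i0 hn → ∀ l, M j l = if l = j then 1 else 0 := by
    intro j hj l
    have hlt : i0 hn < j := by
      rw [Fin.lt_def]
      have : (j : ℕ) ≠ 0 := fun h => hj (Fin.ext h)
      show 0 < (j : ℕ)
      omega
    have := h' (i0 hn) j hlt (i0 hn) l
    rw [if_pos rfl, one_mul, hM.2, one_mul] at this
    exact this.symm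
  ext k l
  unfold tm
  rw [Matrix.add_apply, vecMulVec_apply, Pi.single_apply, Pi.smul_apply, Pi.single_apply,
    smul_eq_mul]
  by_cases hk : k = i0 hn
  · subst hk
    by_cases hl : l = il hn
    · subst hl
      rw [if_pos rfl, if_pos rfl, Matrix.one_apply_ne (i0_ne_il hn)]
      ring
    · rw [if_neg hl, ha l hl, Matrix.one_apply]
      simp
  · rw [if_neg hk, hb k hk, Matrix.one_apply]
    simp [eq_comm]

/-- `Tbar` is closed under conjugation -/
theorem Tbar_conj {x : ProjectiveSpecialLinearGroup (Fin n) F} (hx : x ∈ Tbar)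
    (g : ProjectiveSpecialLinearGroup (Fin n) F) : g * x * g⁻¹ ∈ Tbar := by
  obtain ⟨s, ⟨v, φ, hv, hφ, hvφ, hs⟩, rfl⟩ := hx
  obtain ⟨t, rfl⟩ := QuotientGroup.mk'_surjective _ g
  have hinv1 : (t : Matrix (Fin n) (Fin n) F) * ((t⁻¹ : SpecialLinearGroup (Fin n) F) : Matrix (Fin n) (Fin n) F) = 1 := by
    rw [← Matrix.SpecialLinearGroup.coe_mul, mul_inv_cancel, Matrix.SpecialLinearGroup.coe_one]
  have hinv2 : ((t⁻¹ : SpecialLinearGroup (Fin n) F) : Matrix (Fin n) (Fin n) F) * (t : Matrix (Fin n) (Fin n) F) = 1 := by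
    rw [← Matrix.SpecialLinearGroup.coe_mul, inv_mul_cancel, Matrix.SpecialLinearGroup.coe_one]
  refine ⟨t * s * t⁻¹, ⟨(t : Matrix (Fin n) (Fin n) F) *ᵥ v,
    φ ᵥ* ((t⁻¹ : SpecialLinearGroup (Fin n) F) : Matrix (Fin n) (Fin n) F), ?_, ?_, ?_, ?_⟩, ?_⟩
  · intro h0
    apply hv
    have := congrArg (fun y => ((t⁻¹ : SpecialLinearGroup (Fin n) F) : Matrix (Fin n) (Fin n) F) *ᵥ y) h0
    rw [Matrix.mulVec_mulVec, hinv2, Matrix.one_mulVec, Matrix.mulVec_zero] at this
    exact this
  · intro h0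
    apply hφ
    have := congrArg (fun y => y ᵥ* (t : Matrix (Fin n) (Fin n) F)) h0
    rw [Matrix.vecMul_vecMul, hinv2, Matrix.vecMul_one, Matrix.zero_vecMul] at this
    exact this
  · rw [Matrix.dotProduct_mulVec, Matrix.vecMul_vecMul, hinv2, Matrix.vecMul_one, hvφ]
  · rw [Matrix.SpecialLinearGroup.coe_mul, Matrix.SpecialLinearGroup.coe_mul, hs, conj_tm _ _ hinv1]
  · simp

end

section

open Matrix

variable {n : ℕ} {F : Type*} [Field F]

theorem isUT_tm_single {i j : Fin n} (hij : i < j) (c : F) :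
    IsUT (tm (Pi.single i 1) (c • (Pi.single j 1 : Fin n → F))) := by
  constructor
  · intro k l hlk
    unfold tm
    rw [Matrix.add_apply, Matrix.one_apply_ne (ne_of_gt hlk), vecMulVec_apply, Pi.single_apply,
      Pi.smul_apply, Pi.single_apply, zero_add]
    by_cases hk : k = i
    · by_cases hl : l = j
      · subst hk hl
        exact absurd hlk (not_lt.2 hij.le)
      · simp [hl]
    · simp [hk]
  · intro k
    unfold tm
    rw [Matrix.add_apply, Matrix.one_apply_eq, vecMulVec_apply, Pi.single_apply,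
      Pi.smul_apply, Pi.single_apply]
    by_cases hk : k = i
    · subst hk
      simp [ne_of_lt hij]
    · simp [hk]

theorem single_dot_single {i j : Fin n} (hij : i ≠ j) (c : F) :
    (c • (Pi.single j 1 : Fin n → F)) ⬝ᵥ Pi.single i 1 = 0 := by
  rw [smul_dotProduct, single_dotProduct, Pi.single_apply, if_neg hij.symm, mul_zero, smul_zero]

/-- elementary transvection as an element of `SL` -/
def el (i j : Fin n) (hij : i ≠ j) (c : F) : SpecialLinearGroup (Fin n) F :=
  tv (Pi.single i 1) (c • (Pi.single j 1 : Fin n → F)) (single_dot_single hij c)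

theorem el_coe (i j : Fin n) (hij : i ≠ j) (c : F) :
    ((el i j hij c : SpecialLinearGroup (Fin n) F) : Matrix (Fin n) (Fin n) F) =
      tm (Pi.single i 1) (c • (Pi.single j 1 : Fin n → F)) := rfl

theorem el_zero (i j : Fin n) (hij : i ≠ j) : el i j hij (0 : F) = 1 := by
  apply Subtype.ext
  rw [el_coe, zero_smul, tm_zero_right]; rfl

theorem single_ne_zero' (i : Fin n) : (Pi.single i (1 : F) : Fin n → F) ≠ 0 := by
  intro h
  have := congrFun h i
  simp at this

theorem smul_single_ne_zero {c : F} (hc : c ≠ 0) (i : Fin n) :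
    (c • (Pi.single i 1 : Fin n → F)) ≠ 0 :=
  smul_ne_zero hc (single_ne_zero' i)

section fin
variable [Fintype F] {p : ℕ} [Fact p.Prime] [CharP F p]

theorem el_mem_UT {i j : Fin n} (hij : i < j) (c : F) : el i j (ne_of_lt hij) c ∈ UT :=
  isUT_tm_single hij c

theorem pr_el0l_mem_ZS (hn : 2 ≤ n) (c : F) :
    (pr (el (i0 hn) (il hn) (i0_ne_il hn) c) : ProjectiveSpecialLinearGroup (Fin n) F) ∈
      ZS p (ProjectiveSpecialLinearGroup (Fin n) F) := by
  have hlt : i0 hn < il hn := by
    rw [Fin.lt_def]; show 0 < n - 1; omega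
  refine ⟨sylU p, ?_, ?_⟩
  · change _ ∈ Sylow.toSubgroup (sylU p)
    rw [coe_sylU]
    exact Subgroup.mem_map_of_mem _ (el_mem_UT hlt c)
  · intro u hu
    change u ∈ Sylow.toSubgroup (sylU p) at hu
    rw [coe_sylU] at hu
    obtain ⟨w, hw, rfl⟩ := Subgroup.mem_map.1 hu
    rw [← map_mul, ← map_mul]
    congr 1
    apply Subtype.ext
    rw [Matrix.SpecialLinearGroup.coe_mul, Matrix.SpecialLinearGroup.coe_mul, el_coe]
    exact tm_comm_of_isUT hn hw c

theorem mem_Tbar_of_mem_ZS (hn : 3 ≤ n) {x : ProjectiveSpecialLinearGroup (Fin n) F}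
    (hx : x ∈ ZS p (ProjectiveSpecialLinearGroup (Fin n) F)) (hx1 : x ≠ 1) : x ∈ Tbar := by
  have hn2 : 2 ≤ n := by omega
  obtain ⟨P, hxP, hc⟩ := hx
  obtain ⟨g, hg⟩ := exists_conj_sylU P
  have hy : g⁻¹ * x * g ∈ (UTbar : Subgroup (ProjectiveSpecialLinearGroup (Fin n) F)) := (hg x).1 hxP
  obtain ⟨u, hu, huy⟩ := Subgroup.mem_map.1 hy
  -- u commutes with every element of UT
  have hcomm : ∀ w ∈ (UT : Subgroup (SpecialLinearGroup (Fin n) F)),
      (w : Matrix (Fin n) (Fin n) F) * (u : Matrix (Fin n) (Fin n) F) =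
        (u : Matrix (Fin n) (Fin n) F) * (w : Matrix (Fin n) (Fin n) F) := by
    intro w hw
    have h1 : g * pr w * g⁻¹ ∈ P := by
      rw [hg]
      have : g⁻¹ * (g * pr w * g⁻¹) * g = pr w := by group
      rw [this]
      exact Subgroup.mem_map_of_mem _ hw
    have h2 := hc _ h1
    have h3 : (pr w : ProjectiveSpecialLinearGroup (Fin n) F) * pr u = pr u * pr w := by
      rw [huy]
      have e1 : pr w * (g⁻¹ * x * g) = g⁻¹ * ((g * pr w * g⁻¹) * x) * g := by group
      have e2 : (g⁻¹ * x * g) * pr w = g⁻¹ * (x * (g * pr w * g⁻¹)) * g := by group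
      rw [e1, e2, h2]
    rw [← map_mul, ← map_mul] at h3
    obtain ⟨r, -, hr⟩ := (mk_eq_mk_iff (w * u) (u * w)).1 h3
    have hwu : IsUT ((w * u : SpecialLinearGroup (Fin n) F) : Matrix (Fin n) (Fin n) F) :=
      UT.mul_mem hw hu
    have huw : IsUT ((u * w : SpecialLinearGroup (Fin n) F) : Matrix (Fin n) (Fin n) F) :=
      UT.mul_mem hu hw
    have h4 := congrFun (congrFun hr (i0 hn2)) (i0 hn2)
    rw [Matrix.smul_apply, huw.2, hwu.2, smul_eq_mul, mul_one] at h4
    rw [← h4, one_smul] at hr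
    rw [← Matrix.SpecialLinearGroup.coe_mul, ← Matrix.SpecialLinearGroup.coe_mul, hr]
  have hu2 := eq_tm_of_comm hn2 hu (fun i j hij => by
    have := hcomm (el i j (ne_of_lt hij) 1) (el_mem_UT hij 1)
    rw [el_coe, one_smul] at this
    exact this.symm)
  set c := (u : Matrix (Fin n) (Fin n) F) (i0 hn2) (il hn2) with hc'
  have hc0 : c ≠ 0 := by
    intro h0
    apply hx1
    rw [h0, zero_smul, tm_zero_right] at hu2
    have : u = 1 := Subtype.ext hu2
    rw [this, map_one] at huy
    have : x = g * (g⁻¹ * x * g) * g⁻¹ := by group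
    rw [this, ← huy]
    group
  have hT : (pr u : ProjectiveSpecialLinearGroup (Fin n) F) ∈ Tbar :=
    ⟨u, ⟨_, _, single_ne_zero' _, smul_single_ne_zero hc0 _, single_dot_single (i0_ne_il hn2) c, hu2⟩, rfl⟩
  have := Tbar_conj hT g
  rw [huy] at this
  have e : g * (g⁻¹ * x * g) * g⁻¹ = x := by group
  rw [e] at this
  exact this

end fin

/-- permutation automorphism -/
def permAut (τ : Equiv.Perm (Fin n)) : SpecialLinearGroup (Fin n) F ≃* SpecialLinearGroup (Fin n) F where
  toFun s := ⟨(s : Matrix (Fin n) (Fin n) F).submatrix τ τ, by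
    rw [Matrix.det_submatrix_equiv_self, s.2]⟩
  invFun s := ⟨(s : Matrix (Fin n) (Fin n) F).submatrix τ.symm τ.symm, by
    rw [Matrix.det_submatrix_equiv_self, s.2]⟩
  left_inv s := by
    apply Subtype.ext
    ext i j
    simp
  right_inv s := by
    apply Subtype.ext
    ext i j
    simp
  map_mul' s t := by
    apply Subtype.ext
    show ((s * t : SpecialLinearGroup (Fin n) F) : Matrix (Fin n) (Fin n) F).submatrix τ τ = _
    rw [Matrix.SpecialLinearGroup.coe_mul, ← Matrix.submatrix_mul_equiv _ _ τ τ τ]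
    rfl

theorem permAut_coe (τ : Equiv.Perm (Fin n)) (s : SpecialLinearGroup (Fin n) F) :
    ((permAut τ s : SpecialLinearGroup (Fin n) F) : Matrix (Fin n) (Fin n) F) =
      (s : Matrix (Fin n) (Fin n) F).submatrix τ τ := rfl

theorem submatrix_tm (τ : Equiv.Perm (Fin n)) (v φ : Fin n → F) :
    (tm v φ).submatrix τ τ = tm (v ∘ τ) (φ ∘ τ) := by
  ext i j
  unfold tm
  simp [Matrix.submatrix_apply, vecMulVec_apply, Matrix.one_apply]

theorem single_comp_perm (τ : Equiv.Perm (Fin n)) (k : Fin n) (c : F) :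
    (Pi.single k c : Fin n → F) ∘ τ = Pi.single (τ.symm k) c := by
  funext i
  simp only [Function.comp_apply, Pi.single_apply]
  by_cases h : τ i = k
  · rw [if_pos h, if_pos]
    rw [← h, Equiv.symm_apply_apply]
  · rw [if_neg h, if_neg]
    intro h2
    apply h
    rw [h2, Equiv.apply_symm_apply]

theorem exists_perm (hn : 2 ≤ n) {k l : Fin n} (hkl : k ≠ l) :
    ∃ ρ : Equiv.Perm (Fin n), ρ (i0 hn) = k ∧ ρ (il hn) = l := by
  set ρ₁ := Equiv.swap (i0 hn) k with hρ₁
  set l' := ρ₁ l with hl'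
  refine ⟨ρ₁ * Equiv.swap (il hn) l', ?_, ?_⟩
  · rw [Equiv.Perm.mul_apply, Equiv.swap_apply_of_ne_of_ne (i0_ne_il hn)]
    · rw [hρ₁, Equiv.swap_apply_left]
    · intro h
      have : ρ₁ (i0 hn) = ρ₁ l' := by rw [h]
      rw [hl', hρ₁, Equiv.swap_apply_left, Equiv.swap_apply_self] at this
      exact hkl this
  · rw [Equiv.Perm.mul_apply, Equiv.swap_apply_left, hl', hρ₁, Equiv.swap_apply_self]

/-- every transvection is conjugate in `GL` to an elementary one -/
theorem exists_conj_el {v φ : Fin n → F} (hv : v ≠ 0) (hφ : φ ≠ 0) (h : φ ⬝ᵥ v = 0) :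
    ∃ (k l : Fin n) (_ : k ≠ l) (g : GL (Fin n) F),
      tm v φ = (g : Matrix (Fin n) (Fin n) F) * tm (Pi.single k 1) (Pi.single l 1) *
        ((g⁻¹ : GL (Fin n) F) : Matrix (Fin n) (Fin n) F) := by
  obtain ⟨k, hk⟩ := Function.ne_iff.1 hv
  simp only [Pi.zero_apply] at hk
  set M := tm (v - Pi.single k 1) (Pi.single k 1) with hM
  have hMdet : M.det ≠ 0 := by
    rw [hM, det_tm, single_dotProduct, Pi.sub_apply, Pi.single_eq_same]
    simpa using hk
  set φ' := φ ᵥ* M with hφ'
  have hφ'eq : φ' = φ - φ k • Pi.single k 1 := by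
    rw [hφ', hM, vecMul_tm, dotProduct_sub, h, dotProduct_single, mul_one, zero_sub, neg_smul,
      sub_eq_add_neg]
  have hφ'k : φ' k = 0 := by
    rw [hφ'eq]; simp
  have hφ'0 : φ' ≠ 0 := by
    intro h0
    rw [hφ'eq, sub_eq_zero] at h0
    have h1 : φ ⬝ᵥ v = φ k * v k := by
      conv_lhs => rw [h0]
      rw [smul_dotProduct, single_dotProduct, one_mul, smul_eq_mul]
    rw [h] at h1
    have : φ k = 0 := by
      rcases mul_eq_zero.1 h1.symm with h2 | h2
      · exact h2
      · exact absurd h2 hk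
    rw [this, zero_smul] at h0
    exact hφ h0
  obtain ⟨l, hl⟩ := Function.ne_iff.1 hφ'0
  simp only [Pi.zero_apply] at hl
  have hlk : l ≠ k := by
    rintro rfl
    exact hl hφ'k
  set N := tm (Pi.single l 1) (φ' - Pi.single l 1) with hN
  have hNdet : N.det ≠ 0 := by
    rw [hN, det_tm, dotProduct_single, mul_one, Pi.sub_apply, Pi.single_eq_same]
    simpa using hl
  let gM : GL (Fin n) F := Matrix.GeneralLinearGroup.mkOfDetNeZero M hMdet
  let gN : GL (Fin n) F := Matrix.GeneralLinearGroup.mkOfDetNeZero N hNdet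
  have hgM : (gM : Matrix (Fin n) (Fin n) F) = M := rfl
  have hgN : (gN : Matrix (Fin n) (Fin n) F) = N := rfl
  have hMk : M *ᵥ Pi.single k 1 = v := by
    rw [hM, tm_mulVec, single_dotProduct, one_mul, Pi.single_eq_same, one_smul]
    abel
  have hNk : N *ᵥ Pi.single k 1 = Pi.single k 1 := by
    rw [hN, tm_mulVec, dotProduct_single, mul_one, Pi.sub_apply, hφ'k, Pi.single_eq_of_ne' hlk,
      sub_zero, zero_smul, add_zero]
  have hNl : Pi.single l 1 ᵥ* N = φ' := by
    rw [hN, vecMul_tm, single_dotProduct, one_mul, Pi.single_eq_same, one_smul]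
    abel
  have hNinv : ((gN⁻¹ : GL (Fin n) F) : Matrix (Fin n) (Fin n) F) *ᵥ Pi.single k 1 = Pi.single k 1 := by
    conv_lhs => rw [← hNk, ← hgN, Matrix.mulVec_mulVec, ← Units.val_mul, inv_mul_cancel,
      Units.val_one, Matrix.one_mulVec]
  have hMinv : φ' ᵥ* ((gM⁻¹ : GL (Fin n) F) : Matrix (Fin n) (Fin n) F) = φ := by
    rw [hφ', ← hgM, Matrix.vecMul_vecMul, ← Units.val_mul, mul_inv_cancel, Units.val_one,
      Matrix.vecMul_one]
  refine ⟨k, l, hlk.symm, gM * gN⁻¹, ?_⟩
  rw [conj_tm _ _ (by rw [← Units.val_mul, mul_inv_cancel, Units.val_one])]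
  congr 1
  · rw [Units.val_mul, ← Matrix.mulVec_mulVec, hNinv, hgM, hMk]
  · rw [_root_.mul_inv_rev, inv_inv, Units.val_mul, ← Matrix.vecMul_vecMul, hgN, hNl, hMinv]

end

section

open Matrix

variable {n : ℕ} {F : Type*} [Field F] [Fintype F] {p : ℕ} [Fact p.Prime] [CharP F p]

theorem mem_ZS_of_mem_Tbar (hn : 2 ≤ n) {x : ProjectiveSpecialLinearGroup (Fin n) F}
    (hx : x ∈ Tbar) : x ∈ ZS p (ProjectiveSpecialLinearGroup (Fin n) F) := by
  obtain ⟨s, ⟨v, φ, hv, hφ, hvφ, hs⟩, rfl⟩ := hx
  obtain ⟨k, l, hkl, g, hg⟩ := exists_conj_el hv hφ hvφ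
  obtain ⟨ρ, hρ0, hρl⟩ := exists_perm hn hkl
  have hs' : s = conjGL g (permAut ρ.symm (el (i0 hn) (il hn) (i0_ne_il hn) 1)) := by
    apply Subtype.ext
    rw [conjGL_coe, permAut_coe, el_coe, one_smul, submatrix_tm, single_comp_perm,
      single_comp_perm, Equiv.symm_symm, hρ0, hρl, hs, hg]
  have hx : (pr s : ProjectiveSpecialLinearGroup (Fin n) F) =
      desc (conjGL g) (desc (permAut ρ.symm) (pr (el (i0 hn) (il hn) (i0_ne_il hn) 1))) := by
    rw [hs']
    show _ = desc (conjGL g) (desc (permAut ρ.symm) (QuotientGroup.mk _))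
    rw [desc_mk, desc_mk]
    rfl
  rw [hx]
  exact ZS_map _ (ZS_map _ (pr_el0l_mem_ZS hn 1))

theorem mem_Tbar_iff (hn : 3 ≤ n) {x : ProjectiveSpecialLinearGroup (Fin n) F} :
    x ∈ Tbar ↔ x ∈ ZS p (ProjectiveSpecialLinearGroup (Fin n) F) ∧ x ≠ 1 := by
  constructor
  · intro hx
    refine ⟨mem_ZS_of_mem_Tbar (by omega) hx, ?_⟩
    rintro rfl
    exact one_notMem_Tbar hn hx
  · rintro ⟨h1, h2⟩
    exact mem_Tbar_of_mem_ZS hn h1 h2

/-- every automorphism of `PSL_n(F)`, `n ≥ 3`, `F` finite, preserves the set of (images of)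
transvections. -/
theorem presT (hn : 3 ≤ n) (p : ℕ) [Fact p.Prime] [CharP F p]
    (θ : ProjectiveSpecialLinearGroup (Fin n) F ≃* ProjectiveSpecialLinearGroup (Fin n) F)
    (x : ProjectiveSpecialLinearGroup (Fin n) F) : x ∈ Tbar ↔ θ x ∈ Tbar := by
  rw [mem_Tbar_iff (p := p) hn, mem_Tbar_iff (p := p) hn, ZS_map_iff]
  simp

end

end Cfsg.Agent.Lib.H13.AutPSL
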