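import Mathlib
import Cfsg.Agent.Lib.H13.AutPSLSylow
import Cfsg.Agent.Lib.H2.SLGen

/-!
Automorphisms of `PSL_n(F)`, `n ≥ 3`, `F` finite: `main3` (every automorphism is inner-diagonal ∘ field ∘ (1 or inverse transpose)).
-/

set_option autoImplicit false
set_option linter.unusedSectionVars false
set_option linter.unusedVariables false
set_option linter.unusedSimpArgs false

namespace Cfsg.Agent.Lib.H13.AutPSL

section

open Matrix

variable {n : ℕ} {F : Type*} [Field F]

/-- the automorphism preserves the set of transvections -/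
def PresT (θ : ProjectiveSpecialLinearGroup (Fin n) F ≃* ProjectiveSpecialLinearGroup (Fin n) F) : Prop :=
  ∀ x, x ∈ Tbar ↔ θ x ∈ Tbar

theorem PresT.symm {θ : ProjectiveSpecialLinearGroup (Fin n) F ≃* ProjectiveSpecialLinearGroup (Fin n) F}
    (h : PresT θ) : PresT θ.symm := by
  intro x
  rw [h (θ.symm x), MulEquiv.apply_symm_apply]

theorem PresT.trans {θ θ' : ProjectiveSpecialLinearGroup (Fin n) F ≃* ProjectiveSpecialLinearGroup (Fin n) F}
    (h : PresT θ) (h' : PresT θ') : PresT (θ.trans θ') := by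
  intro x
  rw [h x, h' (θ x)]
  rfl

theorem map_symm_map {G : Type*} [Group G] (θ : G ≃* G) (S : Subgroup G) :
    (S.map θ.toMonoidHom).map θ.symm.toMonoidHom = S := by
  ext x
  simp only [Subgroup.mem_map]
  constructor
  · rintro ⟨y, ⟨z, hz, rfl⟩, rfl⟩
    simpa using hz
  · intro hx
    exact ⟨θ x, ⟨x, hx, rfl⟩, by simp⟩

theorem map_map_symm {G : Type*} [Group G] (θ : G ≃* G) (S : Subgroup G) :
    (S.map θ.symm.toMonoidHom).map θ.toMonoidHom = S := by
  have := map_symm_map θ.symm S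
  simpa using this

theorem map_equiv_injective {G : Type*} [Group G] (θ : G ≃* G) {S T : Subgroup G}
    (h : S.map θ.toMonoidHom = T.map θ.toMonoidHom) : S = T := by
  rw [← map_symm_map θ S, h, map_symm_map]

theorem isTSub_map {θ : ProjectiveSpecialLinearGroup (Fin n) F ≃* ProjectiveSpecialLinearGroup (Fin n) F}
    (hθ : PresT θ) {S : Subgroup (ProjectiveSpecialLinearGroup (Fin n) F)} (hS : IsTSub S) :
    IsTSub (S.map θ.toMonoidHom) := by
  intro x hx hx1
  obtain ⟨y, hy, rfl⟩ := Subgroup.mem_map.1 hx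
  have hy1 : y ≠ 1 := by
    rintro rfl
    exact hx1 (map_one _)
  exact (hθ y).1 (hS y hy hy1)

/-- point type / hyperplane type subgroups -/
def IsPt (S : Subgroup (ProjectiveSpecialLinearGroup (Fin n) F)) : Prop :=
  ∃ v : Fin n → F, v ≠ 0 ∧ S = PA v

def IsHp (S : Subgroup (ProjectiveSpecialLinearGroup (Fin n) F)) : Prop :=
  ∃ φ : Fin n → F, φ ≠ 0 ∧ S = PH φ

theorem not_isPt_and_isHp (hn : 3 ≤ n) {S : Subgroup (ProjectiveSpecialLinearGroup (Fin n) F)}
    (h1 : IsPt S) (h2 : IsHp S) : False := by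
  obtain ⟨v, hv, rfl⟩ := h1
  obtain ⟨φ, hφ, h⟩ := h2
  exact PA_ne_PH hn hv hφ h

theorem image_max (hn : 3 ≤ n)
    {θ : ProjectiveSpecialLinearGroup (Fin n) F ≃* ProjectiveSpecialLinearGroup (Fin n) F}
    (hθ : PresT θ) {S : Subgroup (ProjectiveSpecialLinearGroup (Fin n) F)} (hS : IsTSub S)
    (hmax : ∀ T : Subgroup (ProjectiveSpecialLinearGroup (Fin n) F), IsTSub T → S ≤ T → T = S) :
    IsPt (S.map θ.toMonoidHom) ∨ IsHp (S.map θ.toMonoidHom) := by
  have h1 := isTSub_map hθ hS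
  rcases sub_PA_or_PH hn _ h1 with ⟨v', hv', h'⟩ | ⟨φ', hφ', h'⟩
  · left
    refine ⟨v', hv', ?_⟩
    have h2 : IsTSub ((PA v').map θ.symm.toMonoidHom) := isTSub_map hθ.symm (isTSub_PA hv')
    have h3 : S ≤ (PA v').map θ.symm.toMonoidHom := by
      rw [← map_symm_map θ S]
      exact Subgroup.map_mono h'
    have h4 := hmax _ h2 h3
    rw [← h4, map_map_symm]
  · right
    refine ⟨φ', hφ', ?_⟩
    have h2 : IsTSub ((PH φ').map θ.symm.toMonoidHom) := isTSub_map hθ.symm (isTSub_PH hφ')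
    have h3 : S ≤ (PH φ').map θ.symm.toMonoidHom := by
      rw [← map_symm_map θ S]
      exact Subgroup.map_mono h'
    have h4 := hmax _ h2 h3
    rw [← h4, map_map_symm]

theorem image_PA (hn : 3 ≤ n)
    {θ : ProjectiveSpecialLinearGroup (Fin n) F ≃* ProjectiveSpecialLinearGroup (Fin n) F}
    (hθ : PresT θ) {v : Fin n → F} (hv : v ≠ 0) :
    IsPt ((PA v).map θ.toMonoidHom) ∨ IsHp ((PA v).map θ.toMonoidHom) :=
  image_max hn hθ (isTSub_PA hv) (fun _ hT h => PA_maximal hn hv hT h)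

theorem image_PH (hn : 3 ≤ n)
    {θ : ProjectiveSpecialLinearGroup (Fin n) F ≃* ProjectiveSpecialLinearGroup (Fin n) F}
    (hθ : PresT θ) {φ : Fin n → F} (hφ : φ ≠ 0) :
    IsPt ((PH φ).map θ.toMonoidHom) ∨ IsHp ((PH φ).map θ.toMonoidHom) :=
  image_max hn hθ (isTSub_PH hφ) (fun _ hT h => PH_maximal hn hφ hT h)

theorem map_inf_equiv {G : Type*} [Group G] (θ : G ≃* G) (S T : Subgroup G) :
    (S ⊓ T).map θ.toMonoidHom = S.map θ.toMonoidHom ⊓ T.map θ.toMonoidHom :=
  Subgroup.map_inf S T θ.toMonoidHom θ.injective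

theorem map_ne_bot {G : Type*} [Group G] (θ : G ≃* G) {S : Subgroup G} (h : S ≠ ⊥) :
    S.map θ.toMonoidHom ≠ ⊥ := by
  intro h'
  apply h
  rw [← map_symm_map θ S, h', Subgroup.map_bot]

/-- incident point and hyperplane have images of different types -/
theorem incident_types (hn : 3 ≤ n)
    (θ : ProjectiveSpecialLinearGroup (Fin n) F ≃* ProjectiveSpecialLinearGroup (Fin n) F)
    {v φ : Fin n → F} (hv : v ≠ 0) (hφ : φ ≠ 0) (h : φ ⬝ᵥ v = 0) :
    ¬ (IsPt ((PA v).map θ.toMonoidHom) ∧ IsPt ((PH φ).map θ.toMonoidHom)) ∧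
    ¬ (IsHp ((PA v).map θ.toMonoidHom) ∧ IsHp ((PH φ).map θ.toMonoidHom)) := by
  have hne : (PA v ⊓ PH φ).map θ.toMonoidHom ≠ ⊥ := map_ne_bot θ (PA_inf_PH_ne_bot hn hv hφ h)
  rw [map_inf_equiv] at hne
  constructor
  · rintro ⟨⟨a, ha, h1⟩, ⟨b, hb, h2⟩⟩
    rw [h1, h2] at hne
    have hp : Par a b := by
      by_contra hp
      exact hne (PA_inf_PA hn ha hp)
    rw [PA_eq_of_par hp, ← h2] at h1
    exact PA_ne_PH hn hv hφ (map_equiv_injective θ h1)
  · rintro ⟨⟨a, ha, h1⟩, ⟨b, hb, h2⟩⟩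
    rw [h1, h2] at hne
    have hp : Par a b := by
      by_contra hp
      exact hne (PH_inf_PH hn ha hp)
    rw [PH_eq_of_par hp, ← h2] at h1
    exact PA_ne_PH hn hv hφ (map_equiv_injective θ h1)

/-- the dichotomy of types -/
theorem types (hn : 3 ≤ n)
    {θ : ProjectiveSpecialLinearGroup (Fin n) F ≃* ProjectiveSpecialLinearGroup (Fin n) F}
    (hθ : PresT θ) :
    ((∀ v : Fin n → F, v ≠ 0 → IsPt ((PA v).map θ.toMonoidHom)) ∧
      (∀ φ : Fin n → F, φ ≠ 0 → IsHp ((PH φ).map θ.toMonoidHom))) ∨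
    ((∀ v : Fin n → F, v ≠ 0 → IsHp ((PA v).map θ.toMonoidHom)) ∧
      (∀ φ : Fin n → F, φ ≠ 0 → IsPt ((PH φ).map θ.toMonoidHom))) := by
  set v₀ : Fin n → F := Pi.single ⟨0, by omega⟩ 1 with hv₀
  have hv₀0 : v₀ ≠ 0 := by
    intro h
    have := congrFun h ⟨0, by omega⟩
    simp [hv₀] at this
  rcases image_PA hn hθ hv₀0 with h0 | h0
  · left
    have hpts : ∀ v : Fin n → F, v ≠ 0 → IsPt ((PA v).map θ.toMonoidHom) := by
      intro v hv
      obtain ⟨φ, hφ, h1, h2⟩ := exists_ker₂ hn v₀ v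
      rw [dotProduct_comm] at h1 h2
      have hH : IsHp ((PH φ).map θ.toMonoidHom) := by
        rcases image_PH hn hθ hφ with h | h
        · exact absurd ⟨h0, h⟩ (incident_types hn θ hv₀0 hφ h1).1
        · exact h
      rcases image_PA hn hθ hv with h | h
      · exact h
      · exact absurd ⟨h, hH⟩ (incident_types hn θ hv hφ h2).2
    refine ⟨hpts, ?_⟩
    intro φ hφ
    obtain ⟨v, hv, h1⟩ := exists_ker₁ (by omega) φ
    rcases image_PH hn hθ hφ with h | h
    · exact absurd ⟨hpts v hv, h⟩ (incident_types hn θ hv hφ h1).1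
    · exact h
  · right
    have hpts : ∀ v : Fin n → F, v ≠ 0 → IsHp ((PA v).map θ.toMonoidHom) := by
      intro v hv
      obtain ⟨φ, hφ, h1, h2⟩ := exists_ker₂ hn v₀ v
      rw [dotProduct_comm] at h1 h2
      have hH : IsPt ((PH φ).map θ.toMonoidHom) := by
        rcases image_PH hn hθ hφ with h | h
        · exact h
        · exact absurd ⟨h0, h⟩ (incident_types hn θ hv₀0 hφ h1).2
      rcases image_PA hn hθ hv with h | h
      · exact absurd ⟨h, hH⟩ (incident_types hn θ hv hφ h2).1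
      · exact h
    refine ⟨hpts, ?_⟩
    intro φ hφ
    obtain ⟨v, hv, h1⟩ := exists_ker₁ (by omega) φ
    rcases image_PH hn hθ hφ with h | h
    · exact h
    · exact absurd ⟨hpts v hv, h⟩ (incident_types hn θ hv hφ h1).2

end

section

open Matrix

variable {n : ℕ} {F : Type*} [Field F]

theorem inv_coe_of_tm {s : SpecialLinearGroup (Fin n) F} {v ψ : Fin n → F} (h : ψ ⬝ᵥ v = 0)
    (hs : (s : Matrix (Fin n) (Fin n) F) = tm v ψ) :
    ((s⁻¹ : SpecialLinearGroup (Fin n) F) : Matrix (Fin n) (Fin n) F) = tm v (-ψ) := by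
  have h1 : s * tv v (-ψ) (by rw [neg_dotProduct, h, neg_zero]) = 1 := by
    apply Subtype.ext
    rw [Matrix.SpecialLinearGroup.coe_mul, hs, tv_coe, tm_mul_right _ _ _ h, add_neg_cancel,
      tm_zero_right]
    rfl
  rw [inv_eq_of_mul_eq_one_right h1, tv_coe]

theorem gl_mul_inv (g : GL (Fin n) F) :
    (g : Matrix (Fin n) (Fin n) F) * ((g⁻¹ : GL (Fin n) F) : Matrix (Fin n) (Fin n) F) = 1 := by
  rw [← Units.val_mul, mul_inv_cancel, Units.val_one]

theorem gl_inv_mul (g : GL (Fin n) F) :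
    ((g⁻¹ : GL (Fin n) F) : Matrix (Fin n) (Fin n) F) * (g : Matrix (Fin n) (Fin n) F) = 1 := by
  rw [← Units.val_mul, inv_mul_cancel, Units.val_one]

theorem map_conjGL_PA_le (g : GL (Fin n) F) (v : Fin n → F) :
    (PA v).map (desc (conjGL g)).toMonoidHom ≤ PA ((g : Matrix (Fin n) (Fin n) F) *ᵥ v) := by
  rintro x hx
  obtain ⟨y, hy, rfl⟩ := Subgroup.mem_map.1 hx
  obtain ⟨ψ, hψ, rfl⟩ := mem_PA.1 hy
  show desc (conjGL g) (QuotientGroup.mk _) ∈ _
  rw [desc_mk]
  refine Subgroup.mem_map_of_mem _ ⟨ψ ᵥ* ((g⁻¹ : GL (Fin n) F) : Matrix (Fin n) (Fin n) F), ?_, ?_⟩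
  · rw [Matrix.dotProduct_mulVec, Matrix.vecMul_vecMul, gl_inv_mul, Matrix.vecMul_one, hψ]
  · rw [conjGL_coe, tv_coe, conj_tm _ _ (gl_mul_inv g)]

theorem map_conjGL_PH_le (g : GL (Fin n) F) (φ : Fin n → F) :
    (PH φ).map (desc (conjGL g)).toMonoidHom ≤
      PH (φ ᵥ* ((g⁻¹ : GL (Fin n) F) : Matrix (Fin n) (Fin n) F)) := by
  rintro x hx
  obtain ⟨y, hy, rfl⟩ := Subgroup.mem_map.1 hx
  obtain ⟨w, hw, rfl⟩ := mem_PH.1 hy
  show desc (conjGL g) (QuotientGroup.mk _) ∈ _
  rw [desc_mk]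
  refine Subgroup.mem_map_of_mem _ ⟨(g : Matrix (Fin n) (Fin n) F) *ᵥ w, ?_, ?_⟩
  · rw [Matrix.dotProduct_mulVec, Matrix.vecMul_vecMul, gl_inv_mul, Matrix.vecMul_one, hw]
  · rw [conjGL_coe, tv_coe, conj_tm _ _ (gl_mul_inv g)]

theorem desc_conjGL_symm (g : GL (Fin n) F) :
    (desc (conjGL g)).symm = desc (conjGL g⁻¹) := by
  rw [← desc_symm, conjGL_symm]

theorem map_conjGL_PA (g : GL (Fin n) F) (v : Fin n → F) :
    (PA v).map (desc (conjGL g)).toMonoidHom = PA ((g : Matrix (Fin n) (Fin n) F) *ᵥ v) := by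
  apply le_antisymm (map_conjGL_PA_le g v)
  have h1 := map_conjGL_PA_le g⁻¹ ((g : Matrix (Fin n) (Fin n) F) *ᵥ v)
  rw [Matrix.mulVec_mulVec, gl_inv_mul, Matrix.one_mulVec, ← desc_conjGL_symm] at h1
  have h2 := Subgroup.map_mono (f := (desc (conjGL g)).toMonoidHom) h1
  rw [map_map_symm] at h2
  exact h2

theorem map_conjGL_PH (g : GL (Fin n) F) (φ : Fin n → F) :
    (PH φ).map (desc (conjGL g)).toMonoidHom =
      PH (φ ᵥ* ((g⁻¹ : GL (Fin n) F) : Matrix (Fin n) (Fin n) F)) := by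
  apply le_antisymm (map_conjGL_PH_le g φ)
  have h1 := map_conjGL_PH_le g⁻¹ (φ ᵥ* ((g⁻¹ : GL (Fin n) F) : Matrix (Fin n) (Fin n) F))
  rw [inv_inv, Matrix.vecMul_vecMul, gl_inv_mul, Matrix.vecMul_one, ← desc_conjGL_symm] at h1
  have h2 := Subgroup.map_mono (f := (desc (conjGL g)).toMonoidHom) h1
  rw [map_map_symm] at h2
  exact h2

theorem map_invT_PA_le (v : Fin n → F) :
    (PA v).map (desc (invT (n := n) (F := F))).toMonoidHom ≤ PH v := by
  rintro x hx
  obtain ⟨y, hy, rfl⟩ := Subgroup.mem_map.1 hx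
  obtain ⟨ψ, hψ, rfl⟩ := mem_PA.1 hy
  show desc invT (QuotientGroup.mk _) ∈ _
  rw [desc_mk]
  refine Subgroup.mem_map_of_mem _ ⟨-ψ, ?_, ?_⟩
  · rw [dotProduct_neg, dotProduct_comm, hψ, neg_zero]
  · rw [invT_coe, inv_coe_of_tm hψ (tv_coe _ _ _), transpose_tm]

theorem map_invT_PH_le (φ : Fin n → F) :
    (PH φ).map (desc (invT (n := n) (F := F))).toMonoidHom ≤ PA φ := by
  rintro x hx
  obtain ⟨y, hy, rfl⟩ := Subgroup.mem_map.1 hx
  obtain ⟨w, hw, rfl⟩ := mem_PH.1 hy
  show desc invT (QuotientGroup.mk _) ∈ _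
  rw [desc_mk]
  refine Subgroup.mem_map_of_mem _ ⟨-w, ?_, ?_⟩
  · rw [neg_dotProduct, dotProduct_comm, hw, neg_zero]
  · have h1 : ((tv w φ hw)⁻¹ : SpecialLinearGroup (Fin n) F) =
        tv (-w) φ (by rw [dotProduct_neg, hw, neg_zero]) := by
      apply inv_eq_of_mul_eq_one_right
      apply Subtype.ext
      rw [Matrix.SpecialLinearGroup.coe_mul, tv_coe, tv_coe,
        tm_mul_left _ _ _ (by rw [dotProduct_neg, hw, neg_zero]), add_neg_cancel, tm_zero_left]
      rfl
    rw [invT_coe, h1, tv_coe, transpose_tm]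

theorem desc_invT_symm : (desc (invT (n := n) (F := F))).symm = desc invT := by
  ext x
  rw [MulEquiv.symm_apply_eq]
  induction x using QuotientGroup.induction_on with
  | H s => rw [desc_mk, desc_mk, invT_invT]

theorem map_invT_PA (v : Fin n → F) :
    (PA v).map (desc (invT (n := n) (F := F))).toMonoidHom = PH v := by
  apply le_antisymm (map_invT_PA_le v)
  have h1 := map_invT_PH_le v
  have h2 := Subgroup.map_mono (f := (desc (invT (n := n) (F := F))).toMonoidHom) h1
  have e := map_symm_map (desc (invT (n := n) (F := F))) (PH v)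
  rw [desc_invT_symm] at e
  rw [e] at h2
  exact h2

theorem map_invT_PH (φ : Fin n → F) :
    (PH φ).map (desc (invT (n := n) (F := F))).toMonoidHom = PA φ := by
  apply le_antisymm (map_invT_PH_le φ)
  have h1 := map_invT_PA_le φ
  have h2 := Subgroup.map_mono (f := (desc (invT (n := n) (F := F))).toMonoidHom) h1
  have e := map_symm_map (desc (invT (n := n) (F := F))) (PA φ)
  rw [desc_invT_symm] at e
  rw [e] at h2
  exact h2

theorem map_trans {G : Type*} [Group G] (θ θ' : G ≃* G) (S : Subgroup G) :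
    S.map (θ.trans θ').toMonoidHom = (S.map θ.toMonoidHom).map θ'.toMonoidHom := by
  rw [Subgroup.map_map]
  rfl

/-- normalisation to the standard frame -/
theorem exists_frame (hn : 3 ≤ n)
    {θ : ProjectiveSpecialLinearGroup (Fin n) F ≃* ProjectiveSpecialLinearGroup (Fin n) F}
    (hP : ∀ v : Fin n → F, v ≠ 0 → IsPt ((PA v).map θ.toMonoidHom))
    (hH : ∀ φ : Fin n → F, φ ≠ 0 → IsHp ((PH φ).map θ.toMonoidHom)) :
    ∃ g : GL (Fin n) F, ∀ i : Fin n,
      (PA (Pi.single i 1)).map θ.toMonoidHom = PA ((g : Matrix (Fin n) (Fin n) F) *ᵥ Pi.single i 1) ∧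
      (PH (Pi.single i 1)).map θ.toMonoidHom =
        PH (Pi.single i 1 ᵥ* ((g⁻¹ : GL (Fin n) F) : Matrix (Fin n) (Fin n) F)) := by
  have he : ∀ i : Fin n, (Pi.single i 1 : Fin n → F) ≠ 0 := by
    intro i h
    have := congrFun h i
    simp at this
  choose u hu0 hu using fun i => hP _ (he i)
  choose χ hχ0 hχ using fun i => hH _ (he i)
  have hinc : ∀ i j : Fin n, i ≠ j → χ j ⬝ᵥ u i = 0 := by
    intro i j hij
    by_contra hne
    have h1 := PA_inf_PH_eq_bot hn (hu0 i) (hχ0 j) hne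
    rw [← hu i, ← hχ j, ← map_inf_equiv] at h1
    refine map_ne_bot θ (PA_inf_PH_ne_bot hn (he i) (he j) ?_) h1
    rw [single_dotProduct, one_mul, Pi.single_apply, if_neg hij.symm]
  have hninc : ∀ i : Fin n, χ i ⬝ᵥ u i ≠ 0 := by
    intro i h0
    have h1 := PA_inf_PH_ne_bot hn (hu0 i) (hχ0 i) h0
    rw [← hu i, ← hχ i, ← map_inf_equiv] at h1
    apply h1
    rw [PA_inf_PH_eq_bot hn (he i) (he i), Subgroup.map_bot]
    rw [single_dotProduct, one_mul, Pi.single_eq_same]
    exact one_ne_zero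
  set U : Matrix (Fin n) (Fin n) F := Matrix.of fun k i => u i k with hU
  set C : Matrix (Fin n) (Fin n) F := Matrix.of fun j k => χ j k with hC
  have hCU : C * U = Matrix.diagonal fun j => χ j ⬝ᵥ u j := by
    ext j i
    rw [Matrix.mul_apply, Matrix.diagonal_apply]
    by_cases hji : j = i
    · subst hji
      rw [if_pos rfl]
      rfl
    · rw [if_neg hji]
      exact hinc i j (Ne.symm hji)
  have hdet : U.det ≠ 0 := by
    have h1 : (C * U).det ≠ 0 := by
      rw [hCU, Matrix.det_diagonal]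
      exact Finset.prod_ne_zero_iff.2 fun j _ => hninc j
    rw [Matrix.det_mul] at h1
    exact right_ne_zero_of_mul h1
  let g : GL (Fin n) F := Matrix.GeneralLinearGroup.mkOfDetNeZero U hdet
  have hg : (g : Matrix (Fin n) (Fin n) F) = U := rfl
  refine ⟨g, fun i => ⟨?_, ?_⟩⟩
  · rw [hu i]
    congr 1
    rw [hg, Matrix.mulVec_single_one]
    funext k
    rfl
  · rw [hχ i]
    apply PH_eq_of_par
    have hd0 := hninc i
    set d := χ i ⬝ᵥ u i with hd
    refine ⟨d⁻¹, inv_ne_zero hd0, ?_⟩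
    have h1 : χ i ᵥ* U = d • Pi.single i 1 := by
      funext k
      have := congrFun (congrFun hCU i) k
      rw [Matrix.mul_apply, Matrix.diagonal_apply] at this
      rw [Pi.smul_apply, Pi.single_apply, smul_eq_mul]
      by_cases hik : k = i
      · subst hik
        rw [if_pos rfl, mul_one]
        rw [if_pos rfl] at this
        exact this
      · rw [if_neg hik, mul_zero]
        rw [if_neg (Ne.symm hik)] at this
        exact this
    have h2 : χ i = (d • Pi.single i 1) ᵥ* ((g⁻¹ : GL (Fin n) F) : Matrix (Fin n) (Fin n) F) := by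
      rw [← h1, ← hg, Matrix.vecMul_vecMul, gl_mul_inv, Matrix.vecMul_one]
    rw [Matrix.smul_vecMul] at h2
    rw [h2, smul_smul, inv_mul_cancel₀ hd0, one_smul]

end

section

open Matrix

variable {n : ℕ} {F : Type*} [Field F]

/-- `θ` fixes the standard frame -/
def FixFrame (θ : ProjectiveSpecialLinearGroup (Fin n) F ≃* ProjectiveSpecialLinearGroup (Fin n) F) : Prop :=
  ∀ i : Fin n, (PA (Pi.single i 1)).map θ.toMonoidHom = PA (Pi.single i 1) ∧
    (PH (Pi.single i 1)).map θ.toMonoidHom = PH (Pi.single i 1)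

theorem FixFrame.symm {θ : ProjectiveSpecialLinearGroup (Fin n) F ≃* ProjectiveSpecialLinearGroup (Fin n) F}
    (h : FixFrame θ) : FixFrame θ.symm := by
  intro i
  constructor
  · conv_lhs => rw [← (h i).1]
    rw [map_symm_map]
  · conv_lhs => rw [← (h i).2]
    rw [map_symm_map]

theorem el_coe_single (i j : Fin n) (hij : i ≠ j) (c : F) :
    ((el i j hij c : SpecialLinearGroup (Fin n) F) : Matrix (Fin n) (Fin n) F) =
      1 + Matrix.single i j c := by
  rw [el_coe, single_eq_vecMulVec]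
  unfold tm
  congr 2
  funext k
  rw [Pi.smul_apply, Pi.single_apply, Pi.single_apply, smul_eq_mul]
  split_ifs <;> simp

theorem el_eq_transvection (i j : Fin n) (hij : i ≠ j) (c : F) :
    el i j hij c = Matrix.SpecialLinearGroup.transvection hij c := by
  apply Subtype.ext
  rw [el_coe_single, Matrix.SpecialLinearGroup.transvection_coe]

theorem el_add (i j : Fin n) (hij : i ≠ j) (c d : F) :
    el i j hij (c + d) = el i j hij c * el i j hij d := by
  rw [el_eq_transvection, el_eq_transvection, el_eq_transvection,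
    Matrix.SpecialLinearGroup.transvection_add]

theorem el_comm_rel {i j k : Fin n} (hij : i ≠ j) (hjk : j ≠ k) (hik : i ≠ k) (a b : F) :
    el i j hij a * el j k hjk b = el i k hik (a * b) * el j k hjk b * el i j hij a := by
  apply Subtype.ext
  simp only [Matrix.SpecialLinearGroup.coe_mul, el_coe_single]
  simp only [mul_add, add_mul, mul_one, one_mul, single_mul_single_same,
    single_mul_single_of_ne _ _ _ _ hik.symm, single_mul_single_of_ne _ _ _ _ hjk.symm, add_zero]
  abel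

theorem pr_el_injective (hn : 3 ≤ n) (i j : Fin n) (hij : i ≠ j) {c c' : F}
    (h : (pr (el i j hij c) : ProjectiveSpecialLinearGroup (Fin n) F) = pr (el i j hij c')) :
    c = c' := by
  have h1 := tm_eq_of_mk_eq hn h (el_coe _ _ _ _) (el_coe _ _ _ _)
  have h2 := congrFun (congrFun h1 i) j
  unfold tm at h2
  simpa [vecMulVec_apply, Matrix.one_apply_ne hij] using h2

theorem pr_el_mem (i j : Fin n) (hij : i ≠ j) (c : F) :
    (pr (el i j hij c) : ProjectiveSpecialLinearGroup (Fin n) F) ∈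
      PA (Pi.single i 1) ⊓ PH (Pi.single j 1) := by
  constructor
  · exact Subgroup.mem_map_of_mem _ ⟨_, single_dot_single hij c, rfl⟩
  · refine Subgroup.mem_map_of_mem _ ⟨c • Pi.single i 1, ?_, ?_⟩
    · rw [dotProduct_smul, single_dotProduct, one_mul, Pi.single_apply, if_neg hij.symm, smul_zero]
    · rw [el_coe, tm_smul_comm]

theorem FixFrame.el (hn : 3 ≤ n)
    {θ : ProjectiveSpecialLinearGroup (Fin n) F ≃* ProjectiveSpecialLinearGroup (Fin n) F}
    (h : FixFrame θ) (i j : Fin n) (hij : i ≠ j) (c : F) :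
    ∃ c' : F, θ (pr (el i j hij c)) = pr (el i j hij c') := by
  have h1 : θ (pr (Cfsg.Agent.Lib.H13.AutPSL.el i j hij c)) ∈
      PA (Pi.single i 1) ⊓ PH (Pi.single j 1) := by
    rw [← (h i).1, ← (h j).2, ← map_inf_equiv]
    exact Subgroup.mem_map_of_mem _ (pr_el_mem i j hij c)
  by_cases h2 : θ (pr (Cfsg.Agent.Lib.H13.AutPSL.el i j hij c)) = 1
  · exact ⟨0, by rw [h2, el_zero, map_one]⟩
  · obtain ⟨-, c', hc', h3⟩ := mem_PA_inf_PH hn (single_ne_zero' i) (single_ne_zero' j) h1 h2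
    refine ⟨c', ?_⟩
    rw [h3]
    congr 1
    apply Subtype.ext
    rw [tv_coe, el_coe, tm_smul_comm]

/-- the induced maps on the root groups -/
noncomputable def sig (hn : 3 ≤ n)
    {θ : ProjectiveSpecialLinearGroup (Fin n) F ≃* ProjectiveSpecialLinearGroup (Fin n) F}
    (h : FixFrame θ) (i j : Fin n) (hij : i ≠ j) (c : F) : F :=
  Classical.choose (h.el hn i j hij c)

theorem sig_spec (hn : 3 ≤ n)
    {θ : ProjectiveSpecialLinearGroup (Fin n) F ≃* ProjectiveSpecialLinearGroup (Fin n) F}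
    (h : FixFrame θ) (i j : Fin n) (hij : i ≠ j) (c : F) :
    θ (pr (el i j hij c)) = pr (el i j hij (sig hn h i j hij c)) :=
  Classical.choose_spec (h.el hn i j hij c)

theorem sig_add (hn : 3 ≤ n)
    {θ : ProjectiveSpecialLinearGroup (Fin n) F ≃* ProjectiveSpecialLinearGroup (Fin n) F}
    (h : FixFrame θ) (i j : Fin n) (hij : i ≠ j) (c d : F) :
    sig hn h i j hij (c + d) = sig hn h i j hij c + sig hn h i j hij d := by
  apply pr_el_injective hn i j hij
  rw [← sig_spec, el_add, map_mul, map_mul, sig_spec hn h, sig_spec hn h, el_add, map_mul]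

theorem sig_zero (hn : 3 ≤ n)
    {θ : ProjectiveSpecialLinearGroup (Fin n) F ≃* ProjectiveSpecialLinearGroup (Fin n) F}
    (h : FixFrame θ) (i j : Fin n) (hij : i ≠ j) : sig hn h i j hij 0 = 0 := by
  have := sig_add hn h i j hij 0 0
  rw [add_zero] at this
  exact left_eq_add.1 this

theorem sig_symm (hn : 3 ≤ n)
    {θ : ProjectiveSpecialLinearGroup (Fin n) F ≃* ProjectiveSpecialLinearGroup (Fin n) F}
    (h : FixFrame θ) (i j : Fin n) (hij : i ≠ j) (c : F) :
    sig hn h.symm i j hij (sig hn h i j hij c) = c := by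
  apply pr_el_injective hn i j hij
  rw [← sig_spec, ← sig_spec, MulEquiv.symm_apply_apply]

theorem sig_symm' (hn : 3 ≤ n)
    {θ : ProjectiveSpecialLinearGroup (Fin n) F ≃* ProjectiveSpecialLinearGroup (Fin n) F}
    (h : FixFrame θ) (i j : Fin n) (hij : i ≠ j) (c : F) :
    sig hn h i j hij (sig hn h.symm i j hij c) = c := by
  apply pr_el_injective hn i j hij
  rw [← sig_spec, ← sig_spec, MulEquiv.apply_symm_apply]

theorem sig_injective (hn : 3 ≤ n)
    {θ : ProjectiveSpecialLinearGroup (Fin n) F ≃* ProjectiveSpecialLinearGroup (Fin n) F}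
    (h : FixFrame θ) (i j : Fin n) (hij : i ≠ j) : Function.Injective (sig hn h i j hij) :=
  Function.LeftInverse.injective (sig_symm hn h i j hij)

theorem sig_mul (hn : 3 ≤ n)
    {θ : ProjectiveSpecialLinearGroup (Fin n) F ≃* ProjectiveSpecialLinearGroup (Fin n) F}
    (h : FixFrame θ) {i j k : Fin n} (hij : i ≠ j) (hjk : j ≠ k) (hik : i ≠ k) (a b : F) :
    sig hn h i k hik (a * b) = sig hn h i j hij a * sig hn h j k hjk b := by
  apply pr_el_injective hn i k hik
  have h1 := congrArg (fun s => θ (pr s)) (el_comm_rel hij hjk hik a b)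
  simp only [map_mul] at h1
  rw [sig_spec hn h, sig_spec hn h, sig_spec hn h] at h1
  have h2 := congrArg (fun s => (pr s : ProjectiveSpecialLinearGroup (Fin n) F))
    (el_comm_rel hij hjk hik (sig hn h i j hij a) (sig hn h j k hjk b))
  simp only [map_mul] at h2
  rw [h2] at h1
  exact (mul_right_cancel (mul_right_cancel h1)).symm

end

section

open Matrix

variable {n : ℕ} {F : Type*} [Field F]

theorem FixFrame.trans {θ θ' : ProjectiveSpecialLinearGroup (Fin n) F ≃* ProjectiveSpecialLinearGroup (Fin n) F}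
    (h : FixFrame θ) (h' : FixFrame θ') : FixFrame (θ.trans θ') := by
  intro i
  rw [map_trans, map_trans, (h i).1, (h i).2]
  exact h' i

/-- diagonal element of `GL` -/
noncomputable def diagGL (d : Fin n → F) (hd : ∀ i, d i ≠ 0) : GL (Fin n) F :=
  Matrix.GeneralLinearGroup.mkOfDetNeZero (Matrix.diagonal d) (by
    rw [Matrix.det_diagonal]
    exact Finset.prod_ne_zero_iff.2 fun i _ => hd i)

theorem diagGL_coe (d : Fin n → F) (hd : ∀ i, d i ≠ 0) :
    (diagGL d hd : Matrix (Fin n) (Fin n) F) = Matrix.diagonal d := rfl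

theorem diagGL_mulVec_single (d : Fin n → F) (hd : ∀ i, d i ≠ 0) (i : Fin n) :
    (diagGL d hd : Matrix (Fin n) (Fin n) F) *ᵥ Pi.single i 1 = d i • Pi.single i 1 := by
  rw [diagGL_coe, Matrix.mulVec_single_one]
  funext k
  rw [Matrix.col_apply, Matrix.diagonal_apply, Pi.smul_apply, Pi.single_apply, smul_eq_mul]
  by_cases h : k = i
  · subst h; simp
  · simp [h]

theorem single_vecMul_diagGL (d : Fin n → F) (hd : ∀ i, d i ≠ 0) (i : Fin n) :
    Pi.single i 1 ᵥ* (diagGL d hd : Matrix (Fin n) (Fin n) F) = d i • Pi.single i 1 := by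
  rw [diagGL_coe, Matrix.single_one_vecMul]
  funext k
  rw [Matrix.row_apply, Matrix.diagonal_apply, Pi.smul_apply, Pi.single_apply, smul_eq_mul]
  by_cases h : k = i
  · subst h; simp
  · simp [h, Ne.symm h]

theorem single_vecMul_diagGL_inv (d : Fin n → F) (hd : ∀ i, d i ≠ 0) (i : Fin n) :
    Pi.single i 1 ᵥ* (((diagGL d hd)⁻¹ : GL (Fin n) F) : Matrix (Fin n) (Fin n) F) =
      (d i)⁻¹ • Pi.single i 1 := by
  have h1 := single_vecMul_diagGL d hd i
  have h2 : (Pi.single i 1 : Fin n → F) = (d i)⁻¹ • (Pi.single i 1 ᵥ* (diagGL d hd : Matrix (Fin n) (Fin n) F)) := by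
    rw [h1, smul_smul, inv_mul_cancel₀ (hd i), one_smul]
  conv_lhs => rw [h2]
  rw [Matrix.smul_vecMul, Matrix.vecMul_vecMul, gl_mul_inv, Matrix.vecMul_one]

theorem conjGL_diag_el (d : Fin n → F) (hd : ∀ i, d i ≠ 0) (i j : Fin n) (hij : i ≠ j) (c : F) :
    conjGL (diagGL d hd) (el i j hij c) = el i j hij (d i * c * (d j)⁻¹) := by
  apply Subtype.ext
  rw [conjGL_coe, el_coe, el_coe, conj_tm _ _ (gl_mul_inv _), diagGL_mulVec_single,
    Matrix.smul_vecMul, single_vecMul_diagGL_inv, tm_smul_comm, smul_smul, smul_smul]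

theorem fixFrame_diag (d : Fin n → F) (hd : ∀ i, d i ≠ 0) :
    FixFrame (desc (conjGL (diagGL d hd))) := by
  intro i
  rw [map_conjGL_PA, map_conjGL_PH, diagGL_mulVec_single, single_vecMul_diagGL_inv]
  exact ⟨(PA_eq_of_par ⟨d i, hd i, rfl⟩).symm, (PH_eq_of_par ⟨(d i)⁻¹, inv_ne_zero (hd i), rfl⟩).symm⟩

theorem sig_ne_zero (hn : 3 ≤ n)
    {θ : ProjectiveSpecialLinearGroup (Fin n) F ≃* ProjectiveSpecialLinearGroup (Fin n) F}
    (h : FixFrame θ) (i j : Fin n) (hij : i ≠ j) {c : F} (hc : c ≠ 0) :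
    sig hn h i j hij c ≠ 0 := by
  intro h0
  apply hc
  apply sig_injective hn h i j hij
  rw [h0, sig_zero]

/-- second normalisation: make `θ` fix `E_{0j}(1)`. -/
theorem exists_diag (hn : 3 ≤ n)
    {θ : ProjectiveSpecialLinearGroup (Fin n) F ≃* ProjectiveSpecialLinearGroup (Fin n) F}
    (h : FixFrame θ) :
    ∃ D : GL (Fin n) F, FixFrame (θ.trans (desc (conjGL D))) ∧
      ∀ (j : Fin n) (hj : (⟨0, by omega⟩ : Fin n) ≠ j),
        (θ.trans (desc (conjGL D))) (pr (el ⟨0, by omega⟩ j hj 1)) = pr (el ⟨0, by omega⟩ j hj 1) := by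
  classical
  set z : Fin n := ⟨0, by omega⟩ with hz
  set d : Fin n → F := fun j => if hj : z = j then 1 else sig hn h z j hj 1 with hd
  have hd0 : ∀ j, d j ≠ 0 := by
    intro j
    simp only [hd]
    split_ifs with hj
    · exact one_ne_zero
    · exact sig_ne_zero hn h z j hj one_ne_zero
  refine ⟨diagGL d hd0, h.trans (fixFrame_diag d hd0), ?_⟩
  intro j hj
  rw [MulEquiv.trans_apply, sig_spec hn h]
  show desc _ (QuotientGroup.mk _) = _
  rw [desc_mk, conjGL_diag_el]
  have h1 : d z = 1 := by simp [hd]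
  have h2 : d j = sig hn h z j hj 1 := by simp only [hd]; rw [dif_neg hj]
  rw [h1, h2, one_mul, mul_inv_cancel₀ (sig_ne_zero hn h z j hj one_ne_zero)]
  rfl

end

section

open Matrix

variable {n : ℕ} {F : Type*} [Field F]

theorem fieldAut_el (σ : F ≃+* F) (i j : Fin n) (hij : i ≠ j) (c : F) :
    fieldAut σ (el i j hij c) = el i j hij (σ c) := by
  apply Subtype.ext
  rw [fieldAut_coe, el_coe, el_coe, map_tm]
  congr 1
  · funext k
    simp only [Pi.single_apply]
    split_ifs <;> simp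
  · funext k
    simp only [Pi.smul_apply, Pi.single_apply, smul_eq_mul]
    split_ifs <;> simp

/-- two automorphisms of `PSL` agreeing on the elementary transvections are equal -/
theorem eq_of_el [Fintype F] (hn : 2 ≤ n)
    {θ θ' : ProjectiveSpecialLinearGroup (Fin n) F ≃* ProjectiveSpecialLinearGroup (Fin n) F}
    (h : ∀ (i j : Fin n) (hij : i ≠ j) (c : F), θ (pr (el i j hij c)) = θ' (pr (el i j hij c))) :
    θ = θ' := by
  haveI : Nontrivial (Fin n) := Fin.nontrivial_iff_two_le.2 hn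
  ext x
  obtain ⟨s, rfl⟩ := QuotientGroup.mk'_surjective _ x
  refine Cfsg.Agent.Lib.H2.SL_transvection_induction
    (fun s => θ (pr s) = θ' (pr s)) ?_ ?_ s
  · intro i j hij c
    rw [← el_eq_transvection]
    exact h i j hij c
  · intro A B hA hB
    simp only [map_mul] at hA hB ⊢
    rw [hA, hB]

/-- extraction of the field automorphism -/
theorem exists_fieldAut [Fintype F] (hn : 3 ≤ n)
    {θ : ProjectiveSpecialLinearGroup (Fin n) F ≃* ProjectiveSpecialLinearGroup (Fin n) F}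
    (h : FixFrame θ)
    (h1 : ∀ (j : Fin n) (hj : (⟨0, by omega⟩ : Fin n) ≠ j),
      θ (pr (el ⟨0, by omega⟩ j hj 1)) = pr (el ⟨0, by omega⟩ j hj 1)) :
    ∃ σ : F ≃+* F, θ = desc (fieldAut σ) := by
  set z : Fin n := ⟨0, by omega⟩ with hz
  set o : Fin n := ⟨1, by omega⟩ with ho
  set t : Fin n := ⟨2, by omega⟩ with ht
  have hzo : z ≠ o := by intro h; simpa [hz, ho] using congrArg Fin.val h
  have hzt : z ≠ t := by intro h; simpa [hz, ht] using congrArg Fin.val h
  have hot : o ≠ t := by intro h; simpa [ho, ht] using congrArg Fin.val h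
  -- all λ are 1
  have l0 : ∀ (j : Fin n) (hj : z ≠ j), sig hn h z j hj 1 = 1 := by
    intro j hj
    apply pr_el_injective hn z j hj
    rw [← sig_spec, h1 j hj]
  have l1 : ∀ (j k : Fin n) (hj : z ≠ j) (hk : z ≠ k) (hjk : j ≠ k), sig hn h j k hjk 1 = 1 := by
    intro j k hj hk hjk
    have := sig_mul hn h hj hjk hk 1 1
    rw [mul_one, l0 k hk, l0 j hj, one_mul] at this
    exact this.symm
  have l2 : ∀ (j : Fin n) (hj : j ≠ z), sig hn h j z hj 1 = 1 := by
    intro j hj
    obtain ⟨k, hkz, hkj⟩ : ∃ k : Fin n, z ≠ k ∧ j ≠ k := by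
      by_cases hjo : j = o
      · exact ⟨t, hzt, by rw [hjo]; exact hot⟩
      · exact ⟨o, hzo, hjo⟩
    have := sig_mul hn h hj hkz hkj 1 1
    rw [mul_one, l1 j k hj.symm hkz hkj, l0 k hkz, mul_one] at this
    exact this.symm
  have lall : ∀ (i j : Fin n) (hij : i ≠ j), sig hn h i j hij 1 = 1 := by
    intro i j hij
    by_cases hi : i = z
    · subst hi; exact l0 j hij
    · by_cases hj : j = z
      · subst hj; exact l2 i hij
      · exact l1 i j (Ne.symm hi) (Ne.symm hj) hij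
  -- change of indices
  have eqA : ∀ (i j k : Fin n) (hij : i ≠ j) (hik : i ≠ k) (a : F),
      sig hn h i j hij a = sig hn h i k hik a := by
    intro i j k hij hik a
    by_cases hjk : j = k
    · subst hjk; rfl
    · have := sig_mul hn h hij hjk hik a 1
      rw [mul_one, lall j k hjk, mul_one] at this
      exact this.symm
  have eqB : ∀ (i j k : Fin n) (hik : i ≠ k) (hjk : j ≠ k) (b : F),
      sig hn h i k hik b = sig hn h j k hjk b := by
    intro i j k hik hjk b
    by_cases hij : i = j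
    · subst hij; rfl
    · have := sig_mul hn h hij hjk hik 1 b
      rw [one_mul, lall i j hij, one_mul] at this
      exact this
  have eqall : ∀ (i j : Fin n) (hij : i ≠ j) (a : F), sig hn h i j hij a = sig hn h z o hzo a := by
    intro i j hij a
    obtain ⟨m, hmi, hmz⟩ : ∃ m : Fin n, i ≠ m ∧ z ≠ m := by
      by_cases hio : i = o
      · exact ⟨t, by rw [hio]; exact hot, hzt⟩
      · exact ⟨o, hio, hzo⟩
    rw [eqA i j m hij hmi a, eqB i z m hmi hmz a, eqA z m o hmz hzo a]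
  set τ : F → F := sig hn h z o hzo with hτ
  set τ' : F → F := sig hn h.symm z o hzo with hτ'
  have hmul : ∀ a b, τ (a * b) = τ a * τ b := by
    intro a b
    have := sig_mul hn h hzo hot hzt a b
    rw [eqall z t hzt, eqall o t hot] at this
    exact this
  let σ : F ≃+* F :=
    { toFun := τ
      invFun := τ'
      left_inv := fun c => sig_symm hn h z o hzo c
      right_inv := fun c => sig_symm' hn h z o hzo c
      map_mul' := hmul
      map_add' := fun a b => sig_add hn h z o hzo a b }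
  refine ⟨σ, eq_of_el (by omega) ?_⟩
  intro i j hij c
  rw [sig_spec hn h, eqall i j hij c]
  show _ = desc (fieldAut σ) (QuotientGroup.mk _)
  rw [desc_mk, fieldAut_el]
  rfl

end

section

open Matrix

variable {n : ℕ} {F : Type*} [Field F] [Fintype F]

theorem main_typed (hn : 3 ≤ n)
    {θ : ProjectiveSpecialLinearGroup (Fin n) F ≃* ProjectiveSpecialLinearGroup (Fin n) F}
    (hP : ∀ v : Fin n → F, v ≠ 0 → IsPt ((PA v).map θ.toMonoidHom))
    (hH : ∀ φ : Fin n → F, φ ≠ 0 → IsHp ((PH φ).map θ.toMonoidHom)) :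
    ∃ (g : GL (Fin n) F) (σ : F ≃+* F), θ = (desc (fieldAut σ)).trans (desc (conjGL g)) := by
  obtain ⟨g₁, hg₁⟩ := exists_frame hn hP hH
  have hfix : FixFrame (θ.trans (desc (conjGL g₁⁻¹))) := by
    intro i
    rw [map_trans, map_trans, (hg₁ i).1, (hg₁ i).2, map_conjGL_PA, map_conjGL_PH, inv_inv,
      Matrix.mulVec_mulVec, gl_inv_mul, Matrix.one_mulVec, Matrix.vecMul_vecMul, gl_inv_mul,
      Matrix.vecMul_one]
    exact ⟨rfl, rfl⟩
  obtain ⟨D, hD, hD1⟩ := exists_diag hn hfix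
  obtain ⟨σ, hσ⟩ := exists_fieldAut hn hD hD1
  refine ⟨g₁ * D⁻¹, σ, ?_⟩
  ext x
  have h1 := DFunLike.congr_fun hσ x
  simp only [MulEquiv.trans_apply] at h1 ⊢
  rw [conjGL_mul, desc_trans, MulEquiv.trans_apply, ← h1, ← desc_conjGL_symm,
    MulEquiv.symm_apply_apply]
  have h2 := desc_conjGL_symm (g₁⁻¹ : GL (Fin n) F)
  rw [inv_inv] at h2
  rw [← h2, MulEquiv.symm_apply_apply]

/-- **Main theorem, `n ≥ 3`**: every automorphism of `PSL_n(F)` is a product of the (optional)
inverse transpose, a field automorphism and an inner-diagonal automorphism. -/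
theorem main3 (hn : 3 ≤ n) (p : ℕ) [Fact p.Prime] [CharP F p]
    (β : ProjectiveSpecialLinearGroup (Fin n) F ≃* ProjectiveSpecialLinearGroup (Fin n) F) :
    ∃ (g : GL (Fin n) F) (σ : F ≃+* F),
      β = (desc (fieldAut σ)).trans (desc (conjGL g)) ∨
      β = (desc invT).trans ((desc (fieldAut σ)).trans (desc (conjGL g))) := by
  have hβ : PresT β := presT hn p β
  rcases types hn hβ with ⟨hP, hH⟩ | ⟨hP, hH⟩
  · obtain ⟨g, σ, h⟩ := main_typed hn hP hH
    exact ⟨g, σ, Or.inl h⟩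
  · have hP' : ∀ v : Fin n → F, v ≠ 0 → IsPt ((PA v).map ((desc invT).trans β).toMonoidHom) := by
      intro v hv
      rw [map_trans, map_invT_PA]
      exact hH v hv
    have hH' : ∀ φ : Fin n → F, φ ≠ 0 → IsHp ((PH φ).map ((desc invT).trans β).toMonoidHom) := by
      intro φ hφ
      rw [map_trans, map_invT_PH]
      exact hP φ hφ
    obtain ⟨g, σ, h⟩ := main_typed hn hP' hH'
    refine ⟨g, σ, Or.inr ?_⟩
    rw [← h]
    ext x
    simp only [MulEquiv.trans_apply]
    congr 1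
    have := DFunLike.congr_fun (desc_invT_symm (n := n) (F := F)) (desc invT x)
    rw [MulEquiv.symm_apply_apply] at this
    exact this

end

end Cfsg.Agent.Lib.H13.AutPSL
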