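import Mathlib
import Cfsg.Agent.Lib.H13.AutPSLMain

/-!
Automorphisms of `PSL_2(F)`, `F` finite: `main2` (every automorphism is inner-diagonal ∘ field).
-/

set_option autoImplicit false
set_option linter.unusedSectionVars false
set_option linter.unusedVariables false
set_option linter.unusedSimpArgs false

namespace Cfsg.Agent.Lib.H13.AutPSL

section

open Matrix

variable {F : Type*} [Field F]

theorem trace_tm {n : ℕ} (v φ : Fin n → F) : (tm v φ).trace = n + φ ⬝ᵥ v := by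
  unfold tm
  rw [Matrix.trace_add, Matrix.trace_one, Matrix.trace_vecMulVec, Fintype.card_fin, dotProduct_comm]

/-- equality in `PSL_2` of two transvections forces equality of matrices -/
theorem tm_eq_of_mk_eq₂ {s s' : SpecialLinearGroup (Fin 2) F} {v ψ w φ : Fin 2 → F}
    (h : (pr s : ProjectiveSpecialLinearGroup (Fin 2) F) = pr s')
    (hs : (s : Matrix (Fin 2) (Fin 2) F) = tm v ψ) (hψ : ψ ⬝ᵥ v = 0)
    (hs' : (s' : Matrix (Fin 2) (Fin 2) F) = tm w φ) (hφ : φ ⬝ᵥ w = 0) : tm v ψ = tm w φ := by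
  obtain ⟨r, hr2, hr⟩ := (mk_eq_mk_iff s s').1 h
  rw [hs, hs'] at hr
  have h1 := congrArg Matrix.trace hr
  rw [Matrix.trace_smul, trace_tm, trace_tm, hψ, hφ, add_zero, smul_eq_mul] at h1
  have hr1 : r = 1 := by
    have h2 : (r - 1) * (r + 1) = 0 := by ring_nf; rw [hr2]; ring
    rcases mul_eq_zero.1 h2 with h3 | h3
    · exact sub_eq_zero.1 h3
    · have h4 : r = -1 := eq_neg_of_add_eq_zero_left h3
      rw [h4] at h1
      have h5 : ((2 : ℕ) : F) = 0 := by
        have : ((2 : ℕ) : F) * 2 = 0 := by push_cast; push_cast at h1; linear_combination h1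
        rcases mul_eq_zero.1 this with h6 | h6
        · exact h6
        · push_cast; exact h6
      push_cast at h5
      rw [h4]
      linear_combination -h5
  rw [hr1, one_smul] at hr
  exact hr.symm

theorem pr_el_injective₂ (i j : Fin 2) (hij : i ≠ j) {c c' : F}
    (h : (pr (el i j hij c) : ProjectiveSpecialLinearGroup (Fin 2) F) = pr (el i j hij c')) :
    c = c' := by
  have h1 := tm_eq_of_mk_eq₂ h (el_coe _ _ _ _) (single_dot_single hij c) (el_coe _ _ _ _)
    (single_dot_single hij c')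
  have h2 := congrFun (congrFun h1 i) j
  unfold tm at h2
  simpa [vecMulVec_apply, Matrix.one_apply_ne hij] using h2

theorem par_of_PA_le_PA₂ {v v' : Fin 2 → F} (hv : v ≠ 0)
    (h : PA v ≤ PA v') : Par v v' := by
  obtain ⟨ψ, hψ0, hψ⟩ := exists_perp (le_refl 2) v
  have h1 : pr (tv v ψ hψ) ∈ PA v' := h (mem_PA.2 ⟨ψ, hψ, rfl⟩)
  obtain ⟨ψ', hψ', h2⟩ := mem_PA.1 h1
  have h3 := tm_eq_of_mk_eq₂ h2 (tv_coe _ _ _) hψ (tv_coe _ _ _) hψ'
  rw [tm_eq_tm_iff] at h3
  obtain ⟨c, hc, h4, -⟩ := vecMulVec_eq_vecMulVec h3 hv hψ0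
  exact ⟨c, hc, h4⟩

/-- membership in `PA e_i` for `n = 2` -/
theorem mem_PA_single₂ (i j : Fin 2) (hij : i ≠ j) {x : ProjectiveSpecialLinearGroup (Fin 2) F} :
    x ∈ PA (Pi.single i 1) ↔ ∃ c : F, x = pr (el i j hij c) := by
  constructor
  · intro hx
    obtain ⟨ψ, hψ, rfl⟩ := mem_PA.1 hx
    refine ⟨ψ j, ?_⟩
    congr 1
    apply Subtype.ext
    rw [tv_coe, el_coe]
    congr 1
    rw [dotProduct_single, mul_one] at hψ
    funext k
    rw [Pi.smul_apply, Pi.single_apply, smul_eq_mul]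
    fin_cases i <;> fin_cases j <;> fin_cases k <;> simp_all
  · rintro ⟨c, rfl⟩
    exact Subgroup.mem_map_of_mem _ ⟨_, single_dot_single hij c, rfl⟩

theorem par_of_det_eq_zero {u w : Fin 2 → F} (hu : u ≠ 0) (hw : w ≠ 0)
    (h : u 0 * w 1 - u 1 * w 0 = 0) : Par u w := by
  by_cases hu0 : u 0 = 0
  · have hu1 : u 1 ≠ 0 := by
      intro h1
      apply hu
      funext k
      fin_cases k
      · exact hu0
      · exact h1
    have hw0 : w 0 = 0 := by
      rw [hu0, zero_mul, zero_sub, neg_eq_zero] at h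
      rcases mul_eq_zero.1 h with h1 | h1
      · exact absurd h1 hu1
      · exact h1
    have hw1 : w 1 ≠ 0 := by
      intro h1
      apply hw
      funext k
      fin_cases k
      · exact hw0
      · exact h1
    refine ⟨w 1 / u 1, div_ne_zero hw1 hu1, ?_⟩
    funext k
    fin_cases k
    · simp [hu0, hw0]
    · simp; field_simp
  · have hc : w 0 / u 0 ≠ 0 ∨ w 0 = 0 := by
      by_cases h0 : w 0 = 0
      · exact Or.inr h0
      · exact Or.inl (div_ne_zero h0 hu0)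
    have hw1 : w 1 = w 0 / u 0 * u 1 := by
      field_simp
      linear_combination h
    rcases hc with hc | hc
    · refine ⟨w 0 / u 0, hc, ?_⟩
      funext k
      fin_cases k
      · simp; field_simp
      · simpa using hw1
    · exfalso
      apply hw
      funext k
      fin_cases k
      · exact hc
      · simp only [Fin.mk_one, Fin.isValue, Pi.zero_apply]
        rw [hw1, hc, zero_div, zero_mul]

end

section

open Matrix

variable {F : Type*} [Field F]

theorem UT_eq_Av₂ [Fintype F] :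
    (UT : Subgroup (SpecialLinearGroup (Fin 2) F)) = Av (Pi.single 0 1) := by
  ext s
  rw [mem_UT, mem_Av]
  constructor
  · rintro ⟨h1, h2⟩
    refine ⟨![0, (s : Matrix (Fin 2) (Fin 2) F) 0 1], ?_, ?_⟩
    · simp [dotProduct_single]
    · ext i j
      unfold tm
      rw [Matrix.add_apply, vecMulVec_apply, Pi.single_apply]
      fin_cases i <;> fin_cases j
      · simpa using h2 0
      · simp
      · simpa using h1 1 0 (by decide)
      · simpa using h2 1
  · rintro ⟨ψ, hψ, hs⟩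
    rw [dotProduct_single, mul_one] at hψ
    rw [hs]
    constructor
    · intro i j hji
      unfold tm
      rw [Matrix.add_apply, vecMulVec_apply, Pi.single_apply]
      fin_cases i <;> fin_cases j <;> simp_all
    · intro i
      unfold tm
      rw [Matrix.add_apply, vecMulVec_apply, Pi.single_apply]
      fin_cases i <;> simp_all

theorem conj_eq_desc {n : ℕ} (t : SpecialLinearGroup (Fin n) F)
    (y : ProjectiveSpecialLinearGroup (Fin n) F) :
    desc (conjGL (Matrix.SpecialLinearGroup.toGL t)) y = pr t * y * (pr t)⁻¹ := by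
  obtain ⟨s, rfl⟩ := QuotientGroup.mk'_surjective _ y
  show desc _ (QuotientGroup.mk s) = _
  rw [desc_mk, ← map_inv, ← map_mul, ← map_mul]
  congr 1

section fin
variable [Fintype F] {p : ℕ} [Fact p.Prime] [CharP F p]

theorem UTbar_eq_PA₂ :
    (UTbar : Subgroup (ProjectiveSpecialLinearGroup (Fin 2) F)) = PA (Pi.single 0 1) := by
  unfold UTbar PA
  rw [UT_eq_Av₂]

/-- `S` is a Sylow `p`-subgroup -/
def IsSyl (p : ℕ) {G : Type*} [Group G] (S : Subgroup G) : Prop :=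
  ∃ P : Sylow p G, P.toSubgroup = S

omit [Fintype F] [CharP F p] in
theorem isSyl_map {G : Type*} [Group G] [Finite G] (θ : G ≃* G) {S : Subgroup G}
    (h : IsSyl p S) : IsSyl p (S.map θ.toMonoidHom) := by
  obtain ⟨P, rfl⟩ := h
  have hsurj : Function.Surjective θ.toMonoidHom := θ.surjective
  exact ⟨P.mapSurjective hsurj, Sylow.coe_mapSurjective hsurj P⟩

theorem exists_PA_of_isSyl₂ {S : Subgroup (ProjectiveSpecialLinearGroup (Fin 2) F)}
    (h : IsSyl p S) : ∃ v : Fin 2 → F, v ≠ 0 ∧ S = PA v := by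
  obtain ⟨P, rfl⟩ := h
  obtain ⟨g, hg⟩ := exists_conj_sylU P
  obtain ⟨t, rfl⟩ := QuotientGroup.mk'_surjective _ g
  refine ⟨(t : Matrix (Fin 2) (Fin 2) F) *ᵥ Pi.single 0 1, ?_, ?_⟩
  · intro h0
    have := congrArg (fun y => ((t⁻¹ : SpecialLinearGroup (Fin 2) F) : Matrix (Fin 2) (Fin 2) F) *ᵥ y) h0
    rw [Matrix.mulVec_mulVec, ← Matrix.SpecialLinearGroup.coe_mul, inv_mul_cancel,
      Matrix.SpecialLinearGroup.coe_one, Matrix.one_mulVec, Matrix.mulVec_zero] at this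
    have h2 := congrFun this 0
    simp at h2
  · have h1 := map_conjGL_PA (Matrix.SpecialLinearGroup.toGL t) (Pi.single 0 (1 : F))
    rw [Matrix.SpecialLinearGroup.coe_GL_coe_matrix] at h1
    rw [← h1, ← UTbar_eq_PA₂]
    ext x
    rw [Subgroup.mem_map]
    constructor
    · intro hx
      refine ⟨_, (hg x).1 hx, ?_⟩
      show desc _ _ = _
      rw [conj_eq_desc]
      show QuotientGroup.mk' _ t * _ * _ = _
      group
    · rintro ⟨y, hy, rfl⟩
      change _ ∈ P
      rw [hg]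
      show _ * desc _ _ * _ ∈ _
      rw [conj_eq_desc]
      have : (QuotientGroup.mk' _ t)⁻¹ * (pr t * y * (pr t)⁻¹) * (QuotientGroup.mk' _ t) = y := by
        show (pr t)⁻¹ * (pr t * y * (pr t)⁻¹) * pr t = y
        group
      rw [this]
      exact hy

/-- an invertible matrix with prescribed first column -/
theorem exists_gl_col₂ {v : Fin 2 → F} (hv : v ≠ 0) :
    ∃ g : GL (Fin 2) F, (g : Matrix (Fin 2) (Fin 2) F) *ᵥ Pi.single 0 1 = v := by
  classical
  set M : Matrix (Fin 2) (Fin 2) F :=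
    !![v 0, if v 0 = 0 then 1 else 0; v 1, if v 0 = 0 then 0 else 1] with hM
  have hdet : M.det ≠ 0 := by
    rw [hM, Matrix.det_fin_two_of]
    by_cases h0 : v 0 = 0
    · simp only [h0, if_true]
      have hv1 : v 1 ≠ 0 := by
        intro h1
        apply hv
        funext k
        fin_cases k
        · exact h0
        · exact h1
      simpa using hv1
    · simp only [h0, if_false]
      simpa using h0
  refine ⟨Matrix.GeneralLinearGroup.mkOfDetNeZero M hdet, ?_⟩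
  show M *ᵥ _ = v
  rw [Matrix.mulVec_single_one]
  funext k
  fin_cases k <;> simp [hM]

theorem isSyl_PA₂ {v : Fin 2 → F} (hv : v ≠ 0) :
    IsSyl p (PA v : Subgroup (ProjectiveSpecialLinearGroup (Fin 2) F)) := by
  obtain ⟨g, hg⟩ := exists_gl_col₂ hv
  rw [← hg, ← map_conjGL_PA, ← UTbar_eq_PA₂]
  exact isSyl_map _ ⟨sylU p, coe_sylU⟩

theorem single_zero_not_par_single_one : ¬ Par (Pi.single 0 1 : Fin 2 → F) (Pi.single 1 1) := by
  rintro ⟨c, -, h⟩
  have := congrFun h 1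
  simp at this

/-- frame normalisation for `n = 2` -/
theorem exists_frame₂ (p : ℕ) [Fact p.Prime] [CharP F p]
    (θ : ProjectiveSpecialLinearGroup (Fin 2) F ≃* ProjectiveSpecialLinearGroup (Fin 2) F) :
    ∃ g : GL (Fin 2) F, ∀ i : Fin 2,
      (PA (Pi.single i 1)).map θ.toMonoidHom = PA ((g : Matrix (Fin 2) (Fin 2) F) *ᵥ Pi.single i 1) := by
  obtain ⟨u₀, hu₀0, hu₀⟩ := exists_PA_of_isSyl₂ (isSyl_map θ (isSyl_PA₂ (p := p) (single_ne_zero' (0 : Fin 2))))
  obtain ⟨u₁, hu₁0, hu₁⟩ := exists_PA_of_isSyl₂ (isSyl_map θ (isSyl_PA₂ (p := p) (single_ne_zero' (1 : Fin 2))))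
  set M : Matrix (Fin 2) (Fin 2) F := !![u₀ 0, u₁ 0; u₀ 1, u₁ 1] with hM
  have hdet : M.det ≠ 0 := by
    rw [hM, Matrix.det_fin_two_of]
    intro h0
    have hp := par_of_det_eq_zero hu₀0 hu₁0 (by linear_combination h0)
    rw [PA_eq_of_par hp, ← hu₁] at hu₀
    have := map_equiv_injective θ hu₀
    exact single_zero_not_par_single_one (par_of_PA_le_PA₂ (single_ne_zero' 0) this.le)
  refine ⟨Matrix.GeneralLinearGroup.mkOfDetNeZero M hdet, ?_⟩
  rw [Fin.forall_fin_two]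
  constructor
  · show _ = PA (M *ᵥ _)
    rw [Matrix.mulVec_single_one, hu₀]
    congr 1
    funext k
    fin_cases k <;> simp [hM]
  · show _ = PA (M *ᵥ _)
    rw [Matrix.mulVec_single_one, hu₁]
    congr 1
    funext k
    fin_cases k <;> simp [hM]

end fin

end

section

open Matrix

variable {F : Type*} [Field F]

/-- `θ` fixes the two standard points of the projective line -/
def FixFrame₂ (θ : ProjectiveSpecialLinearGroup (Fin 2) F ≃* ProjectiveSpecialLinearGroup (Fin 2) F) : Prop :=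
  ∀ i : Fin 2, (PA (Pi.single i 1)).map θ.toMonoidHom = PA (Pi.single i 1)

theorem FixFrame₂.symm {θ : ProjectiveSpecialLinearGroup (Fin 2) F ≃* ProjectiveSpecialLinearGroup (Fin 2) F}
    (h : FixFrame₂ θ) : FixFrame₂ θ.symm := by
  intro i
  conv_lhs => rw [← h i]
  rw [map_symm_map]

theorem FixFrame₂.trans {θ θ' : ProjectiveSpecialLinearGroup (Fin 2) F ≃* ProjectiveSpecialLinearGroup (Fin 2) F}
    (h : FixFrame₂ θ) (h' : FixFrame₂ θ') : FixFrame₂ (θ.trans θ') := by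
  intro i
  rw [map_trans, h i, h' i]

theorem FixFrame₂.el
    {θ : ProjectiveSpecialLinearGroup (Fin 2) F ≃* ProjectiveSpecialLinearGroup (Fin 2) F}
    (h : FixFrame₂ θ) (i j : Fin 2) (hij : i ≠ j) (c : F) :
    ∃ c' : F, θ (pr (el i j hij c)) = pr (el i j hij c') := by
  have h1 : θ (pr (Cfsg.Agent.Lib.H13.AutPSL.el i j hij c)) ∈ PA (Pi.single i 1) := by
    rw [← h i]
    exact Subgroup.mem_map_of_mem _ ((mem_PA_single₂ i j hij).2 ⟨c, rfl⟩)
  exact (mem_PA_single₂ i j hij).1 h1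

noncomputable def sig₂
    {θ : ProjectiveSpecialLinearGroup (Fin 2) F ≃* ProjectiveSpecialLinearGroup (Fin 2) F}
    (h : FixFrame₂ θ) (i j : Fin 2) (hij : i ≠ j) (c : F) : F :=
  Classical.choose (h.el i j hij c)

theorem sig₂_spec
    {θ : ProjectiveSpecialLinearGroup (Fin 2) F ≃* ProjectiveSpecialLinearGroup (Fin 2) F}
    (h : FixFrame₂ θ) (i j : Fin 2) (hij : i ≠ j) (c : F) :
    θ (pr (el i j hij c)) = pr (el i j hij (sig₂ h i j hij c)) :=
  Classical.choose_spec (h.el i j hij c)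

theorem sig₂_add
    {θ : ProjectiveSpecialLinearGroup (Fin 2) F ≃* ProjectiveSpecialLinearGroup (Fin 2) F}
    (h : FixFrame₂ θ) (i j : Fin 2) (hij : i ≠ j) (c d : F) :
    sig₂ h i j hij (c + d) = sig₂ h i j hij c + sig₂ h i j hij d := by
  apply pr_el_injective₂ i j hij
  rw [← sig₂_spec, el_add, map_mul, map_mul, sig₂_spec h, sig₂_spec h, el_add, map_mul]

theorem sig₂_zero
    {θ : ProjectiveSpecialLinearGroup (Fin 2) F ≃* ProjectiveSpecialLinearGroup (Fin 2) F}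
    (h : FixFrame₂ θ) (i j : Fin 2) (hij : i ≠ j) : sig₂ h i j hij 0 = 0 := by
  have := sig₂_add h i j hij 0 0
  rw [add_zero] at this
  exact left_eq_add.1 this

theorem sig₂_neg
    {θ : ProjectiveSpecialLinearGroup (Fin 2) F ≃* ProjectiveSpecialLinearGroup (Fin 2) F}
    (h : FixFrame₂ θ) (i j : Fin 2) (hij : i ≠ j) (c : F) :
    sig₂ h i j hij (-c) = - sig₂ h i j hij c := by
  have := sig₂_add h i j hij c (-c)
  rw [add_neg_cancel, sig₂_zero] at this
  exact (neg_eq_of_add_eq_zero_right this.symm).symm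

theorem sig₂_symm
    {θ : ProjectiveSpecialLinearGroup (Fin 2) F ≃* ProjectiveSpecialLinearGroup (Fin 2) F}
    (h : FixFrame₂ θ) (i j : Fin 2) (hij : i ≠ j) (c : F) :
    sig₂ h.symm i j hij (sig₂ h i j hij c) = c := by
  apply pr_el_injective₂ i j hij
  rw [← sig₂_spec, ← sig₂_spec, MulEquiv.symm_apply_apply]

theorem sig₂_symm'
    {θ : ProjectiveSpecialLinearGroup (Fin 2) F ≃* ProjectiveSpecialLinearGroup (Fin 2) F}
    (h : FixFrame₂ θ) (i j : Fin 2) (hij : i ≠ j) (c : F) :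
    sig₂ h i j hij (sig₂ h.symm i j hij c) = c := by
  apply pr_el_injective₂ i j hij
  rw [← sig₂_spec, ← sig₂_spec, MulEquiv.apply_symm_apply]

theorem sig₂_injective
    {θ : ProjectiveSpecialLinearGroup (Fin 2) F ≃* ProjectiveSpecialLinearGroup (Fin 2) F}
    (h : FixFrame₂ θ) (i j : Fin 2) (hij : i ≠ j) : Function.Injective (sig₂ h i j hij) :=
  Function.LeftInverse.injective (sig₂_symm h i j hij)

theorem sig₂_ne_zero
    {θ : ProjectiveSpecialLinearGroup (Fin 2) F ≃* ProjectiveSpecialLinearGroup (Fin 2) F}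
    (h : FixFrame₂ θ) (i j : Fin 2) (hij : i ≠ j) {c : F} (hc : c ≠ 0) :
    sig₂ h i j hij c ≠ 0 := by
  intro h0
  apply hc
  apply sig₂_injective h i j hij
  rw [h0, sig₂_zero]

/-! ### explicit matrices -/

theorem h01 : (0 : Fin 2) ≠ 1 := by decide
theorem h10 : (1 : Fin 2) ≠ 0 := by decide

theorem el01_coe (a : F) :
    ((el 0 1 h01 a : SpecialLinearGroup (Fin 2) F) : Matrix (Fin 2) (Fin 2) F) = !![1, a; 0, 1] := by
  rw [el_coe_single]
  ext i j
  fin_cases i <;> fin_cases j <;> simp [Matrix.single_apply]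

theorem el10_coe (b : F) :
    ((el 1 0 h10 b : SpecialLinearGroup (Fin 2) F) : Matrix (Fin 2) (Fin 2) F) = !![1, 0; b, 1] := by
  rw [el_coe_single]
  ext i j
  fin_cases i <;> fin_cases j <;> simp [Matrix.single_apply]

/-- the product `u(a) l(b) u(a')` -/
def mm (a b a' : F) : SpecialLinearGroup (Fin 2) F := el 0 1 h01 a * el 1 0 h10 b * el 0 1 h01 a'

theorem mat2_ext {a b c d a' b' c' d' : F} (h1 : a = a') (h2 : b = b') (h3 : c = c') (h4 : d = d') :
    !![a, b; c, d] = !![a', b'; c', d'] := by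
  subst h1 h2 h3 h4; rfl

theorem mm_coe (a b a' : F) :
    ((mm a b a' : SpecialLinearGroup (Fin 2) F) : Matrix (Fin 2) (Fin 2) F) =
      !![1 + a * b, (1 + a * b) * a' + a; b, b * a' + 1] := by
  unfold mm
  rw [Matrix.SpecialLinearGroup.coe_mul, Matrix.SpecialLinearGroup.coe_mul, el01_coe, el10_coe,
    el01_coe, Matrix.mul_fin_two, Matrix.mul_fin_two]
  apply mat2_ext <;> ring

/-- the Weyl relation `w(b) u(c) = l(-b² c) w(b)` -/
theorem weyl_rel {b : F} (hb : b ≠ 0) (c : F) :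
    mm (-b⁻¹) b (-b⁻¹) * el 0 1 h01 c = el 1 0 h10 (-(b ^ 2 * c)) * mm (-b⁻¹) b (-b⁻¹) := by
  apply Subtype.ext
  rw [Matrix.SpecialLinearGroup.coe_mul, Matrix.SpecialLinearGroup.coe_mul, mm_coe, el01_coe, el10_coe,
    Matrix.mul_fin_two, Matrix.mul_fin_two]
  apply mat2_ext <;> field_simp <;> ring

/-- compatibility of conjugation with an automorphism -/
theorem map_conj_compat
    (θ : ProjectiveSpecialLinearGroup (Fin 2) F ≃* ProjectiveSpecialLinearGroup (Fin 2) F)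
    {t t' : SpecialLinearGroup (Fin 2) F} (h : θ (pr t) = pr t')
    (S : Subgroup (ProjectiveSpecialLinearGroup (Fin 2) F)) :
    (S.map (desc (conjGL (Matrix.SpecialLinearGroup.toGL t))).toMonoidHom).map θ.toMonoidHom =
      (S.map θ.toMonoidHom).map (desc (conjGL (Matrix.SpecialLinearGroup.toGL t'))).toMonoidHom := by
  ext x
  simp only [Subgroup.mem_map]
  constructor
  · rintro ⟨y, ⟨z, hz, rfl⟩, rfl⟩
    refine ⟨θ z, ⟨z, hz, rfl⟩, ?_⟩
    show desc _ (θ z) = θ (desc _ z)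
    rw [conj_eq_desc, conj_eq_desc, map_mul, map_mul, map_inv, h]
  · rintro ⟨y, ⟨z, hz, rfl⟩, rfl⟩
    refine ⟨desc (conjGL (Matrix.SpecialLinearGroup.toGL t)) z, ⟨z, hz, rfl⟩, ?_⟩
    show θ (desc _ z) = desc _ (θ z)
    rw [conj_eq_desc, conj_eq_desc, map_mul, map_mul, map_inv, h]

theorem swap_compat
    {θ : ProjectiveSpecialLinearGroup (Fin 2) F ≃* ProjectiveSpecialLinearGroup (Fin 2) F}
    (hθ : FixFrame₂ θ) {t t' : SpecialLinearGroup (Fin 2) F} (h : θ (pr t) = pr t') (i j : Fin 2)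
    (hij : PA ((t : Matrix (Fin 2) (Fin 2) F) *ᵥ Pi.single i 1) = PA (Pi.single j 1)) :
    PA ((t' : Matrix (Fin 2) (Fin 2) F) *ᵥ Pi.single i 1) = PA (Pi.single j 1) := by
  have h1 := map_conjGL_PA (Matrix.SpecialLinearGroup.toGL t') (Pi.single i (1 : F))
  have h2 := map_conjGL_PA (Matrix.SpecialLinearGroup.toGL t) (Pi.single i (1 : F))
  rw [Matrix.SpecialLinearGroup.coe_GL_coe_matrix] at h1 h2
  rw [← h1, ← hθ i, ← map_conj_compat θ h, h2, hij, hθ j]

/-- relation R1 -/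
theorem rel1
    {θ : ProjectiveSpecialLinearGroup (Fin 2) F ≃* ProjectiveSpecialLinearGroup (Fin 2) F}
    (hθ : FixFrame₂ θ) {b : F} (hb : b ≠ 0) :
    1 + sig₂ hθ 0 1 h01 (-b⁻¹) * sig₂ hθ 1 0 h10 b = 0 := by
  have hθt : θ (pr (mm (-b⁻¹) b (-b⁻¹))) =
      pr (mm (sig₂ hθ 0 1 h01 (-b⁻¹)) (sig₂ hθ 1 0 h10 b) (sig₂ hθ 0 1 h01 (-b⁻¹))) := by
    unfold mm
    simp only [map_mul]
    rw [sig₂_spec hθ, sig₂_spec hθ]
  have h1 : PA (((mm (-b⁻¹) b (-b⁻¹) : SpecialLinearGroup (Fin 2) F) : Matrix (Fin 2) (Fin 2) F) *ᵥ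
      Pi.single 0 1) = PA (Pi.single 1 1) := by
    have hcol : ((mm (-b⁻¹) b (-b⁻¹) : SpecialLinearGroup (Fin 2) F) : Matrix (Fin 2) (Fin 2) F) *ᵥ
        Pi.single 0 1 = ![0, b] := by
      rw [mm_coe, Matrix.mulVec_single_one]
      funext k
      fin_cases k
      · show 1 + -b⁻¹ * b = 0
        field_simp
        ring
      · rfl
    rw [hcol]
    apply PA_eq_of_par
    refine ⟨b⁻¹, inv_ne_zero hb, ?_⟩
    funext k
    fin_cases k <;> simp [hb]
  have h2 := swap_compat hθ hθt 0 1 h1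
  have h3 := par_of_PA_le_PA₂ (by
    intro h0
    have := congrFun h0 1
    rw [mm_coe, Matrix.mulVec_single_one] at this
    simp at this
    exact sig₂_ne_zero hθ 1 0 h10 hb this) h2.le
  obtain ⟨c, hc0, hc⟩ := h3
  have h4 := congrFun hc 0
  rw [mm_coe, Matrix.mulVec_single_one] at h4
  simp at h4
  rcases h4 with h4 | h4
  · exact absurd h4 hc0
  · exact h4

end

section

open Matrix

variable {F : Type*} [Field F]

theorem theta_mm
    {θ : ProjectiveSpecialLinearGroup (Fin 2) F ≃* ProjectiveSpecialLinearGroup (Fin 2) F}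
    (hθ : FixFrame₂ θ) {b : F} (hb : b ≠ 0) :
    θ (pr (mm (-b⁻¹) b (-b⁻¹))) =
      pr (mm (-(sig₂ hθ 1 0 h10 b)⁻¹) (sig₂ hθ 1 0 h10 b) (-(sig₂ hθ 1 0 h10 b)⁻¹)) := by
  have hρ := sig₂_ne_zero hθ 1 0 h10 hb
  have h1 := rel1 hθ hb
  have h2 : sig₂ hθ 0 1 h01 (-b⁻¹) = -(sig₂ hθ 1 0 h10 b)⁻¹ := by
    have h3 : sig₂ hθ 0 1 h01 (-b⁻¹) * sig₂ hθ 1 0 h10 b = -1 := by linear_combination h1
    calc sig₂ hθ 0 1 h01 (-b⁻¹)
        = sig₂ hθ 0 1 h01 (-b⁻¹) * sig₂ hθ 1 0 h10 b * (sig₂ hθ 1 0 h10 b)⁻¹ := by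
          rw [mul_assoc, mul_inv_cancel₀ hρ, mul_one]
      _ = -(sig₂ hθ 1 0 h10 b)⁻¹ := by rw [h3]; ring
  unfold mm
  simp only [map_mul]
  rw [sig₂_spec hθ, sig₂_spec hθ, h2]

theorem rel3
    {θ : ProjectiveSpecialLinearGroup (Fin 2) F ≃* ProjectiveSpecialLinearGroup (Fin 2) F}
    (hθ : FixFrame₂ θ) {b : F} (hb : b ≠ 0) (c : F) :
    sig₂ hθ 1 0 h10 (-(b ^ 2 * c)) = -((sig₂ hθ 1 0 h10 b) ^ 2 * sig₂ hθ 0 1 h01 c) := by
  have hρ := sig₂_ne_zero hθ 1 0 h10 hb
  apply pr_el_injective₂ 1 0 h10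
  have h1 := congrArg (fun s => θ (pr s)) (weyl_rel hb c)
  simp only [map_mul] at h1
  rw [theta_mm hθ hb, sig₂_spec hθ, sig₂_spec hθ] at h1
  have h2 := congrArg (fun s => (pr s : ProjectiveSpecialLinearGroup (Fin 2) F))
    (weyl_rel hρ (sig₂ hθ 0 1 h01 c))
  simp only [map_mul] at h2
  rw [h2] at h1
  exact (mul_right_cancel h1).symm

/-- extraction of the field automorphism for `n = 2` -/
theorem exists_fieldAut₂ [Fintype F]
    {θ : ProjectiveSpecialLinearGroup (Fin 2) F ≃* ProjectiveSpecialLinearGroup (Fin 2) F}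
    (hθ : FixFrame₂ θ) (h1 : θ (pr (el 0 1 h01 1)) = pr (el 0 1 h01 1)) :
    ∃ σ : F ≃+* F, θ = desc (fieldAut σ) := by
  set σ : F → F := sig₂ hθ 0 1 h01 with hσ
  set ρ : F → F := sig₂ hθ 1 0 h10 with hρ
  have σ1 : σ 1 = 1 := by
    apply pr_el_injective₂ 0 1 h01
    rw [hσ, ← sig₂_spec, h1]
  have σ0 : σ 0 = 0 := sig₂_zero hθ 0 1 h01
  have σneg : ∀ c, σ (-c) = -σ c := sig₂_neg hθ 0 1 h01
  have ρneg : ∀ c, ρ (-c) = -ρ c := sig₂_neg hθ 1 0 h10
  have σadd : ∀ c d, σ (c + d) = σ c + σ d := sig₂_add hθ 0 1 h01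
  have ρ1 : ρ 1 = 1 := by
    have := rel1 hθ (one_ne_zero (α := F))
    rw [inv_one] at this
    change 1 + σ (-1) * ρ 1 = 0 at this
    rw [σneg, σ1] at this
    linear_combination -this
  have ρσ : ∀ c, ρ c = σ c := by
    intro c
    have := rel3 hθ (one_ne_zero (α := F)) c
    change ρ (-(1 ^ 2 * c)) = -(ρ 1 ^ 2 * σ c) at this
    rw [ρ1, one_pow, one_mul, one_mul, ρneg] at this
    exact neg_injective this
  have sq : ∀ b c, σ (b ^ 2 * c) = σ b ^ 2 * σ c := by
    intro b c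
    by_cases hb : b = 0
    · rw [hb, σ0]; simp [σ0]
    · have := rel3 hθ hb c
      change ρ (-(b ^ 2 * c)) = -(ρ b ^ 2 * σ c) at this
      rw [ρneg, ρσ, ρσ] at this
      exact neg_injective this
  have sq1 : ∀ b, σ (b ^ 2) = σ b ^ 2 := by
    intro b
    have := sq b 1
    rw [mul_one, σ1, mul_one] at this
    exact this
  have hmul : ∀ y c, σ (y * c) = σ y * σ c := by
    intro y c
    by_cases h2 : (2 : F) = 0
    · have hchar : ringChar F = 2 :=
        CharP.ringChar_of_prime_eq_zero Nat.prime_two (by exact_mod_cast h2)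
      obtain ⟨z, hz⟩ := FiniteField.isSquare_of_char_two hchar y
      rw [hz, ← pow_two, sq, sq1]
    · have e1 := sq (y + 1) c
      have e2 : (y + 1) ^ 2 * c = y ^ 2 * c + (y * c + y * c) + c := by ring
      rw [e2, σadd, σadd, σadd, sq, σadd, σ1] at e1
      have e3 : (2 : F) * σ (y * c) = 2 * (σ y * σ c) := by linear_combination e1
      exact mul_left_cancel₀ h2 e3
  let τ : F ≃+* F :=
    { toFun := σ
      invFun := sig₂ hθ.symm 0 1 h01
      left_inv := fun c => sig₂_symm hθ 0 1 h01 c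
      right_inv := fun c => sig₂_symm' hθ 0 1 h01 c
      map_mul' := hmul
      map_add' := σadd }
  refine ⟨τ, eq_of_el (le_refl 2) ?_⟩
  intro i j hij c
  show _ = desc (fieldAut τ) (QuotientGroup.mk _)
  rw [desc_mk, fieldAut_el]
  have key : ∀ i j : Fin 2, i ≠ j → (i = 0 ∧ j = 1) ∨ (i = 1 ∧ j = 0) := by decide
  rcases key i j hij with ⟨rfl, rfl⟩ | ⟨rfl, rfl⟩
  · exact sig₂_spec hθ 0 1 h01 c
  · rw [sig₂_spec hθ 1 0 hij c]
    show pr (el 1 0 hij (ρ c)) = pr (el 1 0 hij (σ c))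
    rw [ρσ]

/-- **Main theorem, `n = 2`** -/
theorem main2 [Fintype F] (p : ℕ) [Fact p.Prime] [CharP F p]
    (β : ProjectiveSpecialLinearGroup (Fin 2) F ≃* ProjectiveSpecialLinearGroup (Fin 2) F) :
    ∃ (g : GL (Fin 2) F) (σ : F ≃+* F), β = (desc (fieldAut σ)).trans (desc (conjGL g)) := by
  classical
  obtain ⟨g₁, hg₁⟩ := exists_frame₂ p β
  have hfix : FixFrame₂ (β.trans (desc (conjGL g₁⁻¹))) := by
    intro i
    rw [map_trans, hg₁ i, map_conjGL_PA, Matrix.mulVec_mulVec, gl_inv_mul, Matrix.one_mulVec]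
  have hl0 := sig₂_ne_zero hfix 0 1 h01 (one_ne_zero (α := F))
  set l := sig₂ hfix 0 1 h01 1 with hl
  set d : Fin 2 → F := ![1, l] with hd
  have hd0 : ∀ i, d i ≠ 0 := by
    intro i
    fin_cases i
    · simp [hd]
    · simpa [hd] using hl0
  have hfixD : FixFrame₂ (desc (conjGL (diagGL d hd0))) := fun i => (fixFrame_diag d hd0 i).1
  have hfix2 := hfix.trans hfixD
  have h1 : ((β.trans (desc (conjGL g₁⁻¹))).trans (desc (conjGL (diagGL d hd0)))) (pr (el 0 1 h01 1)) =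
      pr (el 0 1 h01 1) := by
    rw [MulEquiv.trans_apply, sig₂_spec hfix]
    show desc _ (QuotientGroup.mk _) = _
    rw [desc_mk, conjGL_diag_el]
    have e1 : d 0 = 1 := by simp [hd]
    have e2 : d 1 = l := by simp [hd]
    rw [e1, e2, one_mul, ← hl, mul_inv_cancel₀ hl0]
    rfl
  obtain ⟨σ, hσ⟩ := exists_fieldAut₂ hfix2 h1
  refine ⟨g₁ * (diagGL d hd0)⁻¹, σ, ?_⟩
  ext x
  have h2 := DFunLike.congr_fun hσ x
  simp only [MulEquiv.trans_apply] at h2 ⊢
  rw [conjGL_mul, desc_trans, MulEquiv.trans_apply, ← h2, ← desc_conjGL_symm,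
    MulEquiv.symm_apply_apply]
  have h3 := desc_conjGL_symm (g₁⁻¹ : GL (Fin 2) F)
  rw [inv_inv] at h3
  rw [← h3, MulEquiv.symm_apply_apply]

end

end Cfsg.Agent.Lib.H13.AutPSL
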