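import Mathlib
import Cfsg.Agent.Lib.H13.AutPSLTwo
import Cfsg.Prelude.Def_KGroupFacts

/-!
Structure of `Aut(PSL_n(F))`, `F` finite: the homomorphisms `cGL`, `fAut`, the inverse transpose `tAut`, uniqueness of the
factorisation, the homomorphisms `psi3 : Aut(PSL_n) → Aut(F) × Z/2` (`n ≥ 3`) and `psi2 : Aut(PSL_2) → Aut(F)` with kernel the
inner-diagonal automorphisms, `Aut(F) ≅ Z/f`, the order of `Aut(PSL_n(q))` and the structure of `Out(PSL_n(q))`.
-/

set_option autoImplicit false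
set_option linter.unusedSectionVars false
set_option linter.unusedVariables false
set_option linter.unusedSimpArgs false

namespace Cfsg.Agent.Lib.H13.AutPSL

section

open Matrix

variable {n : ℕ} {F : Type*} [Field F]

theorem desc_refl :
    desc (MulEquiv.refl (SpecialLinearGroup (Fin n) F)) = MulEquiv.refl _ := by
  ext x
  induction x using QuotientGroup.induction_on with
  | H s => simp [desc_mk]

/-- the inner-diagonal homomorphism `GL_n(F) → Aut(PSL_n(F))` -/
noncomputable def cGL : GL (Fin n) F →* MulAut (ProjectiveSpecialLinearGroup (Fin n) F) where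
  toFun g := desc (conjGL g)
  map_one' := by rw [conjGL_one, desc_refl]; rfl
  map_mul' g h := by rw [conjGL_mul, desc_trans]; rfl

theorem cGL_apply (g : GL (Fin n) F) : cGL g = desc (conjGL g) := rfl

theorem fieldAut_mul (σ τ : F ≃+* F) :
    fieldAut (n := n) (σ * τ) = (fieldAut τ).trans (fieldAut σ) := by
  ext s : 1
  apply Subtype.ext
  show ((fieldAut (σ * τ) s : SpecialLinearGroup (Fin n) F) : Matrix (Fin n) (Fin n) F) =
    ((fieldAut σ (fieldAut τ s) : SpecialLinearGroup (Fin n) F) : Matrix (Fin n) (Fin n) F)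
  rw [fieldAut_coe, fieldAut_coe, fieldAut_coe]
  ext i j
  rfl

theorem fieldAut_one : fieldAut (n := n) (1 : F ≃+* F) = MulEquiv.refl _ := by
  ext s : 1
  apply Subtype.ext
  show ((fieldAut 1 s : SpecialLinearGroup (Fin n) F) : Matrix (Fin n) (Fin n) F) = s.1
  rw [fieldAut_coe]
  ext i j
  rfl

/-- the field-automorphism homomorphism `Aut(F) → Aut(PSL_n(F))` -/
noncomputable def fAut : (F ≃+* F) →* MulAut (ProjectiveSpecialLinearGroup (Fin n) F) where
  toFun σ := desc (fieldAut σ)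
  map_one' := by rw [fieldAut_one, desc_refl]; rfl
  map_mul' σ τ := by rw [fieldAut_mul, desc_trans]; rfl

theorem fAut_apply (σ : F ≃+* F) : fAut (n := n) σ = desc (fieldAut σ) := rfl

/-- the inverse-transpose automorphism of `PSL` as an element of `MulAut` -/
noncomputable def tAut : MulAut (ProjectiveSpecialLinearGroup (Fin n) F) := desc invT

theorem tAut_mul_tAut : (tAut : MulAut (ProjectiveSpecialLinearGroup (Fin n) F)) * tAut = 1 := by
  ext x
  induction x using QuotientGroup.induction_on with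
  | H s =>
    show desc invT (desc invT (QuotientGroup.mk s)) = QuotientGroup.mk s
    rw [desc_mk, desc_mk, invT_invT]

/-- `T * F(σ) = F(σ) * T` -/
theorem tAut_comm_fAut (σ : F ≃+* F) :
    (tAut : MulAut (ProjectiveSpecialLinearGroup (Fin n) F)) * fAut σ = fAut σ * tAut := by
  ext x
  induction x using QuotientGroup.induction_on with
  | H s =>
    show desc invT (desc (fieldAut σ) (QuotientGroup.mk s)) =
      desc (fieldAut σ) (desc invT (QuotientGroup.mk s))
    rw [desc_mk, desc_mk, desc_mk, desc_mk]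
    congr 1
    apply Subtype.ext
    rw [invT_coe, fieldAut_coe, invT_coe, ← map_inv, fieldAut_coe, Matrix.transpose_map]

/-- `F(σ) * C(g) = C(σ g) * F(σ)` -/
theorem fAut_mul_cGL (σ : F ≃+* F) (g : GL (Fin n) F) :
    fAut σ * cGL g = cGL (Matrix.GeneralLinearGroup.map (σ : F →+* F) g) * fAut σ := by
  ext x
  induction x using QuotientGroup.induction_on with
  | H s =>
    show desc (fieldAut σ) (desc (conjGL g) (QuotientGroup.mk s)) =
      desc (conjGL _) (desc (fieldAut σ) (QuotientGroup.mk s))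
    rw [desc_mk, desc_mk, desc_mk, desc_mk]
    congr 1
    apply Subtype.ext
    rw [fieldAut_coe, conjGL_coe, conjGL_coe, fieldAut_coe, ← Matrix.GeneralLinearGroup.map_inv]
    show _ = ((g : Matrix (Fin n) (Fin n) F).map σ) * _ *
      (((g⁻¹ : GL (Fin n) F) : Matrix (Fin n) (Fin n) F).map σ)
    rw [Matrix.map_mul, Matrix.map_mul]

/-- `T * C(g) = C(g') * T` for some `g'` -/
theorem tAut_mul_cGL (g : GL (Fin n) F) :
    ∃ g' : GL (Fin n) F, (tAut : MulAut (ProjectiveSpecialLinearGroup (Fin n) F)) * cGL g =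
      cGL g' * tAut := by
  refine ⟨⟨((g⁻¹ : GL (Fin n) F) : Matrix (Fin n) (Fin n) F)ᵀ, (g : Matrix (Fin n) (Fin n) F)ᵀ,
    ?_, ?_⟩, ?_⟩
  · rw [← Matrix.transpose_mul, gl_mul_inv, Matrix.transpose_one]
  · rw [← Matrix.transpose_mul, gl_inv_mul, Matrix.transpose_one]
  · ext x
    induction x using QuotientGroup.induction_on with
    | H s =>
      show desc invT (desc (conjGL g) (QuotientGroup.mk s)) =
        desc (conjGL _) (desc invT (QuotientGroup.mk s))
      rw [desc_mk, desc_mk, desc_mk, desc_mk]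
      congr 1
      apply Subtype.ext
      rw [invT_coe, conjGL_coe, invT_coe, ← map_inv, conjGL_coe]
      show _ = ((g⁻¹ : GL (Fin n) F) : Matrix (Fin n) (Fin n) F)ᵀ * _ * (g : Matrix (Fin n) (Fin n) F)ᵀ
      rw [Matrix.transpose_mul, Matrix.transpose_mul, Matrix.mul_assoc]

end

section

open Matrix

variable {n : ℕ} {F : Type*} [Field F]

theorem dot_map (σ : F ≃+* F) (ψ v : Fin n → F) :
    (fun i => σ (ψ i)) ⬝ᵥ (fun i => σ (v i)) = σ (ψ ⬝ᵥ v) := by
  simp only [dotProduct, map_sum, map_mul]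

theorem map_fieldAut_PA_le (σ : F ≃+* F) (v : Fin n → F) :
    (PA v).map (desc (fieldAut σ)).toMonoidHom ≤ PA (fun i => σ (v i)) := by
  rintro x hx
  obtain ⟨y, hy, rfl⟩ := Subgroup.mem_map.1 hx
  obtain ⟨ψ, hψ, rfl⟩ := mem_PA.1 hy
  show desc (fieldAut σ) (QuotientGroup.mk _) ∈ _
  rw [desc_mk]
  refine Subgroup.mem_map_of_mem _ ⟨fun i => σ (ψ i), ?_, ?_⟩
  · rw [dot_map, hψ, map_zero]
  · rw [fieldAut_coe, tv_coe, map_tm]

theorem map_fieldAut_PH_le (σ : F ≃+* F) (φ : Fin n → F) :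
    (PH φ).map (desc (fieldAut σ)).toMonoidHom ≤ PH (fun i => σ (φ i)) := by
  rintro x hx
  obtain ⟨y, hy, rfl⟩ := Subgroup.mem_map.1 hx
  obtain ⟨w, hw, rfl⟩ := mem_PH.1 hy
  show desc (fieldAut σ) (QuotientGroup.mk _) ∈ _
  rw [desc_mk]
  refine Subgroup.mem_map_of_mem _ ⟨fun i => σ (w i), ?_, ?_⟩
  · rw [dot_map, hw, map_zero]
  · rw [fieldAut_coe, tv_coe, map_tm]

theorem fieldAut_symm (σ : F ≃+* F) : (fieldAut (n := n) σ).symm = fieldAut σ.symm := rfl

theorem desc_fieldAut_symm (σ : F ≃+* F) :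
    (desc (fieldAut (n := n) σ)).symm = desc (fieldAut σ.symm) := by
  rw [← desc_symm, fieldAut_symm]

theorem map_fieldAut_PA (σ : F ≃+* F) (v : Fin n → F) :
    (PA v).map (desc (fieldAut σ)).toMonoidHom = PA (fun i => σ (v i)) := by
  apply le_antisymm (map_fieldAut_PA_le σ v)
  have h1 := map_fieldAut_PA_le σ.symm (fun i => σ (v i))
  simp only [RingEquiv.symm_apply_apply] at h1
  rw [← desc_fieldAut_symm] at h1
  have h2 := Subgroup.map_mono (f := (desc (fieldAut σ)).toMonoidHom) h1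
  rw [map_map_symm] at h2
  exact h2

theorem map_fieldAut_PH (σ : F ≃+* F) (φ : Fin n → F) :
    (PH φ).map (desc (fieldAut σ)).toMonoidHom = PH (fun i => σ (φ i)) := by
  apply le_antisymm (map_fieldAut_PH_le σ φ)
  have h1 := map_fieldAut_PH_le σ.symm (fun i => σ (φ i))
  simp only [RingEquiv.symm_apply_apply] at h1
  rw [← desc_fieldAut_symm] at h1
  have h2 := Subgroup.map_mono (f := (desc (fieldAut σ)).toMonoidHom) h1
  rw [map_map_symm] at h2
  exact h2

theorem sigma_single (σ : F ≃+* F) (i : Fin n) (a : F) :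
    (fun k => σ ((Pi.single i a : Fin n → F) k)) = Pi.single i (σ a) := by
  funext k
  by_cases hk : k = i
  · subst hk; simp
  · simp [Pi.single_eq_of_ne hk]

/-- a semilinear map `v ↦ g σ(v)` fixing all points is a scalar, and `σ = 1` -/
theorem scalar_of_par (hn : 2 ≤ n) (g : GL (Fin n) F) (σ : F ≃+* F)
    (h : ∀ v : Fin n → F, v ≠ 0 →
      Par (fun i => σ (v i)) ((g : Matrix (Fin n) (Fin n) F) *ᵥ v)) :
    σ = RingEquiv.refl F ∧ ∃ c : F, c ≠ 0 ∧ (g : Matrix (Fin n) (Fin n) F) = c • 1 := by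
  -- step 1: g e_i = c_i e_i
  have h1 : ∀ i : Fin n, ∃ c : F, c ≠ 0 ∧
      (g : Matrix (Fin n) (Fin n) F) *ᵥ (Pi.single i 1) = c • Pi.single i 1 := by
    intro i
    obtain ⟨c, hc, h2⟩ := h (Pi.single i 1) (single_ne_zero' i)
    rw [sigma_single, map_one] at h2
    exact ⟨c, hc, h2⟩
  choose c hc hgc using h1
  -- step 2: all c_i equal
  have h2 : ∀ i j : Fin n, i ≠ j → c i = c j := by
    intro i j hij
    have hne : (Pi.single i 1 + Pi.single j 1 : Fin n → F) ≠ 0 := by
      intro h0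
      have := congrFun h0 i
      simp [Pi.single_eq_of_ne hij] at this
    obtain ⟨d, hd, h3⟩ := h _ hne
    have hσ : (fun k => σ ((Pi.single i 1 + Pi.single j 1 : Fin n → F) k)) =
        Pi.single i 1 + Pi.single j 1 := by
      funext k
      simp only [Pi.add_apply, map_add]
      have e1 := congrFun (sigma_single σ i (1 : F)) k
      have e2 := congrFun (sigma_single σ j (1 : F)) k
      simp only [map_one] at e1 e2
      rw [e1, e2]
    rw [hσ, Matrix.mulVec_add, hgc, hgc] at h3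
    have e1 := congrFun h3 i
    have e2 := congrFun h3 j
    simp [Pi.single_eq_of_ne hij, Pi.single_eq_of_ne hij.symm] at e1 e2
    rw [e1, e2]
  let i0 : Fin n := ⟨0, by omega⟩
  let i1 : Fin n := ⟨1, by omega⟩
  have hi01 : i0 ≠ i1 := by
    intro h0
    have := congrArg Fin.val h0
    simp [i0, i1] at this
  have h3 : ∀ i, c i = c i0 := by
    intro i
    by_cases hi : i = i0
    · rw [hi]
    · exact h2 i i0 hi
  have hg : (g : Matrix (Fin n) (Fin n) F) = c i0 • 1 := by
    ext k i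
    have := congrFun (hgc i) k
    rw [Matrix.mulVec_single_one, Matrix.col_apply, h3 i] at this
    rw [this]
    simp [Matrix.one_apply, Pi.single_apply]
  refine ⟨?_, c i0, hc i0, hg⟩
  ext a
  have hne : (Pi.single i0 a + Pi.single i1 1 : Fin n → F) ≠ 0 := by
    intro h0
    have := congrFun h0 i1
    simp [Pi.single_eq_of_ne hi01.symm] at this
  obtain ⟨d, hd, h4⟩ := h _ hne
  have hσ : (fun k => σ ((Pi.single i0 a + Pi.single i1 1 : Fin n → F) k)) =
      Pi.single i0 (σ a) + Pi.single i1 1 := by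
    funext k
    simp only [Pi.add_apply, map_add]
    have e1 := congrFun (sigma_single σ i0 a) k
    have e2 := congrFun (sigma_single σ i1 (1 : F)) k
    simp only [map_one] at e1 e2
    rw [e1, e2]
  rw [hσ, hg, Matrix.smul_mulVec, Matrix.one_mulVec] at h4
  have e1 := congrFun h4 i0
  have e2 := congrFun h4 i1
  simp [Pi.single_eq_of_ne hi01, Pi.single_eq_of_ne hi01.symm] at e1 e2
  rw [← e2] at e1
  have := mul_left_cancel₀ (hc i0) e1
  rw [RingEquiv.refl_apply]
  exact this.symm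

end

section

open Matrix

variable {n : ℕ} {F : Type*} [Field F]

/-- abstract form of `par_of_PA_le_PA` -/
def HasParPA (n : ℕ) (F : Type*) [Field F] : Prop :=
  ∀ v v' : Fin n → F, v ≠ 0 → v' ≠ 0 → PA v ≤ PA v' → Par v v'

theorem hasParPA_three (hn : 3 ≤ n) : HasParPA n F :=
  fun _ _ hv hv' h => par_of_PA_le_PA hn hv hv' h

theorem hasParPA_two : HasParPA 2 F :=
  fun _ _ hv _ h => par_of_PA_le_PA₂ hv h

theorem gl_mulVec_ne_zero (g : GL (Fin n) F) {v : Fin n → F} (hv : v ≠ 0) :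
    (g : Matrix (Fin n) (Fin n) F) *ᵥ v ≠ 0 := by
  intro h
  apply hv
  have := congrArg (fun w => ((g⁻¹ : GL (Fin n) F) : Matrix (Fin n) (Fin n) F) *ᵥ w) h
  simp only [Matrix.mulVec_mulVec, gl_inv_mul, Matrix.one_mulVec, Matrix.mulVec_zero] at this
  exact this

theorem sigma_ne_zero (σ : F ≃+* F) {v : Fin n → F} (hv : v ≠ 0) :
    (fun i => σ (v i)) ≠ 0 := by
  intro h
  apply hv
  funext i
  have := congrFun h i
  simpa using this

theorem map_mulAut_mul {G : Type*} [Group G] (a b : MulAut G) (S : Subgroup G) :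
    S.map (a * b : MulAut G).toMonoidHom = (S.map b.toMonoidHom).map a.toMonoidHom := by
  rw [Subgroup.map_map]
  rfl

/-- uniqueness, untwisted part -/
theorem uniq0 (hn : 2 ≤ n) (hp : HasParPA n F) (g : GL (Fin n) F) (σ : F ≃+* F)
    (h : fAut σ = cGL g) :
    σ = RingEquiv.refl F ∧ ∃ c : F, c ≠ 0 ∧ (g : Matrix (Fin n) (Fin n) F) = c • 1 := by
  apply scalar_of_par hn
  intro v hv
  apply hp _ _ (sigma_ne_zero σ hv) (gl_mulVec_ne_zero g hv)
  rw [← map_fieldAut_PA, ← map_conjGL_PA]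
  have : desc (fieldAut (n := n) σ) = desc (conjGL g) := h
  rw [this]

/-- uniqueness, twisted part -/
theorem uniqT (hn : 3 ≤ n) (g : GL (Fin n) F) (σ : F ≃+* F) :
    fAut σ * tAut ≠ cGL g := by
  intro h
  have hv : (Pi.single ⟨0, by omega⟩ 1 : Fin n → F) ≠ 0 := single_ne_zero' _
  have h1 := congrArg (fun a : MulAut (ProjectiveSpecialLinearGroup (Fin n) F) =>
    (PA (Pi.single ⟨0, by omega⟩ 1 : Fin n → F)).map a.toMonoidHom) h
  simp only [map_mulAut_mul] at h1
  have e1 : (PA (Pi.single ⟨0, by omega⟩ 1 : Fin n → F)).map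
      (tAut : MulAut (ProjectiveSpecialLinearGroup (Fin n) F)).toMonoidHom = PH _ :=
    map_invT_PA _
  have e2 : ∀ φ : Fin n → F, (PH φ).map (fAut (n := n) σ).toMonoidHom = PH (fun i => σ (φ i)) :=
    fun φ => map_fieldAut_PH σ φ
  have e3 : ∀ v : Fin n → F, (PA v).map (cGL (n := n) g).toMonoidHom =
      PA ((g : Matrix (Fin n) (Fin n) F) *ᵥ v) := fun v => map_conjGL_PA g v
  rw [e1, e2, e3] at h1
  exact PA_ne_PH hn (gl_mulVec_ne_zero g hv) (sigma_ne_zero σ hv) h1.symm

/-- powers of the inverse-transpose, indexed by `ZMod 2` -/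
noncomputable def tPow (e : ZMod 2) : MulAut (ProjectiveSpecialLinearGroup (Fin n) F) :=
  if e = 0 then 1 else tAut

theorem tPow_zero : tPow (n := n) (F := F) 0 = 1 := if_pos rfl

theorem tPow_of_ne {e : ZMod 2} (h : e ≠ 0) : tPow (n := n) (F := F) e = tAut := if_neg h

theorem zmod2_cases (a b : ZMod 2) :
    (a = 0 ∧ b = 0 ∧ a + b = 0) ∨ (a = 0 ∧ b ≠ 0 ∧ a + b ≠ 0) ∨
    (a ≠ 0 ∧ b = 0 ∧ a + b ≠ 0) ∨ (a ≠ 0 ∧ b ≠ 0 ∧ a + b = 0) := by
  revert a b
  decide

theorem tPow_add (a b : ZMod 2) :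
    tPow (n := n) (F := F) (a + b) = tPow a * tPow b := by
  rcases zmod2_cases a b with ⟨ha, hb, hab⟩ | ⟨ha, hb, hab⟩ | ⟨ha, hb, hab⟩ | ⟨ha, hb, hab⟩
  · rw [hab, ha, hb, tPow_zero, mul_one]
  · rw [tPow_of_ne hab, ha, tPow_zero, tPow_of_ne hb, one_mul]
  · rw [tPow_of_ne hab, hb, tPow_zero, tPow_of_ne ha, mul_one]
  · rw [hab, tPow_zero, tPow_of_ne ha, tPow_of_ne hb, tAut_mul_tAut]

theorem tPow_comm_fAut (e : ZMod 2) (σ : F ≃+* F) :
    tPow (n := n) e * fAut σ = fAut σ * tPow e := by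
  by_cases he : e = 0
  · rw [he, tPow_zero, one_mul, mul_one]
  · rw [tPow_of_ne he, tAut_comm_fAut]

theorem tPow_mul_cGL (e : ZMod 2) (g : GL (Fin n) F) :
    ∃ g' : GL (Fin n) F, tPow e * cGL g = cGL g' * tPow e := by
  by_cases he : e = 0
  · exact ⟨g, by rw [he, tPow_zero, one_mul, mul_one]⟩
  · rw [tPow_of_ne he]
    exact tAut_mul_cGL g

theorem mul_form (g g' : GL (Fin n) F) (σ σ' : F ≃+* F) (e e' : ZMod 2) :
    ∃ g'' : GL (Fin n) F, cGL g * fAut σ * tPow e * (cGL g' * fAut σ' * tPow e') =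
      cGL g'' * fAut (σ * σ') * tPow (e + e') := by
  obtain ⟨g₁, h1⟩ := tPow_mul_cGL e g'
  have h2 := fAut_mul_cGL σ g₁
  have h3 := tPow_comm_fAut (n := n) e σ'
  refine ⟨g * Matrix.GeneralLinearGroup.map (σ : F →+* F) g₁, ?_⟩
  calc cGL g * fAut σ * tPow e * (cGL g' * fAut σ' * tPow e')
      = cGL g * fAut σ * (tPow e * cGL g') * fAut σ' * tPow e' := by simp only [mul_assoc]
    _ = cGL g * fAut σ * (cGL g₁ * tPow e) * fAut σ' * tPow e' := by rw [h1]
    _ = cGL g * (fAut σ * cGL g₁) * (tPow e * fAut σ') * tPow e' := by simp only [mul_assoc]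
    _ = cGL g * (cGL (Matrix.GeneralLinearGroup.map (σ : F →+* F) g₁) * fAut σ) *
          (fAut σ' * tPow e) * tPow e' := by rw [h2, h3]
    _ = cGL (g * Matrix.GeneralLinearGroup.map (σ : F →+* F) g₁) * fAut (σ * σ') *
          tPow (e + e') := by
        rw [map_mul, map_mul, tPow_add]
        simp only [mul_assoc]

theorem uniq1 (hn : 3 ≤ n) (g : GL (Fin n) F) (σ : F ≃+* F) (e : ZMod 2)
    (h : fAut σ * tPow e = cGL g) : σ = 1 ∧ e = 0 := by
  by_cases he : e = 0
  · rw [he, tPow_zero, mul_one] at h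
    exact ⟨(uniq0 (by omega) (hasParPA_three hn) g σ h).1, he⟩
  · rw [tPow_of_ne he] at h
    exact absurd h (uniqT hn g σ)

theorem zmod2_add_eq_zero {a b : ZMod 2} (h : a + b = 0) : a = b := by
  revert a b
  decide

theorem zmod2_self_add (a : ZMod 2) : a + a = 0 := by
  revert a
  decide

theorem uniq3 (hn : 3 ≤ n) {g g' : GL (Fin n) F} {σ σ' : F ≃+* F} {e e' : ZMod 2}
    (h : cGL g * fAut σ * tPow e = cGL g' * fAut σ' * tPow e') : σ = σ' ∧ e = e' := by
  have h1 : fAut (n := n) (σ'⁻¹ * σ) * tPow (e + e') = cGL (Matrix.GeneralLinearGroup.map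
      ((σ'⁻¹ : F ≃+* F) : F →+* F) (g⁻¹ * g')) := by
    have h2 : fAut σ * tPow e = cGL (g⁻¹ * g') * fAut σ' * tPow e' := by
      have h' : cGL g' * fAut σ' * tPow e' = cGL g * (fAut σ * tPow e) := by
        rw [← h]; simp only [mul_assoc]
      rw [map_mul, map_inv, mul_assoc, mul_assoc, ← mul_assoc (cGL g'), h', inv_mul_cancel_left]
    have h3 : tPow (n := n) (F := F) e' * tPow e' = 1 := by
      rw [← tPow_add]
      have : e' + e' = 0 := zmod2_self_add e'
      rw [this, tPow_zero]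
    have h4 := fAut_mul_cGL (σ'⁻¹ : F ≃+* F) (g⁻¹ * g')
    calc fAut (n := n) (σ'⁻¹ * σ) * tPow (e + e')
        = fAut σ'⁻¹ * (fAut σ * tPow e) * tPow e' := by
          rw [map_mul, tPow_add]; simp only [mul_assoc]
      _ = fAut σ'⁻¹ * (cGL (g⁻¹ * g') * fAut σ' * tPow e') * tPow e' := by rw [h2]
      _ = (fAut σ'⁻¹ * cGL (g⁻¹ * g')) * fAut σ' * (tPow e' * tPow e') := by
          simp only [mul_assoc]
      _ = _ := by
          rw [h4, h3, mul_one, mul_assoc, ← map_mul, inv_mul_cancel, map_one, mul_one]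
  obtain ⟨h5, h6⟩ := uniq1 hn _ _ _ h1
  refine ⟨?_, zmod2_add_eq_zero h6⟩
  have := congrArg (fun x => σ' * x) h5
  simpa using this

end

section

open Matrix

variable {n : ℕ} {F : Type*} [Field F]

/-! ### untwisted forms (used for `n = 2`) -/

theorem mul_form0 (g g' : GL (Fin n) F) (σ σ' : F ≃+* F) :
    cGL g * fAut σ * (cGL g' * fAut σ') =
      cGL (g * Matrix.GeneralLinearGroup.map (σ : F →+* F) g') * fAut (σ * σ') := by
  have h2 := fAut_mul_cGL σ g'
  calc cGL g * fAut σ * (cGL g' * fAut σ')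
      = cGL g * (fAut σ * cGL g') * fAut σ' := by simp only [mul_assoc]
    _ = cGL g * (cGL (Matrix.GeneralLinearGroup.map (σ : F →+* F) g') * fAut σ) * fAut σ' := by
        rw [h2]
    _ = _ := by
        rw [map_mul, map_mul]
        simp only [mul_assoc]

theorem uniq_untw (hn : 2 ≤ n) (hp : HasParPA n F) {g g' : GL (Fin n) F} {σ σ' : F ≃+* F}
    (h : cGL g * fAut σ = cGL g' * fAut σ') : σ = σ' := by
  have h1 : fAut (n := n) (σ'⁻¹ * σ) = cGL (Matrix.GeneralLinearGroup.map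
      ((σ'⁻¹ : F ≃+* F) : F →+* F) (g⁻¹ * g')) := by
    have h2 : fAut σ = cGL (g⁻¹ * g') * fAut σ' := by
      rw [map_mul, map_inv, mul_assoc, ← h, inv_mul_cancel_left]
    have h4 := fAut_mul_cGL (σ'⁻¹ : F ≃+* F) (g⁻¹ * g')
    calc fAut (n := n) (σ'⁻¹ * σ)
        = fAut σ'⁻¹ * fAut σ := by rw [map_mul]
      _ = fAut σ'⁻¹ * (cGL (g⁻¹ * g') * fAut σ') := by rw [h2]
      _ = (fAut σ'⁻¹ * cGL (g⁻¹ * g')) * fAut σ' := by simp only [mul_assoc]
      _ = _ := by
          rw [h4, mul_assoc, ← map_mul, inv_mul_cancel, map_one, mul_one]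
  have h5 : σ'⁻¹ * σ = 1 := (uniq0 hn hp _ _ h1).1
  exact (inv_mul_eq_one.1 h5).symm

section fin

variable [Fintype F]

theorem exists_form3 (hn : 3 ≤ n) (p : ℕ) [Fact p.Prime] [CharP F p]
    (β : MulAut (ProjectiveSpecialLinearGroup (Fin n) F)) :
    ∃ (g : GL (Fin n) F) (σ : F ≃+* F) (e : ZMod 2), β = cGL g * fAut σ * tPow e := by
  obtain ⟨g, σ, h | h⟩ := main3 hn p β
  · exact ⟨g, σ, 0, by rw [tPow_zero, mul_one, h]; rfl⟩
  · exact ⟨g, σ, 1, by rw [tPow_of_ne (by decide), h]; rfl⟩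

theorem exists_form2 (p : ℕ) [Fact p.Prime] [CharP F p]
    (β : MulAut (ProjectiveSpecialLinearGroup (Fin 2) F)) :
    ∃ (g : GL (Fin 2) F) (σ : F ≃+* F), β = cGL g * fAut σ := by
  obtain ⟨g, σ, h⟩ := main2 p β
  exact ⟨g, σ, by rw [h]; rfl⟩

/-- the field-automorphism / graph component of an automorphism of `PSL_n`, `n ≥ 3` -/
noncomputable def psi3Fun (hn : 3 ≤ n) (p : ℕ) [Fact p.Prime] [CharP F p]
    (β : MulAut (ProjectiveSpecialLinearGroup (Fin n) F)) :
    (F ≃+* F) × Multiplicative (ZMod 2) :=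
  ((exists_form3 hn p β).choose_spec.choose,
    Multiplicative.ofAdd (exists_form3 hn p β).choose_spec.choose_spec.choose)

theorem psi3Fun_eq (hn : 3 ≤ n) (p : ℕ) [Fact p.Prime] [CharP F p]
    {β : MulAut (ProjectiveSpecialLinearGroup (Fin n) F)}
    {g : GL (Fin n) F} {σ : F ≃+* F} {e : ZMod 2} (h : β = cGL g * fAut σ * tPow e) :
    psi3Fun hn p β = (σ, Multiplicative.ofAdd e) := by
  subst h
  have h1 := (exists_form3 hn p (cGL g * fAut σ * tPow e)).choose_spec.choose_spec.choose_spec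
  obtain ⟨h2, h3⟩ := uniq3 hn h1
  unfold psi3Fun
  exact Prod.ext h2.symm (congrArg Multiplicative.ofAdd h3.symm)

noncomputable def psi3 (hn : 3 ≤ n) (p : ℕ) [Fact p.Prime] [CharP F p] :
    MulAut (ProjectiveSpecialLinearGroup (Fin n) F) →* (F ≃+* F) × Multiplicative (ZMod 2) where
  toFun := psi3Fun hn p
  map_one' := by
    have h : (1 : MulAut (ProjectiveSpecialLinearGroup (Fin n) F)) = cGL 1 * fAut 1 * tPow 0 := by
      rw [map_one, map_one, tPow_zero, mul_one, mul_one]
    rw [psi3Fun_eq hn p h]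
    rfl
  map_mul' β β' := by
    obtain ⟨g, σ, e, h⟩ := exists_form3 hn p β
    obtain ⟨g', σ', e', h'⟩ := exists_form3 hn p β'
    obtain ⟨g'', h''⟩ := mul_form g g' σ σ' e e'
    rw [psi3Fun_eq hn p h, psi3Fun_eq hn p h']
    rw [h, h', h''] 
    rw [psi3Fun_eq hn p rfl]
    rfl

theorem psi3_apply (hn : 3 ≤ n) (p : ℕ) [Fact p.Prime] [CharP F p]
    (g : GL (Fin n) F) (σ : F ≃+* F) (e : ZMod 2) :
    psi3 hn p (cGL g * fAut σ * tPow e) = (σ, Multiplicative.ofAdd e) :=
  psi3Fun_eq hn p rfl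

theorem psi3_surjective (hn : 3 ≤ n) (p : ℕ) [Fact p.Prime] [CharP F p] :
    Function.Surjective (psi3 (n := n) (F := F) hn p) := by
  rintro ⟨σ, e⟩
  exact ⟨cGL 1 * fAut σ * tPow (Multiplicative.toAdd e), psi3_apply hn p 1 σ _⟩

theorem psi3_ker (hn : 3 ≤ n) (p : ℕ) [Fact p.Prime] [CharP F p] :
    (psi3 (n := n) (F := F) hn p).ker = (cGL (n := n) (F := F)).range := by
  ext β
  rw [MonoidHom.mem_ker, MonoidHom.mem_range]
  constructor
  · intro h
    obtain ⟨g, σ, e, hβ⟩ := exists_form3 hn p β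
    rw [hβ, psi3_apply] at h
    have h1 : σ = 1 := congrArg Prod.fst h
    have h2 : e = 0 := congrArg (fun x : (F ≃+* F) × Multiplicative (ZMod 2) => Multiplicative.toAdd x.2) h
    refine ⟨g, ?_⟩
    rw [hβ, h1, h2, map_one, tPow_zero, mul_one, mul_one]
  · rintro ⟨g, rfl⟩
    have h : cGL g = cGL g * fAut 1 * tPow (n := n) (F := F) 0 := by
      rw [map_one, tPow_zero, mul_one, mul_one]
    rw [h, psi3_apply]
    rfl

/-! #### `n = 2` -/

noncomputable def psi2Fun (p : ℕ) [Fact p.Prime] [CharP F p]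
    (β : MulAut (ProjectiveSpecialLinearGroup (Fin 2) F)) : F ≃+* F :=
  (exists_form2 p β).choose_spec.choose

theorem psi2Fun_eq (p : ℕ) [Fact p.Prime] [CharP F p]
    {β : MulAut (ProjectiveSpecialLinearGroup (Fin 2) F)}
    {g : GL (Fin 2) F} {σ : F ≃+* F} (h : β = cGL g * fAut σ) :
    psi2Fun p β = σ := by
  subst h
  have h1 := (exists_form2 p (cGL g * fAut σ)).choose_spec.choose_spec
  have h2 := uniq_untw (le_refl 2) hasParPA_two h1
  unfold psi2Fun
  exact h2.symm

noncomputable def psi2 (p : ℕ) [Fact p.Prime] [CharP F p] :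
    MulAut (ProjectiveSpecialLinearGroup (Fin 2) F) →* (F ≃+* F) where
  toFun := psi2Fun p
  map_one' := by
    have h : (1 : MulAut (ProjectiveSpecialLinearGroup (Fin 2) F)) = cGL 1 * fAut 1 := by
      rw [map_one, map_one, mul_one]
    rw [psi2Fun_eq p h]
  map_mul' β β' := by
    obtain ⟨g, σ, h⟩ := exists_form2 p β
    obtain ⟨g', σ', h'⟩ := exists_form2 p β'
    rw [psi2Fun_eq p h, psi2Fun_eq p h']
    rw [h, h', mul_form0]
    rw [psi2Fun_eq p rfl]

theorem psi2_apply (p : ℕ) [Fact p.Prime] [CharP F p]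
    (g : GL (Fin 2) F) (σ : F ≃+* F) :
    psi2 p (cGL g * fAut σ) = σ :=
  psi2Fun_eq p rfl

theorem psi2_surjective (p : ℕ) [Fact p.Prime] [CharP F p] :
    Function.Surjective (psi2 (F := F) p) := by
  intro σ
  exact ⟨cGL 1 * fAut σ, psi2_apply p 1 σ⟩

theorem psi2_ker (p : ℕ) [Fact p.Prime] [CharP F p] :
    (psi2 (F := F) p).ker = (cGL (n := 2) (F := F)).range := by
  ext β
  rw [MonoidHom.mem_ker, MonoidHom.mem_range]
  constructor
  · intro h
    obtain ⟨g, σ, hβ⟩ := exists_form2 p β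
    rw [hβ, psi2_apply] at h
    refine ⟨g, ?_⟩
    rw [hβ, h, map_one, mul_one]
  · rintro ⟨g, rfl⟩
    have h : cGL g = cGL g * fAut (n := 2) (F := F) 1 := by
      rw [map_one, mul_one]
    rw [h, psi2_apply]

end fin

end

section

variable {F : Type*} [Field F]

section gal

variable [Fintype F] (p : ℕ) [Fact p.Prime] [CharP F p]

/-- ring automorphisms of a field of characteristic `p` are `ZMod p`-algebra automorphisms -/
noncomputable def galEquiv :
    (F ≃+* F) ≃* (@AlgEquiv (ZMod p) F F _ _ _ (ZMod.algebra F p) (ZMod.algebra F p)) :=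
  letI := ZMod.algebra F p
  { toFun := fun σ => AlgEquiv.ofRingEquiv (f := σ) (fun r => by
      have := RingHom.congr_fun (Subsingleton.elim
        ((σ : F →+* F).comp (algebraMap (ZMod p) F)) (algebraMap (ZMod p) F)) r
      exact this)
    invFun := fun a => a.toRingEquiv
    left_inv := fun σ => by ext x; rfl
    right_inv := fun a => by ext x; rfl
    map_mul' := fun σ τ => by ext x; rfl }

theorem card_ringAut {f : ℕ} (hF : Fintype.card F = p ^ f) : Nat.card (F ≃+* F) = f := by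
  letI := ZMod.algebra F p
  rw [Nat.card_congr (galEquiv (F := F) p).toEquiv]
  have h1 := FiniteField.bijective_frobeniusAlgEquivOfAlgebraic_pow (ZMod p) F
  rw [← Nat.card_congr (Equiv.ofBijective _ h1), Nat.card_eq_fintype_card, Fintype.card_fin]
  have h2 : Fintype.card F = Fintype.card (ZMod p) ^ Module.finrank (ZMod p) F :=
    Module.card_eq_pow_finrank
  rw [ZMod.card, hF] at h2
  exact (Nat.pow_right_injective (Fact.out : p.Prime).two_le h2).symm

theorem isCyclic_ringAut (p : ℕ) [Fact p.Prime] [CharP F p] : IsCyclic (F ≃+* F) := by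
  letI := ZMod.algebra F p
  exact isCyclic_of_surjective (galEquiv (F := F) p).symm (galEquiv (F := F) p).symm.surjective

/-- `Aut(F) ≅ ZMod f` for `|F| = p ^ f` -/
noncomputable def ringAutEquiv {f : ℕ} (hF : Fintype.card F = p ^ f) :
    (F ≃+* F) ≃* Multiplicative (ZMod f) :=
  ((zmodCyclicMulEquiv (isCyclic_ringAut (F := F) p)).symm).trans
    (AddEquiv.toMultiplicative (ZMod.ringEquivCongr (card_ringAut p hF)).toAddEquiv)

end gal

end

section

open Matrix

variable {n : ℕ} {F : Type*} [Field F]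

theorem cGL_eq_one_of_mem_center {g : GL (Fin n) F} (hg : g ∈ Subgroup.center (GL (Fin n) F)) :
    cGL g = 1 := by
  ext x
  induction x using QuotientGroup.induction_on with
  | H s =>
    show desc (conjGL g) (QuotientGroup.mk s) = QuotientGroup.mk s
    rw [desc_mk]
    congr 1
    apply Subtype.ext
    rw [conjGL_coe]
    have h1 := (Subgroup.mem_center_iff.1 hg) (Matrix.SpecialLinearGroup.toGL s)
    have h2 : g * Matrix.SpecialLinearGroup.toGL s * g⁻¹ = Matrix.SpecialLinearGroup.toGL s := by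
      rw [← h1, mul_inv_cancel_right]
    have h3 := congrArg (fun x : GL (Fin n) F => (x : Matrix (Fin n) (Fin n) F)) h2
    simpa using h3

theorem mem_center_of_cGL_eq_one (hn : 2 ≤ n) (hp : HasParPA n F) {g : GL (Fin n) F}
    (h : cGL g = 1) : g ∈ Subgroup.center (GL (Fin n) F) := by
  have h1 : fAut (n := n) (1 : F ≃+* F) = cGL g := by rw [map_one, h]
  obtain ⟨-, c, hc, h2⟩ := uniq0 hn hp g 1 h1
  rw [Subgroup.mem_center_iff]
  intro k
  apply Units.ext
  rw [Units.val_mul, Units.val_mul, h2]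
  simp

theorem cGL_ker (hn : 2 ≤ n) (hp : HasParPA n F) :
    (cGL (n := n) (F := F)).ker = Subgroup.center (GL (Fin n) F) := by
  ext g
  rw [MonoidHom.mem_ker]
  exact ⟨mem_center_of_cGL_eq_one hn hp, cGL_eq_one_of_mem_center⟩

theorem card_range_cGL (hn : 2 ≤ n) (hp : HasParPA n F) :
    Nat.card (cGL (n := n) (F := F)).range = Nat.card (Matrix.ProjGenLinGroup (Fin n) F) := by
  have e1 := QuotientGroup.quotientKerEquivRange (cGL (n := n) (F := F))
  have e2 := QuotientGroup.quotientMulEquivOfEq (cGL_ker (F := F) hn hp)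
  rw [← Nat.card_congr e1.toEquiv, Nat.card_congr e2.toEquiv]
  rfl

theorem cGL_toGL (s : SpecialLinearGroup (Fin n) F) :
    cGL (Matrix.SpecialLinearGroup.toGL s) = MulAut.conj (pr s) := by
  ext y
  rw [cGL_apply, conj_eq_desc, MulAut.conj_apply]

/-- the composite `GL → Aut(PSL) → Out(PSL)` -/
noncomputable def kap : GL (Fin n) F →* Cfsg.Out (ProjectiveSpecialLinearGroup (Fin n) F) :=
  (QuotientGroup.mk' (Cfsg.Inn (ProjectiveSpecialLinearGroup (Fin n) F))).comp cGL

theorem kap_toGL (s : SpecialLinearGroup (Fin n) F) :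
    kap (Matrix.SpecialLinearGroup.toGL s) = 1 := by
  show QuotientGroup.mk' _ (cGL _) = 1
  rw [QuotientGroup.mk'_apply, QuotientGroup.eq_one_iff, cGL_toGL]
  exact ⟨pr s, rfl⟩

theorem kap_of_det_eq_one {g : GL (Fin n) F} (h : Matrix.GeneralLinearGroup.det g = 1) :
    kap g = 1 := by
  have h1 : (g : Matrix (Fin n) (Fin n) F).det = 1 := by
    have := congrArg Units.val h
    simpa using this
  have h2 : g = Matrix.SpecialLinearGroup.toGL ⟨(g : Matrix (Fin n) (Fin n) F), h1⟩ := by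
    apply Units.ext
    rfl
  rw [h2]
  exact kap_toGL _

/-- the diagonal matrices `diag(a,1,…,1)` as a monoid homomorphism -/
noncomputable def dgHom (i₀ : Fin n) : F →* Matrix (Fin n) (Fin n) F where
  toFun a := Matrix.diagonal (Function.update (1 : Fin n → F) i₀ a)
  map_one' := by
    show Matrix.diagonal (Function.update (1 : Fin n → F) i₀ ((1 : Fin n → F) i₀)) = 1
    rw [Function.update_eq_self]
    exact Matrix.diagonal_one
  map_mul' a b := by
    rw [Matrix.diagonal_mul_diagonal]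
    congr 1
    funext k
    by_cases hk : k = i₀
    · subst hk; simp
    · simp [Function.update_of_ne hk]

noncomputable def dg (i₀ : Fin n) : Fˣ →* GL (Fin n) F := Units.map (dgHom i₀)

theorem det_dg (i₀ : Fin n) (a : Fˣ) : Matrix.GeneralLinearGroup.det (dg i₀ a) = a := by
  apply Units.ext
  show (Matrix.diagonal (Function.update (1 : Fin n → F) i₀ (a : F))).det = a
  rw [Matrix.det_diagonal, Finset.prod_update_of_mem (Finset.mem_univ _)]
  simp

theorem kap_eq (i₀ : Fin n) (g : GL (Fin n) F) :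
    kap g = kap (dg i₀ (Matrix.GeneralLinearGroup.det g)) := by
  have h1 : g = dg i₀ (Matrix.GeneralLinearGroup.det g) *
      ((dg i₀ (Matrix.GeneralLinearGroup.det g))⁻¹ * g) := by
    rw [mul_inv_cancel_left]
  have h2 : kap ((dg i₀ (Matrix.GeneralLinearGroup.det g))⁻¹ * g) = 1 :=
    kap_of_det_eq_one (by rw [map_mul, map_inv, det_dg, inv_mul_cancel])
  conv_lhs => rw [h1]
  rw [map_mul, h2, mul_one]

theorem kap_scalar (u : Fˣ) : kap (Matrix.GeneralLinearGroup.scalar (Fin n) u) = 1 := by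
  show QuotientGroup.mk' _ (cGL _) = 1
  rw [cGL_eq_one_of_mem_center, map_one]
  rw [Matrix.GeneralLinearGroup.center_eq_range_scalar]
  exact ⟨u, rfl⟩

theorem ker_kap_dg (hn : 2 ≤ n) (hp : HasParPA n F) (i₀ : Fin n) :
    ((kap (n := n) (F := F)).comp (dg i₀)).ker = (powMonoidHom n : Fˣ →* Fˣ).range := by
  ext a
  rw [MonoidHom.mem_ker, MonoidHom.mem_range, MonoidHom.comp_apply]
  constructor
  · intro h
    have h1 : cGL (dg i₀ a) ∈ Cfsg.Inn (ProjectiveSpecialLinearGroup (Fin n) F) := by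
      rw [← QuotientGroup.eq_one_iff]
      exact h
    obtain ⟨x, hx⟩ := h1
    obtain ⟨s, rfl⟩ := QuotientGroup.mk'_surjective _ x
    have h2 : cGL ((Matrix.SpecialLinearGroup.toGL s)⁻¹ * dg i₀ a) = 1 := by
      rw [map_mul, map_inv, cGL_toGL, ← hx]
      exact inv_mul_cancel _
    have h3 := mem_center_of_cGL_eq_one hn hp h2
    rw [Matrix.GeneralLinearGroup.center_eq_range_scalar] at h3
    obtain ⟨u, hu⟩ := h3
    refine ⟨u, ?_⟩
    have h4 := congrArg Matrix.GeneralLinearGroup.det hu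
    rw [Matrix.GeneralLinearGroup.det_scalar, map_mul, map_inv, det_dg, Fintype.card_fin] at h4
    have h5 : Matrix.GeneralLinearGroup.det (Matrix.SpecialLinearGroup.toGL s) = 1 := by
      apply Units.ext
      simp
    rw [h5, inv_one, one_mul] at h4
    exact h4
  · rintro ⟨u, rfl⟩
    have h1 := kap_eq i₀ (Matrix.GeneralLinearGroup.scalar (Fin n) u)
    rw [kap_scalar, Matrix.GeneralLinearGroup.det_scalar, Fintype.card_fin] at h1
    exact h1.symm

theorem range_kap (i₀ : Fin n) :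
    (kap (n := n) (F := F)).range = ((kap (n := n) (F := F)).comp (dg i₀)).range := by
  ext x
  constructor
  · rintro ⟨g, rfl⟩
    exact ⟨Matrix.GeneralLinearGroup.det g, (kap_eq i₀ g).symm⟩
  · rintro ⟨a, rfl⟩
    exact ⟨dg i₀ a, rfl⟩

section fin

variable [Fintype F]

theorem isCyclic_range_kap (hn : 2 ≤ n) :
    IsCyclic (kap (n := n) (F := F)).range := by
  have i₀ : Fin n := ⟨0, by omega⟩
  rw [range_kap i₀]
  exact isCyclic_of_surjective ((kap (n := n) (F := F)).comp (dg i₀)).rangeRestrict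
    (MonoidHom.rangeRestrict_surjective _)

theorem card_range_kap (hn : 2 ≤ n) (hp : HasParPA n F) :
    Nat.card (kap (n := n) (F := F)).range = Nat.gcd n (Fintype.card F - 1) := by
  have i₀ : Fin n := ⟨0, by omega⟩
  rw [range_kap i₀]
  have e1 := QuotientGroup.quotientKerEquivRange ((kap (n := n) (F := F)).comp (dg i₀))
  rw [← Nat.card_congr e1.toEquiv]
  have h1 : Nat.card (Fˣ ⧸ ((kap (n := n) (F := F)).comp (dg i₀)).ker) =
      ((kap (n := n) (F := F)).comp (dg i₀)).ker.index := rfl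
  rw [h1, ker_kap_dg hn hp, IsCyclic.index_powMonoidHom_range, Nat.card_units, Nat.gcd_comm,
    Nat.card_eq_fintype_card]

/-- generic passage to `Out` -/
theorem out_kernel (hn : 2 ≤ n) (hp : HasParPA n F) {H : Type*} [Group H]
    (Ψ : MulAut (ProjectiveSpecialLinearGroup (Fin n) F) →* H)
    (hΨ : Ψ.ker = (cGL (n := n) (F := F)).range) (hs : Function.Surjective Ψ) :
    ∃ φ : Cfsg.Out (ProjectiveSpecialLinearGroup (Fin n) F) →* H,
      Function.Surjective φ ∧ IsCyclic φ.ker ∧ Nat.card φ.ker = Nat.gcd n (Fintype.card F - 1) := by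
  have hle : Cfsg.Inn (ProjectiveSpecialLinearGroup (Fin n) F) ≤ Ψ.ker := by
    rintro _ ⟨x, rfl⟩
    obtain ⟨s, rfl⟩ := QuotientGroup.mk'_surjective _ x
    rw [hΨ]
    exact ⟨_, cGL_toGL s⟩
  let φ := QuotientGroup.lift (Cfsg.Inn (ProjectiveSpecialLinearGroup (Fin n) F)) Ψ hle
  have hker : φ.ker = (kap (n := n) (F := F)).range := by
    ext x
    obtain ⟨β, rfl⟩ := QuotientGroup.mk'_surjective _ x
    rw [MonoidHom.mem_ker]
    show Ψ β = 1 ↔ _
    rw [← MonoidHom.mem_ker, hΨ]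
    constructor
    · rintro ⟨g, rfl⟩
      exact ⟨g, rfl⟩
    · rintro ⟨g, hg⟩
      have h1 : (QuotientGroup.mk' (Cfsg.Inn (ProjectiveSpecialLinearGroup (Fin n) F))) (cGL g) =
          QuotientGroup.mk' _ β := hg
      rw [QuotientGroup.mk'_eq_mk'] at h1
      obtain ⟨z, hz, rfl⟩ := h1
      have hz' := hle hz
      rw [hΨ] at hz'
      exact mul_mem ⟨g, rfl⟩ hz'
  refine ⟨φ, ?_, ?_, ?_⟩
  · intro h
    obtain ⟨β, rfl⟩ := hs h
    exact ⟨QuotientGroup.mk β, rfl⟩
  · rw [hker]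
    exact isCyclic_range_kap hn
  · rw [hker]
    exact card_range_kap hn hp

end fin

end

section

open Matrix

variable {n : ℕ} {F : Type*} [Field F] [Fintype F]

theorem ker_mulEquiv_comp {G H K : Type*} [Group G] [Group H] [Group K] (E : H ≃* K) (Ψ : G →* H) :
    (E.toMonoidHom.comp Ψ).ker = Ψ.ker := by
  ext x
  simp [MonoidHom.mem_ker]

/-- `Out(PSL_n(q))`, `n ≥ 3` -/
theorem out3 (hn : 3 ≤ n) (p : ℕ) [Fact p.Prime] [CharP F p] {f : ℕ}
    (hF : Fintype.card F = p ^ f) :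
    ∃ φ : Cfsg.Out (ProjectiveSpecialLinearGroup (Fin n) F) →* Multiplicative (ZMod f × ZMod 2),
      Function.Surjective φ ∧ IsCyclic φ.ker ∧
        Nat.card φ.ker = Nat.gcd n (Fintype.card F - 1) := by
  let E : (F ≃+* F) × Multiplicative (ZMod 2) ≃* Multiplicative (ZMod f × ZMod 2) :=
    (MulEquiv.prodCongr (ringAutEquiv p hF) (MulEquiv.refl _)).trans (MulEquiv.prodMultiplicative (ZMod f) (ZMod 2)).symm
  apply out_kernel (by omega) (hasParPA_three hn) (E.toMonoidHom.comp (psi3 hn p))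
  · rw [ker_mulEquiv_comp, psi3_ker]
  · exact E.surjective.comp (psi3_surjective hn p)

/-- `Out(PSL_2(q))` -/
theorem out2 (p : ℕ) [Fact p.Prime] [CharP F p] {f : ℕ}
    (hF : Fintype.card F = p ^ f) :
    ∃ φ : Cfsg.Out (ProjectiveSpecialLinearGroup (Fin 2) F) →* Multiplicative (ZMod f),
      Function.Surjective φ ∧ IsCyclic φ.ker ∧
        Nat.card φ.ker = Nat.gcd 2 (Fintype.card F - 1) := by
  apply out_kernel (le_refl 2) hasParPA_two ((ringAutEquiv p hF).toMonoidHom.comp (psi2 p))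
  · rw [ker_mulEquiv_comp, psi2_ker]
  · exact (ringAutEquiv p hF).surjective.comp (psi2_surjective p)

theorem card_of_surjective_ker {G H : Type*} [Group G] [Group H] (Ψ : G →* H)
    (hs : Function.Surjective Ψ) : Nat.card G = Nat.card H * Nat.card Ψ.ker := by
  rw [Subgroup.card_eq_card_quotient_mul_card_subgroup Ψ.ker,
    Nat.card_congr (QuotientGroup.quotientKerEquivOfSurjective Ψ hs).toEquiv]

theorem card_aut3 (hn : 3 ≤ n) (p : ℕ) [Fact p.Prime] [CharP F p] {f : ℕ}
    (hF : Fintype.card F = p ^ f) :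
    Nat.card (MulAut (ProjectiveSpecialLinearGroup (Fin n) F)) =
      2 * f * Nat.card (Matrix.ProjGenLinGroup (Fin n) F) := by
  rw [card_of_surjective_ker _ (psi3_surjective hn p), psi3_ker,
    card_range_cGL (by omega) (hasParPA_three hn), Nat.card_prod, card_ringAut p hF]
  congr 1
  rw [mul_comm]
  congr 1
  rw [Nat.card_eq_fintype_card]
  exact ZMod.card 2

theorem card_aut2 (p : ℕ) [Fact p.Prime] [CharP F p] {f : ℕ}
    (hF : Fintype.card F = p ^ f) :
    Nat.card (MulAut (ProjectiveSpecialLinearGroup (Fin 2) F)) =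
      f * Nat.card (Matrix.ProjGenLinGroup (Fin 2) F) := by
  rw [card_of_surjective_ker _ (psi2_surjective p), psi2_ker,
    card_range_cGL (le_refl 2) hasParPA_two, card_ringAut p hF]

end

end Cfsg.Agent.Lib.H13.AutPSL
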