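import Mathlib
import Cfsg.Agent.Lib.H13.AutPSLStruct
import Cfsg.Agent.S0755

/-!
Field and graph-field automorphisms of `PSL_n(q)`: Hilbert 90 for `GL_n` over a cyclic extension (`hilbert90_GL`), surjectivity of the
norm of a finite field (`Nm_surjective`), classification of Hermitian matrices (`herm_class`, from S0755), and the conjugacy statements
`field_conj`, `graphfield_conj`, `s2697`.
-/

set_option autoImplicit false
set_option linter.unusedSectionVars false
set_option linter.unusedVariables false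
set_option linter.unusedSimpArgs false
set_option linter.deprecated false

namespace Cfsg.Agent.Lib.H13.AutPSL

section

open Matrix

variable {K : Type*} [Field K] (σ : K ≃+* K) {n : ℕ}

/-- partial norms of a matrix cocycle: `PM g i = g σ(g) ⋯ σ^{i-1}(g)` -/
def PM (g : Matrix (Fin n) (Fin n) K) : ℕ → Matrix (Fin n) (Fin n) K
  | 0 => 1
  | (i + 1) => g * (PM g i).map σ

theorem PM_zero (g : Matrix (Fin n) (Fin n) K) : PM σ g 0 = 1 := rfl

theorem PM_succ (g : Matrix (Fin n) (Fin n) K) (i : ℕ) :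
    PM σ g (i + 1) = g * (PM σ g i).map σ := rfl

theorem sig_mulVec (τ : K ≃+* K) (M : Matrix (Fin n) (Fin n) K) (w : Fin n → K) :
    (fun k => τ ((M *ᵥ w) k)) = M.map τ *ᵥ (fun k => τ (w k)) := by
  funext k
  simp [Matrix.mulVec, dotProduct, map_sum, map_mul]

/-- the Poincaré series -/
def bser (g : Matrix (Fin n) (Fin n) K) (r : ℕ) (v : Fin n → K) : Fin n → K :=
  ∑ i ∈ Finset.range r, PM σ g i *ᵥ (fun k => (σ ^ i) (v k))

theorem bser_fix {r : ℕ} (hσ : σ ^ r = 1) (g : Matrix (Fin n) (Fin n) K) (hg : PM σ g r = 1)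
    (v : Fin n → K) :
    g *ᵥ (fun k => σ (bser σ g r v k)) = bser σ g r v := by
  have h1 : (fun k => σ (bser σ g r v k)) =
      ∑ i ∈ Finset.range r, (PM σ g i).map σ *ᵥ (fun k => (σ ^ (i + 1)) (v k)) := by
    unfold bser
    funext k
    rw [Finset.sum_apply, Finset.sum_apply, map_sum]
    apply Finset.sum_congr rfl
    intro i _
    have := congrFun (sig_mulVec σ (PM σ g i) (fun k => (σ ^ i) (v k))) k
    rw [this]
    congr 2
    funext k
    rw [pow_succ', RingAut.mul_apply]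
  rw [h1, Matrix.mulVec_sum]
  have h2 : ∀ i ∈ Finset.range r,
      g *ᵥ ((PM σ g i).map σ *ᵥ (fun k => (σ ^ (i + 1)) (v k))) =
      PM σ g (i + 1) *ᵥ (fun k => (σ ^ (i + 1)) (v k)) := by
    intro i _
    rw [Matrix.mulVec_mulVec, PM_succ]
  rw [Finset.sum_congr rfl h2]
  unfold bser
  have h3 := Finset.sum_range_succ (fun i => PM σ g i *ᵥ (fun k => (σ ^ i) (v k))) r
  have h4 := Finset.sum_range_succ' (fun i => PM σ g i *ᵥ (fun k => (σ ^ i) (v k))) r
  rw [h3] at h4
  simp only [hg, hσ, PM_zero, pow_zero, RingAut.one_apply, Matrix.one_mulVec] at h4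
  exact (add_right_cancel h4).symm

theorem bser_smul (g : Matrix (Fin n) (Fin n) K) (r : ℕ) (a : K) (v : Fin n → K) :
    bser σ g r (a • v) =
      ∑ i ∈ Finset.range r, (σ ^ i) a • (PM σ g i *ᵥ (fun k => (σ ^ i) (v k))) := by
  unfold bser
  apply Finset.sum_congr rfl
  intro i _
  rw [← Matrix.mulVec_smul]
  congr 1
  funext k
  simp

theorem span_bser {r : ℕ} (hr : 0 < r) (hσ : orderOf σ = r) (g : Matrix (Fin n) (Fin n) K) :
    Submodule.span K (Set.range (bser σ g r)) = ⊤ := by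
  classical
  by_contra hne
  have hlt : Submodule.span K (Set.range (bser σ g r)) < ⊤ := lt_top_iff_ne_top.2 hne
  obtain ⟨ℓ, hℓ0, hℓ⟩ := Submodule.exists_le_ker_of_lt_top _ hlt
  apply hℓ0
  apply LinearMap.ext
  intro v
  have hzero : ∀ a : K, ∑ i ∈ Finset.range r,
      ℓ (PM σ g i *ᵥ (fun k => (σ ^ i) (v k))) * (σ ^ i) a = 0 := by
    intro a
    have h1 : ℓ (bser σ g r (a • v)) = 0 :=
      hℓ (Submodule.subset_span ⟨_, rfl⟩)
    rw [bser_smul, map_sum] at h1
    rw [← h1]
    apply Finset.sum_congr rfl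
    intro i _
    rw [map_smul, smul_eq_mul, mul_comm]
  have hli := linearIndependent_monoidHom K K
  have hinj : Function.Injective
      (fun i : Fin r => ((σ ^ (i : ℕ) : K ≃+* K) : K →+* K).toMonoidHom) := by
    intro i j hij
    have h1 : σ ^ (i : ℕ) = σ ^ (j : ℕ) := by
      ext x
      have := DFunLike.congr_fun hij x
      exact this
    apply Fin.ext
    apply pow_injOn_Iio_orderOf (x := σ)
    · rw [Set.mem_Iio, hσ]; exact i.2
    · rw [Set.mem_Iio, hσ]; exact j.2
    · exact h1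
  have hli' := hli.comp _ hinj
  rw [Fintype.linearIndependent_iff] at hli'
  have h0 := hli' (fun i => ℓ (PM σ g i *ᵥ (fun k => (σ ^ (i : ℕ)) (v k)))) (by
    funext θ
    have := hzero θ
    rw [← Fin.sum_univ_eq_sum_range
      (fun i => ℓ (PM σ g i *ᵥ (fun k => (σ ^ i) (v k))) * (σ ^ i) θ) r] at this
    simp only [Finset.sum_apply, Pi.smul_apply, Function.comp_apply, smul_eq_mul, Pi.zero_apply]
    exact this) ⟨0, hr⟩
  simp only [PM_zero, pow_zero, Matrix.one_mulVec] at h0
  rw [LinearMap.zero_apply, ← h0]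
  rfl

/-- **Hilbert 90 for `GL_n`** (cyclic case): a matrix cocycle is a coboundary. -/
theorem hilbert90_GL {r : ℕ} (hr : 0 < r) (hσ : orderOf σ = r) (g : Matrix (Fin n) (Fin n) K)
    (hg : PM σ g r = 1) :
    ∃ h : Matrix (Fin n) (Fin n) K, IsUnit h ∧ g * h.map σ = h := by
  classical
  have hσr : σ ^ r = 1 := by rw [← hσ, pow_orderOf_eq_one]
  obtain ⟨s, hs, hspan, hli⟩ := exists_linearIndependent K (Set.range (bser σ g r))
  rw [span_bser σ hr hσ g] at hspan
  let B : Module.Basis s K (Fin n → K) := Module.Basis.mk hli (by rw [Subtype.range_coe, hspan])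
  haveI : Fintype s := FiniteDimensional.fintypeBasisIndex B
  have hcard : Fintype.card s = n := by
    have := Module.finrank_eq_card_basis B
    rw [Module.finrank_fin_fun] at this
    exact this.symm
  let e : Fin n ≃ s := (Fintype.equivFinOfCardEq hcard).symm
  let h : Matrix (Fin n) (Fin n) K := Matrix.of (fun i j => (e j : Fin n → K) i)
  have hcol : ∀ j, h.col j = (e j : Fin n → K) := fun j => rfl
  refine ⟨h, ?_, ?_⟩
  · rw [← Matrix.linearIndependent_cols_iff_isUnit]
    have h1 : h.col = fun j => (e j : Fin n → K) := rfl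
    rw [h1]
    exact hli.comp _ e.injective
  · ext i j
    obtain ⟨v, hv⟩ := hs (e j).2
    have h2 := congrFun (bser_fix σ hσr g hg v) i
    rw [hv] at h2
    rw [Matrix.mul_apply]
    rw [Matrix.mulVec, dotProduct] at h2
    exact h2

end

section

open Matrix

variable {K : Type*} [Field K] (σ : K ≃+* K) {n : ℕ}

/-- the norm `∏_{i<r} σ^i(d)` -/
def Nm (r : ℕ) (d : K) : K := ∏ i ∈ Finset.range r, (σ ^ i) d

theorem Nm_zero (d : K) : Nm σ 0 d = 1 := by simp [Nm]

theorem Nm_succ (r : ℕ) (d : K) : Nm σ (r + 1) d = Nm σ r d * (σ ^ r) d := by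
  simp [Nm, Finset.prod_range_succ]

theorem Nm_succ' (r : ℕ) (d : K) : Nm σ (r + 1) d = d * σ (Nm σ r d) := by
  unfold Nm
  rw [Finset.prod_range_succ', map_prod, mul_comm]
  congr 1
  apply Finset.prod_congr rfl
  intro i _
  rw [pow_succ', RingAut.mul_apply]

theorem Nm_mul (r : ℕ) (a b : K) : Nm σ r (a * b) = Nm σ r a * Nm σ r b := by
  simp [Nm, Finset.prod_mul_distrib]

theorem Nm_one (r : ℕ) : Nm σ r (1 : K) = 1 := by simp [Nm]

theorem Nm_ne_zero (r : ℕ) {d : K} (hd : d ≠ 0) : Nm σ r d ≠ 0 := by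
  unfold Nm
  rw [Finset.prod_ne_zero_iff]
  intro i _
  exact (map_ne_zero_iff (σ ^ i) (σ ^ i).injective).2 hd

theorem Nm_inv (r : ℕ) (d : K) : Nm σ r d⁻¹ = (Nm σ r d)⁻¹ := by
  simp [Nm, Finset.prod_inv_distrib]

theorem sig_Nm {r : ℕ} (hσ : σ ^ r = 1) (d : K) : σ (Nm σ r d) = Nm σ r d := by
  have h1 := Nm_succ σ r d
  have h2 := Nm_succ' σ r d
  rw [hσ, RingAut.one_apply] at h1
  rw [h1] at h2
  by_cases hd : d = 0
  · subst hd
    cases r with
    | zero => simp [Nm]
    | succ r => simp [Nm, Finset.prod_range_succ']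
  · rw [mul_comm] at h2
    exact (mul_left_cancel₀ hd h2).symm

theorem Nm_sig {r : ℕ} (hσ : σ ^ r = 1) (d : K) : Nm σ r (σ d) = Nm σ r d := by
  rw [← sig_Nm σ hσ d]
  unfold Nm
  rw [map_prod]
  apply Finset.prod_congr rfl
  intro i _
  rw [← RingAut.mul_apply, ← RingAut.mul_apply, ← pow_succ, ← pow_succ']

theorem PM_smul (a : K) (g : Matrix (Fin n) (Fin n) K) (i : ℕ) :
    PM σ (a • g) i = Nm σ i a • PM σ g i := by
  induction i with
  | zero => simp [PM_zero, Nm_zero]
  | succ i ih =>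
    rw [PM_succ, ih, PM_succ, Nm_succ']
    have h1 : (Nm σ i a • PM σ g i).map σ = σ (Nm σ i a) • (PM σ g i).map σ := by
      ext x y
      simp [Matrix.map_apply]
    rw [h1, Matrix.smul_mul, Matrix.mul_smul, smul_smul]

theorem PM_succ_right (g : Matrix (Fin n) (Fin n) K) (i : ℕ) :
    PM σ g (i + 1) = PM σ g i * g.map (σ ^ i) := by
  induction i with
  | zero =>
    rw [PM_succ, PM_zero, Matrix.one_mul, pow_zero]
    have h1 : (1 : Matrix (Fin n) (Fin n) K).map σ = 1 := by
      ext x y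
      by_cases hxy : x = y
      · subst hxy; simp
      · simp [Matrix.one_apply_ne hxy]
    rw [h1, Matrix.mul_one]
    ext x y
    rfl
  | succ i ih =>
    rw [PM_succ, ih, Matrix.map_mul, ← Matrix.mul_assoc, ← PM_succ]
    congr 1
    ext x y
    simp only [Matrix.map_apply]
    rw [pow_succ' σ i, RingAut.mul_apply]

/-- scalar version of Hilbert 90 -/
theorem hilbert90_scalar {r : ℕ} (hr : 0 < r) (hσ : orderOf σ = r) (c : K) (hc : Nm σ r c = 1) :
    ∃ l : K, l ≠ 0 ∧ c * σ l = l := by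
  have h1 : PM σ (c • (1 : Matrix (Fin 1) (Fin 1) K)) r = 1 := by
    rw [PM_smul, hc, one_smul]
    have : ∀ i, PM σ (1 : Matrix (Fin 1) (Fin 1) K) i = 1 := by
      intro i
      induction i with
      | zero => rfl
      | succ i ih =>
        rw [PM_succ, ih, Matrix.one_mul]
        ext x y
        by_cases hxy : x = y
        · subst hxy; simp
        · simp [Matrix.one_apply_ne hxy]
    exact this r
  obtain ⟨h, hu, hh⟩ := hilbert90_GL σ hr hσ _ h1
  refine ⟨h 0 0, ?_, ?_⟩
  · intro h0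
    have : h = 0 := by
      ext x y
      rw [Subsingleton.elim x 0, Subsingleton.elim y 0, h0]
      rfl
    rw [this] at hu
    exact not_isUnit_zero hu
  · have := congrFun (congrFun hh 0) 0
    simpa [Matrix.mul_apply] using this

section fin

variable [Fintype K]

/-- the norm maps onto the fixed units -/
theorem Nm_surjective {r : ℕ} (hr : 0 < r) (hσ : orderOf σ = r) (c : K) (hc0 : c ≠ 0)
    (hc : σ c = c) : ∃ d : K, d ≠ 0 ∧ Nm σ r d = c := by
  classical
  have hσr : σ ^ r = 1 := by rw [← hσ, pow_orderOf_eq_one]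
  -- the norm as a homomorphism of units
  let N : Kˣ →* Kˣ :=
    { toFun := fun d => Units.mk0 (Nm σ r d) (Nm_ne_zero σ r d.ne_zero)
      map_one' := by apply Units.ext; simp [Nm_one]
      map_mul' := fun a b => by apply Units.ext; simp [Nm_mul] }
  let D : Kˣ →* Kˣ :=
    { toFun := fun e => Units.mk0 ((e : K) * (σ e)⁻¹) (mul_ne_zero e.ne_zero
        (inv_ne_zero (by simpa using e.ne_zero)))
      map_one' := by apply Units.ext; simp
      map_mul' := fun a b => by
        apply Units.ext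
        simp only [Units.val_mul, Units.val_mk0, map_mul, _root_.mul_inv_rev]
        ring }
  let U₀ : Subgroup Kˣ :=
    { carrier := {e | σ (e : K) = e}
      mul_mem' := fun {a b} ha hb => by
        simp only [Set.mem_setOf_eq] at ha hb ⊢
        rw [Units.val_mul, map_mul, ha, hb]
      one_mem' := by simp
      inv_mem' := fun {a} ha => by
        simp only [Set.mem_setOf_eq] at ha ⊢
        rw [Units.val_inv_eq_inv_val, map_inv₀, ha] }
  have hkerD : D.ker = U₀ := by
    ext e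
    rw [MonoidHom.mem_ker]
    rw [Units.ext_iff]
    show (e : K) * (σ e)⁻¹ = 1 ↔ σ (e : K) = e
    have hne : σ (e : K) ≠ 0 := by simpa using e.ne_zero
    constructor
    · intro h
      have := congrArg (fun x => x * σ (e : K)) h
      simp only [one_mul] at this
      rw [mul_assoc, inv_mul_cancel₀ hne, mul_one] at this
      exact this.symm
    · intro h
      rw [h, mul_inv_cancel₀ e.ne_zero]
  have hkerN : N.ker = D.range := by
    ext c'
    rw [MonoidHom.mem_ker, MonoidHom.mem_range]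
    constructor
    · intro h
      have h1 : Nm σ r (c' : K) = 1 := by
        have := congrArg Units.val h
        simpa [N] using this
      obtain ⟨l, hl0, hl⟩ := hilbert90_scalar σ hr hσ _ h1
      refine ⟨Units.mk0 l hl0, ?_⟩
      apply Units.ext
      show l * (σ l)⁻¹ = c'
      have hne : σ l ≠ 0 := by simpa using hl0
      calc l * (σ l)⁻¹ = ((c' : K) * σ l) * (σ l)⁻¹ := by rw [hl]
        _ = c' := by rw [mul_assoc, mul_inv_cancel₀ hne, mul_one]
    · rintro ⟨e, rfl⟩
      apply Units.ext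
      show Nm σ r ((e : K) * (σ e)⁻¹) = 1
      rw [Nm_mul, Nm_inv, Nm_sig σ hσr, mul_inv_cancel₀ (Nm_ne_zero σ r e.ne_zero)]
  have hrange : N.range ≤ U₀ := by
    rintro _ ⟨d, rfl⟩
    show σ (Nm σ r d) = Nm σ r d
    exact sig_Nm σ hσr d
  -- cardinalities
  have h1 : Nat.card N.range * Nat.card N.ker = Nat.card Kˣ := by
    rw [← Nat.card_congr (QuotientGroup.quotientKerEquivRange N).toEquiv]
    exact (Subgroup.card_eq_card_quotient_mul_card_subgroup N.ker).symm
  have h2 : Nat.card D.range * Nat.card D.ker = Nat.card Kˣ := by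
    rw [← Nat.card_congr (QuotientGroup.quotientKerEquivRange D).toEquiv]
    exact (Subgroup.card_eq_card_quotient_mul_card_subgroup D.ker).symm
  rw [hkerN] at h1
  rw [hkerD] at h2
  have h3 : Nat.card N.range = Nat.card U₀ := by
    have hpos : 0 < Nat.card D.range := Nat.card_pos
    have : Nat.card N.range * Nat.card D.range = Nat.card D.range * Nat.card U₀ := by
      rw [h1, h2]
    rw [mul_comm] at this
    exact Nat.eq_of_mul_eq_mul_left hpos this
  have h4 : N.range = U₀ := by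
    apply Subgroup.eq_of_le_of_card_ge hrange
    rw [h3]
  have h5 : Units.mk0 c hc0 ∈ N.range := by
    rw [h4]
    exact hc
  obtain ⟨d, hd⟩ := h5
  refine ⟨d, d.ne_zero, ?_⟩
  have := congrArg Units.val hd
  simpa [N] using this

end fin

end

section

open Matrix

variable {n : ℕ} {F : Type*} [Field F]

/-- GL-level field automorphism -/
abbrev gmap (σ : F ≃+* F) : GL (Fin n) F →* GL (Fin n) F :=
  Matrix.GeneralLinearGroup.map (σ : F →+* F)

theorem gmap_coe (σ : F ≃+* F) (g : GL (Fin n) F) :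
    ((gmap σ g : GL (Fin n) F) : Matrix (Fin n) (Fin n) F) =
      (g : Matrix (Fin n) (Fin n) F).map σ := rfl

/-- GL-level partial norm -/
def PG (σ : F ≃+* F) (g : GL (Fin n) F) : ℕ → GL (Fin n) F
  | 0 => 1
  | (i + 1) => g * gmap σ (PG σ g i)

theorem PG_coe (σ : F ≃+* F) (g : GL (Fin n) F) (i : ℕ) :
    ((PG σ g i : GL (Fin n) F) : Matrix (Fin n) (Fin n) F) =
      PM σ (g : Matrix (Fin n) (Fin n) F) i := by
  induction i with
  | zero => rfl
  | succ i ih =>
    show ((g * gmap σ (PG σ g i) : GL (Fin n) F) : Matrix (Fin n) (Fin n) F) = _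
    rw [Units.val_mul, gmap_coe, ih, PM_succ]

theorem pow_cGL_fAut (σ : F ≃+* F) (g : GL (Fin n) F) (i : ℕ) :
    (cGL g * fAut σ) ^ i = cGL (PG σ g i) * fAut (σ ^ i) := by
  induction i with
  | zero =>
    show _ = cGL 1 * fAut 1
    rw [pow_zero, map_one, map_one, mul_one]
  | succ i ih =>
    rw [pow_succ', ih, mul_form0, ← pow_succ']
    rfl

theorem cGL_eq_of_smul {g g' : GL (Fin n) F} {d : F} (hd : d ≠ 0)
    (h : (g : Matrix (Fin n) (Fin n) F) = d • (g' : Matrix (Fin n) (Fin n) F)) :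
    cGL g = cGL g' := by
  have h1 : g = Matrix.GeneralLinearGroup.scalar (Fin n) (Units.mk0 d hd) * g' := by
    apply Units.ext
    rw [Units.val_mul, h, Matrix.GeneralLinearGroup.coe_scalar]
    show _ = Matrix.scalar (Fin n) d * _
    rw [Matrix.scalar_apply, ← Matrix.smul_eq_diagonal_mul]
  rw [h1, map_mul, cGL_eq_one_of_mem_center, one_mul]
  rw [Matrix.GeneralLinearGroup.center_eq_range_scalar]
  exact ⟨_, rfl⟩

theorem conj_cGL_fAut (σ : F ≃+* F) (h : GL (Fin n) F) :
    cGL h * fAut σ * (cGL h)⁻¹ = cGL (h * (gmap σ h)⁻¹) * fAut σ := by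
  rw [← map_inv, mul_assoc, fAut_mul_cGL, ← mul_assoc, ← map_mul, map_inv]

section fin

variable [Fintype F]

/-- the key conjugacy statement for field automorphisms -/
theorem field_conj (hn : 2 ≤ n) (hp : HasParPA n F) (σ : F ≃+* F) {r : ℕ} (hr : 0 < r)
    (hσ : orderOf σ = r) (g : GL (Fin n) F) (h : (cGL g * fAut σ) ^ r = 1) :
    ∃ k : GL (Fin n) F, cGL g * fAut σ = cGL k * fAut σ * (cGL k)⁻¹ := by
  have hσr : σ ^ r = 1 := by rw [← hσ, pow_orderOf_eq_one]
  rw [pow_cGL_fAut, hσr, map_one, mul_one] at h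
  have h1 : fAut (n := n) (1 : F ≃+* F) = cGL (PG σ g r) := by rw [map_one, h]
  obtain ⟨-, c, hc, h2⟩ := uniq0 hn hp _ 1 h1
  rw [PG_coe] at h2
  -- `c` is fixed
  have h3 : σ c = c := by
    have e1 := PM_succ σ (g : Matrix (Fin n) (Fin n) F) r
    have e2 := PM_succ_right σ (g : Matrix (Fin n) (Fin n) F) r
    rw [e1, h2, hσr] at e2
    have e3 : ((c • (1 : Matrix (Fin n) (Fin n) F)).map σ) = σ c • 1 := by
      ext x y
      by_cases hxy : x = y
      · subst hxy; simp
      · simp [Matrix.one_apply_ne hxy]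
    have e4 : (g : Matrix (Fin n) (Fin n) F).map ((1 : F ≃+* F)) = g := by
      ext x y; rfl
    rw [e3, e4, Matrix.mul_smul, Matrix.mul_one, Matrix.smul_mul, Matrix.one_mul] at e2
    -- g has a nonzero entry
    have hne : ∃ x y, (g : Matrix (Fin n) (Fin n) F) x y ≠ 0 := by
      by_contra hcon
      push Not at hcon
      have h0 : (g : Matrix (Fin n) (Fin n) F) = 0 := by ext x y; exact hcon x y
      have hdet := Matrix.GeneralLinearGroup.det_ne_zero g
      haveI : Nonempty (Fin n) := ⟨⟨0, by omega⟩⟩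
      rw [h0, Matrix.det_zero] at hdet
      exact hdet rfl
    obtain ⟨x, y, hxy⟩ := hne
    have e5 := congrFun (congrFun e2 x) y
    simp only [Matrix.smul_apply, smul_eq_mul] at e5
    exact mul_right_cancel₀ hxy e5
  obtain ⟨d, hd0, hd⟩ := Nm_surjective σ hr hσ c hc h3
  -- normalise
  have h4 : PM σ (d⁻¹ • (g : Matrix (Fin n) (Fin n) F)) r = 1 := by
    rw [PM_smul, h2, Nm_inv, hd, smul_smul, inv_mul_cancel₀ hc, one_smul]
  obtain ⟨k, hku, hk⟩ := hilbert90_GL σ hr hσ _ h4
  obtain ⟨kG, rfl⟩ := hku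
  refine ⟨kG, ?_⟩
  rw [conj_cGL_fAut]
  congr 1
  apply cGL_eq_of_smul hd0
  rw [Units.val_mul, ← map_inv, gmap_coe]
  have h5 : (kG : Matrix (Fin n) (Fin n) F).map σ *
      ((kG⁻¹ : GL (Fin n) F) : Matrix (Fin n) (Fin n) F).map σ = 1 := by
    rw [← Matrix.map_mul, ← Units.val_mul, mul_inv_cancel]
    ext x y
    by_cases hxy : x = y
    · subst hxy; simp
    · simp [Matrix.one_apply_ne hxy]
  rw [← hk, Matrix.smul_mul, Matrix.smul_mul, Matrix.mul_assoc, h5, Matrix.mul_one, smul_smul,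
    mul_inv_cancel₀ hd0, one_smul]

end fin

end

section

open Matrix

variable {n : ℕ} {F : Type*} [Field F]

theorem map_map_sig (σ : F ≃+* F) (hσ2 : ∀ a, σ (σ a) = a) (M : Matrix (Fin n) (Fin n) F) :
    (M.map σ).map σ = M := by
  ext x y
  simp [hσ2]

/-- classification of Hermitian matrices over a finite field -/
theorem herm_class [Fintype F] (σ : F ≃+* F) (hσ1 : σ ≠ 1) (hσ2 : ∀ a, σ (σ a) = a)
    (M : Matrix (Fin n) (Fin n) F) (hM : (M.map σ)ᵀ = M) (hdet : IsUnit M) :
    ∃ k : Matrix (Fin n) (Fin n) F, IsUnit k ∧ M = k * (k.map σ)ᵀ := by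
  classical
  obtain ⟨Mi, hMi1, hMi2⟩ : ∃ Mi : Matrix (Fin n) (Fin n) F, M * Mi = 1 ∧ Mi * M = 1 := by
    obtain ⟨u, rfl⟩ := hdet
    exact ⟨(u⁻¹ : (Matrix (Fin n) (Fin n) F)ˣ), by rw [← Units.val_mul, mul_inv_cancel, Units.val_one],
      by rw [← Units.val_mul, inv_mul_cancel, Units.val_one]⟩
  let σ' : F →+* F := (σ : F →+* F)
  have hMsym : ∀ i j, σ (M i j) = M j i := by
    intro i j
    have := congrFun (congrFun hM j) i
    simpa using this
  let B : (Fin n → F) →ₛₗ[σ'] (Fin n → F) →ₗ[F] F :=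
    LinearMap.mk₂'ₛₗ σ' (RingHom.id F) (fun u v => (fun i => σ (u i)) ⬝ᵥ (M *ᵥ v))
      (by
        intro u₁ u₂ v
        rw [← add_dotProduct]
        congr 1
        funext i
        simp)
      (by
        intro c u v
        rw [smul_eq_mul, ← smul_eq_mul, ← smul_dotProduct]
        congr 1
        funext i
        simp [σ'])
      (by
        intro u v₁ v₂
        rw [Matrix.mulVec_add, dotProduct_add])
      (by
        intro c u v
        rw [Matrix.mulVec_smul, dotProduct_smul]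
        rfl)
  have hBdef : ∀ u v, B u v = (fun i => σ (u i)) ⬝ᵥ (M *ᵥ v) := fun u v => rfl
  have hS : B.IsSymm := by
    constructor
    intro u v
    rw [hBdef, hBdef]
    show σ _ = _
    simp only [dotProduct, Matrix.mulVec, map_sum, map_mul, hσ2, hMsym, Finset.mul_sum]
    rw [Finset.sum_comm]
    apply Finset.sum_congr rfl
    intro j _
    apply Finset.sum_congr rfl
    intro i _
    ring
  have hND : B.Nondegenerate := by
    constructor
    · intro u hu
      have h1 : (fun i => σ (u i)) ᵥ* M = 0 := by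
        apply dotProduct_eq_zero
        intro w
        have := hu w
        rw [hBdef, Matrix.dotProduct_mulVec] at this
        exact this
      have h2 : (fun i => σ (u i)) = 0 := by
        have := congrArg (fun w => w ᵥ* Mi) h1
        simp only [Matrix.vecMul_vecMul, hMi1, Matrix.vecMul_one, Matrix.zero_vecMul] at this
        exact this
      funext i
      have := congrFun h2 i
      simpa using this
    · intro v hv
      have h1 : M *ᵥ v = 0 := by
        funext j
        have := hv (Pi.single j 1)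
        rw [hBdef] at this
        have e : (fun i => σ ((Pi.single j (1 : F) : Fin n → F) i)) = Pi.single j 1 := by
          funext i
          by_cases hij : i = j
          · subst hij; simp
          · simp [Pi.single_eq_of_ne hij]
        rw [e, single_one_dotProduct] at this
        exact this
      have := congrArg (fun w => Mi *ᵥ w) h1
      simp only [Matrix.mulVec_mulVec, hMi2, Matrix.one_mulVec, Matrix.mulVec_zero] at this
      exact this
  have hσ' : σ' ≠ RingHom.id F := by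
    intro h
    apply hσ1
    ext a
    have := RingHom.congr_fun h a
    exact this
  obtain ⟨b, hb⟩ := Cfsg.Agent.S0755.result σ' hσ' hσ2 B hS hND
  have hfr : Module.finrank F (Fin n → F) = n := Module.finrank_fin_fun F
  let e : Fin n ≃ Fin (Module.finrank F (Fin n → F)) := finCongr hfr.symm
  let P : Matrix (Fin n) (Fin n) F := Matrix.of (fun i j => b (e j) i)
  let Q : Matrix (Fin n) (Fin n) F := (P.map σ)ᵀ
  have hQ : Q * (M * P) = 1 := by
    ext j k
    have h1 := hb (e j) (e k)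
    rw [hBdef] at h1
    rw [Matrix.mul_apply]
    have h2 : ∀ i, (M * P) i k = (M *ᵥ (b (e k))) i := by
      intro i
      rw [Matrix.mul_apply, Matrix.mulVec, dotProduct]
      rfl
    simp only [h2]
    have h3 : ∀ i, Q j i = σ (b (e j) i) := fun i => rfl
    simp only [h3]
    rw [dotProduct] at h1
    rw [h1, Matrix.one_apply]
    simp only [EmbeddingLike.apply_eq_iff_eq]
  have hQ' : (M * P) * Q = 1 := mul_eq_one_comm.1 hQ
  refine ⟨M * P, ?_, ?_⟩
  · exact IsUnit.of_mul_eq_one _ hQ'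
  · have h1 : ((M * P).map σ)ᵀ = Q * M := by
      rw [Matrix.map_mul, Matrix.transpose_mul, hM]
    rw [h1, ← Matrix.mul_assoc, hQ', Matrix.one_mul]

end

section

open Matrix

variable {n : ℕ} {F : Type*} [Field F]

/-- GL-level inverse transpose -/
def tGL (g : GL (Fin n) F) : GL (Fin n) F :=
  ⟨((g⁻¹ : GL (Fin n) F) : Matrix (Fin n) (Fin n) F)ᵀ, (g : Matrix (Fin n) (Fin n) F)ᵀ,
    by rw [← Matrix.transpose_mul, gl_mul_inv, Matrix.transpose_one],
    by rw [← Matrix.transpose_mul, gl_inv_mul, Matrix.transpose_one]⟩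

theorem tGL_coe (g : GL (Fin n) F) :
    ((tGL g : GL (Fin n) F) : Matrix (Fin n) (Fin n) F) =
      ((g⁻¹ : GL (Fin n) F) : Matrix (Fin n) (Fin n) F)ᵀ := rfl

theorem tGL_inv_coe (g : GL (Fin n) F) :
    ((tGL g⁻¹ : GL (Fin n) F) : Matrix (Fin n) (Fin n) F) =
      (g : Matrix (Fin n) (Fin n) F)ᵀ := by
  rw [tGL_coe, inv_inv]

theorem tAut_mul_cGL' (g : GL (Fin n) F) :
    (tAut : MulAut (ProjectiveSpecialLinearGroup (Fin n) F)) * cGL g = cGL (tGL g) * tAut := by
  ext x
  induction x using QuotientGroup.induction_on with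
  | H s =>
    show desc invT (desc (conjGL g) (QuotientGroup.mk s)) =
      desc (conjGL _) (desc invT (QuotientGroup.mk s))
    rw [desc_mk, desc_mk, desc_mk, desc_mk]
    congr 1
    apply Subtype.ext
    rw [invT_coe, conjGL_coe, invT_coe, ← map_inv, conjGL_coe]
    show _ = ((g⁻¹ : GL (Fin n) F) : Matrix (Fin n) (Fin n) F)ᵀ * _ * (g : Matrix (Fin n) (Fin n) F)ᵀ
    rw [Matrix.transpose_mul, Matrix.transpose_mul, Matrix.mul_assoc]

/-- the standard graph-field automorphism -/
noncomputable def gfAut (σ : F ≃+* F) : MulAut (ProjectiveSpecialLinearGroup (Fin n) F) :=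
  fAut σ * tAut

theorem gfAut_mul_cGL (σ : F ≃+* F) (g : GL (Fin n) F) :
    gfAut σ * cGL g = cGL (gmap σ (tGL g)) * gfAut σ := by
  unfold gfAut
  rw [mul_assoc, tAut_mul_cGL', ← mul_assoc, fAut_mul_cGL, mul_assoc]

theorem gfAut_sq (σ : F ≃+* F) : gfAut (n := n) σ * gfAut σ = fAut (σ * σ) := by
  unfold gfAut
  rw [mul_assoc, ← mul_assoc tAut, tAut_comm_fAut, mul_assoc, tAut_mul_tAut, mul_one, ← map_mul]

theorem sq_cGL_gfAut (σ : F ≃+* F) (g : GL (Fin n) F) :
    (cGL g * gfAut σ) ^ 2 = cGL (g * gmap σ (tGL g)) * fAut (σ * σ) := by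
  rw [pow_two, mul_assoc, ← mul_assoc (gfAut σ), gfAut_mul_cGL, mul_assoc, gfAut_sq, ← mul_assoc,
    ← map_mul]

theorem conj_cGL_gfAut (σ : F ≃+* F) (h : GL (Fin n) F) :
    cGL h * gfAut σ * (cGL h)⁻¹ = cGL (h * gmap σ (tGL h⁻¹)) * gfAut σ := by
  rw [← map_inv, mul_assoc, gfAut_mul_cGL, ← mul_assoc, ← map_mul]

section fin

variable [Fintype F]

theorem graphfield_conj (hn : 2 ≤ n) (hp : HasParPA n F) (σ : F ≃+* F) (hσ1 : σ ≠ 1)
    (hσ2 : σ * σ = 1) (g : GL (Fin n) F) (h : (cGL g * gfAut σ) ^ 2 = 1) :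
    ∃ k : GL (Fin n) F, cGL g * gfAut σ = cGL k * gfAut σ * (cGL k)⁻¹ := by
  have hσσ : ∀ a, σ (σ a) = a := by
    intro a
    have := RingEquiv.congr_fun hσ2 a
    exact this
  rw [sq_cGL_gfAut, hσ2, map_one, mul_one] at h
  have h1 : fAut (n := n) (1 : F ≃+* F) = cGL (g * gmap σ (tGL g)) := by rw [map_one, h]
  obtain ⟨-, c, hc, h2⟩ := uniq0 hn hp _ 1 h1
  rw [Units.val_mul, gmap_coe, tGL_coe] at h2
  set M : Matrix (Fin n) (Fin n) F := (g : Matrix (Fin n) (Fin n) F) with hMdef
  -- M = c • σ(M)ᵀ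
  have h3 : M = c • (M.map σ)ᵀ := by
    have e1 : ((g⁻¹ : GL (Fin n) F) : Matrix (Fin n) (Fin n) F)ᵀ.map σ * (M.map σ)ᵀ = 1 := by
      rw [Matrix.transpose_map, ← Matrix.transpose_mul, ← Matrix.map_mul, hMdef, gl_mul_inv]
      ext x y
      by_cases hxy : x = y
      · subst hxy; simp
      · simp [Matrix.one_apply_ne hxy, Matrix.one_apply_ne (Ne.symm hxy)]
    have e2 := congrArg (fun X => X * (M.map σ)ᵀ) h2
    simp only [Matrix.mul_assoc, e1, Matrix.mul_one, Matrix.smul_mul, Matrix.one_mul] at e2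
    exact e2
  have h4 : (M.map σ)ᵀ = σ c • M := by
    conv_lhs => rw [h3]
    have e1 : ((c • (M.map σ)ᵀ).map σ) = σ c • ((M.map σ)ᵀ).map σ := by
      ext x y
      simp [Matrix.map_apply]
    rw [e1, Matrix.transpose_smul, Matrix.transpose_map, Matrix.transpose_transpose,
      map_map_sig σ hσσ]
  have hne : ∃ x y, M x y ≠ 0 := by
    by_contra hcon
    push Not at hcon
    have h0 : M = 0 := by ext x y; exact hcon x y
    have hdet := Matrix.GeneralLinearGroup.det_ne_zero g
    haveI : Nonempty (Fin n) := ⟨⟨0, by omega⟩⟩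
    rw [← hMdef, h0, Matrix.det_zero] at hdet
    exact hdet rfl
  have h5 : c * σ c = 1 := by
    obtain ⟨x, y, hxy⟩ := hne
    have e1 : M = (c * σ c) • M := by
      conv_lhs => rw [h3, h4, smul_smul]
    have e2 := congrFun (congrFun e1 x) y
    simp only [Matrix.smul_apply, smul_eq_mul] at e2
    have e3 : (1 : F) * M x y = (c * σ c) * M x y := by rw [one_mul]; exact e2
    exact (mul_right_cancel₀ hxy e3).symm
  have hord : orderOf σ = 2 := by
    apply orderOf_eq_prime
    · rw [pow_two]; exact hσ2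
    · exact hσ1
  have h6 : Nm σ 2 c = 1 := by
    simp only [Nm, Finset.prod_range_succ, Finset.prod_range_zero, pow_zero, pow_one, one_mul,
      RingAut.one_apply]
    exact h5
  obtain ⟨l, hl0, hl⟩ := hilbert90_scalar σ (by norm_num) hord c h6
  -- the Hermitian matrix
  have hσl : σ c * l = σ l := by
    have := congrArg σ hl
    rw [map_mul, hσσ] at this
    exact this
  have hσl0 : σ l ≠ 0 := (map_ne_zero_iff σ σ.injective).2 hl0
  have hH : ((σ l • M).map σ)ᵀ = σ l • M := by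
    have e1 : ((σ l • M).map σ) = σ (σ l) • M.map σ := by
      ext x y
      simp [Matrix.map_apply]
    rw [e1, Matrix.transpose_smul, h4, hσσ, smul_smul, mul_comm, hσl]
  have hU : IsUnit (σ l • M) := by
    have h7 : IsUnit M := ⟨g, rfl⟩
    rw [Matrix.isUnit_iff_isUnit_det] at h7 ⊢
    rw [Matrix.det_smul]
    exact (IsUnit.mk0 _ (pow_ne_zero _ hσl0)).mul h7
  obtain ⟨k, hku, hk⟩ := herm_class σ hσ1 hσσ _ hH hU
  obtain ⟨kG, rfl⟩ := hku
  refine ⟨kG, ?_⟩
  rw [conj_cGL_gfAut]
  congr 1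
  apply cGL_eq_of_smul (inv_ne_zero hσl0)
  rw [Units.val_mul, gmap_coe, tGL_inv_coe, Matrix.transpose_map, ← hk, smul_smul,
    inv_mul_cancel₀ hσl0, one_smul]

end fin

end

section

open Matrix

variable {n : ℕ} {F : Type*} [Field F]

theorem inndiag_eq : Cfsg.inndiagPSL n F = (cGL (n := n) (F := F)).range := by
  unfold Cfsg.inndiagPSL Cfsg.autSubgroupOf
  have h : {β : MulAut (ProjectiveSpecialLinearGroup (Fin n) F) | Cfsg.IsInnerDiagonalAutPSL β} =
      ((cGL (n := n) (F := F)).range : Set _) := by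
    ext β
    constructor
    · rintro ⟨g, hg⟩
      exact ⟨g, (eq_of_isInnerDiagonal g hg).symm⟩
    · rintro ⟨g, rfl⟩
      exact isInnerDiagonal_desc_conjGL g
  rw [h, Subgroup.closure_eq]

theorem fAut_injective (hn : 2 ≤ n) (hp : HasParPA n F) :
    Function.Injective (fAut (n := n) (F := F)) := by
  intro σ τ h
  apply uniq_untw hn hp (g := 1) (g' := 1)
  rw [h]

theorem tAut_pow (k : ℕ) :
    (tAut : MulAut (ProjectiveSpecialLinearGroup (Fin n) F)) ^ k = tPow (k : ZMod 2) := by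
  induction k with
  | zero => rw [pow_zero, Nat.cast_zero, tPow_zero]
  | succ k ih =>
    rw [pow_succ, ih, Nat.cast_succ, tPow_add, tPow_of_ne (by decide : (1 : ZMod 2) ≠ 0)]

theorem gfAut_pow (σ : F ≃+* F) (k : ℕ) :
    gfAut (n := n) σ ^ k = fAut (σ ^ k) * tPow (k : ZMod 2) := by
  unfold gfAut
  rw [Commute.mul_pow (tAut_comm_fAut σ).symm, tAut_pow, map_pow]

section fin

variable [Fintype F]

theorem normal_range_cGL (hn : 2 ≤ n) (p : ℕ) [Fact p.Prime] [CharP F p] :
    (cGL (n := n) (F := F)).range.Normal := by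
  by_cases h3 : 3 ≤ n
  · rw [← psi3_ker h3 p]
    exact MonoidHom.normal_ker _
  · have h2 : n = 2 := by omega
    subst h2
    rw [← psi2_ker p]
    exact MonoidHom.normal_ker _

theorem hasParPA_of (hn : 2 ≤ n) : HasParPA n F := by
  by_cases h3 : 3 ≤ n
  · exact hasParPA_three h3
  · have h2 : n = 2 := by omega
    subst h2
    exact hasParPA_two

/-- an involutory (prime order) standard graph-field automorphism has `r = 2`, `σ² = 1` -/
theorem gfAut_prime_order (hn : 3 ≤ n) (σ : F ≃+* F) {r : ℕ} (hr : r.Prime)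
    (h : orderOf (gfAut (n := n) σ) = r) : r = 2 ∧ σ * σ = 1 := by
  have h1 : gfAut (n := n) σ ^ r = 1 := by rw [← h, pow_orderOf_eq_one]
  rw [gfAut_pow] at h1
  have h2 : fAut (n := n) (σ ^ r) * tPow ((r : ℕ) : ZMod 2) = cGL 1 := by rw [h1, map_one]
  obtain ⟨h3, h4⟩ := uniq1 hn _ _ _ h2
  have h5 : r = 2 := by
    have : (2 : ℕ) ∣ r := (ZMod.natCast_eq_zero_iff r 2).1 h4
    exact ((Nat.prime_dvd_prime_iff_eq Nat.prime_two hr).1 this).symm
  refine ⟨h5, ?_⟩
  rw [h5, pow_two] at h3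
  exact h3

/-- the general reduction to the standard representative -/
theorem conj_reduce {A : Type*} [Group A] (D : Subgroup A) [D.Normal] (α x δ x₀ : A)
    (hx₀ : α * x * α⁻¹ = x₀) (hδ : δ ∈ D) {r : ℕ}
    (hkey : ∀ δ₀ ∈ D, (δ₀ * x₀) ^ r = 1 → ∃ k ∈ D, δ₀ * x₀ = k * x₀ * k⁻¹)
    (hord : orderOf (δ * x) = r) : Cfsg.IsConjUnder D x (δ * x) := by
  have hδ₀ : α * δ * α⁻¹ ∈ D := Subgroup.Normal.conj_mem inferInstance δ hδ α
  have h1 : (α * δ * α⁻¹ * x₀) ^ r = 1 := by
    have e1 : α * δ * α⁻¹ * x₀ = α * (δ * x) * α⁻¹ := by rw [← hx₀]; group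
    rw [e1, conj_pow, ← hord, pow_orderOf_eq_one]
    group
  obtain ⟨k, hk, hk2⟩ := hkey _ hδ₀ h1
  refine ⟨α⁻¹ * k * α, ?_, ?_⟩
  · have := Subgroup.Normal.conj_mem inferInstance k hk α⁻¹
    rwa [inv_inv] at this
  · have e1 : δ * x = α⁻¹ * (α * δ * α⁻¹ * x₀) * α := by rw [← hx₀]; group
    rw [e1, hk2, ← hx₀]
    group

end fin

end

section

open Matrix

theorem orderOf_conj' {A : Type*} [Group A] (α x : A) : orderOf (α * x * α⁻¹) = orderOf x :=
  (MulAut.conj α).orderOf_eq x

theorem s2697 {F : Type*} [Field F] [Fintype F] {p f : ℕ} [Fact p.Prime]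
    (hF : Fintype.card F = p ^ f) {n : ℕ} (hn : 2 ≤ n)
    (x δ : MulAut (Matrix.ProjectiveSpecialLinearGroup (Fin n) F))
    (hx : Cfsg.IsFieldAutClassPSL x ∨ Cfsg.IsGraphFieldAutClassPSL x) {r : ℕ} (hr : r.Prime)
    (hxr : orderOf x = r) (hδ : δ ∈ Cfsg.inndiagPSL n F) :
    orderOf (δ * x) = r ↔ Cfsg.IsConjUnder (Cfsg.inndiagPSL n F) x (δ * x) := by
  haveI : CharP F p := charP_of_card_eq_prime_pow hF
  haveI := normal_range_cGL (n := n) (F := F) hn p
  rw [inndiag_eq] at hδ ⊢
  constructor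
  · intro hord
    rcases hx with ⟨α, σ, hσ, hstd⟩ | ⟨hn3, α, φ, γ, σ, hσ, hφ, hγ, hαx⟩
    · have hx₀ : α * x * α⁻¹ = fAut σ := eq_of_isStdFieldAut σ hstd
      refine conj_reduce _ α x δ (fAut σ) hx₀ hδ ?_ hord
      rintro δ₀ ⟨g, rfl⟩ hpow
      have hσr : orderOf σ = r := by
        rw [← orderOf_injective fAut (fAut_injective hn (hasParPA_of hn)) σ, ← hx₀, orderOf_conj',
          hxr]
      obtain ⟨k, hk⟩ := field_conj hn (hasParPA_of hn) σ hr.pos hσr g hpow
      exact ⟨cGL k, ⟨k, rfl⟩, hk⟩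
    · have hφ' := eq_of_isStdFieldAut σ hφ
      have hγ' := eq_of_isInverseTranspose hγ
      have hx₀ : α * x * α⁻¹ = gfAut σ := by rw [hαx, hφ', hγ']; rfl
      refine conj_reduce _ α x δ (gfAut σ) hx₀ hδ ?_ hord
      rintro δ₀ ⟨g, rfl⟩ hpow
      have hgr : orderOf (gfAut (n := n) σ) = r := by rw [← hx₀, orderOf_conj', hxr]
      obtain ⟨hr2, hσ2⟩ := gfAut_prime_order hn3 σ hr hgr
      subst hr2
      obtain ⟨k, hk⟩ := graphfield_conj hn (hasParPA_of hn) σ hσ hσ2 g hpow
      exact ⟨cGL k, ⟨k, rfl⟩, hk⟩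
  · rintro ⟨h, -, heq⟩
    rw [heq, orderOf_conj', hxr]

end

end Cfsg.Agent.Lib.H13.AutPSL
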