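import Mathlib

set_option autoImplicit false

namespace Cfsg.Agent.Lib.H13.Singer

open Module Matrix

/-- a finite field has an extension of each positive degree -/
theorem exists_ext (F : Type*) [Field F] [Fintype F] (p : ℕ) [Fact p.Prime] [CharP F p] (d : ℕ)
    (hd : d ≠ 0) :
    ∃ (K : Type) (_ : Field K) (_ : Algebra F K) (_ : Finite K), finrank F K = d := by
  haveI : NeZero d := ⟨hd⟩
  exact ⟨FiniteField.Extension F p d, inferInstance, inferInstance, inferInstance,
    FiniteField.finrank_extension F p d⟩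

/-- the `GL` element of a linear automorphism of `ι → F` -/
noncomputable def glOf {F : Type*} [Field F] {ι : Type*} [Fintype ι] [DecidableEq ι]
    (e : (ι → F) ≃ₗ[F] (ι → F)) : GL ι F :=
  ⟨LinearMap.toMatrix' (e : (ι → F) →ₗ[F] (ι → F)),
    LinearMap.toMatrix' (e.symm : (ι → F) →ₗ[F] (ι → F)),
    by rw [← LinearMap.toMatrix'_comp]; simp,
    by rw [← LinearMap.toMatrix'_comp]; simp⟩

theorem glOf_mulVec {F : Type*} [Field F] {ι : Type*} [Fintype ι] [DecidableEq ι]
    (e : (ι → F) ≃ₗ[F] (ι → F)) (v : ι → F) : ((glOf e : GL ι F) : Matrix ι ι F) *ᵥ v = e v := by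
  show (LinearMap.toMatrix' (e : (ι → F) →ₗ[F] (ι → F))) *ᵥ v = e v
  rw [LinearMap.toMatrix'_mulVec]; rfl

theorem pow_mulVec {F : Type*} [Field F] {ι : Type*} [Fintype ι] [DecidableEq ι]
    (g : GL ι F) (k : ℕ) (v : ι → F) :
    ((g ^ k : GL ι F) : Matrix ι ι F) *ᵥ v = (fun u => (g : Matrix ι ι F) *ᵥ u)^[k] v := by
  induction k generalizing v with
  | zero => simp
  | succ k ih =>
    rw [pow_succ, Units.val_mul, ← Matrix.mulVec_mulVec, ih, Function.iterate_succ_apply]

theorem gl_ext {F : Type*} [Field F] {ι : Type*} [Fintype ι] [DecidableEq ι]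
    (g h : GL ι F) (H : ∀ v, (g : Matrix ι ι F) *ᵥ v = (h : Matrix ι ι F) *ᵥ v) : g = h := by
  apply Units.ext
  apply Matrix.toLin'.injective
  apply LinearMap.ext
  intro v
  rw [Matrix.toLin'_apply, Matrix.toLin'_apply]
  exact H v

/-- a fixed-point-free element of order dividing `r` in `GL_d(q)`, for a prime `r ∣ q ^ d - 1` -/
theorem exists_fpf (F : Type*) [Field F] [Fintype F] (p : ℕ) [Fact p.Prime] [CharP F p] (d : ℕ)
    (hd : d ≠ 0) (r : ℕ) [Fact r.Prime] (hr : r ∣ Fintype.card F ^ d - 1) :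
    ∃ g : GL (Fin d) F, g ^ r = 1 ∧ ∀ u : Fin d → F, (g : Matrix (Fin d) (Fin d) F) *ᵥ u = u → u = 0 := by
  classical
  obtain ⟨K, _, _, _, hK⟩ := exists_ext F p d hd
  haveI : Fintype K := Fintype.ofFinite K
  have hcard : Nat.card K = Fintype.card F ^ d := by
    rw [Module.natCard_eq_pow_finrank (K := F) (V := K), hK, Nat.card_eq_fintype_card]
  have hunits : Nat.card Kˣ = Fintype.card F ^ d - 1 := by
    rw [Nat.card_units, hcard]
  obtain ⟨μ, hμ⟩ := exists_prime_orderOf_dvd_card' (G := Kˣ) r (by rw [hunits]; exact hr)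
  have hμr : μ ^ r = 1 := by rw [← hμ]; exact pow_orderOf_eq_one μ
  have hμ1 : (μ : K) ≠ 1 := by
    intro h
    have : μ = 1 := Units.ext h
    rw [this, orderOf_one] at hμ
    exact (Fact.out : r.Prime).one_lt.ne hμ
  let b : Basis (Fin d) F K := Module.finBasisOfFinrankEq F K hK
  let e : K ≃ₗ[F] (Fin d → F) := b.equivFun
  let m : K ≃ₗ[F] K := LinearEquiv.ofLinearMap (LinearMap.mulLeft F (μ : K))
    (LinearMap.mulLeft F ((μ⁻¹ : Kˣ) : K))
    (by ext x; simp) (by ext x; simp)
  have hm : ∀ x, m x = (μ : K) * x := fun x => rfl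
  let E : (Fin d → F) ≃ₗ[F] (Fin d → F) := (e.symm.trans m).trans e
  have hE : ∀ v, E v = e ((μ : K) * e.symm v) := fun v => rfl
  refine ⟨glOf E, ?_, ?_⟩
  · apply gl_ext
    intro v
    rw [pow_mulVec]
    have : ∀ k : ℕ, (fun u => ((glOf E : GL (Fin d) F) : Matrix (Fin d) (Fin d) F) *ᵥ u)^[k] v =
        e (((μ ^ k : Kˣ) : K) * e.symm v) := by
      intro k
      induction k with
      | zero => simp
      | succ k ih =>
        rw [Function.iterate_succ_apply', ih, glOf_mulVec, hE, LinearEquiv.symm_apply_apply,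
          ← mul_assoc, pow_succ', Units.val_mul]
    rw [this, hμr]
    simp
  · intro u hu
    rw [glOf_mulVec, hE] at hu
    have h1 : (μ : K) * e.symm u = e.symm u := by
      have := congrArg e.symm hu
      rwa [LinearEquiv.symm_apply_apply] at this
    have h2 : ((μ : K) - 1) * e.symm u = 0 := by rw [sub_mul, h1, one_mul, sub_self]
    rcases mul_eq_zero.1 h2 with h3 | h3
    · exact absurd (sub_eq_zero.1 h3) hμ1
    · simpa using h3

end Cfsg.Agent.Lib.H13.Singer
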