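import Cfsg.Agent.Lib.H13.SpInvol
import Cfsg.Agent.Lib.H4.Symp
import Cfsg.Agent.Lib.H2.SpTrans

set_option autoImplicit false

namespace Cfsg.Agent.Lib.H13.SpInvolCount

open Module Matrix
open Cfsg.Agent.Lib.H13.SpInvol

/-- generic counting of conjugacy classes by a system of representatives -/
theorem card_classes {G : Type*} [Group G] (P : G → Prop) {T : Type*} (rep : T → G)
    (hrep : ∀ τ, P (rep τ)) (hinj : ∀ τ τ', IsConj (rep τ) (rep τ') → τ = τ')
    (hsurj : ∀ g, P g → ∃ τ, IsConj g (rep τ)) :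
    Nat.card {C : ConjClasses G // ∃ g, ConjClasses.mk g = C ∧ P g} = Nat.card T := by
  symm
  apply Nat.card_congr
  refine Equiv.ofBijective (fun τ => ⟨ConjClasses.mk (rep τ), rep τ, rfl, hrep τ⟩) ⟨?_, ?_⟩
  · intro τ τ' h
    have := congrArg Subtype.val h
    exact hinj τ τ' (ConjClasses.mk_eq_mk_iff_isConj.mp this)
  · rintro ⟨C, g, rfl, hg⟩
    obtain ⟨τ, hτ⟩ := hsurj g hg
    exact ⟨τ, Subtype.ext (ConjClasses.mk_eq_mk_iff_isConj.mpr hτ.symm)⟩

section form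

variable {F : Type*} [Field F] (m : ℕ)

/-- the symplectic form as a bilinear form -/
noncomputable def sympB : LinearMap.BilinForm F (Fin m ⊕ Fin m → F) :=
  Matrix.toLinearMap₂' F (Matrix.J (Fin m) F)

theorem sympB_apply (u v : Fin m ⊕ Fin m → F) :
    sympB m u v = Cfsg.sympForm m F u v :=
  Matrix.toLinearMap₂'_apply' _ _ _

theorem sympB_alt : (sympB (F := F) m).IsAlt := by
  intro x
  rw [sympB_apply]
  exact Cfsg.Agent.Lib.H4.sympForm_self m x

theorem sympB_nondeg : (sympB (F := F) m).Nondegenerate := by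
  have hleft : ∀ x : Fin m ⊕ Fin m → F, (∀ y, sympB m x y = 0) → x = 0 := by
    intro x hx
    by_contra hne
    obtain ⟨z, hz⟩ := Cfsg.Agent.Lib.H2.Sp.exists_sympForm_ne_zero m x hne
    apply hz
    rw [← sympB_apply]
    exact hx z
  refine ⟨hleft, ?_⟩
  intro y hy
  apply hleft
  intro x
  rw [sympB_apply, Cfsg.Agent.Lib.H4.sympForm_swap, ← sympB_apply, hy x, neg_zero]

theorem toLin_sub_id (T : Matrix (Fin m ⊕ Fin m) (Fin m ⊕ Fin m) F) :
    Matrix.toLin' T - (LinearMap.id : (Fin m ⊕ Fin m → F) →ₗ[F] (Fin m ⊕ Fin m → F)) =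
      Matrix.toLin' (T - 1) := by
  rw [map_sub, Matrix.toLin'_one]

theorem rank_eq (T : Matrix (Fin m ⊕ Fin m) (Fin m ⊕ Fin m) F) :
    (T - 1).rank = finrank F ↥(LinearMap.range (Matrix.toLin' T -
      (LinearMap.id : (Fin m ⊕ Fin m → F) →ₗ[F] (Fin m ⊕ Fin m → F)))) := by
  rw [toLin_sub_id, Matrix.toLin'_apply']
  rfl

section sp

variable [Finite F] [CharP F 2]

set_option quotPrecheck false in
local notation "Sp" => ↥(Matrix.symplecticGroup (Fin m) F)

set_option quotPrecheck false in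
local notation "MM" => Matrix (Fin m ⊕ Fin m) (Fin m ⊕ Fin m) F

theorem toLin_sq (t : Sp) (ht : t * t = 1) (y : Fin m ⊕ Fin m → F) :
    Matrix.toLin' (t : Matrix (Fin m ⊕ Fin m) (Fin m ⊕ Fin m) F)
      (Matrix.toLin' (t : Matrix (Fin m ⊕ Fin m) (Fin m ⊕ Fin m) F) y) = y := by
  rw [Matrix.toLin'_apply, Matrix.toLin'_apply, Matrix.mulVec_mulVec]
  have : (t : Matrix (Fin m ⊕ Fin m) (Fin m ⊕ Fin m) F) * (t : MM) = 1 := by
    have := congrArg Subtype.val ht
    exact this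
  rw [this, Matrix.one_mulVec]

theorem toLin_iso (t : Sp) (x y : Fin m ⊕ Fin m → F) :
    sympB m (Matrix.toLin' (t : Matrix (Fin m ⊕ Fin m) (Fin m ⊕ Fin m) F) x)
      (Matrix.toLin' (t : Matrix (Fin m ⊕ Fin m) (Fin m ⊕ Fin m) F) y) = sympB m x y := by
  rw [sympB_apply, sympB_apply, Matrix.toLin'_apply, Matrix.toLin'_apply]
  exact (Cfsg.Agent.Lib.H4.mem_symplecticGroup_iff_sympForm m _).mp t.2 x y

/-- complete invariants for involutions of `Sp` -/
theorem isConj_of_invariants (t t' : Sp) (ht : t * t = 1) (ht' : t' * t' = 1)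
    (hrank : ((t : Matrix (Fin m ⊕ Fin m) (Fin m ⊕ Fin m) F) - 1).rank =
      ((t' : Matrix (Fin m ⊕ Fin m) (Fin m ⊕ Fin m) F) - 1).rank)
    (ha : (∀ v, Cfsg.sympForm m F v ((t : Matrix (Fin m ⊕ Fin m) (Fin m ⊕ Fin m) F) *ᵥ v) = 0) ↔
      (∀ v, Cfsg.sympForm m F v ((t' : Matrix (Fin m ⊕ Fin m) (Fin m ⊕ Fin m) F) *ᵥ v) = 0)) :
    IsConj t t' := by
  classical
  obtain ⟨g, hg, hgt⟩ := conj_of_invariants (sympB_nondeg (F := F) m) (sympB_alt m)
    (Matrix.toLin' (t : Matrix (Fin m ⊕ Fin m) (Fin m ⊕ Fin m) F))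
    (Matrix.toLin' (t' : Matrix (Fin m ⊕ Fin m) (Fin m ⊕ Fin m) F))
    (toLin_sq m t ht) (toLin_iso m t) (toLin_sq m t' ht') (toLin_iso m t')
    (by rw [← rank_eq, ← rank_eq]; exact hrank)
    (by simp only [sympB_apply, Matrix.toLin'_apply]; exact ha)
  have hG : LinearMap.toMatrix' (g : (Fin m ⊕ Fin m → F) →ₗ[F] (Fin m ⊕ Fin m → F)) ∈
      Matrix.symplecticGroup (Fin m) F := by
    rw [Cfsg.Agent.Lib.H4.mem_symplecticGroup_iff_sympForm]
    intro u v
    rw [LinearMap.toMatrix'_mulVec, LinearMap.toMatrix'_mulVec, ← sympB_apply, ← sympB_apply]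
    exact hg u v
  rw [isConj_iff]
  refine ⟨⟨_, hG⟩, ?_⟩
  rw [mul_inv_eq_iff_eq_mul]
  apply Subtype.ext
  show LinearMap.toMatrix' (g : (Fin m ⊕ Fin m → F) →ₗ[F] (Fin m ⊕ Fin m → F)) *
    (t : Matrix (Fin m ⊕ Fin m) (Fin m ⊕ Fin m) F) =
    (t' : Matrix (Fin m ⊕ Fin m) (Fin m ⊕ Fin m) F) *
    LinearMap.toMatrix' (g : (Fin m ⊕ Fin m → F) →ₗ[F] (Fin m ⊕ Fin m → F))
  apply Matrix.toLin'.injective
  apply LinearMap.ext
  intro y
  rw [Matrix.toLin'_mul, Matrix.toLin'_mul, Matrix.toLin'_toMatrix', LinearMap.comp_apply,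
    LinearMap.comp_apply]
  exact hgt y

/-- invariance of the invariants under conjugacy -/
theorem invariants_of_isConj (t t' : Sp) (h : IsConj t t') :
    ((t : Matrix (Fin m ⊕ Fin m) (Fin m ⊕ Fin m) F) - 1).rank =
      ((t' : Matrix (Fin m ⊕ Fin m) (Fin m ⊕ Fin m) F) - 1).rank ∧
    ((∀ v, Cfsg.sympForm m F v ((t : Matrix (Fin m ⊕ Fin m) (Fin m ⊕ Fin m) F) *ᵥ v) = 0) ↔
      (∀ v, Cfsg.sympForm m F v ((t' : Matrix (Fin m ⊕ Fin m) (Fin m ⊕ Fin m) F) *ᵥ v) = 0)) := by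
  have key : ∀ a b : Sp, IsConj a b →
      ((b : Matrix (Fin m ⊕ Fin m) (Fin m ⊕ Fin m) F) - 1).rank ≤
        ((a : Matrix (Fin m ⊕ Fin m) (Fin m ⊕ Fin m) F) - 1).rank ∧
      ((∀ v, Cfsg.sympForm m F v ((a : Matrix (Fin m ⊕ Fin m) (Fin m ⊕ Fin m) F) *ᵥ v) = 0) →
      (∀ v, Cfsg.sympForm m F v ((b : Matrix (Fin m ⊕ Fin m) (Fin m ⊕ Fin m) F) *ᵥ v) = 0)) := by
    intro a b hab
    obtain ⟨c, hc⟩ := isConj_iff.mp hab
    have hb : (b : Matrix (Fin m ⊕ Fin m) (Fin m ⊕ Fin m) F) =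
        (c : Matrix (Fin m ⊕ Fin m) (Fin m ⊕ Fin m) F) * (a : MM) *
        ((c⁻¹ : Sp) : MM) := by
      rw [← hc]; rfl
    have hcc : (c : Matrix (Fin m ⊕ Fin m) (Fin m ⊕ Fin m) F) * ((c⁻¹ : Sp) : MM) = 1 := by
      have := congrArg Subtype.val (mul_inv_cancel c)
      exact this
    have hcc' : ((c⁻¹ : Sp) : MM) * (c : Matrix (Fin m ⊕ Fin m) (Fin m ⊕ Fin m) F) = 1 := by
      have := congrArg Subtype.val (inv_mul_cancel c)
      exact this
    constructor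
    · have : (b : Matrix (Fin m ⊕ Fin m) (Fin m ⊕ Fin m) F) - 1 =
          (c : Matrix (Fin m ⊕ Fin m) (Fin m ⊕ Fin m) F) * ((a : MM) - 1) *
          ((c⁻¹ : Sp) : MM) := by
        rw [mul_sub, sub_mul, mul_one, hcc, hb]
      rw [this]
      exact le_trans (Matrix.rank_mul_le_left _ _) (Matrix.rank_mul_le_right _ _)
    · intro ha v
      have h1 := ha (((c⁻¹ : Sp) : MM) *ᵥ v)
      have h2 := (Cfsg.Agent.Lib.H4.mem_symplecticGroup_iff_sympForm m _).mp c.2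
        (((c⁻¹ : Sp) : MM) *ᵥ v)
        ((a : MM) *ᵥ (((c⁻¹ : Sp) : MM) *ᵥ v))
      rw [h1] at h2
      rw [hb, ← h2, Matrix.mulVec_mulVec, Matrix.mulVec_mulVec, Matrix.mulVec_mulVec, hcc,
        Matrix.one_mulVec]
  obtain ⟨h1, h2⟩ := key t t' h
  obtain ⟨h3, h4⟩ := key t' t h.symm
  exact ⟨le_antisymm h3 h1, h2, h4⟩

/-- the possible invariants -/
theorem invariants_range_sp (t : Sp) (ht : t * t = 1) (ht1 : t ≠ 1) :
    1 ≤ ((t : MM) - 1).rank ∧ ((t : MM) - 1).rank ≤ m ∧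
    ((∀ v, Cfsg.sympForm m F v ((t : MM) *ᵥ v) = 0) → Even ((t : MM) - 1).rank) := by
  have hne : Matrix.toLin' (t : MM) ≠ LinearMap.id := by
    intro h
    apply ht1
    apply Subtype.ext
    apply Matrix.toLin'.injective
    rw [h]
    exact Matrix.toLin'_one.symm
  obtain ⟨h1, h2, h3⟩ := invariants_range (sympB_nondeg (F := F) m) (sympB_alt m)
    (Matrix.toLin' (t : MM)) (toLin_sq m t ht) (toLin_iso m t) hne
  rw [← rank_eq, Module.finrank_fintype_fun_eq_card, Fintype.card_sum, Fintype.card_fin] at h2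
  rw [← rank_eq] at h1 h3
  refine ⟨h1, by omega, ?_⟩
  intro ha
  apply h3
  intro y
  rw [sympB_apply, Matrix.toLin'_apply]
  exact ha y

theorem std_indep {ι : Type*} (φ : ι → Fin m) (hφ : Function.Injective φ) :
    LinearIndependent F (fun i => (Pi.single (Sum.inl (φ i)) 1 : Fin m ⊕ Fin m → F)) := by
  have := (Pi.basisFun F (Fin m ⊕ Fin m)).linearIndependent.comp (fun i => Sum.inl (φ i))
    (Sum.inl_injective.comp hφ)
  convert this using 1
  funext i
  simp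

theorem std_iso (a b : Fin m) :
    sympB m (Pi.single (Sum.inl a) 1 : Fin m ⊕ Fin m → F) (Pi.single (Sum.inl b) 1) = 0 := by
  rw [sympB_apply]
  unfold Cfsg.sympForm
  simp [Matrix.J]

/-- an involution in normal form gives an element of `Sp` -/
theorem exists_of_isNF {ι : Type*} [Fintype ι] (σ : ι → ι) (hσ : Function.Involutive σ)
    (w : ι → (Fin m ⊕ Fin m → F)) (hw : LinearIndependent F w)
    (hiso : ∀ i j, sympB m (w i) (w j) = 0) :
    ∃ T : Sp, T * T = 1 ∧ ((T : MM) - 1).rank = Fintype.card ι ∧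
      IsNF (sympB m) (Matrix.toLin' (T : MM)) σ w := by
  classical
  have hnf := nfMap_isNF (f := sympB m) σ w hw hiso
  have hT : LinearMap.toMatrix' (nfMap (sympB m) σ w) ∈ Matrix.symplecticGroup (Fin m) F := by
    rw [Cfsg.Agent.Lib.H4.mem_symplecticGroup_iff_sympForm]
    intro u v
    rw [LinearMap.toMatrix'_mulVec, LinearMap.toMatrix'_mulVec, ← sympB_apply, ← sympB_apply]
    exact hnf.isometry (sympB_alt m) hσ u v
  have hlin : Matrix.toLin' (LinearMap.toMatrix' (nfMap (sympB m) σ w)) = nfMap (sympB m) σ w :=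
    Matrix.toLin'_toMatrix' _
  refine ⟨⟨_, hT⟩, ?_, ?_, ?_⟩
  · apply Subtype.ext
    show LinearMap.toMatrix' (nfMap (sympB m) σ w) * LinearMap.toMatrix' (nfMap (sympB m) σ w) = 1
    rw [← LinearMap.toMatrix'_comp, ← LinearMap.toMatrix'_id]
    congr 1
    apply LinearMap.ext
    intro y
    rw [LinearMap.comp_apply, hnf.sq, LinearMap.id_apply]
  · show (LinearMap.toMatrix' (nfMap (sympB m) σ w) - 1).rank = _
    rw [rank_eq, hlin]
    exact hnf.finrank_range (sympB_nondeg m) (sympB_alt m) hσ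
  · show IsNF (sympB m) (Matrix.toLin' (LinearMap.toMatrix' (nfMap (sympB m) σ w))) σ w
    rw [hlin]
    exact hnf

theorem exists_rep_id (s : ℕ) (hs1 : 1 ≤ s) (hsm : s ≤ m) :
    ∃ T : Sp, T * T = 1 ∧ ((T : MM) - 1).rank = s ∧
      ¬ ∀ v, Cfsg.sympForm m F v ((T : MM) *ᵥ v) = 0 := by
  obtain ⟨T, hT2, hTr, hnf⟩ := exists_of_isNF m (id : Fin s → Fin s) (fun _ => rfl)
    (fun i => (Pi.single (Sum.inl (Fin.castLE hsm i)) 1 : Fin m ⊕ Fin m → F))
    (std_indep m _ (Fin.castLE_injective hsm)) (fun i j => std_iso m _ _)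
  refine ⟨T, hT2, by rw [hTr, Fintype.card_fin], ?_⟩
  haveI : Nonempty (Fin s) := ⟨⟨0, hs1⟩⟩
  obtain ⟨y, hy⟩ := hnf.not_alt_id (sympB_nondeg m) (sympB_alt m)
  intro h
  apply hy
  rw [sympB_apply, Matrix.toLin'_apply]
  exact h y

theorem exists_rep_swap (r : ℕ) (h2r : 2 * r ≤ m) :
    ∃ T : Sp, T * T = 1 ∧ ((T : MM) - 1).rank = 2 * r ∧
      ∀ v, Cfsg.sympForm m F v ((T : MM) *ᵥ v) = 0 := by
  have hrr : r + r ≤ m := by omega
  obtain ⟨T, hT2, hTr, hnf⟩ := exists_of_isNF m (Sum.swap : Fin r ⊕ Fin r → Fin r ⊕ Fin r)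
    Sum.swap_swap
    (fun i => (Pi.single (Sum.inl (Fin.castLE hrr (finSumFinEquiv i))) 1 : Fin m ⊕ Fin m → F))
    (std_indep m _ ((Fin.castLE_injective hrr).comp finSumFinEquiv.injective))
    (fun i j => std_iso m _ _)
  refine ⟨T, hT2, by rw [hTr, Fintype.card_sum, Fintype.card_fin]; ring, ?_⟩
  intro y
  have := hnf.alt_swap (sympB_alt m) y
  rw [sympB_apply, Matrix.toLin'_apply] at this
  exact this

theorem orderOf_two_iff {G : Type*} [Group G] (g : G) : orderOf g = 2 ↔ g * g = 1 ∧ g ≠ 1 := by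
  haveI : Fact (Nat.Prime 2) := ⟨Nat.prime_two⟩
  rw [orderOf_eq_prime_iff, sq]

/-- S2593 -/
theorem card_involution_classes_sp :
    Nat.card {C : ConjClasses Sp // ∃ g : Sp, ConjClasses.mk g = C ∧ orderOf g = 2} =
      m + m / 2 := by
  classical
  have hb : ∀ i : Fin m, 1 ≤ (i : ℕ) + 1 ∧ (i : ℕ) + 1 ≤ m := fun i => ⟨by omega, by omega⟩
  have ha : ∀ j : Fin (m / 2), 2 * ((j : ℕ) + 1) ≤ m := fun j => by
    have := j.2
    omega
  let rep : Fin m ⊕ Fin (m / 2) → Sp := fun τ =>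
    match τ with
    | .inl i => Classical.choose (exists_rep_id (F := F) m ((i : ℕ) + 1) (hb i).1 (hb i).2)
    | .inr j => Classical.choose (exists_rep_swap (F := F) m ((j : ℕ) + 1) (ha j))
  have hrepb : ∀ i : Fin m, rep (.inl i) * rep (.inl i) = 1 ∧
      ((rep (.inl i) : MM) - 1).rank = (i : ℕ) + 1 ∧
      ¬ ∀ v, Cfsg.sympForm m F v ((rep (.inl i) : MM) *ᵥ v) = 0 := fun i =>
    Classical.choose_spec (exists_rep_id (F := F) m ((i : ℕ) + 1) (hb i).1 (hb i).2)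
  have hrepa : ∀ j : Fin (m / 2), rep (.inr j) * rep (.inr j) = 1 ∧
      ((rep (.inr j) : MM) - 1).rank = 2 * ((j : ℕ) + 1) ∧
      ∀ v, Cfsg.sympForm m F v ((rep (.inr j) : MM) *ᵥ v) = 0 := fun j =>
    Classical.choose_spec (exists_rep_swap (F := F) m ((j : ℕ) + 1) (ha j))
  have hne1 : ∀ T : Sp, 1 ≤ ((T : MM) - 1).rank → T ≠ 1 := by
    intro T hT h1
    rw [h1] at hT
    have : (((1 : Sp) : MM) - 1) = 0 := by
      show (1 : MM) - 1 = 0
      exact sub_self _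
    rw [this, Matrix.rank_zero] at hT
    omega
  have key := card_classes (G := Sp) (fun g => orderOf g = 2) rep ?_ ?_ ?_
  · rw [key, Nat.card_eq_fintype_card, Fintype.card_sum, Fintype.card_fin, Fintype.card_fin]
  · intro τ
    rw [orderOf_two_iff]
    rcases τ with i | j
    · exact ⟨(hrepb i).1, hne1 _ (by rw [(hrepb i).2.1]; omega)⟩
    · exact ⟨(hrepa j).1, hne1 _ (by rw [(hrepa j).2.1]; omega)⟩
  · intro τ τ' hconj
    obtain ⟨h1, h2⟩ := invariants_of_isConj m _ _ hconj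
    rcases τ with i | j <;> rcases τ' with i' | j'
    · rw [(hrepb i).2.1, (hrepb i').2.1] at h1
      congr 1
      apply Fin.ext
      omega
    · exact absurd (h2.mpr (hrepa j').2.2) (hrepb i).2.2
    · exact absurd (h2.mp (hrepa j).2.2) (hrepb i').2.2
    · rw [(hrepa j).2.1, (hrepa j').2.1] at h1
      congr 1
      apply Fin.ext
      omega
  · intro g hg
    rw [orderOf_two_iff] at hg
    obtain ⟨hg2, hg1⟩ := hg
    obtain ⟨h1, h2, h3⟩ := invariants_range_sp m g hg2 hg1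
    by_cases halt : ∀ v, Cfsg.sympForm m F v ((g : MM) *ᵥ v) = 0
    · obtain ⟨r, hr⟩ := h3 halt
      have hr1 : 1 ≤ r := by omega
      have hrm : r - 1 < m / 2 := by omega
      refine ⟨.inr ⟨r - 1, hrm⟩, ?_⟩
      apply isConj_of_invariants m g _ hg2 (hrepa _).1
      · rw [(hrepa _).2.1]
        show _ = 2 * (r - 1 + 1)
        omega
      · exact ⟨fun _ => (hrepa _).2.2, fun _ => halt⟩
    · have hsm : ((g : MM) - 1).rank - 1 < m := by omega
      refine ⟨.inl ⟨((g : MM) - 1).rank - 1, hsm⟩, ?_⟩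
      apply isConj_of_invariants m g _ hg2 (hrepb _).1
      · rw [(hrepb _).2.1]
        show _ = ((g : MM) - 1).rank - 1 + 1
        omega
      · exact ⟨fun h => absurd h halt, fun h => absurd h (hrepb _).2.2⟩

end sp

end form

end Cfsg.Agent.Lib.H13.SpInvolCount
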