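import Mathlib
import Cfsg.Prelude.Def_ClassicalGeometry

set_option autoImplicit false

/-! Symplectic bases for non-degenerate alternating forms, and embeddings into `Sp`. -/

namespace Cfsg.Agent.Lib.H13

open Module

section Split
variable {F V : Type*} [Field F] [AddCommGroup V] [Module F V]

theorem alt_skew (B : LinearMap.BilinForm F V) (halt : ∀ v, B v v = 0) (v w : V) :
    B v w = - B w v := by
  have h := halt (v + w)
  simp only [map_add, LinearMap.add_apply, halt] at h
  linear_combination h

/-- the orthogonal complement of a pair -/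
def pairOrthB (B : LinearMap.BilinForm F V) (e f : V) : Submodule F V :=
  LinearMap.ker (B e) ⊓ LinearMap.ker (B f)

theorem mem_pairOrthB (B : LinearMap.BilinForm F V) (e f w : V) :
    w ∈ pairOrthB B e f ↔ B e w = 0 ∧ B f w = 0 := by
  unfold pairOrthB
  rw [Submodule.mem_inf, LinearMap.mem_ker, LinearMap.mem_ker]

/-- splitting off a symplectic plane -/
noncomputable def splitB (B : LinearMap.BilinForm F V) (halt : ∀ v, B v v = 0) (e f : V)
    (hef : B e f = 1) : V ≃ₗ[F] F × F × pairOrthB B e f where
  toFun v := (- B f v, B e v, ⟨v - (- B f v) • e - B e v • f, by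
    rw [mem_pairOrthB]
    have hfe : B f e = -1 := by rw [alt_skew B halt, hef]
    simp only [map_sub, map_smul, halt, hef, hfe, smul_eq_mul]
    constructor <;> ring⟩)
  map_add' v w := by
    refine Prod.ext ?_ (Prod.ext ?_ (Subtype.ext ?_))
    · simp only [map_add, neg_add]; rfl
    · simp only [map_add]; rfl
    · show v + w - (- B f (v + w)) • e - B e (v + w) • f =
        (v - (- B f v) • e - B e v • f) + (w - (- B f w) • e - B e w • f)
      rw [map_add, map_add, neg_add, add_smul, add_smul]
      abel
  map_smul' c v := by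
    refine Prod.ext ?_ (Prod.ext ?_ (Subtype.ext ?_))
    · simp only [map_smul, smul_eq_mul, RingHom.id_apply, Prod.smul_fst, mul_neg]
    · simp only [map_smul, smul_eq_mul, RingHom.id_apply, Prod.smul_fst, Prod.smul_snd]
    · show c • v - (- B f (c • v)) • e - B e (c • v) • f =
        c • (v - (- B f v) • e - B e v • f)
      rw [map_smul, map_smul, smul_eq_mul, smul_eq_mul, smul_sub, smul_sub, ← mul_neg,
        mul_smul, mul_smul]
  invFun p := p.1 • e + p.2.1 • f + (p.2.2 : V)
  left_inv v := by
    simp only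
    abel
  right_inv p := by
    obtain ⟨a, c, w, hw⟩ := p
    rw [mem_pairOrthB] at hw
    have hfe : B f e = -1 := by rw [alt_skew B halt, hef]
    apply Prod.ext
    · simp [map_add, map_smul, halt, hfe, hw.2]
    · apply Prod.ext
      · simp [map_add, map_smul, halt, hef, hw.1]
      · apply Subtype.ext
        show a • e + c • f + w - (- B f (a • e + c • f + w)) • e -
          B e (a • e + c • f + w) • f = w
        simp only [map_add, map_smul, halt, hef, hfe, hw.1, hw.2, smul_eq_mul, mul_one, mul_zero,
          add_zero, zero_add, mul_neg, neg_neg]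
        abel

theorem splitB_symm_apply (B : LinearMap.BilinForm F V) (halt : ∀ v, B v v = 0) (e f : V)
    (hef : B e f = 1) (p : F × F × pairOrthB B e f) :
    (splitB B halt e f hef).symm p = p.1 • e + p.2.1 • f + (p.2.2 : V) := rfl

theorem finrank_pairOrthB [FiniteDimensional F V] (B : LinearMap.BilinForm F V)
    (halt : ∀ v, B v v = 0) (e f : V) (hef : B e f = 1) :
    finrank F V = finrank F (pairOrthB B e f) + 2 := by
  have := (splitB B halt e f hef).finrank_eq
  rw [Module.finrank_prod, Module.finrank_prod, Module.finrank_self] at this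
  omega

/-- the restriction of a bilinear form to a submodule -/
def restrictB (B : LinearMap.BilinForm F V) (W : Submodule F V) : LinearMap.BilinForm F W :=
  B.domRestrict₁₂ W W

theorem restrictB_apply (B : LinearMap.BilinForm F V) (W : Submodule F V) (x y : W) :
    restrictB B W x y = B (x : V) (y : V) := rfl

theorem nondeg_pairOrthB (B : LinearMap.BilinForm F V) (halt : ∀ v, B v v = 0) (e f : V)
    (hef : B e f = 1) (hnd : ∀ v, (∀ w, B v w = 0) → v = 0) :
    ∀ x : pairOrthB B e f, (∀ y, restrictB B (pairOrthB B e f) x y = 0) → x = 0 := by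
  intro x hx
  apply Subtype.ext
  apply hnd
  intro v
  have hxW := (mem_pairOrthB B e f x).mp x.2
  have hv : v = (splitB B halt e f hef).symm (splitB B halt e f hef v) := by simp
  rw [hv, splitB_symm_apply, map_add, map_add, map_smul, map_smul, alt_skew B halt _ e,
    alt_skew B halt _ f, hxW.1, hxW.2]
  have h' : B (x : V) ((splitB B halt e f hef v).2.2 : V) = 0 := by
    rw [← restrictB_apply]; exact hx _
  rw [h']
  simp

end Split

section Std
variable {F V : Type*} [Field F] [AddCommGroup V] [Module F V]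

/-- the relations of a symplectic basis -/
structure IsSymp (B : LinearMap.BilinForm F V) {ι : Type*} [DecidableEq ι] (b : ι ⊕ ι → V) : Prop where
  pair : ∀ i j, B (b (.inl i)) (b (.inr j)) = if i = j then 1 else 0
  iso_l : ∀ i j, B (b (.inl i)) (b (.inl j)) = 0
  iso_r : ∀ i j, B (b (.inr i)) (b (.inr j)) = 0

/-- reindexing equivalence -/
def consIdxB (ι : Type*) : Unit ⊕ (Unit ⊕ (ι ⊕ ι)) ≃ (Unit ⊕ ι) ⊕ (Unit ⊕ ι) where
  toFun
    | .inl () => .inl (.inl ())
    | .inr (.inl ()) => .inr (.inl ())
    | .inr (.inr (.inl i)) => .inl (.inr i)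
    | .inr (.inr (.inr i)) => .inr (.inr i)
  invFun
    | .inl (.inl ()) => .inl ()
    | .inr (.inl ()) => .inr (.inl ())
    | .inl (.inr i) => .inr (.inr (.inl i))
    | .inr (.inr i) => .inr (.inr (.inr i))
  left_inv := by rintro (⟨⟩ | ⟨⟩ | i | i) <;> rfl
  right_inv := by rintro ((⟨⟩ | i) | (⟨⟩ | i)) <;> rfl

/-- adjoining a symplectic pair to a basis of its orthogonal complement -/
noncomputable def consBasisB (B : LinearMap.BilinForm F V) (halt : ∀ v, B v v = 0) (e f : V)
    (hef : B e f = 1) {ι : Type*} (b' : Basis (ι ⊕ ι) F (pairOrthB B e f)) :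
    Basis ((Unit ⊕ ι) ⊕ (Unit ⊕ ι)) F V :=
  (((Basis.singleton Unit F).prod ((Basis.singleton Unit F).prod b')).map
    (splitB B halt e f hef).symm).reindex (consIdxB ι)

variable (B : LinearMap.BilinForm F V) (halt : ∀ v, B v v = 0) (e f : V) (hef : B e f = 1)
  {ι : Type*} (b' : Basis (ι ⊕ ι) F (pairOrthB B e f))

theorem consBasisB_e : consBasisB B halt e f hef b' (.inl (.inl ())) = e := by
  simp [consBasisB, consIdxB, splitB_symm_apply]

theorem consBasisB_f : consBasisB B halt e f hef b' (.inr (.inl ())) = f := by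
  simp [consBasisB, consIdxB, splitB_symm_apply]

theorem consBasisB_l (i : ι) :
    consBasisB B halt e f hef b' (.inl (.inr i)) = b' (.inl i) := by
  simp [consBasisB, consIdxB, splitB_symm_apply]

theorem consBasisB_r (i : ι) :
    consBasisB B halt e f hef b' (.inr (.inr i)) = b' (.inr i) := by
  simp [consBasisB, consIdxB, splitB_symm_apply]

theorem IsSymp.cons [DecidableEq ι] (h : IsSymp (restrictB B (pairOrthB B e f)) b') :
    IsSymp B (consBasisB B halt e f hef b') := by
  have hW : ∀ x, B e ((b' x : pairOrthB B e f) : V) = 0 ∧ B f ((b' x : pairOrthB B e f) : V) = 0 :=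
    fun x => (mem_pairOrthB B e f _).mp (b' x).2
  have hW' : ∀ x, B ((b' x : pairOrthB B e f) : V) e = 0 ∧ B ((b' x : pairOrthB B e f) : V) f = 0 := by
    intro x
    rw [alt_skew B halt _ e, alt_skew B halt _ f, (hW x).1, (hW x).2]
    simp
  constructor
  · rintro (⟨⟩ | i) (⟨⟩ | j)
    · rw [consBasisB_e, consBasisB_f, hef]; simp
    · rw [consBasisB_e, consBasisB_r, (hW _).1]; simp
    · rw [consBasisB_l, consBasisB_f, (hW' _).2]; simp
    · rw [consBasisB_l, consBasisB_r]
      have := h.pair i j
      simp only [Sum.inr.injEq]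
      exact this
  · rintro (⟨⟩ | i) (⟨⟩ | j)
    · rw [consBasisB_e]; exact halt e
    · rw [consBasisB_e, consBasisB_l, (hW _).1]
    · rw [consBasisB_l, consBasisB_e, (hW' _).1]
    · rw [consBasisB_l, consBasisB_l]; exact h.iso_l i j
  · rintro (⟨⟩ | i) (⟨⟩ | j)
    · rw [consBasisB_f]; exact halt f
    · rw [consBasisB_f, consBasisB_r, (hW _).2]
    · rw [consBasisB_r, consBasisB_f, (hW' _).2]
    · rw [consBasisB_r, consBasisB_r]; exact h.iso_r i j

end Std

section Main
variable {F : Type*} [Field F]

theorem symp_aux (n : ℕ) : ∀ {V : Type*} [AddCommGroup V] [Module F V] [FiniteDimensional F V]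
    (B : LinearMap.BilinForm F V), (∀ v, B v v = 0) → (∀ v, (∀ w, B v w = 0) → v = 0) →
    finrank F V = n →
    ∃ (ι : Type) (_ : Fintype ι) (_ : DecidableEq ι) (b : Basis (ι ⊕ ι) F V), IsSymp B b := by
  induction n using Nat.strong_induction_on with
  | _ n ih =>
    intro V _ _ _ B halt hnd hn
    by_cases h0 : n = 0
    · subst h0
      haveI : Subsingleton V := by
        rw [Module.finrank_zero_iff] at hn
        exact hn
      refine ⟨Empty, inferInstance, inferInstance, Basis.empty V, ?_⟩
      constructor <;> intro i <;> exact i.elim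
    · have hpos : 0 < finrank F V := by omega
      obtain ⟨v, hv⟩ := Module.finrank_pos_iff_exists_ne_zero.mp hpos
      obtain ⟨w0, hw0⟩ : ∃ w0, B v w0 ≠ 0 := by
        by_contra h
        push Not at h
        exact hv (hnd v h)
      set w := (B v w0)⁻¹ • w0 with hw
      have hvw : B v w = 1 := by
        rw [hw, map_smul, smul_eq_mul, inv_mul_cancel₀ hw0]
      have hfr := finrank_pairOrthB B halt v w hvw
      obtain ⟨ι, hι, hdec, b', hb'⟩ := ih (n - 2) (by omega)
        (restrictB B (pairOrthB B v w)) (fun x => halt x)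
        (nondeg_pairOrthB B halt v w hvw hnd) (by omega)
      exact ⟨Unit ⊕ ι, inferInstance, inferInstance, consBasisB B halt v w hvw b',
        IsSymp.cons B halt v w hvw b' hb'⟩

theorem IsSymp.reindex {V : Type*} [AddCommGroup V] [Module F V] {ι ι' : Type*} [DecidableEq ι]
    [DecidableEq ι'] (B : LinearMap.BilinForm F V) (b : Basis (ι ⊕ ι) F V) (h : IsSymp B b)
    (e : ι ≃ ι') : IsSymp B (b.reindex (e.sumCongr e)) := by
  constructor
  · intro i j
    simp only [Basis.reindex_apply, Equiv.sumCongr_symm, Equiv.sumCongr_apply, Sum.map_inl,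
      Sum.map_inr]
    rw [h.pair]
    simp
  · intro i j
    simp only [Basis.reindex_apply, Equiv.sumCongr_symm, Equiv.sumCongr_apply, Sum.map_inl]
    exact h.iso_l _ _
  · intro i j
    simp only [Basis.reindex_apply, Equiv.sumCongr_symm, Equiv.sumCongr_apply, Sum.map_inr]
    exact h.iso_r _ _

/-- a non-degenerate alternating form has a symplectic basis -/
theorem exists_symp_basis {V : Type*} [AddCommGroup V] [Module F V] [FiniteDimensional F V]
    (B : LinearMap.BilinForm F V) (halt : ∀ v, B v v = 0) (hnd : ∀ v, (∀ w, B v w = 0) → v = 0)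
    {m : ℕ} (hV : finrank F V = 2 * m) :
    ∃ b : Basis (Fin m ⊕ Fin m) F V, IsSymp B b := by
  classical
  obtain ⟨ι, hι, hdec, b, hb⟩ := symp_aux (finrank F V) B halt hnd rfl
  have hcard : Fintype.card ι = m := by
    have := Module.finrank_eq_card_basis b
    rw [Fintype.card_sum, hV] at this
    omega
  let e : ι ≃ Fin m := Fintype.equivFinOfCardEq hcard
  exact ⟨b.reindex (e.sumCongr e), IsSymp.reindex B b hb e⟩

/-- in a (swapped) symplectic basis the form is the standard one -/
theorem sympForm_of_isSymp {V : Type*} [AddCommGroup V] [Module F V]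
    (B : LinearMap.BilinForm F V) (halt : ∀ v, B v v = 0) {m : ℕ}
    (b : Basis (Fin m ⊕ Fin m) F V) (h : IsSymp B b) (v w : V) :
    B v w = Cfsg.sympForm m F ((b.reindex (Equiv.sumComm _ _)).equivFun v)
      ((b.reindex (Equiv.sumComm _ _)).equivFun w) := by
  classical
  set b' := b.reindex (Equiv.sumComm (Fin m) (Fin m)) with hb'
  rw [LinearMap.BilinForm.apply_eq_dotProduct_toMatrix_mulVec b' B v w]
  unfold Cfsg.sympForm
  have hJ : LinearMap.BilinForm.toMatrix b' B = Matrix.J (Fin m) F := by
    ext x y
    rw [LinearMap.BilinForm.toMatrix_apply, hb']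
    simp only [Basis.reindex_apply, Equiv.sumComm_symm, Equiv.sumComm_apply]
    rcases x with i | i <;> rcases y with j | j
    · simp [Matrix.J, h.iso_r]
    · simp only [Sum.swap_inl, Sum.swap_inr, Matrix.J, Matrix.fromBlocks_apply₁₂,
        Matrix.neg_apply, Matrix.one_apply]
      rw [alt_skew B halt, h.pair]
      simp [eq_comm]
    · simp only [Sum.swap_inl, Sum.swap_inr, Matrix.J, Matrix.fromBlocks_apply₂₁,
        Matrix.one_apply]
      rw [h.pair]
    · simp [Matrix.J, h.iso_l]
  rw [hJ]
  rfl

end Main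

section Embed
variable {F : Type*} [Field F]

theorem mem_symplecticGroup_iff_sympForm' (m : ℕ)
    (A : Matrix (Fin m ⊕ Fin m) (Fin m ⊕ Fin m) F) :
    A ∈ Matrix.symplecticGroup (Fin m) F ↔
      ∀ u v, Cfsg.sympForm m F (A.mulVec u) (A.mulVec v) = Cfsg.sympForm m F u v := by
  rw [SymplecticGroup.mem_iff']
  constructor
  · intro h u v
    unfold Cfsg.sympForm
    rw [Matrix.mulVec_mulVec, ← Matrix.vecMul_transpose,
      ← Matrix.dotProduct_mulVec, Matrix.mulVec_mulVec, ← Matrix.mul_assoc, h]
  · intro h
    ext i j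
    have := h (Pi.single i 1) (Pi.single j 1)
    unfold Cfsg.sympForm at this
    rw [Matrix.mulVec_mulVec, ← Matrix.vecMul_transpose,
      ← Matrix.dotProduct_mulVec, Matrix.mulVec_mulVec, ← Matrix.mul_assoc] at this
    simpa using this

/-- a faithful representation preserving a non-degenerate alternating form embeds into `Sp` -/
theorem exists_embedding_symplectic {G : Type*} [Group G] {V : Type*} [AddCommGroup V]
    [Module F V] [FiniteDimensional F V] {m : ℕ} (hV : finrank F V = 2 * m)
    (B : LinearMap.BilinForm F V) (halt : ∀ v, B v v = 0) (hnd : ∀ v, (∀ w, B v w = 0) → v = 0)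
    (ρ : G →* Module.End F V) (hρ : Function.Injective ρ)
    (hpres : ∀ g v w, B (ρ g v) (ρ g w) = B v w) :
    ∃ φ : G →* ↥(Matrix.symplecticGroup (Fin m) F), Function.Injective φ := by
  classical
  obtain ⟨b₀, hb₀⟩ := exists_symp_basis B halt hnd hV
  set b := b₀.reindex (Equiv.sumComm (Fin m) (Fin m)) with hb
  have hB : ∀ v w, B v w = Cfsg.sympForm m F (b.equivFun v) (b.equivFun w) :=
    sympForm_of_isSymp B halt b₀ hb₀
  let M : G →* Matrix (Fin m ⊕ Fin m) (Fin m ⊕ Fin m) F :=
    ((LinearMap.toMatrixAlgEquiv b).toAlgHom : Module.End F V →* _).comp ρ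
  have hM : ∀ g, M g = LinearMap.toMatrix b b (ρ g) := fun g => rfl
  have hmem : ∀ g, M g ∈ Matrix.symplecticGroup (Fin m) F := by
    intro g
    rw [mem_symplecticGroup_iff_sympForm']
    intro x y
    obtain ⟨v, rfl⟩ := b.equivFun.surjective x
    obtain ⟨w, rfl⟩ := b.equivFun.surjective y
    have h1 : ∀ u, (M g).mulVec (b.equivFun u) = b.equivFun (ρ g u) := by
      intro u
      rw [hM]
      exact LinearMap.toMatrix_mulVec_repr b b (ρ g) u
    rw [h1, h1, ← hB, ← hB, hpres]
  refine ⟨M.codRestrict (Matrix.symplecticGroup (Fin m) F) hmem, ?_⟩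
  intro g g' h
  apply hρ
  have h1 : M g = M g' := congrArg Subtype.val h
  rw [hM, hM] at h1
  exact (LinearMap.toMatrix b b).injective h1

end Embed

end Cfsg.Agent.Lib.H13
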