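import Cfsg.Agent.Lib.H5.Glaub.Defs

/-!
# S4359 piece (IVL): the interval calculus  (blueprint `tools/blueprints/S4359.md`, Step 4)
-/

set_option autoImplicit false
open scoped Pointwise
open Cfsg.Agent.Lib.H5.Glaub Cfsg.Agent.Lib.H5.Glaub.Setup

namespace Cfsg.Agent.Lib.H13.Glaub

variable {G : Type*} [Group G] [Finite G]

/-- two different subgroups of index `p` generate -/
theorem sup_eq_of_card {p : ℕ} (hp : p.Prime) {A B C : Subgroup G} (hA : A ≤ C) (hB : B ≤ C)
    (hcA : Nat.card C = p * Nat.card A) (hcB : Nat.card B = Nat.card A) (hne : A ≠ B) :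
    A ⊔ B = C := by
  have hle : A ⊔ B ≤ C := sup_le hA hB
  have h1 : Nat.card A ∣ Nat.card (A ⊔ B : Subgroup G) := Subgroup.card_dvd_of_le le_sup_left
  have h2 : Nat.card (A ⊔ B : Subgroup G) ∣ Nat.card C := Subgroup.card_dvd_of_le hle
  obtain ⟨e, he⟩ := h1
  have hApos : 0 < Nat.card A := Nat.card_pos
  rw [he, hcA, mul_comm p] at h2
  have h3 : e ∣ p := (Nat.mul_dvd_mul_iff_left hApos).1 h2
  rcases (Nat.dvd_prime hp).1 h3 with h | h
  · exfalso
    subst h
    have hAeq : A = A ⊔ B := Subgroup.eq_of_le_of_card_ge le_sup_left (by rw [he]; simp)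
    have hBA : B ≤ A := by rw [hAeq]; exact le_sup_right
    exact hne (Subgroup.eq_of_le_of_card_ge hBA (by rw [hcB])).symm
  · subst h
    exact Subgroup.eq_of_le_of_card_ge hle (by rw [he, hcA, mul_comm])

/-- (1) of the blueprint: `J(lo, t-1-k) = I[lo-k, lo]` -/
theorem J_eq_Iv (S : Setup G) (t : ℕ) (hU : S.Uni t) :
    ∀ k : ℕ, k + 1 ≤ t → ∀ lo : ℤ, S.J lo (t - 1 - k) = S.Iv t (lo - k) lo := by
  intro k
  induction k with
  | zero =>
    intro _ lo
    rw [Nat.sub_zero, Nat.cast_zero, sub_zero, S.Iv_self]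
    rfl
  | succ k ih =>
    intro hk lo
    have ih' := ih (by omega)
    obtain ⟨m, hm⟩ : ∃ m : ℕ, t - 1 - (k + 1) = m := ⟨_, rfl⟩
    have hm1 : t - 1 - k = m + 1 := by omega
    rw [hm1] at ih'
    rw [hm]
    apply le_antisymm
    · have hA : S.J lo (m + 1) ≤ S.J lo m := S.J_le_J le_rfl (by push_cast; omega)
      have hB : S.J (lo - 1) (m + 1) ≤ S.J lo m := S.J_le_J (by omega) (by push_cast; omega)
      have hcC : Nat.card (S.J lo m) = S.p ^ (t - m) := hU.card lo m (by omega)
      have hcA : Nat.card (S.J lo (m + 1)) = S.p ^ (t - (m + 1)) := hU.card lo (m + 1) (by omega)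
      have hcB : Nat.card (S.J (lo - 1) (m + 1)) = S.p ^ (t - (m + 1)) :=
        hU.card (lo - 1) (m + 1) (by omega)
      have hne : S.J lo (m + 1) ≠ S.J (lo - 1) (m + 1) := by
        intro heq
        have hinf : S.J (lo - 1) (m + 1) ⊓ S.J lo (m + 1) = S.J (lo - 1) (m + 2) := by
          rw [S.J_inf_J (by omega) (by push_cast; omega) (by push_cast; omega)]
          congr 1
          push_cast; omega
        rw [← heq, inf_idem] at hinf
        have h2 := hU.card (lo - 1) (m + 2) (by omega)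
        rw [← hinf, hcA] at h2
        have := Nat.pow_right_injective S.hp.two_le h2
        omega
      have hsup := sup_eq_of_card S.hp hA hB
        (by rw [hcC, hcA, ← pow_succ']; congr 1; omega) (by rw [hcB, hcA]) hne
      rw [← hsup]
      apply sup_le
      · rw [ih' lo]
        exact S.Iv_mono t (by push_cast; omega) le_rfl
      · rw [ih' (lo - 1)]
        exact S.Iv_mono t (by push_cast; omega) (by omega)
    · rw [S.Iv_le_iff]
      intro j hj1 hj2
      exact S.J_le_J hj2 (by push_cast at hj1 ⊢; omega)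

theorem Iv_eq_J (S : Setup G) (t : ℕ) (hU : S.Uni t) {a b : ℤ} (hab : a ≤ b) (hb : b < a + t) :
    S.Iv t a b = S.J b (t - 1 - (b - a).toNat) := by
  rw [J_eq_Iv S t hU (b - a).toNat (by omega) b]
  congr 1
  omega

theorem mem_Iv (S : Setup G) (t : ℕ) (hU : S.Uni t) {a b : ℤ} (hab : a ≤ b) (hb : b < a + t)
    {x : G} : x ∈ S.Iv t a b ↔ ∀ j : ℤ, b ≤ j → j ≤ a + t - 1 → x ∈ S.Pj j := by
  rw [Iv_eq_J S t hU hab hb, S.mem_J]
  constructor
  · intro h j h1 h2
    exact h j h1 (by omega)
  · intro h j h1 h2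
    exact h j h1 (by omega)

omit [Finite G] in
theorem J_top_eq_bot (S : Setup G) (t : ℕ) (hU : S.Uni t) (i : ℤ) : S.J i t = ⊥ := by
  apply Subgroup.card_eq_one.1
  rw [hU.card i t le_rfl, Nat.sub_self, pow_zero]

/-- (IVL) Step 4: interval calculus. -/
theorem ivl (S : Setup G) (t : ℕ) (hU : S.Uni t) : S.Ivl t where
  card := by
    intro a b hab hb
    rw [Iv_eq_J S t hU hab hb, hU.card _ _ (by omega)]
    congr 1
    omega
  Pj_eq := by
    intro j
    have hpos := hU.pos
    have := J_eq_Iv S t hU (t - 1) (by omega) j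
    rw [Nat.sub_self, S.J_unfold_zero] at this
    rw [this]
    congr 1
    omega
  inf := by
    intro lo hi a b c d hhi hla hlc hbh hdh
    by_cases hab : a ≤ b
    swap
    · rw [S.Iv_eq_bot t (by omega : b < a), bot_inf_eq, S.Iv_eq_bot t (by omega)]
    by_cases hcd : c ≤ d
    swap
    · rw [S.Iv_eq_bot t (by omega : d < c), inf_bot_eq, S.Iv_eq_bot t (by omega)]
    by_cases hmm : max a c ≤ min b d
    · ext x
      rw [Subgroup.mem_inf, mem_Iv S t hU hab (by omega), mem_Iv S t hU hcd (by omega),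
        mem_Iv S t hU hmm (by omega)]
      constructor
      · rintro ⟨h1, h2⟩ j hj1 hj2
        by_cases hj : b ≤ j ∧ j ≤ a + t - 1
        · exact h1 j hj.1 hj.2
        · exact h2 j (by omega) (by omega)
      · intro h
        exact ⟨fun j h1 h2 => h j (by omega) (by omega), fun j h1 h2 => h j (by omega) (by omega)⟩
    · rw [S.Iv_eq_bot t (by omega : min b d < max a c), eq_bot_iff]
      intro x hx
      rw [Subgroup.mem_inf, mem_Iv S t hU hab (by omega), mem_Iv S t hU hcd (by omega)] at hx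
      have hxJ : x ∈ S.J (min b d) t := by
        rw [S.mem_J]
        intro j hj1 hj2
        by_cases hj : b ≤ j ∧ j ≤ a + t - 1
        · exact hx.1 j hj.1 hj.2
        · exact hx.2 j (by omega) (by omega)
      rw [J_top_eq_bot S t hU] at hxJ
      exact hxJ

end Cfsg.Agent.Lib.H13.Glaub
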