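import Cfsg.Agent.Lib.H1.G85.Defs
import Cfsg.Agent.Lib.H5.Glaub.NcDist

/-!
# S4385 piece (GEN): generators `x k = h^k x_0 h^(-k)` of the subgroups `X_k` of order 2
-/

set_option autoImplicit false
open scoped Pointwise
open Cfsg.Agent.Lib.H5.Glaub Cfsg.Agent.Lib.H5.Glaub.Setup Cfsg.Agent.Lib.H1.G85

namespace Cfsg.Agent.Lib.H13.G85

variable {G : Type*} [Group G] [Finite G]

/-- (GEN) generators of the `X_k`. -/
theorem exists_gen (S : Setup G) (hp2 : S.p = 2) (t : ℕ) (hU : S.Uni t) : ∃ x : ℤ → G, Gen S t x := by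
  -- a nontrivial element of `X_0`
  obtain ⟨x0, hx0, hx01⟩ : ∃ x0 ∈ S.X t 0, x0 ≠ 1 := by
    by_contra hcon
    push Not at hcon
    apply X_ne_bot S t hU 0
    rw [eq_bot_iff]
    intro g hg
    rw [Subgroup.mem_bot]
    exact hcon g hg
  have hmem : ∀ k : ℤ, S.h ^ k * x0 * (S.h ^ k)⁻¹ ∈ S.X t k := by
    intro k
    have h1 := conj_mem_conj_smul (g := S.h ^ k) hx0
    rw [S.conj_X t k 0, add_zero] at h1
    exact h1
  have hne : ∀ k : ℤ, S.h ^ k * x0 * (S.h ^ k)⁻¹ ≠ 1 := by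
    intro k h0
    apply hx01
    have : x0 = (S.h ^ k)⁻¹ * (S.h ^ k * x0 * (S.h ^ k)⁻¹) * S.h ^ k := by group
    rw [this, h0]
    group
  have hsq0 : x0 * x0 = 1 := by
    have hc : Nat.card (S.X t 0) = 2 := by rw [card_X S t hU 0, hp2]
    have := pow_card_eq_one' (G := S.X t 0) (x := ⟨x0, hx0⟩)
    rw [hc, pow_two] at this
    exact congrArg Subtype.val this
  refine ⟨fun k => S.h ^ k * x0 * (S.h ^ k)⁻¹, ?_, hne, ?_, ?_⟩
  · intro k
    apply le_antisymm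
    · intro a ha
      have : Fact S.p.Prime := ⟨S.hp⟩
      have hne' : (⟨_, hmem k⟩ : S.X t k) ≠ 1 := fun h0 => hne k (congrArg Subtype.val h0)
      have hz := mem_zpowers_of_prime_card (G := S.X t k) (card_X S t hU k) (g' := ⟨a, ha⟩) hne'
      obtain ⟨z, hz⟩ := Subgroup.mem_zpowers_iff.1 hz
      rw [Subgroup.mem_zpowers_iff]
      refine ⟨z, ?_⟩
      have := congrArg Subtype.val hz
      simpa using this
    · rw [Subgroup.zpowers_le]
      exact hmem k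
  · intro k
    calc S.h ^ k * x0 * (S.h ^ k)⁻¹ * (S.h ^ k * x0 * (S.h ^ k)⁻¹)
        = S.h ^ k * (x0 * x0) * (S.h ^ k)⁻¹ := by group
      _ = 1 := by rw [hsq0]; group
  · intro k
    show S.h ^ (k + 1) * x0 * (S.h ^ (k + 1))⁻¹ = S.h * (S.h ^ k * x0 * (S.h ^ k)⁻¹) * S.h⁻¹
    rw [zpow_add, zpow_one]
    group

end Cfsg.Agent.Lib.H13.G85
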