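import Cfsg.Agent.Lib.H5.Glaub.NcDist
import Cfsg.Agent.Lib.H14.GlaubCEN
import Cfsg.Agent.Lib.H16.GlaubTQ
import Cfsg.Agent.Lib.H13.GlaubIVL

/-!
# S4385, piece (T6): for `p = 2`, `(t, q) = (6, 4)` the subgroup `I[a+1, a+4]` is normalized by
`X_(a-1), ..., X_(a+6)`, hence by `P_(a+4)`, `P_(a+5)`, `P_(a+6)`.
(For `a = -5`: `I[-4,-1] = P_(-1) ∩ P_0 ∩ P_1` is normal in `⟨P_(-1), P_0⟩` and in `⟨P_0, P_1⟩`.)
-/

set_option autoImplicit false
open scoped Pointwise
open Cfsg.Agent.Lib.H5.Glaub Cfsg.Agent.Lib.H5.Glaub.Setup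

namespace Cfsg.Agent.Lib.H13.Glaub

variable {G : Type*} [Group G] [Finite G]

theorem sq_X (S : Setup G) (hp2 : S.p = 2) {t : ℕ} (hU : S.Uni t) (k : ℤ) {u : G}
    (hu : u ∈ S.X t k) : u * u = 1 := by
  have hc : Nat.card (S.X t k) = 2 := by rw [card_X S t hU k, hp2]
  have := pow_card_eq_one' (G := S.X t k) (x := ⟨u, hu⟩)
  rw [hc, pow_two] at this
  exact congrArg Subtype.val this

theorem comm_of_ne_one (S : Setup G) {t : ℕ} (hU : S.Uni t) (k : ℤ) {n : G} (hn : n ∈ S.X t k)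
    (hn1 : n ≠ 1) (B : Subgroup G) (h : ∀ b ∈ B, n * b = b * n) : Comm (S.X t k) B := by
  intro a ha b hb
  have : Fact S.p.Prime := ⟨S.hp⟩
  have hne : (⟨n, hn⟩ : S.X t k) ≠ 1 := fun h0 => hn1 (congrArg Subtype.val h0)
  have hz := mem_zpowers_of_prime_card (G := S.X t k) (card_X S t hU k) (g' := ⟨a, ha⟩) hne
  obtain ⟨z, hz⟩ := Subgroup.mem_zpowers_iff.1 hz
  have ha' : a = n ^ z := by
    have := congrArg Subtype.val hz
    simpa using this.symm
  rw [ha']
  have hc : Commute n b := h b hb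
  exact (hc.zpow_left z).eq

omit [Finite G] in
theorem Iv_short_comm (S : Setup G) {t q : ℕ} (hD : S.Dist t q) {a b : ℤ} (hab : b < a + q) :
    Comm (S.Iv t a b) (S.Iv t a b) :=
  Cfsg.Agent.Lib.H14.Glaub.comm_Iv_Iv S t (fun i j h1 h2 h3 h4 =>
    hD.comm i j (by rw [abs_lt]; constructor <;> omega))

theorem Iv_short_sq (S : Setup G) (hp2 : S.p = 2) {t q : ℕ} (hU : S.Uni t) (hD : S.Dist t q)
    {a b : ℤ} (hab : b < a + q) {e : G} (he : e ∈ S.Iv t a b) : e * e = 1 := by
  have hcomm := Iv_short_comm S hD hab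
  let M : Subgroup G :=
    { carrier := {e | e ∈ S.Iv t a b ∧ e * e = 1}
      one_mem' := ⟨Subgroup.one_mem _, by simp⟩
      mul_mem' := by
        rintro x y ⟨hx, hx2⟩ ⟨hy, hy2⟩
        refine ⟨Subgroup.mul_mem _ hx hy, ?_⟩
        have hyx : y * x = x * y := hcomm y hy x hx
        calc x * y * (x * y) = x * (y * x) * y := by group
          _ = x * (x * y) * y := by rw [hyx]
          _ = (x * x) * (y * y) := by group
          _ = 1 := by rw [hx2, hy2, mul_one]
      inv_mem' := by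
        rintro x ⟨hx, hx2⟩
        refine ⟨Subgroup.inv_mem _ hx, ?_⟩
        rw [← mul_inv_rev, hx2, inv_one] }
  have hle : S.Iv t a b ≤ M := by
    rw [S.Iv_le_iff]
    intro k h1 h2 u hu
    exact ⟨S.X_le_Iv t h1 h2 hu, sq_X S hp2 hU k hu⟩
  exact (hle he).2

omit [Finite G] in
/-- `I[c,b] ⊓ I[a,d]`-type intersections inside one window -/
theorem Iv_inf' (S : Setup G) {t : ℕ} (hI : S.Ivl t) {a b c d : ℤ} (hac : a ≤ c) (hbd : b ≤ d)
    (hd : d < a + t) : S.Iv t a b ⊓ S.Iv t c d = S.Iv t c b := by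
  have := hI.inf a d a b c d hd le_rfl hac hbd le_rfl
  rwa [max_eq_right hac, min_eq_left hbd] at this

/-- the key step: `X_m` normalizes `I[m-5, m-2]` -/
theorem t6_right (S : Setup G) (hp2 : S.p = 2) (hU : S.Uni 6) (hI : S.Ivl 6) (hD : S.Dist 6 4)
    (hC : S.Cen 6 4) (m : ℤ) {g : G} (hg : g ∈ S.X 6 m) {n : G}
    (hn : n ∈ S.Iv 6 (m - 5) (m - 2)) : g * n * g⁻¹ ∈ S.Iv 6 (m - 5) (m - 2) := by
  have key : ∀ k : ℤ, m - 5 ≤ k → k ≤ m - 2 → ∀ u ∈ S.X 6 k,
      g * u * g⁻¹ ∈ S.Iv 6 (m - 5) (m - 2) := by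
    intro k h1 h2 u hu
    have hgW : g ∈ S.Iv 6 (m - 5) m := S.X_le_Iv 6 (by omega) le_rfl hg
    have hk : k = m - 5 ∨ k = m - 4 ∨ k = m - 3 ∨ k = m - 2 := by omega
    rcases hk with rfl | rfl | rfl | rfl
    · -- the commutator case
      by_cases hu1 : u = 1
      · subst hu1; simp
      have huA : u ∈ S.Iv 6 (m - 5) (m - 1) := S.X_le_Iv 6 le_rfl (by omega) hu
      have huW : u ∈ S.Iv 6 (m - 5) m := S.X_le_Iv 6 le_rfl (by omega) hu
      have hgB : g ∈ S.Iv 6 (m - 4) m := S.X_le_Iv 6 (by omega) le_rfl hg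
      have hgg := sq_X S hp2 hU m hg
      have huu := sq_X S hp2 hU (m - 5) hu
      have hginv : g⁻¹ = g := inv_eq_of_mul_eq_one_left hgg
      have huinv : u⁻¹ = u := inv_eq_of_mul_eq_one_left huu
      -- c = g u g⁻¹ u⁻¹
      have hcA : g * u * g⁻¹ * u⁻¹ ∈ S.Iv 6 (m - 5) (m - 1) := by
        have h1 := Cfsg.Agent.Lib.H16.Glaub.Iv_conj_left S hI (a := m - 5) (b := m) (b' := m - 1)
          (by ring) (by omega) (by push_cast; omega) hgW huA
        exact Subgroup.mul_mem _ h1 (Subgroup.inv_mem _ huA)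
      have hcB : g * u * g⁻¹ * u⁻¹ ∈ S.Iv 6 (m - 4) m := by
        have h1 := Cfsg.Agent.Lib.H16.Glaub.Iv_conj_right S hI (a := m - 5) (a' := m - 4) (b := m)
          (by ring) (by omega) (by push_cast; omega) huW (Subgroup.inv_mem _ hgB)
        have : g * u * g⁻¹ * u⁻¹ = g * (u * g⁻¹ * u⁻¹) := by group
        rw [this]
        exact Subgroup.mul_mem _ hgB h1
      have hcE : g * u * g⁻¹ * u⁻¹ ∈ S.Iv 6 (m - 4) (m - 1) := by
        have := Iv_inf' S hI (a := m - 5) (b := m - 1) (c := m - 4) (d := m) (by omega) (by omega)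
          (by push_cast; omega)
        rw [← this]
        exact ⟨hcA, hcB⟩
      set c := g * u * g⁻¹ * u⁻¹ with hc
      have hcc : c * c = 1 := Iv_short_sq S hp2 hU hD (by push_cast; omega) hcE
      have hcinv : c⁻¹ = c := inv_eq_of_mul_eq_one_left hcc
      -- u commutes with c
      have huc : u * c = c * u := by
        have h3 : u * c * u⁻¹ = c⁻¹ := by
          rw [hc, hginv, huinv]
          simp only [mul_inv_rev, hginv, huinv, mul_assoc, huu, mul_one]
        rw [hcinv] at h3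
        calc u * c = u * c * u⁻¹ * u := by group
          _ = c * u := by rw [h3]
      -- the centralizer of u in I[m-4,m-1]
      let C : Subgroup G := S.Iv 6 (m - 4) (m - 1) ⊓ Subgroup.centralizer {u}
      have hC1 : S.Iv 6 (m - 4) (m - 2) ≤ C := by
        refine le_inf (S.Iv_mono 6 le_rfl (by omega)) ?_
        rw [S.Iv_le_iff]
        intro j hj1 hj2 w hw
        rw [Subgroup.mem_centralizer_iff]
        intro x hx
        rw [Set.mem_singleton_iff] at hx
        subst hx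
        exact hD.comm (m - 5) j (by rw [abs_lt]; constructor <;> omega) x hu w hw
      have hC2 : C ≤ S.Iv 6 (m - 4) (m - 1) := inf_le_left
      have hCeq : C = S.Iv 6 (m - 4) (m - 2) := by
        by_contra hne
        have h8 := hI.card (m - 4) (m - 2) (by omega) (by push_cast; omega)
        have h16 := hI.card (m - 4) (m - 1) (by omega) (by push_cast; omega)
        have e1 : (m - 2 - (m - 4)).toNat + 1 = 3 := by omega
        have e2 : (m - 1 - (m - 4)).toNat + 1 = 3 + 1 := by omega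
        rw [e1] at h8
        rw [e2] at h16
        have hCE := Cfsg.Agent.Lib.H14.Glaub.eq_of_card_pow S.hp h8 h16 hC1 hC2 hne
        -- then u commutes with X_(m-1)
        apply hD.ncomm (m - 5)
        have hxx : S.X 6 (m - 5 + ((4 : ℕ) : ℤ)) = S.X 6 (m - 1) := by
          congr 1; push_cast; ring
        rw [hxx]
        apply comm_of_ne_one S hU (m - 5) hu hu1
        intro b hb
        have hbC : b ∈ C := by
          rw [hCE]; exact S.X_le_Iv 6 (by omega) le_rfl hb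
        have := Subgroup.mem_centralizer_iff.1 hbC.2 u (Set.mem_singleton u)
        exact this
      have hcC : c ∈ C := by
        refine Subgroup.mem_inf.2 ⟨hcE, ?_⟩
        rw [Subgroup.mem_centralizer_iff]
        intro x hx
        rw [Set.mem_singleton_iff] at hx
        subst hx
        exact huc
      rw [hCeq] at hcC
      have : g * u * g⁻¹ = c * u := by rw [hc]; group
      rw [this]
      exact Subgroup.mul_mem _ (S.Iv_mono 6 (by omega) le_rfl hcC) (S.X_le_Iv 6 le_rfl (by omega) hu)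
    · -- the centre case
      have hz := (hC (m - 5) (m - 1) (by push_cast; omega) (by push_cast; omega)).1
      have huz : u ∈ zc (S.Iv 6 (m - 5) (m - 1)) := by
        rw [hz]
        exact S.X_le_Iv 6 (by push_cast; omega) (by push_cast; omega) hu
      have hnorm : ∀ w ∈ S.Iv 6 (m - 5) m, ∀ a ∈ S.Iv 6 (m - 5) (m - 1),
          w * a * w⁻¹ ∈ S.Iv 6 (m - 5) (m - 1) := fun w hw a ha =>
        Cfsg.Agent.Lib.H16.Glaub.Iv_conj_left S hI (a := m - 5) (b := m) (b' := m - 1)
          (by ring) (by omega) (by push_cast; omega) hw ha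
      have := Cfsg.Agent.Lib.H16.Glaub.conj_mem_zc hnorm hgW huz
      rw [hz] at this
      exact S.Iv_mono 6 (by push_cast; omega) (by push_cast; omega) this
    · have hcm := hD.comm m (m - 3) (by rw [abs_lt]; constructor <;> omega) g hg u hu
      rw [hcm, mul_inv_cancel_right]
      exact S.X_le_Iv 6 (by omega) (by omega) hu
    · have hcm := hD.comm m (m - 2) (by rw [abs_lt]; constructor <;> omega) g hg u hu
      rw [hcm, mul_inv_cancel_right]
      exact S.X_le_Iv 6 (by omega) (by omega) hu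
  have hle : S.Iv 6 (m - 5) (m - 2) ≤
      (S.Iv 6 (m - 5) (m - 2)).comap (MulAut.conj g).toMonoidHom := by
    rw [S.Iv_le_iff]
    intro k h1 h2 u hu
    rw [Subgroup.mem_comap]
    exact key k h1 h2 u hu
  exact hle hn

/-- the mirrored key step: `X_m` normalizes `I[m+2, m+5]` -/
theorem t6_left (S : Setup G) (hp2 : S.p = 2) (hU : S.Uni 6) (hI : S.Ivl 6) (hD : S.Dist 6 4)
    (hC : S.Cen 6 4) (m : ℤ) {g : G} (hg : g ∈ S.X 6 m) {n : G}
    (hn : n ∈ S.Iv 6 (m + 2) (m + 5)) : g * n * g⁻¹ ∈ S.Iv 6 (m + 2) (m + 5) := by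
  have key : ∀ k : ℤ, m + 2 ≤ k → k ≤ m + 5 → ∀ u ∈ S.X 6 k,
      g * u * g⁻¹ ∈ S.Iv 6 (m + 2) (m + 5) := by
    intro k h1 h2 u hu
    have hgW : g ∈ S.Iv 6 m (m + 5) := S.X_le_Iv 6 le_rfl (by omega) hg
    have hk : k = m + 5 ∨ k = m + 4 ∨ k = m + 3 ∨ k = m + 2 := by omega
    rcases hk with rfl | rfl | rfl | rfl
    · -- the commutator case
      by_cases hu1 : u = 1
      · subst hu1; simp
      have huB : u ∈ S.Iv 6 (m + 1) (m + 5) := S.X_le_Iv 6 (by omega) le_rfl hu
      have huW : u ∈ S.Iv 6 m (m + 5) := S.X_le_Iv 6 (by omega) le_rfl hu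
      have hgA : g ∈ S.Iv 6 m (m + 4) := S.X_le_Iv 6 le_rfl (by omega) hg
      have hgg := sq_X S hp2 hU m hg
      have huu := sq_X S hp2 hU (m + 5) hu
      have hginv : g⁻¹ = g := inv_eq_of_mul_eq_one_left hgg
      have huinv : u⁻¹ = u := inv_eq_of_mul_eq_one_left huu
      have hcB : g * u * g⁻¹ * u⁻¹ ∈ S.Iv 6 (m + 1) (m + 5) := by
        have h1 := Cfsg.Agent.Lib.H16.Glaub.Iv_conj_right S hI (a := m) (a' := m + 1) (b := m + 5)
          (by ring) (by omega) (by push_cast; omega) hgW huB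
        exact Subgroup.mul_mem _ h1 (Subgroup.inv_mem _ huB)
      have hcA : g * u * g⁻¹ * u⁻¹ ∈ S.Iv 6 m (m + 4) := by
        have h1 := Cfsg.Agent.Lib.H16.Glaub.Iv_conj_left S hI (a := m) (b := m + 5) (b' := m + 4)
          (by ring) (by omega) (by push_cast; omega) huW (Subgroup.inv_mem _ hgA)
        have : g * u * g⁻¹ * u⁻¹ = g * (u * g⁻¹ * u⁻¹) := by group
        rw [this]
        exact Subgroup.mul_mem _ hgA h1
      have hcE : g * u * g⁻¹ * u⁻¹ ∈ S.Iv 6 (m + 1) (m + 4) := by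
        have := Iv_inf' S hI (a := m) (b := m + 4) (c := m + 1) (d := m + 5) (by omega) (by omega)
          (by push_cast; omega)
        rw [← this]
        exact ⟨hcA, hcB⟩
      set c := g * u * g⁻¹ * u⁻¹ with hc
      have hcc : c * c = 1 := Iv_short_sq S hp2 hU hD (by push_cast; omega) hcE
      have hcinv : c⁻¹ = c := inv_eq_of_mul_eq_one_left hcc
      have huc : u * c = c * u := by
        have h3 : u * c * u⁻¹ = c⁻¹ := by
          rw [hc, hginv, huinv]
          simp only [mul_inv_rev, hginv, huinv, mul_assoc, huu, mul_one]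
        rw [hcinv] at h3
        calc u * c = u * c * u⁻¹ * u := by group
          _ = c * u := by rw [h3]
      let C : Subgroup G := S.Iv 6 (m + 1) (m + 4) ⊓ Subgroup.centralizer {u}
      have hC1 : S.Iv 6 (m + 2) (m + 4) ≤ C := by
        refine le_inf (S.Iv_mono 6 (by omega) le_rfl) ?_
        rw [S.Iv_le_iff]
        intro j hj1 hj2 w hw
        rw [Subgroup.mem_centralizer_iff]
        intro x hx
        rw [Set.mem_singleton_iff] at hx
        subst hx
        exact hD.comm (m + 5) j (by rw [abs_lt]; constructor <;> omega) x hu w hw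
      have hC2 : C ≤ S.Iv 6 (m + 1) (m + 4) := inf_le_left
      have hCeq : C = S.Iv 6 (m + 2) (m + 4) := by
        by_contra hne
        have h8 := hI.card (m + 2) (m + 4) (by omega) (by push_cast; omega)
        have h16 := hI.card (m + 1) (m + 4) (by omega) (by push_cast; omega)
        have e1 : (m + 4 - (m + 2)).toNat + 1 = 3 := by omega
        have e2 : (m + 4 - (m + 1)).toNat + 1 = 3 + 1 := by omega
        rw [e1] at h8
        rw [e2] at h16
        have hCE := Cfsg.Agent.Lib.H14.Glaub.eq_of_card_pow S.hp h8 h16 hC1 hC2 hne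
        apply hD.ncomm (m + 1)
        have hxx : S.X 6 (m + 1 + ((4 : ℕ) : ℤ)) = S.X 6 (m + 5) := by
          congr 1; push_cast; ring
        rw [hxx]
        apply Comm.symm
        apply comm_of_ne_one S hU (m + 5) hu hu1
        intro b hb
        have hbC : b ∈ C := by
          rw [hCE]; exact S.X_le_Iv 6 le_rfl (by omega) hb
        have := Subgroup.mem_centralizer_iff.1 hbC.2 u (Set.mem_singleton u)
        exact this
      have hcC : c ∈ C := by
        refine Subgroup.mem_inf.2 ⟨hcE, ?_⟩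
        rw [Subgroup.mem_centralizer_iff]
        intro x hx
        rw [Set.mem_singleton_iff] at hx
        subst hx
        exact huc
      rw [hCeq] at hcC
      have : g * u * g⁻¹ = c * u := by rw [hc]; group
      rw [this]
      exact Subgroup.mul_mem _ (S.Iv_mono 6 le_rfl (by omega) hcC) (S.X_le_Iv 6 (by omega) le_rfl hu)
    · -- the centre case
      have hz := (hC (m + 1) (m + 5) (by push_cast; omega) (by push_cast; omega)).1
      have huz : u ∈ zc (S.Iv 6 (m + 1) (m + 5)) := by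
        rw [hz]
        exact S.X_le_Iv 6 (by push_cast; omega) (by push_cast; omega) hu
      have hnorm : ∀ w ∈ S.Iv 6 m (m + 5), ∀ a ∈ S.Iv 6 (m + 1) (m + 5),
          w * a * w⁻¹ ∈ S.Iv 6 (m + 1) (m + 5) := fun w hw a ha =>
        Cfsg.Agent.Lib.H16.Glaub.Iv_conj_right S hI (a := m) (a' := m + 1) (b := m + 5)
          (by ring) (by omega) (by push_cast; omega) hw ha
      have := Cfsg.Agent.Lib.H16.Glaub.conj_mem_zc hnorm hgW huz
      rw [hz] at this
      exact S.Iv_mono 6 (by push_cast; omega) (by push_cast; omega) this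
    · have hcm := hD.comm m (m + 3) (by rw [abs_lt]; constructor <;> omega) g hg u hu
      rw [hcm, mul_inv_cancel_right]
      exact S.X_le_Iv 6 (by omega) (by omega) hu
    · have hcm := hD.comm m (m + 2) (by rw [abs_lt]; constructor <;> omega) g hg u hu
      rw [hcm, mul_inv_cancel_right]
      exact S.X_le_Iv 6 (by omega) (by omega) hu
  have hle : S.Iv 6 (m + 2) (m + 5) ≤
      (S.Iv 6 (m + 2) (m + 5)).comap (MulAut.conj g).toMonoidHom := by
    rw [S.Iv_le_iff]
    intro k h1 h2 u hu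
    rw [Subgroup.mem_comap]
    exact key k h1 h2 u hu
  exact hle hn

/-- `X_j` normalizes `I[a+1, a+4]` for `a - 1 ≤ j ≤ a + 6` -/
theorem t6_X (S : Setup G) (hp2 : S.p = 2) (hU : S.Uni 6) (hI : S.Ivl 6) (hD : S.Dist 6 4)
    (hC : S.Cen 6 4) (a j : ℤ) (h1 : a - 1 ≤ j) (h2 : j ≤ a + 6) {g : G} (hg : g ∈ S.X 6 j)
    {n : G} (hn : n ∈ S.Iv 6 (a + 1) (a + 4)) : g * n * g⁻¹ ∈ S.Iv 6 (a + 1) (a + 4) := by
  by_cases hj6 : j = a + 6
  · have e1 : a + 1 = j - 5 := by omega
    have e2 : a + 4 = j - 2 := by omega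
    rw [e1, e2] at hn ⊢
    exact t6_right S hp2 hU hI hD hC j hg hn
  by_cases hj1 : j = a - 1
  · have e1 : a + 1 = j + 2 := by omega
    have e2 : a + 4 = j + 5 := by omega
    rw [e1, e2] at hn ⊢
    exact t6_left S hp2 hU hI hD hC j hg hn
  by_cases hj5 : j = a + 5
  · exact Cfsg.Agent.Lib.H16.Glaub.Iv_conj_left S hI (a := a + 1) (b := a + 5) (b' := a + 4)
      (by ring) (by omega) (by push_cast; omega) (S.X_le_Iv 6 (by omega) (by omega) hg) hn
  · exact Cfsg.Agent.Lib.H16.Glaub.Iv_conj_right S hI (a := a) (a' := a + 1) (b := a + 4)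
      (by ring) (by omega) (by push_cast; omega) (S.X_le_Iv 6 (by omega) (by omega) hg) hn

/-- `I[a-1, a+6] ≤ N(I[a+1, a+4])` -/
theorem t6_le_normalizer (S : Setup G) (hp2 : S.p = 2) (hU : S.Uni 6) (hI : S.Ivl 6)
    (hD : S.Dist 6 4) (hC : S.Cen 6 4) (a : ℤ) :
    S.Iv 6 (a - 1) (a + 6) ≤ Subgroup.normalizer ((S.Iv 6 (a + 1) (a + 4) : Subgroup G) : Set G) := by
  rw [S.Iv_le_iff]
  intro j h1 h2 g hg
  rw [Subgroup.mem_normalizer_iff]
  intro n
  constructor
  · intro hn
    exact t6_X S hp2 hU hI hD hC a j h1 h2 hg hn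
  · intro hn
    have := t6_X S hp2 hU hI hD hC a j h1 h2 (Subgroup.inv_mem _ hg) hn
    simpa [mul_assoc] using this

/-- (T6): `P_i` normalizes `I[a+1, a+4]` for `a + 4 ≤ i ≤ a + 6` -/
theorem t6_Pj (S : Setup G) (hp2 : S.p = 2) (hU : S.Uni 6) (hI : S.Ivl 6) (hD : S.Dist 6 4)
    (hC : S.Cen 6 4) (a i : ℤ) (h1 : a + 4 ≤ i) (h2 : i ≤ a + 6) :
    S.Pj i ≤ Subgroup.normalizer ((S.Iv 6 (a + 1) (a + 4) : Subgroup G) : Set G) := by
  rw [hI.Pj_eq]
  exact (S.Iv_mono 6 (by push_cast; omega) (by omega)).trans (t6_le_normalizer S hp2 hU hI hD hC a)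

/-- (T6), the form used for S4385: `D = I[-4,-1] = P_(-1) ∩ P_0 ∩ P_1` is normalized by
`P_(-1)`, `P_0` and `P_1`. -/
theorem t6 (S : Setup G) (hp2 : S.p = 2) (hU : S.Uni 6) (hI : S.Ivl 6) (hD : S.Dist 6 4)
    (hC : S.Cen 6 4) :
    S.Pj (-1) ⊔ S.Pj 0 ⊔ S.Pj 1 ≤
      Subgroup.normalizer ((S.Iv 6 (-4) (-1) : Subgroup G) : Set G) := by
  have h := fun i h1 h2 => t6_Pj S hp2 hU hI hD hC (-5) i h1 h2
  have e1 : (-5 : ℤ) + 1 = -4 := by norm_num
  have e2 : (-5 : ℤ) + 4 = -1 := by norm_num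
  rw [e1, e2] at h
  exact sup_le (sup_le (h (-1) (by norm_num) (by norm_num)) (h 0 (by norm_num) (by norm_num)))
    (h 1 (by norm_num) (by norm_num))

/-- `I[-4,-1] = P_(-1) ∩ P_0 ∩ P_1 = J(-1, 2)` -/
theorem t6_D_eq (S : Setup G) (hU : S.Uni 6) : S.Iv 6 (-4) (-1) = S.J (-1) 2 := by
  rw [Iv_eq_J S 6 hU (by norm_num) (by norm_num)]
  rfl

end Cfsg.Agent.Lib.H13.Glaub
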