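import Cfsg.Agent.Lib.H13.OmegaCrit

set_option autoImplicit false

namespace Cfsg.Agent.Lib.H13.HypPairs

open Matrix
open scoped MatrixGroups
open Cfsg.Agent.Lib.H4 Cfsg.Agent.Lib.H11.IsoReindex Cfsg.Agent.Lib.H13.OmegaCrit

section gen

variable {F : Type*} [Field F] {ι : Type} [Fintype ι] [DecidableEq ι] (Q : QuadraticForm F (ι → F))

theorem refl_isometry (v : ι → F) (hv : Q v ≠ 0) (x : ι → F) :
    Q (Cfsg.reflectionMatrix ⇑Q v *ᵥ x) = Q x := by
  rw [reflectionMatrix_mulVec, sub_eq_add_neg, ← neg_smul, Q_add_smul,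
    QuadraticMap.polar_comm (⇑Q) x v]
  field_simp
  ring

theorem refl_mul_self (v : ι → F) (hv : Q v ≠ 0) :
    Cfsg.reflectionMatrix ⇑Q v * Cfsg.reflectionMatrix ⇑Q v = 1 := by
  apply Matrix.ext_iff_mulVec.mpr
  intro x
  rw [← Matrix.mulVec_mulVec, Matrix.one_mulVec, reflectionMatrix_mulVec Q v x,
    reflectionMatrix_mulVec, QuadraticMap.polar_sub_right, QuadraticMap.polar_smul_right,
    Cfsg.Agent.Lib.H4.polar_self]
  have : (Q v)⁻¹ * (QuadraticMap.polar (⇑Q) v x -
      ((Q v)⁻¹ * QuadraticMap.polar (⇑Q) v x) • (2 * Q v)) = - ((Q v)⁻¹ * QuadraticMap.polar (⇑Q) v x) := by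
    rw [smul_eq_mul]
    field_simp
    ring
  rw [this, neg_smul]
  abel

/-- the reflection as an element of the isometry group (general index type) -/
noncomputable def reflG (v : ι → F) (hv : Q v ≠ 0) : ↥(Cfsg.isometryGroup F ⇑Q) :=
  ⟨⟨Cfsg.reflectionMatrix ⇑Q v, Cfsg.reflectionMatrix ⇑Q v, refl_mul_self Q v hv,
    refl_mul_self Q v hv⟩, (mem_iso_iff' ⇑Q _).mpr (fun x => refl_isometry Q v hv x)⟩

theorem reflG_val (v : ι → F) (hv : Q v ≠ 0) :
    (((reflG Q v hv : ↥(Cfsg.isometryGroup F ⇑Q)) : GL ι F) : Matrix ι ι F) =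
      Cfsg.reflectionMatrix ⇑Q v := rfl

theorem exists_of_list (vs : List (ι → F)) (hvs : ∀ v ∈ vs, Q v ≠ 0) :
    ∃ h : ↥(Cfsg.isometryGroup F ⇑Q), ((h : GL ι F) : Matrix ι ι F) =
      (vs.map (fun v => Cfsg.reflectionMatrix ⇑Q v)).prod := by
  induction vs with
  | nil => exact ⟨1, by simp⟩
  | cons v vs ih =>
    obtain ⟨h, hh⟩ := ih (fun w hw => hvs w (List.mem_cons_of_mem _ hw))
    refine ⟨reflG Q v (hvs v List.mem_cons_self) * h, ?_⟩
    rw [List.map_cons, List.prod_cons, ← hh]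
    rfl

/-- `(e_a, e_b)` is a hyperbolic pair orthogonal to all other standard basis vectors -/
structure IsHypPair (a b : ι) : Prop where
  ne : a ≠ b
  Qa : Q (Pi.single a 1) = 0
  Qb : Q (Pi.single b 1) = 0
  pa : ∀ x, QuadraticMap.polar (⇑Q) (Pi.single a 1) x = x b
  pb : ∀ x, QuadraticMap.polar (⇑Q) (Pi.single b 1) x = x a

variable {Q}

theorem IsHypPair.Q_plus {a b : ι} (h : IsHypPair Q a b) :
    Q (Pi.single a 1 + Pi.single b 1) = 1 := by
  rw [QuadraticMap.map_add (⇑Q), h.Qa, h.Qb, h.pa]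
  simp

theorem IsHypPair.Q_minus {a b : ι} (h : IsHypPair Q a b) :
    Q (Pi.single a 1 - Pi.single b 1) = -1 := by
  rw [sub_eq_add_neg, QuadraticMap.map_add (⇑Q), QuadraticMap.map_neg, h.Qa, h.Qb, h.pa]
  simp

theorem IsHypPair.polar_plus {a b : ι} (h : IsHypPair Q a b) (x : ι → F) :
    QuadraticMap.polar (⇑Q) (Pi.single a 1 + Pi.single b 1) x = x b + x a := by
  rw [QuadraticMap.polar_add_left, h.pa, h.pb]

theorem IsHypPair.polar_minus {a b : ι} (h : IsHypPair Q a b) (x : ι → F) :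
    QuadraticMap.polar (⇑Q) (Pi.single a 1 - Pi.single b 1) x = x b - x a := by
  rw [QuadraticMap.polar_sub_left, h.pa, h.pb]

theorem IsHypPair.refl_mul {a b : ι} (h : IsHypPair Q a b) :
    Cfsg.reflectionMatrix ⇑Q (Pi.single a 1 + Pi.single b 1) *
      Cfsg.reflectionMatrix ⇑Q (Pi.single a 1 - Pi.single b 1) =
      Matrix.diagonal (fun k => if k = a ∨ k = b then (-1 : F) else 1) := by
  apply Matrix.ext_iff_mulVec.mpr
  intro x
  rw [← Matrix.mulVec_mulVec, reflectionMatrix_mulVec Q _ x, reflectionMatrix_mulVec,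
    h.Q_plus, h.Q_minus, h.polar_plus, h.polar_minus]
  funext k
  rw [Matrix.mulVec_diagonal]
  have hab := h.ne
  by_cases hka : k = a
  · subst hka
    simp [hab]
  · by_cases hkb : k = b
    · subst hkb
      simp [hab, Ne.symm hab]
    · simp [Pi.single_apply, hka, hkb]

theorem diag_list_prod (idx : ι → ℕ) (l : List ℕ) (hl : l.Nodup) :
    (l.map (fun j => Matrix.diagonal (fun k : ι => if idx k = j then (-1 : F) else 1))).prod =
      Matrix.diagonal (fun k => if idx k ∈ l then -1 else 1) := by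
  induction l with
  | nil => simp
  | cons j l ih =>
    rw [List.nodup_cons] at hl
    rw [List.map_cons, List.prod_cons, ih hl.2, Matrix.diagonal_mul_diagonal]
    congr 1
    funext k
    by_cases hk : idx k = j
    · rw [if_pos hk, if_neg (by rw [hk]; exact hl.1), if_pos (by rw [hk]; exact List.mem_cons_self),
        mul_one]
    · rw [if_neg hk, one_mul]
      by_cases hkl : idx k ∈ l
      · rw [if_pos hkl, if_pos (List.mem_cons_of_mem _ hkl)]
      · rw [if_neg hkl, if_neg]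
        rw [List.mem_cons]
        push Not
        exact ⟨hk, hkl⟩

/-- the vectors `e_a + e_b, e_a - e_b` for a list of pairs -/
def pairVecs (A B : ℕ → ι) (l : List ℕ) : List (ι → F) :=
  l.flatMap (fun j => [Pi.single (A j) 1 + Pi.single (B j) 1, Pi.single (A j) 1 - Pi.single (B j) 1])

theorem pairVecs_aux (idx : ι → ℕ) (i : ℕ) (A B : ℕ → ι)
    (hpair : ∀ j < i, IsHypPair Q (A j) (B j))
    (hidx : ∀ j < i, ∀ k, idx k = j ↔ (k = A j ∨ k = B j)) (l : List ℕ) (hl : ∀ j ∈ l, j < i) :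
    (∀ v ∈ pairVecs (F := F) A B l, Q v ≠ 0) ∧
    ((pairVecs A B l).map (fun v => Cfsg.reflectionMatrix ⇑Q v)).prod =
      (l.map (fun j => Matrix.diagonal (fun k : ι => if idx k = j then (-1 : F) else 1))).prod ∧
    ((pairVecs A B l).map (fun v => Q v)).prod = (-1) ^ l.length ∧
    (pairVecs (F := F) A B l).length = 2 * l.length := by
  induction l with
  | nil => simp [pairVecs]
  | cons j l ih =>
    obtain ⟨ih1, ih2, ih3, ih4⟩ := ih (fun j' hj' => hl j' (List.mem_cons_of_mem _ hj'))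
    have hj : j < i := hl j List.mem_cons_self
    have hp := hpair j hj
    have hcons : pairVecs (F := F) A B (j :: l) =
        (Pi.single (A j) 1 + Pi.single (B j) 1) :: (Pi.single (A j) 1 - Pi.single (B j) 1) ::
          pairVecs A B l := by
      simp [pairVecs]
    rw [hcons]
    refine ⟨?_, ?_, ?_, ?_⟩
    · intro v hv
      rw [List.mem_cons, List.mem_cons] at hv
      rcases hv with rfl | rfl | hv
      · rw [hp.Q_plus]; exact one_ne_zero
      · rw [hp.Q_minus]; exact neg_ne_zero.mpr one_ne_zero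
      · exact ih1 v hv
    · rw [List.map_cons, List.map_cons, List.prod_cons, List.prod_cons, ← mul_assoc, hp.refl_mul,
        ih2, List.map_cons, List.prod_cons]
      congr 2
      funext k
      simp only [hidx j hj k]
    · rw [List.map_cons, List.map_cons, List.prod_cons, List.prod_cons, hp.Q_plus, hp.Q_minus, ih3,
        List.length_cons, pow_succ]
      ring
    · rw [List.length_cons, List.length_cons, ih4, List.length_cons]
      ring

variable (Q)

/-- **negating `i` hyperbolic pairs**: membership in `Ω` -/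
theorem hyp_pairs_crit [Fintype F] [DecidableEq F] (h2 : (2 : F) ≠ 0)
    (hcard : 2 ≤ Fintype.card ι) (hQ : (QuadraticMap.polarBilin Q).Nondegenerate)
    (idx : ι → ℕ) (i : ℕ) (A B : ℕ → ι)
    (hpair : ∀ j < i, IsHypPair Q (A j) (B j))
    (hidx : ∀ j < i, ∀ k, idx k = j ↔ (k = A j ∨ k = B j)) :
    (∃ g : ↥(Cfsg.isometryGroup F ⇑Q), g ∈ Cfsg.Omega F ⇑Q ∧
      ((g : GL ι F) : Matrix ι ι F) =
        Matrix.diagonal (fun k => if idx k < i then (-1 : F) else 1)) ↔
    IsSquare ((-1 : F) ^ i) := by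
  obtain ⟨h1, h3, h4, h5⟩ := pairVecs_aux (Q := Q) idx i A B hpair hidx (List.range i)
    (fun j hj => List.mem_range.mp hj)
  rw [diag_list_prod idx _ List.nodup_range] at h3
  rw [List.length_range] at h4 h5
  have hD : (fun k : ι => if idx k ∈ List.range i then (-1 : F) else 1) =
      fun k => if idx k < i then (-1 : F) else 1 := by
    funext k
    simp only [List.mem_range]
  rw [hD] at h3
  obtain ⟨h₀, hh₀⟩ := exists_of_list Q _ h1
  have crit := mem_Omega_iff_list Q h2 hcard hQ h₀ _ h1 hh₀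
  rw [h4, h5] at crit
  constructor
  · rintro ⟨g, hg, hg1⟩
    have : g = h₀ := by
      apply Subtype.ext
      apply Units.ext
      rw [hg1, hh₀, h3]
    rw [this] at hg
    exact (crit.mp hg).2
  · intro hsq
    exact ⟨h₀, crit.mpr ⟨⟨i, by ring⟩, hsq⟩, by rw [hh₀, h3]⟩

end gen

section num

variable {F : Type*} [Field F] [Fintype F]

theorem two_ne_zero_of_odd_card {q : ℕ} (hF : Fintype.card F = q) (hq : Odd q) : (2 : F) ≠ 0 := by
  apply Ring.two_ne_zero
  intro h
  have := FiniteField.even_card_of_char_two h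
  rw [hF] at this
  have := Nat.odd_iff.mp hq
  omega

theorem isSquare_neg_one_pow_iff {q : ℕ} (hF : Fintype.card F = q) (hq : Odd q) (i : ℕ) :
    IsSquare ((-1 : F) ^ i) ↔ q ^ i % 4 = 1 := by
  have hq2 : q ^ 2 % 4 = 1 := by
    obtain ⟨k, rfl⟩ := hq
    have : (2 * k + 1) ^ 2 = 4 * (k * k + k) + 1 := by ring
    rw [this]
    omega
  rcases Nat.even_or_odd' i with ⟨k, rfl | rfl⟩
  · have h1 : ((-1 : F)) ^ (2 * k) = 1 := by
      rw [pow_mul]; simp
    rw [h1, pow_mul, Nat.pow_mod, hq2]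
    simp
  · have h1 : ((-1 : F)) ^ (2 * k + 1) = -1 := by
      rw [pow_succ, pow_mul]; simp
    have h3 : q ^ (2 * k + 1) % 4 = q % 4 := by
      rw [pow_succ, pow_mul, Nat.mul_mod, Nat.pow_mod, hq2]
      simp
    rw [h1, h3, FiniteField.isSquare_neg_one_iff, hF]
    have : q % 2 = 1 := Nat.odd_iff.mp hq
    omega

end num

end Cfsg.Agent.Lib.H13.HypPairs
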