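import Cfsg.Agent.Lib.H13.Char2Gen
import Cfsg.Agent.Lib.H13.HypPairs

set_option autoImplicit false

namespace Cfsg.Agent.Lib.H13.Char2Mat

open Matrix Module
open scoped MatrixGroups
open Cfsg.Agent.Lib.H13.Char2Gen Cfsg.Agent.Lib.H13.HypPairs Cfsg.Agent.Lib.H4

section gen

variable {F : Type*} [Field F] {ι : Type} [Fintype ι] [DecidableEq ι] (Q : QuadraticForm F (ι → F))

/-- the set of reflections in the isometry group -/
def reflSet : Set ↥(Cfsg.isometryGroup F ⇑Q) :=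
  {g | ∃ v : ι → F, Q v ≠ 0 ∧ ((g : GL ι F) : Matrix ι ι F) = Cfsg.reflectionMatrix ⇑Q v}

/-- the linear equivalence of an element of `GL` -/
noncomputable def toEquiv (g : GL ι F) : (ι → F) ≃ₗ[F] (ι → F) :=
  Matrix.toLin'OfInv (M := ((g⁻¹ : GL ι F) : Matrix ι ι F)) (M' := (g : Matrix ι ι F))
    (by rw [← Units.val_mul, inv_mul_cancel, Units.val_one])
    (by rw [← Units.val_mul, mul_inv_cancel, Units.val_one])

theorem toEquiv_apply (g : GL ι F) (x : ι → F) : toEquiv g x = (g : Matrix ι ι F) *ᵥ x := by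
  simp [toEquiv, Matrix.toLin'OfInv]

/-- every element of the abstract reflection group comes from the closure of the reflections in
the matrix isometry group -/
theorem exists_of_mem_RG (φ : (ι → F) ≃ₗ[F] (ι → F)) (hφ : φ ∈ RG Q) :
    ∃ g ∈ Subgroup.closure (reflSet Q), ∀ x, ((g : GL ι F) : Matrix ι ι F) *ᵥ x = φ x := by
  induction hφ using Subgroup.closure_induction with
  | mem φ hφ =>
    obtain ⟨v, hv, rfl⟩ := hφ
    refine ⟨reflG Q v hv, Subgroup.subset_closure ⟨v, hv, rfl⟩, ?_⟩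
    intro x
    rw [reflG_val, reflectionMatrix_mulVec, rEquiv_apply]
  | one =>
    refine ⟨1, Subgroup.one_mem _, ?_⟩
    intro x
    simp
  | mul φ ψ _ _ ihφ ihψ =>
    obtain ⟨g₁, h1, e1⟩ := ihφ
    obtain ⟨g₂, h2, e2⟩ := ihψ
    refine ⟨g₁ * g₂, mul_mem h1 h2, ?_⟩
    intro x
    show (((g₁ : GL ι F) : Matrix ι ι F) * ((g₂ : GL ι F) : Matrix ι ι F)) *ᵥ x = φ (ψ x)
    rw [← Matrix.mulVec_mulVec, e2, e1]
  | inv φ _ ihφ =>
    obtain ⟨g₁, h1, e1⟩ := ihφ
    refine ⟨g₁⁻¹, inv_mem h1, ?_⟩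
    intro x
    have h3 : ((g₁ : GL ι F) : Matrix ι ι F) *ᵥ (((g₁⁻¹ : ↥(Cfsg.isometryGroup F ⇑Q)) : GL ι F) :
        Matrix ι ι F) *ᵥ x = x := by
      rw [Matrix.mulVec_mulVec]
      show ((((g₁ * g₁⁻¹ : ↥(Cfsg.isometryGroup F ⇑Q)) : GL ι F)) : Matrix ι ι F) *ᵥ x = x
      rw [mul_inv_cancel]
      simp
    rw [e1] at h3
    have := congrArg (φ⁻¹ : (ι → F) ≃ₗ[F] (ι → F)) h3
    rw [show φ⁻¹ (φ _) = _ from φ.symm_apply_apply _] at this
    exact this

/-- generation by reflections, characteristic two, general index type -/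
theorem closure_reflSet_eq_top [Finite F] [CharP F 2] (hQ : (QuadraticMap.polarBilin Q).Nondegenerate)
    (h : Nat.card F ≠ 2 ∨ Fintype.card ι ≠ 4) : Subgroup.closure (reflSet Q) = ⊤ := by
  rw [eq_top_iff]
  intro g _
  have hg : ∀ x, Q (toEquiv (g : GL ι F) x) = Q x := by
    intro x
    rw [toEquiv_apply]
    exact (Cfsg.Agent.Lib.H11.IsoReindex.mem_iso_iff' _ _).mp g.2 x
  have hmem := mem_RG Q hQ (by
    rcases h with h | h
    · exact Or.inl h
    · right
      rw [Module.finrank_pi]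
      exact h) (toEquiv (g : GL ι F)) hg
  obtain ⟨g', hg', e⟩ := exists_of_mem_RG Q _ hmem
  have : g = g' := by
    apply Subtype.ext
    apply Units.ext
    apply Matrix.ext_iff_mulVec.mpr
    intro x
    rw [e, toEquiv_apply]
  rw [this]
  exact hg'

end gen

end Cfsg.Agent.Lib.H13.Char2Mat
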