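import Mathlib

/-!
# Witt decomposition of non-degenerate quadratic spaces over finite fields (helper13)
-/

set_option autoImplicit false

namespace Cfsg.Agent.Lib.H13

open Module QuadraticMap

section ChevalleyWarning

variable {F V : Type*} [Field F] [Finite F] [AddCommGroup V] [Module F V] [FiniteDimensional F V]

/-- Chevalley–Warning for quadratic forms: a quadratic form in at least three variables over a
finite field has a non-trivial zero. -/
theorem exists_singular_of_three_le (Q : QuadraticForm F V) (h : 3 ≤ finrank F V) :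
    ∃ v : V, v ≠ 0 ∧ Q v = 0 := by
  classical
  have := Fintype.ofFinite F
  obtain ⟨p, hp⟩ := CharP.exists F
  have hpp : p.Prime := CharP.char_is_prime F p
  set n := finrank F V with hn
  let b : Basis (Fin n) F V := Module.finBasis F V
  obtain ⟨A, hA⟩ := LinearMap.BilinMap.toQuadraticMap_surjective Q
  let f : MvPolynomial (Fin n) F :=
    ∑ i, ∑ j, MvPolynomial.C (A (b i) (b j)) * MvPolynomial.X i * MvPolynomial.X j
  have hdeg : f.totalDegree < Fintype.card (Fin n) := by
    rw [Fintype.card_fin]
    refine lt_of_le_of_lt ?_ h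
    refine (MvPolynomial.totalDegree_finsetSum _ _).trans (Finset.sup_le ?_)
    intro i _
    refine (MvPolynomial.totalDegree_finsetSum _ _).trans (Finset.sup_le ?_)
    intro j _
    refine (MvPolynomial.totalDegree_mul _ _).trans ?_
    have h1 := MvPolynomial.totalDegree_mul (MvPolynomial.C (A (b i) (b j))) (MvPolynomial.X i : MvPolynomial (Fin n) F)
    rw [MvPolynomial.totalDegree_C, MvPolynomial.totalDegree_X] at h1
    rw [MvPolynomial.totalDegree_X]
    omega
  have heval : ∀ x : Fin n → F, MvPolynomial.eval x f = Q (∑ i, x i • b i) := by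
    intro x
    rw [← hA, LinearMap.BilinMap.toQuadraticMap_apply]
    simp only [f, map_sum, map_mul, MvPolynomial.eval_C, MvPolynomial.eval_X, LinearMap.sum_apply,
      map_smul, LinearMap.smul_apply, smul_eq_mul]
    rw [Finset.sum_comm]
    apply Finset.sum_congr rfl
    intro i _
    rw [Finset.mul_sum]
    apply Finset.sum_congr rfl
    intro j _
    ring
  have hdvd := char_dvd_card_solutions p hdeg
  have h0 : MvPolynomial.eval (0 : Fin n → F) f = 0 := by
    rw [heval]; simp
  have hcard : 1 < Fintype.card {x : Fin n → F // MvPolynomial.eval x f = 0} := by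
    have hpos : 0 < Fintype.card {x : Fin n → F // MvPolynomial.eval x f = 0} :=
      Fintype.card_pos_iff.mpr ⟨⟨0, h0⟩⟩
    have := Nat.le_of_dvd hpos hdvd
    have := hpp.two_le
    omega
  have : Nontrivial {x : Fin n → F // MvPolynomial.eval x f = 0} :=
    Fintype.one_lt_card_iff_nontrivial.mp hcard
  obtain ⟨⟨x, hx⟩, hne⟩ := exists_ne (⟨0, h0⟩ : {x : Fin n → F // MvPolynomial.eval x f = 0})
  refine ⟨∑ i, x i • b i, ?_, ?_⟩
  · intro h0'
    apply hne
    apply Subtype.ext
    show x = 0
    have : b.equivFun.symm x = b.equivFun.symm 0 := by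
      rw [Basis.equivFun_symm_apply, h0', map_zero]
    exact b.equivFun.symm.injective this
  · rw [← heval]; exact hx

/-- an anisotropic form of dimension at least two over a finite field is universal. -/
theorem exists_eq_of_anisotropic (Q : QuadraticForm F V) (haniso : ∀ v, Q v = 0 → v = 0)
    (h : 2 ≤ finrank F V) (c : F) : ∃ v : V, Q v = c := by
  let Q' : QuadraticForm F (V × F) := QuadraticMap.prod Q ((-c) • QuadraticMap.sq)
  have hdim : 3 ≤ finrank F (V × F) := by
    rw [Module.finrank_prod, Module.finrank_self]; omega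
  obtain ⟨⟨v, z⟩, hne, hq⟩ := exists_singular_of_three_le Q' hdim
  have hq' : Q v + (-c) * (z * z) = 0 := by
    simpa [Q', QuadraticMap.prod] using hq
  by_cases hz : z = 0
  · subst hz
    have : Q v = 0 := by simpa using hq'
    have hv := haniso v this
    exact absurd (by rw [hv]; rfl) hne
  · refine ⟨z⁻¹ • v, ?_⟩
    rw [QuadraticMap.map_smul, smul_eq_mul]
    field_simp
    linear_combination hq'

end ChevalleyWarning

section Split

variable {F V : Type*} [Field F] [AddCommGroup V] [Module F V]

/-- a singular vector in a non-degenerate quadratic space lies in a hyperbolic pair -/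
theorem exists_hyperbolic_pair (Q : QuadraticForm F V) (hQ : (polarBilin Q).Nondegenerate) (v : V)
    (hv : v ≠ 0) (hQv : Q v = 0) : ∃ w : V, Q w = 0 ∧ polar Q v w = 1 := by
  obtain ⟨w0, hw0⟩ : ∃ w0, polar Q v w0 ≠ 0 := by
    by_contra h
    push Not at h
    exact hv (hQ.1 v h)
  set w1 := (polar Q v w0)⁻¹ • w0 with hw1
  have h1 : polar Q v w1 = 1 := by
    rw [hw1, polar_smul_right, smul_eq_mul, inv_mul_cancel₀ hw0]
  clear_value w1
  refine ⟨w1 + (-(Q w1)) • v, ?_, ?_⟩
  · rw [QuadraticMap.map_add (⇑Q), QuadraticMap.map_smul, hQv, polar_smul_right, polar_comm, h1]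
    simp
  · rw [polar_add_right, polar_smul_right, polar_self, hQv, h1]
    simp

/-- the orthogonal complement of a pair, w.r.t. the polar form -/
def pairOrth (Q : QuadraticForm F V) (e f : V) : Submodule F V :=
  LinearMap.ker (polarBilin Q e) ⊓ LinearMap.ker (polarBilin Q f)

theorem mem_pairOrth (Q : QuadraticForm F V) (e f w : V) :
    w ∈ pairOrth Q e f ↔ polar Q e w = 0 ∧ polar Q f w = 0 := by
  unfold pairOrth
  rw [Submodule.mem_inf, LinearMap.mem_ker, LinearMap.mem_ker]
  rfl

/-- splitting off a hyperbolic plane -/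
noncomputable def splitEquiv (Q : QuadraticForm F V) (e f : V) (he : Q e = 0) (hf : Q f = 0)
    (hef : polar Q e f = 1) : V ≃ₗ[F] F × F × pairOrth Q e f where
  toFun v := (polar Q f v, polar Q e v, ⟨v - polar Q f v • e - polar Q e v • f, by
    rw [mem_pairOrth]
    simp only [polar_sub_right, polar_smul_right, polar_self, he, hf, hef,
      polar_comm Q f e, smul_eq_mul]
    constructor <;> simp⟩)
  map_add' v w := by
    refine Prod.ext ?_ (Prod.ext ?_ (Subtype.ext ?_))
    · exact polar_add_right Q f v w
    · exact polar_add_right Q e v w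
    · show v + w - polar Q f (v + w) • e - polar Q e (v + w) • f =
        (v - polar Q f v • e - polar Q e v • f) + (w - polar Q f w • e - polar Q e w • f)
      rw [polar_add_right, polar_add_right, add_smul, add_smul]
      abel
  map_smul' c v := by
    refine Prod.ext ?_ (Prod.ext ?_ (Subtype.ext ?_))
    · exact polar_smul_right Q c f v
    · exact polar_smul_right Q c e v
    · show c • v - polar Q f (c • v) • e - polar Q e (c • v) • f =
        c • (v - polar Q f v • e - polar Q e v • f)
      rw [polar_smul_right, polar_smul_right, smul_eq_mul, smul_eq_mul, smul_sub, smul_sub,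
        mul_smul, mul_smul]
  invFun p := p.1 • e + p.2.1 • f + (p.2.2 : V)
  left_inv v := by
    simp only
    abel
  right_inv p := by
    obtain ⟨a, c, w, hw⟩ := p
    rw [mem_pairOrth] at hw
    apply Prod.ext
    · simp [polar_add_right, polar_smul_right, polar_self, he, hf, hef, hw.2, polar_comm Q f e]
    · apply Prod.ext
      · simp [polar_add_right, polar_smul_right, polar_self, he, hf, hef, hw.1, polar_comm Q f e]
      · apply Subtype.ext
        show a • e + c • f + w - polar Q f (a • e + c • f + w) • e -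
          polar Q e (a • e + c • f + w) • f = w
        simp only [polar_add_right, polar_smul_right, polar_self, he, hf, hef, hw.1, hw.2,
          polar_comm Q f e, smul_eq_mul, mul_one, mul_zero, smul_zero, add_zero, zero_add]
        abel

theorem splitEquiv_symm_apply (Q : QuadraticForm F V) (e f : V) (he : Q e = 0) (hf : Q f = 0)
    (hef : polar Q e f = 1) (p : F × F × pairOrth Q e f) :
    (splitEquiv Q e f he hf hef).symm p = p.1 • e + p.2.1 • f + (p.2.2 : V) := rfl

theorem nondegenerate_polar_iff (Q : QuadraticForm F V) :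
    (polarBilin Q).Nondegenerate ↔ ∀ x, (∀ y, polar Q x y = 0) → x = 0 := by
  constructor
  · intro h
    exact h.1
  · intro h
    refine ⟨h, fun y hy => h y (fun x => ?_)⟩
    rw [polar_comm]
    exact hy x

theorem finrank_pairOrth [FiniteDimensional F V] (Q : QuadraticForm F V) (e f : V) (he : Q e = 0)
    (hf : Q f = 0) (hef : polar Q e f = 1) : finrank F V = finrank F (pairOrth Q e f) + 2 := by
  have := (splitEquiv Q e f he hf hef).finrank_eq
  rw [Module.finrank_prod, Module.finrank_prod, Module.finrank_self] at this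
  omega

theorem nondegenerate_pairOrth (Q : QuadraticForm F V) (e f : V) (he : Q e = 0)
    (hf : Q f = 0) (hef : polar Q e f = 1) (hQ : (polarBilin Q).Nondegenerate) :
    (polarBilin (Q.comp (pairOrth Q e f).subtype)).Nondegenerate := by
  rw [nondegenerate_polar_iff] at hQ ⊢
  intro x hx
  apply Subtype.ext
  apply hQ
  intro v
  have hxW := (mem_pairOrth Q e f x).mp x.2
  have hv : v = (splitEquiv Q e f he hf hef).symm (splitEquiv Q e f he hf hef v) := by simp
  rw [hv, splitEquiv_symm_apply]
  rw [polar_add_right, polar_add_right, polar_smul_right, polar_smul_right, polar_comm Q _ e,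
    polar_comm Q _ f, hxW.1, hxW.2]
  have := hx (splitEquiv Q e f he hf hef v).2.2
  have h' : polar Q (x : V) ((splitEquiv Q e f he hf hef v).2.2 : V) = 0 := this
  rw [h']
  simp

end Split

section Std

variable {F V : Type*} [Field F] [AddCommGroup V] [Module F V]

/-- the relations of a standard basis: hyperbolic pairs indexed by `ι`, orthogonal to the tail `κ`. -/
structure IsStd (Q : QuadraticForm F V) {ι κ : Type*} [DecidableEq ι] (b : (ι ⊕ ι) ⊕ κ → V) : Prop where
  sing_l : ∀ i, Q (b (.inl (.inl i))) = 0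
  sing_r : ∀ i, Q (b (.inl (.inr i))) = 0
  pair : ∀ i j, polar Q (b (.inl (.inl i))) (b (.inl (.inr j))) = if i = j then 1 else 0
  iso_l : ∀ i j, polar Q (b (.inl (.inl i))) (b (.inl (.inl j))) = 0
  iso_r : ∀ i j, polar Q (b (.inl (.inr i))) (b (.inl (.inr j))) = 0
  orth_l : ∀ i k, polar Q (b (.inl (.inl i))) (b (.inr k)) = 0
  orth_r : ∀ i k, polar Q (b (.inl (.inr i))) (b (.inr k)) = 0

/-- normal form of the anisotropic tail. -/
def Tail (Q : QuadraticForm F V) : (r : ℕ) → (Fin r → V) → Prop
  | 0, _ => True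
  | 1, c => Q (c 0) ≠ 0
  | 2, c => ∃ ζ : F, (∀ t : F, t ^ 2 + t + ζ ≠ 0) ∧ Q (c 0) = 1 ∧ polar Q (c 0) (c 1) = 1 ∧
      Q (c 1) = ζ
  | _ + 3, _ => False

theorem Tail.of_comp (Q : QuadraticForm F V) (W : Submodule F V) (r : ℕ) (c : Fin r → W)
    (h : Tail (Q.comp W.subtype) r c) : Tail Q r (fun k => (c k : V)) := by
  match r, c, h with
  | 0, _, _ => trivial
  | 1, c, h => exact h
  | 2, c, h => exact h
  | _ + 3, _, h => exact h.elim

/-- reindexing equivalence -/
def consIdx (ι κ : Type*) : Unit ⊕ (Unit ⊕ ((ι ⊕ ι) ⊕ κ)) ≃ ((Unit ⊕ ι) ⊕ (Unit ⊕ ι)) ⊕ κ where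
  toFun
    | .inl () => .inl (.inl (.inl ()))
    | .inr (.inl ()) => .inl (.inr (.inl ()))
    | .inr (.inr (.inl (.inl i))) => .inl (.inl (.inr i))
    | .inr (.inr (.inl (.inr i))) => .inl (.inr (.inr i))
    | .inr (.inr (.inr k)) => .inr k
  invFun
    | .inl (.inl (.inl ())) => .inl ()
    | .inl (.inr (.inl ())) => .inr (.inl ())
    | .inl (.inl (.inr i)) => .inr (.inr (.inl (.inl i)))
    | .inl (.inr (.inr i)) => .inr (.inr (.inl (.inr i)))
    | .inr k => .inr (.inr (.inr k))
  left_inv := by rintro (⟨⟩ | ⟨⟩ | (i | i) | k) <;> rfl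
  right_inv := by rintro (((⟨⟩ | i) | (⟨⟩ | i)) | k) <;> rfl

/-- adjoining a hyperbolic pair to a basis of its orthogonal complement -/
noncomputable def consBasis (Q : QuadraticForm F V) (e f : V) (he : Q e = 0) (hf : Q f = 0)
    (hef : polar Q e f = 1) {ι κ : Type*} (b' : Basis ((ι ⊕ ι) ⊕ κ) F (pairOrth Q e f)) :
    Basis (((Unit ⊕ ι) ⊕ (Unit ⊕ ι)) ⊕ κ) F V :=
  (((Basis.singleton Unit F).prod ((Basis.singleton Unit F).prod b')).map
    (splitEquiv Q e f he hf hef).symm).reindex (consIdx ι κ)

variable (Q : QuadraticForm F V) (e f : V) (he : Q e = 0) (hf : Q f = 0) (hef : polar Q e f = 1)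
  {ι κ : Type*} (b' : Basis ((ι ⊕ ι) ⊕ κ) F (pairOrth Q e f))

theorem consBasis_e : consBasis Q e f he hf hef b' (.inl (.inl (.inl ()))) = e := by
  simp [consBasis, consIdx, splitEquiv_symm_apply]

theorem consBasis_f : consBasis Q e f he hf hef b' (.inl (.inr (.inl ()))) = f := by
  simp [consBasis, consIdx, splitEquiv_symm_apply]

theorem consBasis_l (i : ι) :
    consBasis Q e f he hf hef b' (.inl (.inl (.inr i))) = b' (.inl (.inl i)) := by
  simp [consBasis, consIdx, splitEquiv_symm_apply]

theorem consBasis_r (i : ι) :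
    consBasis Q e f he hf hef b' (.inl (.inr (.inr i))) = b' (.inl (.inr i)) := by
  simp [consBasis, consIdx, splitEquiv_symm_apply]

theorem consBasis_t (k : κ) :
    consBasis Q e f he hf hef b' (.inr k) = b' (.inr k) := by
  simp [consBasis, consIdx, splitEquiv_symm_apply]

theorem IsStd.cons [DecidableEq ι] (h : IsStd (Q.comp (pairOrth Q e f).subtype) b') :
    IsStd Q (consBasis Q e f he hf hef b') := by
  have hW : ∀ x, polar Q e ((b' x : pairOrth Q e f) : V) = 0 ∧ polar Q f ((b' x : pairOrth Q e f) : V) = 0 :=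
    fun x => (mem_pairOrth Q e f _).mp (b' x).2
  have hee : polar Q e e = 0 := by rw [polar_self, he]; simp
  have hff : polar Q f f = 0 := by rw [polar_self, hf]; simp
  constructor
  · rintro (⟨⟩ | i)
    · rw [consBasis_e]; exact he
    · rw [consBasis_l]; exact h.sing_l i
  · rintro (⟨⟩ | i)
    · rw [consBasis_f]; exact hf
    · rw [consBasis_r]; exact h.sing_r i
  · rintro (⟨⟩ | i) (⟨⟩ | j)
    · rw [consBasis_e, consBasis_f, hef]; simp
    · rw [consBasis_e, consBasis_r, (hW _).1]; simp
    · rw [consBasis_l, consBasis_f, polar_comm, (hW _).2]; simp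
    · rw [consBasis_l, consBasis_r]
      have := h.pair i j
      simp only [Sum.inr.injEq]
      exact this
  · rintro (⟨⟩ | i) (⟨⟩ | j)
    · rw [consBasis_e]; exact hee
    · rw [consBasis_e, consBasis_l, (hW _).1]
    · rw [consBasis_l, consBasis_e, polar_comm, (hW _).1]
    · rw [consBasis_l, consBasis_l]; exact h.iso_l i j
  · rintro (⟨⟩ | i) (⟨⟩ | j)
    · rw [consBasis_f]; exact hff
    · rw [consBasis_f, consBasis_r, (hW _).2]
    · rw [consBasis_r, consBasis_f, polar_comm, (hW _).2]
    · rw [consBasis_r, consBasis_r]; exact h.iso_r i j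
  · rintro (⟨⟩ | i) k
    · rw [consBasis_e, consBasis_t, (hW _).1]
    · rw [consBasis_l, consBasis_t]; exact h.orth_l i k
  · rintro (⟨⟩ | i) k
    · rw [consBasis_f, consBasis_t, (hW _).2]
    · rw [consBasis_r, consBasis_t]; exact h.orth_r i k

end Std

section Main

variable {F : Type*} [Field F] [Finite F]

theorem aniso_plane {V : Type*} [AddCommGroup V] [Module F V] [FiniteDimensional F V]
    (Q : QuadraticForm F V) (haniso : ∀ v, Q v = 0 → v = 0)
    (hQ : (polarBilin Q).Nondegenerate) (h2 : finrank F V = 2) :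
    ∃ x y : V, LinearIndependent F ![x, y] ∧ Q x = 1 ∧ polar Q x y = 1 ∧
      ∀ t : F, t ^ 2 + t + Q y ≠ 0 := by
  obtain ⟨x, hx⟩ := exists_eq_of_anisotropic Q haniso (by omega) 1
  have hx0 : x ≠ 0 := by
    rintro rfl
    rw [QuadraticMap.map_zero] at hx
    exact zero_ne_one hx
  -- a vector y outside the span of x with polar x y = 1
  obtain ⟨y, hxy, hy⟩ : ∃ y, polar Q x y = 1 ∧ y ∉ Submodule.span F {x} := by
    obtain ⟨y0, hy0⟩ : ∃ y0, polar Q x y0 ≠ 0 := by
      by_contra h
      push Not at h
      exact hx0 (hQ.1 x h)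
    set y1 := (polar Q x y0)⁻¹ • y0 with hy1
    have h1 : polar Q x y1 = 1 := by
      rw [hy1, polar_smul_right, smul_eq_mul, inv_mul_cancel₀ hy0]
    clear_value y1
    by_cases hmem : y1 ∈ Submodule.span F {x}
    · obtain ⟨c, rfl⟩ := Submodule.mem_span_singleton.mp hmem
      rw [polar_smul_right, polar_self, hx] at h1
      have h2ne : (2 : F) ≠ 0 := by
        intro h20
        have : (2 : ℕ) • (1 : F) = 0 := by rw [nsmul_eq_mul]; simpa using h20
        rw [this, smul_zero] at h1
        exact zero_ne_one h1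
      -- a vector outside the span
      obtain ⟨z, hz⟩ : ∃ z, z ∉ Submodule.span F {x} := by
        by_contra h
        push Not at h
        have htop : Submodule.span F {x} = ⊤ := by
          rw [eq_top_iff]; intro z _; exact h z
        have := finrank_span_singleton (K := F) hx0
        rw [htop, finrank_top, h2] at this
        omega
      refine ⟨z + ((1 - polar Q x z) / 2) • x, ?_, ?_⟩
      · rw [polar_add_right, polar_smul_right, polar_self, hx]
        simp only [nsmul_eq_mul, Nat.cast_ofNat, mul_one, smul_eq_mul]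
        field_simp
        ring
      · intro hmem'
        apply hz
        have := Submodule.sub_mem _ hmem' (Submodule.smul_mem _ ((1 - polar Q x z) / 2)
          (Submodule.mem_span_singleton_self x))
        simpa using this
    · exact ⟨y1, h1, hmem⟩
  have hli : LinearIndependent F ![x, y] := by
    rw [LinearIndependent.pair_iff]
    intro s t hst
    have ht : t = 0 := by
      by_contra ht
      apply hy
      rw [Submodule.mem_span_singleton]
      refine ⟨-(t⁻¹ * s), ?_⟩
      have : t • y = -(s • x) := by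
        rw [eq_neg_iff_add_eq_zero, add_comm]; exact hst
      calc -(t⁻¹ * s) • x = t⁻¹ • (-(s • x)) := by rw [neg_smul, mul_smul, smul_neg]
        _ = t⁻¹ • (t • y) := by rw [this]
        _ = y := by rw [smul_smul, inv_mul_cancel₀ ht, one_smul]
    subst ht
    rw [zero_smul, add_zero] at hst
    exact ⟨(smul_eq_zero.mp hst).resolve_right hx0, rfl⟩
  refine ⟨x, y, hli, hx, hxy, ?_⟩
  intro t ht
  have hne : t • x + y ≠ 0 := by
    intro h0
    have := (LinearIndependent.pair_iff.mp hli) t 1 (by rw [one_smul]; exact h0)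
    exact one_ne_zero this.2
  apply hne
  apply haniso
  rw [QuadraticMap.map_add (⇑Q), QuadraticMap.map_smul, polar_smul_left, hx, hxy]
  simp only [smul_eq_mul, mul_one]
  linear_combination ht

theorem aniso_basis {V : Type*} [AddCommGroup V] [Module F V] [FiniteDimensional F V]
    (Q : QuadraticForm F V) (haniso : ∀ v, Q v = 0 → v = 0)
    (hQ : (polarBilin Q).Nondegenerate) (n : ℕ) (hn : finrank F V = n) :
    ∃ b0 : Basis (Fin n) F V, Tail Q n b0 := by
  match n, hn with
  | 0, hn => exact ⟨Module.finBasisOfFinrankEq F V hn, trivial⟩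
  | 1, hn =>
    refine ⟨Module.finBasisOfFinrankEq F V hn, ?_⟩
    show Q _ ≠ 0
    intro h
    exact (Module.finBasisOfFinrankEq F V hn).ne_zero 0 (haniso _ h)
  | 2, hn =>
    obtain ⟨x, y, hli, hx, hxy, hζ⟩ := aniso_plane Q haniso hQ hn
    refine ⟨basisOfLinearIndependentOfCardEqFinrank hli (by simp [hn]), ?_⟩
    rw [coe_basisOfLinearIndependentOfCardEqFinrank]
    exact ⟨Q y, hζ, hx, hxy, rfl⟩
  | n + 3, hn =>
    exfalso
    obtain ⟨v, hv0, hv⟩ := exists_singular_of_three_le Q (by omega)
    exact hv0 (haniso v hv)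

theorem witt_aux (n : ℕ) : ∀ {V : Type*} [AddCommGroup V] [Module F V] [FiniteDimensional F V]
    (Q : QuadraticForm F V), finrank F V = n → (polarBilin Q).Nondegenerate →
    ∃ (ι : Type) (_ : Fintype ι) (_ : DecidableEq ι) (r : ℕ) (b : Basis ((ι ⊕ ι) ⊕ Fin r) F V),
      IsStd Q b ∧ Tail Q r (fun k => b (.inr k)) := by
  induction n using Nat.strong_induction_on with
  | _ n ih =>
    intro V _ _ _ Q hn hQ
    by_cases hs : ∃ v : V, v ≠ 0 ∧ Q v = 0
    · obtain ⟨e, he0, he⟩ := hs
      obtain ⟨f, hf, hef⟩ := exists_hyperbolic_pair Q hQ e he0 he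
      have hdim := finrank_pairOrth Q e f he hf hef
      obtain ⟨ι', _, _, r, b', hstd, htail⟩ := ih (finrank F (pairOrth Q e f)) (by omega)
        (Q.comp (pairOrth Q e f).subtype) rfl (nondegenerate_pairOrth Q e f he hf hef hQ)
      refine ⟨Unit ⊕ ι', inferInstance, inferInstance, r, consBasis Q e f he hf hef b',
        IsStd.cons Q e f he hf hef b' hstd, ?_⟩
      have := Tail.of_comp Q (pairOrth Q e f) r (fun k => b' (.inr k)) htail
      have heq : (fun k => consBasis Q e f he hf hef b' (.inr k)) =
          fun k => ((b' (.inr k) : pairOrth Q e f) : V) := by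
        funext k
        exact consBasis_t Q e f he hf hef b' k
      rw [heq]
      exact this
    · push Not at hs
      have haniso : ∀ v, Q v = 0 → v = 0 := by
        intro v hv
        by_contra h0
        exact hs v h0 hv
      obtain ⟨b0, htail⟩ := aniso_basis Q haniso hQ n hn
      refine ⟨Empty, inferInstance, inferInstance, n,
        b0.reindex (Equiv.emptySum (Empty ⊕ Empty) (Fin n)).symm, ?_, ?_⟩
      · constructor <;> intro i <;> exact i.elim
      · have heq : (fun k => b0.reindex (Equiv.emptySum (Empty ⊕ Empty) (Fin n)).symm (.inr k)) = b0 := by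
          funext k
          simp
        rw [heq]
        exact htail

theorem IsStd.reindex {V : Type*} [AddCommGroup V] [Module F V] {ι ι' κ κ' : Type*} [DecidableEq ι]
    [DecidableEq ι'] (Q : QuadraticForm F V) (b : (ι ⊕ ι) ⊕ κ → V) (h : IsStd Q b) (σ : ι' ≃ ι)
    (τ : κ' ≃ κ) : IsStd Q (fun x : (ι' ⊕ ι') ⊕ κ' => b (Sum.map (Sum.map σ σ) τ x)) := by
  constructor
  · intro i; exact h.sing_l (σ i)
  · intro i; exact h.sing_r (σ i)
  · intro i j
    have := h.pair (σ i) (σ j)
    simp only [Sum.map_inl, Sum.map_inr]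
    rw [this]
    simp only [EmbeddingLike.apply_eq_iff_eq]
  · intro i j; exact h.iso_l (σ i) (σ j)
  · intro i j; exact h.iso_r (σ i) (σ j)
  · intro i k; exact h.orth_l (σ i) (τ k)
  · intro i k; exact h.orth_r (σ i) (τ k)

/-- **Witt decomposition** over a finite field: a quadratic space with non-degenerate polar form has a
basis consisting of `k` hyperbolic pairs and an anisotropic tail of dimension `r ≤ 2` in normal form. -/
theorem witt {V : Type*} [AddCommGroup V] [Module F V] [FiniteDimensional F V]
    (Q : QuadraticForm F V) (hQ : (polarBilin Q).Nondegenerate) :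
    ∃ (k r : ℕ) (b : Basis ((Fin k ⊕ Fin k) ⊕ Fin r) F V),
      IsStd Q b ∧ Tail Q r (fun j => b (.inr j)) ∧ finrank F V = 2 * k + r := by
  obtain ⟨ι, _, _, r, b, hstd, htail⟩ := witt_aux (finrank F V) Q rfl hQ
  set k := Fintype.card ι with hk
  let σ : Fin k ≃ ι := (Fintype.equivFin ι).symm
  let b1 : Basis ((Fin k ⊕ Fin k) ⊕ Fin r) F V :=
    b.reindex (Equiv.sumCongr (Equiv.sumCongr σ σ) (Equiv.refl (Fin r))).symm
  have hb1 : (b1 : (Fin k ⊕ Fin k) ⊕ Fin r → V) =
      fun x => b (Sum.map (Sum.map σ σ) (Equiv.refl (Fin r)) x) := by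
    funext x
    simp [b1, Basis.reindex_apply]
    rfl
  refine ⟨k, r, b1, ?_, ?_, ?_⟩
  · rw [hb1]
    exact IsStd.reindex Q b hstd σ (Equiv.refl _)
  · have : (fun j => b1 (.inr j)) = fun j => b (.inr j) := by
      funext j
      rw [hb1]
      rfl
    rw [this]
    exact htail
  · rw [Module.finrank_eq_card_basis b1]
    simp
    ring

end Main

end Cfsg.Agent.Lib.H13
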