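import Mathlib
import Cfsg.Agent.Lib.H13.Witt

/-!
# Extensionality of quadratic forms on a basis, similitudes of standard forms (helper13)
-/

set_option autoImplicit false

namespace Cfsg.Agent.Lib.H13

open Module QuadraticMap

section Ext

variable {R V N : Type*} [CommRing R] [AddCommGroup V] [Module R V] [AddCommGroup N] [Module R N]

/-- two quadratic maps agreeing on a basis, with polar forms agreeing on pairs of basis vectors, are equal. -/
theorem quadraticMap_ext_basis {ι : Type*} (b : Basis ι R V) (Q1 Q2 : QuadraticMap R V N)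
    (h1 : ∀ i, Q1 (b i) = Q2 (b i)) (h2 : ∀ i j, polar Q1 (b i) (b j) = polar Q2 (b i) (b j)) :
    Q1 = Q2 := by
  classical
  letI : LinearOrder ι := IsWellOrder.linearOrder WellOrderingRel
  rw [← toQuadraticMap_toBilin Q1 b, ← toQuadraticMap_toBilin Q2 b]
  congr 1
  apply b.ext
  intro i
  apply b.ext
  intro j
  rw [toBilin_apply, toBilin_apply, h1, h2]

end Ext

section Sim

variable {F V : Type*} [Field F] [AddCommGroup V] [Module F V]

/-- a similitude with multiplier `c` from a standard basis, given suitable images of the tail. -/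
theorem exists_similitude_of_std {k r : ℕ} (Q : QuadraticForm F V)
    (b : Basis ((Fin k ⊕ Fin k) ⊕ Fin r) F V) (hstd : IsStd Q b) (c : F) (t : Fin r → V)
    (ht1 : ∀ j, Q (t j) = c * Q (b (.inr j)))
    (ht2 : ∀ j j', polar Q (t j) (t j') = c * polar Q (b (.inr j)) (b (.inr j')))
    (ht3 : ∀ i j, polar Q (b (.inl (.inl i))) (t j) = 0 ∧ polar Q (b (.inl (.inr i))) (t j) = 0) :
    ∃ g : V →ₗ[F] V, ∀ v, Q (g v) = c * Q v := by
  let img : (Fin k ⊕ Fin k) ⊕ Fin r → V := fun idx =>
    match idx with
    | .inl (.inl i) => c • b (.inl (.inl i))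
    | .inl (.inr i) => b (.inl (.inr i))
    | .inr j => t j
  let g : V →ₗ[F] V := b.constr F img
  have hg : ∀ idx, g (b idx) = img idx := fun idx => b.constr_basis F img idx
  refine ⟨g, ?_⟩
  have key : Q.comp g = c • Q := by
    apply quadraticMap_ext_basis b
    · rintro ((i | i) | j)
      · rw [comp_apply, hg]
        show Q (c • b (.inl (.inl i))) = c • Q (b (.inl (.inl i)))
        rw [QuadraticMap.map_smul, hstd.sing_l]; simp
      · rw [comp_apply, hg]
        show Q (b (.inl (.inr i))) = c • Q (b (.inl (.inr i)))
        rw [hstd.sing_r]; simp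
      · rw [comp_apply, hg]
        exact ht1 j
    · intro x y
      have hpc : polar (Q.comp g) (b x) (b y) = polar Q (img x) (img y) := by
        rw [← hg x, ← hg y]
        simp only [polar, comp_apply, map_add]
      have hps : polar (⇑(c • Q)) (b x) (b y) = c * polar Q (b x) (b y) := by
        simp only [polar, smul_apply, smul_eq_mul]
        ring
      rw [hpc, hps]
      rcases x with (i | i) | j <;> rcases y with (i' | i') | j'
      · show polar Q (c • b (.inl (.inl i))) (c • b (.inl (.inl i'))) = _
        rw [polar_smul_left, polar_smul_right, hstd.iso_l]; simp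
      · show polar Q (c • b (.inl (.inl i))) (b (.inl (.inr i'))) = _
        rw [polar_smul_left, smul_eq_mul]
      · show polar Q (c • b (.inl (.inl i))) (t j') = _
        rw [polar_smul_left, (ht3 i j').1, hstd.orth_l]; simp
      · show polar Q (b (.inl (.inr i))) (c • b (.inl (.inl i'))) = _
        rw [polar_smul_right, smul_eq_mul]
      · show polar Q (b (.inl (.inr i))) (b (.inl (.inr i'))) = _
        rw [hstd.iso_r]; simp
      · show polar Q (b (.inl (.inr i))) (t j') = _
        rw [(ht3 i j').2, hstd.orth_r]; simp
      · show polar Q (t j) (c • b (.inl (.inl i'))) = _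
        rw [polar_smul_right, polar_comm, (ht3 i' j).1, polar_comm, hstd.orth_l]; simp
      · show polar Q (t j) (b (.inl (.inr i'))) = _
        rw [polar_comm, (ht3 i' j).2, polar_comm, hstd.orth_r]; simp
      · exact ht2 j j'
  intro v
  have := congrArg (fun q : QuadraticForm F V => q v) key
  simpa using this

end Sim

end Cfsg.Agent.Lib.H13
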