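import Mathlib
import Cfsg.Prelude.Def_Classical
import Cfsg.Agent.Lib.H13.QuadExt

/-!
# The standard plus/minus forms as `QuadraticForm`s; a standard basis gives an isometry (helper13)
-/

set_option autoImplicit false

namespace Cfsg.Agent.Lib.H13

open Module QuadraticMap

section
variable (F : Type*) [Field F]

/-- `Cfsg.quadFormPlus` as a `QuadraticForm`. -/
noncomputable def plusQF (m : ℕ) : QuadraticForm F (Fin m ⊕ Fin m → F) :=
  ∑ i : Fin m, QuadraticMap.linMulLin
    (LinearMap.proj (R := F) (φ := fun _ : Fin m ⊕ Fin m => F) (Sum.inl i))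
    (LinearMap.proj (R := F) (φ := fun _ : Fin m ⊕ Fin m => F) (Sum.inr i))

theorem plusQF_apply (m : ℕ) (x : Fin m ⊕ Fin m → F) : plusQF F m x = Cfsg.quadFormPlus m F x := by
  simp [plusQF, Cfsg.quadFormPlus, QuadraticMap.sum_apply]

/-- `Cfsg.quadFormMinus` as a `QuadraticForm`. -/
noncomputable def minusQF (k : ℕ) (a c : F) : QuadraticForm F ((Fin k ⊕ Fin k) ⊕ Fin 2 → F) :=
  (∑ i : Fin k, QuadraticMap.linMulLin
    (LinearMap.proj (R := F) (φ := fun _ : (Fin k ⊕ Fin k) ⊕ Fin 2 => F) (Sum.inl (Sum.inl i)))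
    (LinearMap.proj (R := F) (φ := fun _ : (Fin k ⊕ Fin k) ⊕ Fin 2 => F) (Sum.inl (Sum.inr i)))) +
  (QuadraticMap.linMulLin
    (LinearMap.proj (R := F) (φ := fun _ : (Fin k ⊕ Fin k) ⊕ Fin 2 => F) (Sum.inr 0))
    (LinearMap.proj (R := F) (φ := fun _ : (Fin k ⊕ Fin k) ⊕ Fin 2 => F) (Sum.inr 0)) +
   a • QuadraticMap.linMulLin
    (LinearMap.proj (R := F) (φ := fun _ : (Fin k ⊕ Fin k) ⊕ Fin 2 => F) (Sum.inr 0))
    (LinearMap.proj (R := F) (φ := fun _ : (Fin k ⊕ Fin k) ⊕ Fin 2 => F) (Sum.inr 1)) +
   c • QuadraticMap.linMulLin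
    (LinearMap.proj (R := F) (φ := fun _ : (Fin k ⊕ Fin k) ⊕ Fin 2 => F) (Sum.inr 1))
    (LinearMap.proj (R := F) (φ := fun _ : (Fin k ⊕ Fin k) ⊕ Fin 2 => F) (Sum.inr 1)))

theorem minusQF_apply (k : ℕ) (a c : F) (x : (Fin k ⊕ Fin k) ⊕ Fin 2 → F) :
    minusQF F k a c x = Cfsg.quadFormMinus k F a c x := by
  simp [minusQF, Cfsg.quadFormMinus, QuadraticMap.sum_apply]
  ring

variable {F}

theorem polar_quadFormPlus_formula (m : ℕ) (u v : Fin m ⊕ Fin m → F) :
    polar (Cfsg.quadFormPlus m F) u v =
      ∑ i : Fin m, (u (.inl i) * v (.inr i) + v (.inl i) * u (.inr i)) := by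
  unfold polar Cfsg.quadFormPlus
  rw [← Finset.sum_sub_distrib, ← Finset.sum_sub_distrib]
  apply Finset.sum_congr rfl
  intro i _
  simp only [Pi.add_apply]
  ring

theorem polar_quadFormMinus_formula (k : ℕ) (a c : F) (u v : (Fin k ⊕ Fin k) ⊕ Fin 2 → F) :
    polar (Cfsg.quadFormMinus k F a c) u v =
      (∑ i : Fin k, (u (.inl (.inl i)) * v (.inl (.inr i)) + v (.inl (.inl i)) * u (.inl (.inr i)))) +
      (2 * u (.inr 0) * v (.inr 0) + a * (u (.inr 0) * v (.inr 1) + v (.inr 0) * u (.inr 1)) +
        2 * c * u (.inr 1) * v (.inr 1)) := by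
  unfold polar Cfsg.quadFormMinus
  have h : ∀ A B C X Y Z : F, (A + X) - (B + Y) - (C + Z) = (A - B - C) + (X - Y - Z) := by
    intros; ring
  rw [h, ← Finset.sum_sub_distrib, ← Finset.sum_sub_distrib]
  congr 1
  · apply Finset.sum_congr rfl
    intro i _
    simp only [Pi.add_apply]
    ring
  · simp only [Pi.add_apply]
    ring

end

section Iso
variable {F V : Type*} [Field F] [AddCommGroup V] [Module F V]

/-- a hyperbolic basis gives an isometry with the standard plus form -/
theorem eq_quadFormPlus_of_std {m : ℕ} (Q : QuadraticForm F V) (b : Basis (Fin m ⊕ Fin m) F V)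
    (h1 : ∀ i, Q (b (Sum.inl i)) = 0 ∧ Q (b (Sum.inr i)) = 0)
    (h2 : ∀ i j, polar Q (b (Sum.inl i)) (b (Sum.inr j)) = if i = j then 1 else 0)
    (h3 : ∀ i j, polar Q (b (Sum.inl i)) (b (Sum.inl j)) = 0 ∧
      polar Q (b (Sum.inr i)) (b (Sum.inr j)) = 0) :
    ∀ v, Q v = Cfsg.quadFormPlus m F (b.equivFun v) := by
  classical
  have hself : ∀ s, b.equivFun (b s) = Pi.single s 1 := by
    intro s
    funext j
    rw [Basis.equivFun_self]
    simp [Pi.single_apply, eq_comm]
  have key : Q = (plusQF F m).comp (b.equivFun : V →ₗ[F] (Fin m ⊕ Fin m → F)) := by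
    apply quadraticMap_ext_basis b
    · intro s
      rw [comp_apply, LinearEquiv.coe_coe, hself, plusQF_apply]
      rcases s with i | i
      · rw [(h1 i).1]
        unfold Cfsg.quadFormPlus
        symm
        apply Finset.sum_eq_zero
        intro j _
        simp
      · rw [(h1 i).2]
        unfold Cfsg.quadFormPlus
        symm
        apply Finset.sum_eq_zero
        intro j _
        simp
    · intro s s'
      have hp : polar (⇑((plusQF F m).comp (b.equivFun : V →ₗ[F] (Fin m ⊕ Fin m → F)))) (b s) (b s') =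
          polar (Cfsg.quadFormPlus m F) (Pi.single s 1) (Pi.single s' 1) := by
        simp only [polar, comp_apply, LinearEquiv.coe_coe, map_add, hself, plusQF_apply]
      rw [hp, polar_quadFormPlus_formula]
      rcases s with i | i <;> rcases s' with j | j
      · rw [(h3 i j).1]
        symm
        apply Finset.sum_eq_zero
        intro l _
        simp
      · rw [h2 i j]
        simp [Pi.single_apply, Finset.sum_ite_eq', eq_comm]
      · rw [polar_comm, h2 j i]
        simp [Pi.single_apply, Finset.sum_ite_eq', eq_comm]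
      · rw [(h3 i j).2]
        symm
        apply Finset.sum_eq_zero
        intro l _
        simp
  intro v
  rw [key, comp_apply, plusQF_apply]
  rfl

/-- an elliptic standard basis gives an isometry with the standard minus form -/
theorem eq_quadFormMinus_of_std {k : ℕ} (Q : QuadraticForm F V)
    (b : Basis ((Fin k ⊕ Fin k) ⊕ Fin 2) F V) (ζ : F)
    (h1 : ∀ i, Q (b (Sum.inl (Sum.inl i))) = 0 ∧ Q (b (Sum.inl (Sum.inr i))) = 0)
    (h2 : ∀ i j, polar Q (b (Sum.inl (Sum.inl i))) (b (Sum.inl (Sum.inr j))) = if i = j then 1 else 0)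
    (h3 : ∀ i j, polar Q (b (Sum.inl (Sum.inl i))) (b (Sum.inl (Sum.inl j))) = 0 ∧
      polar Q (b (Sum.inl (Sum.inr i))) (b (Sum.inl (Sum.inr j))) = 0)
    (h4 : ∀ i (l : Fin 2), polar Q (b (Sum.inl (Sum.inl i))) (b (Sum.inr l)) = 0 ∧
      polar Q (b (Sum.inl (Sum.inr i))) (b (Sum.inr l)) = 0)
    (h5 : Q (b (Sum.inr 0)) = 1) (h6 : polar Q (b (Sum.inr 0)) (b (Sum.inr 1)) = 1)
    (h7 : Q (b (Sum.inr 1)) = ζ) :
    ∀ v, Q v = Cfsg.quadFormMinus k F 1 ζ (b.equivFun v) := by
  classical
  have hself : ∀ s, b.equivFun (b s) = Pi.single s 1 := by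
    intro s
    funext j
    rw [Basis.equivFun_self]
    simp [Pi.single_apply, eq_comm]
  have key : Q = (minusQF F k 1 ζ).comp
      (b.equivFun : V →ₗ[F] ((Fin k ⊕ Fin k) ⊕ Fin 2 → F)) := by
    apply quadraticMap_ext_basis b
    · intro s
      rw [comp_apply, LinearEquiv.coe_coe, hself, minusQF_apply]
      unfold Cfsg.quadFormMinus
      rcases s with (i | i) | l
      · rw [(h1 i).1]
        symm
        simp only [Pi.single_apply, reduceCtorEq, if_false]
        simp
      · rw [(h1 i).2]
        symm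
        simp only [Pi.single_apply, reduceCtorEq, if_false]
        simp
      · fin_cases l
        · simp only [Fin.zero_eta]
          rw [h5]
          simp [Pi.single_apply]
        · simp only [Fin.mk_one]
          rw [h7]
          simp [Pi.single_apply]
    · intro s s'
      have hp : polar (⇑((minusQF F k 1 ζ).comp
          (b.equivFun : V →ₗ[F] ((Fin k ⊕ Fin k) ⊕ Fin 2 → F)))) (b s) (b s') =
          polar (Cfsg.quadFormMinus k F 1 ζ) (Pi.single s 1) (Pi.single s' 1) := by
        simp only [polar, comp_apply, LinearEquiv.coe_coe, map_add, hself, minusQF_apply]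
      rw [hp, polar_quadFormMinus_formula]
      rcases s with (i | i) | l <;> rcases s' with (j | j) | l'
      · rw [(h3 i j).1]
        simp [Pi.single_apply]
      · rw [h2 i j]
        simp [Pi.single_apply, eq_comm]
      · rw [(h4 i l').1]
        simp [Pi.single_apply]
      · rw [polar_comm, h2 j i]
        simp [Pi.single_apply, eq_comm]
      · rw [(h3 i j).2]
        simp [Pi.single_apply]
      · rw [(h4 i l').2]
        simp [Pi.single_apply]
      · rw [polar_comm, (h4 j l).1]
        simp [Pi.single_apply]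
      · rw [polar_comm, (h4 j l).2]
        simp [Pi.single_apply]
      · fin_cases l <;> fin_cases l'
        · simp only [Fin.zero_eta]
          rw [polar_self, h5]
          simp [Pi.single_apply]
        · simp only [Fin.zero_eta, Fin.mk_one]
          rw [h6]
          simp [Pi.single_apply]
        · simp only [Fin.zero_eta, Fin.mk_one]
          rw [polar_comm, h6]
          simp [Pi.single_apply]
        · simp only [Fin.mk_one]
          rw [polar_self, h7]
          simp [Pi.single_apply]
  intro v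
  rw [key, comp_apply, minusQF_apply]
  rfl

end Iso

end Cfsg.Agent.Lib.H13
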