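import Mathlib
import Cfsg.Prelude.Def_LieTypeDatum
import Cfsg.Agent.Lib.H13.Witt
import Cfsg.Agent.S0750

/-!
Automorphisms of `PΩ(Q)`, part 1 (helper13): the polar form, the action `sv` of `Ω(Q)` on vectors, Siegel transformations `rhoΩ u y`
(they lie in `Ω`), the unipotent radical `Qg u` of a singular point and its centraliser, Chevalley-Warning counts of singular
vectors, fixed singular vectors of `p`-groups, totally singular lines and the long root subgroups `XL L`.
-/

set_option autoImplicit false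
set_option linter.unusedSectionVars false
set_option linter.unusedVariables false
set_option linter.unusedSimpArgs false
set_option linter.deprecated false

namespace Cfsg.Agent.Lib.H13.AutPO

section

open Matrix QuadraticMap Module

variable {F : Type*} [Field F] {ι : Type} [Fintype ι] [DecidableEq ι]
variable (Q : QuadraticForm F (ι → F))

set_option quotPrecheck false in
local notation "B" => QuadraticMap.polar (⇑Q)

/-! ### polar form calculus -/

theorem B_add_left (x x' y : ι → F) : B (x + x') y = B x y + B x' y := polar_add_left _ _ _ _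
theorem B_add_right (x y y' : ι → F) : B x (y + y') = B x y + B x y' := polar_add_right _ _ _ _
theorem B_sub_left (x x' y : ι → F) : B (x - x') y = B x y - B x' y := polar_sub_left _ _ _ _
theorem B_sub_right (x y y' : ι → F) : B x (y - y') = B x y - B x y' := polar_sub_right _ _ _ _
theorem B_smul_left (a : F) (x y : ι → F) : B (a • x) y = a * B x y := by
  rw [polar_smul_left, smul_eq_mul]
theorem B_smul_right (a : F) (x y : ι → F) : B x (a • y) = a * B x y := by
  rw [polar_smul_right, smul_eq_mul]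
theorem B_neg_left (x y : ι → F) : B (-x) y = -B x y := polar_neg_left _ _ _
theorem B_neg_right (x y : ι → F) : B x (-y) = -B x y := polar_neg_right _ _ _
theorem B_zero_left (y : ι → F) : B 0 y = 0 := polar_zero_left _ _
theorem B_zero_right (x : ι → F) : B x 0 = 0 := polar_zero_right _ _
theorem B_comm (x y : ι → F) : B x y = B y x := polar_comm _ _ _
theorem B_self (x : ι → F) : B x x = 2 * Q x := by
  rw [polar_self]; simp
theorem Q_add (x y : ι → F) : Q (x + y) = Q x + Q y + B x y := QuadraticMap.map_add _ _ _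
theorem Q_smul (a : F) (x : ι → F) : Q (a • x) = a * a * Q x := by
  rw [QuadraticMap.map_smul, smul_eq_mul]
theorem Q_neg (x : ι → F) : Q (-x) = Q x := QuadraticMap.map_neg _ _
theorem Q_sub (x y : ι → F) : Q (x - y) = Q x + Q y - B x y := by
  rw [sub_eq_add_neg, Q_add, Q_neg, B_neg_right]; ring
theorem Q_zero : Q (0 : ι → F) = 0 := QuadraticMap.map_zero _


/-! ### the groups -/

variable {Q}

theorem mem_iso_iff (g : GL ι F) :
    g ∈ Cfsg.isometryGroup F ⇑Q ↔ ∀ x, Q ((g : Matrix ι ι F) *ᵥ x) = Q x := by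
  constructor
  · intro h u
    exact h u u
  · intro h u _
    exact h u

/-- the matrix of an element of `Ω` -/
def mat (s : ↥(Cfsg.Omega F ⇑Q)) : Matrix ι ι F := ((s : ↥(Cfsg.isometryGroup F ⇑Q)) : GL ι F)

theorem mat_mul (s t : ↥(Cfsg.Omega F ⇑Q)) : mat (s * t) = mat s * mat t := rfl
theorem mat_one : mat (1 : ↥(Cfsg.Omega F ⇑Q)) = 1 := rfl

theorem mat_injective : Function.Injective (mat : ↥(Cfsg.Omega F ⇑Q) → Matrix ι ι F) := by
  intro s t h
  apply Subtype.ext
  apply Subtype.ext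
  apply Units.ext
  exact h

theorem mat_mul_inv (s : ↥(Cfsg.Omega F ⇑Q)) : mat s * mat s⁻¹ = 1 := by
  rw [← mat_mul, mul_inv_cancel, mat_one]

theorem mat_inv_mul (s : ↥(Cfsg.Omega F ⇑Q)) : mat s⁻¹ * mat s = 1 := by
  rw [← mat_mul, inv_mul_cancel, mat_one]

/-- the action on vectors -/
def sv (s : ↥(Cfsg.Omega F ⇑Q)) (x : ι → F) : ι → F := mat s *ᵥ x

theorem sv_one (x : ι → F) : sv (1 : ↥(Cfsg.Omega F ⇑Q)) x = x := by
  rw [sv, mat_one, one_mulVec]
theorem sv_mul (s t : ↥(Cfsg.Omega F ⇑Q)) (x : ι → F) : sv (s * t) x = sv s (sv t x) := by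
  rw [sv, sv, sv, mat_mul, mulVec_mulVec]
theorem sv_inv_sv (s : ↥(Cfsg.Omega F ⇑Q)) (x : ι → F) : sv s⁻¹ (sv s x) = x := by
  rw [← sv_mul, inv_mul_cancel, sv_one]
theorem sv_sv_inv (s : ↥(Cfsg.Omega F ⇑Q)) (x : ι → F) : sv s (sv s⁻¹ x) = x := by
  rw [← sv_mul, mul_inv_cancel, sv_one]
theorem sv_add (s : ↥(Cfsg.Omega F ⇑Q)) (x y : ι → F) : sv s (x + y) = sv s x + sv s y :=
  mulVec_add _ _ _
theorem sv_sub (s : ↥(Cfsg.Omega F ⇑Q)) (x y : ι → F) : sv s (x - y) = sv s x - sv s y :=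
  mulVec_sub _ _ _
theorem sv_neg (s : ↥(Cfsg.Omega F ⇑Q)) (x : ι → F) : sv s (-x) = -sv s x := mulVec_neg _ _
theorem sv_smul (s : ↥(Cfsg.Omega F ⇑Q)) (a : F) (x : ι → F) : sv s (a • x) = a • sv s x :=
  mulVec_smul _ _ _
theorem sv_zero (s : ↥(Cfsg.Omega F ⇑Q)) : sv s 0 = 0 := mulVec_zero _
theorem sv_injective (s : ↥(Cfsg.Omega F ⇑Q)) : Function.Injective (sv s) := by
  intro x y h
  rw [← sv_inv_sv s x, h, sv_inv_sv]
theorem sv_eq_zero_iff (s : ↥(Cfsg.Omega F ⇑Q)) {x : ι → F} : sv s x = 0 ↔ x = 0 := by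
  constructor
  · intro h
    apply sv_injective s
    rw [h, sv_zero]
  · rintro rfl
    exact sv_zero s

theorem Q_sv (s : ↥(Cfsg.Omega F ⇑Q)) (x : ι → F) : Q (sv s x) = Q x :=
  (mem_iso_iff _).1 (s : ↥(Cfsg.isometryGroup F ⇑Q)).2 x

theorem B_sv (s : ↥(Cfsg.Omega F ⇑Q)) (x y : ι → F) : B (sv s x) (sv s y) = B x y := by
  simp only [QuadraticMap.polar]
  rw [← sv_add, Q_sv, Q_sv, Q_sv]

theorem B_sv_left (s : ↥(Cfsg.Omega F ⇑Q)) (x y : ι → F) : B (sv s x) y = B x (sv s⁻¹ y) := by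
  conv_lhs => rw [← sv_sv_inv s y, B_sv]

theorem ext_sv {s t : ↥(Cfsg.Omega F ⇑Q)} (h : ∀ x, sv s x = sv t x) : s = t := by
  apply mat_injective
  rw [Matrix.ext_iff_mulVec]
  exact h

/-! ### Siegel transformations -/

variable (Q)

/-- the Siegel transformation `ρ_{u,y}`, `x ↦ x + B(x,y) u - B(x,u) y - Q(y) B(x,u) u` -/
def rhoLin (u y : ι → F) : (ι → F) →ₗ[F] (ι → F) :=
  LinearMap.id + (polarBilin Q y).smulRight u - (polarBilin Q u).smulRight y
    - (Q y) • (polarBilin Q u).smulRight u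

theorem rhoLin_apply (u y x : ι → F) :
    rhoLin Q u y x = x + B x y • u - B x u • y - (Q y * B x u) • u := by
  simp only [rhoLin, LinearMap.sub_apply, LinearMap.add_apply, LinearMap.id_apply,
    LinearMap.smulRight_apply, LinearMap.smul_apply, polarBilin_apply_apply, smul_smul]
  rw [B_comm Q y x, B_comm Q u x]

/-- the matrix of `ρ_{u,y}` -/
def rhoM (u y : ι → F) : Matrix ι ι F := LinearMap.toMatrix' (rhoLin Q u y)

theorem rhoM_mulVec (u y x : ι → F) :
    rhoM Q u y *ᵥ x = x + B x y • u - B x u • y - (Q y * B x u) • u := by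
  rw [rhoM, LinearMap.toMatrix'_mulVec, rhoLin_apply]

theorem rhoM_mul {u y y' : ι → F} (hu : Q u = 0) (hy : B u y = 0) (hy' : B u y' = 0) :
    rhoM Q u y * rhoM Q u y' = rhoM Q u (y + y') := by
  rw [Matrix.ext_iff_mulVec]
  intro x
  rw [← mulVec_mulVec, rhoM_mulVec Q u y', rhoM_mulVec, rhoM_mulVec]
  have huu : B u u = 0 := by rw [B_self, hu, mul_zero]
  have hy2 : B y u = 0 := by rw [B_comm, hy]
  have hy2' : B y' u = 0 := by rw [B_comm, hy']
  have hyy : B y' y = B y y' := B_comm _ _ _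
  simp only [B_add_left, B_sub_left, B_smul_left, B_add_right, huu, hy, hy', hy2, hy2', Q_add,
    mul_zero, add_zero, sub_zero, hyy]
  module

theorem rhoM_zero (u : ι → F) : rhoM Q u 0 = 1 := by
  rw [Matrix.ext_iff_mulVec]
  intro x
  rw [rhoM_mulVec, one_mulVec, B_zero_right, Q_zero]
  module


theorem Q_rhoM {u y : ι → F} (hu : Q u = 0) (hy : B u y = 0) (x : ι → F) :
    Q (rhoM Q u y *ᵥ x) = Q x := by
  rw [rhoM_mulVec]
  have huu : B u u = 0 := by rw [B_self, hu, mul_zero]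
  have hy2 : B y u = 0 := by rw [B_comm, hy]
  have hxu : B u x = B x u := B_comm _ _ _
  have hxy : B y x = B x y := B_comm _ _ _
  simp only [Q_sub, Q_add, Q_smul, B_add_left, B_sub_left, B_smul_left, B_smul_right,
    B_add_right, B_sub_right, huu, hy, hy2, hu, hxu, hxy, mul_zero, add_zero, sub_zero]
  ring

theorem rhoM_add_smul {u y : ι → F} (hu : Q u = 0) (hy : B u y = 0) (c : F) :
    rhoM Q u (y + c • u) = rhoM Q u y := by
  rw [Matrix.ext_iff_mulVec]
  intro x
  rw [rhoM_mulVec, rhoM_mulVec]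
  have hy2 : B y u = 0 := by rw [B_comm, hy]
  simp only [Q_add, Q_smul, B_add_right, B_smul_right, hu, hy2, mul_zero, add_zero]
  module

theorem rhoM_smul_self {u : ι → F} (hu : Q u = 0) (c : F) : rhoM Q u (c • u) = 1 := by
  have h := rhoM_add_smul Q (y := 0) hu (B_zero_right Q u) c
  rw [zero_add] at h
  rw [h, rhoM_zero]

theorem rhoM_smul_left (c : F) (u y : ι → F) : rhoM Q (c • u) y = rhoM Q u (c • y) := by
  rw [Matrix.ext_iff_mulVec]
  intro x
  rw [rhoM_mulVec, rhoM_mulVec]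
  simp only [Q_smul, B_smul_right]
  module

theorem rhoM_mulVec_self {u y : ι → F} (hu : Q u = 0) (hy : B u y = 0) :
    rhoM Q u y *ᵥ u = u := by
  rw [rhoM_mulVec]
  have huu : B u u = 0 := by rw [B_self, hu, mul_zero]
  rw [huu, hy]
  module

theorem rhoM_mulVec_perp {u y z : ι → F} (hz : B z u = 0) :
    rhoM Q u y *ᵥ z = z + B z y • u := by
  rw [rhoM_mulVec, hz]
  module

/-- conjugating a Siegel transformation by an isometry -/
theorem rhoM_conj {M M' : Matrix ι ι F} (hM : ∀ x, Q (M *ᵥ x) = Q x) (hMM' : M' * M = 1)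
    (u y : ι → F) : M * rhoM Q u y * M' = rhoM Q (M *ᵥ u) (M *ᵥ y) := by
  have hMM : M * M' = 1 := mul_eq_one_comm.1 hMM'
  have hB : ∀ a b, B (M *ᵥ a) (M *ᵥ b) = B a b := by
    intro a b
    simp only [QuadraticMap.polar]
    rw [← mulVec_add, hM, hM, hM]
  rw [Matrix.ext_iff_mulVec]
  intro x
  rw [← mulVec_mulVec, ← mulVec_mulVec, rhoM_mulVec, rhoM_mulVec]
  have hx : x = M *ᵥ (M' *ᵥ x) := by rw [mulVec_mulVec, hMM, one_mulVec]
  have h1 : B x (M *ᵥ y) = B (M' *ᵥ x) y := by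
    conv_lhs => rw [hx]
    rw [hB]
  have h2 : B x (M *ᵥ u) = B (M' *ᵥ x) u := by
    conv_lhs => rw [hx]
    rw [hB]
  rw [h1, h2, hM]
  simp only [mulVec_add, mulVec_sub, mulVec_smul]
  rw [← hx]

end

section

open Matrix QuadraticMap Module

variable {F : Type*} [Field F] {ι : Type} [Fintype ι] [DecidableEq ι]
variable (Q : QuadraticForm F (ι → F))

set_option quotPrecheck false in
local notation "B" => QuadraticMap.polar (⇑Q)

/-! ### orthogonal complements -/

theorem polarBilin_isSymm : (polarBilin Q).IsSymm := by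
  refine ⟨fun x y => ?_⟩
  simp only [polarBilin_apply_apply, RingHom.id_apply]
  exact polar_comm _ _ _

/-- the orthogonal complement of a subspace with respect to the polar form -/
def perp (W : Submodule F (ι → F)) : Submodule F (ι → F) :=
  LinearMap.BilinForm.orthogonal (polarBilin Q) W

variable {Q}

theorem mem_perp {W : Submodule F (ι → F)} {x : ι → F} : x ∈ perp Q W ↔ ∀ w ∈ W, B w x = 0 := by
  rw [perp, LinearMap.BilinForm.mem_orthogonal_iff]
  rfl

theorem mem_perp' {W : Submodule F (ι → F)} {x : ι → F} : x ∈ perp Q W ↔ ∀ w ∈ W, B x w = 0 := by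
  rw [mem_perp]
  constructor
  · intro h w hw; rw [B_comm]; exact h w hw
  · intro h w hw; rw [B_comm]; exact h w hw

theorem perp_anti {W W' : Submodule F (ι → F)} (h : W ≤ W') : perp Q W' ≤ perp Q W := by
  intro x hx
  rw [mem_perp] at hx ⊢
  exact fun w hw => hx w (h hw)

theorem finrank_perp (hQ : (polarBilin Q).Nondegenerate) (W : Submodule F (ι → F)) :
    finrank F ↥(perp Q W) = Fintype.card ι - finrank F ↥W := by
  rw [perp, LinearMap.BilinForm.finrank_orthogonal hQ, Module.finrank_fintype_fun_eq_card]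

theorem perp_perp (hQ : (polarBilin Q).Nondegenerate) (W : Submodule F (ι → F)) :
    perp Q (perp Q W) = W :=
  LinearMap.BilinForm.orthogonal_orthogonal hQ (polarBilin_isSymm Q).isRefl W

theorem mem_perp_span_singleton {u x : ι → F} : x ∈ perp Q (Submodule.span F {u}) ↔ B u x = 0 := by
  rw [mem_perp]
  constructor
  · intro h
    exact h u (Submodule.mem_span_singleton_self u)
  · intro h w hw
    obtain ⟨a, rfl⟩ := Submodule.mem_span_singleton.1 hw
    rw [B_smul_left, h, mul_zero]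

theorem mem_perp_span_pair {u v x : ι → F} :
    x ∈ perp Q (Submodule.span F {u, v}) ↔ B u x = 0 ∧ B v x = 0 := by
  rw [mem_perp]
  constructor
  · intro h
    exact ⟨h u (Submodule.subset_span (by simp)), h v (Submodule.subset_span (by simp))⟩
  · rintro ⟨h1, h2⟩ w hw
    obtain ⟨a, b, rfl⟩ := Submodule.mem_span_pair.1 hw
    rw [B_add_left, B_smul_left, B_smul_left, h1, h2, mul_zero, mul_zero, add_zero]

theorem exists_B_ne_zero (hQ : (polarBilin Q).Nondegenerate) {x : ι → F} (hx : x ≠ 0) :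
    ∃ t, B x t ≠ 0 := by
  by_contra h
  push Not at h
  exact hx (hQ.1 x h)

/-- double perp for a single vector -/
theorem mem_span_singleton_of_perp (hQ : (polarBilin Q).Nondegenerate) {u w : ι → F}
    (h : ∀ t, B u t = 0 → B w t = 0) : w ∈ Submodule.span F {u} := by
  rw [← perp_perp hQ (Submodule.span F {u}), mem_perp]
  intro t ht
  rw [B_comm]
  exact h t (mem_perp_span_singleton.1 ht)

/-- double perp for a pair -/
theorem mem_span_pair_of_perp (hQ : (polarBilin Q).Nondegenerate) {u v w : ι → F}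
    (h : ∀ t, B u t = 0 → B v t = 0 → B w t = 0) : w ∈ Submodule.span F {u, v} := by
  rw [← perp_perp hQ (Submodule.span F {u, v}), mem_perp]
  intro t ht
  rw [B_comm]
  have := mem_perp_span_pair.1 ht
  exact h t this.1 this.2

end

section

open Matrix QuadraticMap Module
open scoped commutatorElement

variable {F : Type*} [Field F] {ι : Type} [Fintype ι] [DecidableEq ι]
variable (Q : QuadraticForm F (ι → F))

set_option quotPrecheck false in
local notation "B" => QuadraticMap.polar (⇑Q)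

/-! ### isometries as group elements -/

/-- a linear isometry as an element of the isometry group -/
noncomputable def elOfEquiv (g : (ι → F) ≃ₗ[F] (ι → F)) (hg : ∀ v, Q (g v) = Q v) :
    ↥(Cfsg.isometryGroup F ⇑Q) :=
  ⟨⟨LinearMap.toMatrix' (g : (ι → F) →ₗ[F] (ι → F)),
      LinearMap.toMatrix' (g.symm : (ι → F) →ₗ[F] (ι → F)),
      by rw [← LinearMap.toMatrix'_comp]; simp,
      by rw [← LinearMap.toMatrix'_comp]; simp⟩,
    (mem_iso_iff _).2 (fun x => by
      show Q (LinearMap.toMatrix' (g : (ι → F) →ₗ[F] (ι → F)) *ᵥ x) = Q x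
      rw [LinearMap.toMatrix'_mulVec]
      exact hg x)⟩

theorem elOfEquiv_mulVec (g : (ι → F) ≃ₗ[F] (ι → F)) (hg : ∀ v, Q (g v) = Q v) (x : ι → F) :
    (((elOfEquiv Q g hg : ↥(Cfsg.isometryGroup F ⇑Q)) : GL ι F) : Matrix ι ι F) *ᵥ x = g x := by
  show LinearMap.toMatrix' (g : (ι → F) →ₗ[F] (ι → F)) *ᵥ x = g x
  rw [LinearMap.toMatrix'_mulVec]
  rfl

open Classical in
/-- `ρ_{u,y}` as an element of the isometry group (`1` if the side conditions fail) -/
noncomputable def rhoO (u y : ι → F) : ↥(Cfsg.isometryGroup F ⇑Q) :=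
  if h : Q u = 0 ∧ B u y = 0 then
    ⟨⟨rhoM Q u y, rhoM Q u (-y),
      by rw [rhoM_mul Q h.1 h.2 (by rw [B_neg_right, h.2, neg_zero]), add_neg_cancel, rhoM_zero],
      by rw [rhoM_mul Q h.1 (by rw [B_neg_right, h.2, neg_zero]) h.2, neg_add_cancel, rhoM_zero]⟩,
    (mem_iso_iff _).2 (fun x => Q_rhoM Q h.1 h.2 x)⟩
  else 1

theorem rhoO_val {u y : ι → F} (hu : Q u = 0) (hy : B u y = 0) :
    (((rhoO Q u y : ↥(Cfsg.isometryGroup F ⇑Q)) : GL ι F) : Matrix ι ι F) = rhoM Q u y := by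
  rw [rhoO, dif_pos ⟨hu, hy⟩]

variable {Q} in
theorem isoMat_ext {s t : ↥(Cfsg.isometryGroup F ⇑Q)}
    (h : ((s : GL ι F) : Matrix ι ι F) = ((t : GL ι F) : Matrix ι ι F)) : s = t := by
  apply Subtype.ext
  apply Units.ext
  exact h

theorem rhoO_mul {u y y' : ι → F} (hu : Q u = 0) (hy : B u y = 0) (hy' : B u y' = 0) :
    rhoO Q u y * rhoO Q u y' = rhoO Q u (y + y') := by
  apply isoMat_ext
  show (((rhoO Q u y : ↥(Cfsg.isometryGroup F ⇑Q)) : GL ι F) : Matrix ι ι F) *
    (((rhoO Q u y' : ↥(Cfsg.isometryGroup F ⇑Q)) : GL ι F) : Matrix ι ι F) = _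
  rw [rhoO_val Q hu hy, rhoO_val Q hu hy', rhoO_val Q hu (by rw [B_add_right, hy, hy', add_zero]),
    rhoM_mul Q hu hy hy']

theorem rhoO_zero (u : ι → F) : rhoO Q u 0 = 1 := by
  by_cases hu : Q u = 0
  · apply isoMat_ext
    show (((rhoO Q u 0 : ↥(Cfsg.isometryGroup F ⇑Q)) : GL ι F) : Matrix ι ι F) = 1
    rw [rhoO_val Q hu (B_zero_right Q u), rhoM_zero]
  · rw [rhoO, dif_neg (fun h => hu h.1)]

theorem rhoO_inv {u y : ι → F} (hu : Q u = 0) (hy : B u y = 0) :
    (rhoO Q u y)⁻¹ = rhoO Q u (-y) := by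
  rw [inv_eq_iff_mul_eq_one, rhoO_mul Q hu hy (by rw [B_neg_right, hy, neg_zero]), add_neg_cancel,
    rhoO_zero]

theorem rhoO_conj (g : ↥(Cfsg.isometryGroup F ⇑Q)) {u y : ι → F} (hu : Q u = 0) (hy : B u y = 0) :
    g * rhoO Q u y * g⁻¹ = rhoO Q (((g : GL ι F) : Matrix ι ι F) *ᵥ u)
      (((g : GL ι F) : Matrix ι ι F) *ᵥ y) := by
  have hg : ∀ x, Q (((g : GL ι F) : Matrix ι ι F) *ᵥ x) = Q x := (mem_iso_iff _).1 g.2
  have hB : ∀ a b, B (((g : GL ι F) : Matrix ι ι F) *ᵥ a) (((g : GL ι F) : Matrix ι ι F) *ᵥ b)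
      = B a b := by
    intro a b
    simp only [QuadraticMap.polar]
    rw [← mulVec_add, hg, hg, hg]
  apply isoMat_ext
  show ((g : GL ι F) : Matrix ι ι F) *
    (((rhoO Q u y : ↥(Cfsg.isometryGroup F ⇑Q)) : GL ι F) : Matrix ι ι F) *
      (((g⁻¹ : ↥(Cfsg.isometryGroup F ⇑Q)) : GL ι F) : Matrix ι ι F) = _
  rw [rhoO_val Q hu hy, rhoO_val Q (by rw [hg, hu]) (by rw [hB, hy])]
  apply rhoM_conj Q hg
  have : g⁻¹ * g = 1 := inv_mul_cancel g
  exact congrArg (fun x : ↥(Cfsg.isometryGroup F ⇑Q) => ((x : GL ι F) : Matrix ι ι F)) this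


theorem li_pair_of_not_mem {u y : ι → F} (hu : u ≠ 0) (hy : y ∉ Submodule.span F {u}) :
    LinearIndependent F ![u, y] := by
  rw [LinearIndependent.pair_iff]
  intro s t hst
  have ht : t = 0 := by
    by_contra ht
    apply hy
    rw [Submodule.mem_span_singleton]
    refine ⟨-(t⁻¹ * s), ?_⟩
    have : y = t⁻¹ • (t • y) := by rw [smul_smul, inv_mul_cancel₀ ht, one_smul]
    rw [this, eq_neg_of_add_eq_zero_right hst, smul_neg, smul_smul, neg_smul]
  subst ht
  rw [zero_smul, add_zero] at hst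
  exact ⟨(smul_eq_zero.1 hst).resolve_right hu, rfl⟩

theorem finrank_span_pair_le (u y : ι → F) : finrank F ↥(Submodule.span F {u, y}) ≤ 2 := by
  classical
  have h := finrank_span_finset_le_card (R := F) ({u, y} : Finset (ι → F))
  rw [Finset.coe_insert, Finset.coe_singleton] at h
  exact h.trans (Finset.card_insert_le _ _)

theorem rhoM_zero_left (y : ι → F) : rhoM Q 0 y = 1 := by
  rw [Matrix.ext_iff_mulVec]
  intro x
  rw [rhoM_mulVec, one_mulVec, B_zero_right]
  module

/-- every Siegel transformation is a commutator of isometries -/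
theorem rhoO_mem_commutator (hQ : (polarBilin Q).Nondegenerate) (hn : 5 ≤ Fintype.card ι)
    {u y : ι → F} (hu : Q u = 0) (hy : B u y = 0) :
    rhoO Q u y ∈ commutator ↥(Cfsg.isometryGroup F ⇑Q) := by
  by_cases hu0 : u = 0
  · have : rhoO Q u y = 1 := by
      apply isoMat_ext
      rw [rhoO_val Q hu hy, hu0, rhoM_zero_left]
      rfl
    rw [this]; exact one_mem _
  by_cases hyu : y ∈ Submodule.span F {u}
  · obtain ⟨c, rfl⟩ := Submodule.mem_span_singleton.1 hyu
    have : rhoO Q u (c • u) = 1 := by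
      apply isoMat_ext
      rw [rhoO_val Q hu hy, rhoM_smul_self Q hu]
      rfl
    rw [this]; exact one_mem _
  -- the auxiliary vector
  obtain ⟨y', hy'u, hy'y, hy'1, hy'2⟩ : ∃ y', B u y' = 0 ∧ B y' y = -Q y ∧
      y' ∉ Submodule.span F {u} ∧ y' + y ∉ Submodule.span F {u} := by
    by_cases hQy : Q y = 0
    · -- a vector of `⟨u,y⟩^⊥` outside `⟨u,y⟩`
      have h1 : ¬ perp Q (Submodule.span F {u, y}) ≤ Submodule.span F {u, y} := by
        intro hle
        have h2 := Submodule.finrank_mono hle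
        rw [finrank_perp hQ] at h2
        have h3 : finrank F ↥(Submodule.span F {u, y}) ≤ 2 := finrank_span_pair_le u y
        omega
      obtain ⟨y', hy'p, hy'n⟩ := SetLike.not_le_iff_exists.1 h1
      have hp := mem_perp_span_pair.1 hy'p
      refine ⟨y', hp.1, ?_, ?_, ?_⟩
      · rw [B_comm, hp.2, hQy, neg_zero]
      · intro h
        apply hy'n
        exact Submodule.span_mono (by simp) h
      · intro h
        apply hy'n
        obtain ⟨c, hc⟩ := Submodule.mem_span_singleton.1 h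
        rw [Submodule.mem_span_pair]
        exact ⟨c, -1, by rw [hc]; module⟩
    · obtain ⟨t, htu, hty⟩ : ∃ t, B u t = 0 ∧ B y t ≠ 0 := by
        by_contra hcon
        push Not at hcon
        exact hyu (mem_span_singleton_of_perp hQ hcon)
      have hty' : B t y ≠ 0 := by rw [B_comm]; exact hty
      refine ⟨(-Q y / B t y) • t, ?_, ?_, ?_, ?_⟩
      · rw [B_smul_right, htu, mul_zero]
      · rw [B_smul_left]
        field_simp
      · intro h
        obtain ⟨c, hc⟩ := Submodule.mem_span_singleton.1 h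
        have h1 : B ((-Q y / B t y) • t) y = -Q y := by
          rw [B_smul_left]; field_simp
        rw [← hc, B_smul_left, hy, mul_zero] at h1
        exact hQy (neg_eq_zero.1 h1.symm)
      · intro h
        obtain ⟨c, hc⟩ := Submodule.mem_span_singleton.1 h
        have h1 : B ((-Q y / B t y) • t + y) y = Q y := by
          rw [B_add_left, B_smul_left, B_self]; field_simp; ring
        rw [← hc, B_smul_left, hy, mul_zero] at h1
        exact hQy h1.symm
  have hy'u2 : B u (y' + y) = 0 := by rw [B_add_right, hy'u, hy, add_zero]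
  have hQy' : Q (y' + y) = Q y' := by rw [Q_add, hy'y]; ring
  obtain ⟨g, hg, hgx⟩ := Cfsg.Agent.S0750.witt_family Q hQ 2 ![u, y'] ![u, y' + y]
    (li_pair_of_not_mem hu0 hy'1) (li_pair_of_not_mem hu0 hy'2)
    (by
      intro i
      fin_cases i
      · rfl
      · exact hQy')
    (by
      intro i j
      fin_cases i <;> fin_cases j
      · rfl
      · show B u (y' + y) = B u y'
        rw [hy'u2, hy'u]
      · show B (y' + y) u = B y' u
        rw [B_comm Q (y' + y), B_comm Q y', hy'u2, hy'u]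
      · show B (y' + y) (y' + y) = B y' y'
        rw [B_self, B_self, hQy'])
  have hgu : g u = u := hgx 0
  have hgy : g y' = y' + y := hgx 1
  have hcomm : rhoO Q u y = ⁅elOfEquiv Q g hg, rhoO Q u y'⁆ := by
    rw [commutatorElement_def, rhoO_conj Q _ hu hy'u, elOfEquiv_mulVec, elOfEquiv_mulVec, hgu, hgy,
      rhoO_inv Q hu hy'u, rhoO_mul Q hu hy'u2 (by rw [B_neg_right, hy'u, neg_zero])]
    congr 1
    module
  rw [hcomm]
  exact Subgroup.commutator_mem_commutator (Subgroup.mem_top _) (Subgroup.mem_top _)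

end

section

open Matrix QuadraticMap Module
open scoped commutatorElement

variable {F : Type*} [Field F] {ι : Type} [Fintype ι] [DecidableEq ι]
variable (Q : QuadraticForm F (ι → F))

set_option quotPrecheck false in
local notation "B" => QuadraticMap.polar (⇑Q)

/-! ### Siegel transformations in `Ω` -/

open Classical in
/-- `ρ_{u,y}` as an element of `Ω` -/
noncomputable def rhoΩ (u y : ι → F) : ↥(Cfsg.Omega F ⇑Q) :=
  if h : rhoO Q u y ∈ Cfsg.Omega F ⇑Q then ⟨rhoO Q u y, h⟩ else 1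

variable (hQ : (polarBilin Q).Nondegenerate) (hn : 5 ≤ Fintype.card ι)

include hQ hn

theorem mat_rhoΩ {u y : ι → F} (hu : Q u = 0) (hy : B u y = 0) :
    mat (rhoΩ Q u y) = rhoM Q u y := by
  rw [rhoΩ, dif_pos (rhoO_mem_commutator Q hQ hn hu hy)]
  exact rhoO_val Q hu hy

theorem sv_rhoΩ {u y : ι → F} (hu : Q u = 0) (hy : B u y = 0) (x : ι → F) :
    sv (rhoΩ Q u y) x = x + B x y • u - B x u • y - (Q y * B x u) • u := by
  rw [sv, mat_rhoΩ Q hQ hn hu hy, rhoM_mulVec]

theorem rhoΩ_mul {u y y' : ι → F} (hu : Q u = 0) (hy : B u y = 0) (hy' : B u y' = 0) :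
    rhoΩ Q u y * rhoΩ Q u y' = rhoΩ Q u (y + y') := by
  apply mat_injective
  rw [mat_mul, mat_rhoΩ Q hQ hn hu hy, mat_rhoΩ Q hQ hn hu hy',
    mat_rhoΩ Q hQ hn hu (by rw [B_add_right, hy, hy', add_zero]), rhoM_mul Q hu hy hy']

omit hQ hn in
theorem rhoΩ_zero (u : ι → F) : rhoΩ Q u 0 = 1 := by
  rw [rhoΩ]
  split_ifs with h
  · apply Subtype.ext
    exact rhoO_zero Q u
  · rfl

theorem rhoΩ_inv {u y : ι → F} (hu : Q u = 0) (hy : B u y = 0) :
    (rhoΩ Q u y)⁻¹ = rhoΩ Q u (-y) := by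
  rw [inv_eq_iff_mul_eq_one, rhoΩ_mul Q hQ hn hu hy (by rw [B_neg_right, hy, neg_zero]),
    add_neg_cancel, rhoΩ_zero]

theorem rhoΩ_conj (s : ↥(Cfsg.Omega F ⇑Q)) {u y : ι → F} (hu : Q u = 0) (hy : B u y = 0) :
    s * rhoΩ Q u y * s⁻¹ = rhoΩ Q (sv s u) (sv s y) := by
  apply mat_injective
  rw [mat_mul, mat_mul, mat_rhoΩ Q hQ hn hu hy,
    mat_rhoΩ Q hQ hn (by rw [Q_sv, hu]) (by rw [B_sv, hy])]
  exact rhoM_conj Q (fun x => Q_sv s x) (mat_inv_mul s) u y

theorem rhoΩ_add_smul {u y : ι → F} (hu : Q u = 0) (hy : B u y = 0) (c : F) :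
    rhoΩ Q u (y + c • u) = rhoΩ Q u y := by
  apply mat_injective
  have huu : B u u = 0 := by rw [B_self, hu, mul_zero]
  rw [mat_rhoΩ Q hQ hn hu hy,
    mat_rhoΩ Q hQ hn hu (by rw [B_add_right, B_smul_right, hy, huu, mul_zero, add_zero]),
    rhoM_add_smul Q hu hy]

theorem rhoΩ_smul_left {u y : ι → F} (hu : Q u = 0) (hy : B u y = 0) (c : F) :
    rhoΩ Q (c • u) y = rhoΩ Q u (c • y) := by
  apply mat_injective
  rw [mat_rhoΩ Q hQ hn (by rw [Q_smul, hu, mul_zero]) (by rw [B_smul_left, hy, mul_zero]),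
    mat_rhoΩ Q hQ hn hu (by rw [B_smul_right, hy, mul_zero]), rhoM_smul_left]

theorem rhoΩ_eq_one_iff {u y : ι → F} (hu0 : u ≠ 0) (hu : Q u = 0) (hy : B u y = 0) :
    rhoΩ Q u y = 1 ↔ y ∈ Submodule.span F {u} := by
  constructor
  · intro h
    obtain ⟨f, hf⟩ := exists_B_ne_zero hQ hu0
    have h1 := sv_rhoΩ Q hQ hn hu hy f
    rw [h, sv_one] at h1
    rw [Submodule.mem_span_singleton]
    have hf' : B f u ≠ 0 := by rw [B_comm]; exact hf
    refine ⟨(B f u)⁻¹ * (B f y - Q y * B f u), ?_⟩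
    have h2 : B f u • y = (B f y - Q y * B f u) • u := by
      have : f + B f y • u - B f u • y - (Q y * B f u) • u - f = 0 := by rw [← h1]; simp
      rw [← sub_eq_zero, ← neg_eq_zero, ← this]
      module
    rw [mul_smul, ← h2, smul_smul, inv_mul_cancel₀ hf', one_smul]
  · intro h
    obtain ⟨c, rfl⟩ := Submodule.mem_span_singleton.1 h
    have := rhoΩ_add_smul Q hQ hn hu (B_zero_right Q u) c
    rw [zero_add] at this
    rw [this, rhoΩ_zero]

theorem rhoΩ_eq_iff {u y y' : ι → F} (hu0 : u ≠ 0) (hu : Q u = 0) (hy : B u y = 0)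
    (hy' : B u y' = 0) :
    rhoΩ Q u y = rhoΩ Q u y' ↔ y - y' ∈ Submodule.span F {u} := by
  rw [← rhoΩ_eq_one_iff Q hQ hn hu0 hu (by rw [B_sub_right, hy, hy', sub_zero]), sub_eq_add_neg,
    ← rhoΩ_mul Q hQ hn hu hy (by rw [B_neg_right, hy', neg_zero]), ← rhoΩ_inv Q hQ hn hu hy',
    mul_inv_eq_one]

end

section

open Matrix QuadraticMap Module
open scoped commutatorElement

variable {F : Type*} [Field F] {ι : Type} [Fintype ι] [DecidableEq ι]
variable (Q : QuadraticForm F (ι → F))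

set_option quotPrecheck false in
local notation "B" => QuadraticMap.polar (⇑Q)

/-! ### the unipotent radical `Q_u` of the stabiliser of a singular point -/

/-- the group `Q_u`: elements of `Ω` fixing `u` and acting trivially on `u^⊥/u` -/
def Qg (u : ι → F) : Subgroup ↥(Cfsg.Omega F ⇑Q) where
  carrier := {s | sv s u = u ∧ ∀ z, B z u = 0 → ∃ c : F, sv s z = z + c • u}
  one_mem' := ⟨sv_one u, fun z _ => ⟨0, by rw [sv_one, zero_smul, add_zero]⟩⟩
  mul_mem' := by
    rintro s t ⟨hs, hs'⟩ ⟨ht, ht'⟩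
    refine ⟨by rw [sv_mul, ht, hs], fun z hz => ?_⟩
    obtain ⟨c, hc⟩ := ht' z hz
    obtain ⟨d, hd⟩ := hs' z hz
    refine ⟨d + c, ?_⟩
    rw [sv_mul, hc, sv_add, sv_smul, hs, hd]
    module
  inv_mem' := by
    rintro s ⟨hs, hs'⟩
    have hs1 : sv s⁻¹ u = u := by
      conv_lhs => rw [← hs]
      rw [sv_inv_sv]
    refine ⟨hs1, fun z hz => ?_⟩
    obtain ⟨c, hc⟩ := hs' z hz
    refine ⟨-c, ?_⟩
    have : z = sv s⁻¹ z + c • u := by
      have := congrArg (sv s⁻¹) hc
      rw [sv_inv_sv, sv_add, sv_smul, hs1] at this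
      exact this
    conv_rhs => rw [this]
    module

variable {Q}

theorem mem_Qg {u : ι → F} {s : ↥(Cfsg.Omega F ⇑Q)} :
    s ∈ Qg Q u ↔ sv s u = u ∧ ∀ z, B z u = 0 → ∃ c : F, sv s z = z + c • u := Iff.rfl


/-- decomposition along a hyperbolic pair -/
theorem hyp_decomp {u f : ι → F} (hu : Q u = 0) (hf : Q f = 0) (huf : B u f = 1) (x : ι → F) :
    ∃ w, B w u = 0 ∧ B w f = 0 ∧ x = B x f • u + B x u • f + w := by
  have huu : B u u = 0 := by rw [B_self, hu, mul_zero]
  have hff : B f f = 0 := by rw [B_self, hf, mul_zero]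
  have hfu : B f u = 1 := by rw [B_comm, huf]
  refine ⟨x - B x f • u - B x u • f, ?_, ?_, by module⟩
  · rw [B_sub_left, B_sub_left, B_smul_left, B_smul_left, huu, hfu]; ring
  · rw [B_sub_left, B_sub_left, B_smul_left, B_smul_left, huf, hff]; ring

variable (Q)
variable (hQ : (polarBilin Q).Nondegenerate) (hn : 5 ≤ Fintype.card ι)
include hQ hn

theorem rhoΩ_mem_Qg {u y : ι → F} (hu : Q u = 0) (hy : B u y = 0) : rhoΩ Q u y ∈ Qg Q u := by
  have huu : B u u = 0 := by rw [B_self, hu, mul_zero]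
  refine ⟨?_, fun z hz => ⟨B z y, ?_⟩⟩
  · rw [sv, mat_rhoΩ Q hQ hn hu hy, rhoM_mulVec_self Q hu hy]
  · rw [sv, mat_rhoΩ Q hQ hn hu hy, rhoM_mulVec_perp Q hz]

/-- parametrisation of `Q_u` -/
theorem exists_of_mem_Qg {u : ι → F} (hu0 : u ≠ 0) (hu : Q u = 0) {s : ↥(Cfsg.Omega F ⇑Q)}
    (hs : s ∈ Qg Q u) : ∃ y, B u y = 0 ∧ s = rhoΩ Q u y := by
  obtain ⟨hsu, hs'⟩ := hs
  obtain ⟨f, hf, huf⟩ := exists_hyperbolic_pair Q hQ u hu0 hu
  have hfu : B f u = 1 := by rw [B_comm, huf]
  have huu : B u u = 0 := by rw [B_self, hu, mul_zero]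
  obtain ⟨y, hy⟩ : ∃ y, y = f - sv s f := ⟨_, rfl⟩
  have hsf : sv s f = f - y := by rw [hy]; abel
  have hyu : B u y = 0 := by
    have h1 : B u (sv s f) = 1 := by
      conv_lhs => rw [← hsu]
      rw [B_sv, huf]
    rw [hy, B_sub_right, h1, huf, sub_self]
  have hfy : B f y = Q y := by
    have h1 : Q (sv s f) = 0 := by rw [Q_sv, hf]
    rw [hsf, Q_sub, hf, zero_add] at h1
    linear_combination -h1
  refine ⟨y, hyu, ext_sv (fun x => ?_)⟩
  obtain ⟨w, hwu, hwf, hx⟩ := hyp_decomp hu hf huf x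
  obtain ⟨c, hc⟩ := hs' w hwu
  have hcw : c = B w y := by
    have h1 : B (sv s w) (sv s f) = 0 := by rw [B_sv, hwf]
    rw [hc, hsf, B_add_left, B_sub_right, B_sub_right, B_smul_left, B_smul_left, hwf, huf, hyu] at h1
    linear_combination h1
  rw [hx]
  simp only [sv_add, sv_smul, hsu, hsf, hc]
  rw [sv_rhoΩ Q hQ hn hu hyu, sv_rhoΩ Q hQ hn hu hyu, sv_rhoΩ Q hQ hn hu hyu]
  rw [huu, hyu, hfu, hwu, hfy, hcw]
  module

theorem mem_Qg_iff {u : ι → F} (hu0 : u ≠ 0) (hu : Q u = 0) {s : ↥(Cfsg.Omega F ⇑Q)} :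
    s ∈ Qg Q u ↔ ∃ y, B u y = 0 ∧ s = rhoΩ Q u y :=
  ⟨exists_of_mem_Qg Q hQ hn hu0 hu, fun ⟨y, hy, h⟩ => h ▸ rhoΩ_mem_Qg Q hQ hn hu hy⟩

end

section

open Matrix QuadraticMap Module
open scoped commutatorElement

variable {F : Type*} [Field F] {ι : Type} [Fintype ι] [DecidableEq ι]
variable (Q : QuadraticForm F (ι → F))

set_option quotPrecheck false in
local notation "B" => QuadraticMap.polar (⇑Q)

variable (hQ : (polarBilin Q).Nondegenerate) (hn : 5 ≤ Fintype.card ι)
include hQ hn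

omit hn in
theorem finrank_span_singleton_le (u : ι → F) : finrank F ↥(Submodule.span F {u}) ≤ 1 := by
  classical
  have h := finrank_span_finset_le_card (R := F) ({u} : Finset (ι → F))
  rw [Finset.coe_singleton] at h
  exact h.trans (by simp)

/-- a vector of `u^⊥` outside `⟨u⟩` -/
theorem exists_perp_not_mem (u : ι → F) :
    ∃ y, B u y = 0 ∧ y ∉ Submodule.span F {u} := by
  have h1 : ¬ perp Q (Submodule.span F {u}) ≤ Submodule.span F {u} := by
    intro hle
    have h2 := Submodule.finrank_mono hle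
    rw [finrank_perp hQ] at h2
    have h3 := finrank_span_singleton_le Q hQ u
    omega
  obtain ⟨y, hy, hyn⟩ := SetLike.not_le_iff_exists.1 h1
  exact ⟨y, mem_perp_span_singleton.1 hy, hyn⟩

/-- a vector of `⟨u,v⟩^⊥` outside `⟨u,v⟩` -/
theorem exists_perp_pair_not_mem (u v : ι → F) :
    ∃ y, B u y = 0 ∧ B v y = 0 ∧ y ∉ Submodule.span F {u, v} := by
  have h1 : ¬ perp Q (Submodule.span F {u, v}) ≤ Submodule.span F {u, v} := by
    intro hle
    have h2 := Submodule.finrank_mono hle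
    rw [finrank_perp hQ] at h2
    have h3 := finrank_span_pair_le u v
    omega
  obtain ⟨y, hy, hyn⟩ := SetLike.not_le_iff_exists.1 h1
  have := mem_perp_span_pair.1 hy
  exact ⟨y, this.1, this.2, hyn⟩

/-- a non-singular vector of `u^⊥` -/
theorem exists_perp_nonsingular {u : ι → F} (hu0 : u ≠ 0) (hu : Q u = 0) :
    ∃ y, B u y = 0 ∧ Q y ≠ 0 := by
  obtain ⟨f, hf, huf⟩ := exists_hyperbolic_pair Q hQ u hu0 hu
  obtain ⟨w, hwu, hwf, hw⟩ := exists_perp_pair_not_mem Q hQ hn u f
  by_cases hQw : Q w = 0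
  · have hw0 : w ≠ 0 := by
      rintro rfl
      exact hw (zero_mem _)
    -- a partner of `w` inside `⟨u,f⟩^⊥`
    obtain ⟨t, ht⟩ := exists_B_ne_zero hQ hw0
    obtain ⟨t', htu, htf, hxt⟩ := hyp_decomp hu hf huf t
    have h1 : B w t' ≠ 0 := by
      have hwu' : B w u = 0 := by rw [B_comm, hwu]
      have hwf' : B w f = 0 := by rw [B_comm, hwf]
      rw [hxt, B_add_right, B_add_right, B_smul_right, B_smul_right, hwu', hwf'] at ht
      simpa using ht
    by_cases hQt : Q t' = 0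
    · refine ⟨w + t', ?_, ?_⟩
      · rw [B_add_right, hwu, B_comm, htu, add_zero]
      · rw [Q_add, hQw, hQt, zero_add, zero_add]
        exact h1
    · exact ⟨t', by rw [B_comm, htu], hQt⟩
  · exact ⟨w, hwu, hQw⟩

/-- the common fixed vectors of `Q_u` are the multiples of `u` -/
theorem mem_span_of_Qg_fix {u x : ι → F} (hu0 : u ≠ 0) (hu : Q u = 0)
    (h : ∀ y, B u y = 0 → sv (rhoΩ Q u y) x = x) : x ∈ Submodule.span F {u} := by
  obtain ⟨y₁, hy₁, hy₁n⟩ := exists_perp_not_mem Q hQ hn u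
  have key : ∀ y, B u y = 0 → B x y • u - B x u • y - (Q y * B x u) • u = 0 := by
    intro y hy
    have := h y hy
    rw [sv_rhoΩ Q hQ hn hu hy] at this
    have h2 : x + B x y • u - B x u • y - (Q y * B x u) • u - x = 0 := by rw [this, sub_self]
    rw [← h2]; module
  have hxu : B x u = 0 := by
    by_contra hne
    apply hy₁n
    rw [Submodule.mem_span_singleton]
    refine ⟨(B x u)⁻¹ * (B x y₁ - Q y₁ * B x u), ?_⟩
    have h2 : B x u • y₁ = (B x y₁ - Q y₁ * B x u) • u := by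
      rw [← sub_eq_zero, ← neg_eq_zero, ← key y₁ hy₁]; module
    rw [mul_smul, ← h2, smul_smul, inv_mul_cancel₀ hne, one_smul]
  apply mem_span_singleton_of_perp hQ
  intro t ht
  have := key t ht
  rw [hxu] at this
  simp only [zero_smul, mul_zero, sub_zero] at this
  exact (smul_eq_zero.1 this).resolve_right hu0

/-- an element of `Ω` centralising `Q_u` acts as a scalar `μ = ±1` on `u` and on `u^⊥/u` -/
theorem centralizer_Qg {u : ι → F} (hu0 : u ≠ 0) (hu : Q u = 0) {s : ↥(Cfsg.Omega F ⇑Q)}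
    (h : ∀ y, B u y = 0 → s * rhoΩ Q u y = rhoΩ Q u y * s) :
    ∃ μ : F, μ * μ = 1 ∧ sv s u = μ • u ∧ ∀ z, B z u = 0 → ∃ c : F, sv s z = μ • z + c • u := by
  have hsu : sv s u ∈ Submodule.span F {u} := by
    apply mem_span_of_Qg_fix Q hQ hn hu0 hu
    intro y hy
    rw [← sv_mul, ← h y hy, sv_mul]
    congr 1
    rw [sv, mat_rhoΩ Q hQ hn hu hy, rhoM_mulVec_self Q hu hy]
  obtain ⟨ν, hν⟩ := Submodule.mem_span_singleton.1 hsu
  have hν0 : ν ≠ 0 := by
    rintro rfl
    rw [zero_smul] at hν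
    exact hu0 ((sv_eq_zero_iff s).1 hν.symm)
  have hconj : ∀ y, B u y = 0 → ν • sv s y - y ∈ Submodule.span F {u} := by
    intro y hy
    have h1 : s * rhoΩ Q u y * s⁻¹ = rhoΩ Q u y := by rw [h y hy]; group
    rw [rhoΩ_conj Q hQ hn s hu hy, ← hν,
      rhoΩ_smul_left Q hQ hn hu (by
        have : B (ν • u) (sv s y) = 0 := by rw [hν, B_sv, hy]
        rw [B_smul_left] at this
        exact (mul_eq_zero.1 this).resolve_left hν0)] at h1
    have h2 : B u (ν • sv s y) = 0 := by
      have : B (ν • u) (sv s y) = 0 := by rw [hν, B_sv, hy]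
      rw [B_smul_left] at this
      rw [B_smul_right]; exact this
    exact (rhoΩ_eq_iff Q hQ hn hu0 hu h2 hy).1 h1
  -- ν^2 = 1
  obtain ⟨y₀, hy₀u, hy₀⟩ := exists_perp_nonsingular Q hQ hn hu0 hu
  have hνν : ν * ν = 1 := by
    obtain ⟨c, hc⟩ := Submodule.mem_span_singleton.1 (hconj y₀ hy₀u)
    have h1 : ν • sv s y₀ = y₀ + c • u := by rw [hc]; abel
    have h2 := congrArg Q h1
    have hy₀u' : B y₀ u = 0 := by rw [B_comm, hy₀u]
    rw [Q_smul, Q_sv, Q_add, Q_smul, hu, B_smul_right, hy₀u'] at h2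
    have : (ν * ν - 1) * Q y₀ = 0 := by linear_combination h2
    rcases mul_eq_zero.1 this with h | h
    · linear_combination h
    · exact absurd h hy₀
  refine ⟨ν, hνν, hν.symm, fun z hz => ?_⟩
  have hz' : B u z = 0 := by rw [B_comm, hz]
  obtain ⟨c, hc⟩ := Submodule.mem_span_singleton.1 (hconj z hz')
  refine ⟨ν * c, ?_⟩
  have h1 : ν • sv s z = z + c • u := by rw [hc]; abel
  have h2 : sv s z = (ν * ν) • sv s z := by rw [hνν, one_smul]
  rw [h2, mul_smul, h1]
  module

end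

section

open Matrix QuadraticMap Module
open scoped commutatorElement

variable {F : Type*} [Field F] {ι : Type} [Fintype ι] [DecidableEq ι]
variable (Q : QuadraticForm F (ι → F))

set_option quotPrecheck false in
local notation "B" => QuadraticMap.polar (⇑Q)

/-! ### Chevalley–Warning: counting singular vectors modulo `p` -/

section CW

variable [Fintype F] (p : ℕ) [Fact p.Prime] [CharP F p]

/-- the number of singular vectors orthogonal to `k` given vectors is divisible by `p`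
(`k + 2 < n`) -/
theorem p_dvd_card_sing {k : ℕ} (t : Fin k → ι → F) (hk : k + 2 < Fintype.card ι) :
    p ∣ Nat.card {x : ι → F // Q x = 0 ∧ ∀ j, B (t j) x = 0} := by
  classical
  obtain ⟨A, hA⟩ := LinearMap.BilinMap.toQuadraticMap_surjective Q
  let qp : MvPolynomial ι F :=
    ∑ i, ∑ j, MvPolynomial.C (A (Pi.single i 1) (Pi.single j 1)) * MvPolynomial.X i *
      MvPolynomial.X j
  let lp : Fin k → MvPolynomial ι F := fun a =>
    ∑ i, MvPolynomial.C (B (t a) (Pi.single i 1)) * MvPolynomial.X i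
  let f : Option (Fin k) → MvPolynomial ι F := fun o => o.elim qp lp
  have hx : ∀ x : ι → F, x = ∑ i, x i • (Pi.single i (1 : F) : ι → F) := by
    intro x
    ext j
    simp [Finset.sum_apply, Pi.single_apply]
  have hqp : ∀ x : ι → F, MvPolynomial.eval x qp = Q x := by
    intro x
    conv_rhs => rw [hx x, ← hA, LinearMap.BilinMap.toQuadraticMap_apply]
    simp only [qp, map_sum, map_mul, MvPolynomial.eval_C, MvPolynomial.eval_X, LinearMap.sum_apply,
      map_smul, LinearMap.smul_apply, smul_eq_mul]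
    rw [Finset.sum_comm]
    apply Finset.sum_congr rfl
    intro i _
    rw [Finset.mul_sum]
    apply Finset.sum_congr rfl
    intro j _
    ring
  have hlp : ∀ (a : Fin k) (x : ι → F), MvPolynomial.eval x (lp a) = B (t a) x := by
    intro a x
    conv_rhs => rw [hx x]
    simp only [lp, map_sum, map_mul, MvPolynomial.eval_C, MvPolynomial.eval_X]
    have : B (t a) (∑ i, x i • (Pi.single i (1 : F) : ι → F)) =
        ∑ i, x i * B (t a) (Pi.single i 1) := by
      have h1 := map_sum (polarBilin Q (t a)) (fun i => x i • (Pi.single i (1 : F) : ι → F))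
        Finset.univ
      simp only [polarBilin_apply_apply, map_smul, smul_eq_mul] at h1
      exact h1
    rw [this]
    apply Finset.sum_congr rfl
    intro i _
    ring
  have hdq : qp.totalDegree ≤ 2 := by
    refine (MvPolynomial.totalDegree_finsetSum _ _).trans (Finset.sup_le ?_)
    intro i _
    refine (MvPolynomial.totalDegree_finsetSum _ _).trans (Finset.sup_le ?_)
    intro j _
    refine (MvPolynomial.totalDegree_mul _ _).trans ?_
    have h1 := MvPolynomial.totalDegree_mul (MvPolynomial.C (A (Pi.single i 1) (Pi.single j 1)))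
      (MvPolynomial.X i : MvPolynomial ι F)
    rw [MvPolynomial.totalDegree_C, MvPolynomial.totalDegree_X] at h1
    rw [MvPolynomial.totalDegree_X]
    omega
  have hdl : ∀ a, (lp a).totalDegree ≤ 1 := by
    intro a
    refine (MvPolynomial.totalDegree_finsetSum _ _).trans (Finset.sup_le ?_)
    intro i _
    refine (MvPolynomial.totalDegree_mul _ _).trans ?_
    rw [MvPolynomial.totalDegree_C, MvPolynomial.totalDegree_X]
  have hsum : ∑ o ∈ (Finset.univ : Finset (Option (Fin k))), (f o).totalDegree <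
      Fintype.card ι := by
    rw [Fintype.sum_option]
    have : ∑ a : Fin k, (f (some a)).totalDegree ≤ k := by
      calc ∑ a : Fin k, (f (some a)).totalDegree ≤ ∑ _a : Fin k, 1 :=
            Finset.sum_le_sum (fun a _ => hdl a)
        _ = k := by simp
    have h0 : (f none).totalDegree ≤ 2 := hdq
    omega
  have hdvd := char_dvd_card_solutions_of_sum_lt p hsum
  have hequiv : {x : ι → F // ∀ o ∈ (Finset.univ : Finset (Option (Fin k))),
      MvPolynomial.eval x (f o) = 0} ≃ {x : ι → F // Q x = 0 ∧ ∀ j, B (t j) x = 0} := by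
    refine Equiv.subtypeEquivRight (fun x => ?_)
    constructor
    · intro h
      refine ⟨?_, fun j => ?_⟩
      · rw [← hqp]; exact h none (Finset.mem_univ _)
      · rw [← hlp]; exact h (some j) (Finset.mem_univ _)
    · rintro ⟨h1, h2⟩ o _
      cases o with
      | none => show MvPolynomial.eval x qp = 0; rw [hqp, h1]
      | some a => show MvPolynomial.eval x (lp a) = 0; rw [hlp, h2]
  rw [Fintype.card_eq_nat_card] at hdvd
  rw [← Nat.card_congr hequiv]
  exact hdvd


instance : Finite ↥(Cfsg.Omega F ⇑Q) := by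
  classical
  exact inferInstance

/-- a `p`-subgroup of `Ω` fixes a non-zero singular vector -/
theorem exists_fixed_singular (hn : 3 ≤ Fintype.card ι) (P : Subgroup ↥(Cfsg.Omega F ⇑Q))
    (hP : IsPGroup p P) : ∃ u : ι → F, u ≠ 0 ∧ Q u = 0 ∧ ∀ s ∈ P, sv s u = u := by
  classical
  let Z := {x : ι → F // Q x = 0 ∧ ∀ j : Fin 0, B (Fin.elim0 j : ι → F) x = 0}
  letI act : MulAction ↥P Z :=
    { smul := fun s x => ⟨sv s.1 x.1, by rw [Q_sv]; exact x.2.1, fun j => j.elim0⟩
      one_smul := fun x => Subtype.ext (sv_one x.1)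
      mul_smul := fun s t x => Subtype.ext (sv_mul s.1 t.1 x.1) }
  have hcard : p ∣ Nat.card Z := p_dvd_card_sing Q p (fun j => Fin.elim0 j) (by omega)
  have h0 : (⟨0, Q_zero Q, fun j => j.elim0⟩ : Z) ∈ MulAction.fixedPoints ↥P Z := by
    intro s
    exact Subtype.ext (sv_zero s.1)
  obtain ⟨b, hb, hb0⟩ := hP.exists_fixed_point_of_prime_dvd_card_of_fixed_point Z hcard h0
  refine ⟨b.1, fun h => hb0 (Subtype.ext h.symm), b.2.1, ?_⟩
  intro s hs
  exact congrArg Subtype.val (hb ⟨s, hs⟩)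

/-- a `p`-subgroup of `Ω` fixing the singular vector `u` fixes a singular vector of `⟨u,f⟩^⊥`
modulo `u` -/
theorem exists_fixed_singular_perp (hn : 5 ≤ Fintype.card ι) {u f : ι → F} (hu : Q u = 0)
    (huf : B u f = 1) (P : Subgroup ↥(Cfsg.Omega F ⇑Q)) (hP : IsPGroup p P)
    (hfix : ∀ s ∈ P, sv s u = u) :
    ∃ v : ι → F, v ≠ 0 ∧ Q v = 0 ∧ B u v = 0 ∧ B f v = 0 ∧
      ∀ s ∈ P, ∃ c : F, sv s v = v + c • u := by
  classical
  have huu : B u u = 0 := by rw [B_self, hu, mul_zero]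
  let Z := {x : ι → F // Q x = 0 ∧ ∀ j : Fin 2, B ((![u, f] : Fin 2 → ι → F) j) x = 0}
  have hZ : ∀ x : Z, B u x.1 = 0 ∧ B f x.1 = 0 := fun x => ⟨x.2.2 0, x.2.2 1⟩
  have key : ∀ (s : ↥P) (x : Z), Q (sv s.1 x.1 - B (sv s.1 x.1) f • u) = 0 ∧
      B u (sv s.1 x.1 - B (sv s.1 x.1) f • u) = 0 ∧
      B f (sv s.1 x.1 - B (sv s.1 x.1) f • u) = 0 := by
    intro s x
    have h1 : B u (sv s.1 x.1) = 0 := by
      have h := B_sv s.1 u x.1
      rw [hfix s.1 s.2] at h
      rw [h]; exact (hZ x).1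
    have h1' : B (sv s.1 x.1) u = 0 := by rw [B_comm, h1]
    refine ⟨?_, ?_, ?_⟩
    · rw [Q_sub, Q_smul, hu, Q_sv, x.2.1, B_smul_right, h1']; ring
    · rw [B_sub_right, B_smul_right, huu, h1]; ring
    · rw [B_sub_right, B_smul_right, B_comm Q f u, huf, B_comm Q f]; ring
  letI act : MulAction ↥P Z :=
    { smul := fun s x => ⟨sv s.1 x.1 - B (sv s.1 x.1) f • u, (key s x).1, fun j => by
        fin_cases j
        · exact (key s x).2.1
        · exact (key s x).2.2⟩
      one_smul := fun x => by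
        apply Subtype.ext
        show sv (1 : ↥(Cfsg.Omega F ⇑Q)) x.1 - B (sv (1 : ↥(Cfsg.Omega F ⇑Q)) x.1) f • u = x.1
        rw [sv_one, B_comm, (hZ x).2, zero_smul, sub_zero]
      mul_smul := fun s t x => by
        apply Subtype.ext
        show sv (s.1 * t.1) x.1 - B (sv (s.1 * t.1) x.1) f • u =
          sv s.1 (sv t.1 x.1 - B (sv t.1 x.1) f • u) -
            B (sv s.1 (sv t.1 x.1 - B (sv t.1 x.1) f • u)) f • u
        rw [sv_mul, sv_sub, sv_smul, hfix s.1 s.2, B_sub_left, B_smul_left, huf]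
        module }
  have hcard : p ∣ Nat.card Z := p_dvd_card_sing Q p ![u, f] (by omega)
  have h0 : (⟨0, Q_zero Q, fun j => B_zero_right Q _⟩ : Z) ∈ MulAction.fixedPoints ↥P Z := by
    intro s
    apply Subtype.ext
    show sv s.1 0 - B (sv s.1 0) f • u = 0
    rw [sv_zero, B_zero_left, zero_smul, sub_zero]
  obtain ⟨b, hb, hb0⟩ := hP.exists_fixed_point_of_prime_dvd_card_of_fixed_point Z hcard h0
  refine ⟨b.1, fun h => hb0 (Subtype.ext h.symm), b.2.1, (hZ b).1, (hZ b).2, ?_⟩
  intro s hs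
  have h1 : sv s b.1 - B (sv s b.1) f • u = b.1 := congrArg Subtype.val (hb ⟨s, hs⟩)
  refine ⟨B (sv s b.1) f, ?_⟩
  rw [← h1]
  rw [h1]
  rw [← sub_eq_iff_eq_add]
  exact h1

end CW

end

section

open Matrix QuadraticMap Module
open scoped commutatorElement

variable {F : Type*} [Field F] {ι : Type} [Fintype ι] [DecidableEq ι]
variable (Q : QuadraticForm F (ι → F))

set_option quotPrecheck false in
local notation "B" => QuadraticMap.polar (⇑Q)

/-! ### totally singular lines and long root subgroups -/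

/-- a basis of a totally singular line -/
def TSPair (u v : ι → F) : Prop :=
  Q u = 0 ∧ Q v = 0 ∧ B u v = 0 ∧ LinearIndependent F ![u, v]

/-- the long root subgroup attached to a subspace `L` (used for totally singular lines): the
elements of `Ω` acting trivially on `L^⊥` and on `V/L` -/
def XL (L : Submodule F (ι → F)) : Subgroup ↥(Cfsg.Omega F ⇑Q) where
  carrier := {s | (∀ x, sv s x - x ∈ L) ∧ (∀ x ∈ perp Q L, sv s x = x) ∧ ∀ x ∈ L, sv s x = x}
  one_mem' := ⟨fun x => by rw [sv_one, sub_self]; exact zero_mem _, fun x _ => sv_one x,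
    fun x _ => sv_one x⟩
  mul_mem' := by
    rintro s t ⟨hs1, hs2, hs3⟩ ⟨ht1, ht2, ht3⟩
    refine ⟨fun x => ?_, fun x hx => by rw [sv_mul, ht2 x hx, hs2 x hx],
      fun x hx => by rw [sv_mul, ht3 x hx, hs3 x hx]⟩
    have : sv (s * t) x - x = (sv s (sv t x) - sv t x) + (sv t x - x) := by rw [sv_mul]; abel
    rw [this]
    exact add_mem (hs1 _) (ht1 _)
  inv_mem' := by
    rintro s ⟨hs1, hs2, hs3⟩
    refine ⟨fun x => ?_, fun x hx => ?_, fun x hx => ?_⟩
    · have := hs1 (sv s⁻¹ x)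
      rw [sv_sv_inv] at this
      have h2 : sv s⁻¹ x - x = -(x - sv s⁻¹ x) := by abel
      rw [h2]
      exact neg_mem this
    · conv_lhs => rw [← hs2 x hx]
      rw [sv_inv_sv]
    · conv_lhs => rw [← hs3 x hx]
      rw [sv_inv_sv]

variable {Q}

theorem mem_XL {L : Submodule F (ι → F)} {s : ↥(Cfsg.Omega F ⇑Q)} :
    s ∈ XL Q L ↔ (∀ x, sv s x - x ∈ L) ∧ (∀ x ∈ perp Q L, sv s x = x) ∧ ∀ x ∈ L, sv s x = x :=
  Iff.rfl

theorem TSPair.ne_zero_left {u v : ι → F} (h : TSPair Q u v) : u ≠ 0 := h.2.2.2.ne_zero 0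
theorem TSPair.ne_zero_right {u v : ι → F} (h : TSPair Q u v) : v ≠ 0 := h.2.2.2.ne_zero 1

theorem TSPair.symm {u v : ι → F} (h : TSPair Q u v) : TSPair Q v u := by
  refine ⟨h.2.1, h.1, by rw [B_comm]; exact h.2.2.1, ?_⟩
  have := h.2.2.2
  rw [LinearIndependent.pair_iff] at this ⊢
  intro s t hst
  have := this t s (by rw [add_comm]; exact hst)
  exact ⟨this.2, this.1⟩

theorem TSPair.not_mem {u v : ι → F} (h : TSPair Q u v) : v ∉ Submodule.span F {u} := by
  intro hv
  obtain ⟨c, hc⟩ := Submodule.mem_span_singleton.1 hv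
  have := h.2.2.2
  rw [LinearIndependent.pair_iff] at this
  have h1 := this c (-1) (by rw [hc]; module)
  exact one_ne_zero (neg_eq_zero.1 h1.2)

theorem TSPair.Q_comb {u v : ι → F} (h : TSPair Q u v) (a b : F) : Q (a • u + b • v) = 0 := by
  rw [Q_add, Q_smul, Q_smul, h.1, h.2.1, B_smul_left, B_smul_right, h.2.2.1]; ring

theorem TSPair.mem_perp_self {u v : ι → F} (h : TSPair Q u v) :
    Submodule.span F {u, v} ≤ perp Q (Submodule.span F {u, v}) := by
  intro x hx
  obtain ⟨a, b, rfl⟩ := Submodule.mem_span_pair.1 hx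
  have huu : B u u = 0 := by rw [B_self, h.1, mul_zero]
  have hvv : B v v = 0 := by rw [B_self, h.2.1, mul_zero]
  have hvu : B v u = 0 := by rw [B_comm, h.2.2.1]
  rw [mem_perp_span_pair]
  constructor
  · rw [B_add_right, B_smul_right, B_smul_right, huu, h.2.2.1]; ring
  · rw [B_add_right, B_smul_right, B_smul_right, hvu, hvv]; ring

variable (Q)
variable (hQ : (polarBilin Q).Nondegenerate) (hn : 5 ≤ Fintype.card ι)
include hQ

/-- dual vectors of an independent pair -/
theorem exists_dual_pair {u v : ι → F} (h : LinearIndependent F ![u, v]) :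
    ∃ u' : ι → F, B u u' = 1 ∧ B v u' = 0 := by
  have hv : u ∉ Submodule.span F {v} := by
    intro hu
    obtain ⟨c, hc⟩ := Submodule.mem_span_singleton.1 hu
    rw [LinearIndependent.pair_iff] at h
    have h1 := h (-1) c (by rw [hc]; module)
    exact one_ne_zero (neg_eq_zero.1 h1.1)
  obtain ⟨t, htv, htu⟩ : ∃ t, B v t = 0 ∧ B u t ≠ 0 := by
    by_contra hcon
    push Not at hcon
    exact hv (mem_span_singleton_of_perp hQ hcon)
  refine ⟨(B u t)⁻¹ • t, ?_, ?_⟩
  · rw [B_smul_right, inv_mul_cancel₀ htu]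
  · rw [B_smul_right, htv, mul_zero]

include hn

theorem rhoΩ_mem_XL {u v : ι → F} (h : TSPair Q u v) (c : F) :
    rhoΩ Q u (c • v) ∈ XL Q (Submodule.span F {u, v}) := by
  have hy : B u (c • v) = 0 := by rw [B_smul_right, h.2.2.1, mul_zero]
  have hQy : Q (c • v) = 0 := by rw [Q_smul, h.2.1, mul_zero]
  have key : ∀ x, sv (rhoΩ Q u (c • v)) x = x + (c * B x v) • u - (c * B x u) • v := by
    intro x
    rw [sv_rhoΩ Q hQ hn h.1 hy, hQy, B_smul_right]
    module
  refine ⟨fun x => ?_, fun x hx => ?_, fun x hx => ?_⟩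
  · rw [key, Submodule.mem_span_pair]
    exact ⟨c * B x v, -(c * B x u), by module⟩
  · have := mem_perp_span_pair.1 hx
    rw [key, B_comm Q x v, B_comm Q x u, this.1, this.2]
    module
  · have := mem_perp_span_pair.1 (h.mem_perp_self hx)
    rw [key, B_comm Q x v, B_comm Q x u, this.1, this.2]
    module

/-- parametrisation of the long root subgroup of a totally singular line -/
theorem exists_of_mem_XL {u v : ι → F} (h : TSPair Q u v) {s : ↥(Cfsg.Omega F ⇑Q)}
    (hs : s ∈ XL Q (Submodule.span F {u, v})) : ∃ c : F, s = rhoΩ Q u (c • v) := by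
  obtain ⟨hs1, hs2, hs3⟩ := hs
  obtain ⟨u', huu', hvu'⟩ := exists_dual_pair Q hQ h.2.2.2
  obtain ⟨v', hvv', huv'⟩ := exists_dual_pair Q hQ h.symm.2.2.2
  have huu : B u u = 0 := by rw [B_self, h.1, mul_zero]
  have hvv : B v v = 0 := by rw [B_self, h.2.1, mul_zero]
  have huv : B u v = 0 := h.2.2.1
  have hvu : B v u = 0 := by rw [B_comm, huv]
  obtain ⟨a₁, a₂, ha⟩ := Submodule.mem_span_pair.1 (hs1 u')
  obtain ⟨b₁, b₂, hb⟩ := Submodule.mem_span_pair.1 (hs1 v')
  have hsu' : sv s u' = u' + (a₁ • u + a₂ • v) := by rw [ha]; abel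
  have hsv' : sv s v' = v' + (b₁ • u + b₂ • v) := by rw [hb]; abel
  have hu'u : B u' u = 1 := by rw [B_comm, huu']
  have hu'v : B u' v = 0 := by rw [B_comm, hvu']
  have hv'v : B v' v = 1 := by rw [B_comm, hvv']
  have hv'u : B v' u = 0 := by rw [B_comm, huv']
  have ha₁ : a₁ = 0 := by
    have h1 := Q_sv s u'
    rw [hsu', Q_add, h.Q_comb, B_add_right, B_smul_right, B_smul_right, hu'u, hu'v] at h1
    linear_combination h1
  have hb₂ : b₂ = 0 := by
    have h1 := Q_sv s v'
    rw [hsv', Q_add, h.Q_comb, B_add_right, B_smul_right, B_smul_right, hv'u, hv'v] at h1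
    linear_combination h1
  have hab : b₁ + a₂ = 0 := by
    have h1 := B_sv s u' v'
    rw [hsu', hsv'] at h1
    simp only [B_add_left, B_add_right, B_smul_left, B_smul_right, huu, hvv, huv, hvu, hu'u, hu'v,
      huv', hvv'] at h1
    linear_combination h1
  refine ⟨-a₂, ext_sv (fun x => ?_)⟩
  have hy : B u (-a₂ • v) = 0 := by rw [B_smul_right, huv, mul_zero]
  have hQy : Q (-a₂ • v) = 0 := by rw [Q_smul, h.2.1, mul_zero]
  -- decompose `x`
  obtain ⟨w, hw⟩ : ∃ w, w = x - B x u • u' - B x v • v' := ⟨_, rfl⟩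
  have hwp : w ∈ perp Q (Submodule.span F {u, v}) := by
    rw [mem_perp_span_pair, hw]
    constructor
    · rw [B_sub_right, B_sub_right, B_smul_right, B_smul_right, huu', huv', B_comm Q u x]; ring
    · rw [B_sub_right, B_sub_right, B_smul_right, B_smul_right, hvu', hvv', B_comm Q v x]; ring
  have hx : x = w + B x u • u' + B x v • v' := by rw [hw]; abel
  have hsx : sv s x = x + (B x u * a₂) • v + (B x v * b₁) • u := by
    have e1 : sv s x = sv s (w + B x u • u' + B x v • v') := by rw [← hx]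
    have e2 : x + (B x u * a₂) • v + (B x v * b₁) • u =
        (w + B x u • u' + B x v • v') + (B x u * a₂) • v + (B x v * b₁) • u := by rw [← hx]
    rw [e1, e2, sv_add, sv_add, sv_smul, sv_smul, hs2 w hwp, hsu', hsv', ha₁, hb₂]
    module
  rw [hsx, sv_rhoΩ Q hQ hn h.1 hy, hQy, B_smul_right]
  have : b₁ = -a₂ := by linear_combination hab
  rw [this]
  module

theorem mem_XL_iff {u v : ι → F} (h : TSPair Q u v) {s : ↥(Cfsg.Omega F ⇑Q)} :
    s ∈ XL Q (Submodule.span F {u, v}) ↔ ∃ c : F, s = rhoΩ Q u (c • v) :=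
  ⟨exists_of_mem_XL Q hQ hn h, fun ⟨c, hc⟩ => hc ▸ rhoΩ_mem_XL Q hQ hn h c⟩

end

end Cfsg.Agent.Lib.H13.AutPO
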