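import Mathlib
import Cfsg.Prelude.Def_Classical
import Cfsg.Prelude.Def_LieClassical
import Cfsg.Agent.Lib.H13.AutPSLField

/-!
Automorphisms of `PSU_n(q)`, part 1: the involution `τ` of the field (`UF`), the hermitian form `H`, elements of `SU` acting on
vectors (`sv`), Eichler transformations `EL`, the groups `Q_e` and `T_e`, isotropic vectors, the centre of `SU`.
-/

set_option autoImplicit false
set_option linter.unusedSectionVars false
set_option linter.unusedVariables false
set_option linter.unusedSimpArgs false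
set_option linter.deprecated false

namespace Cfsg.Agent.Lib.H13.AutPSU

section

open Matrix

/-- data of the involutory field automorphism `x ↦ x ^ q` of a field with `q ^ 2` elements -/
structure UF (F : Type*) [Field F] (q : ℕ) where
  τ : F ≃+* F
  hτ : ∀ a, τ a = a ^ q
  hτ2 : ∀ a, τ (τ a) = a
  hne : ∃ a, τ a ≠ a
  tr_surj : ∀ c, τ c = c → ∃ a, a + τ a = c
  nm_surj : ∀ c, τ c = c → c ≠ 0 → ∃ a, a * τ a = c

section ofCard

variable {F : Type*} [Field F] [Fintype F] {p f q : ℕ} [Fact p.Prime]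

theorem exists_tau (hq : q = p ^ f) (hF : Fintype.card F = q ^ 2) :
    ∃ τ : F ≃+* F, (∀ a, τ a = a ^ q) ∧ (∀ a, τ (τ a) = a) := by
  haveI : CharP F p := by
    have : Fintype.card F = p ^ (2 * f) := by rw [hF, hq, ← pow_mul, mul_comm]
    exact charP_of_card_eq_prime_pow this
  haveI : ExpChar F p := ExpChar.prime Fact.out
  refine ⟨iterateFrobeniusEquiv F p f, ?_, ?_⟩
  · intro a
    rw [iterateFrobeniusEquiv_def, hq]
  · intro a
    rw [iterateFrobeniusEquiv_def, iterateFrobeniusEquiv_def, ← pow_mul, ← hq, ← sq, ← hF,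
      FiniteField.pow_card]

theorem two_le_q (hq : q = p ^ f) (hF : Fintype.card F = q ^ 2) : 2 ≤ q := by
  have h1 : 1 < Fintype.card F := Fintype.one_lt_card
  rw [hF] at h1
  by_contra h
  have : q ≤ 1 := by omega
  have : q ^ 2 ≤ 1 := by
    calc q ^ 2 ≤ 1 ^ 2 := Nat.pow_le_pow_left this 2
      _ = 1 := one_pow 2
  omega

theorem tau_ne (hq : q = p ^ f) (hF : Fintype.card F = q ^ 2) (τ : F ≃+* F)
    (hτ : ∀ a, τ a = a ^ q) : ∃ a, τ a ≠ a := by
  classical
  by_contra hcon
  push Not at hcon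
  have h2 := two_le_q hq hF
  obtain ⟨g, hg⟩ := IsCyclic.exists_generator (α := Fˣ)
  have hord : orderOf g = q ^ 2 - 1 := by
    rw [orderOf_eq_card_of_forall_mem_zpowers hg, Nat.card_eq_fintype_card, Fintype.card_units, hF]
  have h1 : (g : F) ^ q = g := by rw [← hτ]; exact hcon _
  have h3 : g ^ (q - 1) = 1 := by
    apply Units.ext
    rw [Units.val_pow_eq_pow_val, Units.val_one]
    have hg0 : (g : F) ≠ 0 := g.ne_zero
    have : (g : F) ^ (q - 1) * g = 1 * g := by
      rw [← pow_succ, Nat.sub_add_cancel (by omega), h1, one_mul]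
    exact mul_right_cancel₀ hg0 this
  have h4 := orderOf_dvd_of_pow_eq_one h3
  rw [hord] at h4
  have h5 : q ^ 2 - 1 ≤ q - 1 := Nat.le_of_dvd (by omega) h4
  have : q < q ^ 2 := by nlinarith
  omega

theorem tau_order (hq : q = p ^ f) (hF : Fintype.card F = q ^ 2) (τ : F ≃+* F)
    (hτ : ∀ a, τ a = a ^ q) (hτ2 : ∀ a, τ (τ a) = a) : orderOf τ = 2 := by
  apply orderOf_eq_prime
  · ext a
    rw [sq, RingAut.mul_apply, hτ2, RingAut.one_apply]
  · intro h
    obtain ⟨a, ha⟩ := tau_ne hq hF τ hτ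
    apply ha
    rw [h, RingAut.one_apply]

/-- the data for a field with `q ^ 2` elements -/
noncomputable def UF.ofCard (hq : q = p ^ f) (hF : Fintype.card F = q ^ 2) : UF F q where
  τ := (exists_tau hq hF).choose
  hτ := (exists_tau hq hF).choose_spec.1
  hτ2 := (exists_tau hq hF).choose_spec.2
  hne := tau_ne hq hF _ (exists_tau hq hF).choose_spec.1
  tr_surj := by
    obtain ⟨h1, h2⟩ := (exists_tau hq hF).choose_spec
    obtain ⟨θ, hθ⟩ : ∃ θ, θ + (exists_tau hq hF).choose θ ≠ 0 := by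
      by_contra hcon
      push Not at hcon
      have h11 := hcon 1
      rw [map_one] at h11
      obtain ⟨a, ha⟩ := tau_ne hq hF _ h1
      apply ha
      have h3 := hcon a
      have h4 : (exists_tau hq hF).choose a = -a := by linear_combination h3
      rw [h4]
      linear_combination (-a) * h11
    intro c hc
    refine ⟨c * θ / (θ + (exists_tau hq hF).choose θ), ?_⟩
    have hfix : (exists_tau hq hF).choose (θ + (exists_tau hq hF).choose θ) =
        θ + (exists_tau hq hF).choose θ := by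
      rw [map_add, h2, add_comm]
    rw [map_div₀, map_mul, hc, hfix]
    field_simp
  nm_surj := by
    obtain ⟨h1, h2⟩ := (exists_tau hq hF).choose_spec
    intro c hc hc0
    obtain ⟨d, hd0, hd⟩ := AutPSL.Nm_surjective (exists_tau hq hF).choose (r := 2) (by norm_num)
      (tau_order hq hF _ h1 h2) c hc0 hc
    refine ⟨d, ?_⟩
    rw [← hd]
    simp [AutPSL.Nm, Finset.prod_range_succ]

end ofCard

end

section

open Matrix

variable {F : Type*} [Field F] {n q : ℕ} (D : UF F q)

/-- conjugate vector -/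
def cj (v : Fin n → F) : Fin n → F := fun i => D.τ (v i)

/-- the hermitian form -/
def H (u v : Fin n → F) : F := u ⬝ᵥ cj D v

theorem H_eq_hermForm (u v : Fin n → F) : H D u v = Cfsg.hermForm n F q u v := by
  simp [H, cj, Cfsg.hermForm, dotProduct, D.hτ]

@[simp] theorem cj_add (u v : Fin n → F) : cj D (u + v) = cj D u + cj D v := by
  ext i; simp [cj]

@[simp] theorem cj_smul (c : F) (v : Fin n → F) : cj D (c • v) = D.τ c • cj D v := by
  ext i; simp [cj]

@[simp] theorem cj_zero : cj D (0 : Fin n → F) = 0 := by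
  ext i; simp [cj]

@[simp] theorem cj_neg (v : Fin n → F) : cj D (-v) = -cj D v := by
  ext i; simp [cj]

@[simp] theorem cj_sub (u v : Fin n → F) : cj D (u - v) = cj D u - cj D v := by
  ext i; simp [cj]

theorem cj_cj (v : Fin n → F) : cj D (cj D v) = v := by
  ext i; simp [cj, D.hτ2]

theorem cj_eq_zero {v : Fin n → F} : cj D v = 0 ↔ v = 0 := by
  constructor
  · intro h
    rw [← cj_cj D v, h, cj_zero]
  · rintro rfl
    exact cj_zero D

theorem H_add_left (u u' v : Fin n → F) : H D (u + u') v = H D u v + H D u' v := by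
  simp [H, add_dotProduct]

theorem H_add_right (u v v' : Fin n → F) : H D u (v + v') = H D u v + H D u v' := by
  simp [H, dotProduct_add]

theorem H_smul_left (c : F) (u v : Fin n → F) : H D (c • u) v = c * H D u v := by
  simp [H, smul_dotProduct]

theorem H_smul_right (c : F) (u v : Fin n → F) : H D u (c • v) = D.τ c * H D u v := by
  simp [H, dotProduct_smul]

@[simp] theorem H_zero_left (v : Fin n → F) : H D 0 v = 0 := by simp [H]

@[simp] theorem H_zero_right (u : Fin n → F) : H D u 0 = 0 := by simp [H]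

theorem H_neg_left (u v : Fin n → F) : H D (-u) v = -H D u v := by simp [H]

theorem H_neg_right (u v : Fin n → F) : H D u (-v) = -H D u v := by simp [H]

theorem H_sub_left (u u' v : Fin n → F) : H D (u - u') v = H D u v - H D u' v := by
  simp [H, sub_dotProduct]

theorem H_sub_right (u v v' : Fin n → F) : H D u (v - v') = H D u v - H D u v' := by
  simp [H, dotProduct_sub]

theorem H_symm (u v : Fin n → F) : D.τ (H D u v) = H D v u := by
  simp only [H, dotProduct, cj, map_sum, map_mul, D.hτ2]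
  apply Finset.sum_congr rfl
  intro i _
  ring

theorem H_self_fixed (u : Fin n → F) : D.τ (H D u u) = H D u u := H_symm D u u

theorem H_eq_zero_symm {u v : Fin n → F} (h : H D u v = 0) : H D v u = 0 := by
  rw [← H_symm, h, map_zero]

theorem H_single_right (u : Fin n → F) (i : Fin n) : H D u (Pi.single i 1) = u i := by
  have : cj D (Pi.single i (1 : F)) = Pi.single i 1 := by
    ext j
    by_cases h : j = i
    · subst h; simp [cj]
    · simp [cj, Pi.single_eq_of_ne h]
  rw [H, this, dotProduct_single_one]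

theorem H_nondeg_left {u : Fin n → F} (h : ∀ v, H D u v = 0) : u = 0 := by
  ext i
  rw [← H_single_right D u i, h, Pi.zero_apply]

theorem H_nondeg_right {v : Fin n → F} (h : ∀ u, H D u v = 0) : v = 0 := by
  apply H_nondeg_left D
  intro u
  exact H_eq_zero_symm D (h u)

theorem exists_H_ne_zero {v : Fin n → F} (hv : v ≠ 0) : ∃ u, H D u v ≠ 0 := by
  by_contra hcon
  push Not at hcon
  exact hv (H_nondeg_right D hcon)

/-- `H (M v) w` in terms of the dot product -/
theorem H_mulVec_left (M : Matrix (Fin n) (Fin n) F) (u v : Fin n → F) :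
    H D (M *ᵥ u) v = u ⬝ᵥ (Mᵀ *ᵥ cj D v) := by
  rw [H, dotProduct_mulVec, vecMul_transpose]

theorem cj_mulVec (M : Matrix (Fin n) (Fin n) F) (v : Fin n → F) :
    cj D (M *ᵥ v) = (M.map D.τ) *ᵥ cj D v := by
  ext i
  simp [cj, mulVec, dotProduct, map_sum]

/-- skew elements -/
def Skew (a : F) : Prop := D.τ a = -a

theorem Skew.zero : Skew D 0 := by simp [Skew]

theorem Skew.add {a b : F} (ha : Skew D a) (hb : Skew D b) : Skew D (a + b) := by
  unfold Skew at *
  rw [map_add, ha, hb]; ring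

theorem Skew.neg {a : F} (ha : Skew D a) : Skew D (-a) := by
  unfold Skew at *
  rw [map_neg, ha]

theorem Skew.mul_fixed {a c : F} (ha : Skew D a) (hc : D.τ c = c) : Skew D (c * a) := by
  unfold Skew at *
  rw [map_mul, ha, hc]; ring

theorem skew_sub (a : F) : Skew D (a - D.τ a) := by
  unfold Skew
  rw [map_sub, D.hτ2]; ring

theorem exists_skew_ne_zero : ∃ a, Skew D a ∧ a ≠ 0 := by
  obtain ⟨a, ha⟩ := D.hne
  exact ⟨a - D.τ a, skew_sub D a, fun h => ha (sub_eq_zero.1 h).symm⟩

theorem fixed_mul_tau (a : F) : D.τ (a * D.τ a) = a * D.τ a := by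
  rw [map_mul, D.hτ2, mul_comm]

theorem fixed_add_tau (a : F) : D.τ (a + D.τ a) = a + D.τ a := by
  rw [map_add, D.hτ2, add_comm]

/-- quotient of skew elements is fixed -/
theorem fixed_div_skew {a b : F} (ha : Skew D a) (hb : Skew D b) : D.τ (a / b) = a / b := by
  unfold Skew at *
  rw [map_div₀, ha, hb, neg_div_neg_eq]

theorem skew_eq_mul {a b : F} (ha : Skew D a) (hb : Skew D b) (hb0 : b ≠ 0) :
    ∃ c, D.τ c = c ∧ a = c * b :=
  ⟨a / b, fixed_div_skew D ha hb, by field_simp⟩

end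

section

open Matrix

variable {F : Type*} [Field F] {n q : ℕ} (D : UF F q)

/-- the matrix of an element of `SU` -/
def mat (s : ↥(Cfsg.SU n F q)) : Matrix (Fin n) (Fin n) F := s.1.1

theorem slToMat_apply (s : SpecialLinearGroup (Fin n) F) : Cfsg.slToMat n F s = s.1 := rfl

@[simp] theorem mat_one : mat (1 : ↥(Cfsg.SU n F q)) = 1 := rfl

@[simp] theorem mat_mul (s t : ↥(Cfsg.SU n F q)) : mat (s * t) = mat s * mat t := rfl

theorem mat_mul_inv (s : ↥(Cfsg.SU n F q)) : mat s * mat s⁻¹ = 1 := by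
  rw [← mat_mul, mul_inv_cancel, mat_one]

theorem mat_inv_mul (s : ↥(Cfsg.SU n F q)) : mat s⁻¹ * mat s = 1 := by
  rw [← mat_mul, inv_mul_cancel, mat_one]

theorem mat_det (s : ↥(Cfsg.SU n F q)) : (mat s).det = 1 := s.1.2

theorem mat_injective : Function.Injective (mat : ↥(Cfsg.SU n F q) → Matrix (Fin n) (Fin n) F) := by
  intro s t h
  apply Subtype.ext
  apply Subtype.ext
  exact h

/-- action on vectors -/
def sv (s : ↥(Cfsg.SU n F q)) (v : Fin n → F) : Fin n → F := mat s *ᵥ v

@[simp] theorem sv_one (v : Fin n → F) : sv (1 : ↥(Cfsg.SU n F q)) v = v := by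
  simp [sv]

theorem sv_mul (s t : ↥(Cfsg.SU n F q)) (v : Fin n → F) : sv (s * t) v = sv s (sv t v) := by
  simp [sv, mulVec_mulVec]

@[simp] theorem sv_inv_sv (s : ↥(Cfsg.SU n F q)) (v : Fin n → F) : sv s⁻¹ (sv s v) = v := by
  rw [← sv_mul, inv_mul_cancel, sv_one]

@[simp] theorem sv_sv_inv (s : ↥(Cfsg.SU n F q)) (v : Fin n → F) : sv s (sv s⁻¹ v) = v := by
  rw [← sv_mul, mul_inv_cancel, sv_one]

@[simp] theorem sv_add (s : ↥(Cfsg.SU n F q)) (u v : Fin n → F) : sv s (u + v) = sv s u + sv s v :=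
  mulVec_add _ _ _

@[simp] theorem sv_sub (s : ↥(Cfsg.SU n F q)) (u v : Fin n → F) : sv s (u - v) = sv s u - sv s v :=
  mulVec_sub _ _ _

@[simp] theorem sv_neg (s : ↥(Cfsg.SU n F q)) (v : Fin n → F) : sv s (-v) = -sv s v :=
  mulVec_neg _ _

@[simp] theorem sv_smul (s : ↥(Cfsg.SU n F q)) (c : F) (v : Fin n → F) : sv s (c • v) = c • sv s v :=
  mulVec_smul _ _ _

@[simp] theorem sv_zero (s : ↥(Cfsg.SU n F q)) : sv s (0 : Fin n → F) = 0 := mulVec_zero _

theorem sv_injective (s : ↥(Cfsg.SU n F q)) : Function.Injective (sv s) := by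
  intro u v h
  rw [← sv_inv_sv s u, h, sv_inv_sv]

theorem sv_eq_zero_iff (s : ↥(Cfsg.SU n F q)) {v : Fin n → F} : sv s v = 0 ↔ v = 0 := by
  constructor
  · intro h
    apply sv_injective s
    rw [h, sv_zero]
  · rintro rfl
    exact sv_zero s

theorem sv_ne_zero (s : ↥(Cfsg.SU n F q)) {v : Fin n → F} (hv : v ≠ 0) : sv s v ≠ 0 :=
  fun h => hv ((sv_eq_zero_iff s).1 h)

theorem H_sv (s : ↥(Cfsg.SU n F q)) (u v : Fin n → F) : H D (sv s u) (sv s v) = H D u v := by
  rw [H_eq_hermForm, H_eq_hermForm]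
  exact s.2 u v

theorem H_sv_left (s : ↥(Cfsg.SU n F q)) (u v : Fin n → F) :
    H D (sv s u) v = H D u (sv s⁻¹ v) := by
  rw [← H_sv D s⁻¹, sv_inv_sv]

theorem H_sv_right (s : ↥(Cfsg.SU n F q)) (u v : Fin n → F) :
    H D u (sv s v) = H D (sv s⁻¹ u) v := by
  rw [← H_sv D s⁻¹, sv_inv_sv]

theorem ext_sv {s t : ↥(Cfsg.SU n F q)} (h : ∀ v, sv s v = sv t v) : s = t := by
  apply mat_injective
  apply Matrix.toLin'.injective
  apply LinearMap.ext
  intro v
  exact h v

/-- build an element of `SU` -/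
def mkSU (M : Matrix (Fin n) (Fin n) F) (hdet : M.det = 1)
    (h : ∀ u v, H D (M *ᵥ u) (M *ᵥ v) = H D u v) : ↥(Cfsg.SU n F q) :=
  ⟨⟨M, hdet⟩, by
    intro u v
    rw [← H_eq_hermForm D, ← H_eq_hermForm D]
    exact h u v⟩

@[simp] theorem mat_mkSU (M : Matrix (Fin n) (Fin n) F) (hdet : M.det = 1)
    (h : ∀ u v, H D (M *ᵥ u) (M *ᵥ v) = H D u v) : mat (mkSU D M hdet h) = M := rfl

theorem sv_mkSU (M : Matrix (Fin n) (Fin n) F) (hdet : M.det = 1)
    (h : ∀ u v, H D (M *ᵥ u) (M *ᵥ v) = H D u v) (v : Fin n → F) :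
    sv (mkSU D M hdet h) v = M *ᵥ v := rfl

/-- conjugation: `s t s⁻¹` acts as `s ∘ t ∘ s⁻¹` -/
theorem sv_conj (s t : ↥(Cfsg.SU n F q)) (v : Fin n → F) :
    sv (s * t * s⁻¹) v = sv s (sv t (sv s⁻¹ v)) := by
  rw [sv_mul, sv_mul]

/-- proportional vectors (nonzero scalar) -/
def Par (v w : Fin n → F) : Prop := ∃ c : F, c ≠ 0 ∧ w = c • v

theorem Par.refl (v : Fin n → F) : Par v v := ⟨1, one_ne_zero, (one_smul _ _).symm⟩

theorem Par.symm {v w : Fin n → F} (h : Par v w) : Par w v := by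
  obtain ⟨c, hc, rfl⟩ := h
  exact ⟨c⁻¹, inv_ne_zero hc, by rw [smul_smul, inv_mul_cancel₀ hc, one_smul]⟩

theorem Par.trans {u v w : Fin n → F} (h : Par u v) (h' : Par v w) : Par u w := by
  obtain ⟨c, hc, rfl⟩ := h
  obtain ⟨d, hd, rfl⟩ := h'
  exact ⟨d * c, mul_ne_zero hd hc, by rw [smul_smul]⟩

theorem Par.ne_zero {v w : Fin n → F} (h : Par v w) (hv : v ≠ 0) : w ≠ 0 := by
  obtain ⟨c, hc, rfl⟩ := h
  exact smul_ne_zero hc hv

theorem Par.sv {v w : Fin n → F} (h : Par v w) (s : ↥(Cfsg.SU n F q)) : Par (sv s v) (sv s w) := by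
  obtain ⟨c, hc, rfl⟩ := h
  exact ⟨c, hc, sv_smul s c v⟩

theorem Par.H_left {v w : Fin n → F} (h : Par v w) (x : Fin n → F) :
    H D w x = 0 ↔ H D v x = 0 := by
  obtain ⟨c, hc, rfl⟩ := h
  rw [H_smul_left]
  simp [hc]

theorem Par.H_right {v w : Fin n → F} (h : Par v w) (x : Fin n → F) :
    H D x w = 0 ↔ H D x v = 0 := by
  obtain ⟨c, hc, rfl⟩ := h
  rw [H_smul_right]
  simp [hc]

end

section

open Matrix

variable {F : Type*} [Field F] {n q : ℕ} (D : UF F q)

/-- if `x` is orthogonal to everything orthogonal to `e`, then `x` is a multiple of `e` -/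
theorem mem_span_of_perp {e x : Fin n → F} (he : e ≠ 0)
    (h : ∀ w, H D w e = 0 → H D w x = 0) : ∃ c : F, x = c • e := by
  by_cases hx : x = 0
  · exact ⟨0, by rw [hx, zero_smul]⟩
  by_contra hcon
  have hnp : ¬ AutPSL.Par (cj D e) (cj D x) := by
    rintro ⟨c, hc, hce⟩
    apply hcon
    refine ⟨D.τ c, ?_⟩
    rw [← cj_cj D x, hce, cj_smul, cj_cj]
  have hx0 : cj D x ≠ 0 := fun h0 => hx ((cj_eq_zero D).1 h0)
  obtain ⟨w, hw1, hw2⟩ := AutPSL.exists_dual_of_not_par hx0 hnp
  have h1 : H D w e = 0 := by rw [H, dotProduct_comm]; exact hw2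
  have h2 := h w h1
  rw [H, dotProduct_comm, hw1] at h2
  exact one_ne_zero h2

/-- scaling to get a prescribed value -/
theorem exists_H_eq_one {e : Fin n → F} (he : e ≠ 0) : ∃ x, H D x e = 1 := by
  obtain ⟨u, hu⟩ := exists_H_ne_zero D he
  exact ⟨(H D u e)⁻¹ • u, by rw [H_smul_left, inv_mul_cancel₀ hu]⟩

/-- hyperbolic partner -/
theorem exists_partner {e : Fin n → F} (he : e ≠ 0) (hee : H D e e = 0) :
    ∃ f, H D f f = 0 ∧ H D f e = 1 ∧ H D e f = 1 := by
  obtain ⟨x, hx⟩ := exists_H_eq_one D he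
  obtain ⟨c, hc⟩ := D.tr_surj (-(H D x x)) (by rw [map_neg, H_self_fixed])
  have hex : H D e x = 1 := by rw [← H_symm, hx, map_one]
  refine ⟨x + D.τ c • e, ?_, ?_, ?_⟩
  · simp only [H_add_left, H_add_right, H_smul_left, H_smul_right, hee, hx, hex, D.hτ2]
    linear_combination hc
  · rw [H_add_left, H_smul_left, hx, hee]; ring
  · rw [H_add_right, H_smul_right, hex, hee, D.hτ2]; ring

end

section

open Matrix

variable {F : Type*} [Field F] {n q : ℕ} (D : UF F q)

/-- the matrix of an Eichler transformation -/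
def eich (e w : Fin n → F) (b : F) : Matrix (Fin n) (Fin n) F :=
  AutPSL.tm (w + b • e) (cj D e) * AutPSL.tm e (-(cj D w))

theorem eich_mulVec {e w : Fin n → F} {b : F} (he : H D e e = 0) (x : Fin n → F) :
    eich D e w b *ᵥ x = x + H D x e • w - H D x w • e + (b * H D x e) • e := by
  unfold eich
  rw [← mulVec_mulVec, AutPSL.tm_mulVec, AutPSL.tm_mulVec]
  have h1 : cj D e ⬝ᵥ (x + (-cj D w ⬝ᵥ x) • e) = H D x e := by
    rw [dotProduct_add, dotProduct_smul, dotProduct_comm, dotProduct_comm (cj D e) e]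
    change H D x e + _ • H D e e = _
    rw [he, smul_zero, add_zero]
  have h2 : -cj D w ⬝ᵥ x = - H D x w := by
    rw [neg_dotProduct, dotProduct_comm]; rfl
  rw [h1, h2]
  module

theorem det_eich {e w : Fin n → F} {b : F} (he : H D e e = 0) (hw : H D w e = 0) :
    (eich D e w b).det = 1 := by
  unfold eich
  rw [det_mul, AutPSL.det_tm, AutPSL.det_tm]
  have h1 : cj D e ⬝ᵥ (w + b • e) = 0 := by
    rw [dotProduct_add, dotProduct_smul, dotProduct_comm, dotProduct_comm (cj D e) e]
    change H D w e + b • H D e e = 0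
    rw [hw, he, smul_zero, add_zero]
  have h2 : -cj D w ⬝ᵥ e = 0 := by
    rw [neg_dotProduct, dotProduct_comm]
    change - H D e w = 0
    rw [H_eq_zero_symm D hw, neg_zero]
  rw [h1, h2]; ring

/-- the hypotheses under which `eich` is unitary -/
def ELOK (e w : Fin n → F) (b : F) : Prop :=
  H D e e = 0 ∧ H D w e = 0 ∧ b + D.τ b + H D w w = 0

theorem eich_pres {e w : Fin n → F} {b : F} (h : ELOK D e w b) (x y : Fin n → F) :
    H D (eich D e w b *ᵥ x) (eich D e w b *ᵥ y) = H D x y := by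
  obtain ⟨he, hw, hb⟩ := h
  have hew : H D e w = 0 := H_eq_zero_symm D hw
  rw [eich_mulVec D he, eich_mulVec D he]
  simp only [H_add_left, H_add_right, H_sub_left, H_sub_right, H_smul_left, H_smul_right,
    he, hw, hew, map_mul, H_symm, mul_zero, zero_mul, add_zero, sub_zero, zero_add]
  linear_combination (H D x e * H D e y) * hb

open Classical in
/-- Eichler transformation as an element of `SU` (the identity when the hypotheses fail) -/
noncomputable def EL (e w : Fin n → F) (b : F) : ↥(Cfsg.SU n F q) :=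
  if h : ELOK D e w b then mkSU D (eich D e w b) (det_eich D h.1 h.2.1) (eich_pres D h) else 1

theorem sv_EL {e w : Fin n → F} {b : F} (h : ELOK D e w b) (x : Fin n → F) :
    sv (EL D e w b) x = x + H D x e • w - H D x w • e + (b * H D x e) • e := by
  unfold EL
  rw [dif_pos h, sv_mkSU, eich_mulVec D h.1]

theorem ELOK.mul {e w w' : Fin n → F} {b b' : F} (h : ELOK D e w b) (h' : ELOK D e w' b') :
    ELOK D e (w + w') (b + b' - H D w' w) := by
  obtain ⟨he, hw, hb⟩ := h
  obtain ⟨_, hw', hb'⟩ := h'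
  refine ⟨he, by rw [H_add_left, hw, hw', add_zero], ?_⟩
  simp only [H_add_left, H_add_right, map_add, map_sub, H_symm]
  linear_combination hb + hb'

theorem EL_mul {e w w' : Fin n → F} {b b' : F} (h : ELOK D e w b) (h' : ELOK D e w' b') :
    EL D e w b * EL D e w' b' = EL D e (w + w') (b + b' - H D w' w) := by
  apply ext_sv
  intro x
  have hew : H D e w = 0 := H_eq_zero_symm D h.2.1
  rw [sv_mul, sv_EL D h', sv_EL D h, sv_EL D (h.mul D h')]
  simp only [H_add_left, H_add_right, H_sub_left, H_sub_right, H_smul_left, H_smul_right,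
    h.1, h.2.1, h'.2.1, hew, mul_zero, zero_mul, add_zero, sub_zero]
  module

theorem ELOK.zero {e : Fin n → F} (he : H D e e = 0) : ELOK D e 0 0 := by
  refine ⟨he, H_zero_left D e, ?_⟩
  rw [map_zero, H_zero_left]; ring

theorem EL_zero {e : Fin n → F} (he : H D e e = 0) : EL D e 0 0 = 1 := by
  apply ext_sv
  intro x
  rw [sv_EL D (ELOK.zero D he), sv_one]
  simp

theorem ELOK.inv {e w : Fin n → F} {b : F} (h : ELOK D e w b) : ELOK D e (-w) (D.τ b) := by
  obtain ⟨he, hw, hb⟩ := h
  refine ⟨he, by rw [H_neg_left, hw, neg_zero], ?_⟩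
  rw [D.hτ2, H_neg_left, H_neg_right]
  linear_combination hb

theorem EL_inv {e w : Fin n → F} {b : F} (h : ELOK D e w b) :
    (EL D e w b)⁻¹ = EL D e (-w) (D.τ b) := by
  apply inv_eq_of_mul_eq_one_right
  rw [EL_mul D h (h.inv D)]
  have h1 : w + -w = 0 := by abel
  have h2 : b + D.τ b - H D (-w) w = 0 := by
    rw [H_neg_left]; linear_combination h.2.2
  rw [h1, h2, EL_zero D h.1]

theorem ELOK.conj {e w : Fin n → F} {b : F} (h : ELOK D e w b) (s : ↥(Cfsg.SU n F q)) :
    ELOK D (sv s e) (sv s w) b := by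
  obtain ⟨he, hw, hb⟩ := h
  exact ⟨by rw [H_sv, he], by rw [H_sv, hw], by rw [H_sv]; exact hb⟩

theorem EL_conj {e w : Fin n → F} {b : F} (h : ELOK D e w b) (s : ↥(Cfsg.SU n F q)) :
    s * EL D e w b * s⁻¹ = EL D (sv s e) (sv s w) b := by
  apply ext_sv
  intro x
  rw [sv_conj, sv_EL D h, sv_EL D (h.conj D s)]
  simp only [sv_add, sv_sub, sv_smul, sv_sv_inv]
  rw [H_sv_right D s x e, H_sv_right D s x w]

/-- scaling the centre -/
theorem ELOK.smul {e w : Fin n → F} {b c : F} (h : ELOK D e w b) (hc : c ≠ 0) :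
    ELOK D (c • e) ((D.τ c)⁻¹ • w) (b / (c * D.τ c)) := by
  obtain ⟨he, hw, hb⟩ := h
  have hc' : D.τ c ≠ 0 := (map_ne_zero D.τ).2 hc
  refine ⟨by rw [H_smul_left, H_smul_right, he, mul_zero, mul_zero],
    by rw [H_smul_left, H_smul_right, hw, mul_zero, mul_zero], ?_⟩
  rw [H_smul_left, H_smul_right, map_div₀, map_mul, D.hτ2, map_inv₀, D.hτ2]
  field_simp
  linear_combination hb

theorem EL_smul {e w : Fin n → F} {b c : F} (h : ELOK D e w b) (hc : c ≠ 0) :
    EL D (c • e) ((D.τ c)⁻¹ • w) (b / (c * D.τ c)) = EL D e w b := by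
  have hc' : D.τ c ≠ 0 := (map_ne_zero D.τ).2 hc
  apply ext_sv
  intro x
  rw [sv_EL D h, sv_EL D (h.smul D hc)]
  simp only [H_smul_right, smul_smul]
  have h1 : D.τ c * H D x e * (D.τ c)⁻¹ = H D x e := by field_simp
  have h2 : D.τ (D.τ c)⁻¹ * H D x w * c = H D x w := by
    rw [map_inv₀, D.hτ2]; field_simp
  have h3 : b / (c * D.τ c) * (D.τ c * H D x e) * c = b * H D x e := by field_simp
  rw [h1, h2, h3]

end

section

open Matrix

variable {F : Type*} [Field F] {n q : ℕ} (D : UF F q)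

/-- the group `Q_e` of Eichler transformations with centre `e` -/
def Qg (e : Fin n → F) : Subgroup ↥(Cfsg.SU n F q) where
  carrier := {s | s = 1 ∨ ∃ w b, ELOK D e w b ∧ s = EL D e w b}
  one_mem' := Or.inl rfl
  mul_mem' := by
    rintro s t (rfl | ⟨w, b, h, rfl⟩) (rfl | ⟨w', b', h', rfl⟩)
    · exact Or.inl (mul_one 1)
    · rw [one_mul]; exact Or.inr ⟨w', b', h', rfl⟩
    · rw [mul_one]; exact Or.inr ⟨w, b, h, rfl⟩
    · exact Or.inr ⟨_, _, h.mul D h', EL_mul D h h'⟩
  inv_mem' := by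
    rintro s (rfl | ⟨w, b, h, rfl⟩)
    · exact Or.inl inv_one
    · exact Or.inr ⟨_, _, h.inv D, EL_inv D h⟩

theorem mem_Qg {e : Fin n → F} (he : H D e e = 0) {s : ↥(Cfsg.SU n F q)} :
    s ∈ Qg D e ↔ ∃ w b, ELOK D e w b ∧ s = EL D e w b := by
  constructor
  · rintro (rfl | h)
    · exact ⟨0, 0, ELOK.zero D he, (EL_zero D he).symm⟩
    · exact h
  · intro h
    exact Or.inr h

theorem EL_mem_Qg {e w : Fin n → F} {b : F} (h : ELOK D e w b) : EL D e w b ∈ Qg D e :=
  Or.inr ⟨w, b, h, rfl⟩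

/-- the transvection group `T_e` -/
def Tg (e : Fin n → F) : Subgroup ↥(Cfsg.SU n F q) where
  carrier := {s | s = 1 ∨ ∃ a, ELOK D e 0 a ∧ s = EL D e 0 a}
  one_mem' := Or.inl rfl
  mul_mem' := by
    rintro s t (rfl | ⟨a, h, rfl⟩) (rfl | ⟨a', h', rfl⟩)
    · exact Or.inl (mul_one 1)
    · rw [one_mul]; exact Or.inr ⟨a', h', rfl⟩
    · rw [mul_one]; exact Or.inr ⟨a, h, rfl⟩
    · refine Or.inr ⟨a + a', ?_, ?_⟩
      · have := h.mul D h'
        rwa [add_zero, H_zero_left, sub_zero] at this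
      · rw [EL_mul D h h', add_zero, H_zero_left, sub_zero]
  inv_mem' := by
    rintro s (rfl | ⟨a, h, rfl⟩)
    · exact Or.inl inv_one
    · refine Or.inr ⟨D.τ a, ?_, ?_⟩
      · have := h.inv D
        rwa [neg_zero] at this
      · rw [EL_inv D h, neg_zero]

theorem ELOK_zero_iff {e : Fin n → F} {a : F} : ELOK D e 0 a ↔ H D e e = 0 ∧ Skew D a := by
  unfold ELOK Skew
  have h0 : H D (0 : Fin n → F) 0 = 0 := H_zero_left D 0
  rw [H_zero_left, h0]
  constructor
  · rintro ⟨h1, -, h2⟩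
    exact ⟨h1, by linear_combination h2⟩
  · rintro ⟨h1, h2⟩
    exact ⟨h1, rfl, by rw [h2]; ring⟩

theorem mem_Tg {e : Fin n → F} (he : H D e e = 0) {s : ↥(Cfsg.SU n F q)} :
    s ∈ Tg D e ↔ ∃ a, Skew D a ∧ s = EL D e 0 a := by
  constructor
  · rintro (rfl | ⟨a, h, rfl⟩)
    · exact ⟨0, Skew.zero D, (EL_zero D he).symm⟩
    · exact ⟨a, ((ELOK_zero_iff D).1 h).2, rfl⟩
  · rintro ⟨a, ha, rfl⟩
    exact Or.inr ⟨a, (ELOK_zero_iff D).2 ⟨he, ha⟩, rfl⟩

theorem Tg_le_Qg (e : Fin n → F) : Tg D e ≤ Qg D e := by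
  rintro s (rfl | ⟨a, h, rfl⟩)
  · exact Or.inl rfl
  · exact Or.inr ⟨0, a, h, rfl⟩

/-- action of a transvection -/
theorem sv_tr {e : Fin n → F} {a : F} (he : H D e e = 0) (ha : Skew D a) (x : Fin n → F) :
    sv (EL D e 0 a) x = x + (a * H D x e) • e := by
  rw [sv_EL D ((ELOK_zero_iff D).2 ⟨he, ha⟩)]
  simp

/-- conjugating `Q_e` by an element fixing the point `e` -/
theorem conj_mem_Qg {e : Fin n → F} (he : H D e e = 0) {s : ↥(Cfsg.SU n F q)} {c : F} (hc : c ≠ 0)
    (hs : sv s e = c • e) {g : ↥(Cfsg.SU n F q)} (hg : g ∈ Qg D e) : s * g * s⁻¹ ∈ Qg D e := by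
  obtain ⟨w, b, h, rfl⟩ := (mem_Qg D he).1 hg
  rw [EL_conj D h, hs]
  have hc' : D.τ c ≠ 0 := (map_ne_zero D.τ).2 hc
  have h1 : ELOK D e (D.τ c • sv s w) (b * (c * D.τ c)) := by
    have h2 := h.conj D s
    rw [hs] at h2
    obtain ⟨h3, h4, h5⟩ := h2
    refine ⟨he, ?_, ?_⟩
    · rw [H_smul_left]
      rw [H_smul_right] at h4
      rcases mul_eq_zero.1 h4 with h6 | h6
      · exact absurd h6 hc'
      · rw [h6, mul_zero]
    · rw [H_smul_left, H_smul_right, map_mul, map_mul, D.hτ2]
      linear_combination (c * D.τ c) * h5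
  have h2 := EL_smul D h1 hc
  rw [smul_smul, inv_mul_cancel₀ hc', one_smul, mul_div_assoc, div_self (mul_ne_zero hc hc'),
    mul_one] at h2
  rw [h2]
  exact EL_mem_Qg D h1

theorem conj_mem_Tg {e : Fin n → F} (he : H D e e = 0) {s : ↥(Cfsg.SU n F q)} {c : F} (hc : c ≠ 0)
    (hs : sv s e = c • e) {g : ↥(Cfsg.SU n F q)} (hg : g ∈ Tg D e) : s * g * s⁻¹ ∈ Tg D e := by
  obtain ⟨a, ha, rfl⟩ := (mem_Tg D he).1 hg
  have h := (ELOK_zero_iff D).2 ⟨he, ha⟩
  rw [EL_conj D h, hs, sv_zero]
  have hc' : D.τ c ≠ 0 := (map_ne_zero D.τ).2 hc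
  have hfix : D.τ (c * D.τ c) = c * D.τ c := fixed_mul_tau D c
  have ha' : Skew D (c * D.τ c * a) := ha.mul_fixed D hfix
  have h1 : ELOK D e 0 (c * D.τ c * a) := (ELOK_zero_iff D).2 ⟨he, ha'⟩
  have h2 := EL_smul D h1 hc
  rw [smul_zero] at h2
  have h3 : c * D.τ c * a / (c * D.τ c) = a := by field_simp
  rw [h3] at h2
  rw [h2]
  exact (mem_Tg D he).2 ⟨_, ha', rfl⟩

/-- a general conjugate of a transvection group -/
theorem conj_Tg {e : Fin n → F} (he : H D e e = 0) (s : ↥(Cfsg.SU n F q))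
    {g : ↥(Cfsg.SU n F q)} (hg : g ∈ Tg D e) : s * g * s⁻¹ ∈ Tg D (sv s e) := by
  obtain ⟨a, ha, rfl⟩ := (mem_Tg D he).1 hg
  have h := (ELOK_zero_iff D).2 ⟨he, ha⟩
  rw [EL_conj D h, sv_zero]
  exact (mem_Tg D (by rw [H_sv, he])).2 ⟨a, ha, rfl⟩

/-- `T_e` depends only on the point -/
theorem Tg_smul {e : Fin n → F} (he : H D e e = 0) {c : F} (hc : c ≠ 0) :
    Tg D (c • e) = Tg D e := by
  have hce : H D (c • e) (c • e) = 0 := by rw [H_smul_left, H_smul_right, he, mul_zero, mul_zero]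
  have hc' : D.τ c ≠ 0 := (map_ne_zero D.τ).2 hc
  have hfix : D.τ (c * D.τ c) = c * D.τ c := fixed_mul_tau D c
  ext s
  rw [mem_Tg D hce, mem_Tg D he]
  constructor
  · rintro ⟨a, ha, rfl⟩
    have ha' : Skew D (c * D.τ c * a) := ha.mul_fixed D hfix
    have h1 : ELOK D e 0 (c * D.τ c * a) := (ELOK_zero_iff D).2 ⟨he, ha'⟩
    have h2 := EL_smul D h1 hc
    rw [smul_zero] at h2
    have h3 : c * D.τ c * a / (c * D.τ c) = a := by field_simp
    rw [h3] at h2
    exact ⟨_, ha', h2⟩
  · rintro ⟨a, ha, rfl⟩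
    have h1 : ELOK D e 0 a := (ELOK_zero_iff D).2 ⟨he, ha⟩
    have h2 := EL_smul D h1 hc
    rw [smul_zero] at h2
    refine ⟨a / (c * D.τ c), ?_, h2.symm⟩
    have : D.τ (c * D.τ c)⁻¹ = (c * D.τ c)⁻¹ := by rw [map_inv₀, hfix]
    rw [div_eq_mul_inv, mul_comm]
    exact ha.mul_fixed D this

theorem Tg_par {e e' : Fin n → F} (he : H D e e = 0) (h : Par e e') : Tg D e' = Tg D e := by
  obtain ⟨c, hc, rfl⟩ := h
  exact Tg_smul D he hc

end

section

open Matrix

variable {F : Type*} [Field F] {n q : ℕ} (D : UF F q)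

theorem EL_pow {e w : Fin n → F} {b : F} (h : ELOK D e w b) (k : ℕ) :
    ∃ b', ELOK D e ((k : F) • w) b' ∧ (EL D e w b) ^ k = EL D e ((k : F) • w) b' := by
  induction k with
  | zero =>
    refine ⟨0, ?_, ?_⟩
    · rw [Nat.cast_zero, zero_smul]; exact ELOK.zero D h.1
    · rw [pow_zero, Nat.cast_zero, zero_smul, EL_zero D h.1]
  | succ k ih =>
    obtain ⟨b', h1, h2⟩ := ih
    refine ⟨b' + b - H D w ((k : F) • w), ?_, ?_⟩
    · have := h1.mul D h
      rwa [show (k : F) • w + w = ((k + 1 : ℕ) : F) • w by push_cast; module] at this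
    · rw [pow_succ, h2, EL_mul D h1 h]
      rw [show (k : F) • w + w = ((k + 1 : ℕ) : F) • w by push_cast; module]

theorem tr_pow {e : Fin n → F} {a : F} (he : H D e e = 0) (ha : Skew D a) (k : ℕ) :
    (EL D e 0 a) ^ k = EL D e 0 ((k : F) * a) := by
  induction k with
  | zero => rw [pow_zero, Nat.cast_zero, zero_mul, EL_zero D he]
  | succ k ih =>
    have hk : Skew D ((k : F) * a) := ha.mul_fixed D (map_natCast D.τ k)
    rw [pow_succ, ih, EL_mul D ((ELOK_zero_iff D).2 ⟨he, hk⟩) ((ELOK_zero_iff D).2 ⟨he, ha⟩)]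
    rw [add_zero, H_zero_left, sub_zero]
    congr 1
    push_cast; ring

theorem Qg_pow (p : ℕ) [Fact p.Prime] [CharP F p] {e : Fin n → F} (he : H D e e = 0)
    {s : ↥(Cfsg.SU n F q)} (hs : s ∈ Qg D e) : s ^ (p ^ 2) = 1 := by
  obtain ⟨w, b, h, rfl⟩ := (mem_Qg D he).1 hs
  obtain ⟨b', h1, h2⟩ := EL_pow D h p
  rw [CharP.cast_eq_zero, zero_smul] at h1 h2
  rw [sq, pow_mul, h2, tr_pow D he ((ELOK_zero_iff D).1 h1).2, CharP.cast_eq_zero, zero_mul,
    EL_zero D he]

theorem isPGroup_Qg (p : ℕ) [Fact p.Prime] [CharP F p] {e : Fin n → F} (he : H D e e = 0) :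
    IsPGroup p (Qg D e) := by
  intro s
  refine ⟨2, ?_⟩
  apply Subtype.ext
  rw [Subgroup.coe_pow, Qg_pow D p he s.2]
  rfl

/-- the action of `SU` on vectors, as a `MulAction` -/
def actSU : MulAction ↥(Cfsg.SU n F q) (Fin n → F) where
  smul s v := sv s v
  one_smul v := sv_one v
  mul_smul s t v := sv_mul s t v

end

section

open Matrix

variable {F : Type*} [Field F] [Fintype F] {n q : ℕ} (D : UF F q)

theorem exists_fixed_in (p : ℕ) [Fact p.Prime] [CharP F p] (P : Subgroup ↥(Cfsg.SU n F q))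
    (hP : IsPGroup p P) (X : Submodule F (Fin n → F))
    (hinv : ∀ s ∈ P, ∀ x ∈ X, sv s x ∈ X) (hX : X ≠ ⊥) :
    ∃ x ∈ X, x ≠ 0 ∧ ∀ s ∈ P, sv s x = x := by
  classical
  letI act : MulAction ↥P ↥X :=
    { smul := fun s x => ⟨sv s.1 x.1, hinv s.1 s.2 x.1 x.2⟩
      one_smul := fun x => Subtype.ext (sv_one x.1)
      mul_smul := fun s t x => Subtype.ext (sv_mul s.1 t.1 x.1) }
  have hsmul : ∀ (s : ↥P) (x : ↥X), ((s • x : ↥X) : Fin n → F) = sv s.1 x.1 := fun _ _ => rfl
  have hcard : p ∣ Nat.card ↥X := by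
    rw [Module.natCard_eq_pow_finrank (K := F)]
    have h1 : 0 < Module.finrank F ↥X := by
      rw [Module.finrank_pos_iff]
      exact (Submodule.nontrivial_iff_ne_bot).2 hX
    have h2 : p ∣ Nat.card F := by
      rw [Nat.card_eq_fintype_card]
      exact AutPSL.p_dvd_card (p := p)
    exact dvd_trans h2 (dvd_pow_self _ h1.ne')
  have h0 : (0 : ↥X) ∈ MulAction.fixedPoints ↥P ↥X := by
    intro s
    apply Subtype.ext
    rw [hsmul]
    exact sv_zero s.1
  obtain ⟨b, hb, hb0⟩ := hP.exists_fixed_point_of_prime_dvd_card_of_fixed_point ↥X hcard h0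
  refine ⟨b.1, b.2, ?_, ?_⟩
  · intro h
    apply hb0
    apply Subtype.ext
    exact h.symm
  · intro s hs
    have := hb ⟨s, hs⟩
    rw [← hsmul ⟨s, hs⟩ b, this]

/-- a `p`-subgroup of `SU` fixes a nonzero isotropic vector -/
theorem exists_fixed_isotropic (hn : 2 ≤ n) (p : ℕ) [Fact p.Prime] [CharP F p]
    (P : Subgroup ↥(Cfsg.SU n F q)) (hP : IsPGroup p P) :
    ∃ e : Fin n → F, e ≠ 0 ∧ H D e e = 0 ∧ ∀ s ∈ P, sv s e = e := by
  obtain ⟨x, -, hx0, hx⟩ := exists_fixed_in p P hP ⊤ (fun _ _ _ _ => trivial) (by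
    intro h
    have h1 : (Pi.single ⟨0, by omega⟩ 1 : Fin n → F) ∈ (⊥ : Submodule F (Fin n → F)) := by
      rw [← h]; trivial
    rw [Submodule.mem_bot] at h1
    have h2 := congrFun h1 ⟨0, by omega⟩
    simp at h2)
  by_cases hxx : H D x x = 0
  · exact ⟨x, hx0, hxx, hx⟩
  -- the orthogonal complement of x
  let X : Submodule F (Fin n → F) :=
    { carrier := {y | H D y x = 0}
      add_mem' := fun {a b} ha hb => by
        change H D (a + b) x = 0
        rw [H_add_left, ha, hb, add_zero]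
      zero_mem' := H_zero_left D x
      smul_mem' := fun c a ha => by
        change H D (c • a) x = 0
        rw [H_smul_left, ha, mul_zero] }
  have hXne : X ≠ ⊥ := by
    obtain ⟨ψ, hψ0, hψ⟩ := AutPSL.exists_perp hn (cj D x)
    intro h
    have h1 : ψ ∈ X := hψ
    rw [h, Submodule.mem_bot] at h1
    exact hψ0 h1
  obtain ⟨y, hyX, hy0, hy⟩ := exists_fixed_in p P hP X (by
    intro s hs y hy
    change H D (sv s y) x = 0
    rw [← hx s hs, H_sv]
    exact hy) hXne
  have hyx : H D y x = 0 := hyX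
  have hxy : H D x y = 0 := H_eq_zero_symm D hyx
  by_cases hyy : H D y y = 0
  · exact ⟨y, hy0, hyy, hy⟩
  obtain ⟨c, hc⟩ := D.nm_surj (-(H D x x) / H D y y)
    (by rw [map_div₀, map_neg, H_self_fixed, H_self_fixed])
    (div_ne_zero (neg_ne_zero.2 hxx) hyy)
  refine ⟨x + c • y, ?_, ?_, ?_⟩
  · intro h
    have h1 : H D (x + c • y) x = 0 := by rw [h, H_zero_left]
    rw [H_add_left, H_smul_left, hyx, mul_zero, add_zero] at h1
    exact hxx h1
  · simp only [H_add_left, H_add_right, H_smul_left, H_smul_right, hxy, hyx, mul_zero, add_zero,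
      zero_add]
    have h2 : D.τ c * (c * H D y y) = c * D.τ c * H D y y := by ring
    rw [h2, hc]
    field_simp
    ring
  · intro s hs
    rw [sv_add, sv_smul, hx s hs, hy s hs]

end

section

open Matrix

variable {F : Type*} [Field F] {n q : ℕ} (D : UF F q)

/-- for every `w` orthogonal to `e` there is an Eichler transformation `EL e w b` -/
theorem exists_ELOK {e w : Fin n → F} (he : H D e e = 0) (hw : H D w e = 0) :
    ∃ b, ELOK D e w b := by
  obtain ⟨b, hb⟩ := D.tr_surj (-(H D w w)) (by rw [map_neg, H_self_fixed])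
  exact ⟨b, he, hw, by linear_combination hb⟩

/-- an element fixing `e` and commuting with all of `Q_e` is a transvection with centre `e` -/
theorem mem_Tg_of_comm {e : Fin n → F} (he0 : e ≠ 0) (he : H D e e = 0) {z : ↥(Cfsg.SU n F q)}
    (hze : sv z e = e) (hcomm : ∀ g ∈ Qg D e, z * g = g * z) : z ∈ Tg D e := by
  obtain ⟨f, -, hfe, hef⟩ := exists_partner D he0 he
  -- z w = w + φ(w) e
  have key : ∀ w, H D w e = 0 → sv z w = w + H D f (sv z w - w) • e := by
    intro w hw
    obtain ⟨b, hb⟩ := exists_ELOK D he hw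
    have h1 : z * EL D e w b * z⁻¹ = EL D e w b := by
      rw [hcomm _ (EL_mem_Qg D hb), mul_assoc, mul_inv_cancel, mul_one]
    rw [EL_conj D hb, hze] at h1
    have hb' : ELOK D e (sv z w) b := by
      have := hb.conj D z
      rwa [hze] at this
    have h2 := congrArg (fun s => sv s f) h1
    simp only [sv_EL D hb, sv_EL D hb', hfe] at h2
    rw [H_sub_right]
    have h3 : sv z w - H D f (sv z w) • e = w - H D f w • e := by
      have : f + (1 : F) • sv z w - H D f (sv z w) • e + (b * 1) • e =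
          f + (1 : F) • w - H D f w • e + (b * 1) • e := h2
      have h4 := congrArg (fun v => v - f - (b * 1) • e) this
      simp only [one_smul] at h4
      calc sv z w - H D f (sv z w) • e
          = f + sv z w - H D f (sv z w) • e + (b * 1) • e - f - (b * 1) • e := by abel
        _ = f + w - H D f w • e + (b * 1) • e - f - (b * 1) • e := h4
        _ = w - H D f w • e := by abel
    calc sv z w = (sv z w - H D f (sv z w) • e) + H D f (sv z w) • e := by abel
      _ = (w - H D f w • e) + H D f (sv z w) • e := by rw [h3]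
      _ = w + (H D f (sv z w) - H D f w) • e := by module
  set y := sv z f - f with hy
  have hye : H D y e = 0 := by
    rw [hy, H_sub_left, hfe]
    have : H D (sv z f) e = H D (sv z f) (sv z e) := by rw [hze]
    rw [this, H_sv, hfe, sub_self]
  -- φ(w) = - H w y
  have hφ : ∀ w, H D w e = 0 → H D f (sv z w - w) = - H D w y := by
    intro w hw
    have h1 := key w hw
    set φ := H D f (sv z w - w) with hφdef
    have h2 : H D (sv z f) (sv z w) = H D f w := H_sv D z f w
    have h3 : sv z f = f + y := by rw [hy]; abel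
    rw [h3, h1] at h2
    simp only [H_add_left, H_add_right, H_smul_right, hfe, hye, mul_zero, add_zero, mul_one]
      at h2
    have h4 : D.τ φ = - H D y w := by linear_combination h2
    have h5 : φ = D.τ (D.τ φ) := (D.hτ2 φ).symm
    rw [h5, h4, map_neg, H_symm]
  have hφfix : ∀ w, H D w e = 0 → D.τ (H D w y) = H D w y := by
    intro w hw
    have h1 := key w hw
    have h2 : H D f (sv z w - w) = D.τ (H D f (sv z w - w)) := by
      have h3 : sv z w - w = H D f (sv z w - w) • e := by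
        rw [sub_eq_iff_eq_add]
        rw [add_comm]
        exact h1
      conv_lhs => rw [h3]
      rw [H_smul_right, hfe, mul_one]
    rw [hφ w hw] at h2
    rw [map_neg] at h2
    exact (neg_injective h2).symm
  have hzero : ∀ w, H D w e = 0 → H D w y = 0 := by
    intro w hw
    by_contra hne
    obtain ⟨c, hc⟩ := D.hne
    have h1 := hφfix (c • w) (by rw [H_smul_left, hw, mul_zero])
    rw [H_smul_left, map_mul, hφfix w hw] at h1
    exact hc (mul_right_cancel₀ hne h1)
  obtain ⟨a, ha⟩ := mem_span_of_perp D he0 hzero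
  have hzf : sv z f = f + a • e := by
    rw [← ha, hy]; abel
  have hzw : ∀ w, H D w e = 0 → sv z w = w := by
    intro w hw
    rw [key w hw, hφ w hw, hzero w hw, neg_zero, zero_smul, add_zero]
  have hskew : Skew D a := by
    have h1 : H D (sv z f) (sv z f) = H D f f := H_sv D z f f
    rw [hzf] at h1
    simp only [H_add_left, H_add_right, H_smul_left, H_smul_right, hfe, hef, he, mul_zero,
      add_zero, mul_one] at h1
    unfold Skew
    linear_combination h1
  rw [mem_Tg D he]
  refine ⟨a, hskew, ?_⟩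
  apply ext_sv
  intro x
  rw [sv_tr D he hskew]
  have hx : x = H D x e • f + (x - H D x e • f) := by abel
  have hw : H D (x - H D x e • f) e = 0 := by
    rw [H_sub_left, H_smul_left, hfe, mul_one, sub_self]
  conv_lhs => rw [hx]
  rw [sv_add, sv_smul, hzf, hzw _ hw]
  module

/-- transvections with centre `e` commute with every element fixing `e` -/
theorem Tg_comm {e : Fin n → F} (he : H D e e = 0) {s t : ↥(Cfsg.SU n F q)} (hs : sv s e = e)
    (ht : t ∈ Tg D e) : s * t = t * s := by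
  obtain ⟨a, ha, rfl⟩ := (mem_Tg D he).1 ht
  have h := (ELOK_zero_iff D).2 ⟨he, ha⟩
  have h1 := EL_conj D h s
  rw [hs, sv_zero] at h1
  calc s * EL D e 0 a = s * EL D e 0 a * s⁻¹ * s := by group
    _ = EL D e 0 a * s := by rw [h1]

end

section

open Matrix

variable {F : Type*} [Field F] {n q : ℕ} (D : UF F q)

/-- existence of a nonzero isotropic vector -/
theorem exists_isotropic (hn : 2 ≤ n) : ∃ e : Fin n → F, e ≠ 0 ∧ H D e e = 0 := by
  have i0 : Fin n := ⟨0, by omega⟩
  obtain ⟨i0, i1, h01⟩ : ∃ i0 i1 : Fin n, i0 ≠ i1 :=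
    ⟨⟨0, by omega⟩, ⟨1, by omega⟩, by intro h; simpa using congrArg Fin.val h⟩
  obtain ⟨c, hc⟩ := D.nm_surj (-1) (by rw [map_neg, map_one]) (by simp)
  refine ⟨Pi.single i0 1 + c • Pi.single i1 1, ?_, ?_⟩
  · intro h
    have h1 := congrFun h i0
    simp [Pi.single_eq_of_ne h01] at h1
  · simp only [H_add_left, H_smul_left, H_single_right, Pi.add_apply, Pi.smul_apply,
      Pi.single_eq_same, Pi.single_eq_of_ne h01, Pi.single_eq_of_ne h01.symm, smul_eq_mul,
      mul_zero, mul_one, add_zero, zero_add, H_add_right, H_smul_right]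
    linear_combination hc

/-- a decomposition along a hyperbolic pair -/
theorem decomp_hyp {e f : Fin n → F} (hef : H D e f = 1) (hfe : H D f e = 1) (he : H D e e = 0)
    (hf : H D f f = 0) (x : Fin n → F) :
    H D (x - H D x f • e - H D x e • f) e = 0 ∧ H D (x - H D x f • e - H D x e • f) f = 0 := by
  constructor
  · simp only [H_sub_left, H_smul_left, he, hfe]; ring
  · simp only [H_sub_left, H_smul_left, hf, hef]; ring

/-- a linear map on `F^n` fixing every isotropic point is a scalar -/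
theorem scalar_of_fix_isotropic (hn : 2 ≤ n) (s : ↥(Cfsg.SU n F q))
    (h : ∀ v : Fin n → F, H D v v = 0 → ∃ c : F, sv s v = c • v) :
    ∃ c : F, ∀ x, sv s x = c • x := by
  obtain ⟨e, he0, he⟩ := exists_isotropic D hn
  obtain ⟨f, hf, hfe, hef⟩ := exists_partner D he0 he
  obtain ⟨l, hl⟩ := h e he
  obtain ⟨m, hm⟩ := h f hf
  obtain ⟨a, ha, ha0⟩ := exists_skew_ne_zero D
  have hlm : l = m := by
    have ha' : D.τ a = -a := ha
    have h1 : H D (e + a • f) (e + a • f) = 0 := by
      simp only [H_add_left, H_add_right, H_smul_left, H_smul_right, he, hf, hef, hfe, ha']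
      ring
    obtain ⟨c, hc⟩ := h _ h1
    rw [sv_add, sv_smul, hl, hm] at hc
    have h2 := congrArg (fun v => H D v f) hc
    have h3 := congrArg (fun v => H D v e) hc
    simp only [H_add_left, H_smul_left, he, hf, hef, hfe, mul_zero, mul_one, add_zero,
      zero_add] at h2 h3
    have h4 : m = c := mul_left_cancel₀ ha0 (h3.trans (mul_comm c a))
    rw [h2, h4]
  subst hlm
  refine ⟨l, ?_⟩
  -- vectors orthogonal to e and f
  have key : ∀ w, H D w e = 0 → H D w f = 0 → sv s w = l • w := by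
    intro w hwe hwf
    have hew : H D e w = 0 := H_eq_zero_symm D hwe
    have hfw : H D f w = 0 := H_eq_zero_symm D hwf
    by_cases hww : H D w w = 0
    · by_cases hw0 : w = 0
      · rw [hw0, sv_zero, smul_zero]
      obtain ⟨c', hc'⟩ := h w hww
      have h1 : H D (e + w) (e + w) = 0 := by
        simp only [H_add_left, H_add_right, he, hww, hew, hwe]; ring
      obtain ⟨c, hc⟩ := h _ h1
      rw [sv_add, hl, hc'] at hc
      have h2 := congrArg (fun v => H D v f) hc
      simp only [H_add_left, H_smul_left, hef, hwf, mul_zero, mul_one, add_zero] at h2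
      rw [← h2] at hc
      have h3 : c' • w = l • w := by
        have := congrArg (fun v => v - l • e) hc
        simp only [smul_add] at this
        calc c' • w = l • e + c' • w - l • e := by abel
          _ = l • e + l • w - l • e := this
          _ = l • w := by abel
      rw [hc', h3]
    · -- non-isotropic w
      obtain ⟨b, hb⟩ := D.tr_surj (-(H D w w)) (by rw [map_neg, H_self_fixed])
      have hiso : ∀ b', b' + D.τ b' = -(H D w w) →
          H D (w + b' • e + f) (w + b' • e + f) = 0 := by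
        intro b' hb'
        simp only [H_add_left, H_add_right, H_smul_left, H_smul_right, he, hf, hef, hfe, hew, hwe,
          hfw, hwf]
        linear_combination hb'
      obtain ⟨c, hc⟩ := h _ (hiso b hb)
      have hb2 : (b + a) + D.τ (b + a) = -(H D w w) := by
        rw [map_add, ha]; linear_combination hb
      obtain ⟨c2, hc2⟩ := h _ (hiso (b + a) hb2)
      rw [sv_add, sv_add, sv_smul, hl, hm] at hc hc2
      -- pair with e : coefficient of f
      have h1 := congrArg (fun v => H D v e) hc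
      have h2 := congrArg (fun v => H D v e) hc2
      have h1' := congrArg (fun v => H D v f) hc
      have h2' := congrArg (fun v => H D v f) hc2
      have hswe : H D (sv s w) e = 0 := by
        have : H D (sv s w) (sv s e) = H D w e := H_sv D s w e
        rw [hl, H_smul_right, hwe] at this
        rcases mul_eq_zero.1 this with h0 | h0
        · exfalso
          have : l = 0 := by
            have := congrArg D.τ h0
            rwa [D.hτ2, map_zero] at this
          rw [this, zero_smul] at hl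
          exact he0 ((sv_eq_zero_iff s).1 hl)
        · exact h0
      have hl0 : l ≠ 0 := by
        intro h0
        rw [h0, zero_smul] at hl
        exact he0 ((sv_eq_zero_iff s).1 hl)
      have hswf : H D (sv s w) f = 0 := by
        have : H D (sv s w) (sv s f) = H D w f := H_sv D s w f
        rw [hm, H_smul_right, hwf] at this
        rcases mul_eq_zero.1 this with h0 | h0
        · exfalso
          apply hl0
          have := congrArg D.τ h0
          rwa [D.hτ2, map_zero] at this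
        · exact h0
      simp only [H_add_left, H_smul_left, he, hf, hef, hfe, hwe, hwf, hswe, hswf, mul_zero,
        mul_one, add_zero, zero_add] at h1 h2 h1' h2'
      -- h1 : l = c, h2 : l = c2
      rw [← h1] at hc
      have h3 : sv s w = l • (w + b • e + f) - b • l • e - l • f := by rw [← hc]; abel
      rw [h3]; module
  intro x
  obtain ⟨h1, h2⟩ := decomp_hyp D hef hfe he hf x
  have hx : x = (x - H D x f • e - H D x e • f) + H D x f • e + H D x e • f := by abel
  conv_lhs => rw [hx]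
  rw [sv_add, sv_add, sv_smul, sv_smul, hl, hm, key _ h1 h2]
  module

include D in
/-- central elements of `SU` are scalar -/
theorem scalar_of_mem_center (hn : 2 ≤ n) {z : ↥(Cfsg.SU n F q)}
    (hz : z ∈ Subgroup.center ↥(Cfsg.SU n F q)) : ∃ c : F, ∀ x, sv z x = c • x := by
  apply scalar_of_fix_isotropic D hn
  intro v hv
  by_cases hv0 : v = 0
  · exact ⟨1, by rw [hv0, sv_zero, smul_zero]⟩
  obtain ⟨a, ha, ha0⟩ := exists_skew_ne_zero D
  have hok := (ELOK_zero_iff D).2 ⟨hv, ha⟩
  have h1 : z * EL D v 0 a * z⁻¹ = EL D v 0 a := by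
    rw [← Subgroup.mem_center_iff.1 hz (EL D v 0 a), mul_assoc, mul_inv_cancel, mul_one]
  rw [EL_conj D hok, sv_zero] at h1
  have hzv : H D (sv z v) (sv z v) = 0 := by rw [H_sv, hv]
  obtain ⟨x, hx⟩ := exists_H_eq_one D (sv_ne_zero z hv0)
  have h2 := congrArg (fun s => sv s x) h1
  simp only [sv_tr D hzv ha, sv_tr D hv ha, hx, mul_one] at h2
  have h3 : a • sv z v = (a * H D x v) • v := add_left_cancel h2
  refine ⟨H D x v, ?_⟩
  have h4 := congrArg (fun u => a⁻¹ • u) h3
  simp only [smul_smul] at h4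
  rw [inv_mul_cancel₀ ha0, one_smul, ← mul_assoc, inv_mul_cancel₀ ha0, one_mul] at h4
  exact h4

end

end Cfsg.Agent.Lib.H13.AutPSU
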