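import Mathlib
import Cfsg.Agent.Lib.H13.AutPSU1
import Cfsg.Agent.Lib.H13.AutPSLSylow

/-!
Automorphisms of `PSU_n(q)`, part 2: Sylow `p`-subgroups of `SU`, transvections of `PSU` are the central elements of Sylow
subgroups, the transvection subgroups `Tb e`, the point map of an automorphism, an automorphism fixing all points is trivial.
-/

set_option autoImplicit false
set_option linter.unusedSectionVars false
set_option linter.unusedVariables false
set_option linter.unusedSimpArgs false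
set_option linter.deprecated false

namespace Cfsg.Agent.Lib.H13.AutPSU

section

open Matrix

variable {F : Type*} [Field F] {n q : ℕ} (D : UF F q)

/-- the projection `SU → PSU` -/
def pr : ↥(Cfsg.SU n F q) →* Cfsg.PSU n F q := QuotientGroup.mk' _

theorem pr_surjective : Function.Surjective (pr : ↥(Cfsg.SU n F q) →* Cfsg.PSU n F q) :=
  QuotientGroup.mk'_surjective _

theorem pr_eq_one_iff {s : ↥(Cfsg.SU n F q)} :
    pr s = 1 ↔ s ∈ Subgroup.center ↥(Cfsg.SU n F q) := by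
  unfold pr
  rw [QuotientGroup.mk'_apply, QuotientGroup.eq_one_iff]

theorem pr_eq_pr_iff {s t : ↥(Cfsg.SU n F q)} :
    pr s = pr t ↔ s⁻¹ * t ∈ Subgroup.center ↥(Cfsg.SU n F q) := by
  unfold pr
  rw [QuotientGroup.mk'_apply, QuotientGroup.mk'_apply, QuotientGroup.eq]

include D in
/-- two elements with the same image which fix a common nonzero vector are equal -/
theorem eq_of_pr_eq_of_fix (hn : 2 ≤ n) {s t : ↥(Cfsg.SU n F q)} (h : pr s = pr t)
    {e : Fin n → F} (he : e ≠ 0) (hs : sv s e = e) (ht : sv t e = e) : s = t := by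
  obtain ⟨c, hc⟩ := scalar_of_mem_center D hn (pr_eq_pr_iff.1 h)
  have h1 := hc e
  rw [sv_mul, ht] at h1
  have h2 : sv s⁻¹ e = e := by
    conv_lhs => rw [← hs]
    rw [sv_inv_sv]
  rw [h2] at h1
  have hc1 : c = 1 := by
    by_contra hne
    apply he
    have : (1 - c) • e = 0 := by rw [sub_smul, one_smul, ← h1, sub_self]
    rcases smul_eq_zero.1 this with h3 | h3
    · exact absurd (sub_eq_zero.1 h3).symm hne
    · exact h3
  have h3 : s⁻¹ * t = 1 := by
    apply ext_sv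
    intro x
    rw [hc x, hc1, one_smul, sv_one]
  rw [inv_mul_eq_one] at h3
  exact h3

include D in
/-- a central element of `p`-power order is trivial -/
theorem eq_one_of_center_of_pow (hn : 2 ≤ n) (p : ℕ) [Fact p.Prime] [CharP F p]
    {z : ↥(Cfsg.SU n F q)} (hz : z ∈ Subgroup.center ↥(Cfsg.SU n F q)) {k : ℕ}
    (hk : z ^ (p ^ k) = 1) : z = 1 := by
  obtain ⟨c, hc⟩ := scalar_of_mem_center D hn hz
  have hpow : ∀ m : ℕ, ∀ x, sv (z ^ m) x = c ^ m • x := by
    intro m
    induction m with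
    | zero => intro x; simp
    | succ m ih =>
      intro x
      rw [pow_succ, sv_mul, hc, sv_smul, ih, smul_smul, pow_succ, mul_comm]
  obtain ⟨e, he0, -⟩ := exists_isotropic D hn
  have h1 := hpow (p ^ k) e
  rw [hk, sv_one] at h1
  have hck : c ^ (p ^ k) = 1 := by
    by_contra hne
    apply he0
    have : (1 - c ^ (p ^ k)) • e = 0 := by rw [sub_smul, one_smul, ← h1, sub_self]
    rcases smul_eq_zero.1 this with h3 | h3
    · exact absurd (sub_eq_zero.1 h3).symm hne
    · exact h3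
  have hc1 : c = 1 := by
    have h2 : (c - 1) ^ (p ^ k) = 0 := by
      rw [sub_pow_char_pow, hck, one_pow, sub_self]
    exact sub_eq_zero.1 (pow_eq_zero_iff (pow_ne_zero k (Fact.out : p.Prime).ne_zero) |>.1 h2)
  apply ext_sv
  intro x
  rw [hc, hc1, one_smul, sv_one]

/-- the nontrivial transvections in `PSU` -/
def TB : Set (Cfsg.PSU n F q) :=
  {x | ∃ (e : Fin n → F) (a : F), e ≠ 0 ∧ H D e e = 0 ∧ Skew D a ∧ a ≠ 0 ∧ x = pr (EL D e 0 a)}

/-- a transvection with nonzero parameter is not central -/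
theorem tr_not_mem_center (hn : 2 ≤ n) {e : Fin n → F} {a : F} (he0 : e ≠ 0) (he : H D e e = 0)
    (ha : Skew D a) (ha0 : a ≠ 0) : EL D e 0 a ∉ Subgroup.center ↥(Cfsg.SU n F q) := by
  intro hz
  obtain ⟨c, hc⟩ := scalar_of_mem_center D hn hz
  have h1 := hc e
  rw [sv_tr D he ha, he, mul_zero, zero_smul, add_zero] at h1
  have hc1 : c = 1 := by
    by_contra hne
    apply he0
    have : (1 - c) • e = 0 := by rw [sub_smul, one_smul, ← h1, sub_self]
    rcases smul_eq_zero.1 this with h3 | h3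
    · exact absurd (sub_eq_zero.1 h3).symm hne
    · exact h3
  obtain ⟨f, -, hfe, -⟩ := exists_partner D he0 he
  have h2 := hc f
  rw [sv_tr D he ha, hfe, mul_one, hc1, one_smul] at h2
  have h3 : a • e = 0 := by
    have := congrArg (fun v => v - f) h2
    simpa using this
  rcases smul_eq_zero.1 h3 with h4 | h4
  · exact ha0 h4
  · exact he0 h4

theorem one_notMem_TB (hn : 2 ≤ n) : (1 : Cfsg.PSU n F q) ∉ TB D := by
  rintro ⟨e, a, he0, he, ha, ha0, h⟩
  exact tr_not_mem_center D hn he0 he ha ha0 (pr_eq_one_iff.1 h.symm)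

end

section

open Matrix

variable {F : Type*} [Field F] {n q : ℕ} (D : UF F q)

/-- if all of `Q_e` fixes the isotropic vector `e'` then `e'` is a multiple of `e` -/
theorem par_of_Qg_fix {e e' : Fin n → F} (he0 : e ≠ 0) (he : H D e e = 0)
    (h : ∀ g ∈ Qg D e, sv g e' = e') : ∃ c : F, e' = c • e := by
  obtain ⟨a, ha, ha0⟩ := exists_skew_ne_zero D
  have h1 := h _ (Tg_le_Qg D e ((mem_Tg D he).2 ⟨a, ha, rfl⟩))
  rw [sv_tr D he ha] at h1
  have h2 : (a * H D e' e) • e = 0 := by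
    have := congrArg (fun v => v - e') h1
    simpa using this
  have he'e : H D e' e = 0 := by
    rcases smul_eq_zero.1 h2 with h3 | h3
    · rcases mul_eq_zero.1 h3 with h4 | h4
      · exact absurd h4 ha0
      · exact h4
    · exact absurd h3 he0
  apply mem_span_of_perp D he0
  intro w hw
  obtain ⟨b, hb⟩ := exists_ELOK D he hw
  have h3 := h _ (EL_mem_Qg D hb)
  rw [sv_EL D hb, he'e, zero_smul, mul_zero, zero_smul, add_zero, add_zero] at h3
  have h4 : H D e' w • e = 0 := by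
    have := congrArg (fun v => e' - v) h3
    simpa using this
  rcases smul_eq_zero.1 h4 with h5 | h5
  · exact H_eq_zero_symm D h5
  · exact absurd h5 he0

variable [Fintype F] (p : ℕ) [Fact p.Prime] [CharP F p]

/-- the centre of a Sylow `p`-subgroup of `SU` is a transvection group -/
theorem sylow_SU (hn : 2 ≤ n) (P : Sylow p ↥(Cfsg.SU n F q)) :
    ∃ e : Fin n → F, e ≠ 0 ∧ H D e e = 0 ∧ (∀ s ∈ P, sv s e = e) ∧ Qg D e ≤ P ∧
      ∀ z, (z ∈ P ∧ ∀ s ∈ P, s * z = z * s) ↔ z ∈ Tg D e := by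
  obtain ⟨e, he0, he, hfix⟩ := exists_fixed_isotropic D hn p P.1 P.2
  have hQ : Qg D e ≤ P := by
    have hnorm : (P : Subgroup ↥(Cfsg.SU n F q)) ≤ Subgroup.normalizer (Qg D e : Set ↥(Cfsg.SU n F q)) := by
      intro s hs
      rw [Subgroup.mem_normalizer_iff]
      intro g
      constructor
      · intro hg
        exact conj_mem_Qg D he one_ne_zero (by rw [one_smul]; exact hfix s hs) hg
      · intro hg
        have hs' : sv s⁻¹ e = (1 : F) • e := by
          rw [one_smul]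
          conv_lhs => rw [← hfix s hs]
          rw [sv_inv_sv]
        have := conj_mem_Qg D he one_ne_zero hs' hg
        rw [inv_inv] at this
        have h2 : s⁻¹ * (s * g * s⁻¹) * s = g := by group
        rwa [h2] at this
    have hp : IsPGroup p ↥((P : Subgroup ↥(Cfsg.SU n F q)) ⊔ Qg D e) :=
      IsPGroup.to_sup_of_normal_right' P.2 (isPGroup_Qg D p he) hnorm
    have := P.is_maximal' hp le_sup_left
    calc Qg D e ≤ (P : Subgroup ↥(Cfsg.SU n F q)) ⊔ Qg D e := le_sup_right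
      _ = P := this
  refine ⟨e, he0, he, hfix, hQ, ?_⟩
  intro z
  constructor
  · rintro ⟨hz, hc⟩
    apply mem_Tg_of_comm D he0 he (hfix z hz)
    intro g hg
    exact (hc g (hQ hg)).symm
  · intro hz
    refine ⟨hQ (Tg_le_Qg D e hz), ?_⟩
    intro s hs
    exact Tg_comm D he (hfix s hs) hz

/-- transvections are central in some Sylow subgroup -/
theorem exists_sylow_of_tr (hn : 2 ≤ n) {e : Fin n → F} (he0 : e ≠ 0) (he : H D e e = 0) :
    ∃ P : Sylow p ↥(Cfsg.SU n F q), ∀ z, (z ∈ P ∧ ∀ s ∈ P, s * z = z * s) ↔ z ∈ Tg D e := by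
  obtain ⟨P, hP⟩ := (isPGroup_Qg D p he).exists_le_sylow
  obtain ⟨e', he0', he', hfix, hQ, hz⟩ := sylow_SU D p hn P
  obtain ⟨c, hc⟩ := par_of_Qg_fix D he0 he (fun g hg => hfix g (hP hg))
  have hc0 : c ≠ 0 := by
    rintro rfl
    rw [zero_smul] at hc
    exact he0' hc
  refine ⟨P, ?_⟩
  intro z
  rw [hz z, hc, Tg_smul D he hc0]

end

section

open Matrix

/-- every Sylow subgroup of a quotient is the image of a Sylow subgroup -/
theorem exists_sylow_map {G G' : Type*} [Group G] [Group G'] [Finite G] [Finite G'] (p : ℕ)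
    [Fact p.Prime] (f : G →* G') (hf : Function.Surjective f) (Q : Sylow p G') :
    ∃ P : Sylow p G, (Q : Subgroup G') = (P : Subgroup G).map f := by
  obtain ⟨P0⟩ : Nonempty (Sylow p G) := inferInstance
  obtain ⟨g', hg'⟩ := MulAction.exists_smul_eq G' (P0.mapSurjective hf) Q
  obtain ⟨g, rfl⟩ := hf g'
  refine ⟨g • P0, ?_⟩
  rw [← hg']
  ext y
  rw [Sylow.coe_subgroup_smul, Subgroup.mem_pointwise_smul_iff_inv_smul_mem, Sylow.coe_mapSurjective,
    Sylow.coe_subgroup_smul]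
  simp only [MulAut.smul_def, MulAut.conj_inv_apply]
  constructor
  · intro hy
    obtain ⟨u, hu, hu2⟩ := Subgroup.mem_map.1 hy
    refine Subgroup.mem_map.2 ⟨g * u * g⁻¹, ?_, ?_⟩
    · rw [Subgroup.mem_pointwise_smul_iff_inv_smul_mem]
      simp only [MulAut.smul_def, MulAut.conj_inv_apply]
      have : g⁻¹ * (g * u * g⁻¹) * g = u := by group
      rwa [this]
    · rw [map_mul, map_mul, hu2, map_inv]
      group
  · intro hy
    obtain ⟨u, hu, rfl⟩ := Subgroup.mem_map.1 hy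
    rw [Subgroup.mem_pointwise_smul_iff_inv_smul_mem] at hu
    simp only [MulAut.smul_def, MulAut.conj_inv_apply] at hu
    refine Subgroup.mem_map.2 ⟨g⁻¹ * u * g, hu, ?_⟩
    rw [map_mul, map_mul, map_inv]

variable {F : Type*} [Field F] {n q : ℕ} (D : UF F q)
variable [Fintype F] (p : ℕ) [Fact p.Prime] [CharP F p]

instance : Finite ↥(Cfsg.SU n F q) := by
  classical
  exact inferInstance

/-- the nontrivial transvections of `PSU` are the nontrivial elements which are central in a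
Sylow `p`-subgroup -/
theorem mem_TB_iff (hn : 2 ≤ n) (x : Cfsg.PSU n F q) :
    x ∈ TB D ↔ x ∈ AutPSL.ZS p (Cfsg.PSU n F q) ∧ x ≠ 1 := by
  constructor
  · rintro ⟨e, a, he0, he, ha, ha0, rfl⟩
    refine ⟨?_, fun h => one_notMem_TB D hn (h ▸ ⟨e, a, he0, he, ha, ha0, rfl⟩)⟩
    obtain ⟨P, hP⟩ := exists_sylow_of_tr D p hn he0 he
    have ht := (hP (EL D e 0 a)).2 ((mem_Tg D he).2 ⟨a, ha, rfl⟩)
    refine ⟨P.mapSurjective pr_surjective, ?_, ?_⟩
    · change _ ∈ Sylow.toSubgroup (P.mapSurjective pr_surjective)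
      rw [Sylow.coe_mapSurjective]
      exact Subgroup.mem_map_of_mem _ ht.1
    · intro u hu
      change u ∈ Sylow.toSubgroup (P.mapSurjective pr_surjective) at hu
      rw [Sylow.coe_mapSurjective] at hu
      obtain ⟨y, hy, rfl⟩ := Subgroup.mem_map.1 hu
      rw [← map_mul, ← map_mul, ht.2 y hy]
  · rintro ⟨⟨Q, hxQ, hc⟩, hx1⟩
    obtain ⟨P, hP⟩ := exists_sylow_map p (pr : ↥(Cfsg.SU n F q) →* _) pr_surjective Q
    have hxQ' : x ∈ (Q : Subgroup _) := hxQ
    rw [hP] at hxQ'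
    obtain ⟨t, ht, rfl⟩ := Subgroup.mem_map.1 hxQ'
    obtain ⟨e, he0, he, hfix, hQ, hz⟩ := sylow_SU D p hn P
    have htz : t ∈ Tg D e := by
      rw [← hz]
      refine ⟨ht, ?_⟩
      intro s hs
      have h1 : pr s ∈ (Q : Subgroup _) := by
        rw [hP]; exact Subgroup.mem_map_of_mem _ hs
      have h2 := hc (pr s) h1
      rw [← map_mul, ← map_mul] at h2
      -- the commutator is central and a p-element
      have h3 := pr_eq_pr_iff.1 h2
      have h4 : (s * t)⁻¹ * (t * s) ∈ (P : Subgroup _) :=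
        mul_mem (inv_mem (mul_mem hs ht)) (mul_mem ht hs)
      obtain ⟨k, hk⟩ := P.2 ⟨_, h4⟩
      have hk' : ((s * t)⁻¹ * (t * s)) ^ (p ^ k) = 1 := by
        have := congrArg Subtype.val hk
        simpa using this
      have h5 := eq_one_of_center_of_pow D hn p h3 hk'
      rw [inv_mul_eq_one] at h5
      exact h5
    obtain ⟨a, ha, rfl⟩ := (mem_Tg D he).1 htz
    refine ⟨e, a, he0, he, ha, ?_, rfl⟩
    rintro rfl
    apply hx1
    rw [EL_zero D he, map_one]

include p in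
/-- automorphisms of `PSU` preserve the set of transvections -/
theorem presT (hn : 2 ≤ n) (θ : Cfsg.PSU n F q ≃* Cfsg.PSU n F q) (x : Cfsg.PSU n F q) :
    θ x ∈ TB D ↔ x ∈ TB D := by
  haveI : Finite (Cfsg.PSU n F q) := by
    unfold Cfsg.PSU
    exact inferInstance
  rw [mem_TB_iff D p hn, mem_TB_iff D p hn, AutPSL.ZS_map_iff]
  simp

end

section

open Matrix

variable {F : Type*} [Field F] {n q : ℕ} (D : UF F q)

theorem mat_EL {e w : Fin n → F} {b : F} (h : ELOK D e w b) : mat (EL D e w b) = eich D e w b := by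
  unfold EL
  rw [dif_pos h, mat_mkSU]

theorem mat_tr {e : Fin n → F} {a : F} (he : H D e e = 0) (ha : Skew D a) :
    mat (EL D e 0 a) = AutPSL.tm e (a • cj D e) := by
  rw [mat_EL D ((ELOK_zero_iff D).2 ⟨he, ha⟩)]
  unfold eich
  rw [cj_zero, neg_zero, AutPSL.tm_zero_right, mul_one, zero_add, AutPSL.tm_smul_comm]

theorem mat_eq_of_sv {s t : ↥(Cfsg.SU n F q)} {c : F} (h : ∀ x, sv s x = c • sv t x) :
    mat s = c • mat t := by
  apply Matrix.toLin'.injective
  apply LinearMap.ext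
  intro v
  rw [Matrix.toLin'_apply, map_smul, LinearMap.smul_apply, Matrix.toLin'_apply]
  exact h v

include D in
/-- elements with the same image differ by a scalar -/
theorem exists_smul_of_pr_eq (hn : 2 ≤ n) {s t : ↥(Cfsg.SU n F q)} (h : pr s = pr t) :
    ∃ c : F, c ≠ 0 ∧ ∀ x, sv t x = c • sv s x := by
  obtain ⟨c, hc⟩ := scalar_of_mem_center D hn (pr_eq_pr_iff.1 h)
  have h1 : ∀ x, sv t x = c • sv s x := by
    intro x
    have := hc x
    rw [sv_mul] at this
    have h2 := congrArg (sv s) this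
    rwa [sv_sv_inv, sv_smul] at h2
  refine ⟨c, ?_, h1⟩
  rintro rfl
  obtain ⟨e, he0, -⟩ := exists_isotropic D hn
  have := h1 e
  rw [zero_smul] at this
  exact he0 ((sv_eq_zero_iff t).1 this)

/-- the transvection subgroups of `PSU` -/
def Tb (e : Fin n → F) : Subgroup (Cfsg.PSU n F q) := (Tg D e).map pr

theorem mem_Tb {e : Fin n → F} (he : H D e e = 0) {x : Cfsg.PSU n F q} :
    x ∈ Tb D e ↔ ∃ a, Skew D a ∧ x = pr (EL D e 0 a) := by
  unfold Tb
  rw [Subgroup.mem_map]
  constructor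
  · rintro ⟨t, ht, rfl⟩
    obtain ⟨a, ha, rfl⟩ := (mem_Tg D he).1 ht
    exact ⟨a, ha, rfl⟩
  · rintro ⟨a, ha, rfl⟩
    exact ⟨_, (mem_Tg D he).2 ⟨a, ha, rfl⟩, rfl⟩

theorem Tb_par {e e' : Fin n → F} (he : H D e e = 0) (h : Par e e') : Tb D e' = Tb D e := by
  unfold Tb
  rw [Tg_par D he h]

theorem mem_TB_of_mem_Tb {e : Fin n → F} (he0 : e ≠ 0) (he : H D e e = 0) {x : Cfsg.PSU n F q}
    (hx : x ∈ Tb D e) (hx1 : x ≠ 1) : x ∈ TB D := by
  obtain ⟨a, ha, rfl⟩ := (mem_Tb D he).1 hx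
  refine ⟨e, a, he0, he, ha, ?_, rfl⟩
  rintro rfl
  apply hx1
  rw [EL_zero D he, map_one]

theorem cj_ne_zero {v : Fin n → F} (hv : v ≠ 0) : cj D v ≠ 0 := fun h => hv ((cj_eq_zero D).1 h)

theorem par_of_cj_par {v w : Fin n → F} (h : AutPSL.Par (cj D v) (cj D w)) : Par v w := by
  obtain ⟨c, hc, h1⟩ := h
  refine ⟨D.τ c, (map_ne_zero D.τ).2 hc, ?_⟩
  rw [← cj_cj D w, h1, cj_smul, cj_cj]

/-- if the product of two nontrivial transvections is a transvection or trivial then they have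
the same centre -/
theorem par_of_mul_mem (hn : 3 ≤ n) {e e' : Fin n → F} {a a' : F} (he0 : e ≠ 0) (he : H D e e = 0)
    (he0' : e' ≠ 0) (he' : H D e' e' = 0) (ha : Skew D a) (ha' : Skew D a') (ha0 : a ≠ 0)
    (ha0' : a' ≠ 0)
    (h : pr (EL D e 0 a) * pr (EL D e' 0 a') ∈ TB D ∨ pr (EL D e 0 a) * pr (EL D e' 0 a') = 1) :
    Par e e' := by
  have hφ : a • cj D e ≠ 0 := smul_ne_zero ha0 (cj_ne_zero D he0)
  have hψ : a' • cj D e' ≠ 0 := smul_ne_zero ha0' (cj_ne_zero D he0')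
  have main : ∀ (u χ : Fin n → F), χ ⬝ᵥ u = 0 → ∀ r : F,
      AutPSL.tm u χ = r • (AutPSL.tm e (a • cj D e) * AutPSL.tm e' (a' • cj D e')) → Par e e' := by
    intro u χ h3 r hr
    rcases AutPSL.key hn he0 hφ he0' hψ h3 r hr with h1 | h1
    · exact h1
    · apply par_of_cj_par D
      obtain ⟨c, hc, h2⟩ := h1
      refine ⟨a'⁻¹ * c * a, mul_ne_zero (mul_ne_zero (inv_ne_zero ha0') hc) ha0, ?_⟩
      have h3 := congrArg (fun v => a'⁻¹ • v) h2
      simp only [smul_smul] at h3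
      rw [inv_mul_cancel₀ ha0', one_smul] at h3
      rw [h3, mul_assoc]
  rcases h with h | h
  · obtain ⟨e'', a'', he0'', he'', ha'', ha0'', h1⟩ := h
    rw [← map_mul] at h1
    obtain ⟨c, hc0, hc⟩ := exists_smul_of_pr_eq D (by omega) h1
    have h2 := mat_eq_of_sv hc
    rw [mat_tr D he'' ha'', mat_mul, mat_tr D he ha, mat_tr D he' ha'] at h2
    refine main e'' (a'' • cj D e'') ?_ c h2
    rw [smul_dotProduct, dotProduct_comm]
    change a'' • H D e'' e'' = 0
    rw [he'', smul_zero]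
  · rw [← map_mul] at h
    have h1 : pr (EL D e 0 a * EL D e' 0 a') = pr (1 : ↥(Cfsg.SU n F q)) := by rw [h, map_one]
    obtain ⟨c, hc0, hc⟩ := exists_smul_of_pr_eq D (by omega) h1
    have h2 := mat_eq_of_sv hc
    rw [mat_one, mat_mul, mat_tr D he ha, mat_tr D he' ha'] at h2
    refine main 0 0 (by simp) c ?_
    rw [AutPSL.tm_zero_left]
    exact h2

end

section

open Matrix

variable {F : Type*} [Field F] {n q : ℕ} (D : UF F q)

/-- a nonzero vector orthogonal to two given vectors -/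
theorem exists_perp₂ (hn : 3 ≤ n) (e e' : Fin n → F) :
    ∃ x : Fin n → F, x ≠ 0 ∧ H D x e = 0 ∧ H D x e' = 0 := by
  obtain ⟨z, hz0, h1, h2⟩ := AutPSL.exists_ker₂ hn (cj D e) (cj D e')
  exact ⟨z, hz0, by rw [H, dotProduct_comm]; exact h1, by rw [H, dotProduct_comm]; exact h2⟩

/-- two transvections commute in `SU` iff their centres are orthogonal -/
theorem tr_comm_iff {e e' : Fin n → F} {a a' : F} (he0 : e ≠ 0) (he : H D e e = 0)
    (he0' : e' ≠ 0) (he' : H D e' e' = 0) (ha : Skew D a) (ha' : Skew D a') (ha0 : a ≠ 0)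
    (ha0' : a' ≠ 0) :
    EL D e 0 a * EL D e' 0 a' = EL D e' 0 a' * EL D e 0 a ↔ H D e e' = 0 := by
  constructor
  · intro h
    by_contra hne
    have hne' : H D e' e ≠ 0 := fun h0 => hne (H_eq_zero_symm D h0)
    -- evaluate on a vector x with H x e' = 1
    have key : ∀ x, (a * a' * (H D x e' * H D e' e)) • e = (a * a' * (H D x e * H D e e')) • e' := by
      intro x
      have h1 := congrArg (fun s => sv s x) h
      simp only [sv_mul, sv_tr D he ha, sv_tr D he' ha', H_add_left, H_smul_left] at h1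
      have h2 : x + (a' * H D x e') • e' + (a * (H D x e + a' * H D x e' * H D e' e)) • e
          = x + (a * H D x e) • e + (a' * (H D x e' + a * H D x e * H D e e')) • e' := h1
      have h3 := congrArg (fun v => v - x - (a' * H D x e') • e' - (a * H D x e) • e) h2
      have h4 : (a * a' * (H D x e' * H D e' e)) • e =
          x + (a' * H D x e') • e' + (a * (H D x e + a' * H D x e' * H D e' e)) • e - x -
            (a' * H D x e') • e' - (a * H D x e) • e := by module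
      have h5 : (a * a' * (H D x e * H D e e')) • e' =
          x + (a * H D x e) • e + (a' * (H D x e' + a * H D x e * H D e e')) • e' - x -
            (a' * H D x e') • e' - (a * H D x e) • e := by module
      rw [h4, h5, h3]
    -- take x = e : H e e = 0
    have h1 := key e
    rw [he, zero_mul, mul_zero, zero_smul] at h1
    rcases smul_eq_zero.1 h1 with h2 | h2
    · rcases mul_eq_zero.1 h2 with h3 | h3
      · rcases mul_eq_zero.1 h3 with h4 | h4
        · exact ha0 h4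
        · exact ha0' h4
      · rcases mul_eq_zero.1 h3 with h4 | h4
        · exact hne h4
        · exact hne' h4
    · exact he0 h2
  · intro h
    have h' : H D e' e = 0 := H_eq_zero_symm D h
    apply ext_sv
    intro x
    simp only [sv_mul, sv_tr D he ha, sv_tr D he' ha', H_add_left, H_smul_left, h, h', mul_zero,
      add_zero]
    abel

/-- two transvections commute in `PSU` iff their centres are orthogonal -/
theorem pr_tr_comm_iff (hn : 3 ≤ n) {e e' : Fin n → F} {a a' : F} (he0 : e ≠ 0)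
    (he : H D e e = 0) (he0' : e' ≠ 0) (he' : H D e' e' = 0) (ha : Skew D a) (ha' : Skew D a')
    (ha0 : a ≠ 0) (ha0' : a' ≠ 0) :
    pr (EL D e 0 a) * pr (EL D e' 0 a') = pr (EL D e' 0 a') * pr (EL D e 0 a) ↔ H D e e' = 0 := by
  rw [← tr_comm_iff D he0 he he0' he' ha ha' ha0 ha0']
  constructor
  · intro h
    rw [← map_mul, ← map_mul] at h
    obtain ⟨c, hc0, hc⟩ := exists_smul_of_pr_eq D (by omega) h
    obtain ⟨x, hx0, hxe, hxe'⟩ := exists_perp₂ D hn e e'
    have h1 := hc x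
    simp only [sv_mul, sv_tr D he ha, sv_tr D he' ha', hxe, hxe', mul_zero, zero_smul,
      add_zero] at h1
    have hc1 : c = 1 := by
      by_contra hne
      apply hx0
      have : (1 - c) • x = 0 := by rw [sub_smul, one_smul, ← h1, sub_self]
      rcases smul_eq_zero.1 this with h3 | h3
      · exact absurd (sub_eq_zero.1 h3).symm hne
      · exact h3
    apply ext_sv
    intro y
    rw [hc y, hc1, one_smul]
  · intro h
    rw [← map_mul, ← map_mul, h]

end

section

open Matrix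

variable {F : Type*} [Field F] {n q : ℕ} (D : UF F q)

theorem tr_mul_tr {e : Fin n → F} {a a' : F} (he : H D e e = 0) (ha : Skew D a) (ha' : Skew D a') :
    EL D e 0 a * EL D e 0 a' = EL D e 0 (a + a') := by
  rw [EL_mul D ((ELOK_zero_iff D).2 ⟨he, ha⟩) ((ELOK_zero_iff D).2 ⟨he, ha'⟩), add_zero,
    H_zero_left, sub_zero]

/-- a common nontrivial element forces the same centre -/
theorem par_of_common (hn : 3 ≤ n) {e e' : Fin n → F} {a a' : F} (he0 : e ≠ 0) (he : H D e e = 0)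
    (he0' : e' ≠ 0) (he' : H D e' e' = 0) (ha : Skew D a) (ha' : Skew D a') (ha0 : a ≠ 0)
    (ha0' : a' ≠ 0) (h : pr (EL D e 0 a) = pr (EL D e' 0 a')) : Par e e' := by
  apply par_of_mul_mem D hn he0 he he0' he' ha (ha'.neg D) ha0 (neg_ne_zero.2 ha0')
  right
  rw [h, ← map_mul, tr_mul_tr D he' ha' (ha'.neg D), add_neg_cancel, EL_zero D he', map_one]

theorem Tb_eq_iff (hn : 3 ≤ n) {e e' : Fin n → F} (he0 : e ≠ 0) (he : H D e e = 0)
    (he0' : e' ≠ 0) (he' : H D e' e' = 0) : Tb D e = Tb D e' ↔ Par e e' := by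
  constructor
  · intro h
    obtain ⟨a, ha, ha0⟩ := exists_skew_ne_zero D
    have h1 : pr (EL D e 0 a) ∈ Tb D e' := by
      rw [← h]; exact (mem_Tb D he).2 ⟨a, ha, rfl⟩
    obtain ⟨a', ha', h2⟩ := (mem_Tb D he').1 h1
    have ha0' : a' ≠ 0 := by
      rintro rfl
      rw [EL_zero D he', map_one] at h2
      exact tr_not_mem_center D (by omega) he0 he ha ha0 (pr_eq_one_iff.1 h2)
    exact par_of_common D hn he0 he he0' he' ha ha' ha0 ha0' h2
  · intro h
    exact (Tb_par D he h).symm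

variable [Fintype F] (p : ℕ) [Fact p.Prime] [CharP F p]

include p in
theorem image_Tb_le (hn : 3 ≤ n) (θ : Cfsg.PSU n F q ≃* Cfsg.PSU n F q) {e : Fin n → F}
    (he0 : e ≠ 0) (he : H D e e = 0) :
    ∃ e' : Fin n → F, e' ≠ 0 ∧ H D e' e' = 0 ∧ (Tb D e).map θ.toMonoidHom ≤ Tb D e' := by
  obtain ⟨a0, ha0, ha00⟩ := exists_skew_ne_zero D
  have hx0 : pr (EL D e 0 a0) ∈ TB D := ⟨e, a0, he0, he, ha0, ha00, rfl⟩
  obtain ⟨e1, a1, he01, he1, ha1, ha10, h1⟩ := (presT D p (by omega) θ _).2 hx0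
  refine ⟨e1, he01, he1, ?_⟩
  rintro y hy
  obtain ⟨x, hx, rfl⟩ := Subgroup.mem_map.1 hy
  obtain ⟨a, ha, rfl⟩ := (mem_Tb D he).1 hx
  change θ (pr (EL D e 0 a)) ∈ Tb D e1
  by_cases haz : a = 0
  · rw [haz, EL_zero D he, map_one, map_one]
    exact one_mem _
  have hxT : pr (EL D e 0 a) ∈ TB D := ⟨e, a, he0, he, ha, haz, rfl⟩
  obtain ⟨e2, a2, he02, he2, ha2, ha20, h2⟩ := (presT D p (by omega) θ _).2 hxT
  have hpar : Par e1 e2 := by
    apply par_of_mul_mem D hn he01 he1 he02 he2 ha1 ha2 ha10 ha20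
    rw [← h1, ← h2, ← map_mul, ← map_mul, tr_mul_tr D he ha0 ha]
    by_cases hs : a0 + a = 0
    · right
      rw [hs, EL_zero D he, map_one, map_one]
    · left
      rw [presT D p (by omega) θ]
      exact ⟨e, a0 + a, he0, he, ha0.add D ha, hs, rfl⟩
  rw [h2, ← Tb_par D he1 hpar]
  exact (mem_Tb D he2).2 ⟨a2, ha2, rfl⟩

include p in
/-- automorphisms permute the transvection subgroups -/
theorem image_Tb (hn : 3 ≤ n) (θ : Cfsg.PSU n F q ≃* Cfsg.PSU n F q) {e : Fin n → F}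
    (he0 : e ≠ 0) (he : H D e e = 0) :
    ∃ e' : Fin n → F, e' ≠ 0 ∧ H D e' e' = 0 ∧ (Tb D e).map θ.toMonoidHom = Tb D e' := by
  obtain ⟨e1, he01, he1, h1⟩ := image_Tb_le D p hn θ he0 he
  obtain ⟨e2, he02, he2, h2⟩ := image_Tb_le D p hn θ.symm he01 he1
  refine ⟨e1, he01, he1, le_antisymm h1 ?_⟩
  -- Tb e ≤ Tb e2
  have h3 : Tb D e ≤ Tb D e2 := by
    intro x hx
    apply h2
    refine Subgroup.mem_map.2 ⟨θ x, h1 (Subgroup.mem_map_of_mem _ hx), ?_⟩
    exact θ.symm_apply_apply x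
  have hpar : Par e2 e := by
    obtain ⟨a, ha, ha0⟩ := exists_skew_ne_zero D
    have h4 : pr (EL D e 0 a) ∈ Tb D e2 := h3 ((mem_Tb D he).2 ⟨a, ha, rfl⟩)
    obtain ⟨a', ha', h5⟩ := (mem_Tb D he2).1 h4
    have ha0' : a' ≠ 0 := by
      rintro rfl
      rw [EL_zero D he2, map_one] at h5
      exact tr_not_mem_center D (by omega) he0 he ha ha0 (pr_eq_one_iff.1 h5)
    exact (par_of_common D hn he0 he he02 he2 ha ha' ha0 ha0' h5).symm
  rw [← Tb_par D he2 hpar] at h2
  intro y hy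
  have h6 := h2 (Subgroup.mem_map_of_mem _ hy)
  refine Subgroup.mem_map.2 ⟨θ.symm y, h6, ?_⟩
  exact θ.apply_symm_apply y

include p in
/-- orthogonality of centres is preserved -/
theorem perp_image (hn : 3 ≤ n) (θ : Cfsg.PSU n F q ≃* Cfsg.PSU n F q) {e e' e1 e1' : Fin n → F}
    (he0 : e ≠ 0) (he : H D e e = 0) (he0' : e' ≠ 0) (he' : H D e' e' = 0)
    (he01 : e1 ≠ 0) (he1 : H D e1 e1 = 0) (he01' : e1' ≠ 0) (he1' : H D e1' e1' = 0)
    (h : (Tb D e).map θ.toMonoidHom = Tb D e1) (h' : (Tb D e').map θ.toMonoidHom = Tb D e1') :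
    H D e e' = 0 ↔ H D e1 e1' = 0 := by
  obtain ⟨a, ha, ha0⟩ := exists_skew_ne_zero D
  have h1 : θ (pr (EL D e 0 a)) ∈ Tb D e1 := by
    rw [← h]; exact Subgroup.mem_map_of_mem _ ((mem_Tb D he).2 ⟨a, ha, rfl⟩)
  have h1' : θ (pr (EL D e' 0 a)) ∈ Tb D e1' := by
    rw [← h']; exact Subgroup.mem_map_of_mem _ ((mem_Tb D he').2 ⟨a, ha, rfl⟩)
  obtain ⟨b, hb, h2⟩ := (mem_Tb D he1).1 h1
  obtain ⟨b', hb', h2'⟩ := (mem_Tb D he1').1 h1'
  have hb0 : b ≠ 0 := by
    rintro rfl
    rw [EL_zero D he1, map_one] at h2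
    have := θ.injective (h2.trans (map_one θ).symm)
    exact tr_not_mem_center D (by omega) he0 he ha ha0 (pr_eq_one_iff.1 this)
  have hb0' : b' ≠ 0 := by
    rintro rfl
    rw [EL_zero D he1', map_one] at h2'
    have := θ.injective (h2'.trans (map_one θ).symm)
    exact tr_not_mem_center D (by omega) he0' he' ha ha0 (pr_eq_one_iff.1 this)
  rw [← pr_tr_comm_iff D hn he0 he he0' he' ha ha ha0 ha0,
    ← pr_tr_comm_iff D hn he01 he1 he01' he1' hb hb' hb0 hb0', ← h2, ← h2']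
  constructor
  · intro h3
    rw [← map_mul θ, ← map_mul θ, h3]
  · intro h3
    apply θ.injective
    rw [map_mul θ, map_mul θ, h3]

end

section

open Matrix

variable {F : Type*} [Field F] {n q : ℕ} (D : UF F q)

/-- conjugating a transvection subgroup -/
theorem conj_Tb {e : Fin n → F} (he : H D e e = 0) (s : ↥(Cfsg.SU n F q)) :
    (Tb D e).map (MulAut.conj (pr s)).toMonoidHom = Tb D (sv s e) := by
  have hse : H D (sv s e) (sv s e) = 0 := by rw [H_sv, he]
  ext y
  rw [Subgroup.mem_map]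
  constructor
  · rintro ⟨x, hx, rfl⟩
    obtain ⟨a, ha, rfl⟩ := (mem_Tb D he).1 hx
    change pr s * pr (EL D e 0 a) * (pr s)⁻¹ ∈ _
    rw [← map_inv, ← map_mul, ← map_mul, EL_conj D ((ELOK_zero_iff D).2 ⟨he, ha⟩), sv_zero]
    exact (mem_Tb D hse).2 ⟨a, ha, rfl⟩
  · intro hy
    obtain ⟨a, ha, rfl⟩ := (mem_Tb D hse).1 hy
    refine ⟨pr (EL D e 0 a), (mem_Tb D he).2 ⟨a, ha, rfl⟩, ?_⟩
    change pr s * pr (EL D e 0 a) * (pr s)⁻¹ = _
    rw [← map_inv, ← map_mul, ← map_mul, EL_conj D ((ELOK_zero_iff D).2 ⟨he, ha⟩), sv_zero]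

/-- an automorphism fixing every transvection subgroup is trivial -/
theorem eq_refl_of_fix (hn : 3 ≤ n) (θ : Cfsg.PSU n F q ≃* Cfsg.PSU n F q)
    (h : ∀ e : Fin n → F, e ≠ 0 → H D e e = 0 → (Tb D e).map θ.toMonoidHom = Tb D e) :
    θ = MulEquiv.refl _ := by
  apply MulEquiv.ext
  intro g
  obtain ⟨s, rfl⟩ := pr_surjective g
  obtain ⟨t, ht⟩ := pr_surjective (θ (pr s))
  rw [MulEquiv.refl_apply, ← ht]
  -- s⁻¹ t fixes every isotropic point
  have key : ∀ e : Fin n → F, e ≠ 0 → H D e e = 0 → Par (sv s e) (sv t e) := by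
    intro e he0 he
    have hse : H D (sv s e) (sv s e) = 0 := by rw [H_sv, he]
    have hte : H D (sv t e) (sv t e) = 0 := by rw [H_sv, he]
    rw [← Tb_eq_iff D hn (sv_ne_zero s he0) hse (sv_ne_zero t he0) hte]
    have h1 : (Tb D (sv s e)).map θ.toMonoidHom = Tb D (sv s e) := h (sv s e) (sv_ne_zero s he0) hse
    have h2 : (Tb D (sv s e)).map θ.toMonoidHom = Tb D (sv t e) := by
      rw [← conj_Tb D he s, ← conj_Tb D he t]
      ext y
      simp only [Subgroup.mem_map]
      constructor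
      · rintro ⟨x, ⟨z, hz, rfl⟩, rfl⟩
        have hz' : θ z ∈ Tb D e := by
          rw [← h e he0 he]; exact Subgroup.mem_map_of_mem _ hz
        refine ⟨θ z, hz', ?_⟩
        change pr t * θ z * (pr t)⁻¹ = θ (pr s * z * (pr s)⁻¹)
        rw [map_mul, map_mul, map_inv, ht]
      · rintro ⟨x, hx, rfl⟩
        rw [← h e he0 he] at hx
        obtain ⟨z, hz, rfl⟩ := Subgroup.mem_map.1 hx
        refine ⟨pr s * z * (pr s)⁻¹, ⟨z, hz, rfl⟩, ?_⟩
        change θ (pr s * z * (pr s)⁻¹) = pr t * θ z * (pr t)⁻¹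
        rw [map_mul, map_mul, map_inv, ht]
    exact h1.symm.trans h2
  have hfix : ∀ v : Fin n → F, H D v v = 0 → ∃ c : F, sv (s⁻¹ * t) v = c • v := by
    intro v hv
    by_cases hv0 : v = 0
    · exact ⟨1, by rw [hv0, sv_zero, smul_zero]⟩
    obtain ⟨c, hc0, hc⟩ := key v hv0 hv
    refine ⟨c, ?_⟩
    rw [sv_mul, hc, sv_smul, sv_inv_sv]
  obtain ⟨c, hc⟩ := scalar_of_fix_isotropic D (by omega) (s⁻¹ * t) hfix
  symm
  rw [pr_eq_pr_iff, Subgroup.mem_center_iff]
  intro g
  apply ext_sv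
  intro x
  rw [sv_mul g (s⁻¹ * t), hc, sv_smul, sv_mul (s⁻¹ * t) g, hc]

end

end Cfsg.Agent.Lib.H13.AutPSU
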