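import Mathlib
import Cfsg.Agent.Lib.H13.AutPO1
import Cfsg.Agent.Lib.H13.AutPSU2

/-!
Automorphisms of `PΩ(Q)`, part 2 (helper13): the unipotent radical `Rg u v` of a flag, the centre of a Sylow `p`-subgroup of `Ω(Q)` and
of `PΩ(Q)` is a long root subgroup (`sylow_center`, `sylow_center_bar`), scalars, the projection `pr : Ω → PΩ`, the root
subgroups `Xb L` of `PΩ` determine the line `L` (`Xb_injective`).
-/

set_option autoImplicit false
set_option linter.unusedSectionVars false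
set_option linter.unusedVariables false
set_option linter.unusedSimpArgs false
set_option linter.deprecated false

namespace Cfsg.Agent.Lib.H13.AutPO

section

open Matrix QuadraticMap Module
open scoped commutatorElement

variable {F : Type*} [Field F] {ι : Type} [Fintype ι] [DecidableEq ι]
variable (Q : QuadraticForm F (ι → F))

set_option quotPrecheck false in
local notation "B" => QuadraticMap.polar (⇑Q)

/-! ### the unipotent radical of the stabiliser of a flag `⟨u⟩ ⊂ ⟨u,v⟩` -/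

/-- the group `R_{u,v}` -/
def Rg (u v : ι → F) : Subgroup ↥(Cfsg.Omega F ⇑Q) where
  carrier := {s | sv s u = u ∧ (∃ c : F, sv s v = v + c • u) ∧
    ∀ z, B z u = 0 → B z v = 0 → ∃ a b : F, sv s z = z + a • u + b • v}
  one_mem' := ⟨sv_one u, ⟨0, by rw [sv_one, zero_smul, add_zero]⟩,
    fun z _ _ => ⟨0, 0, by rw [sv_one, zero_smul, zero_smul, add_zero, add_zero]⟩⟩
  mul_mem' := by
    rintro s t ⟨hs, ⟨c, hsc⟩, hs'⟩ ⟨ht, ⟨d, htd⟩, ht'⟩
    refine ⟨by rw [sv_mul, ht, hs], ⟨c + d, ?_⟩, fun z hzu hzv => ?_⟩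
    · rw [sv_mul, htd, sv_add, sv_smul, hs, hsc]; module
    · obtain ⟨a, b, hab⟩ := ht' z hzu hzv
      obtain ⟨a', b', hab'⟩ := hs' z hzu hzv
      refine ⟨a' + a + b * c, b' + b, ?_⟩
      rw [sv_mul, hab, sv_add, sv_add, sv_smul, sv_smul, hs, hsc, hab']
      module
  inv_mem' := by
    rintro s ⟨hs, ⟨c, hsc⟩, hs'⟩
    have hs1 : sv s⁻¹ u = u := by
      conv_lhs => rw [← hs]
      rw [sv_inv_sv]
    have hs2 : sv s⁻¹ v = v + (-c) • u := by
      have := congrArg (sv s⁻¹) hsc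
      rw [sv_inv_sv, sv_add, sv_smul, hs1] at this
      rw [eq_sub_of_add_eq this.symm]; module
    refine ⟨hs1, ⟨-c, hs2⟩, fun z hzu hzv => ?_⟩
    obtain ⟨a, b, hab⟩ := hs' z hzu hzv
    refine ⟨-(a - b * c), -b, ?_⟩
    have := congrArg (sv s⁻¹) hab
    rw [sv_inv_sv, sv_add, sv_add, sv_smul, sv_smul, hs1, hs2] at this
    have h2 : sv s⁻¹ z = z - (a • u + b • (v + -c • u)) := by
      rw [eq_sub_iff_add_eq, ← add_assoc]; exact this.symm
    rw [h2]; module

variable {Q}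

theorem mem_Rg {u v : ι → F} {s : ↥(Cfsg.Omega F ⇑Q)} :
    s ∈ Rg Q u v ↔ sv s u = u ∧ (∃ c : F, sv s v = v + c • u) ∧
      ∀ z, B z u = 0 → B z v = 0 → ∃ a b : F, sv s z = z + a • u + b • v := Iff.rfl

theorem Qg_le_Rg {u v : ι → F} (huv : B u v = 0) : Qg Q u ≤ Rg Q u v := by
  rintro s ⟨hs, hs'⟩
  refine ⟨hs, hs' v (by rw [B_comm, huv]), fun z hzu _ => ?_⟩
  obtain ⟨c, hc⟩ := hs' z hzu
  exact ⟨c, 0, by rw [hc, zero_smul, add_zero]⟩

/-- elements stabilising the flag normalise `R_{u,v}` -/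
theorem conj_mem_Rg {u v : ι → F} {s : ↥(Cfsg.Omega F ⇑Q)} (hsu : sv s u = u)
    (hsv : ∃ c : F, sv s v = v + c • u) {g : ↥(Cfsg.Omega F ⇑Q)} (hg : g ∈ Rg Q u v) :
    s * g * s⁻¹ ∈ Rg Q u v := by
  obtain ⟨c, hc⟩ := hsv
  obtain ⟨hgu, ⟨d, hgd⟩, hg'⟩ := hg
  have hs1 : sv s⁻¹ u = u := by
    conv_lhs => rw [← hsu]
    rw [sv_inv_sv]
  have hs2 : sv s⁻¹ v = v + (-c) • u := by
    have := congrArg (sv s⁻¹) hc
    rw [sv_inv_sv, sv_add, sv_smul, hs1] at this
    rw [eq_sub_of_add_eq this.symm]; module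
  refine ⟨by rw [sv_mul, sv_mul, hs1, hgu, hsu], ⟨d, ?_⟩, fun z hzu hzv => ?_⟩
  · rw [sv_mul, sv_mul, hs2, sv_add, sv_smul, hgu, hgd, sv_add, sv_add, sv_smul, sv_smul, hsu, hc]
    module
  · have h1 : B (sv s⁻¹ z) u = 0 := by
      rw [B_sv_left, inv_inv, hsu, hzu]
    have h2 : B (sv s⁻¹ z) v = 0 := by
      rw [B_sv_left, inv_inv, hc, B_add_right, B_smul_right, hzu, hzv]; ring
    obtain ⟨a, b, hab⟩ := hg' _ h1 h2
    refine ⟨a + b * c, b, ?_⟩
    rw [sv_mul, sv_mul, hab, sv_add, sv_add, sv_smul, sv_smul, sv_sv_inv, hsu, hc]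
    module

section PGroup

variable [Fintype F] (p : ℕ) [Fact p.Prime] [CharP F p]

theorem mat_pow (s : ↥(Cfsg.Omega F ⇑Q)) (k : ℕ) : mat (s ^ k) = mat s ^ k := by
  induction k with
  | zero => rw [pow_zero, pow_zero, mat_one]
  | succ k ih => rw [pow_succ, pow_succ, mat_mul, ih]

/-- `R_{u,v}` is a `p`-group -/
theorem isPGroup_Rg (hn : 1 ≤ Fintype.card ι) (u v : ι → F) : IsPGroup p ↥(Rg Q u v) := by
  haveI : Nonempty ι := Fintype.card_pos_iff.1 (by omega)
  rintro ⟨s, hs⟩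
  refine ⟨3, ?_⟩
  apply Subtype.ext
  show s ^ (p ^ 3) = 1
  obtain ⟨hsu, ⟨c, hc⟩, hs'⟩ := hs
  apply mat_injective
  rw [mat_pow, mat_one]
  set N : Matrix ι ι F := mat s - 1 with hN
  have hNv : ∀ x, N *ᵥ x = sv s x - x := by
    intro x
    rw [hN, sub_mulVec, one_mulVec]; rfl
  have h1 : ∀ x, B (N *ᵥ x) u = 0 := by
    intro x
    rw [hNv, B_sub_left]
    have := B_sv s x u
    rw [hsu] at this
    rw [this, sub_self]
  have h2 : ∀ x, B x u = 0 → B (N *ᵥ x) v = 0 := by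
    intro x hx
    rw [hNv, B_sub_left]
    have hv : v = sv s (v - c • u) := by
      rw [sv_sub, sv_smul, hsu, hc]; module
    have : B (sv s x) v = B x v := by
      conv_lhs => rw [hv]
      rw [B_sv, B_sub_right, B_smul_right, hx]; ring
    rw [this, sub_self]
  have h5 : N ^ 5 = 0 := by
    rw [Matrix.ext_iff_mulVec]
    intro x
    have e : N ^ 5 *ᵥ x = N *ᵥ (N *ᵥ (N *ᵥ (N *ᵥ (N *ᵥ x)))) := by
      simp only [pow_succ, pow_zero, one_mul, mulVec_mulVec, Matrix.mul_assoc]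
    rw [e, zero_mulVec]
    obtain ⟨a, b, hab⟩ := hs' (N *ᵥ (N *ᵥ x)) (h1 _) (h2 _ (h1 _))
    have e3 : N *ᵥ (N *ᵥ (N *ᵥ x)) = a • u + b • v := by
      rw [hNv (N *ᵥ (N *ᵥ x)), hab]; abel
    have e4 : N *ᵥ (a • u + b • v) = (b * c) • u := by
      rw [hNv, sv_add, sv_smul, sv_smul, hsu, hc]; module
    have e5 : N *ᵥ ((b * c) • u) = 0 := by
      rw [hNv, sv_smul, hsu, sub_self]
    rw [e3, e4, e5]
  have hpk : 5 ≤ p ^ 3 := by
    have h2 : 2 ≤ p := (Fact.out : p.Prime).two_le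
    calc 5 ≤ 2 ^ 3 := by norm_num
      _ ≤ p ^ 3 := Nat.pow_le_pow_left h2 3
  have hms : mat s = 1 + N := by rw [hN]; abel
  rw [hms, add_pow_char_pow_of_commute p 3 (Commute.one_left N), one_pow]
  have : N ^ (p ^ 3) = 0 := by
    rw [← Nat.sub_add_cancel hpk, pow_add, h5, mul_zero]
  rw [this, add_zero]

end PGroup

end

section

open Matrix QuadraticMap Module
open scoped commutatorElement

variable {F : Type*} [Field F] {ι : Type} [Fintype ι] [DecidableEq ι]
variable (Q : QuadraticForm F (ι → F))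

set_option quotPrecheck false in
local notation "B" => QuadraticMap.polar (⇑Q)

variable (hQ : (polarBilin Q).Nondegenerate) (hn : 5 ≤ Fintype.card ι)
variable [Fintype F] (p : ℕ) [Fact p.Prime] [CharP F p]

include hQ hn

/-- `ρ_{v,t}` lies in `R_{u,v}` for `t ⊥ u, v` -/
theorem rhoΩ_mem_Rg {u v t : ι → F} (h : TSPair Q u v) (htu : B u t = 0) (htv : B v t = 0) :
    rhoΩ Q v t ∈ Rg Q u v := by
  have hvu : B v u = 0 := by rw [B_comm, h.2.2.1]
  have hvv : B v v = 0 := by rw [B_self, h.2.1, mul_zero]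
  refine ⟨?_, ⟨0, ?_⟩, fun z _ hzv => ⟨0, B z t, ?_⟩⟩
  · rw [sv_rhoΩ Q hQ hn h.2.1 htv, htu, h.2.2.1]; module
  · rw [sv_rhoΩ Q hQ hn h.2.1 htv, hvv, htv]; module
  · rw [sv_rhoΩ Q hQ hn h.2.1 htv, hzv]; module

/-- the centre of a Sylow `p`-subgroup of `Ω` is a long root subgroup -/
theorem sylow_center (P : Sylow p ↥(Cfsg.Omega F ⇑Q)) :
    ∃ u v : ι → F, TSPair Q u v ∧ (∀ s ∈ P, sv s u = u) ∧ (∀ s ∈ P, ∃ c : F, sv s v = v + c • u) ∧
      Rg Q u v ≤ P ∧
      ∀ z, (z ∈ P ∧ ∀ s ∈ P, s * z = z * s) ↔ z ∈ XL Q (Submodule.span F {u, v}) := by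
  obtain ⟨u, hu0, hu, hfix⟩ := exists_fixed_singular Q p (by omega) P.1 P.2
  obtain ⟨f, hf, huf⟩ := exists_hyperbolic_pair Q hQ u hu0 hu
  obtain ⟨v, hv0, hv, huv, hfv, hfixv⟩ := exists_fixed_singular_perp Q p hn hu huf P.1 P.2 hfix
  have hvn : v ∉ Submodule.span F {u} := by
    intro hvs
    obtain ⟨c, rfl⟩ := Submodule.mem_span_singleton.1 hvs
    rw [B_smul_right, B_comm, huf, mul_one] at hfv
    rw [hfv, zero_smul] at hv0
    exact hv0 rfl
  have hts : TSPair Q u v := ⟨hu, hv, huv, li_pair_of_not_mem hu0 hvn⟩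
  have hvu : B v u = 0 := by rw [B_comm, huv]
  have hR : Rg Q u v ≤ P := by
    have hnorm : (P : Subgroup ↥(Cfsg.Omega F ⇑Q)) ≤
        Subgroup.normalizer (Rg Q u v : Set ↥(Cfsg.Omega F ⇑Q)) := by
      intro s hs
      rw [Subgroup.mem_normalizer_iff]
      intro g
      constructor
      · intro hg
        exact conj_mem_Rg (hfix s hs) (hfixv s hs) hg
      · intro hg
        have hs' := inv_mem hs
        have := conj_mem_Rg (hfix _ hs') (hfixv _ hs') hg
        rw [inv_inv] at this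
        have h2 : s⁻¹ * (s * g * s⁻¹) * s = g := by group
        rwa [h2] at this
    have hp : IsPGroup p ↥((P : Subgroup ↥(Cfsg.Omega F ⇑Q)) ⊔ Rg Q u v) :=
      IsPGroup.to_sup_of_normal_right' P.2 (isPGroup_Rg p (by omega) u v) hnorm
    have := P.is_maximal' hp le_sup_left
    calc Rg Q u v ≤ (P : Subgroup ↥(Cfsg.Omega F ⇑Q)) ⊔ Rg Q u v := le_sup_right
      _ = P := this
  have hQP : Qg Q u ≤ P := (Qg_le_Rg huv).trans hR
  refine ⟨u, v, hts, hfix, hfixv, hR, ?_⟩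
  intro z
  constructor
  · rintro ⟨hz, hc⟩
    -- `z` centralises `Q_u`
    obtain ⟨μ, _, hμu, hμ⟩ := centralizer_Qg Q hQ hn hu0 hu (s := z) (fun y hy =>
      (hc _ (hQP (rhoΩ_mem_Qg Q hQ hn hu hy))).symm)
    have hμ1 : μ = 1 := by
      have h1 := hfix z hz
      rw [hμu] at h1
      have h2 : (μ - 1) • u = 0 := by rw [sub_smul, one_smul, h1, sub_self]
      have := (smul_eq_zero.1 h2).resolve_right hu0
      linear_combination this
    have hzQ : z ∈ Qg Q u := by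
      refine ⟨hfix z hz, fun w hw => ?_⟩
      obtain ⟨c, hc⟩ := hμ w hw
      exact ⟨c, by rw [hc, hμ1, one_smul]⟩
    obtain ⟨y₀, hy₀, rfl⟩ := exists_of_mem_Qg Q hQ hn hu0 hu hzQ
    -- commuting with `ρ_{v,t}`
    have key : ∀ t, B u t = 0 → B v t = 0 →
        B y₀ t • v - B y₀ v • t - (Q t * B y₀ v) • v ∈ Submodule.span F {u} := by
      intro t htu htv
      have h1 := hc _ (hR (rhoΩ_mem_Rg Q hQ hn hts htu htv))
      have h2 : rhoΩ Q v t * rhoΩ Q u y₀ * (rhoΩ Q v t)⁻¹ = rhoΩ Q u y₀ := by rw [h1]; group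
      rw [rhoΩ_conj Q hQ hn _ hu hy₀] at h2
      have e1 : sv (rhoΩ Q v t) u = u := by
        rw [sv_rhoΩ Q hQ hn hv htv, htu, huv]; module
      rw [e1] at h2
      have e2 : B u (sv (rhoΩ Q v t) y₀) = 0 := by
        have := B_sv (rhoΩ Q v t) u y₀
        rw [e1] at this
        rw [this, hy₀]
      have h3 := (rhoΩ_eq_iff Q hQ hn hu0 hu e2 hy₀).1 h2
      rw [sv_rhoΩ Q hQ hn hv htv] at h3
      have e3 : y₀ + B y₀ t • v - B y₀ v • t - (Q t * B y₀ v) • v - y₀ =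
          B y₀ t • v - B y₀ v • t - (Q t * B y₀ v) • v := by abel
      rw [e3] at h3
      exact h3
    obtain ⟨t₁, ht₁u, ht₁v, ht₁n⟩ := exists_perp_pair_not_mem Q hQ hn u v
    have hy₀v : B y₀ v = 0 := by
      by_contra hne
      apply ht₁n
      obtain ⟨c, hc⟩ := Submodule.mem_span_singleton.1 (key t₁ ht₁u ht₁v)
      rw [Submodule.mem_span_pair]
      obtain ⟨α, hα⟩ : ∃ α, α = B y₀ t₁ - Q t₁ * B y₀ v := ⟨_, rfl⟩
      obtain ⟨β, hβ⟩ : ∃ β, β = B y₀ v := ⟨_, rfl⟩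
      rw [← hβ] at hne
      refine ⟨-β⁻¹ * c, β⁻¹ * α, ?_⟩
      have h4 : β • t₁ = α • v - c • u := by
        rw [hc, hα, hβ]; module
      calc (-β⁻¹ * c) • u + (β⁻¹ * α) • v = β⁻¹ • (α • v - c • u) := by module
        _ = β⁻¹ • (β • t₁) := by rw [h4]
        _ = t₁ := by rw [smul_smul, inv_mul_cancel₀ hne, one_smul]
    have hy₀m : y₀ ∈ Submodule.span F {u, v} := by
      apply mem_span_pair_of_perp hQ
      intro t htu htv
      obtain ⟨c, hc⟩ := Submodule.mem_span_singleton.1 (key t htu htv)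
      rw [hy₀v] at hc
      simp only [zero_smul, mul_zero, sub_zero] at hc
      by_contra hne
      apply hvn
      rw [Submodule.mem_span_singleton]
      refine ⟨(B y₀ t)⁻¹ * c, ?_⟩
      rw [mul_smul, hc, smul_smul, inv_mul_cancel₀ hne, one_smul]
    obtain ⟨a, b, rfl⟩ := Submodule.mem_span_pair.1 hy₀m
    rw [add_comm, rhoΩ_add_smul Q hQ hn hu (by rw [B_smul_right, huv, mul_zero])]
    exact rhoΩ_mem_XL Q hQ hn hts b
  · intro hz
    obtain ⟨c, rfl⟩ := exists_of_mem_XL Q hQ hn hts hz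
    have hy : B u (c • v) = 0 := by rw [B_smul_right, huv, mul_zero]
    refine ⟨hQP (rhoΩ_mem_Qg Q hQ hn hu hy), fun s hs => ?_⟩
    obtain ⟨d, hd⟩ := hfixv s hs
    have h1 : s * rhoΩ Q u (c • v) * s⁻¹ = rhoΩ Q u (c • v) := by
      rw [rhoΩ_conj Q hQ hn s hu hy, hfix s hs, sv_smul, hd, smul_add, smul_smul,
        rhoΩ_add_smul Q hQ hn hu hy]
    calc s * rhoΩ Q u (c • v) = s * rhoΩ Q u (c • v) * s⁻¹ * s := by group
      _ = rhoΩ Q u (c • v) * s := by rw [h1]

end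

section

open Matrix QuadraticMap Module
open scoped commutatorElement

variable {F : Type*} [Field F] {ι : Type} [Fintype ι] [DecidableEq ι]
variable (Q : QuadraticForm F (ι → F))

set_option quotPrecheck false in
local notation "B" => QuadraticMap.polar (⇑Q)

variable (hQ : (polarBilin Q).Nondegenerate) (hn : 5 ≤ Fintype.card ι)

include hQ hn

/-- vectors fixed modulo `u` by all `ρ_{v,t}`, `t ⊥ u, v`, lie on the line `⟨u,v⟩` -/
theorem mem_span_pair_of_fix {u v x : ι → F} (h : TSPair Q u v)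
    (hx : ∀ t, B u t = 0 → B v t = 0 → sv (rhoΩ Q v t) x - x ∈ Submodule.span F {u}) :
    x ∈ Submodule.span F {u, v} := by
  have hv := h.2.1
  have key : ∀ t, B u t = 0 → B v t = 0 →
      B x t • v - B x v • t - (Q t * B x v) • v ∈ Submodule.span F {u} := by
    intro t htu htv
    have h3 := hx t htu htv
    rw [sv_rhoΩ Q hQ hn hv htv] at h3
    have e3 : x + B x t • v - B x v • t - (Q t * B x v) • v - x =
        B x t • v - B x v • t - (Q t * B x v) • v := by abel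
    rw [e3] at h3
    exact h3
  obtain ⟨t₁, ht₁u, ht₁v, ht₁n⟩ := exists_perp_pair_not_mem Q hQ hn u v
  have hxv : B x v = 0 := by
    by_contra hne
    apply ht₁n
    obtain ⟨c, hc⟩ := Submodule.mem_span_singleton.1 (key t₁ ht₁u ht₁v)
    rw [Submodule.mem_span_pair]
    obtain ⟨α, hα⟩ : ∃ α, α = B x t₁ - Q t₁ * B x v := ⟨_, rfl⟩
    obtain ⟨β, hβ⟩ : ∃ β, β = B x v := ⟨_, rfl⟩
    rw [← hβ] at hne
    refine ⟨-β⁻¹ * c, β⁻¹ * α, ?_⟩
    have h4 : β • t₁ = α • v - c • u := by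
      rw [hc, hα, hβ]; module
    calc (-β⁻¹ * c) • u + (β⁻¹ * α) • v = β⁻¹ • (α • v - c • u) := by module
      _ = β⁻¹ • (β • t₁) := by rw [h4]
      _ = t₁ := by rw [smul_smul, inv_mul_cancel₀ hne, one_smul]
  apply mem_span_pair_of_perp hQ
  intro t htu htv
  obtain ⟨c, hc⟩ := Submodule.mem_span_singleton.1 (key t htu htv)
  rw [hxv] at hc
  simp only [zero_smul, mul_zero, sub_zero] at hc
  by_contra hne
  apply h.not_mem
  rw [Submodule.mem_span_singleton]
  refine ⟨(B x t)⁻¹ * c, ?_⟩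
  rw [mul_smul, hc, smul_smul, inv_mul_cancel₀ hne, one_smul]

omit hQ in
theorem exists_singular [Finite F] : ∃ u : ι → F, u ≠ 0 ∧ Q u = 0 := by
  have h3 : 3 ≤ finrank F (ι → F) := by rw [Module.finrank_fintype_fun_eq_card]; omega
  exact exists_singular_of_three_le Q h3

/-- central elements of `Ω` act as scalars `±1` -/
theorem scalar_of_mem_center [Finite F] {z : ↥(Cfsg.Omega F ⇑Q)}
    (hz : z ∈ Subgroup.center ↥(Cfsg.Omega F ⇑Q)) :
    ∃ μ : F, μ * μ = 1 ∧ ∀ x, sv z x = μ • x := by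
  have hcomm : ∀ s : ↥(Cfsg.Omega F ⇑Q), z * s = s * z := fun s =>
    ((Subgroup.mem_center_iff.1 hz) s).symm
  -- a hyperbolic pair
  obtain ⟨u, hu0, hu⟩ := exists_singular Q hn
  obtain ⟨f, hf, huf⟩ := exists_hyperbolic_pair Q hQ u hu0 hu
  have hf0 : f ≠ 0 := by
    rintro rfl
    rw [B_zero_right] at huf
    exact zero_ne_one huf
  have hfu : B f u = 1 := by rw [B_comm, huf]
  obtain ⟨μ, hμμ, hμu, hμ⟩ := centralizer_Qg Q hQ hn hu0 hu (s := z) (fun y _ => hcomm _)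
  obtain ⟨ν, _, hνf, hν⟩ := centralizer_Qg Q hQ hn hf0 hf (s := z) (fun y _ => hcomm _)
  -- on `⟨u,f⟩^⊥`
  have hw : ∀ w, B w u = 0 → B w f = 0 → sv z w = μ • w ∧ (w ≠ 0 → μ = ν) := by
    intro w hwu hwf
    obtain ⟨c, hc⟩ := hμ w hwu
    obtain ⟨d, hd⟩ := hν w hwf
    have h1 : B (sv z w) f = 0 := by
      rw [hd, B_add_left, B_smul_left, B_smul_left, hwf, B_self, hf]; ring
    have hc0 : c = 0 := by
      rw [hc, B_add_left, B_smul_left, B_smul_left, hwf, huf] at h1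
      linear_combination h1
    have h2 : B (sv z w) u = 0 := by
      rw [hc, B_add_left, B_smul_left, B_smul_left, hwu, B_self, hu]; ring
    have hd0 : d = 0 := by
      rw [hd, B_add_left, B_smul_left, B_smul_left, hwu, hfu] at h2
      linear_combination h2
    rw [hc0, zero_smul, add_zero] at hc
    rw [hd0, zero_smul, add_zero] at hd
    refine ⟨hc, fun hw0 => ?_⟩
    have h3 : (μ - ν) • w = 0 := by rw [sub_smul, ← hc, ← hd, sub_self]
    have := (smul_eq_zero.1 h3).resolve_right hw0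
    linear_combination this
  obtain ⟨w₁, hw₁u, hw₁f, hw₁n⟩ := exists_perp_pair_not_mem Q hQ hn u f
  have hw₁0 : w₁ ≠ 0 := by
    rintro rfl
    exact hw₁n (zero_mem _)
  have hμν : μ = ν := (hw w₁ (by rw [B_comm, hw₁u]) (by rw [B_comm, hw₁f])).2 hw₁0
  refine ⟨μ, hμμ, fun x => ?_⟩
  obtain ⟨w, hwu, hwf, hx⟩ := hyp_decomp hu hf huf x
  rw [hx, sv_add, sv_add, sv_smul, sv_smul, hμu, hνf, (hw w hwu hwf).1, ← hμν]
  module


omit hQ hn in
theorem sv_pow_of_scalar {z : ↥(Cfsg.Omega F ⇑Q)} {μ : F} (h : ∀ x, sv z x = μ • x) (k : ℕ)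
    (x : ι → F) : sv (z ^ k) x = μ ^ k • x := by
  induction k with
  | zero => rw [pow_zero, pow_zero, sv_one, one_smul]
  | succ k ih => rw [pow_succ, sv_mul, h, sv_smul, ih, smul_smul, pow_succ, mul_comm]

/-- a central element of `p`-power order is trivial -/
theorem eq_one_of_center_of_pow [Finite F] (p : ℕ) [Fact p.Prime] [CharP F p]
    {z : ↥(Cfsg.Omega F ⇑Q)} (hz : z ∈ Subgroup.center ↥(Cfsg.Omega F ⇑Q)) {k : ℕ}
    (hk : z ^ (p ^ k) = 1) : z = 1 := by
  obtain ⟨μ, hμμ, hμ⟩ := scalar_of_mem_center Q hQ hn hz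
  obtain ⟨u, hu0, _⟩ := exists_singular Q hn
  have h1 := sv_pow_of_scalar Q hμ (p ^ k) u
  rw [hk, sv_one] at h1
  have h2 : (μ ^ (p ^ k) - 1) • u = 0 := by rw [sub_smul, one_smul, ← h1, sub_self]
  have h3 : μ ^ (p ^ k) = 1 := by
    have := (smul_eq_zero.1 h2).resolve_right hu0
    linear_combination this
  have hμ1 : μ = 1 := by
    by_cases hp2 : p = 2
    · subst hp2
      have h20 : (2 : F) = 0 := by
        have := CharP.cast_eq_zero F 2
        exact_mod_cast this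
      have : (μ - 1) * (μ - 1) = 0 := by linear_combination hμμ + (1 - μ) * h20
      have := mul_self_eq_zero.1 this
      linear_combination this
    · have hodd : Odd (p ^ k) := Odd.pow ((Fact.out : p.Prime).odd_of_ne_two hp2)
      obtain ⟨j, hj⟩ := hodd
      rw [hj, pow_succ, pow_mul, pow_two, hμμ, one_pow, one_mul] at h3
      exact h3
  apply ext_sv
  intro x
  rw [hμ, hμ1, one_smul, sv_one]

/-! ### the projective group -/

omit hQ hn in
/-- the projection `Ω → PΩ` -/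
def pr : ↥(Cfsg.Omega F ⇑Q) →* Cfsg.POmega F ⇑Q := QuotientGroup.mk' _

omit hQ hn in
theorem pr_surjective : Function.Surjective (pr Q) := QuotientGroup.mk'_surjective _

omit hQ hn in
theorem pr_eq_one_iff {s : ↥(Cfsg.Omega F ⇑Q)} :
    pr Q s = 1 ↔ s ∈ Subgroup.center ↥(Cfsg.Omega F ⇑Q) := by
  rw [pr, QuotientGroup.mk'_apply, QuotientGroup.eq_one_iff]

omit hQ hn in
theorem pr_eq_pr_iff {s t : ↥(Cfsg.Omega F ⇑Q)} :
    pr Q s = pr Q t ↔ s⁻¹ * t ∈ Subgroup.center ↥(Cfsg.Omega F ⇑Q) := by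
  rw [pr, QuotientGroup.mk'_apply, QuotientGroup.mk'_apply, QuotientGroup.eq]

/-- `pr` is injective on `p`-subgroups -/
theorem pr_injOn_pGroup [Finite F] (p : ℕ) [Fact p.Prime] [CharP F p]
    {R : Subgroup ↥(Cfsg.Omega F ⇑Q)} (hR : IsPGroup p R) {s t : ↥(Cfsg.Omega F ⇑Q)}
    (hs : s ∈ R) (ht : t ∈ R) (h : pr Q s = pr Q t) : s = t := by
  have h1 := (pr_eq_pr_iff Q).1 h
  obtain ⟨k, hk⟩ := hR ⟨s⁻¹ * t, mul_mem (inv_mem hs) ht⟩
  have hk' : (s⁻¹ * t) ^ (p ^ k) = 1 := by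
    have := congrArg Subtype.val hk
    simpa using this
  have := eq_one_of_center_of_pow Q hQ hn p h1 hk'
  rw [inv_mul_eq_one] at this
  exact this

end

section

open Matrix QuadraticMap Module
open scoped commutatorElement

variable {F : Type*} [Field F] {ι : Type} [Fintype ι] [DecidableEq ι]
variable (Q : QuadraticForm F (ι → F))

set_option quotPrecheck false in
local notation "B" => QuadraticMap.polar (⇑Q)

/-- the centre of a subgroup, as a subgroup of the ambient group -/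
def ZP {G : Type*} [Group G] (P : Subgroup G) : Subgroup G := P ⊓ Subgroup.centralizer (P : Set G)

theorem mem_ZP {G : Type*} [Group G] {P : Subgroup G} {z : G} :
    z ∈ ZP P ↔ z ∈ P ∧ ∀ s ∈ P, s * z = z * s := by
  rw [ZP, Subgroup.mem_inf, Subgroup.mem_centralizer_iff]
  rfl

theorem ZP_map {G : Type*} [Group G] (θ : G ≃* G) (P : Subgroup G) :
    (ZP P).map θ.toMonoidHom = ZP (P.map θ.toMonoidHom) := by
  ext x
  rw [Subgroup.mem_map, mem_ZP]
  constructor
  · rintro ⟨z, hz, rfl⟩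
    rw [mem_ZP] at hz
    refine ⟨Subgroup.mem_map_of_mem _ hz.1, ?_⟩
    rintro _ ⟨s, hs, rfl⟩
    show θ s * θ z = θ z * θ s
    rw [← map_mul, ← map_mul, hz.2 s hs]
  · rintro ⟨⟨z, hz, rfl⟩, hc⟩
    refine ⟨z, ?_, rfl⟩
    rw [mem_ZP]
    refine ⟨hz, fun s hs => ?_⟩
    have := hc (θ s) (Subgroup.mem_map_of_mem _ hs)
    apply θ.injective
    rw [map_mul, map_mul]
    exact this

/-- totally singular lines -/
def IsLine (L : Submodule F (ι → F)) : Prop :=
  ∃ u v : ι → F, TSPair Q u v ∧ L = Submodule.span F {u, v}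

/-- the long root subgroups of `PΩ` -/
def Xb (L : Submodule F (ι → F)) : Subgroup (Cfsg.POmega F ⇑Q) := (XL Q L).map (pr Q)

variable (hQ : (polarBilin Q).Nondegenerate) (hn : 5 ≤ Fintype.card ι)
variable [Fintype F] (p : ℕ) [Fact p.Prime] [CharP F p]

include hQ hn

theorem XL_le_Qg {u v : ι → F} (h : TSPair Q u v) : XL Q (Submodule.span F {u, v}) ≤ Qg Q u := by
  intro s hs
  obtain ⟨c, rfl⟩ := exists_of_mem_XL Q hQ hn h hs
  exact rhoΩ_mem_Qg Q hQ hn h.1 (by rw [B_smul_right, h.2.2.1, mul_zero])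

theorem isPGroup_XL {u v : ι → F} (h : TSPair Q u v) :
    IsPGroup p ↥(XL Q (Submodule.span F {u, v})) :=
  (isPGroup_Rg p (by omega) u v).to_le ((XL_le_Qg Q hQ hn h).trans (Qg_le_Rg h.2.2.1))

/-- a non-trivial element of the root group of `⟨u,v⟩` determines the line -/
theorem le_of_mem_XL {u v : ι → F} (h : TSPair Q u v) {s : ↥(Cfsg.Omega F ⇑Q)}
    (hs : s ∈ XL Q (Submodule.span F {u, v})) (hs1 : s ≠ 1) {L' : Submodule F (ι → F)}
    (hs' : s ∈ XL Q L') : Submodule.span F {u, v} ≤ L' := by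
  obtain ⟨c, rfl⟩ := exists_of_mem_XL Q hQ hn h hs
  have hc : c ≠ 0 := by
    rintro rfl
    rw [zero_smul, rhoΩ_zero] at hs1
    exact hs1 rfl
  have hy : B u (c • v) = 0 := by rw [B_smul_right, h.2.2.1, mul_zero]
  have hQy : Q (c • v) = 0 := by rw [Q_smul, h.2.1, mul_zero]
  obtain ⟨u', huu', hvu'⟩ := exists_dual_pair Q hQ h.2.2.2
  obtain ⟨v', hvv', huv'⟩ := exists_dual_pair Q hQ h.symm.2.2.2
  have key : ∀ x, sv (rhoΩ Q u (c • v)) x - x = (c * B x v) • u - (c * B x u) • v := by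
    intro x
    rw [sv_rhoΩ Q hQ hn h.1 hy, hQy, B_smul_right]
    module
  have h1 := hs'.1 u'
  have h2 := hs'.1 v'
  rw [key, B_comm Q u' v, B_comm Q u' u, hvu', huu'] at h1
  rw [key, B_comm Q v' v, B_comm Q v' u, hvv', huv'] at h2
  have hv : v ∈ L' := by
    have h3 : v = (-c⁻¹) • ((c * 0) • u - (c * 1) • v) := by
      rw [mul_zero, zero_smul, zero_sub, mul_one, smul_neg, neg_smul, neg_neg, smul_smul,
        inv_mul_cancel₀ hc, one_smul]
    rw [h3]
    exact Submodule.smul_mem _ _ h1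
  have hu : u ∈ L' := by
    have h3 : u = c⁻¹ • ((c * 1) • u - (c * 0) • v) := by
      rw [mul_zero, zero_smul, sub_zero, mul_one, smul_smul, inv_mul_cancel₀ hc, one_smul]
    rw [h3]
    exact Submodule.smul_mem _ _ h2
  rw [Submodule.span_le]
  rintro x (rfl | rfl)
  · exact hu
  · exact hv

end

section

open Matrix QuadraticMap Module
open scoped commutatorElement

variable {F : Type*} [Field F] {ι : Type} [Fintype ι] [DecidableEq ι]
variable (Q : QuadraticForm F (ι → F))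

set_option quotPrecheck false in
local notation "B" => QuadraticMap.polar (⇑Q)

omit [Fintype ι] [DecidableEq ι] in
theorem range_pair (u v : ι → F) : Set.range ![u, v] = {u, v} := by
  ext x
  simp only [Set.mem_range, Set.mem_insert_iff, Set.mem_singleton_iff]
  constructor
  · rintro ⟨i, rfl⟩
    fin_cases i
    · left; rfl
    · right; rfl
  · rintro (rfl | rfl)
    · exact ⟨0, rfl⟩
    · exact ⟨1, rfl⟩

variable {Q}

theorem TSPair.finrank_span {u v : ι → F} (h : TSPair Q u v) :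
    finrank F ↥(Submodule.span F {u, v}) = 2 := by
  have := finrank_span_eq_card h.2.2.2
  rw [range_pair] at this
  rw [this]; rfl

theorem IsLine.finrank {L : Submodule F (ι → F)} (h : IsLine Q L) : finrank F ↥L = 2 := by
  obtain ⟨u, v, huv, rfl⟩ := h
  exact huv.finrank_span

theorem IsLine.eq_of_le {L L' : Submodule F (ι → F)} (h : IsLine Q L) (h' : IsLine Q L')
    (hle : L ≤ L') : L = L' :=
  Submodule.eq_of_le_of_finrank_eq hle (by rw [h.finrank, h'.finrank])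

theorem IsLine.sing {L : Submodule F (ι → F)} (h : IsLine Q L) {x : ι → F} (hx : x ∈ L) :
    Q x = 0 := by
  obtain ⟨u, v, huv, rfl⟩ := h
  obtain ⟨a, b, rfl⟩ := Submodule.mem_span_pair.1 hx
  exact huv.Q_comb a b

theorem IsLine.le_perp {L : Submodule F (ι → F)} (h : IsLine Q L) : L ≤ perp Q L := by
  obtain ⟨u, v, huv, rfl⟩ := h
  exact huv.mem_perp_self

variable (Q)
variable (hQ : (polarBilin Q).Nondegenerate) (hn : 5 ≤ Fintype.card ι)
variable [Fintype F] (p : ℕ) [Fact p.Prime] [CharP F p]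

include hQ hn

/-- every long root subgroup is the centre of a Sylow `p`-subgroup -/
theorem exists_sylow_of_line {u v : ι → F} (h : TSPair Q u v) :
    ∃ P : Sylow p ↥(Cfsg.Omega F ⇑Q),
      ZP (P : Subgroup ↥(Cfsg.Omega F ⇑Q)) = XL Q (Submodule.span F {u, v}) := by
  obtain ⟨P, hP⟩ := (isPGroup_Rg (Q := Q) p (by omega) u v).exists_le_sylow
  obtain ⟨u₁, v₁, h₁, hfix, hfixv, hR, hz⟩ := sylow_center Q hQ hn p P
  have hu0 := h.ne_zero_left
  have hu₁ : u₁ ∈ Submodule.span F {u} := by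
    apply mem_span_of_Qg_fix Q hQ hn hu0 h.1
    intro y hy
    exact hfix _ (hP (Qg_le_Rg h.2.2.1 (rhoΩ_mem_Qg Q hQ hn h.1 hy)))
  obtain ⟨a, ha⟩ := Submodule.mem_span_singleton.1 hu₁
  have ha0 : a ≠ 0 := by
    rintro rfl
    rw [zero_smul] at ha
    exact h₁.ne_zero_left ha.symm
  have hv₁ : v₁ ∈ Submodule.span F {u, v} := by
    apply mem_span_pair_of_fix Q hQ hn h
    intro t htu htv
    obtain ⟨c, hc⟩ := hfixv _ (hP (rhoΩ_mem_Rg Q hQ hn h htu htv))
    rw [hc, add_sub_cancel_left, ← ha, smul_smul]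
    exact Submodule.smul_mem _ _ (Submodule.mem_span_singleton_self u)
  have hle : Submodule.span F {u₁, v₁} ≤ Submodule.span F {u, v} := by
    rw [Submodule.span_le]
    rintro x (rfl | rfl)
    · rw [← ha]
      exact Submodule.smul_mem _ _ (Submodule.subset_span (by simp))
    · exact hv₁
  have heq : Submodule.span F {u₁, v₁} = Submodule.span F {u, v} :=
    IsLine.eq_of_le ⟨u₁, v₁, h₁, rfl⟩ ⟨u, v, h, rfl⟩ hle
  refine ⟨P, ?_⟩
  ext z
  rw [mem_ZP, ← heq]
  exact hz z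

/-- the centre of a Sylow `p`-subgroup of `PΩ` is a long root subgroup -/
theorem sylow_center_bar (P' : Sylow p (Cfsg.POmega F ⇑Q)) :
    ∃ L, IsLine Q L ∧ ZP (P' : Subgroup (Cfsg.POmega F ⇑Q)) = Xb Q L := by
  haveI : Finite (Cfsg.POmega F ⇑Q) := by
    unfold Cfsg.POmega
    exact inferInstance
  obtain ⟨P, hP⟩ := AutPSU.exists_sylow_map p (pr Q) (pr_surjective Q) P'
  obtain ⟨u, v, h, hfix, hfixv, hR, hz⟩ := sylow_center Q hQ hn p P
  refine ⟨_, ⟨u, v, h, rfl⟩, ?_⟩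
  ext x
  rw [mem_ZP, hP, Xb]
  constructor
  · rintro ⟨hx, hc⟩
    obtain ⟨t, ht, rfl⟩ := Subgroup.mem_map.1 hx
    refine Subgroup.mem_map.2 ⟨t, ?_, rfl⟩
    rw [← hz]
    refine ⟨ht, fun s hs => ?_⟩
    have h2 := hc (pr Q s) (Subgroup.mem_map_of_mem _ hs)
    rw [← map_mul, ← map_mul] at h2
    exact pr_injOn_pGroup Q hQ hn p P.2 (mul_mem hs ht) (mul_mem ht hs) h2
  · intro hx
    obtain ⟨t, ht, rfl⟩ := Subgroup.mem_map.1 hx
    have := (hz t).2 ht
    refine ⟨Subgroup.mem_map_of_mem _ this.1, ?_⟩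
    rintro _ ⟨s, hs, rfl⟩
    rw [← map_mul, ← map_mul, this.2 s hs]

/-- every long root subgroup of `PΩ` is the centre of a Sylow `p`-subgroup -/
theorem exists_sylow_bar_of_line {L : Submodule F (ι → F)} (hL : IsLine Q L) :
    ∃ P' : Sylow p (Cfsg.POmega F ⇑Q), ZP (P' : Subgroup (Cfsg.POmega F ⇑Q)) = Xb Q L := by
  haveI : Finite (Cfsg.POmega F ⇑Q) := by
    unfold Cfsg.POmega
    exact inferInstance
  obtain ⟨u, v, h, rfl⟩ := hL
  obtain ⟨P, hP⟩ := exists_sylow_of_line Q hQ hn p h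
  refine ⟨P.mapSurjective (pr_surjective Q), ?_⟩
  ext x
  rw [mem_ZP, Xb, ← hP]
  constructor
  · rintro ⟨hx, hc⟩
    change x ∈ Sylow.toSubgroup (P.mapSurjective (pr_surjective Q)) at hx
    rw [Sylow.coe_mapSurjective] at hx
    obtain ⟨t, ht, rfl⟩ := Subgroup.mem_map.1 hx
    refine Subgroup.mem_map.2 ⟨t, ?_, rfl⟩
    rw [mem_ZP]
    refine ⟨ht, fun s hs => ?_⟩
    have hs' : pr Q s ∈ (P.mapSurjective (pr_surjective Q)) := by
      change _ ∈ Sylow.toSubgroup (P.mapSurjective (pr_surjective Q))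
      rw [Sylow.coe_mapSurjective]
      exact Subgroup.mem_map_of_mem _ hs
    have h2 := hc (pr Q s) hs'
    rw [← map_mul, ← map_mul] at h2
    exact pr_injOn_pGroup Q hQ hn p P.2 (mul_mem hs ht) (mul_mem ht hs) h2
  · intro hx
    obtain ⟨t, ht, rfl⟩ := Subgroup.mem_map.1 hx
    rw [mem_ZP] at ht
    refine ⟨?_, ?_⟩
    · change _ ∈ Sylow.toSubgroup (P.mapSurjective (pr_surjective Q))
      rw [Sylow.coe_mapSurjective]
      exact Subgroup.mem_map_of_mem _ ht.1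
    · intro y hy
      change y ∈ Sylow.toSubgroup (P.mapSurjective (pr_surjective Q)) at hy
      rw [Sylow.coe_mapSurjective] at hy
      obtain ⟨s, hs, rfl⟩ := Subgroup.mem_map.1 hy
      rw [← map_mul, ← map_mul, ht.2 s hs]

end

section

open Matrix QuadraticMap Module
open scoped commutatorElement

variable {F : Type*} [Field F] {ι : Type} [Fintype ι] [DecidableEq ι]
variable (Q : QuadraticForm F (ι → F))

set_option quotPrecheck false in
local notation "B" => QuadraticMap.polar (⇑Q)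

variable (hQ : (polarBilin Q).Nondegenerate) (hn : 5 ≤ Fintype.card ι)

include hQ

/-- a non-zero vector orthogonal to a small subspace -/
theorem exists_ne_zero_perp (W : Submodule F (ι → F)) (h : finrank F ↥W < Fintype.card ι) :
    ∃ x : ι → F, x ≠ 0 ∧ x ∈ perp Q W := by
  have h1 : 0 < finrank F ↥(perp Q W) := by rw [finrank_perp hQ]; omega
  have h2 : perp Q W ≠ ⊥ := by
    intro h3
    rw [h3, finrank_bot] at h1
    exact lt_irrefl _ h1
  obtain ⟨x, hx, hx0⟩ := (Submodule.ne_bot_iff _).1 h2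
  exact ⟨x, hx0, hx⟩

omit hQ in
theorem perp_sup (W W' : Submodule F (ι → F)) : perp Q (W ⊔ W') = perp Q W ⊓ perp Q W' := by
  ext x
  rw [Submodule.mem_inf, mem_perp, mem_perp, mem_perp]
  constructor
  · intro h
    exact ⟨fun w hw => h w (Submodule.mem_sup_left hw), fun w hw => h w (Submodule.mem_sup_right hw)⟩
  · rintro ⟨h1, h2⟩ w hw
    obtain ⟨a, ha, b, hb, rfl⟩ := Submodule.mem_sup.1 hw
    rw [B_add_left, h1 a ha, h2 b hb, add_zero]

include hn

/-- two elements of `Ω` with the same image in `PΩ` and a common non-zero fixed vector are equal -/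
theorem eq_of_pr_eq_of_fix [Finite F] {s t : ↥(Cfsg.Omega F ⇑Q)} (h : pr Q s = pr Q t) {x : ι → F}
    (hx0 : x ≠ 0) (hs : sv s x = x) (ht : sv t x = x) : s = t := by
  have h1 := (pr_eq_pr_iff Q).1 h
  obtain ⟨μ, _, hμ⟩ := scalar_of_mem_center Q hQ hn h1
  have h2 : sv (s⁻¹ * t) x = x := by
    rw [sv_mul, ht]
    conv_lhs => rw [← hs]
    rw [sv_inv_sv]
  rw [hμ] at h2
  have h3 : (μ - 1) • x = 0 := by rw [sub_smul, one_smul, h2, sub_self]
  have hμ1 : μ = 1 := by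
    have := (smul_eq_zero.1 h3).resolve_right hx0
    linear_combination this
  have : s⁻¹ * t = 1 := by
    apply ext_sv
    intro y
    rw [hμ, hμ1, one_smul, sv_one]
  rw [inv_mul_eq_one] at this
  exact this

variable {Q} in
omit hQ hn in
theorem IsLine.finrank_sup_le {L M : Submodule F (ι → F)} (hL : IsLine Q L) (hM : IsLine Q M) :
    Module.finrank F ↥(L ⊔ M) ≤ 4 := by
  have := Submodule.finrank_add_le_finrank_add_finrank L M
  rw [hL.finrank, hM.finrank] at this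
  omega

/-- the root subgroup determines the line -/
theorem Xb_injective [Fintype F] {L L' : Submodule F (ι → F)} (hL : IsLine Q L) (hL' : IsLine Q L')
    (h : Xb Q L = Xb Q L') : L = L' := by
  obtain ⟨u, v, huv, rfl⟩ := hL
  have hy : B u ((1 : F) • v) = 0 := by rw [B_smul_right, huv.2.2.1, mul_zero]
  have hs := rhoΩ_mem_XL Q hQ hn huv 1
  have hs1 : rhoΩ Q u ((1 : F) • v) ≠ 1 := by
    intro h1
    rw [rhoΩ_eq_one_iff Q hQ hn huv.ne_zero_left huv.1 hy, one_smul] at h1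
    exact huv.not_mem h1
  have h2 : pr Q (rhoΩ Q u ((1 : F) • v)) ∈ Xb Q L' := by
    rw [← h]; exact Subgroup.mem_map_of_mem _ hs
  obtain ⟨t, ht, hpt⟩ := Subgroup.mem_map.1 h2
  obtain ⟨x, hx0, hx⟩ := exists_ne_zero_perp Q hQ (Submodule.span F {u, v} ⊔ L') (by
    have := IsLine.finrank_sup_le ⟨u, v, huv, rfl⟩ hL'
    omega)
  rw [perp_sup, Submodule.mem_inf] at hx
  have e : t = rhoΩ Q u ((1 : F) • v) :=
    eq_of_pr_eq_of_fix Q hQ hn hpt hx0 (ht.2.1 x hx.2) (hs.2.1 x hx.1)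
  rw [e] at ht
  exact IsLine.eq_of_le ⟨u, v, huv, rfl⟩ hL' (le_of_mem_XL Q hQ hn huv hs hs1 ht)

end

end Cfsg.Agent.Lib.H13.AutPO
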