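import Mathlib
import Cfsg.Agent.Lib.H13.AutPO2

/-!
Automorphisms of `PΩ(Q)`, part 3 (helper13): commuting of root subgroups means the lines are perpendicular or meet (`gcom_iff`), products of
root elements being root elements means perpendicular and meeting (`gadj_iff`), the permutation `lam` of the totally singular lines
induced by an automorphism, claws separate intersecting lines from perpendicular disjoint lines (dimension at least `9`), and
automorphisms preserve incidence of lines away from the triality case (`lmeet_lam_iff`).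
-/

set_option autoImplicit false
set_option linter.unusedSectionVars false
set_option linter.unusedVariables false
set_option linter.unusedSimpArgs false
set_option linter.deprecated false

namespace Cfsg.Agent.Lib.H13.AutPO

section

open Matrix QuadraticMap Module
open scoped commutatorElement

variable {F : Type*} [Field F] {ι : Type} [Fintype ι] [DecidableEq ι]
variable (Q : QuadraticForm F (ι → F))

set_option quotPrecheck false in
local notation "B" => QuadraticMap.polar (⇑Q)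

/-! ### relations between totally singular lines -/

/-- perpendicular lines -/
def LPerp (L M : Submodule F (ι → F)) : Prop := L ≤ perp Q M

/-- lines with a common point -/
def LMeet (L M : Submodule F (ι → F)) : Prop := L ⊓ M ≠ ⊥

/-- commuting root subgroups -/
def GCom (L M : Submodule F (ι → F)) : Prop := ∀ x ∈ Xb Q L, ∀ y ∈ Xb Q M, x * y = y * x

/-- root subgroups whose product consists of root elements -/
def GAdj (L M : Submodule F (ι → F)) : Prop :=
  L ≠ M ∧ GCom Q L M ∧ ∀ x ∈ Xb Q L, ∀ y ∈ Xb Q M, ∃ N, IsLine Q N ∧ x * y ∈ Xb Q N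

variable {Q}

theorem LPerp.symm {L M : Submodule F (ι → F)} (h : LPerp Q L M) : LPerp Q M L := by
  intro x hx
  rw [mem_perp]
  intro w hw
  have := mem_perp'.1 (h hw) x hx
  exact this

theorem LMeet.symm {L M : Submodule F (ι → F)} (h : LMeet L M) : LMeet M L := by
  unfold LMeet at h ⊢
  rwa [inf_comm]

omit [Fintype ι] [DecidableEq ι] in
theorem lmeet_iff {L M : Submodule F (ι → F)} : LMeet L M ↔ ∃ w, w ≠ 0 ∧ w ∈ L ∧ w ∈ M := by
  unfold LMeet
  rw [Submodule.ne_bot_iff]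
  constructor
  · rintro ⟨w, hw, hw0⟩
    exact ⟨w, hw0, (Submodule.mem_inf.1 hw).1, (Submodule.mem_inf.1 hw).2⟩
  · rintro ⟨w, hw0, h1, h2⟩
    exact ⟨w, Submodule.mem_inf.2 ⟨h1, h2⟩, hw0⟩

/-- a non-zero vector of a line extends to a basis -/
theorem IsLine.exists_basis {L : Submodule F (ι → F)} (hL : IsLine Q L) {w : ι → F} (hw : w ∈ L)
    (hw0 : w ≠ 0) : ∃ v, TSPair Q w v ∧ L = Submodule.span F {w, v} := by
  obtain ⟨u, v, huv, rfl⟩ := hL
  obtain ⟨a, b, rfl⟩ := Submodule.mem_span_pair.1 hw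
  have huu : B u u = 0 := by rw [B_self, huv.1, mul_zero]
  have hvv : B v v = 0 := by rw [B_self, huv.2.1, mul_zero]
  have hvu : B v u = 0 := by rw [B_comm, huv.2.2.1]
  have hli := huv.2.2.2
  rw [LinearIndependent.pair_iff] at hli
  by_cases ha : a = 0
  · subst ha
    have hb : b ≠ 0 := by
      rintro rfl
      apply hw0; simp
    have hts : TSPair Q ((0:F) • u + b • v) u := by
      refine ⟨huv.Q_comb (0:F) b, huv.1, ?_, ?_⟩
      · rw [B_add_left, B_smul_left, B_smul_left, huu, hvu]; ring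
      · rw [LinearIndependent.pair_iff]
        intro s t hst
        have := hli t (s * b) (by rw [← hst]; module)
        exact ⟨(mul_eq_zero.1 this.2).resolve_right hb, this.1⟩
    refine ⟨u, hts, ?_⟩
    symm
    apply IsLine.eq_of_le ⟨_, _, hts, rfl⟩ ⟨u, v, huv, rfl⟩
    rw [Submodule.span_le]
    rintro x (rfl | rfl)
    · exact hw
    · exact Submodule.subset_span (by simp)
  · have hts : TSPair Q (a • u + b • v) v := by
      refine ⟨huv.Q_comb a b, huv.2.1, ?_, ?_⟩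
      · rw [B_add_left, B_smul_left, B_smul_left, huv.2.2.1, hvv]; ring
      · rw [LinearIndependent.pair_iff]
        intro s t hst
        have := hli (s * a) (s * b + t) (by rw [← hst]; module)
        have hs : s = 0 := (mul_eq_zero.1 this.1).resolve_right ha
        refine ⟨hs, ?_⟩
        have h2 := this.2
        rw [hs, zero_mul, zero_add] at h2
        exact h2
    refine ⟨v, hts, ?_⟩
    symm
    apply IsLine.eq_of_le ⟨_, _, hts, rfl⟩ ⟨u, v, huv, rfl⟩
    rw [Submodule.span_le]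
    rintro x (rfl | rfl)
    · exact hw
    · exact Submodule.subset_span (by simp)

variable (Q)
variable (hQ : (polarBilin Q).Nondegenerate) (hn : 5 ≤ Fintype.card ι)
variable [Fintype F]

include hQ hn

/-- `Q_u` is abelian -/
theorem Qg_comm {u : ι → F} (hu0 : u ≠ 0) (hu : Q u = 0) {s t : ↥(Cfsg.Omega F ⇑Q)}
    (hs : s ∈ Qg Q u) (ht : t ∈ Qg Q u) : s * t = t * s := by
  obtain ⟨y, hy, rfl⟩ := exists_of_mem_Qg Q hQ hn hu0 hu hs
  obtain ⟨y', hy', rfl⟩ := exists_of_mem_Qg Q hQ hn hu0 hu ht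
  rw [rhoΩ_mul Q hQ hn hu hy hy', rhoΩ_mul Q hQ hn hu hy' hy, add_comm]

/-- the root subgroup of a line lies in `Q_w` for every point `w` of the line -/
theorem XL_le_Qg' {L : Submodule F (ι → F)} (hL : IsLine Q L) {w : ι → F} (hw : w ∈ L)
    (hw0 : w ≠ 0) : XL Q L ≤ Qg Q w := by
  obtain ⟨v, hts, rfl⟩ := hL.exists_basis hw hw0
  exact XL_le_Qg Q hQ hn hts

omit hQ hn in
/-- root subgroups of perpendicular lines commute -/
theorem comm_of_perp {L M : Submodule F (ι → F)} (h : LPerp Q L M) {s t : ↥(Cfsg.Omega F ⇑Q)}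
    (hs : s ∈ XL Q L) (ht : t ∈ XL Q M) : s * t = t * s := by
  apply ext_sv
  intro x
  have h1 : sv t x - x ∈ perp Q L := h.symm (ht.1 x)
  have h2 : sv s x - x ∈ perp Q M := h (hs.1 x)
  have e1 : sv s (sv t x) = sv s x + (sv t x - x) := by
    have : sv t x = x + (sv t x - x) := by abel
    conv_lhs => rw [this]
    rw [sv_add, hs.2.1 _ h1]
  have e2 : sv t (sv s x) = sv t x + (sv s x - x) := by
    have : sv s x = x + (sv s x - x) := by abel
    conv_lhs => rw [this]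
    rw [sv_add, ht.2.1 _ h2]
  rw [sv_mul, sv_mul, e1, e2]
  abel

end

section

open Matrix QuadraticMap Module
open scoped commutatorElement

variable {F : Type*} [Field F] {ι : Type} [Fintype ι] [DecidableEq ι]
variable (Q : QuadraticForm F (ι → F))

set_option quotPrecheck false in
local notation "B" => QuadraticMap.polar (⇑Q)

variable (hQ : (polarBilin Q).Nondegenerate) (hn : 5 ≤ Fintype.card ι)

include hQ hn

/-- action of a long root element -/
theorem sv_rhoΩ_line {u v : ι → F} (h : TSPair Q u v) (c : F) (x : ι → F) :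
    sv (rhoΩ Q u (c • v)) x = x + (c * B x v) • u - (c * B x u) • v := by
  have hy : B u (c • v) = 0 := by rw [B_smul_right, h.2.2.1, mul_zero]
  have hQy : Q (c • v) = 0 := by rw [Q_smul, h.2.1, mul_zero]
  rw [sv_rhoΩ Q hQ hn h.1 hy, hQy, B_smul_right]
  module

/-- elements of root subgroups commuting in `PΩ` commute in `Ω` -/
theorem comm_lift [Finite F] {L M : Submodule F (ι → F)} (hL : IsLine Q L) (hM : IsLine Q M)
    {s t : ↥(Cfsg.Omega F ⇑Q)} (hs : s ∈ XL Q L) (ht : t ∈ XL Q M)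
    (h : pr Q s * pr Q t = pr Q t * pr Q s) : s * t = t * s := by
  have hfin : finrank F ↥(L ⊔ M) < Fintype.card ι := by
    have := hL.finrank_sup_le hM
    omega
  obtain ⟨x, hx0, hx⟩ := exists_ne_zero_perp Q hQ (L ⊔ M) hfin
  rw [perp_sup, Submodule.mem_inf] at hx
  have h1 : sv s x = x := hs.2.1 x hx.1
  have h2 : sv t x = x := ht.2.1 x hx.2
  apply eq_of_pr_eq_of_fix Q hQ hn (x := x) _ hx0
  · rw [sv_mul, h2, h1]
  · rw [sv_mul, h1, h2]
  · rw [map_mul, map_mul, h]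

/-- commuting root subgroups: the lines are perpendicular or meet -/
theorem gcom_iff [Fintype F] {L M : Submodule F (ι → F)} (hL : IsLine Q L) (hM : IsLine Q M) :
    GCom Q L M ↔ LPerp Q L M ∨ LMeet L M := by
  constructor
  · intro h
    by_contra hcon
    push Not at hcon
    obtain ⟨hperp, hmeet⟩ := hcon
    apply hperp
    unfold LMeet at hmeet
    rw [not_not] at hmeet
    obtain ⟨u, v, huv, rfl⟩ := hL
    obtain ⟨u', v', huv', rfl⟩ := hM
    have hs := rhoΩ_mem_XL Q hQ hn huv 1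
    have ht := rhoΩ_mem_XL Q hQ hn huv' 1
    have hcomm := comm_lift Q hQ hn ⟨u, v, huv, rfl⟩ ⟨u', v', huv', rfl⟩ hs ht
      (h _ (Subgroup.mem_map_of_mem _ hs) _ (Subgroup.mem_map_of_mem _ ht))
    -- key: for all x, `t x - x ⊥ u, v`
    have key : ∀ x, B (B x v' • u' - B x u' • v') v = 0 ∧ B (B x v' • u' - B x u' • v') u = 0 := by
      intro x
      have e := congrArg (fun r => sv r x) hcomm
      simp only [sv_mul] at e
      rw [sv_rhoΩ_line Q hQ hn huv, sv_rhoΩ_line Q hQ hn huv', sv_rhoΩ_line Q hQ hn huv',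
        sv_rhoΩ_line Q hQ hn huv] at e
      simp only [one_mul] at e
      set d := B x v' • u' - B x u' • v' with hd
      have e1 : (B d v) • u + (-(B d u)) • v ∈
          Submodule.span F {u, v} ⊓ Submodule.span F {u', v'} := by
        refine Submodule.mem_inf.2 ⟨Submodule.mem_span_pair.2 ⟨_, _, rfl⟩, ?_⟩
        have e2 : (B d v) • u + (-(B d u)) • v =
            (B (B x v • u - B x u • v) v') • u' + (-(B (B x v • u - B x u • v) u')) • v' := by
          have e3 : x + B x v' • u' - B x u' • v' = x + d := by rw [hd]; abel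
          have e4 : x + B x v • u - B x u • v = x + (B x v • u - B x u • v) := by abel
          rw [e3, e4] at e
          simp only [B_add_left] at e
          have e5 := sub_eq_zero.2 e
          rw [← sub_eq_zero]
          rw [← e5]
          module
        rw [e2]
        exact Submodule.mem_span_pair.2 ⟨_, _, rfl⟩
      rw [hmeet, Submodule.mem_bot] at e1
      have hli := huv.2.2.2
      rw [LinearIndependent.pair_iff] at hli
      have := hli _ _ e1
      exact ⟨this.1, neg_eq_zero.1 this.2⟩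
    obtain ⟨x1, hx1, hx1'⟩ := exists_dual_pair Q hQ huv'.2.2.2
    obtain ⟨x2, hx2, hx2'⟩ := exists_dual_pair Q hQ huv'.symm.2.2.2
    have k1 := key x1
    have k2 := key x2
    rw [B_comm Q x1 v', B_comm Q x1 u', hx1, hx1'] at k1
    rw [B_comm Q x2 v', B_comm Q x2 u', hx2, hx2'] at k2
    simp only [zero_smul, one_smul, sub_zero, zero_sub, B_neg_left, neg_eq_zero] at k1 k2
    -- L ≤ perp M
    intro w hw
    obtain ⟨a, b, rfl⟩ := Submodule.mem_span_pair.1 hw
    rw [mem_perp_span_pair]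
    constructor
    · rw [B_add_right, B_smul_right, B_smul_right, k2.2, k2.1]; ring
    · rw [B_add_right, B_smul_right, B_smul_right, k1.2, k1.1]; ring
  · rintro (h | h)
    · rintro x ⟨s, hs, rfl⟩ y ⟨t, ht, rfl⟩
      rw [← map_mul, ← map_mul, comm_of_perp Q h hs ht]
    · obtain ⟨w, hw0, hwL, hwM⟩ := lmeet_iff.1 h
      rintro x ⟨s, hs, rfl⟩ y ⟨t, ht, rfl⟩
      have hw : Q w = 0 := hL.sing hwL
      rw [← map_mul, ← map_mul, Qg_comm Q hQ hn hw0 hw (XL_le_Qg' Q hQ hn hL hwL hw0 hs)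
        (XL_le_Qg' Q hQ hn hM hwM hw0 ht)]

end

section

open Matrix QuadraticMap Module
open scoped commutatorElement

variable {F : Type*} [Field F] {ι : Type} [Fintype ι] [DecidableEq ι]
variable (Q : QuadraticForm F (ι → F))

set_option quotPrecheck false in
local notation "B" => QuadraticMap.polar (⇑Q)

variable (hQ : (polarBilin Q).Nondegenerate) (hn : 5 ≤ Fintype.card ι)

include hQ hn

/-- the fixed vectors of a non-trivial long root element -/
theorem fix_rho_line {u v : ι → F} (h : TSPair Q u v) {c : F} (hc : c ≠ 0) {x : ι → F}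
    (hx : sv (rhoΩ Q u (c • v)) x = x) : x ∈ perp Q (Submodule.span F {u, v}) := by
  rw [sv_rhoΩ_line Q hQ hn h] at hx
  have e : (c * B x v) • u + (-(c * B x u)) • v = 0 := by
    have : x + (c * B x v) • u - (c * B x u) • v - x = 0 := by rw [hx, sub_self]
    rw [← this]; module
  have hli := h.2.2.2
  rw [LinearIndependent.pair_iff] at hli
  have := hli _ _ e
  rw [mem_perp_span_pair]
  constructor
  · rw [B_comm]
    exact (mul_eq_zero.1 (neg_eq_zero.1 this.2)).resolve_left hc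
  · rw [B_comm]
    exact (mul_eq_zero.1 this.1).resolve_left hc

/-- lifting a product relation between root elements from `PΩ` to `Ω` -/
theorem lift_prod [Finite F] (hn7 : 7 ≤ Fintype.card ι) {L M N : Submodule F (ι → F)}
    (hL : IsLine Q L) (hM : IsLine Q M)
    (hN : IsLine Q N) {s t r : ↥(Cfsg.Omega F ⇑Q)} (hs : s ∈ XL Q L) (ht : t ∈ XL Q M)
    (hr : r ∈ XL Q N) (h : pr Q r = pr Q s * pr Q t) : r = s * t := by
  have hfin : finrank F ↥((L ⊔ M) ⊔ N) < Fintype.card ι := by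
    have h1 := hL.finrank_sup_le hM
    have h2 := Submodule.finrank_add_le_finrank_add_finrank (L ⊔ M) N
    rw [hN.finrank] at h2
    omega
  obtain ⟨x, hx0, hx⟩ := exists_ne_zero_perp Q hQ _ hfin
  rw [perp_sup, perp_sup, Submodule.mem_inf, Submodule.mem_inf] at hx
  have h1 : sv s x = x := hs.2.1 x hx.1.1
  have h2 : sv t x = x := ht.2.1 x hx.1.2
  have h3 : sv r x = x := hr.2.1 x hx.2
  apply eq_of_pr_eq_of_fix Q hQ hn (x := x) _ hx0 h3
  · rw [sv_mul, h2, h1]
  · rw [map_mul, h]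

/-- the product of the root subgroups consists of root elements exactly when the lines are
perpendicular and meet -/
theorem gadj_iff [Fintype F] (hn7 : 7 ≤ Fintype.card ι) {L M : Submodule F (ι → F)}
    (hL : IsLine Q L) (hM : IsLine Q M) :
    GAdj Q L M ↔ L ≠ M ∧ LPerp Q L M ∧ LMeet L M := by
  constructor
  · rintro ⟨hne, hcom, hprod⟩
    refine ⟨hne, ?_⟩
    have hcom' := (gcom_iff Q hQ hn hL hM).1 hcom
    by_cases hmeet : LMeet L M
    · refine ⟨?_, hmeet⟩
      -- case (c) is impossible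
      by_contra hperp
      obtain ⟨w, hw0, hwL, hwM⟩ := lmeet_iff.1 hmeet
      obtain ⟨v, hv, rfl⟩ := hL.exists_basis hwL hw0
      obtain ⟨v', hv', rfl⟩ := hM.exists_basis hwM hw0
      have hvv' : B v v' ≠ 0 := by
        intro h0
        apply hperp
        intro z hz
        obtain ⟨a, b, rfl⟩ := Submodule.mem_span_pair.1 hz
        rw [mem_perp_span_pair]
        have hww : B w w = 0 := by rw [B_self, hv.1, mul_zero]
        constructor
        · rw [B_add_right, B_smul_right, B_smul_right, hww, hv.2.2.1]; ring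
        · rw [B_add_right, B_smul_right, B_smul_right, B_comm Q v' w, hv'.2.2.1, B_comm Q v' v, h0]
          ring
      have hs := rhoΩ_mem_XL Q hQ hn hv 1
      have ht := rhoΩ_mem_XL Q hQ hn hv' 1
      obtain ⟨N, hN, r, hr, hrpr⟩ := hprod _ (Subgroup.mem_map_of_mem _ hs) _
        (Subgroup.mem_map_of_mem _ ht)
      have hrst := lift_prod Q hQ hn hn7 ⟨w, v, hv, rfl⟩ ⟨w, v', hv', rfl⟩ hN hs ht hr hrpr
      rw [one_smul, one_smul] at hrst
      have hy : B w (v + v') = 0 := by rw [B_add_right, hv.2.2.1, hv'.2.2.1, add_zero]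
      rw [rhoΩ_mul Q hQ hn hv.1 hv.2.2.1 hv'.2.2.1] at hrst
      obtain ⟨x, hx⟩ := exists_B_ne_zero hQ hw0
      have h1 := hr.1 x
      rw [hrst, sv_rhoΩ Q hQ hn hv.1 hy] at h1
      have h2 := hN.sing h1
      have hQy : Q (v + v') = B v v' := by rw [Q_add, hv.2.1, hv'.2.1]; ring
      have e : x + B x (v + v') • w - B x w • (v + v') - (Q (v + v') * B x w) • w - x =
          (B x (v + v') - Q (v + v') * B x w) • w + (-(B x w)) • (v + v') := by module
      rw [e, Q_add, Q_smul, Q_smul, hv.1, B_smul_left, B_smul_right, hy, hQy] at h2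
      have h3 : B x w * B x w * B v v' = 0 := by linear_combination h2
      have hxw : B x w ≠ 0 := by rw [B_comm]; exact hx
      exact hvv' ((mul_eq_zero.1 h3).resolve_left (mul_ne_zero hxw hxw))
    · exfalso
      -- case (b) is impossible
      have hperp : LPerp Q L M := hcom'.resolve_right hmeet
      have hmeet' : L ⊓ M = ⊥ := by
        unfold LMeet at hmeet
        rwa [not_not] at hmeet
      obtain ⟨u, v, huv, rfl⟩ := hL
      obtain ⟨u', v', huv', rfl⟩ := hM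
      have hs := rhoΩ_mem_XL Q hQ hn huv 1
      have ht := rhoΩ_mem_XL Q hQ hn huv' 1
      obtain ⟨N, hN, r, hr, hrpr⟩ := hprod _ (Subgroup.mem_map_of_mem _ hs) _
        (Subgroup.mem_map_of_mem _ ht)
      have hrst := lift_prod Q hQ hn hn7 ⟨u, v, huv, rfl⟩ ⟨u', v', huv', rfl⟩ hN hs ht hr hrpr
      -- fixed vectors of `r`
      have key : perp Q N ≤ perp Q (Submodule.span F {u, v}) ⊓ perp Q (Submodule.span F {u', v'}) := by
        intro x hx
        have h1 : sv r x = x := hr.2.1 x hx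
        rw [hrst, sv_mul] at h1
        set dt := sv (rhoΩ Q u' ((1:F) • v')) x - x with hdt
        have hdtM : dt ∈ Submodule.span F {u', v'} := ht.1 x
        have hdtL : dt ∈ perp Q (Submodule.span F {u, v}) := hperp.symm hdtM
        have e1 : sv (rhoΩ Q u' ((1:F) • v')) x = x + dt := by rw [hdt]; abel
        rw [e1, sv_add, hs.2.1 dt hdtL] at h1
        have hds : sv (rhoΩ Q u ((1:F) • v)) x - x ∈ Submodule.span F {u, v} := hs.1 x
        have e2 : sv (rhoΩ Q u ((1:F) • v)) x - x = -dt := by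
          rw [eq_neg_iff_add_eq_zero, ← sub_eq_zero.2 h1]; abel
        have h3 : dt ∈ Submodule.span F {u, v} ⊓ Submodule.span F {u', v'} := by
          refine Submodule.mem_inf.2 ⟨?_, hdtM⟩
          have := neg_mem hds
          rwa [e2, neg_neg] at this
        rw [hmeet', Submodule.mem_bot] at h3
        rw [h3, neg_zero, sub_eq_zero] at e2
        have hdt' : sv (rhoΩ Q u' ((1:F) • v')) x = x := by rw [e1, h3, add_zero]
        exact Submodule.mem_inf.2 ⟨fix_rho_line Q hQ hn huv one_ne_zero e2,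
          fix_rho_line Q hQ hn huv' one_ne_zero hdt'⟩
      have k1 : Submodule.span F {u, v} ≤ N := by
        have := perp_anti (Q := Q) (key.trans inf_le_left)
        rwa [perp_perp hQ, perp_perp hQ] at this
      have k2 : Submodule.span F {u', v'} ≤ N := by
        have := perp_anti (Q := Q) (key.trans inf_le_right)
        rwa [perp_perp hQ, perp_perp hQ] at this
      have e1 := IsLine.eq_of_le ⟨u, v, huv, rfl⟩ hN k1
      have e2 := IsLine.eq_of_le ⟨u', v', huv', rfl⟩ hN k2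
      exact hne (e1.trans e2.symm)
  · rintro ⟨hne, hperp, hmeet⟩
    refine ⟨hne, (gcom_iff Q hQ hn hL hM).2 (Or.inl hperp), ?_⟩
    obtain ⟨w, hw0, hwL, hwM⟩ := lmeet_iff.1 hmeet
    obtain ⟨v, hv, rfl⟩ := hL.exists_basis hwL hw0
    obtain ⟨v', hv', rfl⟩ := hM.exists_basis hwM hw0
    have hvv' : B v v' = 0 := by
      have h1 : v ∈ perp Q (Submodule.span F {w, v'}) := hperp (Submodule.subset_span (by simp))
      rw [mem_perp_span_pair] at h1
      rw [B_comm]; exact h1.2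
    rintro x ⟨s, hs, rfl⟩ y ⟨t, ht, rfl⟩
    obtain ⟨c, rfl⟩ := exists_of_mem_XL Q hQ hn hv hs
    obtain ⟨c', rfl⟩ := exists_of_mem_XL Q hQ hn hv' ht
    have h1 : B w (c • v) = 0 := by rw [B_smul_right, hv.2.2.1, mul_zero]
    have h2 : B w (c' • v') = 0 := by rw [B_smul_right, hv'.2.2.1, mul_zero]
    rw [← map_mul, rhoΩ_mul Q hQ hn hv.1 h1 h2]
    set y₀ := c • v + c' • v' with hy₀
    have hwy : B w y₀ = 0 := by rw [hy₀, B_add_right, h1, h2, add_zero]
    have hQy : Q y₀ = 0 := by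
      rw [hy₀, Q_add, Q_smul, Q_smul, hv.2.1, hv'.2.1, B_smul_left, B_smul_right, hvv']; ring
    by_cases hy : y₀ ∈ Submodule.span F {w}
    · refine ⟨Submodule.span F {w, v}, ⟨w, v, hv, rfl⟩, ?_⟩
      rw [(rhoΩ_eq_one_iff Q hQ hn hw0 hv.1 hwy).2 hy, map_one]
      exact one_mem _
    · have hts : TSPair Q w y₀ := ⟨hv.1, hQy, hwy, li_pair_of_not_mem hw0 hy⟩
      refine ⟨Submodule.span F {w, y₀}, ⟨w, y₀, hts, rfl⟩, ?_⟩
      apply Subgroup.mem_map_of_mem
      have := rhoΩ_mem_XL Q hQ hn hts 1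
      rwa [one_smul] at this

end

section

open Matrix QuadraticMap Module
open scoped commutatorElement

variable {F : Type*} [Field F] {ι : Type} [Fintype ι] [DecidableEq ι]
variable (Q : QuadraticForm F (ι → F))

set_option quotPrecheck false in
local notation "B" => QuadraticMap.polar (⇑Q)

variable (hQ : (polarBilin Q).Nondegenerate) (hn : 5 ≤ Fintype.card ι)
variable [Fintype F]

include hQ hn

/-- an automorphism of `PΩ` permutes the long root subgroups -/
theorem exists_line_map (θ : Cfsg.POmega F ⇑Q ≃* Cfsg.POmega F ⇑Q) {L : Submodule F (ι → F)}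
    (hL : IsLine Q L) : ∃ L', IsLine Q L' ∧ (Xb Q L).map θ.toMonoidHom = Xb Q L' := by
  obtain ⟨p, hp⟩ := CharP.exists F
  haveI := hp
  haveI : Fact p.Prime := ⟨CharP.char_is_prime F p⟩
  haveI : Finite (Cfsg.POmega F ⇑Q) := by
    unfold Cfsg.POmega
    exact inferInstance
  obtain ⟨P', hP'⟩ := exists_sylow_bar_of_line Q hQ hn p hL
  have hsurj : Function.Surjective θ.toMonoidHom := θ.surjective
  obtain ⟨L', hL', h⟩ := sylow_center_bar Q hQ hn p (P'.mapSurjective hsurj)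
  refine ⟨L', hL', ?_⟩
  rw [← h, Sylow.coe_mapSurjective, ← ZP_map, hP']

open Classical in
/-- the permutation of the lines induced by an automorphism -/
noncomputable def lam (θ : Cfsg.POmega F ⇑Q ≃* Cfsg.POmega F ⇑Q) (L : Submodule F (ι → F)) :
    Submodule F (ι → F) :=
  if h : IsLine Q L then Classical.choose (exists_line_map Q hQ hn θ h) else L

theorem lam_isLine (θ : Cfsg.POmega F ⇑Q ≃* Cfsg.POmega F ⇑Q) {L : Submodule F (ι → F)}
    (hL : IsLine Q L) : IsLine Q (lam Q hQ hn θ L) := by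
  unfold lam
  rw [dif_pos hL]
  exact (Classical.choose_spec (exists_line_map Q hQ hn θ hL)).1

theorem lam_spec (θ : Cfsg.POmega F ⇑Q ≃* Cfsg.POmega F ⇑Q) {L : Submodule F (ι → F)}
    (hL : IsLine Q L) : (Xb Q L).map θ.toMonoidHom = Xb Q (lam Q hQ hn θ L) := by
  unfold lam
  rw [dif_pos hL]
  exact (Classical.choose_spec (exists_line_map Q hQ hn θ hL)).2

theorem mem_Xb_lam (θ : Cfsg.POmega F ⇑Q ≃* Cfsg.POmega F ⇑Q) {L : Submodule F (ι → F)}
    (hL : IsLine Q L) {x : Cfsg.POmega F ⇑Q} (hx : x ∈ Xb Q L) : θ x ∈ Xb Q (lam Q hQ hn θ L) := by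
  rw [← lam_spec Q hQ hn θ hL]
  exact Subgroup.mem_map_of_mem _ hx

theorem lam_symm_lam (θ : Cfsg.POmega F ⇑Q ≃* Cfsg.POmega F ⇑Q) {L : Submodule F (ι → F)}
    (hL : IsLine Q L) : lam Q hQ hn θ.symm (lam Q hQ hn θ L) = L := by
  have h1 := lam_isLine Q hQ hn θ hL
  have h2 := lam_isLine Q hQ hn θ.symm h1
  apply Xb_injective Q hQ hn h2 hL
  rw [← lam_spec Q hQ hn θ.symm h1, ← lam_spec Q hQ hn θ hL, Subgroup.map_map]
  have : θ.symm.toMonoidHom.comp θ.toMonoidHom = MonoidHom.id _ := by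
    ext x
    simp
  rw [this, Subgroup.map_id]

theorem lam_lam_symm (θ : Cfsg.POmega F ⇑Q ≃* Cfsg.POmega F ⇑Q) {L : Submodule F (ι → F)}
    (hL : IsLine Q L) : lam Q hQ hn θ (lam Q hQ hn θ.symm L) = L := by
  have := lam_symm_lam Q hQ hn θ.symm hL
  rwa [MulEquiv.symm_symm] at this

theorem mem_Xb_lam_iff (θ : Cfsg.POmega F ⇑Q ≃* Cfsg.POmega F ⇑Q) {L : Submodule F (ι → F)}
    (hL : IsLine Q L) {x : Cfsg.POmega F ⇑Q} : θ x ∈ Xb Q (lam Q hQ hn θ L) ↔ x ∈ Xb Q L := by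
  constructor
  · intro h
    have := mem_Xb_lam Q hQ hn θ.symm (lam_isLine Q hQ hn θ hL) h
    rwa [lam_symm_lam Q hQ hn θ hL, MulEquiv.symm_apply_apply] at this
  · exact mem_Xb_lam Q hQ hn θ hL

theorem lam_injective (θ : Cfsg.POmega F ⇑Q ≃* Cfsg.POmega F ⇑Q) {L M : Submodule F (ι → F)}
    (hL : IsLine Q L) (hM : IsLine Q M) (h : lam Q hQ hn θ L = lam Q hQ hn θ M) : L = M := by
  rw [← lam_symm_lam Q hQ hn θ hL, h, lam_symm_lam Q hQ hn θ hM]

/-- commuting is preserved -/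
theorem gcom_lam (θ : Cfsg.POmega F ⇑Q ≃* Cfsg.POmega F ⇑Q) {L M : Submodule F (ι → F)}
    (hL : IsLine Q L) (hM : IsLine Q M) (h : GCom Q L M) :
    GCom Q (lam Q hQ hn θ L) (lam Q hQ hn θ M) := by
  intro x hx y hy
  rw [← lam_spec Q hQ hn θ hL] at hx
  rw [← lam_spec Q hQ hn θ hM] at hy
  obtain ⟨x, hx, rfl⟩ := hx
  obtain ⟨y, hy, rfl⟩ := hy
  show θ x * θ y = θ y * θ x
  rw [← map_mul, ← map_mul, h x hx y hy]

theorem gcom_lam_iff (θ : Cfsg.POmega F ⇑Q ≃* Cfsg.POmega F ⇑Q) {L M : Submodule F (ι → F)}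
    (hL : IsLine Q L) (hM : IsLine Q M) :
    GCom Q (lam Q hQ hn θ L) (lam Q hQ hn θ M) ↔ GCom Q L M := by
  constructor
  · intro h
    have := gcom_lam Q hQ hn θ.symm (lam_isLine Q hQ hn θ hL) (lam_isLine Q hQ hn θ hM) h
    rwa [lam_symm_lam Q hQ hn θ hL, lam_symm_lam Q hQ hn θ hM] at this
  · exact gcom_lam Q hQ hn θ hL hM

/-- adjacency is preserved -/
theorem gadj_lam (θ : Cfsg.POmega F ⇑Q ≃* Cfsg.POmega F ⇑Q) {L M : Submodule F (ι → F)}
    (hL : IsLine Q L) (hM : IsLine Q M) (h : GAdj Q L M) :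
    GAdj Q (lam Q hQ hn θ L) (lam Q hQ hn θ M) := by
  obtain ⟨hne, hcom, hprod⟩ := h
  refine ⟨fun h => hne (lam_injective Q hQ hn θ hL hM h), gcom_lam Q hQ hn θ hL hM hcom, ?_⟩
  intro x hx y hy
  rw [← lam_spec Q hQ hn θ hL] at hx
  rw [← lam_spec Q hQ hn θ hM] at hy
  obtain ⟨x, hx, rfl⟩ := hx
  obtain ⟨y, hy, rfl⟩ := hy
  obtain ⟨N, hN, hxy⟩ := hprod x hx y hy
  refine ⟨lam Q hQ hn θ N, lam_isLine Q hQ hn θ hN, ?_⟩
  show θ x * θ y ∈ _
  rw [← map_mul]
  exact mem_Xb_lam Q hQ hn θ hN hxy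

theorem gadj_lam_iff (θ : Cfsg.POmega F ⇑Q ≃* Cfsg.POmega F ⇑Q) {L M : Submodule F (ι → F)}
    (hL : IsLine Q L) (hM : IsLine Q M) :
    GAdj Q (lam Q hQ hn θ L) (lam Q hQ hn θ M) ↔ GAdj Q L M := by
  constructor
  · intro h
    have := gadj_lam Q hQ hn θ.symm (lam_isLine Q hQ hn θ hL) (lam_isLine Q hQ hn θ hM) h
    rwa [lam_symm_lam Q hQ hn θ hL, lam_symm_lam Q hQ hn θ hM] at this
  · exact gadj_lam Q hQ hn θ hL hM

end

section

open Matrix QuadraticMap Module
open scoped commutatorElement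

variable {F : Type*} [Field F] {ι : Type} [Fintype ι] [DecidableEq ι]
variable (Q : QuadraticForm F (ι → F))

set_option quotPrecheck false in
local notation "B" => QuadraticMap.polar (⇑Q)

variable {Q} in
/-- two independent vectors of a line span it -/
theorem IsLine.eq_span {N : Submodule F (ι → F)} (hN : IsLine Q N) {p q : ι → F} (hp : p ∈ N)
    (hq : q ∈ N) (hli : LinearIndependent F ![p, q]) :
    TSPair Q p q ∧ N = Submodule.span F {p, q} := by
  have hts : TSPair Q p q := by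
    refine ⟨hN.sing hp, hN.sing hq, ?_, hli⟩
    exact mem_perp.1 (hN.le_perp hq) p hp
  refine ⟨hts, ?_⟩
  symm
  apply IsLine.eq_of_le ⟨p, q, hts, rfl⟩ hN
  rw [Submodule.span_le]
  rintro x (rfl | rfl)
  · exact hp
  · exact hq

omit [Fintype ι] [DecidableEq ι] in
/-- non-zero vectors of two disjoint subspaces are independent -/
theorem li_of_inf_bot {L M : Submodule F (ι → F)} (h : L ⊓ M = ⊥) {p q : ι → F} (hp : p ∈ L)
    (hq : q ∈ M) (hp0 : p ≠ 0) (hq0 : q ≠ 0) : LinearIndependent F ![p, q] := by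
  rw [LinearIndependent.pair_iff]
  intro s t hst
  have h1 : s • p ∈ L ⊓ M := by
    refine Submodule.mem_inf.2 ⟨L.smul_mem s hp, ?_⟩
    have : s • p = (-t) • q := by
      rw [neg_smul, eq_neg_iff_add_eq_zero, hst]
    rw [this]
    exact M.smul_mem _ hq
  rw [h, Submodule.mem_bot] at h1
  have hs : s = 0 := (smul_eq_zero.1 h1).resolve_right hp0
  rw [hs, zero_smul, zero_add] at hst
  exact ⟨hs, (smul_eq_zero.1 hst).resolve_right hq0⟩

variable {Q} in
/-- the span of two perpendicular lines is totally singular -/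
theorem sup_le_perp {L M : Submodule F (ι → F)} (hL : IsLine Q L) (hM : IsLine Q M)
    (h : LPerp Q L M) : L ⊔ M ≤ perp Q (L ⊔ M) := by
  rw [perp_sup]
  exact sup_le (le_inf hL.le_perp h) (le_inf h.symm hM.le_perp)

variable {Q} in
/-- a line meeting two disjoint lines is spanned by the two intersection points -/
theorem IsLine.span_of_meet {L M N : Submodule F (ι → F)} (hN : IsLine Q N) (h : L ⊓ M = ⊥)
    (hNL : LMeet N L) (hNM : LMeet N M) :
    ∃ p q, p ≠ 0 ∧ q ≠ 0 ∧ p ∈ L ∧ q ∈ M ∧ TSPair Q p q ∧ N = Submodule.span F {p, q} := by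
  obtain ⟨p, hp0, hpN, hpL⟩ := lmeet_iff.1 hNL
  obtain ⟨q, hq0, hqN, hqM⟩ := lmeet_iff.1 hNM
  have hli := li_of_inf_bot h hpL hqM hp0 hq0
  obtain ⟨hts, he⟩ := hN.eq_span hpN hqN hli
  exact ⟨p, q, hp0, hq0, hpL, hqM, hts, he⟩

omit [Fintype ι] [DecidableEq ι] in
/-- two lines of a grid that meet share a point of one of the two base lines -/
theorem mem_or_mem_of_meet {L M : Submodule F (ι → F)} (h : L ⊓ M = ⊥) {p₁ q₁ p q : ι → F}
    (hp₁ : p₁ ∈ L) (hq₁ : q₁ ∈ M) (hp : p ∈ L) (hq : q ∈ M)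
    (hmeet : LMeet (Submodule.span F {p₁, q₁}) (Submodule.span F {p, q})) :
    p₁ ∈ Submodule.span F {p, q} ∨ q₁ ∈ Submodule.span F {p, q} := by
  obtain ⟨z, hz0, hz1, hz2⟩ := lmeet_iff.1 hmeet
  obtain ⟨α, β, rfl⟩ := Submodule.mem_span_pair.1 hz1
  obtain ⟨α', β', he⟩ := Submodule.mem_span_pair.1 hz2
  have h1 : α • p₁ - α' • p ∈ L ⊓ M := by
    refine Submodule.mem_inf.2 ⟨sub_mem (L.smul_mem _ hp₁) (L.smul_mem _ hp), ?_⟩
    have : α • p₁ - α' • p = β' • q - β • q₁ := by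
      have := sub_eq_zero.2 he
      rw [← sub_eq_zero, ← neg_eq_zero, ← this]; abel
    rw [this]
    exact sub_mem (M.smul_mem _ hq) (M.smul_mem _ hq₁)
  rw [h, Submodule.mem_bot, sub_eq_zero] at h1
  have h2 : β • q₁ = β' • q := by
    have := sub_eq_zero.2 he
    rw [← sub_eq_zero, ← neg_eq_zero, ← this, h1]; abel
  by_cases hα : α = 0
  · right
    have hβ : β ≠ 0 := by
      rintro rfl
      apply hz0
      rw [hα, zero_smul, zero_smul, add_zero]
    have : q₁ = (β⁻¹ * β') • q := by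
      rw [mul_smul, ← h2, smul_smul, inv_mul_cancel₀ hβ, one_smul]
    rw [this]
    exact Submodule.smul_mem _ _ (Submodule.subset_span (by simp))
  · left
    have : p₁ = (α⁻¹ * α') • p := by
      rw [mul_smul, ← h1, smul_smul, inv_mul_cancel₀ hα, one_smul]
    rw [this]
    exact Submodule.smul_mem _ _ (Submodule.subset_span (by simp))

/-- the configuration that distinguishes intersecting lines from perpendicular disjoint lines -/
def Claw (L M : Submodule F (ι → F)) : Prop :=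
  ∃ N₁ N₂ N₃ N₄, IsLine Q N₁ ∧ IsLine Q N₂ ∧ IsLine Q N₃ ∧ IsLine Q N₄ ∧
    (GAdj Q N₁ L ∧ GAdj Q N₁ M) ∧ (GAdj Q N₂ L ∧ GAdj Q N₂ M) ∧ (GAdj Q N₃ L ∧ GAdj Q N₃ M) ∧
    (GAdj Q N₄ L ∧ GAdj Q N₄ M) ∧ GAdj Q N₁ N₂ ∧ GAdj Q N₁ N₃ ∧ GAdj Q N₁ N₄ ∧
    (N₂ ≠ N₃ ∧ ¬GAdj Q N₂ N₃) ∧ (N₂ ≠ N₄ ∧ ¬GAdj Q N₂ N₄) ∧ (N₃ ≠ N₄ ∧ ¬GAdj Q N₃ N₄)

variable (hQ : (polarBilin Q).Nondegenerate) (hn : 5 ≤ Fintype.card ι)
variable [Fintype F]

include hQ hn

/-- perpendicular disjoint lines have no claw -/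
theorem not_claw_of_perp (hn7 : 7 ≤ Fintype.card ι) {L M : Submodule F (ι → F)} (hL : IsLine Q L)
    (hM : IsLine Q M) (hperp : LPerp Q L M) (hmeet : L ⊓ M = ⊥) : ¬Claw Q L M := by
  rintro ⟨N₁, N₂, N₃, N₄, h₁, h₂, h₃, h₄, ⟨a1, b1⟩, ⟨a2, b2⟩, ⟨a3, b3⟩, ⟨a4, b4⟩, c2, c3, c4,
    ⟨d23, e23⟩, ⟨d24, e24⟩, ⟨d34, e34⟩⟩
  have hts := sup_le_perp hL hM hperp
  rw [gadj_iff Q hQ hn hn7 h₁ hL] at a1
  rw [gadj_iff Q hQ hn hn7 h₁ hM] at b1
  rw [gadj_iff Q hQ hn hn7 h₂ hL] at a2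
  rw [gadj_iff Q hQ hn hn7 h₂ hM] at b2
  rw [gadj_iff Q hQ hn hn7 h₃ hL] at a3
  rw [gadj_iff Q hQ hn hn7 h₃ hM] at b3
  rw [gadj_iff Q hQ hn hn7 h₄ hL] at a4
  rw [gadj_iff Q hQ hn hn7 h₄ hM] at b4
  rw [gadj_iff Q hQ hn hn7 h₁ h₂] at c2
  rw [gadj_iff Q hQ hn hn7 h₁ h₃] at c3
  rw [gadj_iff Q hQ hn hn7 h₁ h₄] at c4
  rw [gadj_iff Q hQ hn hn7 h₂ h₃] at e23
  rw [gadj_iff Q hQ hn hn7 h₂ h₄] at e24
  rw [gadj_iff Q hQ hn hn7 h₃ h₄] at e34
  obtain ⟨p₁, q₁, hp₁0, hq₁0, hp₁, hq₁, ts₁, rfl⟩ := h₁.span_of_meet hmeet a1.2.2 b1.2.2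
  obtain ⟨p₂, q₂, hp₂0, hq₂0, hp₂, hq₂, ts₂, rfl⟩ := h₂.span_of_meet hmeet a2.2.2 b2.2.2
  obtain ⟨p₃, q₃, hp₃0, hq₃0, hp₃, hq₃, ts₃, rfl⟩ := h₃.span_of_meet hmeet a3.2.2 b3.2.2
  obtain ⟨p₄, q₄, hp₄0, hq₄0, hp₄, hq₄, ts₄, rfl⟩ := h₄.span_of_meet hmeet a4.2.2 b4.2.2
  have hle : ∀ {p q : ι → F}, p ∈ L → q ∈ M → Submodule.span F {p, q} ≤ L ⊔ M := by
    intro p q hp hq
    rw [Submodule.span_le]
    rintro x (rfl | rfl)
    · exact Submodule.mem_sup_left hp
    · exact Submodule.mem_sup_right hq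
  have hpp : ∀ {p q p' q' : ι → F}, p ∈ L → q ∈ M → p' ∈ L → q' ∈ M →
      LPerp Q (Submodule.span F {p, q}) (Submodule.span F {p', q'}) := by
    intro p q p' q' hp hq hp' hq'
    exact ((hle hp hq).trans hts).trans (perp_anti (hle hp' hq'))
  have hmm : ∀ {p q p' q' x : ι → F}, x ≠ 0 → x ∈ Submodule.span F {p, q} →
      x ∈ Submodule.span F {p', q'} →
      LMeet (Submodule.span F {p, q}) (Submodule.span F {p', q'}) := by
    intro p q p' q' x hx0 h1 h2
    exact lmeet_iff.2 ⟨x, hx0, h1, h2⟩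
  have n23 : ¬LMeet (Submodule.span F {p₂, q₂}) (Submodule.span F {p₃, q₃}) :=
    fun h => e23 ⟨d23, hpp hp₂ hq₂ hp₃ hq₃, h⟩
  have n24 : ¬LMeet (Submodule.span F {p₂, q₂}) (Submodule.span F {p₄, q₄}) :=
    fun h => e24 ⟨d24, hpp hp₂ hq₂ hp₄ hq₄, h⟩
  have n34 : ¬LMeet (Submodule.span F {p₃, q₃}) (Submodule.span F {p₄, q₄}) :=
    fun h => e34 ⟨d34, hpp hp₃ hq₃ hp₄ hq₄, h⟩
  have m2 := mem_or_mem_of_meet hmeet hp₁ hq₁ hp₂ hq₂ c2.2.2
  have m3 := mem_or_mem_of_meet hmeet hp₁ hq₁ hp₃ hq₃ c3.2.2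
  have m4 := mem_or_mem_of_meet hmeet hp₁ hq₁ hp₄ hq₄ c4.2.2
  rcases m2 with m2 | m2 <;> rcases m3 with m3 | m3 <;> rcases m4 with m4 | m4
  · exact n23 (hmm hp₁0 m2 m3)
  · exact n23 (hmm hp₁0 m2 m3)
  · exact n24 (hmm hp₁0 m2 m4)
  · exact n34 (hmm hq₁0 m3 m4)
  · exact n34 (hmm hp₁0 m3 m4)
  · exact n24 (hmm hq₁0 m2 m4)
  · exact n23 (hmm hq₁0 m2 m3)
  · exact n23 (hmm hq₁0 m2 m3)

/-- claws are preserved by automorphisms -/
theorem claw_lam (θ : Cfsg.POmega F ⇑Q ≃* Cfsg.POmega F ⇑Q) {L M : Submodule F (ι → F)}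
    (hL : IsLine Q L) (hM : IsLine Q M) (h : Claw Q L M) :
    Claw Q (lam Q hQ hn θ L) (lam Q hQ hn θ M) := by
  obtain ⟨N₁, N₂, N₃, N₄, h₁, h₂, h₃, h₄, ⟨a1, b1⟩, ⟨a2, b2⟩, ⟨a3, b3⟩, ⟨a4, b4⟩, c2, c3, c4,
    ⟨d23, e23⟩, ⟨d24, e24⟩, ⟨d34, e34⟩⟩ := h
  refine ⟨lam Q hQ hn θ N₁, lam Q hQ hn θ N₂, lam Q hQ hn θ N₃, lam Q hQ hn θ N₄,
    lam_isLine Q hQ hn θ h₁, lam_isLine Q hQ hn θ h₂, lam_isLine Q hQ hn θ h₃,
    lam_isLine Q hQ hn θ h₄,
    ⟨gadj_lam Q hQ hn θ h₁ hL a1, gadj_lam Q hQ hn θ h₁ hM b1⟩,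
    ⟨gadj_lam Q hQ hn θ h₂ hL a2, gadj_lam Q hQ hn θ h₂ hM b2⟩,
    ⟨gadj_lam Q hQ hn θ h₃ hL a3, gadj_lam Q hQ hn θ h₃ hM b3⟩,
    ⟨gadj_lam Q hQ hn θ h₄ hL a4, gadj_lam Q hQ hn θ h₄ hM b4⟩,
    gadj_lam Q hQ hn θ h₁ h₂ c2, gadj_lam Q hQ hn θ h₁ h₃ c3, gadj_lam Q hQ hn θ h₁ h₄ c4,
    ⟨fun h => d23 (lam_injective Q hQ hn θ h₂ h₃ h),
      fun h => e23 ((gadj_lam_iff Q hQ hn θ h₂ h₃).1 h)⟩,
    ⟨fun h => d24 (lam_injective Q hQ hn θ h₂ h₄ h),
      fun h => e24 ((gadj_lam_iff Q hQ hn θ h₂ h₄).1 h)⟩,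
    ⟨fun h => d34 (lam_injective Q hQ hn θ h₃ h₄ h),
      fun h => e34 ((gadj_lam_iff Q hQ hn θ h₃ h₄).1 h)⟩⟩

end

section

open Matrix QuadraticMap Module
open scoped commutatorElement

variable {F : Type*} [Field F] {ι : Type} [Fintype ι] [DecidableEq ι]
variable (Q : QuadraticForm F (ι → F))

set_option quotPrecheck false in
local notation "B" => QuadraticMap.polar (⇑Q)

/-- the standard configuration giving a claw -/
theorem exists_claw_std [Finite F] (hQ : (polarBilin Q).Nondegenerate) (h9 : 9 ≤ Fintype.card ι) :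
    ∃ (x y z : ι → F) (t w : Fin 4 → ι → F), x ≠ 0 ∧ Q x = 0 ∧ Q y = 0 ∧ Q z = 0 ∧ B x y = 0 ∧
      B x z = 0 ∧ B y z = 1 ∧
      (∀ i, Q (t i) = 0 ∧ B x (t i) = 0 ∧ B y (t i) = 0 ∧ B z (t i) = 0) ∧
      (∀ i, B x (w i) = 0 ∧ B y (w i) = 0 ∧ B z (w i) = 0 ∧ B (t i) (w i) ≠ 0) ∧
      (∀ i, i ≠ 0 → B (t 0) (w i) = 0) ∧ (∀ i, B (t 0) (t i) = 0) ∧
      (∀ i j, i ≠ 0 → j ≠ 0 → i ≠ j → B (t i) (t j) ≠ 0) := by
  obtain ⟨k, r, b, hstd, htail, hfin⟩ := Cfsg.Agent.Lib.H13.witt Q hQ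
  rw [Module.finrank_fintype_fun_eq_card] at hfin
  have hr : r ≤ 2 := by
    by_contra hr
    push Not at hr
    obtain ⟨r', rfl⟩ : ∃ r', r = r' + 3 := ⟨r - 3, by omega⟩
    exact htail
  have hk : 4 ≤ k := by omega
  set e : Fin k → ι → F := fun i => b (.inl (.inl i)) with he
  set f : Fin k → ι → F := fun i => b (.inl (.inr i)) with hf
  have hQe : ∀ i, Q (e i) = 0 := hstd.sing_l
  have hQf : ∀ i, Q (f i) = 0 := hstd.sing_r
  have hee : ∀ i j, B (e i) (e j) = 0 := hstd.iso_l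
  have hff : ∀ i j, B (f i) (f j) = 0 := hstd.iso_r
  have hef : ∀ i j, B (e i) (f j) = if i = j then 1 else 0 := hstd.pair
  have hfe : ∀ i j, B (f i) (e j) = if j = i then 1 else 0 := by
    intro i j; rw [B_comm]; exact hstd.pair j i
  -- a non-singular vector orthogonal to the first four hyperbolic pairs
  obtain ⟨d, hd, hed, hfd⟩ : ∃ d : ι → F, Q d ≠ 0 ∧ (∀ i : Fin k, i.val < 4 → B (e i) d = 0) ∧
      (∀ i : Fin k, i.val < 4 → B (f i) d = 0) := by
    rcases Nat.eq_zero_or_pos r with h0 | hpos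
    · have hk5 : 5 ≤ k := by omega
      refine ⟨e ⟨4, by omega⟩ + f ⟨4, by omega⟩, ?_, ?_, ?_⟩
      · rw [Q_add, hQe, hQf, hef, if_pos rfl]; simp
      · intro i hi
        have : i ≠ ⟨4, by omega⟩ := by
          intro h; rw [h] at hi; simp at hi
        rw [B_add_right, hee, hef, if_neg this, add_zero]
      · intro i hi
        have : (⟨4, by omega⟩ : Fin k) ≠ i := by
          intro h; rw [← h] at hi; simp at hi
        rw [B_add_right, hff, hfe, if_neg this, add_zero]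
    · refine ⟨b (.inr ⟨0, hpos⟩), ?_, fun i _ => hstd.orth_l i _, fun i _ => hstd.orth_r i _⟩
      have hr12 : r = 1 ∨ r = 2 := by omega
      rcases hr12 with rfl | rfl
      · exact htail
      · obtain ⟨ζ, _, h1, _, _⟩ := htail
        have : Q (b (.inr ⟨0, hpos⟩)) = 1 := h1
        rw [this]
        exact one_ne_zero
  set i0 : Fin k := ⟨0, by omega⟩ with hi0
  set i1 : Fin k := ⟨1, by omega⟩ with hi1
  set i2 : Fin k := ⟨2, by omega⟩ with hi2
  set i3 : Fin k := ⟨3, by omega⟩ with hi3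
  have n01 : i0 ≠ i1 := by simp [hi0, hi1]
  have n02 : i0 ≠ i2 := by simp [hi0, hi2]
  have n03 : i0 ≠ i3 := by simp [hi0, hi3]
  have n12 : i1 ≠ i2 := by simp [hi1, hi2]
  have n13 : i1 ≠ i3 := by simp [hi1, hi3]
  have n23 : i2 ≠ i3 := by simp [hi2, hi3]
  have hed3 : B (e i3) d = 0 := hed i3 (by simp [hi3])
  have hfd3 : B (f i3) d = 0 := hfd i3 (by simp [hi3])
  have hed0 : B (e i0) d = 0 := hed i0 (by simp [hi0])
  have hed1 : B (e i1) d = 0 := hed i1 (by simp [hi1])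
  have hfd1 : B (f i1) d = 0 := hfd i1 (by simp [hi1])
  have hed2 : B (e i2) d = 0 := hed i2 (by simp [hi2])
  set t4 : ι → F := e i3 - Q d • f i3 + d with ht4
  have hQt4 : Q t4 = 0 := by
    rw [ht4, Q_add, Q_sub, hQe, Q_smul, hQf, B_smul_right, hef, if_pos rfl, B_sub_left, hed3,
      B_smul_left, hfd3]
    ring
  have hBt4 : ∀ v, B v t4 = B v (e i3) - Q d * B v (f i3) + B v d := by
    intro v
    rw [ht4, B_add_right, B_sub_right, B_smul_right]
  refine ⟨e i0, e i1, f i1, ![e i2, e i3, f i3, t4], ![f i2, f i3, e i3, e i3], ?_, hQe _, hQe _,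
    hQf _, hee _ _, ?_, ?_, ?_, ?_, ?_, ?_, ?_⟩
  · intro h0
    have := hef i0 i0
    rw [h0, B_zero_left, if_pos rfl] at this
    exact zero_ne_one this
  · rw [hef, if_neg n01]
  · rw [hef, if_pos rfl]
  · intro i
    fin_cases i
    · simp [hQe, hee, hfe, n12.symm]
    · simp [hQe, hee, hfe, n13.symm]
    · simp [hQf, hff, hef, n03, n13]
    · simp [hQt4, hBt4, hee, hff, hef, hfe, n03, n13, n13.symm, hed0, hed1, hfd1]
  · intro i
    fin_cases i
    · simp [hee, hff, hef, n02, n12]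
    · simp [hee, hff, hef, n03, n13]
    · simp [hee, hff, hef, hfe, n13.symm]
    · simp only [Fin.isValue, Fin.reduceFinMk, Matrix.cons_val]
      refine ⟨hee _ _, hee _ _, by rw [hfe, if_neg n13.symm], ?_⟩
      rw [B_comm Q t4 (e i3), hBt4, hee, hef, if_pos rfl, hed3]
      simpa using hd
  · intro i hi
    fin_cases i
    · exact absurd rfl hi
    · simp [hef, n23]
    · simp [hee]
    · simp [hee]
  · intro i
    fin_cases i
    · simp [hee]
    · simp [hee]
    · simp [hef, n23]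
    · simp [hBt4, hee, hef, n23, hed2]
  · intro i j hi hj hij
    fin_cases i <;> fin_cases j <;> first | exact absurd rfl hi | exact absurd rfl hj | exact absurd rfl hij | skip
    · simp [hef]
    · simpa [hBt4, hee, hef, hed3] using hd
    · simp [hfe]
    · simp [hBt4, hfe, hff, hfd3]
    · rw [B_comm]; simpa [hBt4, hee, hef, hed3] using hd
    · rw [B_comm]; simp [hBt4, hfe, hff, hfd3]

end

section

open Matrix QuadraticMap Module
open scoped commutatorElement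

variable {F : Type*} [Field F] {ι : Type} [Fintype ι] [DecidableEq ι]
variable (Q : QuadraticForm F (ι → F))

set_option quotPrecheck false in
local notation "B" => QuadraticMap.polar (⇑Q)

theorem li_triple {x y z : ι → F} (hx0 : x ≠ 0) (hy : Q y = 0) (hz : Q z = 0) (hxy : B x y = 0)
    (hxz : B x z = 0) (hyz : B y z = 1) : LinearIndependent F ![x, y, z] := by
  rw [Fintype.linearIndependent_iff]
  intro g hg
  rw [Fin.sum_univ_three] at hg
  simp only [Matrix.cons_val_zero, Matrix.cons_val_one, Matrix.cons_val] at hg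
  have hzz : B z z = 0 := by rw [B_self, hz, mul_zero]
  have hyy : B y y = 0 := by rw [B_self, hy, mul_zero]
  have h1 : g 1 = 0 := by
    have := congrArg (fun v => B v z) hg
    simp only [B_add_left, B_smul_left, hxz, hyz, hzz, B_zero_left] at this
    linear_combination this
  have h2 : g 2 = 0 := by
    have := congrArg (fun v => B v y) hg
    simp only [B_add_left, B_smul_left, hxy, hyy, B_comm Q z y, hyz, B_zero_left] at this
    linear_combination this
  have h0 : g 0 = 0 := by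
    rw [h1, h2, zero_smul, zero_smul, add_zero, add_zero] at hg
    exact (smul_eq_zero.1 hg).resolve_right hx0
  intro i
  fin_cases i
  · exact h0
  · exact h1
  · exact h2

/-- claw vectors for a general pair of intersecting non-perpendicular lines -/
theorem exists_claw_vectors [Finite F] (hQ : (polarBilin Q).Nondegenerate)
    (h9 : 9 ≤ Fintype.card ι) {x y z : ι → F} (hx0 : x ≠ 0) (hx : Q x = 0) (hy : Q y = 0)
    (hz : Q z = 0) (hxy : B x y = 0) (hxz : B x z = 0) (hyz : B y z = 1) :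
    ∃ (t w : Fin 4 → ι → F),
      (∀ i, Q (t i) = 0 ∧ B x (t i) = 0 ∧ B y (t i) = 0 ∧ B z (t i) = 0) ∧
      (∀ i, B x (w i) = 0 ∧ B y (w i) = 0 ∧ B z (w i) = 0 ∧ B (t i) (w i) ≠ 0) ∧
      (∀ i, i ≠ 0 → B (t 0) (w i) = 0) ∧ (∀ i, B (t 0) (t i) = 0) ∧
      (∀ i j, i ≠ 0 → j ≠ 0 → i ≠ j → B (t i) (t j) ≠ 0) := by
  obtain ⟨x₀, y₀, z₀, t, w, hx₀0, hx₀, hy₀, hz₀, hxy₀, hxz₀, hyz₀, c1, c2, c3, c4, c5⟩ :=
    exists_claw_std Q hQ h9
  have hli₀ := li_triple Q hx₀0 hy₀ hz₀ hxy₀ hxz₀ hyz₀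
  have hli := li_triple Q hx0 hy hz hxy hxz hyz
  have hxx : B x x = 0 := by rw [B_self, hx, mul_zero]
  have hyy : B y y = 0 := by rw [B_self, hy, mul_zero]
  have hzz : B z z = 0 := by rw [B_self, hz, mul_zero]
  have hxx₀ : B x₀ x₀ = 0 := by rw [B_self, hx₀, mul_zero]
  have hyy₀ : B y₀ y₀ = 0 := by rw [B_self, hy₀, mul_zero]
  have hzz₀ : B z₀ z₀ = 0 := by rw [B_self, hz₀, mul_zero]
  obtain ⟨g, hg, hgx⟩ := Cfsg.Agent.S0750.witt_family Q hQ 3 ![x₀, y₀, z₀] ![x, y, z] hli₀ hli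
    (by
      intro i
      fin_cases i
      · simp [hx, hx₀]
      · simp [hy, hy₀]
      · simp [hz, hz₀])
    (by
      intro i j
      fin_cases i <;> fin_cases j <;>
        simp [hxx, hyy, hzz, hxx₀, hyy₀, hzz₀, hxy, hxz, hyz, hxy₀, hxz₀, hyz₀, B_comm Q y x,
          B_comm Q z x, B_comm Q z y, B_comm Q y₀ x₀, B_comm Q z₀ x₀, B_comm Q z₀ y₀])
  have gx : g x₀ = x := hgx 0
  have gy : g y₀ = y := hgx 1
  have gz : g z₀ = z := hgx 2
  have hB : ∀ a b, B (g a) (g b) = B a b := fun a b =>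
    Cfsg.Agent.S0750.polar_of_isometry Q g.toLinearMap hg a b
  refine ⟨fun i => g (t i), fun i => g (w i), ?_, ?_, ?_, ?_, ?_⟩
  · intro i
    refine ⟨by rw [hg]; exact (c1 i).1, ?_, ?_, ?_⟩
    · rw [← gx, hB]; exact (c1 i).2.1
    · rw [← gy, hB]; exact (c1 i).2.2.1
    · rw [← gz, hB]; exact (c1 i).2.2.2
  · intro i
    refine ⟨?_, ?_, ?_, ?_⟩
    · rw [← gx, hB]; exact (c2 i).1
    · rw [← gy, hB]; exact (c2 i).2.1
    · rw [← gz, hB]; exact (c2 i).2.2.1
    · rw [hB]; exact (c2 i).2.2.2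
  · intro i hi
    rw [hB]; exact c3 i hi
  · intro i
    rw [hB]; exact c4 i
  · intro i j hi hj hij
    rw [hB]; exact c5 i j hi hj hij

end

section

open Matrix QuadraticMap Module
open scoped commutatorElement

variable {F : Type*} [Field F] {ι : Type} [Fintype ι] [DecidableEq ι]
variable (Q : QuadraticForm F (ι → F))

set_option quotPrecheck false in
local notation "B" => QuadraticMap.polar (⇑Q)

/-- a totally singular pair from Gram data -/
theorem tspair_of {x t w : ι → F} (hx0 : x ≠ 0) (hx : Q x = 0) (ht : Q t = 0) (hxt : B x t = 0)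
    (hxw : B x w = 0) (htw : B t w ≠ 0) : TSPair Q x t := by
  refine ⟨hx, ht, hxt, ?_⟩
  rw [LinearIndependent.pair_iff]
  intro a b hab
  have := congrArg (fun v => B v w) hab
  simp only [B_add_left, B_smul_left, hxw, B_zero_left, mul_zero, zero_add] at this
  have hb : b = 0 := (mul_eq_zero.1 this).resolve_right htw
  rw [hb, zero_smul, add_zero] at hab
  exact ⟨(smul_eq_zero.1 hab).resolve_right hx0, hb⟩

/-- perpendicularity of two lines through a common point -/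
theorem lperp_of_B_zero {x t t' : ι → F} (h : TSPair Q x t) (h' : TSPair Q x t')
    (htt' : B t t' = 0) : LPerp Q (Submodule.span F {x, t}) (Submodule.span F {x, t'}) := by
  intro z hz
  obtain ⟨a, b, rfl⟩ := Submodule.mem_span_pair.1 hz
  rw [mem_perp_span_pair]
  have hxx : B x x = 0 := by rw [B_self, h.1, mul_zero]
  constructor
  · rw [B_add_right, B_smul_right, B_smul_right, hxx, h.2.2.1]; ring
  · rw [B_add_right, B_smul_right, B_smul_right, B_comm Q t' x, h'.2.2.1, B_comm Q t' t, htt']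
    ring

theorem B_zero_of_lperp {x t t' : ι → F}
    (h : LPerp Q (Submodule.span F {x, t}) (Submodule.span F {x, t'})) : B t t' = 0 := by
  have h1 : t ∈ perp Q (Submodule.span F {x, t'}) := h (Submodule.subset_span (by simp))
  rw [mem_perp_span_pair] at h1
  rw [B_comm]; exact h1.2

omit [Fintype ι] [DecidableEq ι] in
theorem lmeet_span {x t t' : ι → F} (hx0 : x ≠ 0) :
    LMeet (Submodule.span F {x, t}) (Submodule.span F {x, t'}) :=
  lmeet_iff.2 ⟨x, hx0, Submodule.subset_span (by simp), Submodule.subset_span (by simp)⟩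

/-- two lines through a point, separated by a witness vector, are distinct -/
theorem span_ne_of {x t t' w : ι → F} (hxw : B x w = 0) (htw : B t w = 0) (ht'w : B t' w ≠ 0) :
    Submodule.span F {x, t} ≠ Submodule.span F {x, t'} := by
  intro h
  have h1 : t' ∈ Submodule.span F {x, t} := by
    rw [h]; exact Submodule.subset_span (by simp)
  obtain ⟨a, b, rfl⟩ := Submodule.mem_span_pair.1 h1
  apply ht'w
  rw [B_add_left, B_smul_left, B_smul_left, hxw, htw]; ring

variable (hQ : (polarBilin Q).Nondegenerate) (hn : 5 ≤ Fintype.card ι)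
variable [Fintype F]

include hQ hn

theorem gadj_of_vectors (hn7 : 7 ≤ Fintype.card ι) {x t t' w : ι → F} (h : TSPair Q x t)
    (h' : TSPair Q x t') (htt' : B t t' = 0) (hxw : B x w = 0) (htw : B t w = 0)
    (ht'w : B t' w ≠ 0) :
    GAdj Q (Submodule.span F {x, t}) (Submodule.span F {x, t'}) ∧
      GAdj Q (Submodule.span F {x, t'}) (Submodule.span F {x, t}) := by
  have hne := span_ne_of Q hxw htw ht'w
  have hp := lperp_of_B_zero Q h h' htt'
  have hm : LMeet (Submodule.span F {x, t}) (Submodule.span F {x, t'}) := lmeet_span h.ne_zero_left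
  exact ⟨(gadj_iff Q hQ hn hn7 ⟨x, t, h, rfl⟩ ⟨x, t', h', rfl⟩).2 ⟨hne, hp, hm⟩,
    (gadj_iff Q hQ hn hn7 ⟨x, t', h', rfl⟩ ⟨x, t, h, rfl⟩).2 ⟨hne.symm, hp.symm, hm.symm⟩⟩

theorem not_gadj_of_vectors (hn7 : 7 ≤ Fintype.card ι) {x t t' : ι → F} (h : TSPair Q x t)
    (h' : TSPair Q x t') (htt' : B t t' ≠ 0) :
    Submodule.span F {x, t} ≠ Submodule.span F {x, t'} ∧
      ¬GAdj Q (Submodule.span F {x, t}) (Submodule.span F {x, t'}) := by
  have h1 : ¬LPerp Q (Submodule.span F {x, t}) (Submodule.span F {x, t'}) :=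
    fun hp => htt' (B_zero_of_lperp Q hp)
  refine ⟨fun he => h1 ?_, fun hg => h1 ((gadj_iff Q hQ hn hn7 ⟨x, t, h, rfl⟩ ⟨x, t', h', rfl⟩).1 hg).2.1⟩
  rw [← he]
  exact IsLine.le_perp ⟨x, t, h, rfl⟩

/-- intersecting non-perpendicular lines have a claw (dimension at least 9) -/
theorem claw_of_meet (h9 : 9 ≤ Fintype.card ι) {L M : Submodule F (ι → F)} (hL : IsLine Q L)
    (hM : IsLine Q M) (hmeet : LMeet L M) (hperp : ¬LPerp Q L M) : Claw Q L M := by
  have hn7 : 7 ≤ Fintype.card ι := by omega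
  obtain ⟨x, hx0, hxL, hxM⟩ := lmeet_iff.1 hmeet
  obtain ⟨y, hy, rfl⟩ := hL.exists_basis hxL hx0
  obtain ⟨z₀, hz₀, rfl⟩ := hM.exists_basis hxM hx0
  have hc : B y z₀ ≠ 0 := fun h0 => hperp (lperp_of_B_zero Q hy hz₀ h0)
  set z := (B y z₀)⁻¹ • z₀ with hz
  have hyz : B y z = 1 := by rw [hz, B_smul_right, inv_mul_cancel₀ hc]
  have hQz : Q z = 0 := by rw [hz, Q_smul, hz₀.2.1, mul_zero]
  have hxz : B x z = 0 := by rw [hz, B_smul_right, hz₀.2.2.1, mul_zero]
  have htz : TSPair Q x z := tspair_of Q hx0 hy.1 hQz hxz hy.2.2.1 (by rw [B_comm, hyz]; exact one_ne_zero)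
  have hMz : Submodule.span F {x, z₀} = Submodule.span F {x, z} := by
    refine (IsLine.eq_span ⟨x, z₀, hz₀, rfl⟩ (Submodule.subset_span (by simp)) ?_ htz.2.2.2).2
    rw [hz]
    exact Submodule.smul_mem _ _ (Submodule.subset_span (by simp))
  rw [hMz]
  obtain ⟨t, w, c1, c2, c3, c4, c5⟩ := exists_claw_vectors Q hQ h9 hx0 hy.1 hy.2.1 hQz hy.2.2.1 hxz hyz
  have hts : ∀ i, TSPair Q x (t i) := fun i =>
    tspair_of Q hx0 hy.1 (c1 i).1 (c1 i).2.1 (c2 i).1 (c2 i).2.2.2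
  have aL : ∀ i, GAdj Q (Submodule.span F {x, t i}) (Submodule.span F {x, y}) := fun i =>
    (gadj_of_vectors Q hQ hn hn7 hy (hts i) (c1 i).2.2.1 (c2 i).1 (c2 i).2.1 (c2 i).2.2.2).2
  have aM : ∀ i, GAdj Q (Submodule.span F {x, t i}) (Submodule.span F {x, z}) := fun i =>
    (gadj_of_vectors Q hQ hn hn7 htz (hts i) (c1 i).2.2.2 (c2 i).1 (c2 i).2.2.1 (c2 i).2.2.2).2
  have a1 : ∀ i, i ≠ 0 → GAdj Q (Submodule.span F {x, t 0}) (Submodule.span F {x, t i}) :=
    fun i hi => (gadj_of_vectors Q hQ hn hn7 (hts 0) (hts i) (c4 i) (c2 i).1 (c3 i hi)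
      (c2 i).2.2.2).1
  have nn : ∀ i j, i ≠ 0 → j ≠ 0 → i ≠ j →
      Submodule.span F {x, t i} ≠ Submodule.span F {x, t j} ∧
      ¬GAdj Q (Submodule.span F {x, t i}) (Submodule.span F {x, t j}) := fun i j hi hj hij =>
    not_gadj_of_vectors Q hQ hn hn7 (hts i) (hts j) (c5 i j hi hj hij)
  refine ⟨_, _, _, _, ⟨x, t 0, hts 0, rfl⟩, ⟨x, t 1, hts 1, rfl⟩, ⟨x, t 2, hts 2, rfl⟩,
    ⟨x, t 3, hts 3, rfl⟩, ⟨aL 0, aM 0⟩, ⟨aL 1, aM 1⟩, ⟨aL 2, aM 2⟩, ⟨aL 3, aM 3⟩,
    a1 1 (by decide), a1 2 (by decide), a1 3 (by decide),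
    nn 1 2 (by decide) (by decide) (by decide), nn 1 3 (by decide) (by decide) (by decide),
    nn 2 3 (by decide) (by decide) (by decide)⟩

/-- the hypothesis separating the triality case -/
def NoTriality : Prop :=
  9 ≤ Fintype.card ι ∨ ∀ U : Submodule F (ι → F), (∀ x ∈ U, Q x = 0) → finrank F ↥U ≤ 3

omit hQ hn [Fintype F] in
theorem IsLine.lmeet_self {N : Submodule F (ι → F)} (hN : IsLine Q N) : LMeet N N := by
  obtain ⟨u, v, huv, rfl⟩ := hN
  exact lmeet_span huv.ne_zero_left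

/-- automorphisms preserve incidence of lines -/
theorem lmeet_lam (hn7 : 7 ≤ Fintype.card ι) (hnt : NoTriality Q)
    (θ : Cfsg.POmega F ⇑Q ≃* Cfsg.POmega F ⇑Q) {L M : Submodule F (ι → F)}
    (hL : IsLine Q L) (hM : IsLine Q M) (h : LMeet L M) :
    LMeet (lam Q hQ hn θ L) (lam Q hQ hn θ M) := by
  have hL' := lam_isLine Q hQ hn θ hL
  have hM' := lam_isLine Q hQ hn θ hM
  by_cases hLM : L = M
  · rw [hLM]
    exact IsLine.lmeet_self Q hM'
  by_cases hperp : LPerp Q L M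
  · have := gadj_lam Q hQ hn θ hL hM ((gadj_iff Q hQ hn hn7 hL hM).2 ⟨hLM, hperp, h⟩)
    exact ((gadj_iff Q hQ hn hn7 hL' hM').1 this).2.2
  · have hcom := gcom_lam Q hQ hn θ hL hM ((gcom_iff Q hQ hn hL hM).2 (Or.inr h))
    rcases (gcom_iff Q hQ hn hL' hM').1 hcom with hp' | hm'
    · by_contra hm'
      have hbot : lam Q hQ hn θ L ⊓ lam Q hQ hn θ M = ⊥ := by
        unfold LMeet at hm'
        rwa [not_not] at hm'
      rcases hnt with h9 | hts
      · exact not_claw_of_perp Q hQ hn hn7 hL' hM' hp' hbot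
          (claw_lam Q hQ hn θ hL hM (claw_of_meet Q hQ hn h9 hL hM h hperp))
      · have h1 := hts (lam Q hQ hn θ L ⊔ lam Q hQ hn θ M) (by
          intro x hx
          obtain ⟨a, ha, b, hb, rfl⟩ := Submodule.mem_sup.1 hx
          rw [Q_add, hL'.sing ha, hM'.sing hb, mem_perp'.1 (hp' ha) b hb]
          ring)
        have h2 := Submodule.finrank_sup_add_finrank_inf_eq (lam Q hQ hn θ L) (lam Q hQ hn θ M)
        rw [hbot, finrank_bot, hL'.finrank, hM'.finrank] at h2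
        omega
    · exact hm'

theorem lmeet_lam_iff (hn7 : 7 ≤ Fintype.card ι) (hnt : NoTriality Q)
    (θ : Cfsg.POmega F ⇑Q ≃* Cfsg.POmega F ⇑Q) {L M : Submodule F (ι → F)}
    (hL : IsLine Q L) (hM : IsLine Q M) :
    LMeet (lam Q hQ hn θ L) (lam Q hQ hn θ M) ↔ LMeet L M := by
  constructor
  · intro h
    have := lmeet_lam Q hQ hn hn7 hnt θ.symm (lam_isLine Q hQ hn θ hL) (lam_isLine Q hQ hn θ hM) h
    rwa [lam_symm_lam Q hQ hn θ hL, lam_symm_lam Q hQ hn θ hM] at this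
  · exact lmeet_lam Q hQ hn hn7 hnt θ hL hM

/-- automorphisms preserve perpendicularity of intersecting lines -/
theorem lperp_lam_iff (hn7 : 7 ≤ Fintype.card ι) (hnt : NoTriality Q)
    (θ : Cfsg.POmega F ⇑Q ≃* Cfsg.POmega F ⇑Q) {L M : Submodule F (ι → F)}
    (hL : IsLine Q L) (hM : IsLine Q M) (hmeet : LMeet L M) :
    LPerp Q (lam Q hQ hn θ L) (lam Q hQ hn θ M) ↔ LPerp Q L M := by
  have hL' := lam_isLine Q hQ hn θ hL
  have hM' := lam_isLine Q hQ hn θ hM
  by_cases hLM : L = M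
  · rw [hLM]
    exact ⟨fun _ => hM.le_perp, fun _ => hM'.le_perp⟩
  have hLM' : lam Q hQ hn θ L ≠ lam Q hQ hn θ M := fun h => hLM (lam_injective Q hQ hn θ hL hM h)
  have hmeet' := lmeet_lam Q hQ hn hn7 hnt θ hL hM hmeet
  have := gadj_lam_iff Q hQ hn θ hL hM
  rw [gadj_iff Q hQ hn hn7 hL hM, gadj_iff Q hQ hn hn7 hL' hM'] at this
  constructor
  · intro h
    exact (this.1 ⟨hLM', h, hmeet'⟩).2.1
  · intro h
    exact (this.2 ⟨hLM, h, hmeet⟩).2.1

end

end Cfsg.Agent.Lib.H13.AutPO
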