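import Mathlib
import Cfsg.Agent.Lib.H13.AutPO3

/-!
Automorphisms of `PΩ(Q)`, part 4 (helper13): the point map of an automorphism, `θ(Q_x) ≤ Q_{x'}`, local data `Loc` at a hyperbolic pair, the
additive maps `φ`, `ψ` induced on `⟨u,f⟩^⊥`, proportionality on singular vectors forces proportionality (`prop_of_sing`), the field
automorphism `σ`, and the compatibility of `φ` with the quadratic form (`phi_form`).
-/

set_option autoImplicit false
set_option linter.unusedSectionVars false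
set_option linter.unusedVariables false
set_option linter.unusedSimpArgs false
set_option linter.deprecated false

namespace Cfsg.Agent.Lib.H13.AutPO

section

open Matrix QuadraticMap Module
open scoped commutatorElement

variable {F : Type*} [Field F] {ι : Type} [Fintype ι] [DecidableEq ι]
variable (Q : QuadraticForm F (ι → F))

set_option quotPrecheck false in
local notation "B" => QuadraticMap.polar (⇑Q)

/-- a non-zero singular vector orthogonal to `k` given vectors (`k + 2 < n`) -/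
theorem exists_singular_perp [Fintype F] {k : ℕ} (t : Fin k → ι → F)
    (hk : k + 2 < Fintype.card ι) : ∃ x : ι → F, x ≠ 0 ∧ Q x = 0 ∧ ∀ j, B (t j) x = 0 := by
  obtain ⟨p, hp⟩ := CharP.exists F
  haveI := hp
  haveI : Fact p.Prime := ⟨CharP.char_is_prime F p⟩
  have h := p_dvd_card_sing Q p t hk
  set S := {x : ι → F // Q x = 0 ∧ ∀ j, B (t j) x = 0} with hS
  haveI : Finite S := Subtype.finite
  have z : S := ⟨0, Q_zero Q, fun j => B_zero_right Q _⟩
  have hpos : 0 < Nat.card S := Nat.card_pos_iff.2 ⟨⟨z⟩, inferInstance⟩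
  have h2 : 1 < Nat.card S := by
    have := Nat.le_of_dvd hpos h
    have hp2 := (Fact.out : p.Prime).two_le
    omega
  obtain ⟨a, b, hab⟩ := (Finite.one_lt_card_iff_nontrivial.1 h2).exists_pair_ne
  by_cases ha : a.1 = 0
  · refine ⟨b.1, ?_, b.2.1, b.2.2⟩
    intro hb
    exact hab (Subtype.ext (ha.trans hb.symm))
  · exact ⟨a.1, ha, a.2.1, a.2.2⟩

variable (hQ : (polarBilin Q).Nondegenerate)
include hQ

/-- a hyperbolic partner inside the orthogonal complement of a hyperbolic pair -/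
theorem exists_partner_in {u f y : ι → F} (hu : Q u = 0) (hf : Q f = 0) (huf : B u f = 1)
    (hy0 : y ≠ 0) (hy : Q y = 0) (hyu : B y u = 0) (hyf : B y f = 0) :
    ∃ z, Q z = 0 ∧ B y z = 1 ∧ B z u = 0 ∧ B z f = 0 := by
  obtain ⟨y', hy', hyy'⟩ := exists_hyperbolic_pair Q hQ y hy0 hy
  obtain ⟨t, htu, htf, hdec⟩ := hyp_decomp hu hf huf y'
  have hyt : B y t = 1 := by
    have := hyy'
    rw [hdec, B_add_right, B_add_right, B_smul_right, B_smul_right, hyu, hyf] at this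
    simpa using this
  have hyy : B y y = 0 := by rw [B_self, hy, mul_zero]
  refine ⟨t - Q t • y, ?_, ?_, ?_, ?_⟩
  · rw [Q_sub, Q_smul, hy, B_smul_right, B_comm Q t y, hyt]; ring
  · rw [B_sub_right, B_smul_right, hyy, hyt]; ring
  · rw [B_sub_left, B_smul_left, htu, hyu]; ring
  · rw [B_sub_left, B_smul_left, htf, hyf]; ring

/-- two non-perpendicular lines through a singular point -/
theorem exists_c_pair [Fintype F] (hn : 5 ≤ Fintype.card ι) {x : ι → F} (hx0 : x ≠ 0)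
    (hx : Q x = 0) : ∃ y z, TSPair Q x y ∧ TSPair Q x z ∧ B y z = 1 := by
  obtain ⟨f, hf, hxf⟩ := exists_hyperbolic_pair Q hQ x hx0 hx
  obtain ⟨y, hy0, hy, hyt⟩ := exists_singular_perp Q ![x, f] (by omega)
  have hxy : B x y = 0 := hyt 0
  have hfy : B f y = 0 := hyt 1
  obtain ⟨z, hz, hyz, hzx, hzf⟩ := exists_partner_in Q hQ hx hf hxf hy0 hy (by rw [B_comm, hxy])
    (by rw [B_comm, hfy])
  refine ⟨y, z, ?_, ?_, hyz⟩
  · exact tspair_of Q hx0 hx hy hxy (by rw [B_comm]; exact hzx) (by rw [hyz]; exact one_ne_zero)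
  · exact tspair_of Q hx0 hx hz (by rw [B_comm]; exact hzx) hxy
      (by rw [B_comm, hyz]; exact one_ne_zero)

omit hQ in
variable {Q} in
/-- a line meeting two non-perpendicular lines through `x` passes through `x` -/
theorem mem_of_meet_both {L M K : Submodule F (ι → F)} (hL : IsLine Q L) (hM : IsLine Q M)
    (hK : IsLine Q K) {x : ι → F} (hx0 : x ≠ 0) (hxL : x ∈ L) (hxM : x ∈ M)
    (hperp : ¬LPerp Q L M) (hKL : LMeet K L) (hKM : LMeet K M) : x ∈ K := by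
  obtain ⟨p, hp0, hpK, hpL⟩ := lmeet_iff.1 hKL
  obtain ⟨q, hq0, hqK, hqM⟩ := lmeet_iff.1 hKM
  by_contra hxK
  have hp : p ∉ Submodule.span F {x} := by
    intro h
    obtain ⟨c, rfl⟩ := Submodule.mem_span_singleton.1 h
    have hc : c ≠ 0 := by
      rintro rfl
      exact hp0 (zero_smul _ _)
    apply hxK
    have : x = c⁻¹ • (c • x) := by rw [smul_smul, inv_mul_cancel₀ hc, one_smul]
    rw [this]
    exact K.smul_mem _ hpK
  have hq : q ∉ Submodule.span F {x} := by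
    intro h
    obtain ⟨c, rfl⟩ := Submodule.mem_span_singleton.1 h
    have hc : c ≠ 0 := by
      rintro rfl
      exact hq0 (zero_smul _ _)
    apply hxK
    have : x = c⁻¹ • (c • x) := by rw [smul_smul, inv_mul_cancel₀ hc, one_smul]
    rw [this]
    exact K.smul_mem _ hqK
  obtain ⟨h1, rfl⟩ := hL.eq_span hxL hpL (li_pair_of_not_mem hx0 hp)
  obtain ⟨h2, rfl⟩ := hM.eq_span hxM hqM (li_pair_of_not_mem hx0 hq)
  apply hperp
  apply lperp_of_B_zero Q h1 h2
  exact mem_perp.1 (hK.le_perp hqK) p hpK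

/-- the point map induced by an automorphism -/
theorem exists_point_map [Fintype F] (hn : 5 ≤ Fintype.card ι) (hn7 : 7 ≤ Fintype.card ι)
    (hnt : NoTriality Q) (θ : Cfsg.POmega F ⇑Q ≃* Cfsg.POmega F ⇑Q) {x : ι → F} (hx0 : x ≠ 0)
    (hx : Q x = 0) :
    ∃ x' : ι → F, x' ≠ 0 ∧ Q x' = 0 ∧
      ∀ K, IsLine Q K → (x ∈ K ↔ x' ∈ lam Q hQ hn θ K) := by
  obtain ⟨y, z, hy, hz, hyz⟩ := exists_c_pair Q hQ hn hx0 hx
  set L := Submodule.span F {x, y} with hLdef
  set M := Submodule.span F {x, z} with hMdef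
  have hL : IsLine Q L := ⟨x, y, hy, rfl⟩
  have hM : IsLine Q M := ⟨x, z, hz, rfl⟩
  have hxL : x ∈ L := Submodule.subset_span (by simp)
  have hxM : x ∈ M := Submodule.subset_span (by simp)
  have hmeet : LMeet L M := lmeet_span hx0
  have hperp : ¬LPerp Q L M := by
    intro h
    have := B_zero_of_lperp Q h
    rw [hyz] at this
    exact one_ne_zero this
  have hL' := lam_isLine Q hQ hn θ hL
  have hM' := lam_isLine Q hQ hn θ hM
  have hmeet' := lmeet_lam Q hQ hn hn7 hnt θ hL hM hmeet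
  have hperp' : ¬LPerp Q (lam Q hQ hn θ L) (lam Q hQ hn θ M) := fun h =>
    hperp ((lperp_lam_iff Q hQ hn hn7 hnt θ hL hM hmeet).1 h)
  obtain ⟨x', hx'0, hx'L, hx'M⟩ := lmeet_iff.1 hmeet'
  refine ⟨x', hx'0, hL'.sing hx'L, fun K hK => ?_⟩
  have hK' := lam_isLine Q hQ hn θ hK
  constructor
  · intro hxK
    have h1 : LMeet K L := lmeet_iff.2 ⟨x, hx0, hxK, hxL⟩
    have h2 : LMeet K M := lmeet_iff.2 ⟨x, hx0, hxK, hxM⟩
    exact mem_of_meet_both hL' hM' hK' hx'0 hx'L hx'M hperp'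
      (lmeet_lam Q hQ hn hn7 hnt θ hK hL h1) (lmeet_lam Q hQ hn hn7 hnt θ hK hM h2)
  · intro hx'K
    have h1 : LMeet (lam Q hQ hn θ K) (lam Q hQ hn θ L) := lmeet_iff.2 ⟨x', hx'0, hx'K, hx'L⟩
    have h2 : LMeet (lam Q hQ hn θ K) (lam Q hQ hn θ M) := lmeet_iff.2 ⟨x', hx'0, hx'K, hx'M⟩
    exact mem_of_meet_both hL hM hK hx0 hxL hxM hperp
      ((lmeet_lam_iff Q hQ hn hn7 hnt θ hK hL).1 h1) ((lmeet_lam_iff Q hQ hn hn7 hnt θ hK hM).1 h2)

end

section

open Matrix QuadraticMap Module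
open scoped commutatorElement

variable {F : Type*} [Field F] {ι : Type} [Fintype ι] [DecidableEq ι]
variable (Q : QuadraticForm F (ι → F))

set_option quotPrecheck false in
local notation "B" => QuadraticMap.polar (⇑Q)

variable (hQ : (polarBilin Q).Nondegenerate)
include hQ

/-- a singular vector of `⟨u,f⟩^⊥` not perpendicular to a given non-zero vector of `⟨u,f⟩^⊥` -/
theorem exists_singular_not_perp [Fintype F] (hn : 5 ≤ Fintype.card ι) {u f w : ι → F}
    (hu : Q u = 0) (hf : Q f = 0) (huf : B u f = 1) (hw0 : w ≠ 0) (hwu : B w u = 0)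
    (hwf : B w f = 0) : ∃ s, Q s = 0 ∧ B s u = 0 ∧ B s f = 0 ∧ B w s ≠ 0 := by
  obtain ⟨t, ht0, ht, htt⟩ := exists_singular_perp Q ![u, f] (by omega)
  have htu : B t u = 0 := by rw [B_comm]; exact htt 0
  have htf : B t f = 0 := by rw [B_comm]; exact htt 1
  by_cases h1 : B w t = 0
  swap
  · exact ⟨t, ht, htu, htf, h1⟩
  obtain ⟨v, hv, htv, hvu, hvf⟩ := exists_partner_in Q hQ hu hf huf ht0 ht htu htf
  by_cases h2 : B w v = 0
  swap
  · exact ⟨v, hv, hvu, hvf, h2⟩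
  obtain ⟨r₀, hr₀⟩ := exists_B_ne_zero hQ hw0
  obtain ⟨r₁, hr₁u, hr₁f, hdec⟩ := hyp_decomp hu hf huf r₀
  have hwr₁ : B w r₁ ≠ 0 := by
    rw [hdec, B_add_right, B_add_right, B_smul_right, B_smul_right, hwu, hwf] at hr₀
    simpa using hr₀
  set r := r₁ - B r₁ v • t - B r₁ t • v with hr
  have htt' : B t t = 0 := by rw [B_self, ht, mul_zero]
  have hvv : B v v = 0 := by rw [B_self, hv, mul_zero]
  have hvt : B v t = 1 := by rw [B_comm, htv]
  have hrt : B r t = 0 := by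
    rw [hr, B_sub_left, B_sub_left, B_smul_left, B_smul_left, htt', hvt]; ring
  have hrv : B r v = 0 := by
    rw [hr, B_sub_left, B_sub_left, B_smul_left, B_smul_left, htv, hvv]; ring
  have hru : B r u = 0 := by
    rw [hr, B_sub_left, B_sub_left, B_smul_left, B_smul_left, hr₁u, htu, hvu]; ring
  have hrf : B r f = 0 := by
    rw [hr, B_sub_left, B_sub_left, B_smul_left, B_smul_left, hr₁f, htf, hvf]; ring
  have hwr : B w r ≠ 0 := by
    rw [hr, B_sub_right, B_sub_right, B_smul_right, B_smul_right, h1, h2]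
    simpa using hwr₁
  refine ⟨r + (-(Q r)) • t + v, ?_, ?_, ?_, ?_⟩
  · rw [Q_add, Q_add, Q_smul, ht, hv, B_smul_right, hrt, B_add_left, B_smul_left, hrv, htv]; ring
  · rw [B_add_left, B_add_left, B_smul_left, hru, htu, hvu]; ring
  · rw [B_add_left, B_add_left, B_smul_left, hrf, htf, hvf]; ring
  · rw [B_add_right, B_add_right, B_smul_right, h1, h2]
    simpa using hwr

/-- every vector of `⟨u,f⟩^⊥` is the sum of two singular vectors of `⟨u,f⟩^⊥` -/
theorem exists_two_singular [Fintype F] (hn : 5 ≤ Fintype.card ι) {u f w : ι → F}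
    (hu : Q u = 0) (hf : Q f = 0) (huf : B u f = 1) (hwu : B w u = 0) (hwf : B w f = 0) :
    ∃ y₁ y₂, Q y₁ = 0 ∧ Q y₂ = 0 ∧ B y₁ u = 0 ∧ B y₁ f = 0 ∧ B y₂ u = 0 ∧ B y₂ f = 0 ∧
      w = y₁ + y₂ := by
  by_cases hw : Q w = 0
  · exact ⟨w, 0, hw, Q_zero Q, hwu, hwf, B_zero_left Q _, B_zero_left Q _, (add_zero w).symm⟩
  have hw0 : w ≠ 0 := by
    rintro rfl
    exact hw (Q_zero Q)
  obtain ⟨s, hs, hsu, hsf, hws⟩ := exists_singular_not_perp Q hQ hn hu hf huf hw0 hwu hwf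
  set c := Q w * (B w s)⁻¹ with hc
  refine ⟨c • s, w - c • s, ?_, ?_, ?_, ?_, ?_, ?_, by abel⟩
  · rw [Q_smul, hs, mul_zero]
  · rw [Q_sub, Q_smul, hs, B_smul_right, hc]
    field_simp
    ring
  · rw [B_smul_left, hsu, mul_zero]
  · rw [B_smul_left, hsf, mul_zero]
  · rw [B_sub_left, B_smul_left, hwu, hsu]; ring
  · rw [B_sub_left, B_smul_left, hwf, hsf]; ring

variable [Fintype F] (hn : 5 ≤ Fintype.card ι)

/-- root elements with axis through `x` are mapped into `Q_{x'}` -/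
theorem theta_root_mem (θ : Cfsg.POmega F ⇑Q ≃* Cfsg.POmega F ⇑Q) {x x' : ι → F}
    (hx0 : x ≠ 0) (hx : Q x = 0) (hx'0 : x' ≠ 0)
    (hmap : ∀ K, IsLine Q K → (x ∈ K ↔ x' ∈ lam Q hQ hn θ K)) {y f : ι → F} (hy : Q y = 0)
    (hyx : B y x = 0) (hyf : B y f = 0) (hxf : B x f = 1) :
    ∃ s' ∈ Qg Q x', θ (pr Q (rhoΩ Q x y)) = pr Q s' := by
  by_cases hy0 : y = 0
  · refine ⟨1, one_mem _, ?_⟩
    rw [hy0, rhoΩ_zero, map_one, map_one]
  have hts : TSPair Q x y := (tspair_of Q hy0 hy hx hyx hyf (by rw [hxf]; exact one_ne_zero)).symm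
  set K := Submodule.span F {x, y} with hK
  have hKl : IsLine Q K := ⟨x, y, hts, rfl⟩
  have hxK : x ∈ K := Submodule.subset_span (by simp)
  have h1 : rhoΩ Q x y ∈ XL Q K := by
    have := rhoΩ_mem_XL Q hQ hn hts 1
    rwa [one_smul] at this
  have h2 := mem_Xb_lam Q hQ hn θ hKl (Subgroup.mem_map_of_mem _ h1)
  obtain ⟨s', hs', he⟩ := h2
  exact ⟨s', XL_le_Qg' Q hQ hn (lam_isLine Q hQ hn θ hKl) ((hmap K hKl).1 hxK) hx'0 hs', he.symm⟩

/-- `θ` maps `Q_x` into `Q_{x'}` -/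
theorem theta_Qg (θ : Cfsg.POmega F ⇑Q ≃* Cfsg.POmega F ⇑Q) {x x' : ι → F}
    (hx0 : x ≠ 0) (hx : Q x = 0) (hx'0 : x' ≠ 0)
    (hmap : ∀ K, IsLine Q K → (x ∈ K ↔ x' ∈ lam Q hQ hn θ K)) {s : ↥(Cfsg.Omega F ⇑Q)}
    (hs : s ∈ Qg Q x) : ∃ s' ∈ Qg Q x', θ (pr Q s) = pr Q s' := by
  obtain ⟨y, hxy, rfl⟩ := exists_of_mem_Qg Q hQ hn hx0 hx hs
  obtain ⟨f, hf, hxf⟩ := exists_hyperbolic_pair Q hQ x hx0 hx
  obtain ⟨w, hwx, hwf, hdec⟩ := hyp_decomp hx hf hxf y
  have hyx : B y x = 0 := by rw [B_comm, hxy]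
  have hxw : B x w = 0 := by rw [B_comm, hwx]
  rw [hyx, zero_smul, add_zero] at hdec
  have e1 : rhoΩ Q x y = rhoΩ Q x w := by
    rw [hdec, add_comm]
    exact rhoΩ_add_smul Q hQ hn hx hxw _
  obtain ⟨y₁, y₂, hy₁, hy₂, h1x, h1f, h2x, h2f, hw⟩ := exists_two_singular Q hQ hn hx hf hxf hwx hwf
  have e2 : rhoΩ Q x w = rhoΩ Q x y₁ * rhoΩ Q x y₂ := by
    rw [hw, rhoΩ_mul Q hQ hn hx (by rw [B_comm, h1x]) (by rw [B_comm, h2x])]
  obtain ⟨s₁, hs₁, he₁⟩ := theta_root_mem Q hQ hn θ hx0 hx hx'0 hmap hy₁ h1x h1f hxf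
  obtain ⟨s₂, hs₂, he₂⟩ := theta_root_mem Q hQ hn θ hx0 hx hx'0 hmap hy₂ h2x h2f hxf
  refine ⟨s₁ * s₂, mul_mem hs₁ hs₂, ?_⟩
  rw [e1, e2, map_mul, map_mul, he₁, he₂, map_mul]

end

section

open Matrix QuadraticMap Module
open scoped commutatorElement

variable {F : Type*} [Field F] {ι : Type} [Fintype ι] [DecidableEq ι]
variable (Q : QuadraticForm F (ι → F))

set_option quotPrecheck false in
local notation "B" => QuadraticMap.polar (⇑Q)

variable (hQ : (polarBilin Q).Nondegenerate) [Fintype F] (hn : 5 ≤ Fintype.card ι)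

/-- local data of an automorphism at a hyperbolic pair -/
structure Loc (θ : Cfsg.POmega F ⇑Q ≃* Cfsg.POmega F ⇑Q) (u f u' f' : ι → F) : Prop where
  hu : Q u = 0
  hf : Q f = 0
  huf : B u f = 1
  hu' : Q u' = 0
  hf' : Q f' = 0
  huf' : B u' f' = 1
  mapu : ∀ K, IsLine Q K → (u ∈ K ↔ u' ∈ lam Q hQ hn θ K)
  mapf : ∀ K, IsLine Q K → (f ∈ K ↔ f' ∈ lam Q hQ hn θ K)

variable {Q hQ hn}

theorem Loc.swap {θ : Cfsg.POmega F ⇑Q ≃* Cfsg.POmega F ⇑Q} {u f u' f' : ι → F}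
    (h : Loc Q hQ hn θ u f u' f') : Loc Q hQ hn θ f u f' u' :=
  ⟨h.hf, h.hu, by rw [B_comm]; exact h.huf, h.hf', h.hu', by rw [B_comm]; exact h.huf', h.mapf,
    h.mapu⟩

theorem Loc.u_ne {θ : Cfsg.POmega F ⇑Q ≃* Cfsg.POmega F ⇑Q} {u f u' f' : ι → F}
    (h : Loc Q hQ hn θ u f u' f') : u ≠ 0 := by
  rintro rfl
  have := h.huf
  rw [B_zero_left] at this
  exact zero_ne_one this

theorem Loc.u'_ne {θ : Cfsg.POmega F ⇑Q ≃* Cfsg.POmega F ⇑Q} {u f u' f' : ι → F}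
    (h : Loc Q hQ hn θ u f u' f') : u' ≠ 0 := by
  rintro rfl
  have := h.huf'
  rw [B_zero_left] at this
  exact zero_ne_one this

variable (Q hQ hn)

/-- a hyperbolic pair is mapped to a hyperbolic pair -/
theorem exists_loc (hn7 : 7 ≤ Fintype.card ι) (hnt : NoTriality Q)
    (θ : Cfsg.POmega F ⇑Q ≃* Cfsg.POmega F ⇑Q) {u f : ι → F} (hu : Q u = 0) (hf : Q f = 0)
    (huf : B u f = 1) : ∃ u' f', Loc Q hQ hn θ u f u' f' := by
  have hu0 : u ≠ 0 := by
    rintro rfl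
    rw [B_zero_left] at huf
    exact zero_ne_one huf
  have hf0 : f ≠ 0 := by
    rintro rfl
    rw [B_zero_right] at huf
    exact zero_ne_one huf
  obtain ⟨u', hu'0, hu', mapu⟩ := exists_point_map Q hQ hn hn7 hnt θ hu0 hu
  obtain ⟨f'', hf''0, hf'', mapf⟩ := exists_point_map Q hQ hn hn7 hnt θ hf0 hf
  have key : B u' f'' ≠ 0 := by
    intro h0
    by_cases hmem : f'' ∈ Submodule.span F {u'}
    · obtain ⟨y, z, hy, hz, hyz⟩ := exists_c_pair Q hQ hn hu0 hu
      set K := Submodule.span F {u, y} with hK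
      have hKl : IsLine Q K := ⟨u, y, hy, rfl⟩
      have h1 : u' ∈ lam Q hQ hn θ K := (mapu K hKl).1 (Submodule.subset_span (by simp))
      obtain ⟨c, rfl⟩ := Submodule.mem_span_singleton.1 hmem
      have h2 : f ∈ K := (mapf K hKl).2 (Submodule.smul_mem _ _ h1)
      have h3 : B u f = 0 := mem_perp.1 (hKl.le_perp h2) u (Submodule.subset_span (by simp))
      rw [huf] at h3
      exact one_ne_zero h3
    · have hts : TSPair Q u' f'' := ⟨hu', hf'', h0, li_pair_of_not_mem hu'0 hmem⟩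
      set K' := Submodule.span F {u', f''} with hK'
      have hK'l : IsLine Q K' := ⟨u', f'', hts, rfl⟩
      set K := lam Q hQ hn θ.symm K' with hK
      have hKl : IsLine Q K := lam_isLine Q hQ hn θ.symm hK'l
      have hKK' : lam Q hQ hn θ K = K' := lam_lam_symm Q hQ hn θ hK'l
      have h1 : u ∈ K := (mapu K hKl).2 (by rw [hKK']; exact Submodule.subset_span (by simp))
      have h2 : f ∈ K := (mapf K hKl).2 (by rw [hKK']; exact Submodule.subset_span (by simp))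
      have h3 : B u f = 0 := mem_perp.1 (hKl.le_perp h2) u h1
      rw [huf] at h3
      exact one_ne_zero h3
  refine ⟨u', (B u' f'')⁻¹ • f'', hu, hf, huf, hu', ?_, ?_, mapu, ?_⟩
  · rw [Q_smul, hf'', mul_zero]
  · rw [B_smul_right, inv_mul_cancel₀ key]
  · intro K hK
    rw [mapf K hK]
    constructor
    · intro h
      exact Submodule.smul_mem _ _ h
    · intro h
      have : f'' = B u' f'' • ((B u' f'')⁻¹ • f'') := by
        rw [smul_smul, mul_inv_cancel₀ key, one_smul]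
      rw [this]
      exact Submodule.smul_mem _ _ h

/-- the map induced on `⟨u,f⟩^⊥` -/
def IsPhi (θ : Cfsg.POmega F ⇑Q ≃* Cfsg.POmega F ⇑Q) (u f u' f' : ι → F)
    (φ : (ι → F) → (ι → F)) : Prop :=
  ∀ y, B y u = 0 → B y f = 0 →
    B (φ y) u' = 0 ∧ B (φ y) f' = 0 ∧ θ (pr Q (rhoΩ Q u y)) = pr Q (rhoΩ Q u' (φ y))

include hQ hn in
theorem exists_isPhi {θ : Cfsg.POmega F ⇑Q ≃* Cfsg.POmega F ⇑Q} {u f u' f' : ι → F}
    (h : Loc Q hQ hn θ u f u' f') : ∃ φ, IsPhi Q θ u f u' f' φ := by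
  have : ∀ y, ∃ y', B y u = 0 → B y f = 0 →
      B y' u' = 0 ∧ B y' f' = 0 ∧ θ (pr Q (rhoΩ Q u y)) = pr Q (rhoΩ Q u' y') := by
    intro y
    by_cases hyu : B y u = 0
    swap
    · exact ⟨0, fun h => absurd h hyu⟩
    obtain ⟨s', hs', he⟩ := theta_Qg Q hQ hn θ h.u_ne h.hu h.u'_ne h.mapu
      (rhoΩ_mem_Qg Q hQ hn h.hu (by rw [B_comm]; exact hyu) : rhoΩ Q u y ∈ Qg Q u)
    obtain ⟨y'', hy'', rfl⟩ := exists_of_mem_Qg Q hQ hn h.u'_ne h.hu' hs'
    have huu : B u' u' = 0 := by rw [B_self, h.hu', mul_zero]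
    refine ⟨y'' + (-(B y'' f')) • u', fun _ _ => ⟨?_, ?_, ?_⟩⟩
    · rw [B_add_left, B_smul_left, huu, B_comm, hy'']; ring
    · rw [B_add_left, B_smul_left, h.huf']; ring
    · rw [he, rhoΩ_add_smul Q hQ hn h.hu' hy'']
  choose φ hφ using this
  exact ⟨φ, hφ⟩

end

section

open Matrix QuadraticMap Module
open scoped commutatorElement

variable {F : Type*} [Field F] {ι : Type} [Fintype ι] [DecidableEq ι]
variable (Q : QuadraticForm F (ι → F))

set_option quotPrecheck false in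
local notation "B" => QuadraticMap.polar (⇑Q)

variable (hQ : (polarBilin Q).Nondegenerate) [Fintype F] (hn : 5 ≤ Fintype.card ι)

include hQ hn

/-- uniqueness of the parameter in `⟨u',f'⟩^⊥` -/
theorem param_unique {u' f' y₁ y₂ : ι → F} (hu' : Q u' = 0) (huf' : B u' f' = 1)
    (h1u : B y₁ u' = 0) (h1f : B y₁ f' = 0) (h2u : B y₂ u' = 0) (h2f : B y₂ f' = 0)
    (he : pr Q (rhoΩ Q u' y₁) = pr Q (rhoΩ Q u' y₂)) : y₁ = y₂ := by
  have hu'0 : u' ≠ 0 := by
    rintro rfl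
    rw [B_zero_left] at huf'
    exact zero_ne_one huf'
  have k1 : B u' y₁ = 0 := by rw [B_comm, h1u]
  have k2 : B u' y₂ = 0 := by rw [B_comm, h2u]
  have e := eq_of_pr_eq_of_fix Q hQ hn he hu'0 (rhoΩ_mem_Qg Q hQ hn hu' k1).1
    (rhoΩ_mem_Qg Q hQ hn hu' k2).1
  rw [rhoΩ_eq_iff Q hQ hn hu'0 hu' k1 k2] at e
  obtain ⟨c, hc⟩ := Submodule.mem_span_singleton.1 e
  have h3 : B (y₁ - y₂) f' = 0 := by rw [B_sub_left, h1f, h2f, sub_zero]
  rw [← hc, B_smul_left, huf', mul_one] at h3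
  rw [h3, zero_smul] at hc
  exact (sub_eq_zero.1 hc.symm)

variable {Q hQ hn}
variable {θ : Cfsg.POmega F ⇑Q ≃* Cfsg.POmega F ⇑Q} {u f u' f' : ι → F}
  {φ : (ι → F) → (ι → F)}

theorem phi_add (h : Loc Q hQ hn θ u f u' f') (hφ : IsPhi Q θ u f u' f' φ) {y₁ y₂ : ι → F}
    (h1u : B y₁ u = 0) (h1f : B y₁ f = 0) (h2u : B y₂ u = 0) (h2f : B y₂ f = 0) :
    φ (y₁ + y₂) = φ y₁ + φ y₂ := by
  obtain ⟨a1, a2, a3⟩ := hφ y₁ h1u h1f
  obtain ⟨b1, b2, b3⟩ := hφ y₂ h2u h2f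
  obtain ⟨c1, c2, c3⟩ := hφ (y₁ + y₂) (by rw [B_add_left, h1u, h2u, add_zero])
    (by rw [B_add_left, h1f, h2f, add_zero])
  apply param_unique Q hQ hn h.hu' h.huf' c1 c2 (by rw [B_add_left, a1, b1, add_zero])
    (by rw [B_add_left, a2, b2, add_zero])
  rw [← c3, ← rhoΩ_mul Q hQ hn h.hu (by rw [B_comm, h1u]) (by rw [B_comm, h2u]), map_mul, map_mul,
    a3, b3, ← map_mul, rhoΩ_mul Q hQ hn h.hu' (by rw [B_comm, a1]) (by rw [B_comm, b1])]

theorem phi_inj (h : Loc Q hQ hn θ u f u' f') (hφ : IsPhi Q θ u f u' f' φ) {y : ι → F}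
    (hyu : B y u = 0) (hyf : B y f = 0) (h0 : φ y = 0) : y = 0 := by
  obtain ⟨a1, a2, a3⟩ := hφ y hyu hyf
  rw [h0, rhoΩ_zero, map_one] at a3
  have h1 : pr Q (rhoΩ Q u y) = pr Q (rhoΩ Q u 0) := by
    rw [rhoΩ_zero, map_one]
    exact (MulEquiv.map_eq_one_iff θ).1 a3
  exact param_unique Q hQ hn h.hu h.huf hyu hyf (B_zero_left Q _) (B_zero_left Q _) h1

theorem phi_zero (h : Loc Q hQ hn θ u f u' f') (hφ : IsPhi Q θ u f u' f' φ) : φ 0 = 0 := by
  have := phi_add h hφ (B_zero_left Q u) (B_zero_left Q f) (B_zero_left Q u) (B_zero_left Q f)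
  rw [add_zero] at this
  exact left_eq_add.1 this

/-- the image of a line through `u` -/
theorem phi_line (h : Loc Q hQ hn θ u f u' f') (hφ : IsPhi Q θ u f u' f' φ) {y : ι → F}
    (hy0 : y ≠ 0) (hy : Q y = 0) (hyu : B y u = 0) (hyf : B y f = 0) :
    ∃ t, TSPair Q u' t ∧ B t u' = 0 ∧ B t f' = 0 ∧
      lam Q hQ hn θ (Submodule.span F {u, y}) = Submodule.span F {u', t} ∧
      ∀ c : F, ∃ c' : F, φ (c • y) = c' • t := by
  have hts : TSPair Q u y :=
    (tspair_of Q hy0 hy h.hu hyu hyf (by rw [h.huf]; exact one_ne_zero)).symm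
  set K := Submodule.span F {u, y} with hK
  have hKl : IsLine Q K := ⟨u, y, hts, rfl⟩
  have hK'l := lam_isLine Q hQ hn θ hKl
  have hu'K : u' ∈ lam Q hQ hn θ K := (h.mapu K hKl).1 (Submodule.subset_span (by simp))
  obtain ⟨t₁, ht₁, hK'⟩ := hK'l.exists_basis hu'K h.u'_ne
  set t := t₁ + (-(B t₁ f')) • u' with ht
  have huu : B u' u' = 0 := by rw [B_self, h.hu', mul_zero]
  have htu : B t u' = 0 := by
    rw [ht, B_add_left, B_smul_left, huu, B_comm, ht₁.2.2.1]; ring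
  have htf : B t f' = 0 := by
    rw [ht, B_add_left, B_smul_left, h.huf']; ring
  have hQt : Q t = 0 := by
    rw [ht, Q_add, Q_smul, h.hu', ht₁.2.1, B_smul_right, B_comm Q t₁ u', ht₁.2.2.1]; ring
  have hli : LinearIndependent F ![u', t] := by
    have := ht₁.2.2.2
    rw [LinearIndependent.pair_iff] at this ⊢
    intro a b hab
    have h1 := this (a - b * B t₁ f') b (by rw [← hab, ht]; module)
    refine ⟨?_, h1.2⟩
    have h2 := h1.1
    rw [h1.2] at h2
    linear_combination h2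
  have hts' : TSPair Q u' t := ⟨h.hu', hQt, by rw [B_comm, htu], hli⟩
  have hK'' : lam Q hQ hn θ K = Submodule.span F {u', t} := by
    refine (hK'l.eq_span hu'K ?_ hli).2
    rw [hK', ht]
    exact add_mem (Submodule.subset_span (by simp))
      (Submodule.smul_mem _ _ (Submodule.subset_span (by simp)))
  refine ⟨t, hts', htu, htf, hK'', fun c => ?_⟩
  have h1 : rhoΩ Q u (c • y) ∈ XL Q K := rhoΩ_mem_XL Q hQ hn hts c
  obtain ⟨r, hr, he⟩ := mem_Xb_lam Q hQ hn θ hKl (Subgroup.mem_map_of_mem _ h1)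
  rw [hK''] at hr
  obtain ⟨c', rfl⟩ := exists_of_mem_XL Q hQ hn hts' hr
  obtain ⟨a1, a2, a3⟩ := hφ (c • y) (by rw [B_smul_left, hyu, mul_zero])
    (by rw [B_smul_left, hyf, mul_zero])
  refine ⟨c', ?_⟩
  apply param_unique Q hQ hn h.hu' h.huf' a1 a2 (by rw [B_smul_left, htu, mul_zero])
    (by rw [B_smul_left, htf, mul_zero])
  rw [← a3, ← he]

/-- `φ` maps singular vectors to singular vectors, lines through `u` to lines through `u'` -/
theorem phi_sing (h : Loc Q hQ hn θ u f u' f') (hφ : IsPhi Q θ u f u' f' φ) {y : ι → F}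
    (hy0 : y ≠ 0) (hy : Q y = 0) (hyu : B y u = 0) (hyf : B y f = 0) :
    TSPair Q u' (φ y) ∧
      lam Q hQ hn θ (Submodule.span F {u, y}) = Submodule.span F {u', φ y} ∧
      ∀ c : F, ∃ c' : F, φ (c • y) = c' • φ y := by
  obtain ⟨t, hts, htu, htf, hK, hc⟩ := phi_line h hφ hy0 hy hyu hyf
  obtain ⟨c₁, hc₁⟩ := hc 1
  rw [one_smul] at hc₁
  have hφ0 : φ y ≠ 0 := fun h0 => hy0 (phi_inj h hφ hyu hyf h0)
  have hc₁0 : c₁ ≠ 0 := by
    rintro rfl
    rw [zero_smul] at hc₁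
    exact hφ0 hc₁
  have ht : t = c₁⁻¹ • φ y := by rw [hc₁, smul_smul, inv_mul_cancel₀ hc₁0, one_smul]
  have hli : LinearIndependent F ![u', φ y] := by
    have := hts.2.2.2
    rw [LinearIndependent.pair_iff] at this ⊢
    intro a b hab
    have h1 := this a (b * c₁) (by rw [← hab, hc₁]; module)
    exact ⟨h1.1, (mul_eq_zero.1 h1.2).resolve_right hc₁0⟩
  have hts' : TSPair Q u' (φ y) := by
    refine ⟨h.hu', ?_, ?_, hli⟩
    · rw [hc₁, Q_smul, hts.2.1, mul_zero]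
    · rw [hc₁, B_smul_right, hts.2.2.1, mul_zero]
  refine ⟨hts', ?_, fun c => ?_⟩
  · rw [hK]
    refine (IsLine.eq_span ⟨u', t, hts, rfl⟩ (Submodule.subset_span (by simp)) ?_ hli).2
    rw [hc₁]
    exact Submodule.smul_mem _ _ (Submodule.subset_span (by simp))
  · obtain ⟨c', hc'⟩ := hc c
    exact ⟨c' * c₁⁻¹, by rw [hc', ht, smul_smul]⟩

/-- independence is preserved on singular vectors -/
theorem phi_li (h : Loc Q hQ hn θ u f u' f') (hφ : IsPhi Q θ u f u' f' φ) {y₁ y₂ : ι → F}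
    (h1 : Q y₁ = 0) (h1u : B y₁ u = 0) (h1f : B y₁ f = 0)
    (h2 : Q y₂ = 0) (h2u : B y₂ u = 0) (h2f : B y₂ f = 0)
    (hli : LinearIndependent F ![y₁, y₂]) : LinearIndependent F ![φ y₁, φ y₂] := by
  have h10 : y₁ ≠ 0 := hli.ne_zero 0
  have h20 : y₂ ≠ 0 := hli.ne_zero 1
  obtain ⟨ts1, hK1, _⟩ := phi_sing h hφ h10 h1 h1u h1f
  obtain ⟨ts2, hK2, _⟩ := phi_sing h hφ h20 h2 h2u h2f
  have hts1 : TSPair Q u y₁ :=
    (tspair_of Q h10 h1 h.hu h1u h1f (by rw [h.huf]; exact one_ne_zero)).symm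
  have hts2 : TSPair Q u y₂ :=
    (tspair_of Q h20 h2 h.hu h2u h2f (by rw [h.huf]; exact one_ne_zero)).symm
  apply li_pair_of_not_mem ts1.ne_zero_right
  intro hmem
  obtain ⟨c, hc⟩ := Submodule.mem_span_singleton.1 hmem
  have hle : Submodule.span F {u', φ y₂} ≤ Submodule.span F {u', φ y₁} := by
    rw [Submodule.span_le]
    rintro x (rfl | rfl)
    · exact Submodule.subset_span (by simp)
    · rw [← hc]
      exact Submodule.smul_mem _ _ (Submodule.subset_span (by simp))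
  have heq := IsLine.eq_of_le ⟨u', _, ts2, rfl⟩ ⟨u', _, ts1, rfl⟩ hle
  rw [← hK1, ← hK2] at heq
  have heq' := lam_injective Q hQ hn θ ⟨u, y₂, hts2, rfl⟩ ⟨u, y₁, hts1, rfl⟩ heq
  have hmem2 : y₂ ∈ Submodule.span F {u, y₁} := by
    rw [← heq']; exact Submodule.subset_span (by simp)
  obtain ⟨a, b, hab⟩ := Submodule.mem_span_pair.1 hmem2
  have ha : a = 0 := by
    have := congrArg (fun v => B v f) hab
    simp only [B_add_left, B_smul_left, h.huf, h1f, h2f] at this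
    linear_combination this
  rw [ha, zero_smul, zero_add] at hab
  rw [LinearIndependent.pair_iff] at hli
  have := hli b (-1) (by rw [hab]; module)
  exact one_ne_zero (neg_eq_zero.1 this.2)

end

section

open Matrix QuadraticMap Module
open scoped commutatorElement

variable {F : Type*} [Field F] {ι : Type} [Fintype ι] [DecidableEq ι]
variable (Q : QuadraticForm F (ι → F))

set_option quotPrecheck false in
local notation "B" => QuadraticMap.polar (⇑Q)

variable (hQ : (polarBilin Q).Nondegenerate) [Fintype F]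

include hQ in
/-- two maps on `⟨u,f⟩^⊥` that are additive and proportional on singular vectors are
proportional -/
theorem prop_of_sing (hn7 : 7 ≤ Fintype.card ι) {u f : ι → F} (hu : Q u = 0) (hf : Q f = 0)
    (huf : B u f = 1) {φ χ : (ι → F) → (ι → F)}
    (hφadd : ∀ y₁ y₂, B y₁ u = 0 → B y₁ f = 0 → B y₂ u = 0 → B y₂ f = 0 →
      φ (y₁ + y₂) = φ y₁ + φ y₂)
    (hχadd : ∀ y₁ y₂, B y₁ u = 0 → B y₁ f = 0 → B y₂ u = 0 → B y₂ f = 0 →
      χ (y₁ + y₂) = χ y₁ + χ y₂)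
    (hχ : ∀ y, B y u = 0 → B y f = 0 → Q y = 0 → ∃ c : F, χ y = c • φ y)
    (hli : ∀ y₁ y₂, B y₁ u = 0 → B y₁ f = 0 → B y₂ u = 0 → B y₂ f = 0 → Q y₁ = 0 → Q y₂ = 0 →
      LinearIndependent F ![y₁, y₂] → LinearIndependent F ![φ y₁, φ y₂])
    (hinj : ∀ y, B y u = 0 → B y f = 0 → φ y = 0 → y = 0) :
    ∃ μ : F, ∀ w, B w u = 0 → B w f = 0 → χ w = μ • φ w := by
  have hn : 5 ≤ Fintype.card ι := by omega
  -- step 1
  have step1 : ∀ y₁ y₂, B y₁ u = 0 → B y₁ f = 0 → B y₂ u = 0 → B y₂ f = 0 → Q y₁ = 0 → Q y₂ = 0 →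
      B y₁ y₂ = 0 → LinearIndependent F ![y₁, y₂] → ∀ c₁ c₂ : F, χ y₁ = c₁ • φ y₁ →
      χ y₂ = c₂ • φ y₂ → c₁ = c₂ := by
    intro y₁ y₂ h1u h1f h2u h2f h1 h2 h12 hl c₁ c₂ e1 e2
    obtain ⟨c₃, e3⟩ := hχ (y₁ + y₂) (by rw [B_add_left, h1u, h2u, add_zero])
      (by rw [B_add_left, h1f, h2f, add_zero]) (by rw [Q_add, h1, h2, h12]; ring)
    rw [hχadd y₁ y₂ h1u h1f h2u h2f, hφadd y₁ y₂ h1u h1f h2u h2f, e1, e2] at e3
    have hl' := hli y₁ y₂ h1u h1f h2u h2f h1 h2 hl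
    rw [LinearIndependent.pair_iff] at hl'
    have := hl' (c₁ - c₃) (c₂ - c₃) (by
      have := sub_eq_zero.2 e3
      rw [← this]; module)
    have ha := this.1
    have hb := this.2
    linear_combination ha - hb
  -- the relation for all pairs of singular vectors
  have step2 : ∀ y z, y ≠ 0 → z ≠ 0 → B y u = 0 → B y f = 0 → B z u = 0 → B z f = 0 → Q y = 0 →
      Q z = 0 → ∀ c d : F, χ y = c • φ y → χ z = d • φ z → c = d := by
    intro y z hy0 hz0 hyu hyf hzu hzf hy hz c d ec ed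
    -- via an intermediate vector
    have via : ∀ t, t ≠ 0 → Q t = 0 → B t u = 0 → B t f = 0 → B y t = 0 → B z t = 0 →
        LinearIndependent F ![y, t] → LinearIndependent F ![z, t] → c = d := by
      intro t ht0 ht htu htf hyt hzt l1 l2
      obtain ⟨e, ee⟩ := hχ t htu htf ht
      rw [step1 y t hyu hyf htu htf hy ht hyt l1 c e ec ee,
        step1 z t hzu hzf htu htf hz ht hzt l2 d e ed ee]
    by_cases hyz : B y z = 0
    · by_cases hdep : LinearIndependent F ![y, z]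
      · exact step1 y z hyu hyf hzu hzf hy hz hyz hdep c d ec ed
      · -- `z` is a multiple of `y`
        obtain ⟨y', hy', hyy', hy'u, hy'f⟩ := exists_partner_in Q hQ hu hf huf hy0 hy hyu hyf
        obtain ⟨t, ht0, ht, htt⟩ := exists_singular_perp Q ![u, f, y, y'] (by omega)
        have htu : B t u = 0 := by rw [B_comm]; exact htt 0
        have htf : B t f = 0 := by rw [B_comm]; exact htt 1
        have hyt : B y t = 0 := htt 2
        have hy't : B y' t = 0 := htt 3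
        have hzmem : z ∈ Submodule.span F {y} := by
          by_contra hcon
          exact hdep (li_pair_of_not_mem hy0 hcon)
        obtain ⟨a, rfl⟩ := Submodule.mem_span_singleton.1 hzmem
        have ha : a ≠ 0 := by
          rintro rfl
          exact hz0 (zero_smul _ _)
        have l1 : LinearIndependent F ![y, t] := by
          rw [LinearIndependent.pair_iff]
          intro α β hαβ
          have := congrArg (fun v => B v y') hαβ
          simp only [B_add_left, B_smul_left, hyy', B_comm Q t y', hy't, B_zero_left] at this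
          have hα : α = 0 := by linear_combination this
          rw [hα, zero_smul, zero_add] at hαβ
          exact ⟨hα, (smul_eq_zero.1 hαβ).resolve_right ht0⟩
        have l2 : LinearIndependent F ![a • y, t] := by
          rw [LinearIndependent.pair_iff] at l1 ⊢
          intro α β hαβ
          have := l1 (α * a) β (by rw [← hαβ]; module)
          exact ⟨(mul_eq_zero.1 this.1).resolve_right ha, this.2⟩
        exact via t ht0 ht htu htf hyt (by rw [B_smul_left, hyt, mul_zero]) l1 l2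
    · obtain ⟨t, ht0, ht, htt⟩ := exists_singular_perp Q ![u, f, y, z] (by omega)
      have htu : B t u = 0 := by rw [B_comm]; exact htt 0
      have htf : B t f = 0 := by rw [B_comm]; exact htt 1
      have hyt : B y t = 0 := htt 2
      have hzt : B z t = 0 := htt 3
      have l1 : LinearIndependent F ![y, t] := by
        rw [LinearIndependent.pair_iff]
        intro α β hαβ
        have := congrArg (fun v => B v z) hαβ
        simp only [B_add_left, B_smul_left, B_comm Q t z, hzt, B_zero_left] at this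
        have hα : α = 0 := by
          have h2 : α * B y z = 0 := by linear_combination this
          exact (mul_eq_zero.1 h2).resolve_right hyz
        rw [hα, zero_smul, zero_add] at hαβ
        exact ⟨hα, (smul_eq_zero.1 hαβ).resolve_right ht0⟩
      have l2 : LinearIndependent F ![z, t] := by
        rw [LinearIndependent.pair_iff]
        intro α β hαβ
        have := congrArg (fun v => B y v) hαβ
        simp only [B_add_right, B_smul_right, hyt, B_zero_right] at this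
        have hα : α = 0 := by
          have h2 : α * B y z = 0 := by linear_combination this
          exact (mul_eq_zero.1 h2).resolve_right hyz
        rw [hα, zero_smul, zero_add] at hαβ
        exact ⟨hα, (smul_eq_zero.1 hαβ).resolve_right ht0⟩
      exact via t ht0 ht htu htf hyt hzt l1 l2
  -- a base vector
  obtain ⟨y₀, hy₀0, hy₀, hy₀t⟩ := exists_singular_perp Q ![u, f] (by omega)
  have hy₀u : B y₀ u = 0 := by rw [B_comm]; exact hy₀t 0
  have hy₀f : B y₀ f = 0 := by rw [B_comm]; exact hy₀t 1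
  obtain ⟨μ, hμ⟩ := hχ y₀ hy₀u hy₀f hy₀
  have hφ0 : φ 0 = 0 := by
    have := hφadd 0 0 (B_zero_left Q u) (B_zero_left Q f) (B_zero_left Q u) (B_zero_left Q f)
    rw [add_zero] at this
    exact left_eq_add.1 this
  have hχ0 : χ 0 = 0 := by
    have := hχadd 0 0 (B_zero_left Q u) (B_zero_left Q f) (B_zero_left Q u) (B_zero_left Q f)
    rw [add_zero] at this
    exact left_eq_add.1 this
  have hsing : ∀ y, B y u = 0 → B y f = 0 → Q y = 0 → χ y = μ • φ y := by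
    intro y hyu hyf hy
    by_cases hy0 : y = 0
    · rw [hy0, hχ0, hφ0, smul_zero]
    obtain ⟨c, hc⟩ := hχ y hyu hyf hy
    rw [hc, step2 y y₀ hy0 hy₀0 hyu hyf hy₀u hy₀f hy hy₀ c μ hc hμ]
  refine ⟨μ, fun w hwu hwf => ?_⟩
  obtain ⟨y₁, y₂, h1, h2, h1u, h1f, h2u, h2f, rfl⟩ := exists_two_singular Q hQ hn hu hf huf hwu hwf
  rw [hχadd y₁ y₂ h1u h1f h2u h2f, hφadd y₁ y₂ h1u h1f h2u h2f, hsing y₁ h1u h1f h1,
    hsing y₂ h2u h2f h2, smul_add]

end

section

open Matrix QuadraticMap Module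
open scoped commutatorElement

variable {F : Type*} [Field F] {ι : Type} [Fintype ι] [DecidableEq ι]
variable {Q : QuadraticForm F (ι → F)}

set_option quotPrecheck false in
local notation "B" => QuadraticMap.polar (⇑Q)

variable {hQ : (polarBilin Q).Nondegenerate} [Fintype F] {hn : 5 ≤ Fintype.card ι}
variable {θ : Cfsg.POmega F ⇑Q ≃* Cfsg.POmega F ⇑Q} {u f u' f' : ι → F}
  {φ ψ : (ι → F) → (ι → F)}

/-- on singular vectors, the maps attached to `u` and to `f` are proportional -/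
theorem psi_mem (hn7 : 7 ≤ Fintype.card ι) (hnt : NoTriality Q) (h : Loc Q hQ hn θ u f u' f')
    (hφ : IsPhi Q θ u f u' f' φ) (hψ : IsPhi Q θ f u f' u' ψ) {y : ι → F} (hy0 : y ≠ 0)
    (hy : Q y = 0) (hyu : B y u = 0) (hyf : B y f = 0) : ∃ c : F, ψ y = c • φ y := by
  obtain ⟨ts1, hK1, _⟩ := phi_sing h hφ hy0 hy hyu hyf
  obtain ⟨ts2, hK2, _⟩ := phi_sing h.swap hψ hy0 hy hyf hyu
  have hts1 : TSPair Q u y :=
    (tspair_of Q hy0 hy h.hu hyu hyf (by rw [h.huf]; exact one_ne_zero)).symm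
  have hts2 : TSPair Q f y :=
    (tspair_of Q hy0 hy h.hf hyf hyu (by rw [B_comm, h.huf]; exact one_ne_zero)).symm
  have hmeet : LMeet (Submodule.span F {f, y}) (Submodule.span F {u, y}) :=
    lmeet_iff.2 ⟨y, hy0, Submodule.subset_span (by simp), Submodule.subset_span (by simp)⟩
  have hmeet' := lmeet_lam Q hQ hn hn7 hnt θ ⟨f, y, hts2, rfl⟩ ⟨u, y, hts1, rfl⟩ hmeet
  rw [hK1, hK2] at hmeet'
  obtain ⟨z, hz0, hz1, hz2⟩ := lmeet_iff.1 hmeet'
  obtain ⟨α, β, e1⟩ := Submodule.mem_span_pair.1 hz1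
  obtain ⟨γ, δ, e2⟩ := Submodule.mem_span_pair.1 hz2
  obtain ⟨a1, a2, _⟩ := hφ y hyu hyf
  obtain ⟨b1, b2, _⟩ := hψ y hyf hyu
  have huu : B u' u' = 0 := by rw [B_self, h.hu', mul_zero]
  have hff : B f' f' = 0 := by rw [B_self, h.hf', mul_zero]
  have hfu : B f' u' = 1 := by rw [B_comm, h.huf']
  have hα : α = 0 := by
    have := congrArg (fun v => B v u') (e1.trans e2.symm)
    simp only [B_add_left, B_smul_left, hfu, b2, huu, a1] at this
    linear_combination this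
  have hγ : γ = 0 := by
    have := congrArg (fun v => B v f') (e1.trans e2.symm)
    simp only [B_add_left, B_smul_left, hff, b1, h.huf', a2] at this
    linear_combination -this
  rw [hα, zero_smul, zero_add] at e1
  rw [hγ, zero_smul, zero_add] at e2
  have hβ : β ≠ 0 := by
    rintro rfl
    rw [zero_smul] at e1
    exact hz0 e1.symm
  refine ⟨β⁻¹ * δ, ?_⟩
  rw [mul_smul, e2, ← e1, smul_smul, inv_mul_cancel₀ hβ, one_smul]

/-- the field automorphism attached to `φ` -/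
theorem exists_sigma (hn7 : 7 ≤ Fintype.card ι) (h : Loc Q hQ hn θ u f u' f')
    (hφ : IsPhi Q θ u f u' f' φ) :
    ∃ σ : F ≃+* F, ∀ (a : F) (w : ι → F), B w u = 0 → B w f = 0 → φ (a • w) = σ a • φ w := by
  have hφadd : ∀ y₁ y₂, B y₁ u = 0 → B y₁ f = 0 → B y₂ u = 0 → B y₂ f = 0 →
      φ (y₁ + y₂) = φ y₁ + φ y₂ := fun y₁ y₂ h1u h1f h2u h2f => phi_add h hφ h1u h1f h2u h2f
  have key : ∀ a : F, ∃ μ : F, ∀ w, B w u = 0 → B w f = 0 → φ (a • w) = μ • φ w := by
    intro a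
    apply prop_of_sing Q hQ hn7 h.hu h.hf h.huf hφadd
    · intro y₁ y₂ h1u h1f h2u h2f
      rw [smul_add]
      exact phi_add h hφ (by rw [B_smul_left, h1u, mul_zero]) (by rw [B_smul_left, h1f, mul_zero])
        (by rw [B_smul_left, h2u, mul_zero]) (by rw [B_smul_left, h2f, mul_zero])
    · intro y hyu hyf hy
      by_cases hy0 : y = 0
      · exact ⟨0, by rw [hy0, smul_zero, phi_zero h hφ, smul_zero]⟩
      · exact (phi_sing h hφ hy0 hy hyu hyf).2.2 a
    · intro y₁ y₂ h1u h1f h2u h2f h1 h2 hl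
      exact phi_li h hφ h1 h1u h1f h2 h2u h2f hl
    · intro y hyu hyf h0
      exact phi_inj h hφ hyu hyf h0
  choose σ hσ using key
  obtain ⟨w₀, hw₀0, hw₀, hw₀t⟩ := exists_singular_perp Q ![u, f] (by omega)
  have hw₀u : B w₀ u = 0 := by rw [B_comm]; exact hw₀t 0
  have hw₀f : B w₀ f = 0 := by rw [B_comm]; exact hw₀t 1
  have hφw₀ : φ w₀ ≠ 0 := fun h0 => hw₀0 (phi_inj h hφ hw₀u hw₀f h0)
  have cancel : ∀ a b : F, a • φ w₀ = b • φ w₀ → a = b := by
    intro a b hab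
    have : (a - b) • φ w₀ = 0 := by rw [sub_smul, hab, sub_self]
    have := (smul_eq_zero.1 this).resolve_right hφw₀
    linear_combination this
  have h1 : σ 1 = 1 := by
    apply cancel
    rw [← hσ 1 w₀ hw₀u hw₀f, one_smul, one_smul]
  have hmul : ∀ a b, σ (a * b) = σ a * σ b := by
    intro a b
    apply cancel
    rw [← hσ (a * b) w₀ hw₀u hw₀f, mul_smul, hσ a (b • w₀) (by rw [B_smul_left, hw₀u, mul_zero])
      (by rw [B_smul_left, hw₀f, mul_zero]), hσ b w₀ hw₀u hw₀f, smul_smul]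
  have hadd : ∀ a b, σ (a + b) = σ a + σ b := by
    intro a b
    apply cancel
    rw [← hσ (a + b) w₀ hw₀u hw₀f, add_smul, phi_add h hφ (by rw [B_smul_left, hw₀u, mul_zero])
      (by rw [B_smul_left, hw₀f, mul_zero]) (by rw [B_smul_left, hw₀u, mul_zero])
      (by rw [B_smul_left, hw₀f, mul_zero]), hσ a w₀ hw₀u hw₀f, hσ b w₀ hw₀u hw₀f, add_smul]
  have h0 : σ 0 = 0 := by
    have := hadd 0 0
    rw [add_zero] at this
    exact left_eq_add.1 this
  let σh : F →+* F := ⟨⟨⟨σ, h1⟩, hmul⟩, h0, hadd⟩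
  have hinj : Function.Injective σh := σh.injective
  exact ⟨RingEquiv.ofBijective σh ⟨hinj, Finite.injective_iff_surjective.1 hinj⟩, hσ⟩

/-- the maps attached to `u` and `f` are proportional -/
theorem exists_mu (hn7 : 7 ≤ Fintype.card ι) (hnt : NoTriality Q) (h : Loc Q hQ hn θ u f u' f')
    (hφ : IsPhi Q θ u f u' f' φ) (hψ : IsPhi Q θ f u f' u' ψ) :
    ∃ μ : F, μ ≠ 0 ∧ ∀ w, B w u = 0 → B w f = 0 → ψ w = μ • φ w := by
  have hφadd : ∀ y₁ y₂, B y₁ u = 0 → B y₁ f = 0 → B y₂ u = 0 → B y₂ f = 0 →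
      φ (y₁ + y₂) = φ y₁ + φ y₂ := fun y₁ y₂ h1u h1f h2u h2f => phi_add h hφ h1u h1f h2u h2f
  obtain ⟨μ, hμ⟩ : ∃ μ : F, ∀ w, B w u = 0 → B w f = 0 → ψ w = μ • φ w := by
    apply prop_of_sing Q hQ hn7 h.hu h.hf h.huf hφadd
    · intro y₁ y₂ h1u h1f h2u h2f
      exact phi_add h.swap hψ h1f h1u h2f h2u
    · intro y hyu hyf hy
      by_cases hy0 : y = 0
      · exact ⟨0, by rw [hy0, phi_zero h.swap hψ, zero_smul]⟩
      · exact psi_mem hn7 hnt h hφ hψ hy0 hy hyu hyf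
    · intro y₁ y₂ h1u h1f h2u h2f h1 h2 hl
      exact phi_li h hφ h1 h1u h1f h2 h2u h2f hl
    · intro y hyu hyf h0
      exact phi_inj h hφ hyu hyf h0
  refine ⟨μ, ?_, hμ⟩
  rintro rfl
  obtain ⟨w₀, hw₀0, hw₀, hw₀t⟩ := exists_singular_perp Q ![u, f] (by omega)
  have hw₀u : B w₀ u = 0 := by rw [B_comm]; exact hw₀t 0
  have hw₀f : B w₀ f = 0 := by rw [B_comm]; exact hw₀t 1
  have := hμ w₀ hw₀u hw₀f
  rw [zero_smul] at this
  exact hw₀0 (phi_inj h.swap hψ hw₀f hw₀u this)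

end

section

open Matrix QuadraticMap Module
open scoped commutatorElement

variable {F : Type*} [Field F] {ι : Type} [Fintype ι] [DecidableEq ι]
variable {Q : QuadraticForm F (ι → F)}

set_option quotPrecheck false in
local notation "B" => QuadraticMap.polar (⇑Q)

/-- conjugates of `Q_u` -/
theorem conj_mem_Qg {u : ι → F} {s t : ↥(Cfsg.Omega F ⇑Q)} (hs : s ∈ Qg Q u) :
    t * s * t⁻¹ ∈ Qg Q (sv t u) := by
  obtain ⟨h1, h2⟩ := hs
  refine ⟨by rw [sv_mul, sv_mul, sv_inv_sv, h1], fun z hz => ?_⟩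
  have hz' : B (sv t⁻¹ z) u = 0 := by
    have := B_sv t (sv t⁻¹ z) u
    rw [sv_sv_inv] at this
    rw [← this, hz]
  obtain ⟨c, hc⟩ := h2 _ hz'
  refine ⟨c, ?_⟩
  rw [sv_mul, sv_mul, hc, sv_add, sv_smul, sv_sv_inv]

/-- `Q_u` depends only on the point `⟨u⟩` -/
theorem Qg_smul {u : ι → F} {c : F} (hc : c ≠ 0) : Qg Q (c • u) = Qg Q u := by
  ext s
  rw [mem_Qg, mem_Qg]
  constructor
  · rintro ⟨h1, h2⟩
    refine ⟨?_, fun z hz => ?_⟩
    · rw [sv_smul] at h1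
      have := congrArg (fun v => c⁻¹ • v) h1
      simpa [smul_smul, inv_mul_cancel₀ hc] using this
    · obtain ⟨d, hd⟩ := h2 z (by rw [B_smul_right, hz, mul_zero])
      exact ⟨d * c, by rw [hd, smul_smul]⟩
  · rintro ⟨h1, h2⟩
    refine ⟨by rw [sv_smul, h1], fun z hz => ?_⟩
    rw [B_smul_right] at hz
    obtain ⟨d, hd⟩ := h2 z ((mul_eq_zero.1 hz).resolve_left hc)
    exact ⟨d * c⁻¹, by rw [hd, smul_smul, mul_assoc, inv_mul_cancel₀ hc, mul_one]⟩

variable (hQ : (polarBilin Q).Nondegenerate) [Fintype F] (hn : 5 ≤ Fintype.card ι)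

include hQ hn in
/-- elements of two groups `Q_v` with the same image in `PΩ` are equal -/
theorem eq_of_pr_eq_of_mem_Qg {v₁ v₂ : ι → F} (h10 : v₁ ≠ 0) (h1 : Q v₁ = 0) (h20 : v₂ ≠ 0)
    (h2 : Q v₂ = 0) {a b : ↥(Cfsg.Omega F ⇑Q)} (ha : a ∈ Qg Q v₁) (hb : b ∈ Qg Q v₂)
    (h : pr Q a = pr Q b) : a = b := by
  obtain ⟨y₁, hy₁, rfl⟩ := exists_of_mem_Qg Q hQ hn h10 h1 ha
  obtain ⟨y₂, hy₂, rfl⟩ := exists_of_mem_Qg Q hQ hn h20 h2 hb
  have hfin : finrank F ↥(Submodule.span F {v₁, y₁} ⊔ Submodule.span F {v₂, y₂}) <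
      Fintype.card ι := by
    have h3 := Submodule.finrank_add_le_finrank_add_finrank (Submodule.span F {v₁, y₁})
      (Submodule.span F {v₂, y₂})
    have h4 := finrank_span_pair_le v₁ y₁
    have h5 := finrank_span_pair_le v₂ y₂
    omega
  obtain ⟨x, hx0, hx⟩ := exists_ne_zero_perp Q hQ _ hfin
  rw [perp_sup, Submodule.mem_inf, mem_perp_span_pair, mem_perp_span_pair] at hx
  apply eq_of_pr_eq_of_fix Q hQ hn h hx0
  · rw [sv_rhoΩ Q hQ hn h1 hy₁, B_comm Q x y₁, B_comm Q x v₁, hx.1.1, hx.1.2]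
    module
  · rw [sv_rhoΩ Q hQ hn h2 hy₂, B_comm Q x y₂, B_comm Q x v₂, hx.2.1, hx.2.2]
    module

variable {hQ hn}
variable {θ : Cfsg.POmega F ⇑Q ≃* Cfsg.POmega F ⇑Q} {u f u' f' : ι → F}
  {φ ψ : (ι → F) → (ι → F)}

theorem Loc.symm (h : Loc Q hQ hn θ u f u' f') : Loc Q hQ hn θ.symm u' f' u f := by
  refine ⟨h.hu', h.hf', h.huf', h.hu, h.hf, h.huf, fun K hK => ?_, fun K hK => ?_⟩
  · have := h.mapu _ (lam_isLine Q hQ hn θ.symm hK)
    rw [lam_lam_symm Q hQ hn θ hK] at this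
    exact this.symm
  · have := h.mapf _ (lam_isLine Q hQ hn θ.symm hK)
    rw [lam_lam_symm Q hQ hn θ hK] at this
    exact this.symm

/-- `φ` is onto `⟨u',f'⟩^⊥` -/
theorem phi_surj (h : Loc Q hQ hn θ u f u' f') (hφ : IsPhi Q θ u f u' f' φ) {y' : ι → F}
    (hyu : B y' u' = 0) (hyf : B y' f' = 0) : ∃ y, B y u = 0 ∧ B y f = 0 ∧ φ y = y' := by
  obtain ⟨φ', hφ'⟩ := exists_isPhi Q hQ hn h.symm
  obtain ⟨a1, a2, a3⟩ := hφ' y' hyu hyf
  obtain ⟨b1, b2, b3⟩ := hφ (φ' y') a1 a2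
  refine ⟨φ' y', a1, a2, ?_⟩
  apply param_unique Q hQ hn h.hu' h.huf' b1 b2 hyu hyf
  rw [← b3, ← a3, MulEquiv.apply_symm_apply]

/-- an element mapping `⟨u⟩` to `⟨f⟩` is sent to an element mapping `⟨u'⟩` to `⟨f'⟩` -/
theorem conj_point (h : Loc Q hQ hn θ u f u' f') {n N : ↥(Cfsg.Omega F ⇑Q)} {c : F} (hc : c ≠ 0)
    (hnu : sv n u = c • f) (hnN : θ (pr Q n) = pr Q N) :
    ∃ d : F, sv N u' = d • f' := by
  have hf0 : f ≠ 0 := h.swap.u_ne
  have hf'0 : f' ≠ 0 := h.swap.u'_ne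
  have key : ∀ y', B u' y' = 0 → sv (rhoΩ Q u' y') (sv N⁻¹ f') = sv N⁻¹ f' := by
    intro y' hy'
    have hs' : rhoΩ Q u' y' ∈ Qg Q u' := rhoΩ_mem_Qg Q hQ hn h.hu' hy'
    obtain ⟨s, hs, he⟩ := theta_Qg Q hQ hn θ.symm h.u'_ne h.hu' h.u_ne h.symm.mapu hs'
    have he' : θ (pr Q s) = pr Q (rhoΩ Q u' y') := by
      rw [← he, MulEquiv.apply_symm_apply]
    have h1 : n * s * n⁻¹ ∈ Qg Q f := by
      have := conj_mem_Qg (t := n) hs
      rwa [hnu, Qg_smul hc] at this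
    obtain ⟨t', ht', het⟩ := theta_Qg Q hQ hn θ hf0 h.hf hf'0 h.mapf h1
    have h2 : pr Q (N * rhoΩ Q u' y' * N⁻¹) = pr Q t' := by
      rw [← het]
      simp only [map_mul, map_inv, hnN, he']
    have h3 : N * rhoΩ Q u' y' * N⁻¹ ∈ Qg Q (sv N u') := conj_mem_Qg hs'
    have hNu0 : sv N u' ≠ 0 := fun h0 => h.u'_ne ((sv_eq_zero_iff N).1 h0)
    have h4 := eq_of_pr_eq_of_mem_Qg hQ hn hNu0 (by rw [Q_sv, h.hu']) hf'0 h.hf' h3 ht' h2
    have h5 : sv (N * rhoΩ Q u' y' * N⁻¹) f' = f' := by rw [h4]; exact ht'.1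
    rw [sv_mul, sv_mul] at h5
    have := congrArg (sv N⁻¹) h5
    rwa [sv_inv_sv] at this
  have hmem := mem_span_of_Qg_fix Q hQ hn h.u'_ne h.hu' key
  obtain ⟨e, he⟩ := Submodule.mem_span_singleton.1 hmem
  have he0 : e ≠ 0 := by
    rintro rfl
    rw [zero_smul] at he
    exact hf'0 ((sv_eq_zero_iff N⁻¹).1 he.symm)
  refine ⟨e⁻¹, ?_⟩
  have := congrArg (sv N) he
  rw [sv_smul, sv_sv_inv] at this
  rw [← this, smul_smul, inv_mul_cancel₀ he0, one_smul]

include hQ hn in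
/-- the action of `ρ_{u,Y} ρ_{f,Y'} ρ_{u,Y}` on `u` -/
theorem sv_triple {u f Y Y' : ι → F} (hu : Q u = 0) (hf : Q f = 0) (huf : B u f = 1)
    (hYu : B Y u = 0) (hYf : B Y f = 0) (hY'u : B Y' u = 0) (hY'f : B Y' f = 0) :
    sv (rhoΩ Q u Y * rhoΩ Q f Y' * rhoΩ Q u Y) u =
      (1 - B Y' Y + Q Y' * Q Y) • u + (Q Y' • Y - Y') - Q Y' • f := by
  have huu : B u u = 0 := by rw [B_self, hu, mul_zero]
  have hff : B f f = 0 := by rw [B_self, hf, mul_zero]
  have hfu : B f u = 1 := by rw [B_comm, huf]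
  have huY : B u Y = 0 := by rw [B_comm, hYu]
  have hfY : B f Y = 0 := by rw [B_comm, hYf]
  have huY' : B u Y' = 0 := by rw [B_comm, hY'u]
  have hfY' : B f Y' = 0 := by rw [B_comm, hY'f]
  have s1 : sv (rhoΩ Q u Y) u = u := (rhoΩ_mem_Qg Q hQ hn hu huY).1
  have s2 : sv (rhoΩ Q f Y') u = u - Y' - Q Y' • f := by
    rw [sv_rhoΩ Q hQ hn hf hfY', huY', huf]; module
  rw [sv_mul, sv_mul, s1, s2, sv_rhoΩ Q hQ hn hu huY]
  simp only [B_sub_left, B_smul_left, huY, hfY, huu, hfu, hY'u]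
  module

end

section

open Matrix QuadraticMap Module
open scoped commutatorElement

variable {F : Type*} [Field F] {ι : Type} [Fintype ι] [DecidableEq ι]
variable {Q : QuadraticForm F (ι → F)}

set_option quotPrecheck false in
local notation "B" => QuadraticMap.polar (⇑Q)

variable {hQ : (polarBilin Q).Nondegenerate} [Fintype F] {hn : 5 ≤ Fintype.card ι}
variable {θ : Cfsg.POmega F ⇑Q ≃* Cfsg.POmega F ⇑Q} {u f u' f' : ι → F}
  {φ ψ : (ι → F) → (ι → F)}

/-- `φ` multiplies the form by a constant, up to the field automorphism -/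
theorem phi_form (h : Loc Q hQ hn θ u f u' f') (hφ : IsPhi Q θ u f u' f' φ)
    (hψ : IsPhi Q θ f u f' u' ψ) {σ : F ≃+* F}
    (hσ : ∀ (a : F) (w : ι → F), B w u = 0 → B w f = 0 → φ (a • w) = σ a • φ w) {μ : F}
    (hμ0 : μ ≠ 0) (hμ : ∀ w, B w u = 0 → B w f = 0 → ψ w = μ • φ w) {w : ι → F}
    (hwu : B w u = 0) (hwf : B w f = 0) : Q (φ w) = μ⁻¹ * σ (Q w) := by
  by_cases hw : Q w = 0
  · rw [hw, map_zero, mul_zero]
    by_cases hw0 : w = 0
    · rw [hw0, phi_zero h hφ, Q_zero]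
    · exact (phi_sing h hφ hw0 hw hwu hwf).1.2.1
  have hw0 : w ≠ 0 := by
    rintro rfl
    exact hw (Q_zero Q)
  set w' := (Q w)⁻¹ • w with hw'
  have hw'u : B w' u = 0 := by rw [hw', B_smul_left, hwu, mul_zero]
  have hw'f : B w' f = 0 := by rw [hw', B_smul_left, hwf, mul_zero]
  have hQw' : Q w' = (Q w)⁻¹ := by
    rw [hw', Q_smul]
    field_simp
  have hBw'w : B w' w = 2 := by
    rw [hw', B_smul_left, B_self]
    field_simp
  have hnu : sv (rhoΩ Q u w * rhoΩ Q f w' * rhoΩ Q u w) u = (-(Q w)⁻¹) • f := by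
    rw [sv_triple (hQ := hQ) (hn := hn) h.hu h.hf h.huf hwu hwf hw'u hw'f, hQw', hBw'w, hw',
      inv_mul_cancel₀ hw]
    module
  obtain ⟨a1, a2, a3⟩ := hφ w hwu hwf
  obtain ⟨b1, b2, b3⟩ := hψ w' hw'f hw'u
  have hnN : θ (pr Q (rhoΩ Q u w * rhoΩ Q f w' * rhoΩ Q u w)) =
      pr Q (rhoΩ Q u' (φ w) * rhoΩ Q f' (ψ w') * rhoΩ Q u' (φ w)) := by
    simp only [map_mul, a3, b3]
  obtain ⟨d, hd⟩ := conj_point h (neg_ne_zero.2 (inv_ne_zero hw)) hnu hnN
  rw [sv_triple (hQ := hQ) (hn := hn) h.hu' h.hf' h.huf' a1 a2 b2 b1] at hd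
  set Y := φ w with hY
  set Y' := ψ w' with hY'
  have huu : B u' u' = 0 := by rw [B_self, h.hu', mul_zero]
  have hff : B f' f' = 0 := by rw [B_self, h.hf', mul_zero]
  have hfu : B f' u' = 1 := by rw [B_comm, h.huf']
  have k1 : 1 - B Y' Y + Q Y' * Q Y = 0 := by
    have := congrArg (fun v => B v f') hd
    simp only [B_add_left, B_sub_left, B_smul_left, h.huf', a2, b1, hff] at this
    linear_combination this
  have k2 : -(Q Y') = d := by
    have := congrArg (fun v => B v u') hd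
    simp only [B_add_left, B_sub_left, B_smul_left, huu, a1, b2, hfu] at this
    linear_combination this
  have k3 : Q Y' • Y - Y' = 0 := by
    rw [k1, ← k2] at hd
    have := sub_eq_zero.2 hd
    rw [← this]; module
  have hτ : σ (Q w) ≠ 0 := by
    intro h0
    exact hw ((map_eq_zero σ).1 h0)
  have e1 : Y' = (μ * (σ (Q w))⁻¹) • Y := by
    rw [hY', hμ w' hw'u hw'f, hw', hσ _ w hwu hwf, map_inv₀, smul_smul]
  have hY0 : Y ≠ 0 := fun h0 => hw0 (phi_inj h hφ hwu hwf h0)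
  have e2 : Q Y' = (μ * (σ (Q w))⁻¹) * (μ * (σ (Q w))⁻¹) * Q Y := by rw [e1, Q_smul]
  rw [e2] at k3
  have e3 : Y' = ((μ * (σ (Q w))⁻¹) * 1) • Y := by rw [mul_one]; exact e1
  rw [e3, ← sub_smul] at k3
  have k4 := (smul_eq_zero.1 k3).resolve_right hY0
  have k5 : (μ * (σ (Q w))⁻¹) * (μ * (σ (Q w))⁻¹ * Q Y - 1) = 0 := by linear_combination k4
  have k6 := (mul_eq_zero.1 k5).resolve_left (mul_ne_zero hμ0 (inv_ne_zero hτ))
  have k7 : μ * Q Y = σ (Q w) := by
    have : σ (Q w) * (μ * (σ (Q w))⁻¹ * Q Y - 1) = 0 := by rw [k6, mul_zero]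
    have h8 : σ (Q w) * (μ * (σ (Q w))⁻¹ * Q Y - 1) = μ * Q Y * (σ (Q w) * (σ (Q w))⁻¹) - σ (Q w) := by
      ring
    rw [h8, mul_inv_cancel₀ hτ, mul_one] at this
    linear_combination this
  rw [← k7, ← mul_assoc, inv_mul_cancel₀ hμ0, one_mul]

end

end Cfsg.Agent.Lib.H13.AutPO
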