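import Mathlib
import Cfsg.Agent.Lib.H13.AutPO4
import Cfsg.Agent.S0286
import Cfsg.Agent.S0287
import Cfsg.Agent.S0288

/-!
Automorphisms of `PΩ(Q)`, part 5 (helper13): matrices of semilinear maps, the semilinear similitude attached to an automorphism, transitivity
of `⟨Q_u, Q_f⟩` on singular points, the main theorem `aut_induced`: every automorphism of `PΩ(Q)` (`n ≥ 7`, no triality) is induced by a
semisimilarity; hence `gamma_eq_top`. Also: the minus-type form of dimension `2k+2` has no totally singular `(k+1)`-space.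
-/

set_option autoImplicit false
set_option linter.unusedSectionVars false
set_option linter.unusedVariables false
set_option linter.unusedSimpArgs false
set_option linter.deprecated false

namespace Cfsg.Agent.Lib.H13.AutPO

section

open Matrix QuadraticMap Module
open scoped commutatorElement

variable {F : Type*} [Field F] {ι : Type} [Fintype ι] [DecidableEq ι]

/-- the matrix of a semilinear map -/
def slMat {σ : F ≃+* F} (g : (ι → F) →ₛₗ[(σ : F →+* F)] (ι → F)) : Matrix ι ι F :=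
  Matrix.of fun i j => g (Pi.single j 1) i

theorem slMat_mulVec {σ : F ≃+* F} (g : (ι → F) →ₛₗ[(σ : F →+* F)] (ι → F)) (x : ι → F) :
    slMat g *ᵥ (fun i => σ (x i)) = g x := by
  have hx : x = ∑ j, x j • (Pi.single j (1 : F) : ι → F) := by
    funext i
    simp [Finset.sum_apply, Pi.single_apply]
  have h1 : g x = ∑ j, σ (x j) • g (Pi.single j (1 : F)) := by
    conv_lhs => rw [hx]
    rw [map_sum]
    apply Finset.sum_congr rfl
    intro j _
    rw [map_smulₛₗ]
    rfl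
  rw [h1]
  funext i
  rw [Matrix.mulVec, dotProduct, Finset.sum_apply]
  apply Finset.sum_congr rfl
  intro j _
  rw [Pi.smul_apply, smul_eq_mul, mul_comm]
  rfl

theorem isUnit_slMat {σ : F ≃+* F} (g : (ι → F) →ₛₗ[(σ : F →+* F)] (ι → F))
    (hinj : ∀ x, g x = 0 → x = 0) : IsUnit (slMat g) := by
  rw [← Matrix.mulVec_injective_iff_isUnit]
  intro v v' hvv'
  have h1 : slMat g *ᵥ (v - v') = 0 := by
    rw [Matrix.mulVec_sub]
    exact sub_eq_zero.2 hvv'
  have h2 : v - v' = fun i => σ ((fun j => σ.symm ((v - v') j)) i) := by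
    funext i
    simp
  rw [h2, slMat_mulVec] at h1
  have h3 := hinj _ h1
  have h4 : v - v' = 0 := by
    funext i
    have := congrFun h3 i
    simp only [Pi.zero_apply] at this ⊢
    exact (map_eq_zero σ.symm).1 this
  exact sub_eq_zero.1 h4

theorem map_mulVec_sig (σ : F ≃+* F) (M : Matrix ι ι F) (w : ι → F) :
    M.map σ *ᵥ (fun k => σ (w k)) = fun k => σ ((M *ᵥ w) k) := by
  funext k
  simp [Matrix.mulVec, dotProduct, map_sum, map_mul]

variable (Q : QuadraticForm F (ι → F))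

set_option quotPrecheck false in
local notation "B" => QuadraticMap.polar (⇑Q)

/-- a semilinear similitude conjugates Siegel transformations to Siegel transformations -/
theorem sl_rho {σ : F ≃+* F} (g : (ι → F) →ₛₗ[(σ : F →+* F)] (ι → F)) {c : F} (hc : c ≠ 0)
    (hg : ∀ x, Q (g x) = c * σ (Q x)) (v y x : ι → F) :
    g (rhoM Q v y *ᵥ x) = rhoM Q (c⁻¹ • g v) (g y) *ᵥ (g x) := by
  have hB : ∀ a b, B (g a) (g b) = c * σ (B a b) := by
    intro a b
    unfold QuadraticMap.polar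
    rw [← map_add, hg, hg, hg, map_sub, map_sub]
    ring
  rw [rhoM_mulVec, rhoM_mulVec]
  simp only [map_add, map_sub, map_smulₛₗ, RingHom.coe_coe, B_smul_right, hB, hg, map_mul]
  rw [smul_smul, smul_smul]
  have e1 : c * σ (B x y) * c⁻¹ = σ (B x y) := by field_simp
  have e2 : c * σ (Q y) * (c⁻¹ * (c * σ (B x v))) * c⁻¹ = σ (Q y) * σ (B x v) := by field_simp
  have e3 : c⁻¹ * (c * σ (B x v)) = σ (B x v) := by field_simp
  rw [e1, e2, e3]

/-- matrix form -/
theorem sl_rho_mat {σ : F ≃+* F} (g : (ι → F) →ₛₗ[(σ : F →+* F)] (ι → F)) {c : F} (hc : c ≠ 0)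
    (hg : ∀ x, Q (g x) = c * σ (Q x)) (v y : ι → F) :
    slMat g * (rhoM Q v y).map σ = rhoM Q (c⁻¹ • g v) (g y) * slMat g := by
  rw [Matrix.ext_iff_mulVec]
  intro w
  have hw : w = fun i => σ ((fun j => σ.symm (w j)) i) := by
    funext i
    simp
  rw [hw, ← Matrix.mulVec_mulVec, ← Matrix.mulVec_mulVec, map_mulVec_sig, slMat_mulVec,
    slMat_mulVec, sl_rho Q g hc hg]

end

section

open Matrix QuadraticMap Module
open scoped commutatorElement

variable {F : Type*} [Field F] {ι : Type} [Fintype ι] [DecidableEq ι]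
variable {Q : QuadraticForm F (ι → F)}

set_option quotPrecheck false in
local notation "B" => QuadraticMap.polar (⇑Q)

theorem Q_hyp {u f w : ι → F} (hu : Q u = 0) (hf : Q f = 0) (huf : B u f = 1) (hwu : B w u = 0)
    (hwf : B w f = 0) (a b : F) : Q (a • u + b • f + w) = a * b + Q w := by
  rw [Q_add, Q_add, Q_smul, Q_smul, hu, hf, B_smul_left, B_smul_right, huf, B_add_left,
    B_smul_left, B_smul_left, B_comm Q u w, B_comm Q f w, hwu, hwf]
  ring

variable {hQ : (polarBilin Q).Nondegenerate} [Fintype F] {hn : 5 ≤ Fintype.card ι}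
variable {θ : Cfsg.POmega F ⇑Q ≃* Cfsg.POmega F ⇑Q} {u f u' f' : ι → F}
  {φ ψ : (ι → F) → (ι → F)}

/-- the semilinear similitude attached to the local data -/
theorem exists_semilinear (hn7 : 7 ≤ Fintype.card ι) (hnt : NoTriality Q)
    (h : Loc Q hQ hn θ u f u' f') (hφ : IsPhi Q θ u f u' f' φ) (hψ : IsPhi Q θ f u f' u' ψ) :
    ∃ (σ : F ≃+* F) (g : (ι → F) →ₛₗ[(σ : F →+* F)] (ι → F)) (c : F), c ≠ 0 ∧
      (∀ x, Q (g x) = c * σ (Q x)) ∧ (∀ x, g x = 0 → x = 0) ∧ g u = c • u' ∧ g f = f' ∧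
      (∀ w, B w u = 0 → B w f = 0 → g w = φ w) ∧
      (∀ w, B w u = 0 → B w f = 0 → ψ w = c⁻¹ • φ w) := by
  obtain ⟨σ, hσ⟩ := exists_sigma hn7 h hφ
  obtain ⟨μ, hμ0, hμ⟩ := exists_mu hn7 hnt h hφ hψ
  have hform : ∀ w, B w u = 0 → B w f = 0 → Q (φ w) = μ⁻¹ * σ (Q w) := fun w hwu hwf =>
    phi_form h hφ hψ hσ hμ0 hμ hwu hwf
  have huu : B u u = 0 := by rw [B_self, h.hu, mul_zero]
  have hff : B f f = 0 := by rw [B_self, h.hf, mul_zero]
  have hfu : B f u = 1 := by rw [B_comm, h.huf]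
  have huu' : B u' u' = 0 := by rw [B_self, h.hu', mul_zero]
  have hff' : B f' f' = 0 := by rw [B_self, h.hf', mul_zero]
  have hfu' : B f' u' = 1 := by rw [B_comm, h.huf']
  set w0 : (ι → F) → (ι → F) := fun x => x - B x f • u - B x u • f with hw0
  have hw0u : ∀ x, B (w0 x) u = 0 := by
    intro x
    simp only [hw0, B_sub_left, B_smul_left, huu, hfu]; ring
  have hw0f : ∀ x, B (w0 x) f = 0 := by
    intro x
    simp only [hw0, B_sub_left, B_smul_left, h.huf, hff]; ring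
  have hdec : ∀ x, x = B x f • u + B x u • f + w0 x := by
    intro x
    simp only [hw0]; module
  have hw0add : ∀ x y, w0 (x + y) = w0 x + w0 y := by
    intro x y
    simp only [hw0, B_add_left]; module
  have hw0smul : ∀ (a : F) x, w0 (a • x) = a • w0 x := by
    intro a x
    simp only [hw0, B_smul_left]; module
  let g : (ι → F) →ₛₗ[(σ : F →+* F)] (ι → F) :=
    { toFun := fun x => (μ⁻¹ * σ (B x f)) • u' + σ (B x u) • f' + φ (w0 x)
      map_add' := by
        intro x y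
        simp only [B_add_left, map_add, hw0add]
        rw [phi_add h hφ (hw0u x) (hw0f x) (hw0u y) (hw0f y)]
        module
      map_smul' := by
        intro a x
        simp only [B_smul_left, map_mul, hw0smul, RingHom.coe_coe]
        rw [hσ a (w0 x) (hw0u x) (hw0f x)]
        module }
  have hgdef : ∀ x, g x = (μ⁻¹ * σ (B x f)) • u' + σ (B x u) • f' + φ (w0 x) := fun x => rfl
  have hφw0 : ∀ x, B (φ (w0 x)) u' = 0 ∧ B (φ (w0 x)) f' = 0 := fun x =>
    ⟨(hφ _ (hw0u x) (hw0f x)).1, (hφ _ (hw0u x) (hw0f x)).2.1⟩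
  refine ⟨σ, g, μ⁻¹, inv_ne_zero hμ0, ?_, ?_, ?_, ?_, ?_, ?_⟩
  · intro x
    rw [hgdef, Q_hyp h.hu' h.hf' h.huf' (hφw0 x).1 (hφw0 x).2, hform _ (hw0u x) (hw0f x)]
    conv_rhs => rw [hdec x, Q_hyp h.hu h.hf h.huf (hw0u x) (hw0f x)]
    rw [map_add, map_mul]
    ring
  · intro x hx
    rw [hgdef] at hx
    have h1 : B x f = 0 := by
      have := congrArg (fun v => B v f') hx
      simp only [B_add_left, B_smul_left, h.huf', hff', (hφw0 x).2, B_zero_left] at this
      have h2 : μ⁻¹ * σ (B x f) = 0 := by linear_combination this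
      exact (map_eq_zero σ).1 ((mul_eq_zero.1 h2).resolve_left (inv_ne_zero hμ0))
    have h2 : B x u = 0 := by
      have := congrArg (fun v => B v u') hx
      simp only [B_add_left, B_smul_left, huu', hfu', (hφw0 x).1, B_zero_left] at this
      have h2 : σ (B x u) = 0 := by linear_combination this
      exact (map_eq_zero σ).1 h2
    rw [h1, h2, map_zero, mul_zero, zero_smul, zero_smul, zero_add, zero_add] at hx
    have h3 := phi_inj h hφ (hw0u x) (hw0f x) hx
    rw [hdec x, h1, h2, h3]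
    simp
  · rw [hgdef]
    have : w0 u = 0 := by
      simp only [hw0, h.huf, huu]; module
    rw [this, phi_zero h hφ, h.huf, huu, map_one, map_zero]
    module
  · rw [hgdef]
    have : w0 f = 0 := by
      simp only [hw0, hff, hfu]; module
    rw [this, phi_zero h hφ, hff, hfu, map_one, map_zero]
    module
  · intro w hwu hwf
    rw [hgdef]
    have : w0 w = w := by
      simp only [hw0, hwu, hwf]; module
    rw [this, hwu, hwf, map_zero]
    module
  · intro w hwu hwf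
    rw [inv_inv]
    exact hμ w hwu hwf

end

section

open Matrix QuadraticMap Module
open scoped commutatorElement

variable {F : Type*} [Field F] {ι : Type} [Fintype ι] [DecidableEq ι]
variable (Q : QuadraticForm F (ι → F))

set_option quotPrecheck false in
local notation "B" => QuadraticMap.polar (⇑Q)

variable (hQ : (polarBilin Q).Nondegenerate) (hn : 5 ≤ Fintype.card ι)

include hQ hn

/-- an element centralising `Q_u` and `Q_f` for a hyperbolic pair acts as a scalar -/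
theorem scalar_of_centralizes_pair {u f : ι → F} (hu : Q u = 0) (hf : Q f = 0) (huf : B u f = 1)
    {z : ↥(Cfsg.Omega F ⇑Q)} (hzu : ∀ y, B u y = 0 → z * rhoΩ Q u y = rhoΩ Q u y * z)
    (hzf : ∀ y, B f y = 0 → z * rhoΩ Q f y = rhoΩ Q f y * z) :
    ∃ μ : F, ∀ x, sv z x = μ • x := by
  have hu0 : u ≠ 0 := by
    rintro rfl
    rw [B_zero_left] at huf
    exact zero_ne_one huf
  have hf0 : f ≠ 0 := by
    rintro rfl
    rw [B_zero_right] at huf
    exact zero_ne_one huf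
  have hfu : B f u = 1 := by rw [B_comm, huf]
  obtain ⟨μ, hμμ, hμu, hμ⟩ := centralizer_Qg Q hQ hn hu0 hu (s := z) hzu
  obtain ⟨ν, _, hνf, hν⟩ := centralizer_Qg Q hQ hn hf0 hf (s := z) hzf
  have hw : ∀ w, B w u = 0 → B w f = 0 → sv z w = μ • w ∧ (w ≠ 0 → μ = ν) := by
    intro w hwu hwf
    obtain ⟨c, hc⟩ := hμ w hwu
    obtain ⟨d, hd⟩ := hν w hwf
    have h1 : B (sv z w) f = 0 := by
      rw [hd, B_add_left, B_smul_left, B_smul_left, hwf, B_self, hf]; ring
    have hc0 : c = 0 := by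
      rw [hc, B_add_left, B_smul_left, B_smul_left, hwf, huf] at h1
      linear_combination h1
    have h2 : B (sv z w) u = 0 := by
      rw [hc, B_add_left, B_smul_left, B_smul_left, hwu, B_self, hu]; ring
    have hd0 : d = 0 := by
      rw [hd, B_add_left, B_smul_left, B_smul_left, hwu, hfu] at h2
      linear_combination h2
    rw [hc0, zero_smul, add_zero] at hc
    rw [hd0, zero_smul, add_zero] at hd
    refine ⟨hc, fun hw0 => ?_⟩
    have h3 : (μ - ν) • w = 0 := by rw [sub_smul, ← hc, ← hd, sub_self]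
    have := (smul_eq_zero.1 h3).resolve_right hw0
    linear_combination this
  obtain ⟨w₁, hw₁u, hw₁f, hw₁n⟩ := exists_perp_pair_not_mem Q hQ hn u f
  have hw₁0 : w₁ ≠ 0 := by
    rintro rfl
    exact hw₁n (zero_mem _)
  have hμν : μ = ν := (hw w₁ (by rw [B_comm, hw₁u]) (by rw [B_comm, hw₁f])).2 hw₁0
  refine ⟨μ, fun x => ?_⟩
  obtain ⟨w, hwu, hwf, hx⟩ := hyp_decomp hu hf huf x
  rw [hx, sv_add, sv_add, sv_smul, sv_smul, hμu, hνf, (hw w hwu hwf).1, ← hμν]
  module

omit hQ hn in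
/-- scalars are central -/
theorem mem_center_of_scalar {z : ↥(Cfsg.Omega F ⇑Q)} {μ : F} (h : ∀ x, sv z x = μ • x) :
    z ∈ Subgroup.center ↥(Cfsg.Omega F ⇑Q) := by
  rw [Subgroup.mem_center_iff]
  intro s
  apply ext_sv
  intro x
  rw [sv_mul, sv_mul, h, h, sv_smul]

variable [Fintype F]

/-- if `Γ` contains `Q_v` then it contains `Q_{t v}` for `t ∈ Γ` -/
theorem Qg_le_of_conj {Γ : Subgroup ↥(Cfsg.Omega F ⇑Q)} {v : ι → F} {t : ↥(Cfsg.Omega F ⇑Q)}
    (ht : t ∈ Γ) (hv : Qg Q v ≤ Γ) : Qg Q (sv t v) ≤ Γ := by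
  intro s hs
  have h1 : t⁻¹ * s * t⁻¹⁻¹ ∈ Qg Q (sv t⁻¹ (sv t v)) := conj_mem_Qg hs
  rw [sv_inv_sv, inv_inv] at h1
  have h2 := Γ.mul_mem (Γ.mul_mem ht (hv h1)) (Γ.inv_mem ht)
  have : t * (t⁻¹ * s * t) * t⁻¹ = s := by group
  rwa [this] at h2

/-- first step of transitivity: points not perpendicular to `u` -/
theorem Qg_le_of_not_perp {Γ : Subgroup ↥(Cfsg.Omega F ⇑Q)} {u f : ι → F} (hu : Q u = 0)
    (hf : Q f = 0) (huf : B u f = 1) (hΓu : Qg Q u ≤ Γ) (hΓf : Qg Q f ≤ Γ) {v : ι → F}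
    (hv : Q v = 0) (hvu : B v u ≠ 0) : Qg Q v ≤ Γ := by
  set v₁ := (B v u)⁻¹ • v with hv₁
  have hv₁u : B v₁ u = 1 := by rw [hv₁, B_smul_left, inv_mul_cancel₀ hvu]
  have hQv₁ : Q v₁ = 0 := by rw [hv₁, Q_smul, hv, mul_zero]
  obtain ⟨w, hwu, hwf, hdec⟩ := hyp_decomp hu hf huf v₁
  rw [hv₁u, one_smul] at hdec
  have hQ1 : B v₁ f + Q w = 0 := by
    have := Q_hyp hu hf huf hwu hwf (B v₁ f) 1
    rw [one_smul, ← hdec, hQv₁] at this
    linear_combination -this
  have huw : B u (-w) = 0 := by rw [B_neg_right, B_comm, hwu, neg_zero]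
  have hfu : B f u = 1 := by rw [B_comm, huf]
  have e : sv (rhoΩ Q u (-w)) f = v₁ := by
    rw [sv_rhoΩ Q hQ hn hu huw, B_neg_right, B_comm Q f w, hwf, hfu, Q_neg]
    conv_rhs => rw [hdec]
    have : B v₁ f = -Q w := by linear_combination hQ1
    rw [this]
    module
  have h1 : Qg Q v₁ ≤ Γ := by
    rw [← e]
    exact Qg_le_of_conj Q hQ hn (hΓu (rhoΩ_mem_Qg Q hQ hn hu huw)) hΓf
  have h2 : Qg Q v₁ = Qg Q v := Qg_smul (inv_ne_zero hvu)
  rwa [h2] at h1

/-- a subgroup containing `Q_u` and `Q_f` contains all `Q_v` -/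
theorem Qg_le_of_pair {Γ : Subgroup ↥(Cfsg.Omega F ⇑Q)} {u f : ι → F} (hu : Q u = 0)
    (hf : Q f = 0) (huf : B u f = 1) (hΓu : Qg Q u ≤ Γ) (hΓf : Qg Q f ≤ Γ) {v : ι → F}
    (hv0 : v ≠ 0) (hv : Q v = 0) : Qg Q v ≤ Γ := by
  have hfu : B f u = 1 := by rw [B_comm, huf]
  by_cases hvu : B v u = 0
  swap
  · exact Qg_le_of_not_perp Q hQ hn hu hf huf hΓu hΓf hv hvu
  by_cases hvf : B v f = 0
  swap
  · exact Qg_le_of_not_perp Q hQ hn hf hu hfu hΓf hΓu hv hvf
  obtain ⟨z, hz, hvz, hzu, hzf⟩ := exists_partner_in Q hQ hu hf huf hv0 hv hvu hvf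
  have hfz : B f z = 0 := by rw [B_comm, hzf]
  set t := rhoΩ Q f z with ht
  have htΓ : t ∈ Γ := hΓf (rhoΩ_mem_Qg Q hQ hn hf hfz)
  have e : sv t v = v + f := by
    rw [ht, sv_rhoΩ Q hQ hn hf hfz, hvz, hvf]
    module
  have h1 : Qg Q (sv t v) ≤ Γ := by
    rw [e]
    apply Qg_le_of_not_perp Q hQ hn hu hf huf hΓu hΓf
    · rw [Q_add, hv, hf, hvf]; ring
    · rw [B_add_left, hvu, hfu, zero_add]; exact one_ne_zero
  have h2 := Qg_le_of_conj Q hQ hn (Γ.inv_mem htΓ) h1
  rwa [sv_inv_sv] at h2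

end

section

open Matrix QuadraticMap Module
open scoped commutatorElement

variable {F : Type*} [Field F] {ι : Type} [Fintype ι] [DecidableEq ι]

/-- semilinear conjugation of matrices -/
def cj (G : GL ι F) (σ : F ≃+* F) (A : Matrix ι ι F) : Matrix ι ι F :=
  (G : Matrix ι ι F) * A.map σ * ((G⁻¹ : GL ι F) : Matrix ι ι F)

theorem cj_one (G : GL ι F) (σ : F ≃+* F) : cj G σ 1 = 1 := by
  unfold cj
  rw [Matrix.map_one σ (map_zero σ) (map_one σ), mul_one, Units.mul_inv]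

theorem cj_mul (G : GL ι F) (σ : F ≃+* F) (A A' : Matrix ι ι F) :
    cj G σ (A * A') = cj G σ A * cj G σ A' := by
  unfold cj
  rw [Matrix.map_mul]
  simp only [Matrix.mul_assoc, Units.inv_mul_cancel_left]

variable (Q : QuadraticForm F (ι → F))

set_option quotPrecheck false in
local notation "B" => QuadraticMap.polar (⇑Q)

/-- inverse under semilinear conjugation -/
theorem cj_inv (G : GL ι F) (σ : F ≃+* F) {s s' : ↥(Cfsg.Omega F ⇑Q)}
    (h : mat s' = cj G σ (mat s)) : mat s'⁻¹ = cj G σ (mat s⁻¹) := by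
  have h1 : mat s' * cj G σ (mat s⁻¹) = 1 := by
    rw [h, ← cj_mul, mat_mul_inv, cj_one]
  calc mat s'⁻¹ = mat s'⁻¹ * (mat s' * cj G σ (mat s⁻¹)) := by rw [h1, mul_one]
    _ = (mat s'⁻¹ * mat s') * cj G σ (mat s⁻¹) := by rw [Matrix.mul_assoc]
    _ = cj G σ (mat s⁻¹) := by rw [mat_inv_mul, one_mul]

/-- the elements of `Ω` on which `θ` agrees with the semilinear conjugation -/
def Compat (G : GL ι F) (σ : F ≃+* F) (θ : Cfsg.POmega F ⇑Q ≃* Cfsg.POmega F ⇑Q) :
    Subgroup ↥(Cfsg.Omega F ⇑Q) where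
  carrier := {s | ∃ s' : ↥(Cfsg.Omega F ⇑Q), mat s' = cj G σ (mat s) ∧ θ (pr Q s) = pr Q s'}
  one_mem' := ⟨1, by rw [mat_one, cj_one], by rw [map_one, map_one]⟩
  mul_mem' := by
    rintro s t ⟨s', hs', hs⟩ ⟨t', ht', ht⟩
    exact ⟨s' * t', by rw [mat_mul, mat_mul, cj_mul, hs', ht'], by
      rw [map_mul, map_mul, hs, ht, map_mul]⟩
  inv_mem' := by
    rintro s ⟨s', hs', hs⟩
    exact ⟨s'⁻¹, cj_inv Q G σ hs', by rw [map_inv, map_inv, hs, map_inv]⟩

theorem mem_Compat {G : GL ι F} {σ : F ≃+* F} {θ : Cfsg.POmega F ⇑Q ≃* Cfsg.POmega F ⇑Q}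
    {s : ↥(Cfsg.Omega F ⇑Q)} :
    s ∈ Compat Q G σ θ ↔
      ∃ s' : ↥(Cfsg.Omega F ⇑Q), mat s' = cj G σ (mat s) ∧ θ (pr Q s) = pr Q s' := Iff.rfl

variable (hQ : (polarBilin Q).Nondegenerate) [Fintype F] (hn : 5 ≤ Fintype.card ι)

include hQ hn in
/-- conjugating a Siegel element by a semilinear similitude -/
theorem cj_rho {σ : F ≃+* F} (g : (ι → F) →ₛₗ[(σ : F →+* F)] (ι → F)) {c : F} (hc : c ≠ 0)
    (hg : ∀ x, Q (g x) = c * σ (Q x)) (hinj : ∀ x, g x = 0 → x = 0) {v y : ι → F}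
    (hv : Q v = 0) (hvy : B v y = 0) :
    cj (isUnit_slMat g hinj).unit σ (mat (rhoΩ Q v y)) = rhoM Q (c⁻¹ • g v) (g y) := by
  unfold cj
  rw [mat_rhoΩ Q hQ hn hv hvy, Units.mul_inv_eq_iff_eq_mul]
  exact sl_rho_mat Q g hc hg v y

include hQ hn in
/-- **every automorphism of `PΩ(Q)` is induced by a semisimilarity** (`n ≥ 7`, away from the
triality case) -/
theorem aut_induced (hn7 : 7 ≤ Fintype.card ι) (hnt : NoTriality Q)
    (θ : Cfsg.POmega F ⇑Q ≃* Cfsg.POmega F ⇑Q) :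
    ∃ (g : GL ι F) (σ : F ≃+* F), Cfsg.IsSemisimilarityPair ⇑Q g σ ∧
      Cfsg.IsInducedBySemilinearPOmega ⇑Q g σ θ := by
  obtain ⟨u, hu0, hu⟩ := exists_singular Q hn
  obtain ⟨f, hf, huf⟩ := exists_hyperbolic_pair Q hQ u hu0 hu
  obtain ⟨u', f', h⟩ := exists_loc Q hQ hn hn7 hnt θ hu hf huf
  obtain ⟨φ, hφ⟩ := exists_isPhi Q hQ hn h
  obtain ⟨ψ, hψ⟩ := exists_isPhi Q hQ hn h.swap
  obtain ⟨σ, g, c, hc, hgQ, hginj, hgu, hgf, hgw, hψφ⟩ := exists_semilinear hn7 hnt h hφ hψ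
  set G : GL ι F := (isUnit_slMat g hginj).unit with hG
  have hGval : (G : Matrix ι ι F) = slMat g := rfl
  have hf0 : f ≠ 0 := h.swap.u_ne
  have hfu : B f u = 1 := by rw [B_comm, huf]
  have hB : ∀ a b, B (g a) (g b) = c * σ (B a b) := by
    intro a b
    unfold QuadraticMap.polar
    rw [← map_add, hgQ, hgQ, hgQ, map_sub, map_sub]
    ring
  refine ⟨G, σ, ⟨Units.mk0 c hc, fun v => ?_⟩, ?_⟩
  · rw [hGval, slMat_mulVec, hgQ]
    rfl
  set Γ := Compat Q G σ θ with hΓ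
  -- `Q_u ≤ Γ`
  have hΓu : Qg Q u ≤ Γ := by
    intro s hs
    obtain ⟨y, huy, rfl⟩ := exists_of_mem_Qg Q hQ hn hu0 hu hs
    obtain ⟨w, hwu, hwf, hdec⟩ := hyp_decomp hu hf huf y
    rw [B_comm Q y u, huy, zero_smul, add_zero] at hdec
    have huw : B u w = 0 := by rw [B_comm, hwu]
    have e1 : rhoΩ Q u y = rhoΩ Q u w := by
      rw [hdec, add_comm]
      exact rhoΩ_add_smul Q hQ hn hu huw _
    obtain ⟨a1, a2, a3⟩ := hφ w hwu hwf
    have hu'φ : B u' (φ w) = 0 := by rw [B_comm, a1]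
    rw [e1]
    refine ⟨rhoΩ Q u' (φ w), ?_, a3⟩
    rw [hG, cj_rho Q hQ hn g hc hgQ hginj hu huw, mat_rhoΩ Q hQ hn h.hu' hu'φ, hgu, hgw w hwu hwf,
      smul_smul, inv_mul_cancel₀ hc, one_smul]
  -- `Q_f ≤ Γ`
  have hΓf : Qg Q f ≤ Γ := by
    intro s hs
    obtain ⟨y, hfy, rfl⟩ := exists_of_mem_Qg Q hQ hn hf0 hf hs
    obtain ⟨w, hwf, hwu, hdec⟩ := hyp_decomp hf hu hfu y
    rw [B_comm Q y f, hfy, zero_smul, add_zero] at hdec
    have hfw : B f w = 0 := by rw [B_comm, hwf]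
    have e1 : rhoΩ Q f y = rhoΩ Q f w := by
      rw [hdec, add_comm]
      exact rhoΩ_add_smul Q hQ hn hf hfw _
    obtain ⟨a1, a2, a3⟩ := hψ w hwf hwu
    have hf'ψ : B f' (ψ w) = 0 := by rw [B_comm, a1]
    rw [e1]
    refine ⟨rhoΩ Q f' (ψ w), ?_, a3⟩
    rw [hG, cj_rho Q hQ hn g hc hgQ hginj hf hfw, mat_rhoΩ Q hQ hn h.hf' hf'ψ, hgf, hgw w hwu hwf,
      hψφ w hwu hwf, rhoM_smul_left]
  have hall : ∀ v, v ≠ 0 → Q v = 0 → Qg Q v ≤ Γ := fun v hv0 hv =>
    Qg_le_of_pair Q hQ hn hu hf huf hΓu hΓf hv0 hv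
  -- the final step
  intro s s' hss'
  have hss'' : mat s' = cj G σ (mat s) := hss'
  show θ (pr Q s) = pr Q s'
  obtain ⟨ζ, hζ⟩ := pr_surjective Q (θ.symm ((pr Q s')⁻¹ * θ (pr Q s)))
  -- `ζ` centralises `Q_v` for `v = u, f`
  have key : ∀ v, v ≠ 0 → Q v = 0 → ∀ y, B v y = 0 → ζ * rhoΩ Q v y = rhoΩ Q v y * ζ := by
    intro v hv0 hv y hvy
    set q := rhoΩ Q v y with hq
    have hqQ : q ∈ Qg Q v := rhoΩ_mem_Qg Q hQ hn hv hvy
    obtain ⟨q', hq', hθq⟩ := hall v hv0 hv hqQ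
    have hsv0 : sv s v ≠ 0 := fun h0 => hv0 ((sv_eq_zero_iff s).1 h0)
    obtain ⟨t, ht, hθt⟩ := hall (sv s v) hsv0 (by rw [Q_sv, hv]) (conj_mem_Qg (t := s) hqQ)
    have ht' : t = s' * q' * s'⁻¹ := by
      apply mat_injective
      rw [ht, mat_mul, mat_mul, cj_mul, cj_mul, mat_mul, mat_mul, hss'', hq', cj_inv Q G σ hss'']
    have e1 : θ (pr Q s) * θ (pr Q q) * (θ (pr Q s))⁻¹ = pr Q s' * θ (pr Q q) * (pr Q s')⁻¹ := by
      have : θ (pr Q (s * q * s⁻¹)) = pr Q (s' * q' * s'⁻¹) := by rw [hθt, ht']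
      simpa only [map_mul, map_inv, hθq] using this
    have e2 : (pr Q s')⁻¹ * θ (pr Q s) * θ (pr Q q) = θ (pr Q q) * ((pr Q s')⁻¹ * θ (pr Q s)) := by
      have := congrArg (fun x => (pr Q s')⁻¹ * x * θ (pr Q s)) e1
      simp only [mul_assoc, inv_mul_cancel, mul_one, inv_mul_cancel_left] at this
      rw [mul_assoc, this]
    have hθζ : θ (pr Q ζ) = (pr Q s')⁻¹ * θ (pr Q s) := by rw [hζ, MulEquiv.apply_symm_apply]
    have e3 : pr Q ζ * pr Q q = pr Q q * pr Q ζ := by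
      apply θ.injective
      rw [map_mul, map_mul, hθζ]
      exact e2
    have e4 : pr Q (ζ * q * ζ⁻¹) = pr Q q := by
      rw [map_mul, map_mul, e3, map_inv, mul_inv_cancel_right]
    have hζv0 : sv ζ v ≠ 0 := fun h0 => hv0 ((sv_eq_zero_iff ζ).1 h0)
    have e5 := eq_of_pr_eq_of_mem_Qg hQ hn hζv0 (by rw [Q_sv, hv]) hv0 hv
      (conj_mem_Qg (t := ζ) hqQ) hqQ e4
    calc ζ * q = (ζ * q * ζ⁻¹) * ζ := by group
      _ = q * ζ := by rw [e5]
  obtain ⟨μ, hμ⟩ := scalar_of_centralizes_pair Q hQ hn hu hf huf (key u hu0 hu) (key f hf0 hf)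
  have hcen := mem_center_of_scalar Q hμ
  have h1 : pr Q ζ = 1 := (pr_eq_one_iff Q).2 hcen
  rw [h1] at hζ
  have h2 : (pr Q s')⁻¹ * θ (pr Q s) = 1 := by
    have := congrArg θ hζ
    rw [map_one, MulEquiv.apply_symm_apply] at this
    exact this.symm
  rw [inv_mul_eq_one] at h2
  exact h2.symm

end

section

open Matrix QuadraticMap Module
open scoped commutatorElement

variable {F : Type*} [Field F]

/-- the embedding of the `y`-coordinates -/
def embY (k : ℕ) : (Fin k → F) →ₗ[F] ((Fin k ⊕ Fin k) ⊕ Fin 2 → F) where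
  toFun a := fun idx => match idx with
    | Sum.inl (Sum.inr i) => a i
    | _ => 0
  map_add' a b := by
    funext idx
    rcases idx with (i | i) | j <;> simp
  map_smul' c a := by
    funext idx
    rcases idx with (i | i) | j <;> simp

theorem embY_inj (k : ℕ) : Function.Injective (embY (F := F) k) := by
  intro a b hab
  funext i
  exact congrFun hab (Sum.inl (Sum.inr i))

/-- a totally singular subspace of the minus-type form of dimension `2k+2` has dimension at most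
`k` -/
theorem no_ts_minus [Fintype F] (k : ℕ) (a b : F)
    (hab : ∀ z₁ z₂ : F, z₁ ^ 2 + a * z₁ * z₂ + b * z₂ ^ 2 = 0 → z₁ = 0 ∧ z₂ = 0)
    (U : Submodule F ((Fin k ⊕ Fin k) ⊕ Fin 2 → F))
    (hU : ∀ x ∈ U, Cfsg.Agent.Lib.H13.minusQF F k a b x = 0) : finrank F ↥U ≤ k := by
  set Q := Cfsg.Agent.Lib.H13.minusQF F k a b with hQdef
  have hQ : (polarBilin Q).Nondegenerate := Cfsg.Agent.S0288.nondeg a b hab k
  have hcard : Fintype.card ((Fin k ⊕ Fin k) ⊕ Fin 2) = 2 * k + 2 := by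
    simp; ring
  have hUle : U ≤ perp Q U := by
    intro x hx
    rw [mem_perp]
    intro w hw
    unfold QuadraticMap.polar
    rw [hU _ (U.add_mem hw hx), hU w hw, hU x hx]
    ring
  have h1 := Submodule.finrank_mono hUle
  rw [finrank_perp hQ, hcard] at h1
  by_contra hcon
  push Not at hcon
  have hfin : finrank F ↥U = k + 1 := by omega
  have hperpU : perp Q U = U := by
    symm
    apply Submodule.eq_of_le_of_finrank_eq hUle
    rw [finrank_perp hQ, hcard, hfin]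
    omega
  set E := LinearMap.range (embY (F := F) k) with hE
  have hEfin : finrank F ↥E = k := by
    rw [hE, LinearMap.finrank_range_of_inj (embY_inj k), Module.finrank_fintype_fun_eq_card,
      Fintype.card_fin]
  have hBform : ∀ (c : Fin k → F) (v : (Fin k ⊕ Fin k) ⊕ Fin 2 → F),
      QuadraticMap.polar (⇑Q) (embY k c) v = ∑ i, v (.inl (.inl i)) * c i := by
    intro c v
    rw [hQdef, Cfsg.Agent.S0288.coe_minusQF, Cfsg.Agent.Lib.H13.polar_quadFormMinus_formula]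
    simp [embY]
  have key1 : U ⊓ perp Q E ≤ U ⊓ E := by
    intro v hv
    obtain ⟨hvU, hvE⟩ := Submodule.mem_inf.1 hv
    refine Submodule.mem_inf.2 ⟨hvU, ?_⟩
    have hx : ∀ i, v (.inl (.inl i)) = 0 := by
      intro i
      have h2 := mem_perp.1 hvE (embY k (Pi.single i 1)) ⟨_, rfl⟩
      rw [hBform] at h2
      simpa [Pi.single_apply] using h2
    have hQv := hU v hvU
    rw [hQdef, Cfsg.Agent.S0288.coe_minusQF, Cfsg.quadFormMinus] at hQv
    have hsum : ∑ i : Fin k, v (.inl (.inl i)) * v (.inl (.inr i)) = 0 := by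
      apply Finset.sum_eq_zero
      intro i _
      rw [hx i, zero_mul]
    rw [hsum, zero_add] at hQv
    obtain ⟨hz0, hz1⟩ := hab _ _ hQv
    refine ⟨fun i => v (.inl (.inr i)), ?_⟩
    funext idx
    rcases idx with (i | i) | j
    · simp [embY, hx i]
    · simp [embY]
    · fin_cases j
      · simpa [embY] using hz0.symm
      · simpa [embY] using hz1.symm
  have h2 := Submodule.finrank_mono key1
  have h3 : perp Q (U ⊔ E) = U ⊓ perp Q E := by rw [perp_sup, hperpU]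
  have h4 := finrank_perp hQ (U ⊔ E)
  rw [h3, hcard] at h4
  have h5 := Submodule.finrank_sup_add_finrank_inf_eq U E
  rw [hfin, hEfin] at h5
  omega

end

section

open Matrix QuadraticMap Module
open scoped commutatorElement

theorem two_ne_zero_of_odd {F : Type*} [Field F] [Fintype F] (hq : Odd (Fintype.card F)) :
    (2 : F) ≠ 0 := by
  intro h
  have hchar : ringChar F = 2 := by
    have hdvd : ringChar F ∣ 2 := by
      have := (ringChar.spec F 2).mp (by exact_mod_cast h)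
      exact this
    rcases (Nat.dvd_prime Nat.prime_two).mp hdvd with h1 | h1
    · exfalso
      have := CharP.ringChar_ne_one (R := F)
      exact this h1
    · exact h1
  have := FiniteField.even_card_of_char_two hchar
  rcases hq with ⟨k, hk⟩
  omega

variable {F : Type*} [Field F] {ι : Type} [Fintype ι] [DecidableEq ι]
variable (Q : QuadraticForm F (ι → F))

/-- in dimension at most `7` there is no totally singular `4`-space -/
theorem noTriality_of_card_le (hQ : (polarBilin Q).Nondegenerate) (h7 : Fintype.card ι ≤ 7) :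
    NoTriality Q := by
  right
  intro U hU
  have hUle : U ≤ perp Q U := by
    intro x hx
    rw [mem_perp]
    intro w hw
    unfold QuadraticMap.polar
    rw [hU _ (U.add_mem hw hx), hU w hw, hU x hx]
    ring
  have h1 := Submodule.finrank_mono hUle
  rw [finrank_perp hQ] at h1
  omega

/-- `Aut(PΩ(Q))` is the image of the semisimilarity group -/
theorem gamma_eq_top [Fintype F] (hQ : (polarBilin Q).Nondegenerate) (hn7 : 7 ≤ Fintype.card ι)
    (hnt : NoTriality Q) : Cfsg.gammaPOmega F ⇑Q = ⊤ := by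
  rw [eq_top_iff]
  intro θ _
  apply Subgroup.subset_closure
  exact aut_induced Q hQ (by omega) hn7 hnt θ

end

end Cfsg.Agent.Lib.H13.AutPO
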