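import Mathlib
import Cfsg.Agent.Lib.H13.AutPO5
import Cfsg.Agent.Lib.H11.ConfOrth21
import Cfsg.Agent.Lib.H11.OmegaGen
import Cfsg.Agent.Lib.H13.AutPSLStruct

/-!
Automorphisms of `PΩ(Q)`, part 6 (helper13): the structure of `Aut(PΩ(Q))` in odd dimension `n ≥ 7`, odd characteristic. The homomorphism
`psiO : Aut(PΩ(Q)) → Aut(F)` (defined whenever `gammaPOmega = ⊤`), with kernel the image `PGO(Q)` of the similarity group; in odd dimension
similarities are scalar multiples of isometries (`sim_eq_scalar_mul`), `|PGO(Q)| = 2 |PΩ(Q)|` (`card_Phi_range`), hence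
`|Aut| = 2 f |PΩ|` (`card_aut_odd`) and `Out ≅ Z_2 × Z_f` (`out_odd`).
-/

set_option autoImplicit false
set_option linter.unusedSectionVars false
set_option linter.unusedVariables false
set_option linter.unusedSimpArgs false
set_option linter.deprecated false

namespace Cfsg.Agent.Lib.H13.AutPO

section

open Matrix QuadraticMap Module
open Cfsg.Agent.Lib.H11.ConfOrth

variable {F : Type*} [Field F] [Fintype F] {ι : Type} [Fintype ι] [DecidableEq ι]
variable (Q : QuadraticForm F (ι → F))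

variable (hQ : (polarBilin Q).Nondegenerate) (h2 : (2 : F) ≠ 0) (hcard : 7 ≤ Fintype.card ι)
variable (hall : Cfsg.gammaPOmega F ⇑Q = ⊤)

include hall in
/-- every automorphism has the form `semiAut g σ` -/
theorem exists_formO (β : MulAut (Cfsg.POmega F ⇑Q)) :
    ∃ (g : GL ι F) (σ : F ≃+* F) (hp : Cfsg.IsSemisimilarityPair ⇑Q g σ),
      β = semiAut ⇑Q g σ hp := by
  have : β ∈ Cfsg.gammaPOmega F ⇑Q := by rw [hall]; exact Subgroup.mem_top _
  exact (mem_gamma_iff ⇑Q β).1 this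

include hQ h2 hcard hall in
/-- the field automorphism of `semiAut g σ` is unique -/
theorem uniq_sigmaO {g g' : GL ι F} {σ σ' : F ≃+* F} (hp : Cfsg.IsSemisimilarityPair ⇑Q g σ)
    (hp' : Cfsg.IsSemisimilarityPair ⇑Q g' σ')
    (h : semiAut ⇑Q g σ hp = semiAut ⇑Q g' σ' hp') : σ = σ' := by
  obtain ⟨k, τ, hk, hinv⟩ := exists_formO Q hall (semiAut ⇑Q g σ hp)⁻¹
  have e1 : semiAut ⇑Q k τ hk * semiAut ⇑Q g σ hp = 1 := by rw [← hinv]; group
  have e2 : semiAut ⇑Q k τ hk * semiAut ⇑Q g' σ' hp' = 1 := by rw [← h]; exact e1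
  rw [semiAut_mul] at e1 e2
  have s1 := (semi_ker Q hQ h2 hcard _ _ _ e1).1
  have s2 := (semi_ker Q hQ h2 hcard _ _ _ e2).1
  ext x
  have t1 := RingEquiv.congr_fun s1 x
  have t2 := RingEquiv.congr_fun s2 x
  simp only [RingEquiv.trans_apply, RingEquiv.refl_apply] at t1 t2
  exact τ.injective (t1.trans t2.symm)

/-- the field automorphism component -/
noncomputable def psiOFun (β : MulAut (Cfsg.POmega F ⇑Q)) : F ≃+* F :=
  (exists_formO Q hall β).choose_spec.choose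

include hQ h2 hcard in
theorem psiOFun_eq {β : MulAut (Cfsg.POmega F ⇑Q)} {g : GL ι F} {σ : F ≃+* F}
    (hp : Cfsg.IsSemisimilarityPair ⇑Q g σ) (h : β = semiAut ⇑Q g σ hp) :
    psiOFun Q hall β = σ := by
  obtain ⟨hp', h1⟩ := (exists_formO Q hall β).choose_spec.choose_spec
  unfold psiOFun
  exact uniq_sigmaO Q hQ h2 hcard hall hp' hp (h1.symm.trans h)

/-- the homomorphism `Aut(PΩ(Q)) → Aut(F)` -/
noncomputable def psiO : MulAut (Cfsg.POmega F ⇑Q) →* (F ≃+* F) where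
  toFun := psiOFun Q hall
  map_one' := by
    have h1 : (1 : MulAut (Cfsg.POmega F ⇑Q)) =
        semiAut ⇑Q (1 : ↥(Sim ⇑Q)).1 (RingEquiv.refl F) (pair_refl_of_sim ⇑Q 1) := by
      rw [semiAut_refl, map_one]
    rw [psiOFun_eq Q hQ h2 hcard hall _ h1]
    rfl
  map_mul' β β' := by
    obtain ⟨g, σ, hp, h⟩ := exists_formO Q hall β
    obtain ⟨g', σ', hp', h'⟩ := exists_formO Q hall β'
    rw [psiOFun_eq Q hQ h2 hcard hall hp h, psiOFun_eq Q hQ h2 hcard hall hp' h']
    have h3 : β * β' = semiAut ⇑Q (g * glmap σ g') (σ'.trans σ) (pair_mul ⇑Q hp hp') := by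
      rw [h, h', semiAut_mul]
    rw [psiOFun_eq Q hQ h2 hcard hall _ h3]
    rfl

theorem psiO_apply {g : GL ι F} {σ : F ≃+* F} (hp : Cfsg.IsSemisimilarityPair ⇑Q g σ) :
    psiO Q hQ h2 hcard hall (semiAut ⇑Q g σ hp) = σ :=
  psiOFun_eq Q hQ h2 hcard hall hp rfl

theorem psiO_ker : (psiO Q hQ h2 hcard hall).ker = (Phi ⇑Q).range := by
  ext β
  rw [MonoidHom.mem_ker, MonoidHom.mem_range]
  constructor
  · intro h
    obtain ⟨g, σ, hp, hβ⟩ := exists_formO Q hall β
    rw [hβ, psiO_apply] at h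
    subst h
    refine ⟨⟨g, sim_of_pair_refl ⇑Q hp⟩, ?_⟩
    rw [hβ, ← semiAut_refl]
    rfl
  · rintro ⟨g, rfl⟩
    rw [← semiAut_refl, psiO_apply]
    rfl

theorem psiO_surjective (hstd : ∀ σ : F ≃+* F, Cfsg.IsSemisimilarityPair ⇑Q 1 σ) :
    Function.Surjective (psiO Q hQ h2 hcard hall) := by
  intro σ
  exact ⟨semiAut ⇑Q 1 σ (hstd σ), psiO_apply Q hQ h2 hcard hall _⟩

include hQ h2 hcard hall in
/-- the order of the automorphism group -/
theorem card_aut_eq (hstd : ∀ σ : F ≃+* F, Cfsg.IsSemisimilarityPair ⇑Q 1 σ) {p f : ℕ}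
    [Fact p.Prime] [CharP F p] (hF : Fintype.card F = p ^ f) :
    Nat.card (MulAut (Cfsg.POmega F ⇑Q)) = f * Nat.card ↥(Phi ⇑Q).range := by
  rw [AutPSL.card_of_surjective_ker _ (psiO_surjective Q hQ h2 hcard hall hstd), psiO_ker,
    AutPSL.card_ringAut p hF]

end

section

open Matrix QuadraticMap Module
open Cfsg.Agent.Lib.H11.ConfOrth

variable {F : Type*} [Field F] [Fintype F] {ι : Type} [Fintype ι] [DecidableEq ι]
variable (Q : QuadraticForm F (ι → F))

variable (hQ : (polarBilin Q).Nondegenerate) (h2 : (2 : F) ≠ 0) (hcard : 7 ≤ Fintype.card ι)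

omit [Fintype F] in
include hQ hcard in
theorem exists_neO : ∃ v, Q v ≠ 0 := by
  by_contra hcon
  push Not at hcon
  have hne : Nonempty ι := by
    rw [← Fintype.card_pos_iff]; omega
  obtain ⟨i⟩ := hne
  have h1 : ∀ y, polarBilin Q (Pi.single i 1) y = 0 := by
    intro y
    rw [polarBilin_apply_apply]
    unfold QuadraticMap.polar
    rw [hcon, hcon, hcon]; ring
  have h3 := hQ.1 _ h1
  have := congrFun h3 i
  simp at this

variable (hodd : Odd (Fintype.card ι))

omit [Fintype F] in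
include hQ hcard hodd in
/-- in odd dimension every similarity is a scalar times an isometry -/
theorem sim_eq_scalar_mul (g : ↥(Sim ⇑Q)) :
    ∃ c : Fˣ, ∃ s ∈ Cfsg.isometryGroup F ⇑Q, g.1 = Matrix.GeneralLinearGroup.scalar ι c * s := by
  have hne := exists_neO Q hQ hcard
  obtain ⟨m, hm⟩ := hodd
  have hd := det_sq Q hQ hne g
  set τ : Fˣ := mult (⇑Q) hne g with hτ
  have hdet : IsUnit g.1.1.det := by
    have := g.1.isUnit
    exact (Matrix.isUnit_iff_isUnit_det _).1 (by exact Units.isUnit g.1)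
  obtain ⟨d, hdd⟩ := hdet
  set c : Fˣ := d * (τ ^ m)⁻¹ with hc
  have hc2 : c ^ 2 = τ := by
    have h1 : d ^ 2 = τ ^ (2 * m + 1) := by
      apply Units.ext
      rw [Units.val_pow_eq_pow_val, Units.val_pow_eq_pow_val, hdd, hd, hm]
    rw [hc, mul_pow, h1, inv_pow, ← pow_mul, mul_comm m 2, pow_succ, mul_assoc, mul_comm τ,
      ← mul_assoc, mul_inv_cancel, one_mul]
  refine ⟨c, (Matrix.GeneralLinearGroup.scalar ι c)⁻¹ * g.1, ?_, by rw [mul_inv_cancel_left]⟩
  rw [mem_iso_iff]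
  intro x
  have h3 : ((Matrix.GeneralLinearGroup.scalar ι c)⁻¹ * g.1).1 *ᵥ x =
      ((c⁻¹ : Fˣ) : F) • (g.1.1 *ᵥ x) := by
    rw [Units.val_mul, ← Matrix.mulVec_mulVec, ← map_inv, scalar_mulVec]
  rw [h3, hhom, mult_spec (⇑Q) hne g, ← hτ, ← hc2]
  rw [Units.val_pow_eq_pow_val, ← mul_assoc, ← mul_pow, ← Units.val_mul, inv_mul_cancel,
    Units.val_one, one_pow, one_mul]

end

section

open Matrix QuadraticMap Module
open Cfsg.Agent.Lib.H11.ConfOrth

variable {F : Type*} [Field F] [Fintype F] {ι : Type} [Fintype ι] [DecidableEq ι]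
variable (Q : QuadraticForm F (ι → F))

/-- `Phi` restricted to the isometry group -/
noncomputable def PhiO : ↥(Cfsg.isometryGroup F ⇑Q) →* MulAut (Cfsg.POmega F ⇑Q) :=
  (Phi ⇑Q).comp (Subgroup.inclusion (iso_le_sim ⇑Q))

variable (hQ : (polarBilin Q).Nondegenerate) (h2 : (2 : F) ≠ 0) (hcard : 7 ≤ Fintype.card ι)
variable (hodd : Odd (Fintype.card ι))

include hQ h2 hcard hodd in
theorem PhiO_range : (PhiO Q).range = (Phi ⇑Q).range := by
  apply le_antisymm
  · rintro _ ⟨s, rfl⟩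
    exact ⟨_, rfl⟩
  · rintro _ ⟨g, rfl⟩
    obtain ⟨c, s, hs, hg⟩ := sim_eq_scalar_mul Q hQ hcard hodd g
    have hcS : Matrix.GeneralLinearGroup.scalar ι c ∈ Sim ⇑Q :=
      Zs_le_sim' Q ((mem_Zs_iff _).2 ⟨c, rfl⟩)
    have hg' : g = ⟨Matrix.GeneralLinearGroup.scalar ι c, hcS⟩ *
        Subgroup.inclusion (iso_le_sim ⇑Q) ⟨s, hs⟩ := Subtype.ext hg
    have hk : (⟨Matrix.GeneralLinearGroup.scalar ι c, hcS⟩ : ↥(Sim ⇑Q)) ∈ (Phi ⇑Q).ker := by
      rw [ker_Phi_gen Q hQ h2 hcard, Subgroup.mem_subgroupOf, mem_Zs_iff]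
      exact ⟨c, rfl⟩
    refine ⟨⟨s, hs⟩, ?_⟩
    rw [hg', map_mul, MonoidHom.mem_ker.1 hk, one_mul]
    rfl

/-- `-1` as an isometry -/
def negOneO : ↥(Cfsg.isometryGroup F ⇑Q) :=
  ⟨Matrix.GeneralLinearGroup.scalar ι (-1), by
    rw [mem_iso_iff]
    intro x
    rw [scalar_mulVec, hhom]
    simp⟩

include hQ h2 hcard in
theorem mem_PhiO_ker (z : ↥(Cfsg.isometryGroup F ⇑Q)) :
    z ∈ (PhiO Q).ker ↔ z = 1 ∨ z = negOneO Q := by
  have hne := exists_neO Q hQ hcard
  rw [MonoidHom.mem_ker]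
  unfold PhiO
  rw [MonoidHom.comp_apply, ← MonoidHom.mem_ker, ker_Phi_gen Q hQ h2 hcard,
    Subgroup.mem_subgroupOf, mem_Zs_iff]
  constructor
  · rintro ⟨c, hc⟩
    have hc' : z.1 = Matrix.GeneralLinearGroup.scalar ι c := hc
    obtain ⟨v, hv⟩ := hne
    have h1 := (Cfsg.Agent.Lib.H11.ConfOrth.mem_iso_iff ⇑Q z.1).1 z.2 v
    rw [hc', scalar_mulVec, hhom] at h1
    have h3 : (c : F) ^ 2 = 1 := by
      have : ((c : F) ^ 2 - 1) * Q v = 0 := by linear_combination h1
      rcases mul_eq_zero.1 this with h | h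
      · linear_combination h
      · exact absurd h hv
    have h4 : ((c : F) - 1) * ((c : F) + 1) = 0 := by linear_combination h3
    rcases mul_eq_zero.1 h4 with h | h
    · left
      apply Subtype.ext
      rw [hc']
      have : c = 1 := Units.ext (by rw [Units.val_one]; linear_combination h)
      rw [this, map_one]; rfl
    · right
      apply Subtype.ext
      rw [hc']
      have : c = -1 := Units.ext (by rw [Units.val_neg, Units.val_one]; linear_combination h)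
      rw [this]; rfl
  · rintro (rfl | rfl)
    · exact ⟨1, by rw [map_one]; rfl⟩
    · exact ⟨-1, rfl⟩

omit [Fintype F] in
include h2 hcard in
theorem negOneO_ne : (1 : ↥(Cfsg.isometryGroup F ⇑Q)) ≠ negOneO Q := by
  intro h
  have hne : Nonempty ι := by
    rw [← Fintype.card_pos_iff]; omega
  obtain ⟨i⟩ := hne
  have h1 : ((1 : ↥(Cfsg.isometryGroup F ⇑Q)).1.1) *ᵥ (Pi.single i (1:F)) =
      ((negOneO Q).1.1) *ᵥ (Pi.single i (1:F)) := by rw [← h]
  have h3 : ((negOneO Q).1.1) *ᵥ (Pi.single i (1:F)) = ((-1 : Fˣ) : F) • Pi.single i (1:F) :=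
    scalar_mulVec _ _
  rw [h3] at h1
  have h4 := congrFun h1 i
  simp at h4
  apply h2
  linear_combination h4

include hQ h2 hcard in
theorem card_PhiO_ker : Nat.card ↥(PhiO Q).ker = 2 := by
  rw [Nat.card_eq_two_iff]
  refine ⟨⟨1, one_mem _⟩, ⟨negOneO Q, (mem_PhiO_ker Q hQ h2 hcard _).2 (Or.inr rfl)⟩, ?_, ?_⟩
  · intro h
    exact negOneO_ne Q h2 hcard (congrArg Subtype.val h)
  · ext z
    simp only [Set.mem_insert_iff, Set.mem_singleton_iff, Set.mem_univ, iff_true]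
    rcases (mem_PhiO_ker Q hQ h2 hcard z.1).1 z.2 with h | h
    · left; exact Subtype.ext h
    · right; exact Subtype.ext h

include hQ h2 hcard hodd in
theorem card_Phi_range : Nat.card ↥(Phi ⇑Q).range = 2 * Nat.card (Cfsg.POmega F ⇑Q) := by
  have h1 := AutPSL.card_of_surjective_ker (PhiO Q).rangeRestrict (PhiO Q).rangeRestrict_surjective
  rw [MonoidHom.ker_rangeRestrict, card_PhiO_ker Q hQ h2 hcard, PhiO_range Q hQ h2 hcard hodd] at h1
  have h3 := Cfsg.Agent.Lib.H11.OmegaGen.index_omega Q hQ h2 (by omega)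
  have h4 := Subgroup.card_mul_index (Cfsg.Omega F ⇑Q)
  rw [h3] at h4
  have h5 := Subgroup.card_eq_card_quotient_mul_card_subgroup (Subgroup.center ↥(Cfsg.Omega F ⇑Q))
  have hc : Nat.card ↥(Subgroup.center ↥(Cfsg.Omega F ⇑Q)) = 1 := by
    rw [Cfsg.Agent.Lib.H11.OmegaGen.center_omega_eq_bot_of_odd Q hQ h2 hcard hodd, Subgroup.card_bot]
  rw [hc, mul_one] at h5
  have h6 : Nat.card (Cfsg.POmega F ⇑Q) = Nat.card ↥(Cfsg.Omega F ⇑Q) := h5.symm
  rw [h6]
  omega

end

section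

open Matrix QuadraticMap Module
open Cfsg.Agent.Lib.H11.ConfOrth

variable {F : Type*} [Field F] [Fintype F]

omit [Fintype F] in
theorem hstd_odd (m : ℕ) (σ : F ≃+* F) :
    Cfsg.IsSemisimilarityPair (Cfsg.quadFormOdd m F) 1 σ := by
  refine ⟨1, fun v => ?_⟩
  rw [Units.val_one, Matrix.one_mulVec, Units.val_one, one_mul]
  unfold Cfsg.quadFormOdd
  simp only [map_add, map_pow, map_sum, map_mul]

theorem charP_of_card {p f : ℕ} [Fact p.Prime] (hF : Fintype.card F = p ^ f) : CharP F p := by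
  obtain ⟨r, hr⟩ := CharP.exists F
  haveI := hr
  have hrp : r.Prime := CharP.char_is_prime F r
  have h1 : r ∣ Fintype.card F := by
    have : ((Fintype.card F : ℕ) : F) = 0 := Nat.cast_card_eq_zero F
    exact (CharP.cast_eq_zero_iff F r _).1 this
  rw [hF] at h1
  have h3 := (Nat.prime_dvd_prime_iff_eq hrp (Fact.out : p.Prime)).1 (hrp.dvd_of_dvd_pow h1)
  rw [← h3]; exact hr

theorem card_aut_odd (p f : ℕ) [Fact p.Prime] (hF : Fintype.card F = p ^ f) (hodd : Odd p)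
    (m : ℕ) (hm : 3 ≤ m) :
    Nat.card (MulAut (Cfsg.POmega F (Cfsg.quadFormOdd m F))) =
      2 * f * Nat.card (Cfsg.POmega F (Cfsg.quadFormOdd m F)) := by
  haveI := charP_of_card hF
  have hoddF : Odd (Fintype.card F) := by rw [hF]; exact hodd.pow
  have h2 := two_ne_zero_of_odd hoddF
  have hQ := Cfsg.Agent.S0286.nondeg (F := F) h2 m
  have hcard : Fintype.card (Unit ⊕ (Fin m ⊕ Fin m)) = 2 * m + 1 := by
    simp; ring
  have hc7 : 7 ≤ Fintype.card (Unit ⊕ (Fin m ⊕ Fin m)) := by rw [hcard]; omega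
  have hoddn : Odd (Fintype.card (Unit ⊕ (Fin m ⊕ Fin m))) := by rw [hcard]; exact ⟨m, rfl⟩
  have hall : Cfsg.gammaPOmega F ⇑(Cfsg.Agent.S0286.oddQF F m) = ⊤ := by
    apply gamma_eq_top _ hQ hc7
    by_cases h4 : 4 ≤ m
    · left
      show 9 ≤ Fintype.card (Unit ⊕ (Fin m ⊕ Fin m))
      rw [hcard]; omega
    · apply noTriality_of_card_le _ hQ
      show Fintype.card (Unit ⊕ (Fin m ⊕ Fin m)) ≤ 7
      rw [hcard]; omega
  have hstd : ∀ σ : F ≃+* F, Cfsg.IsSemisimilarityPair ⇑(Cfsg.Agent.S0286.oddQF F m) 1 σ := by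
    intro σ
    rw [Cfsg.Agent.S0286.coe_oddQF]
    exact hstd_odd m σ
  have h1 := card_aut_eq (Cfsg.Agent.S0286.oddQF F m) hQ h2 hc7 hall hstd hF
  rw [card_Phi_range _ hQ h2 hc7 hoddn] at h1
  rw [Cfsg.Agent.S0286.coe_oddQF] at h1
  rw [h1]; ring

end

section

open Matrix QuadraticMap Module
open Cfsg.Agent.Lib.H11.ConfOrth

section generic

/-- a normal subgroup of order two is central -/
theorem le_center_of_card_two {G : Type*} [Group G] (K : Subgroup G) [K.Normal]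
    (hK : Nat.card ↥K = 2) : K ≤ Subgroup.center G := by
  intro k hk
  rw [Subgroup.mem_center_iff]
  intro g
  by_cases h1 : k = 1
  · rw [h1, mul_one, one_mul]
  obtain ⟨x, y, hxy, huniv⟩ := Nat.card_eq_two_iff.1 hK
  have hmem : ∀ z : ↥K, z = 1 ∨ z = ⟨k, hk⟩ := by
    intro z
    by_contra hcon
    push Not at hcon
    have hk1 : (⟨k, hk⟩ : ↥K) ≠ 1 := fun h => h1 (congrArg Subtype.val h)
    have e : ∀ w : ↥K, w = x ∨ w = y := by
      intro w
      have : w ∈ ({x, y} : Set ↥K) := by rw [huniv]; exact Set.mem_univ _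
      simpa using this
    rcases e z with hz | hz <;> rcases e 1 with ho | ho <;> rcases e ⟨k, hk⟩ with hkk | hkk
    all_goals first
      | exact hcon.1 (hz.trans ho.symm)
      | exact hcon.2 (hz.trans hkk.symm)
      | exact hk1 (hkk.trans ho.symm)
  have hc : g * k * g⁻¹ ∈ K := Subgroup.Normal.conj_mem inferInstance k hk g
  rcases hmem ⟨_, hc⟩ with h | h
  · exfalso
    have h3 : g * k * g⁻¹ = 1 := congrArg Subtype.val h
    apply h1
    have : k = g⁻¹ * (g * k * g⁻¹) * g := by group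
    rw [this, h3]; group
  · have h3 : g * k * g⁻¹ = k := congrArg Subtype.val h
    calc g * k = g * k * g⁻¹ * g := by group
      _ = k * g := by rw [h3]

/-- a split surjection with central kernel gives a direct product decomposition -/
theorem nonempty_mulEquiv_prod_of_split {G H : Type*} [Group G] [Group H] (Ψ : G →* H)
    (s : H →* G) (hs : ∀ h, Ψ (s h) = h) (hK : Ψ.ker ≤ Subgroup.center G) :
    Nonempty (↥Ψ.ker × H ≃* G) := by
  let φ : ↥Ψ.ker × H →* G :=
    { toFun := fun x => x.1.1 * s x.2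
      map_one' := by simp
      map_mul' := by
        rintro ⟨k, h⟩ ⟨k', h'⟩
        have hc := Subgroup.mem_center_iff.1 (hK k'.2)
        show (k * k').1 * s (h * h') = k.1 * s h * (k'.1 * s h')
        rw [Subgroup.coe_mul, map_mul, mul_assoc, mul_assoc, ← mul_assoc k'.1, ← hc (s h)]
        rw [mul_assoc] }
  refine ⟨MulEquiv.ofBijective φ ⟨?_, ?_⟩⟩
  · rw [injective_iff_map_eq_one]
    rintro ⟨k, h⟩ hkh
    have h1 : k.1 * s h = 1 := hkh
    have h3 := congrArg Ψ h1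
    rw [map_mul, MonoidHom.mem_ker.1 k.2, one_mul, hs, map_one] at h3
    rw [h3, map_one, mul_one] at h1
    rw [h3]
    have : k = 1 := Subtype.ext h1
    rw [this]; rfl
  · intro x
    refine ⟨⟨⟨x * (s (Ψ x))⁻¹, ?_⟩, Ψ x⟩, ?_⟩
    · rw [MonoidHom.mem_ker, map_mul, map_inv, hs, mul_inv_cancel]
    · show x * (s (Ψ x))⁻¹ * s (Ψ x) = x
      rw [inv_mul_cancel_right]

/-- conjugation is injective when the centre is trivial -/
theorem card_inn_eq {G : Type*} [Group G] (hZ : Subgroup.center G = ⊥) :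
    Nat.card ↥(Cfsg.Inn G) = Nat.card G := by
  have hinj : Function.Injective (MulAut.conj : G →* MulAut G) := by
    rw [← MonoidHom.ker_eq_bot_iff, eq_bot_iff]
    intro g hg
    rw [← hZ, Subgroup.mem_center_iff]
    intro x
    have := congrArg (fun β : MulAut G => β x) (MonoidHom.mem_ker.1 hg)
    simp only [MulAut.conj_apply, MulAut.one_apply] at this
    calc x * g = g * x * g⁻¹ * g := by rw [this]
      _ = g * x := by group
  exact (Nat.card_congr (MonoidHom.ofInjective hinj).toEquiv).symm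

/-- the centre of `G/Z(G)` is trivial when `Z(G)` is trivial -/
theorem center_quot_eq_bot {G : Type*} [Group G] (hZ : Subgroup.center G = ⊥) :
    Subgroup.center (G ⧸ Subgroup.center G) = ⊥ := by
  rw [eq_bot_iff]
  intro z hz
  induction z using QuotientGroup.induction_on with
  | H s =>
    rw [Subgroup.mem_center_iff] at hz
    have h1 : s ∈ Subgroup.center G := by
      rw [Subgroup.mem_center_iff]
      intro t
      have h3 := hz (QuotientGroup.mk t)
      rw [← QuotientGroup.mk_mul, ← QuotientGroup.mk_mul, QuotientGroup.eq, hZ,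
        Subgroup.mem_bot] at h3
      have : t * s = (t * s) * ((t * s)⁻¹ * (s * t)) := by rw [h3, mul_one]
      rw [this]; group
    rw [Subgroup.mem_bot, QuotientGroup.eq_one_iff]
    exact h1

end generic

end

section

open Matrix QuadraticMap Module
open Cfsg.Agent.Lib.H11.ConfOrth

variable {F : Type*} [Field F] [Fintype F] {ι : Type} [Fintype ι] [DecidableEq ι]
variable (Q : QuadraticForm F (ι → F))

variable (hQ : (polarBilin Q).Nondegenerate) (h2 : (2 : F) ≠ 0) (hcard : 7 ≤ Fintype.card ι)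
variable (hall : Cfsg.gammaPOmega F ⇑Q = ⊤)
variable (hstd : ∀ σ : F ≃+* F, Cfsg.IsSemisimilarityPair ⇑Q 1 σ)

/-- the field automorphisms as a subgroup of `Aut(PΩ)` -/
noncomputable def fieldO : (F ≃+* F) →* MulAut (Cfsg.POmega F ⇑Q) where
  toFun σ := semiAut ⇑Q 1 σ (hstd σ)
  map_one' := by
    have h1 : (1 : MulAut (Cfsg.POmega F ⇑Q)) =
        semiAut ⇑Q (1 : ↥(Sim ⇑Q)).1 (RingEquiv.refl F) (pair_refl_of_sim ⇑Q 1) := by
      rw [semiAut_refl, map_one]
    rw [h1]; rfl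
  map_mul' σ τ := by
    rw [semiAut_mul]
    congr 1
    rw [map_one, mul_one]

theorem psiO_fieldO (σ : F ≃+* F) :
    psiO Q hQ h2 hcard hall (fieldO Q hstd σ) = σ := psiO_apply Q hQ h2 hcard hall _

include hQ h2 hcard in
theorem inn_le_ker : Cfsg.Inn (Cfsg.POmega F ⇑Q) ≤ (psiO Q hQ h2 hcard hall).ker := by
  rw [psiO_ker, inn_eq]
  rintro _ ⟨g, -, rfl⟩
  exact ⟨g, rfl⟩

/-- the induced map `Out(PΩ) → Aut(F)` -/
noncomputable def psiOut : Cfsg.Out (Cfsg.POmega F ⇑Q) →* (F ≃+* F) :=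
  QuotientGroup.lift _ (psiO Q hQ h2 hcard hall) (inn_le_ker Q hQ h2 hcard hall)

/-- field automorphisms in `Out` -/
noncomputable def fieldOut : (F ≃+* F) →* Cfsg.Out (Cfsg.POmega F ⇑Q) :=
  (QuotientGroup.mk' _).comp (fieldO Q hstd)

theorem psiOut_fieldOut (σ : F ≃+* F) :
    psiOut Q hQ h2 hcard hall (fieldOut Q hstd σ) = σ := by
  unfold psiOut fieldOut
  rw [MonoidHom.comp_apply, QuotientGroup.mk'_apply, QuotientGroup.lift_mk]
  exact psiO_fieldO Q hQ h2 hcard hall hstd σ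

variable (hodd : Odd (Fintype.card ι))

include hQ h2 hcard hall hstd hodd in
theorem card_out_odd {p f : ℕ} [Fact p.Prime] [CharP F p] (hF : Fintype.card F = p ^ f) :
    Nat.card (Cfsg.Out (Cfsg.POmega F ⇑Q)) = 2 * f := by
  have h1 := card_aut_eq Q hQ h2 hcard hall hstd hF
  rw [card_Phi_range Q hQ h2 hcard hodd] at h1
  have h3 := Subgroup.card_eq_card_quotient_mul_card_subgroup (Cfsg.Inn (Cfsg.POmega F ⇑Q))
  have hZ : Subgroup.center (Cfsg.POmega F ⇑Q) = ⊥ :=
    center_quot_eq_bot (Cfsg.Agent.Lib.H11.OmegaGen.center_omega_eq_bot_of_odd Q hQ h2 hcard hodd)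
  rw [card_inn_eq hZ, h1] at h3
  have hpos : 0 < Nat.card (Cfsg.POmega F ⇑Q) := Nat.card_pos
  have h4 : f * (2 * Nat.card (Cfsg.POmega F ⇑Q)) = (2 * f) * Nat.card (Cfsg.POmega F ⇑Q) := by
    ring
  rw [h4] at h3
  exact (Nat.eq_of_mul_eq_mul_right hpos h3).symm

include hQ h2 hcard hall hstd hodd in
theorem out_odd_general {p f : ℕ} [Fact p.Prime] [CharP F p] (hf : 1 ≤ f)
    (hF : Fintype.card F = p ^ f) :
    Nonempty (Cfsg.Out (Cfsg.POmega F ⇑Q) ≃* Multiplicative (ZMod 2 × ZMod f)) := by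
  set Ψ := psiOut Q hQ h2 hcard hall with hΨ
  have hsurj : Function.Surjective Ψ := fun σ => ⟨_, psiOut_fieldOut Q hQ h2 hcard hall hstd σ⟩
  have hcK : Nat.card ↥Ψ.ker = 2 := by
    have h1 := AutPSL.card_of_surjective_ker Ψ hsurj
    rw [card_out_odd Q hQ h2 hcard hall hstd hodd hF, AutPSL.card_ringAut p hF] at h1
    have : f * 2 = f * Nat.card ↥Ψ.ker := by rw [← h1]; ring
    exact (Nat.eq_of_mul_eq_mul_left (by omega) this).symm
  have hcen : Ψ.ker ≤ Subgroup.center _ := le_center_of_card_two _ hcK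
  obtain ⟨e⟩ := nonempty_mulEquiv_prod_of_split Ψ (fieldOut Q hstd)
    (psiOut_fieldOut Q hQ h2 hcard hall hstd) hcen
  haveI : Fact (Nat.Prime 2) := ⟨Nat.prime_two⟩
  have e2 : ↥Ψ.ker ≃* Multiplicative (ZMod 2) :=
    mulEquivOfPrimeCardEq (p := 2) hcK (by rw [Nat.card_eq_fintype_card]; simp)
  exact ⟨e.symm.trans ((MulEquiv.prodCongr e2 (AutPSL.ringAutEquiv p hF)).trans
    (MulEquiv.prodMultiplicative _ _).symm)⟩

end

section

open Matrix QuadraticMap Module
open Cfsg.Agent.Lib.H11.ConfOrth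

variable {F : Type*} [Field F] [Fintype F]

theorem out_odd (p f : ℕ) [Fact p.Prime] (hf : 1 ≤ f) (hF : Fintype.card F = p ^ f) (hodd : Odd p)
    (m : ℕ) (hm : 3 ≤ m) :
    Nonempty (Cfsg.Out (Cfsg.POmega F (Cfsg.quadFormOdd m F)) ≃*
      Multiplicative (ZMod 2 × ZMod f)) := by
  have := charP_of_card hF
  have hoddF : Odd (Fintype.card F) := by rw [hF]; exact hodd.pow
  have h2 := two_ne_zero_of_odd hoddF
  have hQ := Cfsg.Agent.S0286.nondeg (F := F) h2 m
  have hcard : Fintype.card (Unit ⊕ (Fin m ⊕ Fin m)) = 2 * m + 1 := by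
    simp; ring
  have hc7 : 7 ≤ Fintype.card (Unit ⊕ (Fin m ⊕ Fin m)) := by rw [hcard]; omega
  have hoddn : Odd (Fintype.card (Unit ⊕ (Fin m ⊕ Fin m))) := by rw [hcard]; exact ⟨m, rfl⟩
  have hall : Cfsg.gammaPOmega F ⇑(Cfsg.Agent.S0286.oddQF F m) = ⊤ := by
    apply gamma_eq_top _ hQ hc7
    by_cases h4 : 4 ≤ m
    · left
      show 9 ≤ Fintype.card (Unit ⊕ (Fin m ⊕ Fin m))
      rw [hcard]; omega
    · apply noTriality_of_card_le _ hQ
      show Fintype.card (Unit ⊕ (Fin m ⊕ Fin m)) ≤ 7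
      rw [hcard]; omega
  have hstd : ∀ σ : F ≃+* F, Cfsg.IsSemisimilarityPair ⇑(Cfsg.Agent.S0286.oddQF F m) 1 σ := by
    intro σ
    rw [Cfsg.Agent.S0286.coe_oddQF]
    exact hstd_odd m σ
  have h1 := out_odd_general (Cfsg.Agent.S0286.oddQF F m) hQ h2 hc7 hall hstd hoddn hf hF
  rw [Cfsg.Agent.S0286.coe_oddQF] at h1
  exact h1

end

end Cfsg.Agent.Lib.H13.AutPO
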