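import Mathlib
import Cfsg.Agent.Lib.H13.AutPO6
import Cfsg.Agent.Lib.H13.AutPSLField
import Cfsg.Agent.Lib.H11.PSLGraph11

/-!
Automorphisms of `PΩ(Q)`, part 7 (helper13): field automorphisms. Partial norms `PN σ g i` in `GL ι F`, powers of `semiAut`, Hilbert 90 for
`GL ι F` (`hilbert90_GLι`), descent of `σ`-compatible quadratic forms to the fixed field (`SigEq`, `down`, `qf_ext_of_upV`), Lang's theorem for the
conformal orthogonal group relative to a field automorphism given the classification of forms over the fixed field (`lang_GO`, `FixSim`,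
`fixSim_odd`), the standard field automorphism `stdAut`, and `field_conj_main`: elements of prime order in the coset `PGO·φ` of a field
automorphism are `PGO`-conjugate to `φ`. Application: `s2735` (odd dimension).
-/

set_option autoImplicit false
set_option linter.unusedSectionVars false
set_option linter.unusedVariables false
set_option linter.unusedSimpArgs false
set_option linter.deprecated false

namespace Cfsg.Agent.Lib.H13.AutPO

section

open Matrix QuadraticMap Module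
open Cfsg.Agent.Lib.H11.ConfOrth

section norm

variable {F : Type*} [Field F] {ι : Type} [Fintype ι] [DecidableEq ι]

/-- partial norms of a cocycle in `GL ι F`: `PN g i = g σ(g) ⋯ σ^{i-1}(g)` -/
def PN (σ : F ≃+* F) (g : GL ι F) : ℕ → GL ι F
  | 0 => 1
  | (i + 1) => g * glmap σ (PN σ g i)

theorem PN_zero (σ : F ≃+* F) (g : GL ι F) : PN σ g 0 = 1 := rfl

theorem PN_succ (σ : F ≃+* F) (g : GL ι F) (i : ℕ) :
    PN σ g (i + 1) = g * glmap σ (PN σ g i) := rfl

theorem glmap_pow_succ (σ : F ≃+* F) (i : ℕ) (g : GL ι F) :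
    glmap (σ ^ (i + 1)) g = glmap σ (glmap (σ ^ i) g) := by
  rw [pow_succ']
  exact glmap_trans σ (σ ^ i) g

theorem glmap_pow_succ' (σ : F ≃+* F) (i : ℕ) (g : GL ι F) :
    glmap (σ ^ (i + 1)) g = glmap (σ ^ i) (glmap σ g) := by
  rw [pow_succ]
  exact glmap_trans (σ ^ i) σ g

theorem PN_succ_right (σ : F ≃+* F) (g : GL ι F) (i : ℕ) :
    PN σ g (i + 1) = PN σ g i * glmap (σ ^ i) g := by
  induction i with
  | zero =>
    rw [PN_succ, PN_zero, map_one, mul_one, one_mul, pow_zero]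
    exact (glmap_refl g).symm
  | succ i ih =>
    calc PN σ g (i + 1 + 1) = g * glmap σ (PN σ g (i + 1)) := rfl
      _ = g * glmap σ (PN σ g i * glmap (σ ^ i) g) := by rw [ih]
      _ = (g * glmap σ (PN σ g i)) * glmap σ (glmap (σ ^ i) g) := by rw [map_mul, mul_assoc]
      _ = PN σ g (i + 1) * glmap (σ ^ (i + 1)) g := by rw [← PN_succ, glmap_pow_succ]

/-- the cocycle of a scalar multiple -/
theorem PN_scalar_mul (σ : F ≃+* F) (d : Fˣ) (g : GL ι F) (i : ℕ) :
    PN σ (Matrix.GeneralLinearGroup.scalar ι d * g) i =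
      Matrix.GeneralLinearGroup.scalar ι
        (Units.mk0 (AutPSL.Nm σ i (d : F)) (AutPSL.Nm_ne_zero σ i d.ne_zero)) * PN σ g i := by
  induction i with
  | zero =>
    rw [PN_zero, PN_zero, mul_one]
    apply Units.ext
    ext a b
    simp [AutPSL.Nm_zero, Matrix.GeneralLinearGroup.scalar]
  | succ i ih =>
    rw [PN_succ, PN_succ, ih, map_mul]
    apply Units.ext
    simp only [Units.val_mul, glmap_val, Matrix.GeneralLinearGroup.coe_scalar, Units.val_mk0,
      AutPSL.Nm_succ']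
    have e1 : ∀ x : F, ((Matrix.scalar ι) x).map σ = Matrix.scalar ι (σ x) := by
      intro x
      ext a b
      rw [Matrix.map_apply, Matrix.scalar_apply, Matrix.scalar_apply, Matrix.diagonal_apply,
        Matrix.diagonal_apply]
      split_ifs
      · rfl
      · exact map_zero σ
    have e2 : ∀ (x : F) (M : Matrix ι ι F), Matrix.scalar ι x * M = x • M := by
      intro x M
      rw [Matrix.scalar_apply, ← Matrix.smul_eq_diagonal_mul]
    rw [e1, e2, e2, e2, Matrix.smul_mul, Matrix.mul_smul, smul_smul]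

/-- Hilbert 90 for `GL ι F` -/
theorem hilbert90_GLι (σ : F ≃+* F) {r : ℕ} (hr : 0 < r) (hσ : orderOf σ = r) (g : GL ι F)
    (hN : PN σ g r = 1) : ∃ h : GL ι F, g * glmap σ h = h := by
  classical
  set e := Fintype.equivFin ι with he
  let rx : Matrix ι ι F → Matrix (Fin (Fintype.card ι)) (Fin (Fintype.card ι)) F :=
    fun M => M.submatrix e.symm e.symm
  let rxi : Matrix (Fin (Fintype.card ι)) (Fin (Fintype.card ι)) F → Matrix ι ι F :=
    fun M => M.submatrix e e
  have rx_mul : ∀ M N, rx (M * N) = rx M * rx N := fun M N => by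
    show (M * N).submatrix e.symm e.symm = _
    rw [Matrix.submatrix_mul_equiv]
  have rxi_mul : ∀ M N, rxi (M * N) = rxi M * rxi N := fun M N => by
    show (M * N).submatrix e e = _
    rw [Matrix.submatrix_mul_equiv]
  have rx_one : rx 1 = 1 := Matrix.submatrix_one_equiv e.symm
  have rxi_one : rxi 1 = 1 := Matrix.submatrix_one_equiv e
  have rxi_rx : ∀ M, rxi (rx M) = M := fun M => by
    ext i j
    simp [rx, rxi]
  have rx_map : ∀ M : Matrix ι ι F, rx (M.map σ) = (rx M).map σ := fun M => rfl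
  have rxi_map : ∀ M, rxi (M.map σ) = (rxi M).map σ := fun M => rfl
  have hPM : ∀ i, rx (PN σ g i).1 = AutPSL.PM σ (rx g.1) i := by
    intro i
    induction i with
    | zero => rw [PN_zero, AutPSL.PM_zero]; exact rx_one
    | succ i ih => rw [PN_succ, AutPSL.PM_succ, Units.val_mul, rx_mul, glmap_val, rx_map, ih]
  have h1 : AutPSL.PM σ (rx g.1) r = 1 := by rw [← hPM, hN]; exact rx_one
  obtain ⟨h, hu, hh⟩ := AutPSL.hilbert90_GL σ hr hσ (rx g.1) h1
  obtain ⟨⟨u, ui, h2, h3⟩, rfl⟩ := hu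
  refine ⟨⟨rxi u, rxi ui, by rw [← rxi_mul, h2, rxi_one], by rw [← rxi_mul, h3, rxi_one]⟩, ?_⟩
  apply Units.ext
  rw [Units.val_mul, glmap_val]
  show g.1 * (rxi u).map σ = rxi u
  have := congrArg rxi hh
  rw [rxi_mul, rxi_rx, rxi_map] at this
  exact this

end norm

section semi

variable {F : Type*} [Field F] [Fintype F] {ι : Type} [Fintype ι] [DecidableEq ι]
  (Q : (ι → F) → F)

theorem semiAut_congr {g g' : GL ι F} {σ σ' : F ≃+* F} (hg : g = g') (hσ : σ = σ')
    (hp : Cfsg.IsSemisimilarityPair Q g σ) (hp' : Cfsg.IsSemisimilarityPair Q g' σ') :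
    semiAut Q g σ hp = semiAut Q g' σ' hp' := by
  subst hg; subst hσ; rfl

theorem pair_PN {g : GL ι F} {σ : F ≃+* F} (hp : Cfsg.IsSemisimilarityPair Q g σ) (i : ℕ) :
    Cfsg.IsSemisimilarityPair Q (PN σ g i) (σ ^ i) := by
  induction i with
  | zero =>
    exact ⟨1, fun v => by simp [PN_zero]⟩
  | succ i ih =>
    have := pair_mul Q hp ih
    rw [PN_succ, pow_succ']
    exact this

theorem semiAut_one (hp : Cfsg.IsSemisimilarityPair Q (1 : GL ι F) (1 : F ≃+* F)) :
    semiAut Q 1 1 hp = 1 := by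
  have h1 : (1 : MulAut (Cfsg.POmega F Q)) =
      semiAut Q (1 : ↥(Sim Q)).1 (RingEquiv.refl F) (pair_refl_of_sim Q 1) := by
    rw [semiAut_refl, map_one]
  rw [h1]; rfl

theorem semiAut_pow {g : GL ι F} {σ : F ≃+* F} (hp : Cfsg.IsSemisimilarityPair Q g σ) (i : ℕ) :
    (semiAut Q g σ hp) ^ i = semiAut Q (PN σ g i) (σ ^ i) (pair_PN Q hp i) := by
  induction i with
  | zero =>
    rw [pow_zero]
    exact (semiAut_one Q _).symm
  | succ i ih =>
    rw [pow_succ', ih, semiAut_mul]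
    exact semiAut_congr Q rfl (pow_succ' σ i).symm _ _

end semi

end

section

open Matrix QuadraticMap Module
open Cfsg.Agent.Lib.H11.ConfOrth

section descent

variable {F : Type*} [Field F] {ι : Type} [Fintype ι] [DecidableEq ι]
variable (σ : F ≃+* F)

/-- a quadratic form compatible with the field automorphism `σ` -/
def SigEq (Q : QuadraticForm F (ι → F)) : Prop := ∀ v, Q (vmap σ v) = σ (Q v)

/-- the inclusion of vectors over the fixed field -/
def upV (v : ι → AutPSL.fixF σ) : ι → F := fun i => (v i : F)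

omit [Fintype ι] [DecidableEq ι] in
theorem upV_add (v w : ι → AutPSL.fixF σ) : upV σ (v + w) = upV σ v + upV σ w := rfl

omit [Fintype ι] [DecidableEq ι] in
theorem upV_smul (a : AutPSL.fixF σ) (v : ι → AutPSL.fixF σ) :
    upV σ (a • v) = (a : F) • upV σ v := rfl

omit [Fintype ι] [DecidableEq ι] in
theorem vmap_upV (v : ι → AutPSL.fixF σ) : vmap σ (upV σ v) = upV σ v := by
  funext i
  exact (AutPSL.mem_fixF_iff σ _).1 (v i).2

omit [Fintype ι] [DecidableEq ι] in
theorem upV_injective : Function.Injective (upV (ι := ι) σ) := by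
  intro v w h
  funext i
  exact Subtype.ext (congrFun h i)

variable {σ}

omit [Fintype ι] [DecidableEq ι] in
theorem SigEq.polar {Q : QuadraticForm F (ι → F)} (h : SigEq σ Q) (v w : ι → F) :
    QuadraticMap.polar (⇑Q) (vmap σ v) (vmap σ w) = σ (QuadraticMap.polar (⇑Q) v w) := by
  unfold QuadraticMap.polar
  rw [← vmap_add, h, h, h, map_sub, map_sub]

/-- the restriction of a `σ`-compatible form to the fixed field -/
def down (Q : QuadraticForm F (ι → F)) (h : SigEq σ Q) :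
    QuadraticForm (AutPSL.fixF σ) (ι → AutPSL.fixF σ) where
  toFun v := ⟨Q (upV σ v), (AutPSL.mem_fixF_iff σ _).2 (by rw [← h, vmap_upV])⟩
  toFun_smul a v := by
    apply Subtype.ext
    show Q (upV σ (a • v)) = _
    rw [upV_smul, QuadraticMap.map_smul]
    rfl
  exists_companion' := by
    refine ⟨LinearMap.mk₂ (AutPSL.fixF σ)
      (fun v w => ⟨QuadraticMap.polar (⇑Q) (upV σ v) (upV σ w), (AutPSL.mem_fixF_iff σ _).2 (by
        rw [← h.polar, vmap_upV, vmap_upV])⟩) ?_ ?_ ?_ ?_, ?_⟩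
    · intro v v' w
      apply Subtype.ext
      show QuadraticMap.polar (⇑Q) (upV σ (v + v')) (upV σ w) = _
      rw [upV_add, QuadraticMap.polar_add_left]
      rfl
    · intro a v w
      apply Subtype.ext
      show QuadraticMap.polar (⇑Q) (upV σ (a • v)) (upV σ w) = _
      rw [upV_smul, QuadraticMap.polar_smul_left]
      rfl
    · intro v w w'
      apply Subtype.ext
      show QuadraticMap.polar (⇑Q) (upV σ v) (upV σ (w + w')) = _
      rw [upV_add, QuadraticMap.polar_add_right]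
      rfl
    · intro a v w
      apply Subtype.ext
      show QuadraticMap.polar (⇑Q) (upV σ v) (upV σ (a • w)) = _
      rw [upV_smul, QuadraticMap.polar_smul_right]
      rfl
    · intro v w
      apply Subtype.ext
      show Q (upV σ (v + w)) = Q (upV σ v) + Q (upV σ w) +
        QuadraticMap.polar (⇑Q) (upV σ v) (upV σ w)
      rw [upV_add]
      unfold QuadraticMap.polar
      ring

theorem down_apply (Q : QuadraticForm F (ι → F)) (h : SigEq σ Q) (v : ι → AutPSL.fixF σ) :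
    ((down Q h v : AutPSL.fixF σ) : F) = Q (upV σ v) := rfl

theorem down_polar (Q : QuadraticForm F (ι → F)) (h : SigEq σ Q) (v w : ι → AutPSL.fixF σ) :
    ((QuadraticMap.polar (⇑(down Q h)) v w : AutPSL.fixF σ) : F) =
      QuadraticMap.polar (⇑Q) (upV σ v) (upV σ w) := by
  unfold QuadraticMap.polar
  simp only [Subfield.coe_sub, down_apply, upV_add]

omit [DecidableEq ι] in
/-- a linear functional vanishing on the vectors over the fixed field vanishes -/
theorem eq_zero_of_upV (φ : (ι → F) →ₗ[F] F) (h : ∀ v : ι → AutPSL.fixF σ, φ (upV σ v) = 0) :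
    φ = 0 := by
  classical
  apply LinearMap.pi_ext
  intro i x
  have h1 := h (Pi.single i 1)
  have h2 : upV σ (Pi.single i (1 : AutPSL.fixF σ)) = Pi.single i (1 : F) := by
    funext j
    unfold upV
    by_cases hj : j = i
    · subst hj; simp
    · simp [Pi.single_eq_of_ne hj]
  rw [h2] at h1
  have h3 : Pi.single i x = x • Pi.single i (1 : F) := by
    funext j
    by_cases hj : j = i
    · subst hj; simp
    · simp [Pi.single_eq_of_ne hj]
  rw [h3, map_smul, h1, smul_zero, LinearMap.zero_apply]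

theorem down_nondeg (Q : QuadraticForm F (ι → F)) (h : SigEq σ Q)
    (hQ : (polarBilin Q).Nondegenerate) : (polarBilin (down Q h)).Nondegenerate := by
  have hsep : ∀ v, (∀ w, polarBilin (down Q h) v w = 0) → v = 0 := by
    intro v hv
    have h1 : polarBilin Q (upV σ v) = 0 := by
      apply eq_zero_of_upV
      intro w
      have := hv w
      rw [polarBilin_apply_apply] at this ⊢
      rw [← down_polar Q h, this]
      rfl
    have h3 := hQ.1 (upV σ v) (fun y => by rw [h1, LinearMap.zero_apply])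
    apply upV_injective σ
    rw [h3]
    rfl
  refine ⟨hsep, ?_⟩
  intro w hw
  apply hsep
  intro v
  have := hw v
  rw [polarBilin_apply_apply] at this ⊢
  rw [QuadraticMap.polar_comm]
  exact this

/-- two quadratic forms agreeing on the vectors over the fixed field are equal -/
theorem qf_ext_of_upV (Q₁ Q₂ : QuadraticForm F (ι → F))
    (h : ∀ v : ι → AutPSL.fixF σ, Q₁ (upV σ v) = Q₂ (upV σ v)) : Q₁ = Q₂ := by
  classical
  set R : QuadraticForm F (ι → F) := Q₁ - Q₂ with hR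
  have hR0 : ∀ v : ι → AutPSL.fixF σ, R (upV σ v) = 0 := by
    intro v
    rw [hR, QuadraticMap.sub_apply, h, sub_self]
  have hp0 : ∀ v w : ι → AutPSL.fixF σ, polarBilin R (upV σ v) (upV σ w) = 0 := by
    intro v w
    rw [polarBilin_apply_apply]
    unfold QuadraticMap.polar
    rw [← upV_add, hR0, hR0, hR0]; ring
  have hp1 : ∀ v : ι → AutPSL.fixF σ, polarBilin R (upV σ v) = 0 :=
    fun v => eq_zero_of_upV _ (hp0 v)
  have hp2 : ∀ x y : ι → F, QuadraticMap.polar (⇑R) x y = 0 := by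
    intro x y
    have h1 : (polarBilin R).flip y = 0 := by
      apply eq_zero_of_upV (σ := σ)
      intro v
      rw [LinearMap.flip_apply, hp1, LinearMap.zero_apply]
    have := congrArg (fun φ : (ι → F) →ₗ[F] F => φ x) h1
    simpa [LinearMap.flip_apply, polarBilin_apply_apply] using this
  have hadd : ∀ x y : ι → F, R (x + y) = R x + R y := by
    intro x y
    have := hp2 x y
    unfold QuadraticMap.polar at this
    linear_combination this
  let A : (ι → F) →+ F := { toFun := R, map_zero' := map_zero R, map_add' := hadd }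
  have hsingle : ∀ i (a : F), R (Pi.single i a) = 0 := by
    intro i a
    have h2 : upV σ (Pi.single i (1 : AutPSL.fixF σ)) = Pi.single i (1 : F) := by
      funext j
      unfold upV
      by_cases hj : j = i
      · subst hj; simp
      · simp [Pi.single_eq_of_ne hj]
    have h3 : Pi.single i a = a • Pi.single i (1 : F) := by
      funext j
      by_cases hj : j = i
      · subst hj; simp
      · simp [Pi.single_eq_of_ne hj]
    rw [h3, QuadraticMap.map_smul, ← h2, hR0, smul_zero]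
  have hRx : ∀ x, R x = 0 := by
    intro x
    have h1 : x = ∑ i, Pi.single i (x i) := (Finset.univ_sum_single x).symm
    rw [h1]
    show A (∑ i, Pi.single i (x i)) = 0
    rw [map_sum]
    apply Finset.sum_eq_zero
    intro i _
    exact hsingle i (x i)
  ext x
  have := hRx x
  rw [hR, QuadraticMap.sub_apply, sub_eq_zero] at this
  exact this

/-- lift an invertible matrix over the fixed field -/
def upGL (k : GL ι (AutPSL.fixF σ)) : GL ι F :=
  Matrix.GeneralLinearGroup.map (AutPSL.fixF σ).subtype k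

theorem upGL_val (k : GL ι (AutPSL.fixF σ)) :
    ((upGL k : GL ι F) : Matrix ι ι F) = (k : Matrix ι ι (AutPSL.fixF σ)).map
      (AutPSL.fixF σ).subtype := by
  ext i j
  rfl

theorem glmap_upGL (k : GL ι (AutPSL.fixF σ)) : glmap σ (upGL k) = upGL k := by
  apply Units.ext
  rw [glmap_val, upGL_val]
  ext i j
  rw [Matrix.map_apply, Matrix.map_apply]
  exact (AutPSL.mem_fixF_iff σ _).1 (SetLike.coe_mem _)

theorem upGL_mulVec (k : GL ι (AutPSL.fixF σ)) (v : ι → AutPSL.fixF σ) :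
    (upGL k : GL ι F).1 *ᵥ upV σ v = upV σ (k.1 *ᵥ v) := by
  rw [upGL_val]
  funext i
  exact (RingHom.map_mulVec (AutPSL.fixF σ).subtype k.1 v i).symm

end descent

end

section

open Matrix QuadraticMap Module
open Cfsg.Agent.Lib.H11.ConfOrth

section lang

variable {F : Type*} [Field F] [Fintype F] {ι : Type} [Fintype ι] [DecidableEq ι]
variable (Q : QuadraticForm F (ι → F)) (σ : F ≃+* F)

/-- `Q'` is similar to `Q` through a matrix fixed by `σ` -/
def FixSim (Q' : QuadraticForm F (ι → F)) : Prop :=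
  ∃ (k : GL ι F) (c : F), c ≠ 0 ∧ glmap σ k = k ∧ ∀ v, Q' (k.1 *ᵥ v) = c * Q v

omit [Fintype F] in
/-- the multiplier of the partial norms -/
theorem PN_mult (hσQ : SigEq σ Q) (g : GL ι F) (c : F) (hc : ∀ v, Q (g.1 *ᵥ v) = c * Q v)
    (i : ℕ) (v : ι → F) :
    Q ((PN σ g i).1 *ᵥ vmap (σ ^ i) v) = AutPSL.Nm σ i c * (σ ^ i) (Q v) := by
  induction i generalizing v with
  | zero =>
    rw [PN_zero, AutPSL.Nm_zero, pow_zero, Units.val_one, Matrix.one_mulVec, one_mul]
    rfl
  | succ i ih =>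
    have e1 : (PN σ g (i + 1)).1 *ᵥ vmap (σ ^ (i + 1)) v =
        g.1 *ᵥ vmap σ ((PN σ g i).1 *ᵥ vmap (σ ^ i) v) := by
      rw [PN_succ, Units.val_mul, glmap_val, ← Matrix.mulVec_mulVec, ← map_mulVec_vmap]
      congr 2
      rw [pow_succ']
      rfl
    rw [e1, hc, hσQ, ih, AutPSL.Nm_succ', map_mul, pow_succ', RingAut.mul_apply]
    ring

omit [Fintype F] in
theorem nondeg_smul_comp (hQ : (polarBilin Q).Nondegenerate) (h : GL ι F) (l : F) (hl : l ≠ 0) :
    (polarBilin (l • Q.comp (Matrix.toLin' h.1))).Nondegenerate := by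
  have hp : ∀ x y, polarBilin (l • Q.comp (Matrix.toLin' h.1)) x y =
      l * polarBilin Q (h.1 *ᵥ x) (h.1 *ᵥ y) := by
    intro x y
    simp only [polarBilin_apply_apply]
    unfold QuadraticMap.polar
    simp only [QuadraticMap.smul_apply, QuadraticMap.comp_apply, Matrix.toLin'_apply, smul_eq_mul,
      Matrix.mulVec_add]
    ring
  have hsep : ∀ x, (∀ y, polarBilin (l • Q.comp (Matrix.toLin' h.1)) x y = 0) → x = 0 := by
    intro x hx
    have h1 : h.1 *ᵥ x = 0 := by
      apply hQ.1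
      intro y
      have := hx ((h⁻¹).1 *ᵥ y)
      rw [hp, mulVec_inv_mulVec] at this
      rcases mul_eq_zero.1 this with h0 | h0
      · exact absurd h0 hl
      · exact h0
    have := congrArg (fun w => (h⁻¹).1 *ᵥ w) h1
    simp only [inv_mulVec_mulVec, Matrix.mulVec_zero] at this
    exact this
  refine ⟨hsep, ?_⟩
  intro y hy
  apply hsep
  intro x
  have := hy x
  rw [polarBilin_apply_apply] at this ⊢
  rw [QuadraticMap.polar_comm]
  exact this

/-- **Lang's theorem for the conformal orthogonal group** relative to a field automorphism, given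
the classification of the forms over the fixed field -/
theorem lang_GO (hQ : (polarBilin Q).Nondegenerate) (hne : ∃ v, Q v ≠ 0) (hσQ : SigEq σ Q)
    {r : ℕ} (hr : 0 < r) (hσ : orderOf σ = r)
    (hcl : ∀ Q' : QuadraticForm F (ι → F), (polarBilin Q').Nondegenerate → SigEq σ Q' →
      (∃ (h : GL ι F) (l : F), l ≠ 0 ∧ ∀ v, Q' v = l * Q (h.1 *ᵥ v)) → FixSim Q σ Q')
    (g : GL ι F) (hg : g ∈ Sim ⇑Q) (hN : PN σ g r = 1) :
    ∃ k ∈ Sim ⇑Q, g * glmap σ k = k := by
  obtain ⟨c, hc⟩ := hg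
  have hσr : σ ^ r = 1 := by rw [← hσ, pow_orderOf_eq_one]
  have hNc : AutPSL.Nm σ r (c : F) = 1 := by
    obtain ⟨v, hv⟩ := hne
    have h1 := PN_mult Q σ hσQ g c hc r v
    rw [hN, hσr, Units.val_one] at h1
    have h2 : vmap (1 : F ≃+* F) v = v := rfl
    rw [h2, Matrix.one_mulVec, RingAut.one_apply] at h1
    have h3 : (AutPSL.Nm σ r (c : F) - 1) * Q v = 0 := by linear_combination -h1
    rcases mul_eq_zero.1 h3 with h4 | h4
    · linear_combination h4
    · exact absurd h4 hv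
  obtain ⟨l, hl0, hl⟩ := AutPSL.hilbert90_scalar σ hr hσ (c : F) hNc
  obtain ⟨h, hh⟩ := hilbert90_GLι σ hr hσ g hN
  have hσl : σ l ≠ 0 := (map_ne_zero σ).2 hl0
  set Q' : QuadraticForm F (ι → F) := l⁻¹ • Q.comp (Matrix.toLin' h.1) with hQ'
  have hQ'v : ∀ v, Q' v = l⁻¹ * Q (h.1 *ᵥ v) := by
    intro v
    rw [hQ', QuadraticMap.smul_apply, QuadraticMap.comp_apply, Matrix.toLin'_apply, smul_eq_mul]
  have hQ'nd := nondeg_smul_comp Q hQ h l⁻¹ (inv_ne_zero hl0)
  have hQ'σ : SigEq σ Q' := by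
    intro u
    rw [hQ'v, hQ'v]
    have e1 : h.1 *ᵥ vmap σ u = g.1 *ᵥ vmap σ (h.1 *ᵥ u) := by
      conv_lhs => rw [← hh]
      rw [Units.val_mul, glmap_val, ← Matrix.mulVec_mulVec, map_mulVec_vmap]
    rw [e1, hc, hσQ, map_mul, map_inv₀]
    have hc' : (c : F) = l * (σ l)⁻¹ := (eq_mul_inv_iff_mul_eq₀ hσl).2 hl
    rw [hc']
    field_simp
  obtain ⟨k₀, c₀, hc₀, hk₀σ, hk₀⟩ := hcl Q' hQ'nd hQ'σ ⟨h, l⁻¹, inv_ne_zero hl0, hQ'v⟩
  refine ⟨h * k₀, ⟨Units.mk0 (l * c₀) (mul_ne_zero hl0 hc₀), ?_⟩, ?_⟩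
  · intro v
    rw [Units.val_mk0, Units.val_mul, ← Matrix.mulVec_mulVec]
    have := hk₀ v
    rw [hQ'v] at this
    rw [mul_assoc, ← this, ← mul_assoc, mul_inv_cancel₀ hl0, one_mul]
  · rw [map_mul, hk₀σ, ← mul_assoc, hh]

end lang

end

section

open Matrix QuadraticMap Module
open Cfsg.Agent.Lib.H11.ConfOrth

section oddclass

variable {F : Type*} [Field F] [Fintype F] {ι : Type} [Fintype ι] [DecidableEq ι]
variable (Q : QuadraticForm F (ι → F)) (σ : F ≃+* F)

/-- the invertible matrix of a linear equivalence -/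
noncomputable def glOfEquiv {K : Type*} [Field K] (T : (ι → K) ≃ₗ[K] (ι → K)) : GL ι K :=
  ⟨LinearMap.toMatrix' T.toLinearMap, LinearMap.toMatrix' T.symm.toLinearMap,
    by rw [← LinearMap.toMatrix'_comp]; simp,
    by rw [← LinearMap.toMatrix'_comp]; simp⟩

theorem glOfEquiv_mulVec {K : Type*} [Field K] (T : (ι → K) ≃ₗ[K] (ι → K)) (v : ι → K) :
    (glOfEquiv T).1 *ᵥ v = T v := by
  show LinearMap.toMatrix' T.toLinearMap *ᵥ v = T v
  rw [LinearMap.toMatrix'_mulVec]
  rfl

/-- descent criterion: a similarity over the fixed field gives `FixSim` -/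
theorem fixSim_of_down (hσQ : SigEq σ Q) (Q' : QuadraticForm F (ι → F)) (hσQ' : SigEq σ Q')
    (T : (ι → AutPSL.fixF σ) ≃ₗ[AutPSL.fixF σ] (ι → AutPSL.fixF σ)) (c : AutPSL.fixF σ)
    (hc : c ≠ 0) (hT : ∀ v, down Q' hσQ' (T v) = c * down Q hσQ v) : FixSim Q σ Q' := by
  refine ⟨upGL (glOfEquiv T), (c : F), ?_, glmap_upGL _, ?_⟩
  · intro h
    apply hc
    exact Subtype.ext h
  · have h1 : Q'.comp (Matrix.toLin' (upGL (σ := σ) (glOfEquiv T)).1) = (c : F) • Q := by
      apply qf_ext_of_upV (σ := σ)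
      intro v
      rw [QuadraticMap.comp_apply, Matrix.toLin'_apply, upGL_mulVec, glOfEquiv_mulVec,
        QuadraticMap.smul_apply, smul_eq_mul, ← down_apply Q' hσQ', ← down_apply Q hσQ, hT]
      rfl
    intro v
    have := congrArg (fun R : QuadraticForm F (ι → F) => R v) h1
    simpa [QuadraticMap.comp_apply, Matrix.toLin'_apply] using this

/-- in odd dimension all non-degenerate `σ`-compatible forms are similar over the fixed field -/
theorem fixSim_odd (m : ℕ) (hcard : Fintype.card ι = 2 * m + 1)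
    (hQ : (polarBilin Q).Nondegenerate) (hσQ : SigEq σ Q) (Q' : QuadraticForm F (ι → F))
    (hQ' : (polarBilin Q').Nondegenerate) (hσQ' : SigEq σ Q') : FixSim Q σ Q' := by
  haveI : Fintype (AutPSL.fixF σ) := Fintype.ofFinite _
  obtain ⟨e, d, hd, he⟩ := Cfsg.Agent.Lib.H11.PSLGraph.exists_odd_form (down Q hσQ)
    (down_nondeg Q hσQ hQ) m hcard
  obtain ⟨e', d', hd', he'⟩ := Cfsg.Agent.Lib.H11.PSLGraph.exists_odd_form (down Q' hσQ')
    (down_nondeg Q' hσQ' hQ') m hcard
  apply fixSim_of_down Q σ hσQ Q' hσQ' (e.trans e'.symm) (d' * d⁻¹) (mul_ne_zero hd' (inv_ne_zero hd))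
  intro v
  rw [he', he, LinearEquiv.trans_apply, LinearEquiv.apply_symm_apply]
  field_simp

end oddclass

end

section

open Matrix QuadraticMap Module
open Cfsg.Agent.Lib.H11.ConfOrth

section fieldconj

variable {F : Type*} [Field F] [Fintype F] {ι : Type} [Fintype ι] [DecidableEq ι]
variable (Q : QuadraticForm F (ι → F)) (σ : F ≃+* F)

omit [Fintype F] in
theorem pair_one_of_sigEq (hσQ : SigEq σ Q) : Cfsg.IsSemisimilarityPair ⇑Q 1 σ := by
  refine ⟨1, fun v => ?_⟩
  rw [Units.val_one, Matrix.one_mulVec, Units.val_one, one_mul]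
  exact hσQ v

/-- the standard field automorphism of a `σ`-compatible form -/
noncomputable def stdAut (hσQ : SigEq σ Q) : MulAut (Cfsg.POmega F ⇑Q) :=
  semiAut ⇑Q 1 σ (pair_one_of_sigEq Q σ hσQ)

theorem pair_of_sim (hσQ : SigEq σ Q) (g : ↥(Sim ⇑Q)) : Cfsg.IsSemisimilarityPair ⇑Q g.1 σ := by
  have : Cfsg.IsSemisimilarityPair ⇑Q (g.1 * glmap (RingEquiv.refl F) 1)
      (σ.trans (RingEquiv.refl F)) :=
    pair_mul ⇑Q (pair_refl_of_sim ⇑Q g) (pair_one_of_sigEq Q σ hσQ)
  rw [map_one, mul_one] at this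
  exact this

theorem Phi_mul_stdAut (hσQ : SigEq σ Q) (g : ↥(Sim ⇑Q)) :
    Phi ⇑Q g * stdAut Q σ hσQ = semiAut ⇑Q g.1 σ (pair_of_sim Q σ hσQ g) := by
  unfold stdAut
  rw [← semiAut_refl, semiAut_mul]
  exact semiAut_congr ⇑Q (by rw [map_one, mul_one]) rfl _ _

theorem pair_glmap (hσQ : SigEq σ Q) (g : ↥(Sim ⇑Q)) :
    Cfsg.IsSemisimilarityPair ⇑Q (glmap σ g.1) σ := by
  have : Cfsg.IsSemisimilarityPair ⇑Q (1 * glmap σ g.1) ((RingEquiv.refl F).trans σ) :=
    pair_mul ⇑Q (pair_one_of_sigEq Q σ hσQ) (pair_refl_of_sim ⇑Q g)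
  rw [one_mul] at this
  exact this

theorem stdAut_mul_Phi (hσQ : SigEq σ Q) (g : ↥(Sim ⇑Q)) :
    stdAut Q σ hσQ * Phi ⇑Q g = semiAut ⇑Q (glmap σ g.1) σ (pair_glmap Q σ hσQ g) := by
  unfold stdAut
  rw [← semiAut_refl, semiAut_mul]
  exact semiAut_congr ⇑Q (by rw [one_mul]) rfl _ _

theorem semiAut_mul_Phi {g : GL ι F} (hp : Cfsg.IsSemisimilarityPair ⇑Q g σ) (k : ↥(Sim ⇑Q))
    (hp' : Cfsg.IsSemisimilarityPair ⇑Q (g * glmap σ k.1) σ) :
    semiAut ⇑Q g σ hp * Phi ⇑Q k = semiAut ⇑Q (g * glmap σ k.1) σ hp' := by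
  rw [← semiAut_refl, semiAut_mul]
  exact semiAut_congr ⇑Q rfl rfl _ _

variable (hQ : (polarBilin Q).Nondegenerate) (h2 : (2 : F) ≠ 0) (hcard : 7 ≤ Fintype.card ι)

include hQ h2 hcard in
theorem Phi_scalar (d : Fˣ) (hd : Matrix.GeneralLinearGroup.scalar ι d ∈ Sim ⇑Q) :
    Phi ⇑Q ⟨Matrix.GeneralLinearGroup.scalar ι d, hd⟩ = 1 := by
  rw [← MonoidHom.mem_ker, ker_Phi_gen Q hQ h2 hcard, Subgroup.mem_subgroupOf, mem_Zs_iff]
  exact ⟨d, rfl⟩

include hQ h2 hcard in
/-- elements of order `r` in the coset of the standard field automorphism are conjugate to it -/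
theorem field_conj_gen (hσQ : SigEq σ Q) {r : ℕ} (hr : 0 < r) (hσ : orderOf σ = r)
    (hcl : ∀ Q' : QuadraticForm F (ι → F), (polarBilin Q').Nondegenerate → SigEq σ Q' →
      (∃ (h : GL ι F) (l : F), l ≠ 0 ∧ ∀ v, Q' v = l * Q (h.1 *ᵥ v)) → FixSim Q σ Q')
    (g₀ : ↥(Sim ⇑Q)) (hpow : (Phi ⇑Q g₀ * stdAut Q σ hσQ) ^ r = 1) :
    ∃ k : ↥(Sim ⇑Q), Phi ⇑Q g₀ * stdAut Q σ hσQ = Phi ⇑Q k * stdAut Q σ hσQ * (Phi ⇑Q k)⁻¹ := by
  have hne := exists_neO Q hQ hcard
  have hσr : σ ^ r = 1 := by rw [← hσ, pow_orderOf_eq_one]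
  rw [Phi_mul_stdAut, semiAut_pow] at hpow
  obtain ⟨-, hz⟩ := semi_ker Q hQ h2 hcard _ _ _ hpow
  obtain ⟨c, hc⟩ := (mem_Zs_iff _).1 hz
  -- `c` is fixed by `σ`
  have hcσ : σ (c : F) = c := by
    have h1 := PN_succ_right σ g₀.1 r
    rw [PN_succ, hc, hσr] at h1
    have h3 : glmap (1 : F ≃+* F) g₀.1 = g₀.1 := glmap_refl _
    rw [h3] at h1
    have h4 : glmap σ (Matrix.GeneralLinearGroup.scalar ι c) =
        Matrix.GeneralLinearGroup.scalar ι (Units.map (σ : F →* F) c) := by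
      apply Units.ext
      rw [glmap_val, Matrix.GeneralLinearGroup.coe_scalar, Matrix.GeneralLinearGroup.coe_scalar]
      ext a b
      rw [Matrix.map_apply, Matrix.scalar_apply, Matrix.scalar_apply, Matrix.diagonal_apply,
        Matrix.diagonal_apply]
      split_ifs
      · rfl
      · exact map_zero σ
    rw [h4, ← Matrix.GeneralLinearGroup.scalar_commute] at h1
    have h5 := mul_right_cancel h1
    have hne' : Nonempty ι := by
      rw [← Fintype.card_pos_iff]; omega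
    obtain ⟨i⟩ := hne'
    have h6 := congrArg (fun M : GL ι F => (M : Matrix ι ι F) i i) h5
    simp only [Matrix.GeneralLinearGroup.coe_scalar, Matrix.scalar_apply,
      Matrix.diagonal_apply_eq] at h6
    exact h6
  -- adjust by a scalar
  have hc0 : ((c⁻¹ : Fˣ) : F) ≠ 0 := Units.ne_zero _
  have hcσ' : σ ((c⁻¹ : Fˣ) : F) = ((c⁻¹ : Fˣ) : F) := by
    rw [Units.val_inv_eq_inv_val, map_inv₀, hcσ]
  obtain ⟨d, hd0, hd⟩ := AutPSL.Nm_surjective σ hr hσ _ hc0 hcσ'
  set du : Fˣ := Units.mk0 d hd0 with hdu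
  have hdS : Matrix.GeneralLinearGroup.scalar ι du ∈ Sim ⇑Q :=
    Zs_le_sim' Q ((mem_Zs_iff _).2 ⟨du, rfl⟩)
  set g₁ : ↥(Sim ⇑Q) := ⟨Matrix.GeneralLinearGroup.scalar ι du, hdS⟩ * g₀ with hg₁
  have hN : PN σ g₁.1 r = 1 := by
    have h1 := PN_scalar_mul σ du g₀.1 r
    rw [hg₁, Subgroup.coe_mul]
    show PN σ (Matrix.GeneralLinearGroup.scalar ι du * g₀.1) r = 1
    rw [h1, hc, ← map_mul]
    have : Units.mk0 (AutPSL.Nm σ r (du : F)) (AutPSL.Nm_ne_zero σ r du.ne_zero) * c = 1 := by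
      apply Units.ext
      rw [Units.val_mul, Units.val_mk0, hdu, Units.val_mk0, hd, Units.val_one,
        Units.inv_mul]
    rw [this, map_one]
  obtain ⟨k, hk, hgk⟩ := lang_GO Q σ hQ hne hσQ hr hσ hcl g₁.1 g₁.2 hN
  refine ⟨⟨k, hk⟩, ?_⟩
  have e1 : Phi ⇑Q g₀ = Phi ⇑Q g₁ := by
    rw [hg₁, map_mul, Phi_scalar Q hQ h2 hcard, one_mul]
  rw [e1, eq_mul_inv_iff_mul_eq, Phi_mul_stdAut, Phi_mul_stdAut,
    semiAut_mul_Phi Q σ _ ⟨k, hk⟩ (by
      show Cfsg.IsSemisimilarityPair ⇑Q (g₁.1 * glmap σ k) σ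
      rw [hgk]; exact pair_of_sim Q σ hσQ ⟨k, hk⟩)]
  exact semiAut_congr ⇑Q hgk rfl _ _

end fieldconj

end

section

open Matrix QuadraticMap Module
open Cfsg.Agent.Lib.H11.ConfOrth

section main

variable {F : Type*} [Field F] [Fintype F] {ι : Type} [Fintype ι] [DecidableEq ι]
variable (Q : QuadraticForm F (ι → F))

theorem eq_stdAut_of_isField (σ : F ≃+* F) (hσQ : SigEq σ Q) (φ : MulAut (Cfsg.POmega F ⇑Q))
    (hφ : Cfsg.IsFieldAutPOmegaOf ⇑Q σ φ) : φ = stdAut Q σ hσQ := by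
  unfold stdAut
  rw [← semi_induced_iff]
  intro s s' hs
  apply hφ s s'
  rw [hs, Units.val_one, inv_one, Units.val_one, Matrix.one_mul, Matrix.mul_one]

variable (hQ : (polarBilin Q).Nondegenerate) (h2 : (2 : F) ≠ 0) (hcard : 7 ≤ Fintype.card ι)
variable (hall : Cfsg.gammaPOmega F ⇑Q = ⊤)

include hQ h2 hcard hall in
theorem range_Phi_normal : (Phi ⇑Q).range.Normal := by
  rw [← psiO_ker Q hQ h2 hcard hall]
  infer_instance

include hQ h2 hcard hall in
theorem stdAut_injective (hσall : ∀ σ : F ≃+* F, SigEq σ Q) (σ τ : F ≃+* F)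
    (h : stdAut Q σ (hσall σ) = stdAut Q τ (hσall τ)) : σ = τ := by
  have h1 := congrArg (psiO Q hQ h2 hcard hall) h
  unfold stdAut at h1
  rwa [psiO_apply, psiO_apply] at h1

include hQ h2 hcard hall in
theorem orderOf_stdAut (hσall : ∀ σ : F ≃+* F, SigEq σ Q) (σ : F ≃+* F) :
    orderOf (stdAut Q σ (hσall σ)) = orderOf σ := by
  have hpow : ∀ i : ℕ, (stdAut Q σ (hσall σ)) ^ i = stdAut Q (σ ^ i) (hσall _) := by
    intro i
    unfold stdAut
    rw [semiAut_pow]
    apply semiAut_congr _ _ rfl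
    clear hQ h2 hcard hall
    induction i with
    | zero => rfl
    | succ i ih => rw [PN_succ, ih, map_one, mul_one]
  have h1 : stdAut Q 1 (hσall 1) = 1 := by
    unfold stdAut
    exact semiAut_one ⇑Q _
  apply orderOf_eq_orderOf_iff.2
  intro i
  rw [hpow]
  constructor
  · intro h
    rw [← h1] at h
    exact stdAut_injective Q hQ h2 hcard hall hσall _ _ h
  · intro h
    rw [← h1]
    congr 1

include hQ h2 hcard hall in
/-- the general statement on elements of prime order in the coset of a field automorphism -/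
theorem field_conj_main (hσall : ∀ σ : F ≃+* F, SigEq σ Q) {r : ℕ} (hr : r.Prime)
    (hcl : ∀ σ : F ≃+* F, orderOf σ = r → ∀ Q' : QuadraticForm F (ι → F),
      (polarBilin Q').Nondegenerate → SigEq σ Q' →
      (∃ (h : GL ι F) (l : F), l ≠ 0 ∧ ∀ v, Q' v = l * Q (h.1 *ᵥ v)) → FixSim Q σ Q')
    (x δ : MulAut (Cfsg.POmega F ⇑Q)) (hx : Cfsg.IsFieldAutClassPOmega ⇑Q x)
    (hxr : orderOf x = r) (hδ : δ ∈ (Phi ⇑Q).range) :
    orderOf (δ * x) = r ↔ Cfsg.IsConjUnder (Phi ⇑Q).range x (δ * x) := by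
  haveI := range_Phi_normal Q hQ h2 hcard hall
  constructor
  · intro hord
    obtain ⟨α, φ, σ, hσ1, hφ, hx₀⟩ := hx
    rw [eq_stdAut_of_isField Q σ (hσall σ) φ hφ] at hx₀
    have hσr : orderOf σ = r := by
      rw [← orderOf_stdAut Q hQ h2 hcard hall hσall σ, ← hx₀, AutPSL.orderOf_conj', hxr]
    refine AutPSL.conj_reduce _ α x δ _ hx₀ hδ ?_ hord
    rintro δ₀ ⟨g₀, rfl⟩ hpow
    obtain ⟨k, hk⟩ := field_conj_gen Q σ hQ h2 hcard (hσall σ) hr.pos hσr (hcl σ hσr) g₀ hpow
    exact ⟨Phi ⇑Q k, ⟨k, rfl⟩, hk⟩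
  · rintro ⟨h, -, heq⟩
    rw [heq, AutPSL.orderOf_conj', hxr]

end main

end

section

open Matrix QuadraticMap Module
open Cfsg.Agent.Lib.H11.ConfOrth

section odd

variable {F : Type*} [Field F] [Fintype F]

omit [Fintype F] in
theorem sigEq_odd (m : ℕ) (σ : F ≃+* F) : SigEq σ (Cfsg.Agent.S0286.oddQF F m) := by
  intro v
  rw [Cfsg.Agent.S0286.oddQF_apply, Cfsg.Agent.S0286.oddQF_apply]
  unfold Cfsg.quadFormOdd vmap
  simp only [map_add, map_pow, map_sum, map_mul]

theorem s2735 (hodd : Odd (Fintype.card F)) {m : ℕ} (hm : 3 ≤ m)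
    (x δ : MulAut (Cfsg.POmega F (Cfsg.quadFormOdd m F)))
    (hx : Cfsg.IsFieldAutClassPOmega (Cfsg.quadFormOdd m F) x) {r : ℕ} (hr : r.Prime)
    (hxr : orderOf x = r) (hδ : δ ∈ Cfsg.inndiagPOmegaOdd m F) :
    orderOf (δ * x) = r ↔ Cfsg.IsConjUnder (Cfsg.inndiagPOmegaOdd m F) x (δ * x) := by
  have h2 := two_ne_zero_of_odd hodd
  have hQ := Cfsg.Agent.S0286.nondeg (F := F) h2 m
  have hcard : Fintype.card (Unit ⊕ (Fin m ⊕ Fin m)) = 2 * m + 1 := by
    simp; ring
  have hc7 : 7 ≤ Fintype.card (Unit ⊕ (Fin m ⊕ Fin m)) := by rw [hcard]; omega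
  have hall : Cfsg.gammaPOmega F ⇑(Cfsg.Agent.S0286.oddQF F m) = ⊤ := by
    apply gamma_eq_top _ hQ hc7
    by_cases h4 : 4 ≤ m
    · left
      show 9 ≤ Fintype.card (Unit ⊕ (Fin m ⊕ Fin m))
      rw [hcard]; omega
    · apply noTriality_of_card_le _ hQ
      show Fintype.card (Unit ⊕ (Fin m ⊕ Fin m)) ≤ 7
      rw [hcard]; omega
  have key := field_conj_main (Cfsg.Agent.S0286.oddQF F m) hQ h2 hc7 hall (sigEq_odd m) hr
    (fun σ _ Q' hQ' hσQ' _ => fixSim_odd _ σ m hcard hQ (sigEq_odd m σ) Q' hQ' hσQ')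
  have hD : Cfsg.inndiagPOmegaOdd m F = (Phi (Cfsg.quadFormOdd m F)).range :=
    pgoAut_eq (Cfsg.quadFormOdd m F)
  rw [hD] at hδ ⊢
  rw [Cfsg.Agent.S0286.coe_oddQF] at key
  exact key x δ hx hxr hδ

end odd

end

end Cfsg.Agent.Lib.H13.AutPO
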