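import Mathlib
import Cfsg.Agent.Lib.H13.AutPSLField

/-!
Centralisers of field automorphisms of `PSL_n(q)` in the inner-diagonal group and split class counts: `splitClassCount_eq`
(general formula as a relative index), `cyclic_index` (index of `V ⊔ (n-th powers)` in a finite cyclic group), `split_psl`,
`centralizer_iso`, `centralizer_fAut` (centraliser of the standard field automorphism = image of `GL_n` of the fixed field), `s2698`.
-/

set_option autoImplicit false
set_option linter.unusedSectionVars false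
set_option linter.unusedVariables false
set_option linter.unusedSimpArgs false
set_option linter.deprecated false

namespace Cfsg.Agent.Lib.H13.AutPSL

section

section split

variable {A : Type*} [Group A]

theorem split_key (H K : Subgroup A) [K.Normal] (hKH : K ≤ H) (x : A) {h h' : A} (hh : h ∈ H)
    (hh' : h' ∈ H) :
    Cfsg.IsConjUnder K (h * x * h⁻¹) (h' * x * h'⁻¹) ↔
      h⁻¹ * h' ∈ K ⊔ (H ⊓ Subgroup.centralizer {x}) := by
  constructor
  · rintro ⟨k, hk, hkx⟩
    -- c := h⁻¹ k⁻¹ h' centralises x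
    have hc : h⁻¹ * k⁻¹ * h' ∈ H ⊓ Subgroup.centralizer {x} := by
      refine Subgroup.mem_inf.2
        ⟨H.mul_mem (H.mul_mem (H.inv_mem hh) (H.inv_mem (hKH hk))) hh', ?_⟩
      refine Subgroup.mem_centralizer_iff.2 ?_
      intro y hy
      rw [Set.mem_singleton_iff] at hy
      subst hy
      have e1 : y = (h⁻¹ * k⁻¹ * h') * y * (h⁻¹ * k⁻¹ * h')⁻¹ := by
        have e2 : (h⁻¹ * k⁻¹ * h') * y * (h⁻¹ * k⁻¹ * h')⁻¹ =
            h⁻¹ * k⁻¹ * (h' * y * h'⁻¹) * k * h := by group
        rw [e2, hkx]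
        group
      calc y * (h⁻¹ * k⁻¹ * h')
          = (h⁻¹ * k⁻¹ * h') * y * (h⁻¹ * k⁻¹ * h')⁻¹ * (h⁻¹ * k⁻¹ * h') := by rw [← e1]
        _ = (h⁻¹ * k⁻¹ * h') * y := by group
    have e : h⁻¹ * h' = (h⁻¹ * k * h) * (h⁻¹ * k⁻¹ * h') := by group
    rw [e]
    refine Subgroup.mul_mem_sup ?_ hc
    have := Subgroup.Normal.conj_mem (inferInstance : K.Normal) k hk h⁻¹
    rwa [inv_inv] at this
  · intro hmem
    obtain ⟨k, hk, c, hc, hkc⟩ := Subgroup.mem_sup_of_normal_left.1 hmem
    obtain ⟨-, hc2⟩ := Subgroup.mem_inf.1 hc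
    have hcx : x * c = c * x := Subgroup.mem_centralizer_iff.1 hc2 x rfl
    refine ⟨h * k * h⁻¹, Subgroup.Normal.conj_mem inferInstance k hk h, ?_⟩
    have e1 : h' = h * (k * c) := by rw [hkc]; group
    have e2 : c * x * c⁻¹ = x := by rw [← hcx]; group
    rw [e1]
    calc h * (k * c) * x * (h * (k * c))⁻¹ = h * k * (c * x * c⁻¹) * k⁻¹ * h⁻¹ := by group
      _ = h * k * x * k⁻¹ * h⁻¹ := by rw [e2]
      _ = h * k * h⁻¹ * (h * x * h⁻¹) * (h * k * h⁻¹)⁻¹ := by group

theorem splitClassCount_eq (H K : Subgroup A) [K.Normal] (hKH : K ≤ H) (x : A) :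
    Cfsg.splitClassCount H K x = (K ⊔ (H ⊓ Subgroup.centralizer {x})).relIndex H := by
  classical
  set S := K ⊔ (H ⊓ Subgroup.centralizer {x}) with hS
  unfold Cfsg.splitClassCount Subgroup.relIndex Subgroup.index
  let f : {y : A // Cfsg.IsConjUnder H x y} → H ⧸ S.subgroupOf H :=
    fun y => QuotientGroup.mk ⟨y.2.choose, y.2.choose_spec.1⟩
  have hspec : ∀ y : {y : A // Cfsg.IsConjUnder H x y}, y.1 = y.2.choose * x * (y.2.choose)⁻¹ :=
    fun y => y.2.choose_spec.2
  have hf : ∀ y z : {y : A // Cfsg.IsConjUnder H x y},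
      f y = f z ↔ Cfsg.IsConjUnder K y.1 z.1 := by
    intro y z
    show (QuotientGroup.mk _ : H ⧸ S.subgroupOf H) = QuotientGroup.mk _ ↔ _
    rw [QuotientGroup.eq, Subgroup.mem_subgroupOf]
    have := split_key H K hKH x y.2.choose_spec.1 z.2.choose_spec.1
    rw [← hspec y, ← hspec z] at this
    rw [this]
    rfl
  let F : Quot (fun y z : {y : A // Cfsg.IsConjUnder H x y} => Cfsg.IsConjUnder K y.1 z.1) →
      H ⧸ S.subgroupOf H := Quot.lift f (fun y z hyz => (hf y z).2 hyz)
  apply Nat.card_congr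
  refine Equiv.ofBijective F ⟨?_, ?_⟩
  · intro a b
    induction a using Quot.ind with | _ y => ?_
    induction b using Quot.ind with | _ z => ?_
    intro hab
    exact Quot.sound ((hf y z).1 hab)
  · intro q
    induction q using QuotientGroup.induction_on with | H h => ?_
    let y : {y : A // Cfsg.IsConjUnder H x y} := ⟨h.1 * x * h.1⁻¹, ⟨h.1, h.2, rfl⟩⟩
    refine ⟨Quot.mk _ y, ?_⟩
    show f y = _
    show (QuotientGroup.mk _ : H ⧸ S.subgroupOf H) = QuotientGroup.mk _
    rw [QuotientGroup.eq, Subgroup.mem_subgroupOf]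
    have := split_key H K hKH x y.2.choose_spec.1 h.2
    rw [← hspec y] at this
    show (y.2.choose)⁻¹ * h.1 ∈ S
    rw [← this]
    exact ⟨1, K.one_mem, by simp [y]⟩

end split

end

section

section cyclic

variable {U : Type*} [CommGroup U] [Finite U] [IsCyclic U]

theorem range_pow_le_of_dvd {g k : ℕ} (h : g ∣ k) :
    (powMonoidHom k : U →* U).range ≤ (powMonoidHom g : U →* U).range := by
  rintro _ ⟨a, rfl⟩
  obtain ⟨t, rfl⟩ := h
  exact ⟨a ^ t, by simp [powMonoidHom_apply, ← pow_mul, mul_comm]⟩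

theorem range_pow_sup (n k : ℕ) :
    (powMonoidHom k : U →* U).range ⊔ (powMonoidHom n : U →* U).range =
      (powMonoidHom (Nat.gcd n k) : U →* U).range := by
  apply le_antisymm
  · exact sup_le (range_pow_le_of_dvd (Nat.gcd_dvd_right n k))
      (range_pow_le_of_dvd (Nat.gcd_dvd_left n k))
  · rintro _ ⟨a, rfl⟩
    rw [powMonoidHom_apply, ← zpow_natCast, Nat.gcd_eq_gcd_ab, zpow_add, mul_comm]
    refine Subgroup.mul_mem_sup ⟨a ^ (Nat.gcdB n k), ?_⟩ ⟨a ^ (Nat.gcdA n k), ?_⟩
    · rw [powMonoidHom_apply, ← zpow_natCast, ← zpow_mul, mul_comm]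
    · rw [powMonoidHom_apply, ← zpow_natCast, ← zpow_mul, mul_comm]

theorem eq_range_pow (V : Subgroup U) :
    V = (powMonoidHom (Nat.card U / Nat.card V) : U →* U).range := by
  have hdvd : Nat.card V ∣ Nat.card U := Subgroup.card_subgroup_dvd_card V
  have hUpos : 0 < Nat.card U := Nat.card_pos
  have hVpos : 0 < Nat.card V := Nat.card_pos
  set m := Nat.card U with hm
  set m₀ := Nat.card V with hm₀
  set k := m / m₀ with hk
  have hkm : k * m₀ = m := Nat.div_mul_cancel hdvd
  have hkpos : 0 < k := Nat.pos_of_ne_zero (by rintro h0; rw [h0, zero_mul] at hkm; omega)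
  -- V = ker (pow m₀)
  have h1 : V = (powMonoidHom m₀ : U →* U).ker := by
    apply Subgroup.eq_of_le_of_card_ge
    · intro v hv
      rw [MonoidHom.mem_ker, powMonoidHom_apply]
      have h2 : (⟨v, hv⟩ : V) ^ Nat.card V = 1 := pow_card_eq_one'
      have h3 := congrArg Subtype.val h2
      rw [Subgroup.coe_pow, Subgroup.coe_one] at h3
      exact h3
    · rw [IsCyclic.card_powMonoidHom_ker, ← hm, Nat.gcd_eq_right hdvd]
  have h2 : (powMonoidHom k : U →* U).range = (powMonoidHom m₀ : U →* U).ker := by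
    apply Subgroup.eq_of_le_of_card_ge
    · rintro _ ⟨a, rfl⟩
      rw [MonoidHom.mem_ker, powMonoidHom_apply, powMonoidHom_apply, ← pow_mul, hkm, hm]
      exact pow_card_eq_one'
    · rw [IsCyclic.card_powMonoidHom_ker, ← hm, Nat.gcd_eq_right hdvd,
        IsCyclic.card_powMonoidHom_range, ← hm, Nat.gcd_eq_right (Dvd.intro _ hkm)]
      rw [← hkm, Nat.mul_div_cancel_left _ hkpos]
  rw [h2, ← h1]

theorem cyclic_index (V : Subgroup U) (n : ℕ) :
    (V ⊔ (powMonoidHom n : U →* U).range).index = Nat.gcd n (Nat.card U / Nat.card V) := by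
  have hdvd : Nat.card V ∣ Nat.card U := Subgroup.card_subgroup_dvd_card V
  have hk : (Nat.card U / Nat.card V) ∣ Nat.card U := Nat.div_dvd_of_dvd hdvd
  conv_lhs => rw [eq_range_pow V]
  rw [range_pow_sup, IsCyclic.index_powMonoidHom_range]
  exact Nat.gcd_eq_right ((Nat.gcd_dvd_right _ _).trans hk)

end cyclic

end

section

open Matrix

theorem map_centralizer_conj {A : Type*} [Group A] (α x : A) :
    (Subgroup.centralizer {x}).map (MulAut.conj α).toMonoidHom =
      Subgroup.centralizer {α * x * α⁻¹} := by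
  ext y
  constructor
  · rintro ⟨z, hz, rfl⟩
    have hzx : x * z = z * x := Subgroup.mem_centralizer_iff.1 hz x rfl
    refine Subgroup.mem_centralizer_iff.2 ?_
    intro w hw
    rw [Set.mem_singleton_iff] at hw
    subst hw
    show α * x * α⁻¹ * (α * z * α⁻¹) = α * z * α⁻¹ * (α * x * α⁻¹)
    calc α * x * α⁻¹ * (α * z * α⁻¹) = α * (x * z) * α⁻¹ := by group
      _ = α * (z * x) * α⁻¹ := by rw [hzx]
      _ = _ := by group
  · intro hy
    have hyx : α * x * α⁻¹ * y = y * (α * x * α⁻¹) := Subgroup.mem_centralizer_iff.1 hy _ rfl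
    refine ⟨α⁻¹ * y * α, ?_, ?_⟩
    · refine Subgroup.mem_centralizer_iff.2 ?_
      intro w hw
      rw [Set.mem_singleton_iff] at hw
      subst hw
      calc w * (α⁻¹ * y * α) = α⁻¹ * (α * w * α⁻¹ * y) * α := by group
        _ = α⁻¹ * (y * (α * w * α⁻¹)) * α := by rw [hyx]
        _ = _ := by group
    · show α * (α⁻¹ * y * α) * α⁻¹ = y
      group

theorem map_conj_normal {A : Type*} [Group A] (N : Subgroup A) [N.Normal] (α : A) :
    N.map (MulAut.conj α).toMonoidHom = N := by
  ext y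
  constructor
  · rintro ⟨z, hz, rfl⟩
    exact Subgroup.Normal.conj_mem inferInstance z hz α
  · intro hy
    refine ⟨α⁻¹ * y * α, ?_, ?_⟩
    · have := Subgroup.Normal.conj_mem (inferInstance : N.Normal) y hy α⁻¹
      rwa [inv_inv] at this
    · show α * (α⁻¹ * y * α) * α⁻¹ = y
      group

variable {n : ℕ} {F : Type*} [Field F]

theorem inn_le_range_cGL :
    Cfsg.Inn (ProjectiveSpecialLinearGroup (Fin n) F) ≤ (cGL (n := n) (F := F)).range := by
  rintro _ ⟨y, rfl⟩
  obtain ⟨s, rfl⟩ := QuotientGroup.mk'_surjective _ y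
  exact ⟨_, cGL_toGL s⟩

theorem kap_comp_eq (i₀ : Fin n) {G₁ : Type*} [Group G₁] (j : G₁ →* GL (Fin n) F) :
    (kap (n := n) (F := F)).comp j =
      ((kap (n := n) (F := F)).comp (dg i₀)).comp (Matrix.GeneralLinearGroup.det.comp j) := by
  ext a
  exact kap_eq i₀ (j a)

section fin

variable [Fintype F]

/-- the split class count for an automorphism `x` conjugate to `x₀` whose centraliser in the
inner-diagonal group is the image of `j : G₁ → GL_n(F)` -/
theorem split_psl (hn : 2 ≤ n) (p : ℕ) [Fact p.Prime] [CharP F p]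
    (x α x₀ : MulAut (ProjectiveSpecialLinearGroup (Fin n) F)) (hx₀ : α * x * α⁻¹ = x₀)
    {G₁ : Type*} [Group G₁] (j : G₁ →* GL (Fin n) F)
    (hC : (cGL (n := n) (F := F)).range ⊓ Subgroup.centralizer {x₀} =
      ((cGL (n := n) (F := F)).comp j).range) :
    Cfsg.splitClassCount (Cfsg.inndiagPSL n F)
      (Cfsg.Inn (ProjectiveSpecialLinearGroup (Fin n) F)) x =
      ((Matrix.GeneralLinearGroup.det.comp j).range ⊔ (powMonoidHom n : Fˣ →* Fˣ).range).index := by
  haveI hDn := normal_range_cGL (n := n) (F := F) hn p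
  rw [inndiag_eq]
  set D := (cGL (n := n) (F := F)).range with hD
  set I := Cfsg.Inn (ProjectiveSpecialLinearGroup (Fin n) F) with hI
  have hID : I ≤ D := inn_le_range_cGL
  rw [splitClassCount_eq D I hID x]
  -- step 2: conjugate by α
  have h2 : (I ⊔ (D ⊓ Subgroup.centralizer {x})).relIndex D =
      (I ⊔ (D ⊓ Subgroup.centralizer {x₀})).relIndex D := by
    have hinj : Function.Injective (MulAut.conj α).toMonoidHom := (MulAut.conj α).injective
    rw [← Subgroup.relIndex_map_map_of_injective _ _ hinj, Subgroup.map_sup,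
      Subgroup.map_inf _ _ _ hinj, map_conj_normal, map_conj_normal, map_centralizer_conj, hx₀]
  rw [h2, hC]
  -- step 3: pass to Out
  let π := QuotientGroup.mk' I
  have hker : π.ker = I := QuotientGroup.ker_mk' I
  have h3 := Subgroup.relIndex_map_map π ((cGL (n := n) (F := F)).comp j).range D
  rw [hker, sup_of_le_left hID, sup_comm] at h3
  rw [← h3]
  -- step 4
  have i₀ : Fin n := ⟨0, by omega⟩
  have h4 : ((cGL (n := n) (F := F)).comp j).range.map π = ((kap (n := n) (F := F)).comp j).range := by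
    rw [MonoidHom.map_range]
    rfl
  have h5 : D.map π = (kap (n := n) (F := F)).range := by
    rw [hD, MonoidHom.map_range]
    rfl
  rw [h4, h5, kap_comp_eq i₀ j, range_kap i₀, ← MonoidHom.map_range,
    MonoidHom.range_eq_map ((kap (n := n) (F := F)).comp (dg i₀)), Subgroup.relIndex_map_map,
    ker_kap_dg hn (hasParPA_of hn) i₀, top_sup_eq, Subgroup.relIndex_top_right]

end fin

end

section

open Matrix

variable {n : ℕ} {F : Type*} [Field F]

/-- the fixed field of `σ` -/
abbrev fixF (σ : F ≃+* F) : Subfield F := FixedPoints.subfield (Subgroup.zpowers σ) F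

theorem mem_fixF_iff (σ : F ≃+* F) (x : F) : x ∈ fixF σ ↔ σ x = x := by
  constructor
  · intro h
    exact h ⟨σ, Subgroup.mem_zpowers σ⟩
  · intro h
    rintro ⟨g, hg⟩
    obtain ⟨k, rfl⟩ := Subgroup.mem_zpowers_iff.mp hg
    show (σ ^ k) x = x
    clear hg
    induction k using Int.induction_on with
    | zero => simp
    | succ i ih =>
      rw [_root_.zpow_add_one, RingAut.mul_apply, h, ih]
    | pred i ih =>
      rw [_root_.zpow_sub_one, RingAut.mul_apply]
      have : σ⁻¹ x = x := by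
        rw [RingAut.inv_apply, RingEquiv.symm_apply_eq, h]
      rw [this, ih]

theorem card_fixF [Fintype F] (σ : F ≃+* F) {r : ℕ} (hr : 0 < r) (hσ : orderOf σ = r) :
    Nat.card (fixF σ) ^ r = Fintype.card F := by
  classical
  have hcard : Nat.card (Subgroup.zpowers σ) = r := by rw [Nat.card_zpowers, hσ]
  haveI : Finite (Subgroup.zpowers σ) := Nat.finite_of_card_ne_zero (by rw [hcard]; exact hr.ne')
  haveI : Fintype (Subgroup.zpowers σ) := Fintype.ofFinite _
  haveI : Fintype (fixF σ) := Fintype.ofFinite _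
  have h1 := FixedPoints.finrank_eq_card (Subgroup.zpowers σ) F
  rw [← Nat.card_eq_fintype_card, hcard] at h1
  have h2 := Module.card_eq_pow_finrank (K := fixF σ) (V := F)
  rw [h1] at h2
  rw [Nat.card_eq_fintype_card, h2]

theorem card_fixF' [Fintype F] (σ : F ≃+* F) {r p f : ℕ} [Fact p.Prime] (hr : 0 < r)
    (hσ : orderOf σ = r) (hF : Fintype.card F = p ^ f) :
    Nat.card (fixF σ) = p ^ (f / r) := by
  have h1 := card_fixF σ hr hσ
  rw [hF] at h1
  have hp : p.Prime := Fact.out
  have h2 : Nat.card (fixF σ) ∣ p ^ f := by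
    rw [← h1]
    exact dvd_pow_self _ hr.ne'
  obtain ⟨k, -, hk⟩ := (Nat.dvd_prime_pow hp).1 h2
  rw [hk, ← pow_mul] at h1
  have h3 : k * r = f := Nat.pow_right_injective hp.two_le h1
  rw [hk, ← h3, Nat.mul_div_cancel _ hr]

/-- the embedding `GL_n(F^σ) → GL_n(F)` -/
noncomputable abbrev jF (σ : F ≃+* F) : GL (Fin n) (fixF σ) →* GL (Fin n) F :=
  Matrix.GeneralLinearGroup.map (fixF σ).subtype

theorem jF_coe (σ : F ≃+* F) (g : GL (Fin n) (fixF σ)) (i k : Fin n) :
    ((jF σ g : GL (Fin n) F) : Matrix (Fin n) (Fin n) F) i k =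
      ((g : Matrix (Fin n) (Fin n) (fixF σ)) i k : F) := rfl

theorem gmap_jF (σ : F ≃+* F) (g : GL (Fin n) (fixF σ)) : gmap σ (jF σ g) = jF σ g := by
  apply Units.ext
  ext i k
  rw [gmap_coe, Matrix.map_apply, jF_coe]
  exact (mem_fixF_iff σ _).1 (SetLike.coe_mem _)

theorem map_pow_eq_Nm (σ : F ≃+* F) (g : Matrix (Fin n) (Fin n) F) (c : F)
    (h : g.map σ = c • g) (i : ℕ) : g.map (σ ^ i) = Nm σ i c • g := by
  induction i with
  | zero =>
    ext a b
    simp [Nm_zero]
  | succ i ih =>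
    ext a b
    have h1 : (g.map (σ ^ (i + 1))) a b = σ ((g.map (σ ^ i)) a b) := by
      rw [Matrix.map_apply, Matrix.map_apply, pow_succ', RingAut.mul_apply]
    rw [h1, ih, Matrix.smul_apply, smul_eq_mul, map_mul]
    have h2 : σ (g a b) = c * g a b := by
      have := congrFun (congrFun h a) b
      rwa [Matrix.map_apply, Matrix.smul_apply, smul_eq_mul] at this
    rw [h2, Matrix.smul_apply, smul_eq_mul, Nm_succ']
    ring

/-- descent: a matrix with `σ(g) = c g` is a scalar multiple of a `σ`-fixed matrix -/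
theorem exists_fixed_smul (σ : F ≃+* F) {r : ℕ} (hr : 0 < r) (hσ : orderOf σ = r)
    (g : Matrix (Fin n) (Fin n) F) (hg : g ≠ 0) (c : F) (h : g.map σ = c • g) :
    ∃ l : F, l ≠ 0 ∧ (l • g).map σ = l • g := by
  have hσr : σ ^ r = 1 := by rw [← hσ, pow_orderOf_eq_one]
  have hne : ∃ a b, g a b ≠ 0 := by
    by_contra hcon
    push Not at hcon
    exact hg (by ext a b; exact hcon a b)
  obtain ⟨a, b, hab⟩ := hne
  have h1 := congrFun (congrFun (map_pow_eq_Nm σ g c h r) a) b
  rw [hσr, Matrix.map_apply, RingAut.one_apply, Matrix.smul_apply, smul_eq_mul] at h1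
  have h2 : Nm σ r c = 1 := by
    have : (1 : F) * g a b = Nm σ r c * g a b := by rw [one_mul]; exact h1
    exact (mul_right_cancel₀ hab this).symm
  obtain ⟨l, hl0, hl⟩ := hilbert90_scalar σ hr hσ c h2
  refine ⟨l, hl0, ?_⟩
  have e1 : (l • g).map σ = σ l • g.map σ := by
    ext x y
    simp [Matrix.map_apply]
  rw [e1, h, smul_smul, mul_comm, hl]

section fin

variable [Fintype F]

theorem centralizer_fAut (hn : 2 ≤ n) (σ : F ≃+* F) {r : ℕ} (hr : 0 < r) (hσ : orderOf σ = r) :
    (cGL (n := n) (F := F)).range ⊓ Subgroup.centralizer {fAut σ} =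
      ((cGL (n := n) (F := F)).comp (jF σ)).range := by
  ext y
  constructor
  · rintro ⟨⟨g, rfl⟩, hy2⟩
    have hcomm : fAut σ * cGL g = cGL g * fAut σ := Subgroup.mem_centralizer_iff.1 hy2 _ rfl
    rw [fAut_mul_cGL] at hcomm
    have h1 : cGL (gmap σ g) = cGL g := mul_right_cancel hcomm
    have h2 : cGL (g⁻¹ * gmap σ g) = 1 := by rw [map_mul, h1, map_inv, inv_mul_cancel]
    have h3 : fAut (n := n) (1 : F ≃+* F) = cGL (g⁻¹ * gmap σ g) := by rw [map_one, h2]
    obtain ⟨-, c, hc, h4⟩ := uniq0 hn (hasParPA_of hn) _ 1 h3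
    rw [Units.val_mul, gmap_coe] at h4
    have h5 : (g : Matrix (Fin n) (Fin n) F).map σ = c • (g : Matrix (Fin n) (Fin n) F) := by
      have := congrArg (fun X => (g : Matrix (Fin n) (Fin n) F) * X) h4
      simp only [← Matrix.mul_assoc, gl_mul_inv, Matrix.one_mul, Matrix.mul_smul,
        Matrix.mul_one] at this
      exact this
    have hg0 : (g : Matrix (Fin n) (Fin n) F) ≠ 0 := by
      intro h0
      have hdet := Matrix.GeneralLinearGroup.det_ne_zero g
      haveI : Nonempty (Fin n) := ⟨⟨0, by omega⟩⟩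
      rw [h0, Matrix.det_zero] at hdet
      exact hdet rfl
    obtain ⟨l, hl0, hl⟩ := exists_fixed_smul σ hr hσ _ hg0 c h5
    -- build the matrix over the fixed field
    let M₁ : Matrix (Fin n) (Fin n) (fixF σ) := Matrix.of (fun i k =>
      ⟨(l • (g : Matrix (Fin n) (Fin n) F)) i k, (mem_fixF_iff σ _).2 (by
        have := congrFun (congrFun hl i) k
        rwa [Matrix.map_apply] at this)⟩)
    have hM₁ : M₁.map (fixF σ).subtype = l • (g : Matrix (Fin n) (Fin n) F) := by
      ext i k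
      rfl
    have hdet : M₁.det ≠ 0 := by
      intro h0
      have e1 := RingHom.map_det (fixF σ).subtype M₁
      rw [h0, map_zero] at e1
      have e2 : ((fixF σ).subtype.mapMatrix M₁) = l • (g : Matrix (Fin n) (Fin n) F) := hM₁
      rw [e2, Matrix.det_smul] at e1
      have := Matrix.GeneralLinearGroup.det_ne_zero g
      exact (mul_ne_zero (pow_ne_zero _ hl0) this) e1.symm
    refine ⟨Matrix.GeneralLinearGroup.mkOfDetNeZero M₁ hdet, ?_⟩
    show cGL (jF σ _) = cGL g
    apply cGL_eq_of_smul hl0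
    ext i k
    rfl
  · rintro ⟨g₁, rfl⟩
    refine Subgroup.mem_inf.2 ⟨⟨jF σ g₁, rfl⟩, ?_⟩
    refine Subgroup.mem_centralizer_iff.2 ?_
    intro w hw
    rw [Set.mem_singleton_iff] at hw
    subst hw
    show fAut σ * cGL (jF σ g₁) = cGL (jF σ g₁) * fAut σ
    rw [fAut_mul_cGL]
    congr 2
    exact gmap_jF σ g₁

end fin

end

section

open Matrix

theorem map_center_equiv {G H : Type*} [Group G] [Group H] (e : G ≃* H) :
    (Subgroup.center G).map e.toMonoidHom = Subgroup.center H := by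
  ext y
  constructor
  · rintro ⟨z, hz, rfl⟩
    have hz' := Subgroup.mem_center_iff.1 hz
    refine Subgroup.mem_center_iff.2 ?_
    intro w
    obtain ⟨w', rfl⟩ := e.surjective w
    show e w' * e z = e z * e w'
    rw [← map_mul, ← map_mul, hz' w']
  · intro hy
    have hy' := Subgroup.mem_center_iff.1 hy
    refine ⟨e.symm y, ?_, by simp⟩
    refine Subgroup.mem_center_iff.2 ?_
    intro w
    apply e.injective
    rw [map_mul, map_mul, MulEquiv.apply_symm_apply]
    exact hy' (e w)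

/-- `PGL_n` of isomorphic rings -/
noncomputable def pglCongr {n : ℕ} {R S : Type*} [CommRing R] [CommRing S] (e : R ≃+* S) :
    Matrix.ProjGenLinGroup (Fin n) R ≃* Matrix.ProjGenLinGroup (Fin n) S :=
  QuotientGroup.congr (Subgroup.center (GL (Fin n) R)) (Subgroup.center (GL (Fin n) S))
    (Units.mapEquiv (RingEquiv.mapMatrix e).toMulEquiv)
    (map_center_equiv _)

variable {n : ℕ} {F : Type*} [Field F]

/-- the generic centraliser isomorphism -/
theorem centralizer_iso [Fintype F] (hn : 2 ≤ n) (p : ℕ) [Fact p.Prime] [CharP F p]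
    (x α x₀ : MulAut (ProjectiveSpecialLinearGroup (Fin n) F)) (hx₀ : α * x * α⁻¹ = x₀)
    {G₁ : Type*} [Group G₁] (j : G₁ →* GL (Fin n) F)
    (hC : (cGL (n := n) (F := F)).range ⊓ Subgroup.centralizer {x₀} =
      ((cGL (n := n) (F := F)).comp j).range) :
    Nonempty (↥(Cfsg.inndiagPSL n F ⊓ Subgroup.centralizer {x}) ≃*
      G₁ ⧸ ((cGL (n := n) (F := F)).comp j).ker) := by
  haveI hDn := normal_range_cGL (n := n) (F := F) hn p
  rw [inndiag_eq]
  have hinj : Function.Injective (MulAut.conj α).toMonoidHom := (MulAut.conj α).injective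
  have e1 := Subgroup.equivMapOfInjective
    ((cGL (n := n) (F := F)).range ⊓ Subgroup.centralizer {x}) _ hinj
  have h2 : ((cGL (n := n) (F := F)).range ⊓ Subgroup.centralizer {x}).map
      (MulAut.conj α).toMonoidHom = ((cGL (n := n) (F := F)).comp j).range := by
    rw [Subgroup.map_inf _ _ _ hinj, map_conj_normal, map_centralizer_conj, hx₀, hC]
  exact ⟨(e1.trans (MulEquiv.subgroupCongr h2)).trans
    (QuotientGroup.quotientKerEquivRange _).symm⟩

theorem ker_cGL_jF [Fintype F] (hn : 2 ≤ n) (σ : F ≃+* F) :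
    ((cGL (n := n) (F := F)).comp (jF σ)).ker = Subgroup.center (GL (Fin n) (fixF σ)) := by
  ext g₁
  rw [MonoidHom.mem_ker, MonoidHom.comp_apply, ← MonoidHom.mem_ker, cGL_ker hn (hasParPA_of hn),
    Matrix.GeneralLinearGroup.center_eq_range_scalar,
    Matrix.GeneralLinearGroup.center_eq_range_scalar]
  constructor
  · rintro ⟨u, hu⟩
    let i₀ : Fin n := ⟨0, by omega⟩
    have h1 : ∀ i k, ((g₁ : Matrix (Fin n) (Fin n) (fixF σ)) i k : F) =
        if i = k then (u : F) else 0 := by
      intro i k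
      have := congrArg (fun X : GL (Fin n) F => (X : Matrix (Fin n) (Fin n) F) i k) hu
      simp only [Matrix.GeneralLinearGroup.coe_scalar, Matrix.scalar_apply,
        Matrix.diagonal_apply] at this
      rw [← jF_coe σ g₁ i k, ← this]
    have hu1 : (u : F) ∈ fixF σ := by
      have := h1 i₀ i₀
      rw [if_pos rfl] at this
      rw [← this]
      exact SetLike.coe_mem _
    have hu2 : ((u⁻¹ : Fˣ) : F) ∈ fixF σ := by
      rw [Units.val_inv_eq_inv_val]
      exact (fixF σ).inv_mem hu1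
    refine ⟨⟨⟨u, hu1⟩, ⟨(u⁻¹ : Fˣ), hu2⟩, Subtype.ext (by simp), Subtype.ext (by simp)⟩, ?_⟩
    apply Units.ext
    ext i k
    rw [h1 i k, Matrix.GeneralLinearGroup.coe_scalar, Matrix.scalar_apply, Matrix.diagonal_apply]
    split_ifs <;> rfl
  · rintro ⟨u₁, rfl⟩
    exact ⟨Units.map (fixF σ).subtype.toMonoidHom u₁,
      (Matrix.GeneralLinearGroup.map_scalar (fixF σ).subtype u₁).symm⟩

end

section

open Matrix

variable {n : ℕ} {F : Type*} [Field F]

theorem det_jF (σ : F ≃+* F) (g₁ : GL (Fin n) (fixF σ)) :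
    Matrix.GeneralLinearGroup.det (jF σ g₁) =
      Units.map (fixF σ).subtype.toMonoidHom (Matrix.GeneralLinearGroup.det g₁) :=
  Matrix.GeneralLinearGroup.map_det _ g₁

theorem range_det_jF (hn : 2 ≤ n) (σ : F ≃+* F) :
    (Matrix.GeneralLinearGroup.det.comp (jF (n := n) σ)).range =
      (Units.map (fixF σ).subtype.toMonoidHom).range := by
  ext u
  constructor
  · rintro ⟨g₁, rfl⟩
    exact ⟨_, (det_jF σ g₁).symm⟩
  · rintro ⟨u₁, rfl⟩
    refine ⟨dg ⟨0, by omega⟩ u₁, ?_⟩
    rw [MonoidHom.comp_apply, det_jF, det_dg]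

theorem card_range_units_map [Fintype F] (σ : F ≃+* F) :
    Nat.card (Units.map (fixF σ).subtype.toMonoidHom).range = Nat.card (fixF σ) - 1 := by
  have hinj : Function.Injective (Units.map (fixF σ).subtype.toMonoidHom) := by
    intro a b hab
    apply Units.ext
    apply Subtype.ext
    have := congrArg Units.val hab
    exact this
  rw [← Nat.card_congr (MonoidHom.ofInjective hinj).toEquiv, Nat.card_units]

theorem s2698 {F : Type*} [Field F] [Fintype F] {p f : ℕ} [Fact p.Prime]
    (hF : Fintype.card F = p ^ f) {n : ℕ} (hn : 2 ≤ n)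
    (x : MulAut (Matrix.ProjectiveSpecialLinearGroup (Fin n) F))
    (hx : Cfsg.IsFieldAutClassPSL x) {r : ℕ} (hr : r.Prime) (hxr : orderOf x = r)
    (F₀ : Type*) [Field F₀] [Fintype F₀] (hF₀ : Fintype.card F₀ = p ^ (f / r)) :
    r ∣ f ∧ Nonempty (↥(Cfsg.inndiagPSL n F ⊓ Subgroup.centralizer {x}) ≃*
      Matrix.ProjGenLinGroup (Fin n) F₀) ∧
      Cfsg.splitClassCount (Cfsg.inndiagPSL n F)
        (Cfsg.Inn (Matrix.ProjectiveSpecialLinearGroup (Fin n) F)) x =
        Nat.gcd n ((p ^ f - 1) / (p ^ (f / r) - 1)) := by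
  classical
  haveI : CharP F p := charP_of_card_eq_prime_pow hF
  obtain ⟨α, σ, hσ, hstd⟩ := hx
  have hx₀ : α * x * α⁻¹ = fAut σ := eq_of_isStdFieldAut σ hstd
  have hσr : orderOf σ = r := by
    rw [← orderOf_injective fAut (fAut_injective hn (hasParPA_of hn)) σ, ← hx₀, orderOf_conj', hxr]
  have hC := centralizer_fAut hn σ hr.pos hσr
  have hcardF₁ := card_fixF' σ hr.pos hσr hF
  refine ⟨?_, ?_, ?_⟩
  · rw [← hσr, ← card_ringAut p hF]
    exact orderOf_dvd_natCard σ
  · obtain ⟨e1⟩ := centralizer_iso hn p x α (fAut σ) hx₀ (jF σ) hC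
    have e2 := QuotientGroup.quotientMulEquivOfEq (ker_cGL_jF (n := n) hn σ)
    haveI : Fintype (fixF σ) := Fintype.ofFinite _
    have hcard : Fintype.card (fixF σ) = Fintype.card F₀ := by
      rw [← Nat.card_eq_fintype_card, hcardF₁, hF₀]
    have e3 : Matrix.ProjGenLinGroup (Fin n) (fixF σ) ≃* Matrix.ProjGenLinGroup (Fin n) F₀ :=
      pglCongr (FiniteField.ringEquivOfCardEq hcard)
    exact ⟨(e1.trans e2).trans e3⟩
  · rw [split_psl hn p x α (fAut σ) hx₀ (jF σ) hC, cyclic_index, range_det_jF hn,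
      card_range_units_map, hcardF₁, Nat.card_units, Nat.card_eq_fintype_card, hF]

end

end Cfsg.Agent.Lib.H13.AutPSL
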