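import Mathlib

/-!
The fundamental theorem of projective geometry over a finite field, in coordinates: a bijection of the points of `P(F^ι)`
(`3 ≤ |ι|`) which preserves collinearity (`Coll`) is induced by a semilinear bijection (`fundamental`).
-/

set_option autoImplicit false
set_option linter.unusedSectionVars false
set_option linter.unusedVariables false
set_option linter.unusedSimpArgs false
set_option linter.deprecated false

namespace Cfsg.Agent.Lib.H13.FTPG

section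

open Matrix

variable {F : Type*} [Field F] {ι : Type*} [Fintype ι] [DecidableEq ι]

/-- proportional vectors -/
def Par (v w : ι → F) : Prop := ∃ c : F, c ≠ 0 ∧ w = c • v

theorem Par.refl (v : ι → F) : Par v v := ⟨1, one_ne_zero, (one_smul _ _).symm⟩

theorem Par.symm {v w : ι → F} (h : Par v w) : Par w v := by
  obtain ⟨c, hc, rfl⟩ := h
  exact ⟨c⁻¹, inv_ne_zero hc, by rw [smul_smul, inv_mul_cancel₀ hc, one_smul]⟩

theorem Par.trans {u v w : ι → F} (h : Par u v) (h' : Par v w) : Par u w := by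
  obtain ⟨c, hc, rfl⟩ := h
  obtain ⟨d, hd, rfl⟩ := h'
  exact ⟨d * c, mul_ne_zero hd hc, by rw [smul_smul]⟩

theorem Par.ne_zero {v w : ι → F} (h : Par v w) (hv : v ≠ 0) : w ≠ 0 := by
  obtain ⟨c, hc, rfl⟩ := h
  exact smul_ne_zero hc hv

theorem Par.ne_zero' {v w : ι → F} (h : Par v w) (hw : w ≠ 0) : v ≠ 0 := h.symm.ne_zero hw

/-- a collineation of the projective space of `ι → F`, given on vectors -/
structure Coll (π : (ι → F) → (ι → F)) : Prop where
  ne_zero : ∀ v, v ≠ 0 → π v ≠ 0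
  line : ∀ u v w, u ≠ 0 → v ≠ 0 → w ≠ 0 → (∃ a b : F, w = a • u + b • v) →
    ∃ a' b' : F, π w = a' • π u + b' • π v
  inj : ∀ u v, u ≠ 0 → v ≠ 0 → Par (π u) (π v) → Par u v
  surj : ∀ w, w ≠ 0 → ∃ v, v ≠ 0 ∧ Par (π v) w

namespace Coll

variable {π : (ι → F) → (ι → F)} (hπ : Coll π)

include hπ in
theorem par {u v : ι → F} (hu : u ≠ 0) (h : Par u v) : Par (π u) (π v) := by
  have hv : v ≠ 0 := h.ne_zero hu
  obtain ⟨c, hc, rfl⟩ := h
  obtain ⟨a, b, hab⟩ := hπ.line u u (c • u) hu hu hv ⟨c, 0, by rw [zero_smul, add_zero]⟩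
  rw [← add_smul] at hab
  refine ⟨a + b, ?_, hab⟩
  intro h0
  rw [h0, zero_smul] at hab
  exact hπ.ne_zero _ hv hab

include hπ in
/-- composition with an invertible matrix -/
theorem comp_matrix (M N : Matrix ι ι F) (hNM : N * M = 1) :
    Coll (fun v => M *ᵥ π v) := by
  have hinj : ∀ x : ι → F, M *ᵥ x = 0 → x = 0 := by
    intro x hx
    have := congrArg (fun y => N *ᵥ y) hx
    simp only [mulVec_mulVec, hNM, one_mulVec, mulVec_zero] at this
    exact this
  have hMN : M * N = 1 := mul_eq_one_comm.1 hNM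
  refine ⟨?_, ?_, ?_, ?_⟩
  · intro v hv h0
    exact hπ.ne_zero v hv (hinj _ h0)
  · intro u v w hu hv hw h
    obtain ⟨a', b', h'⟩ := hπ.line u v w hu hv hw h
    refine ⟨a', b', ?_⟩
    change M *ᵥ π w = a' • M *ᵥ π u + b' • M *ᵥ π v
    rw [h', mulVec_add, mulVec_smul, mulVec_smul]
  · intro u v hu hv h
    apply hπ.inj u v hu hv
    obtain ⟨c, hc, h1⟩ := h
    refine ⟨c, hc, ?_⟩
    have h2 : M *ᵥ (π v - c • π u) = 0 := by
      rw [mulVec_sub, mulVec_smul]
      exact sub_eq_zero.2 h1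
    exact sub_eq_zero.1 (hinj _ h2)
  · intro w hw
    have hw' : N *ᵥ w ≠ 0 := by
      intro h0
      apply hw
      have := congrArg (fun y => M *ᵥ y) h0
      simp only [mulVec_mulVec, hMN, one_mulVec, mulVec_zero] at this
      exact this
    obtain ⟨v, hv, c, hc, h1⟩ := hπ.surj _ hw'
    refine ⟨v, hv, c, hc, ?_⟩
    change w = c • M *ᵥ π v
    have h2 : π v = c⁻¹ • N *ᵥ w := by
      rw [h1, smul_smul, inv_mul_cancel₀ hc, one_smul]
    rw [h2, mulVec_smul, mulVec_mulVec, hMN, one_mulVec, smul_smul, mul_inv_cancel₀ hc, one_smul]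

end Coll

/-- the standard basis vectors -/
abbrev e (i : ι) : ι → F := Pi.single i 1

theorem e_ne_zero (i : ι) : (e i : ι → F) ≠ 0 := by
  intro h
  have := congrFun h i
  simp [e] at this

section span

variable {π : (ι → F) → (ι → F)} (hπ : Coll π)

include hπ in
/-- the image of a vector supported on `S` is a combination of the images of the basis vectors
in `S` -/
theorem image_support (S : Finset ι) :
    ∀ w : ι → F, w ≠ 0 → (∀ i, i ∉ S → w i = 0) →
      ∃ c : ι → F, (∀ i, i ∉ S → c i = 0) ∧ π w = ∑ i, c i • π (e i) := by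
  induction S using Finset.induction_on with
  | empty =>
    intro w hw h
    exfalso
    apply hw
    funext i
    exact h i (Finset.notMem_empty i)
  | insert j S hj ih =>
    intro w hw h
    obtain ⟨w', hw'⟩ : ∃ w' : ι → F, w' = Function.update w j 0 := ⟨_, rfl⟩
    have hw'S : ∀ i, i ∉ S → w' i = 0 := by
      intro i hi
      rw [hw']
      by_cases hij : i = j
      · subst hij; simp
      · rw [Function.update_of_ne hij]
        apply h
        rw [Finset.mem_insert]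
        push Not
        exact ⟨hij, hi⟩
    have hdec : w = (1 : F) • w' + w j • e j := by
      funext i
      rw [hw']
      by_cases hij : i = j
      · subst hij; simp [e]
      · simp [e, Function.update_of_ne hij, Pi.single_eq_of_ne hij]
    by_cases h0 : w' = 0
    · -- `w` is a multiple of `e j`
      have hwj : w j ≠ 0 := by
        intro h1
        apply hw
        rw [hdec, h0, h1]
        simp
      have hpar : Par (e j) w := ⟨w j, hwj, by rw [hdec, h0]; simp⟩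
      obtain ⟨c, hc, hc2⟩ := hπ.par (e_ne_zero j) hpar
      refine ⟨Pi.single j c, ?_, ?_⟩
      · intro i hi
        rw [Finset.mem_insert] at hi
        push Not at hi
        exact Pi.single_eq_of_ne hi.1 _
      · rw [hc2, Finset.sum_eq_single j]
        · simp
        · intro i _ hij
          rw [Pi.single_eq_of_ne hij, zero_smul]
        · intro hj'
          exact absurd (Finset.mem_univ j) hj'
    · by_cases hwj : w j = 0
      · have hww' : w = w' := by
          rw [hdec, hwj]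
          simp
        obtain ⟨c, hc1, hc2⟩ := ih w' h0 hw'S
        refine ⟨c, ?_, ?_⟩
        · intro i hi
          apply hc1
          intro hiS
          exact hi (Finset.mem_insert_of_mem hiS)
        · rw [hww']
          exact hc2
      · obtain ⟨a', b', hab⟩ := hπ.line w' (e j) w h0 (e_ne_zero j) hw ⟨1, w j, hdec⟩
        obtain ⟨c, hc1, hc2⟩ := ih w' h0 hw'S
        refine ⟨fun i => a' * c i + (if i = j then b' else 0), ?_, ?_⟩
        · intro i hi
          rw [Finset.mem_insert] at hi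
          push Not at hi
          change a' * c i + (if i = j then b' else 0) = 0
          rw [hc1 i hi.2, if_neg hi.1]
          simp
        · rw [hab, hc2, Finset.smul_sum]
          simp only [add_smul, Finset.sum_add_distrib, smul_smul]
          congr 1
          rw [Finset.sum_eq_single j]
          · simp
          · intro i _ hij
            rw [if_neg hij, zero_smul]
          · intro hj'
            exact absurd (Finset.mem_univ j) hj'

include hπ in
theorem image_mem_span (w : ι → F) (hw : w ≠ 0) :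
    ∃ c : ι → F, π w = ∑ i, c i • π (e i) := by
  obtain ⟨c, -, hc⟩ := image_support hπ Finset.univ w hw (fun i hi => absurd (Finset.mem_univ i) hi)
  exact ⟨c, hc⟩

/-- the matrix whose columns are the images of the basis vectors -/
def colMat (π : (ι → F) → (ι → F)) : Matrix ι ι F := Matrix.of (fun r i => π (e i) r)

theorem colMat_mulVec (π : (ι → F) → (ι → F)) (c : ι → F) :
    colMat π *ᵥ c = ∑ i, c i • π (e i) := by
  funext r
  rw [Matrix.mulVec, dotProduct, Finset.sum_apply]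
  apply Finset.sum_congr rfl
  intro i _
  rw [Pi.smul_apply, smul_eq_mul, mul_comm]
  rfl

include hπ in
theorem isUnit_colMat : IsUnit (colMat π) := by
  rw [← Matrix.mulVec_surjective_iff_isUnit]
  intro w
  by_cases hw : w = 0
  · exact ⟨0, by rw [hw, mulVec_zero]⟩
  · obtain ⟨v, hv, c, hc, h1⟩ := hπ.surj w hw
    obtain ⟨c', hc'⟩ := image_mem_span hπ v hv
    refine ⟨c • c', ?_⟩
    rw [mulVec_smul, colMat_mulVec, ← hc', h1]

end span

end

section

open Matrix

variable {F : Type*} [Field F] {ι : Type*} [Fintype ι] [DecidableEq ι]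

theorem e_apply (i j : ι) : (e i : ι → F) j = if j = i then 1 else 0 := by
  simp [e, Pi.single_apply]

theorem e_self (i : ι) : (e i : ι → F) i = 1 := by simp [e]

theorem e_of_ne {i j : ι} (h : j ≠ i) : (e i : ι → F) j = 0 := by
  simp [e, Pi.single_eq_of_ne h]

theorem not_par_e_add {i j : ι} (hij : i ≠ j) : ¬ Par (e j : ι → F) (e i + e j) := by
  rintro ⟨c, hc, h⟩
  have := congrFun h i
  simp [e_self, e_of_ne hij] at this

theorem not_par_e_add' {i j : ι} (hij : i ≠ j) : ¬ Par (e i : ι → F) (e i + e j) := by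
  rintro ⟨c, hc, h⟩
  have := congrFun h j
  simp [e_self, e_of_ne hij.symm] at this

theorem e_add_ne_zero {i j : ι} (hij : i ≠ j) : (e i + e j : ι → F) ≠ 0 := by
  intro h
  have := congrFun h i
  simp [e_self, e_of_ne hij] at this

section norm

variable {π : (ι → F) → (ι → F)} (hπ : Coll π)

include hπ in
/-- first normalisation: the basis vectors are fixed -/
theorem exists_norm₁ :
    ∃ M N : Matrix ι ι F, M * N = 1 ∧ N * M = 1 ∧ Coll (fun v => N *ᵥ π v) ∧
      ∀ j, N *ᵥ π (e j) = e j := by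
  obtain ⟨u, hu⟩ := isUnit_colMat hπ
  refine ⟨colMat π, ((u⁻¹ : (Matrix ι ι F)ˣ) : Matrix ι ι F), ?_, ?_, ?_, ?_⟩
  · rw [← hu, ← Units.val_mul, mul_inv_cancel, Units.val_one]
  · rw [← hu, ← Units.val_mul, inv_mul_cancel, Units.val_one]
  · apply hπ.comp_matrix _ (colMat π)
    rw [← hu, ← Units.val_mul, mul_inv_cancel, Units.val_one]
  · intro j
    have h1 : π (e j) = colMat π *ᵥ e j := by
      rw [Matrix.mulVec_single_one]
      rfl
    rw [h1, mulVec_mulVec, ← hu, ← Units.val_mul, inv_mul_cancel, Units.val_one, one_mulVec]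

/-- in a collineation fixing the basis vectors, `e i + e j` goes to a vector with both
coordinates non-zero -/
theorem image_e_add (hπ : Coll π) (h1 : ∀ j, π (e j) = e j) {i j : ι} (hij : i ≠ j) :
    ∃ a b : F, a ≠ 0 ∧ b ≠ 0 ∧ π (e i + e j) = a • e i + b • e j := by
  obtain ⟨a, b, hab⟩ := hπ.line (e i) (e j) (e i + e j) (e_ne_zero i) (e_ne_zero j)
    (e_add_ne_zero hij) ⟨1, 1, by simp⟩
  rw [h1, h1] at hab
  have hne := hπ.ne_zero _ (e_add_ne_zero (F := F) hij)
  refine ⟨a, b, ?_, ?_, hab⟩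
  · rintro rfl
    rw [zero_smul, zero_add] at hab
    have hb : b ≠ 0 := by
      rintro rfl
      rw [zero_smul] at hab
      exact hne hab
    have : Par (π (e j)) (π (e i + e j)) := ⟨b, hb, by rw [hab, h1]⟩
    exact not_par_e_add hij (hπ.inj _ _ (e_ne_zero j) (e_add_ne_zero hij) this)
  · rintro rfl
    rw [zero_smul, add_zero] at hab
    have ha : a ≠ 0 := by
      rintro rfl
      rw [zero_smul] at hab
      exact hne hab
    have : Par (π (e i)) (π (e i + e j)) := ⟨a, ha, by rw [hab, h1]⟩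
    exact not_par_e_add' hij (hπ.inj _ _ (e_ne_zero i) (e_add_ne_zero hij) this)

include hπ in
/-- normalisation of a collineation -/
theorem exists_norm (i₀ : ι) :
    ∃ G Gi : Matrix ι ι F, G * Gi = 1 ∧ Gi * G = 1 ∧ Coll (fun v => Gi *ᵥ π v) ∧
      (∀ j, Par (e j) (Gi *ᵥ π (e j))) ∧
      ∀ j, j ≠ i₀ → Par (e i₀ + e j) (Gi *ᵥ π (e i₀ + e j)) := by
  classical
  obtain ⟨M, N, hMN, hNM, hc1, hfix⟩ := exists_norm₁ hπ
  have hex : ∀ j, ∃ d : F, d ≠ 0 ∧ (j = i₀ → d = 1) ∧ (j ≠ i₀ → ∃ a : F, a ≠ 0 ∧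
      N *ᵥ π (e i₀ + e j) = a • e i₀ + (a * d) • e j) := by
    intro j
    by_cases hj : j = i₀
    · exact ⟨1, one_ne_zero, fun _ => rfl, fun h => absurd hj h⟩
    · obtain ⟨a, b, ha, hb, hab⟩ := image_e_add hc1 hfix (Ne.symm hj)
      refine ⟨b / a, div_ne_zero hb ha, fun h => absurd h hj, fun _ => ⟨a, ha, ?_⟩⟩
      rw [mul_div_cancel₀ _ ha]
      exact hab
  choose d hd0 hd1 hd2 using hex
  have hDD : Matrix.diagonal d * Matrix.diagonal (fun j => (d j)⁻¹) = 1 := by
    rw [Matrix.diagonal_mul_diagonal]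
    have : (fun i => d i * (d i)⁻¹) = fun _ => (1 : F) := by
      funext i
      exact mul_inv_cancel₀ (hd0 i)
    rw [this, Matrix.diagonal_one]
  have hDD' : Matrix.diagonal (fun j => (d j)⁻¹) * Matrix.diagonal d = 1 :=
    mul_eq_one_comm.1 hDD
  refine ⟨M * Matrix.diagonal d, Matrix.diagonal (fun j => (d j)⁻¹) * N, ?_, ?_, ?_, ?_, ?_⟩
  · rw [Matrix.mul_assoc, ← Matrix.mul_assoc (Matrix.diagonal d), hDD, Matrix.one_mul, hMN]
  · rw [Matrix.mul_assoc, ← Matrix.mul_assoc N, hNM, Matrix.one_mul, hDD']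
  · have := hc1.comp_matrix (Matrix.diagonal (fun j => (d j)⁻¹)) (Matrix.diagonal d) hDD
    simp only [mulVec_mulVec] at this
    exact this
  · intro j
    rw [← mulVec_mulVec, hfix]
    refine ⟨(d j)⁻¹, inv_ne_zero (hd0 j), ?_⟩
    funext r
    rw [mulVec_diagonal, Pi.smul_apply, smul_eq_mul]
    by_cases hr : r = j
    · subst hr; rfl
    · rw [e_of_ne hr, mul_zero, mul_zero]
  · intro j hj
    obtain ⟨a, ha, hab⟩ := hd2 j hj
    rw [← mulVec_mulVec, hab]
    refine ⟨a, ha, ?_⟩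
    funext r
    rw [mulVec_diagonal]
    simp only [Pi.add_apply, Pi.smul_apply, smul_eq_mul]
    by_cases hr : r = i₀
    · subst hr
      rw [e_self, e_of_ne (Ne.symm hj), hd1 r rfl]
      simp
    · by_cases hr' : r = j
      · subst hr'
        rw [e_self, e_of_ne hr]
        field_simp [hd0 r]
        ring
      · rw [e_of_ne hr, e_of_ne hr']
        simp

end norm

end

section

open Matrix

variable {F : Type*} [Field F] {ι : Type*} [Fintype ι] [DecidableEq ι]

theorem coord2 {i j : ι} (hij : i ≠ j) {x y x' y' : F}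
    (h : x • (e i : ι → F) + y • e j = x' • e i + y' • e j) : x = x' ∧ y = y' := by
  have hi := congrFun h i
  have hj := congrFun h j
  simp only [Pi.add_apply, Pi.smul_apply, smul_eq_mul, e_self, e_of_ne hij, e_of_ne hij.symm,
    mul_one, mul_zero, add_zero, zero_add] at hi hj
  exact ⟨hi, hj⟩

theorem coord3 {i j k : ι} (hij : i ≠ j) (hik : i ≠ k) (hjk : j ≠ k) {x y z x' y' z' : F}
    (h : x • (e i : ι → F) + y • e j + z • e k = x' • e i + y' • e j + z' • e k) :
    x = x' ∧ y = y' ∧ z = z' := by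
  have hi := congrFun h i
  have hj := congrFun h j
  have hk := congrFun h k
  simp only [Pi.add_apply, Pi.smul_apply, smul_eq_mul, e_self, e_of_ne hij, e_of_ne hij.symm,
    e_of_ne hik, e_of_ne hik.symm, e_of_ne hjk, e_of_ne hjk.symm,
    mul_one, mul_zero, add_zero, zero_add] at hi hj hk
  exact ⟨hi, hj, hk⟩

theorem e_add_smul_ne_zero {i j : ι} (hij : i ≠ j) (a : F) : (e i + a • e j : ι → F) ≠ 0 := by
  intro h
  have := congrFun h i
  simp [e_self, e_of_ne hij] at this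

theorem Coll.line' {π : (ι → F) → (ι → F)} (hπ : Coll π) {u v w p r : ι → F} (hu : u ≠ 0)
    (hv : v ≠ 0) (hw : w ≠ 0) (hp : Par p (π u)) (hr : Par r (π v))
    (h : ∃ a b : F, w = a • u + b • v) : ∃ α β : F, π w = α • p + β • r := by
  obtain ⟨a', b', hab⟩ := hπ.line u v w hu hv hw h
  obtain ⟨c, -, hc⟩ := hp
  obtain ⟨d, -, hd⟩ := hr
  refine ⟨a' * c, b' * d, ?_⟩
  rw [hab, hc, hd, smul_smul, smul_smul]

section normalized

variable {π : (ι → F) → (ι → F)} (hπ : Coll π) (i₀ : ι)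
  (h1 : ∀ j, Par (e j) (π (e j)))
  (h2 : ∀ j, j ≠ i₀ → Par (e i₀ + e j) (π (e i₀ + e j)))

include hπ h1 in
theorem exists_sg (j : ι) (hj : j ≠ i₀) (a : F) :
    ∃ s : F, Par (e i₀ + s • e j) (π (e i₀ + a • e j)) := by
  have hu : (e i₀ + a • e j : ι → F) ≠ 0 := e_add_smul_ne_zero (Ne.symm hj) a
  obtain ⟨α, β, hαβ⟩ := hπ.line' (e_ne_zero i₀) (e_ne_zero j) hu (h1 i₀) (h1 j) ⟨1, a, by simp⟩
  have hne := hπ.ne_zero _ hu
  have hα : α ≠ 0 := by
    rintro rfl
    rw [zero_smul, zero_add] at hαβ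
    have hβ : β ≠ 0 := by
      rintro rfl
      rw [zero_smul] at hαβ
      exact hne hαβ
    obtain ⟨c, hc, hc2⟩ := h1 j
    have hpar : Par (π (e j)) (π (e i₀ + a • e j)) := by
      refine ⟨β * c⁻¹, mul_ne_zero hβ (inv_ne_zero hc), ?_⟩
      rw [hαβ, hc2, smul_smul, mul_assoc, inv_mul_cancel₀ hc, mul_one]
    obtain ⟨d, hd, hd2⟩ := hπ.inj _ _ (e_ne_zero j) hu hpar
    have := congrFun hd2 i₀
    simp [e_self, e_of_ne (Ne.symm hj)] at this
  refine ⟨β / α, α, hα, ?_⟩
  rw [hαβ, smul_add, smul_smul, mul_div_cancel₀ _ hα]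

theorem sg_unique {j : ι} (hj : j ≠ i₀) {s s' : F} {x : ι → F}
    (h : Par (e i₀ + s • e j) x) (h' : Par (e i₀ + s' • e j) x) : s = s' := by
  obtain ⟨c, hc, rfl⟩ := h
  obtain ⟨c', hc', h2⟩ := h'
  have h3 : c • (e i₀ : ι → F) + (c * s) • e j = c' • e i₀ + (c' * s') • e j := by
    linear_combination (norm := module) h2
  obtain ⟨h4, h5⟩ := coord2 (Ne.symm hj) h3
  rw [h4] at h5
  exact mul_left_cancel₀ hc' h5

/-- the coordinate functions of the collineation -/
noncomputable def sg (j : ι) (a : F) : F :=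
  if hj : j = i₀ then a else Classical.choose (exists_sg hπ i₀ h1 j hj a)

theorem sg_spec {j : ι} (hj : j ≠ i₀) (a : F) :
    Par (e i₀ + sg hπ i₀ h1 j a • e j) (π (e i₀ + a • e j)) := by
  unfold sg
  rw [dif_neg hj]
  exact Classical.choose_spec (exists_sg hπ i₀ h1 j hj a)

theorem sg_zero {j : ι} (hj : j ≠ i₀) : sg hπ i₀ h1 j 0 = 0 := by
  have h := sg_spec hπ i₀ h1 hj 0
  rw [zero_smul, add_zero] at h
  have h' : Par (e i₀ + (0 : F) • e j) (π (e i₀)) := by
    rw [zero_smul, add_zero]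
    exact h1 i₀
  exact sg_unique i₀ hj h h'

include h2 in
theorem sg_one {j : ι} (hj : j ≠ i₀) : sg hπ i₀ h1 j 1 = 1 := by
  have h := sg_spec hπ i₀ h1 hj 1
  rw [one_smul] at h
  have h' : Par (e i₀ + (1 : F) • e j) (π (e i₀ + e j)) := by
    rw [one_smul]
    exact h2 j hj
  exact sg_unique i₀ hj h h'

theorem e3_ne_zero {j k : ι} (hj : j ≠ i₀) (hk : k ≠ i₀) (a b : F) :
    (e i₀ + a • e j + b • e k : ι → F) ≠ 0 := by
  intro h
  have := congrFun h i₀
  simp [e_self, e_of_ne (Ne.symm hj), e_of_ne (Ne.symm hk)] at this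

theorem plane {j k : ι} (hj : j ≠ i₀) (hk : k ≠ i₀) (hjk : j ≠ k) (a b : F) :
    Par (e i₀ + sg hπ i₀ h1 j a • e j + sg hπ i₀ h1 k b • e k)
      (π (e i₀ + a • e j + b • e k)) := by
  have hv := e3_ne_zero (F := F) i₀ hj hk a b
  obtain ⟨α, β, hαβ⟩ := hπ.line' (e_add_smul_ne_zero (Ne.symm hj) a) (e_ne_zero k) hv
    (sg_spec hπ i₀ h1 hj a) (h1 k) ⟨1, b, by simp⟩
  obtain ⟨α', β', hαβ'⟩ := hπ.line' (e_add_smul_ne_zero (Ne.symm hk) b) (e_ne_zero j) hv
    (sg_spec hπ i₀ h1 hk b) (h1 j) ⟨1, a, by module⟩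
  have h3 : α • (e i₀ : ι → F) + (α * sg hπ i₀ h1 j a) • e j + β • e k =
      α' • e i₀ + β' • e j + (α' * sg hπ i₀ h1 k b) • e k := by
    linear_combination (norm := module) hαβ.symm.trans hαβ'
  obtain ⟨h4, h5, h6⟩ := coord3 (Ne.symm hj) (Ne.symm hk) hjk h3
  have hα : α ≠ 0 := by
    rintro rfl
    rw [← h4, zero_mul] at h6
    rw [h6, zero_smul, zero_smul, add_zero] at hαβ
    exact hπ.ne_zero _ hv hαβ
  refine ⟨α, hα, ?_⟩
  rw [hαβ, h6, ← h4]
  module

include h2 in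
theorem ejk {j k : ι} (hj : j ≠ i₀) (hk : k ≠ i₀) (hjk : j ≠ k) (c : F) :
    Par (e j + sg hπ i₀ h1 k c • e k) (π (e j + c • e k)) := by
  have hu : (e j + c • e k : ι → F) ≠ 0 := e_add_smul_ne_zero hjk c
  obtain ⟨γ, δ, hγδ⟩ := hπ.line' (e_ne_zero j) (e_ne_zero k) hu (h1 j) (h1 k) ⟨1, c, by simp⟩
  have hpl := plane hπ i₀ h1 hj hk hjk 1 c
  rw [sg_one hπ i₀ h1 h2 hj] at hpl
  obtain ⟨α, β, hαβ⟩ := hπ.line' (e3_ne_zero i₀ hj hk 1 c) (e_ne_zero i₀) hu hpl (h1 i₀)
    ⟨1, -1, by module⟩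
  have h3 : (0 : F) • (e i₀ : ι → F) + γ • e j + δ • e k =
      (α + β) • e i₀ + α • e j + (α * sg hπ i₀ h1 k c) • e k := by
    linear_combination (norm := module) hγδ.symm.trans hαβ
  obtain ⟨h4, h5, h6⟩ := coord3 (Ne.symm hj) (Ne.symm hk) hjk h3
  have hα : α ≠ 0 := by
    rintro rfl
    rw [h5, h6, zero_mul, zero_smul, zero_smul, add_zero] at hγδ
    exact hπ.ne_zero _ hu hγδ
  refine ⟨α, hα, ?_⟩
  rw [hγδ, h5, h6]
  module

include hπ h1 h2 in
theorem e_sub {j k : ι} (hj : j ≠ i₀) (hk : k ≠ i₀) (hjk : j ≠ k) :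
    Par (e j - e k) (π (e j - e k)) := by
  have hu : (e j - e k : ι → F) ≠ 0 := by
    intro h
    have := congrFun h j
    simp [e_self, e_of_ne hjk] at this
  obtain ⟨γ, δ, hγδ⟩ := hπ.line' (e_ne_zero j) (e_ne_zero k) hu (h1 j) (h1 k) ⟨1, -1, by module⟩
  obtain ⟨α, β, hαβ⟩ := hπ.line' (e_add_ne_zero (Ne.symm hj)) (e_add_ne_zero (Ne.symm hk)) hu
    (h2 j hj) (h2 k hk) ⟨1, -1, by module⟩
  have h3 : (0 : F) • (e i₀ : ι → F) + γ • e j + δ • e k =
      (α + β) • e i₀ + α • e j + β • e k := by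
    linear_combination (norm := module) hγδ.symm.trans hαβ
  obtain ⟨h4, h5, h6⟩ := coord3 (Ne.symm hj) (Ne.symm hk) hjk h3
  have hβ : β = -α := by linear_combination -h4
  have hα : α ≠ 0 := by
    rintro rfl
    rw [h5, h6, hβ, neg_zero, zero_smul, zero_smul, add_zero] at hγδ
    exact hπ.ne_zero _ hu hγδ
  refine ⟨α, hα, ?_⟩
  rw [hγδ, h5, h6, hβ]
  module

include h2 in
theorem sg_eq {j k : ι} (hj : j ≠ i₀) (hk : k ≠ i₀) (hjk : j ≠ k) (a : F) :
    sg hπ i₀ h1 k a = sg hπ i₀ h1 j a := by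
  have hw : (e i₀ + a • e k : ι → F) ≠ 0 := e_add_smul_ne_zero (Ne.symm hk) a
  have hu : (e j - e k : ι → F) ≠ 0 := by
    intro h
    have := congrFun h j
    simp [e_self, e_of_ne hjk] at this
  obtain ⟨α, β, hαβ⟩ := hπ.line' (e_add_smul_ne_zero (Ne.symm hj) a) hu hw
    (sg_spec hπ i₀ h1 hj a) (e_sub hπ i₀ h1 h2 hj hk hjk) ⟨1, -a, by module⟩
  obtain ⟨l, hl, hl2⟩ := sg_spec hπ i₀ h1 hk a
  have h3 : α • (e i₀ : ι → F) + (α * sg hπ i₀ h1 j a + β) • e j + (-β) • e k =
      l • e i₀ + (0 : F) • e j + (l * sg hπ i₀ h1 k a) • e k := by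
    linear_combination (norm := module) hαβ.symm.trans hl2
  obtain ⟨h4, h5, h6⟩ := coord3 (Ne.symm hj) (Ne.symm hk) hjk h3
  have h7 : l * sg hπ i₀ h1 k a = l * sg hπ i₀ h1 j a := by
    rw [← h6, ← h4]
    linear_combination -h5
  exact mul_left_cancel₀ hl h7

include h2 in
theorem sg_add {j k : ι} (hj : j ≠ i₀) (hk : k ≠ i₀) (hjk : j ≠ k) (a b : F) :
    sg hπ i₀ h1 j (a + b) = sg hπ i₀ h1 j a + sg hπ i₀ h1 j b := by
  have hR := plane hπ i₀ h1 hj hk hjk (a + b) 1
  rw [sg_one hπ i₀ h1 h2 hk] at hR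
  obtain ⟨l, hl, hl2⟩ := hR
  obtain ⟨α, β, hαβ⟩ := hπ.line' (e_add_smul_ne_zero (Ne.symm hj) a)
    (e_add_smul_ne_zero hjk.symm b) (e3_ne_zero i₀ hj hk (a + b) 1)
    (sg_spec hπ i₀ h1 hj a) (ejk hπ i₀ h1 h2 hk hj hjk.symm b) ⟨1, 1, by module⟩
  have h3 : α • (e i₀ : ι → F) + (α * sg hπ i₀ h1 j a + β * sg hπ i₀ h1 j b) • e j + β • e k =
      l • e i₀ + (l * sg hπ i₀ h1 j (a + b)) • e j + l • e k := by
    linear_combination (norm := module) hαβ.symm.trans hl2
  obtain ⟨h4, h5, h6⟩ := coord3 (Ne.symm hj) (Ne.symm hk) hjk h3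
  rw [h4, h6, ← mul_add] at h5
  exact (mul_left_cancel₀ hl h5).symm

include h2 in
theorem sg_mul {j k : ι} (hj : j ≠ i₀) (hk : k ≠ i₀) (hjk : j ≠ k) (a b : F) :
    sg hπ i₀ h1 j (a * b) = sg hπ i₀ h1 j a * sg hπ i₀ h1 j b := by
  obtain ⟨l, hl, hl2⟩ := plane hπ i₀ h1 hj hk hjk (a * b) b
  obtain ⟨α, β, hαβ⟩ := hπ.line' (e_ne_zero i₀)
    (e_add_smul_ne_zero hjk.symm a) (e3_ne_zero i₀ hj hk (a * b) b)
    (h1 i₀) (ejk hπ i₀ h1 h2 hk hj hjk.symm a) ⟨1, b, by module⟩
  have h3 : α • (e i₀ : ι → F) + (β * sg hπ i₀ h1 j a) • e j + β • e k =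
      l • e i₀ + (l * sg hπ i₀ h1 j (a * b)) • e j + (l * sg hπ i₀ h1 k b) • e k := by
    linear_combination (norm := module) hαβ.symm.trans hl2
  obtain ⟨h4, h5, h6⟩ := coord3 (Ne.symm hj) (Ne.symm hk) hjk h3
  rw [h6, sg_eq hπ i₀ h1 h2 hj hk hjk b, mul_assoc] at h5
  have := mul_left_cancel₀ hl h5
  rw [← this, mul_comm]

end normalized

end

section

open Matrix

variable {F : Type*} [Field F] {ι : Type*} [Fintype ι] [DecidableEq ι]

section final

variable {π : (ι → F) → (ι → F)} (hπ : Coll π) (i₀ : ι)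
  (h1 : ∀ j, Par (e j) (π (e j)))
  (h2 : ∀ j, j ≠ i₀ → Par (e i₀ + e j) (π (e i₀ + e j)))
  {j₁ k₁ : ι} (hj : j₁ ≠ i₀) (hk : k₁ ≠ i₀) (hjk : j₁ ≠ k₁)

/-- the field endomorphism attached to a normalised collineation -/
noncomputable def sgHom : F →+* F where
  toFun := sg hπ i₀ h1 j₁
  map_one' := sg_one hπ i₀ h1 h2 hj
  map_mul' := sg_mul hπ i₀ h1 h2 hj hk hjk
  map_zero' := sg_zero hπ i₀ h1 hj
  map_add' := sg_add hπ i₀ h1 h2 hj hk hjk

theorem sgHom_apply (a : F) : sgHom hπ i₀ h1 h2 hj hk hjk a = sg hπ i₀ h1 j₁ a := rfl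

theorem sg_all {j : ι} (hj' : j ≠ i₀) (a : F) :
    sg hπ i₀ h1 j a = sgHom hπ i₀ h1 h2 hj hk hjk a := by
  rw [sgHom_apply]
  by_cases h : j = j₁
  · subst h; rfl
  · exact sg_eq hπ i₀ h1 h2 hj hj' (Ne.symm h) a

/-- apply a ring homomorphism to the coordinates -/
def mapV (σ : F →+* F) (u : ι → F) : ι → F := fun i => σ (u i)

theorem mapV_apply (σ : F →+* F) (u : ι → F) (i : ι) : mapV σ u i = σ (u i) := rfl

theorem mapV_zero (σ : F →+* F) : mapV σ (0 : ι → F) = 0 := by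
  funext i; simp [mapV]

theorem mapV_add (σ : F →+* F) (u v : ι → F) : mapV σ (u + v) = mapV σ u + mapV σ v := by
  funext i; simp [mapV]

theorem mapV_smul (σ : F →+* F) (c : F) (u : ι → F) : mapV σ (c • u) = σ c • mapV σ u := by
  funext i; simp [mapV]

theorem mapV_e (σ : F →+* F) (i : ι) : mapV σ (e i : ι → F) = e i := by
  funext r
  rw [mapV_apply, e_apply]
  split_ifs <;> simp

theorem mapV_ne_zero (σ : F →+* F) {u : ι → F} (hu : u ≠ 0) : mapV σ u ≠ 0 := by
  intro h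
  apply hu
  funext i
  have := congrFun h i
  rw [mapV_apply, Pi.zero_apply, map_eq_zero] at this
  exact this

include hπ h1 in
/-- the image of a vector in the coordinate hyperplane stays there -/
theorem image_hyper {u : ι → F} (hu : u ≠ 0) (h0 : u i₀ = 0) : π u i₀ = 0 := by
  obtain ⟨c, hc1, hc2⟩ := image_support hπ (Finset.univ.erase i₀) u hu (by
    intro i hi
    rw [Finset.mem_erase] at hi
    push Not at hi
    by_cases h : i = i₀
    · rw [h]; exact h0
    · exact absurd (Finset.mem_univ i) (hi h))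
  have hc0 : c i₀ = 0 := hc1 i₀ (by simp)
  rw [hc2, Finset.sum_apply]
  apply Finset.sum_eq_zero
  intro i _
  obtain ⟨d, -, hd⟩ := h1 i
  rw [hd, Pi.smul_apply, Pi.smul_apply, smul_eq_mul, smul_eq_mul]
  by_cases h : i = i₀
  · rw [h, hc0, zero_mul]
  · rw [e_of_ne (Ne.symm h), mul_zero, mul_zero]

include hπ h1 in
theorem hyper (σ : F →+* F) {u : ι → F} (hu : u ≠ 0) (h0 : u i₀ = 0)
    (hA : Par (e i₀ + mapV σ u) (π (e i₀ + u))) : Par (mapV σ u) (π u) := by
  have hne : (e i₀ + u : ι → F) ≠ 0 := by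
    intro h
    have := congrFun h i₀
    simp [e_self, h0] at this
  obtain ⟨α, β, hαβ⟩ := hπ.line' hne (e_ne_zero i₀) hu hA (h1 i₀) ⟨1, -1, by module⟩
  have h3 := image_hyper hπ i₀ h1 hu h0
  rw [hαβ] at h3
  simp only [Pi.add_apply, Pi.smul_apply, smul_eq_mul, e_self, mapV_apply, h0, map_zero,
    add_zero, mul_one] at h3
  have hβ : β = -α := by linear_combination h3
  have hα : α ≠ 0 := by
    rintro rfl
    rw [hβ, neg_zero, zero_smul, zero_smul, add_zero] at hαβ
    exact hπ.ne_zero _ hu hαβ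
  refine ⟨α, hα, ?_⟩
  rw [hαβ, hβ]
  module

include hπ h1 h2 hj hk hjk in
theorem affine (S : Finset ι) :
    i₀ ∉ S → ∀ u : ι → F, (∀ i, i ∉ S → u i = 0) →
      Par (e i₀ + mapV (sgHom hπ i₀ h1 h2 hj hk hjk) u) (π (e i₀ + u)) := by
  induction S using Finset.induction_on with
  | empty =>
    intro _ u hu
    have : u = 0 := by
      funext i
      exact hu i (Finset.notMem_empty i)
    rw [this, mapV_zero, add_zero]
    exact h1 i₀
  | insert j S hjS ih =>
    intro hi₀ u hu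
    rw [Finset.mem_insert] at hi₀
    push Not at hi₀
    obtain ⟨hji, hi₀S⟩ := hi₀
    have hj' : j ≠ i₀ := Ne.symm hji
    obtain ⟨u', hu'⟩ : ∃ u' : ι → F, u' = Function.update u j 0 := ⟨_, rfl⟩
    have hu'S : ∀ i, i ∉ S → u' i = 0 := by
      intro i hi
      rw [hu']
      by_cases hij : i = j
      · subst hij; simp
      · rw [Function.update_of_ne hij]
        apply hu
        rw [Finset.mem_insert]
        push Not
        exact ⟨hij, hi⟩
    obtain ⟨a, ha⟩ : ∃ a : F, a = u j := ⟨_, rfl⟩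
    have hdec : u = u' + a • e j := by
      funext i
      rw [hu', ha]
      by_cases hij : i = j
      · subst hij; simp [e]
      · simp [e, Function.update_of_ne hij, Pi.single_eq_of_ne hij]
    clear ha
    have hu'j : u' j = 0 := by rw [hu']; simp
    have hu'i₀ : u' i₀ = 0 := hu'S i₀ hi₀S
    obtain ⟨σ, hσ⟩ : ∃ σ : F →+* F, σ = sgHom hπ i₀ h1 h2 hj hk hjk := ⟨_, rfl⟩
    rw [← hσ]
    have hA := ih hi₀S u' hu'S
    rw [← hσ] at hA
    have hmap : mapV σ u = mapV σ u' + σ a • e j := by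
      rw [hdec, mapV_add, mapV_smul, mapV_e]
    by_cases h0 : u' = 0
    · rw [hmap, hdec, h0, mapV_zero, zero_add, zero_add, hσ, ← sg_all hπ i₀ h1 h2 hj hk hjk hj']
      exact sg_spec hπ i₀ h1 hj' a
    · have hB := hyper hπ i₀ h1 σ h0 hu'i₀ hA
      have hne : (e i₀ + u : ι → F) ≠ 0 := by
        intro h
        have := congrFun h i₀
        rw [hdec] at this
        simp [e_self, hu'i₀, e_of_ne hji] at this
      have hne' : (e i₀ + u' : ι → F) ≠ 0 := by
        intro h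
        have := congrFun h i₀
        simp [e_self, hu'i₀] at this
      obtain ⟨α, β, hαβ⟩ := hπ.line' hne' (e_ne_zero j) hne hA (h1 j)
        ⟨1, a, by rw [hdec]; module⟩
      have hsp := sg_spec hπ i₀ h1 hj' a
      rw [sg_all hπ i₀ h1 h2 hj hk hjk hj', ← hσ] at hsp
      obtain ⟨α', β', hαβ'⟩ := hπ.line' (e_add_smul_ne_zero hji a) h0 hne hsp hB
        ⟨1, 1, by rw [hdec]; module⟩
      have h3 := hαβ.symm.trans hαβ'
      have h4 := congrFun h3 i₀
      have h5 := congrFun h3 j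
      simp only [Pi.add_apply, Pi.smul_apply, smul_eq_mul, e_self, mapV_apply, hu'i₀, hu'j,
        map_zero, e_of_ne hji, e_of_ne hj', add_zero, mul_one, mul_zero, zero_add] at h4 h5
      have hα : α ≠ 0 := by
        rintro rfl
        rw [← h4, zero_mul] at h5
        rw [h5, zero_smul, zero_smul, add_zero] at hαβ
        exact hπ.ne_zero _ hne hαβ
      refine ⟨α, hα, ?_⟩
      rw [hαβ, hmap, h5, ← h4]
      module

include hπ h1 h2 hj hk hjk in
/-- a normalised collineation is induced by a field endomorphism -/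
theorem normalized_semilinear (v : ι → F) (hv : v ≠ 0) :
    Par (mapV (sgHom hπ i₀ h1 h2 hj hk hjk) v) (π v) := by
  obtain ⟨σ, hσ⟩ : ∃ σ : F →+* F, σ = sgHom hπ i₀ h1 h2 hj hk hjk := ⟨_, rfl⟩
  rw [← hσ]
  have key : ∀ u : ι → F, u i₀ = 0 → Par (e i₀ + mapV σ u) (π (e i₀ + u)) := by
    intro u hu
    rw [hσ]
    apply affine hπ i₀ h1 h2 hj hk hjk (Finset.univ.erase i₀) (by simp) u
    intro i hi
    rw [Finset.mem_erase] at hi
    push Not at hi
    by_cases h : i = i₀
    · rw [h]; exact hu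
    · exact absurd (Finset.mem_univ i) (hi h)
  by_cases h0 : v i₀ = 0
  · exact hyper hπ i₀ h1 σ hv h0 (key v h0)
  · obtain ⟨c, hc⟩ : ∃ c : F, c = v i₀ := ⟨_, rfl⟩
    rw [← hc] at h0
    obtain ⟨u, hu⟩ : ∃ u : ι → F, u = c⁻¹ • v - e i₀ := ⟨_, rfl⟩
    have hu0 : u i₀ = 0 := by
      rw [hu]
      simp [← hc, inv_mul_cancel₀ h0]
    have hvu : v = c • (e i₀ + u) := by
      rw [hu, add_sub_cancel, smul_smul, mul_inv_cancel₀ h0, one_smul]
    clear hc
    have hne : (e i₀ + u : ι → F) ≠ 0 := by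
      intro h
      have := congrFun h i₀
      simp [hu0] at this
    have hp1 : Par (e i₀ + u) v := ⟨c, h0, hvu⟩
    have hp2 := hπ.par hne hp1
    have hp3 : Par (mapV σ v) (e i₀ + mapV σ u) := by
      refine ⟨(σ c)⁻¹, inv_ne_zero ((map_ne_zero σ).2 h0), ?_⟩
      rw [hvu, mapV_smul, mapV_add, mapV_e, smul_smul, inv_mul_cancel₀ ((map_ne_zero σ).2 h0),
        one_smul]
    exact (hp3.trans (key u hu0)).trans hp2

end final

/-- **The fundamental theorem of projective geometry** over a finite field, in coordinates: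
a collineation of a projective space of dimension at least two is induced by a semilinear
bijection. -/
theorem fundamental [Finite F] {π : (ι → F) → (ι → F)} (hπ : Coll π)
    (h3 : 3 ≤ Fintype.card ι) :
    ∃ (σ : F ≃+* F) (G Gi : Matrix ι ι F), G * Gi = 1 ∧ Gi * G = 1 ∧
      ∀ v : ι → F, v ≠ 0 → Par (G *ᵥ (fun i => σ (v i))) (π v) := by
  classical
  obtain ⟨i₀, j₁, k₁, h01, h02, h12⟩ := Fintype.two_lt_card_iff.1 (by omega : 2 < Fintype.card ι)
  obtain ⟨G, Gi, hGGi, hGiG, hc, hn1, hn2⟩ := exists_norm hπ i₀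
  have hj : j₁ ≠ i₀ := Ne.symm h01
  have hk : k₁ ≠ i₀ := Ne.symm h02
  have hinj : Function.Injective (sgHom hc i₀ hn1 hn2 hj hk h12) := RingHom.injective _
  have hbij : Function.Bijective (sgHom hc i₀ hn1 hn2 hj hk h12) :=
    ⟨hinj, Finite.injective_iff_surjective.1 hinj⟩
  refine ⟨RingEquiv.ofBijective _ hbij, G, Gi, hGGi, hGiG, ?_⟩
  intro v hv
  obtain ⟨c, hc0, hc2⟩ := normalized_semilinear hc i₀ hn1 hn2 hj hk h12 v hv
  refine ⟨c, hc0, ?_⟩
  have h4 : π v = G *ᵥ (Gi *ᵥ π v) := by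
    rw [mulVec_mulVec, hGGi, one_mulVec]
  rw [h4, hc2, mulVec_smul]
  rfl

end

end Cfsg.Agent.Lib.H13.FTPG
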