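import Cfsg.Agent.Lib.H13.ONBCount

set_option autoImplicit false

namespace Cfsg.Agent.Lib.H13.CentrArith

open Cfsg.Agent.Lib.H13.ONBCount Finset

/-- `∏_{i=1}^k (q^(2i) - 1)` -/
def PP (q k : ℕ) : ℕ := ∏ i ∈ Finset.range k, (q ^ (2 * (i + 1)) - 1)

theorem PP_succ (q k : ℕ) : PP q (k + 1) = PP q k * (q ^ (2 * (k + 1)) - 1) :=
  Finset.prod_range_succ _ _

theorem PP_zero (q : ℕ) : PP q 0 = 1 := Finset.prod_range_zero _

theorem aNum_closed (q r : ℕ) : aNum q (2 * r + 1) = q ^ (r ^ 2) * PP q r ∧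
    aNum q (2 * r + 2) = q ^ (2 * r + 1) * (q ^ (r ^ 2) * PP q r) := by
  induction r with
  | zero =>
    constructor
    · simp [aNum, PP_zero]
    · simp [aNum, PP_zero]
  | succ r ih =>
    obtain ⟨ih1, ih2⟩ := ih
    have h1 : aNum q (2 * (r + 1) + 1) = q ^ ((r + 1) ^ 2) * PP q (r + 1) := by
      have e : 2 * (r + 1) + 1 = (2 * r + 1) + 2 := by ring
      rw [e]
      show (q ^ (2 * r + 1 + 1) - (if Even (2 * r + 1) then 0 else 1)) * aNum q (2 * r + 1 + 1) = _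
      have hodd : ¬ Even (2 * r + 1) := by
        rw [Nat.not_even_iff_odd]; exact ⟨r, rfl⟩
      rw [if_neg hodd, show 2 * r + 1 + 1 = 2 * r + 2 by ring, ih2, PP_succ]
      have e2 : (r + 1) ^ 2 = (2 * r + 1) + r ^ 2 := by ring
      rw [e2, pow_add, show 2 * (r + 1) = 2 * r + 2 by ring]
      ring_nf
    refine ⟨h1, ?_⟩
    have e : 2 * (r + 1) + 2 = (2 * r + 2) + 2 := by ring
    rw [e]
    show (q ^ (2 * r + 2 + 1) - (if Even (2 * r + 2) then 0 else 1)) * aNum q (2 * r + 2 + 1) = _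
    have hev : Even (2 * r + 2) := ⟨r + 1, by ring⟩
    rw [if_pos hev, Nat.sub_zero, show 2 * r + 2 + 1 = 2 * (r + 1) + 1 by ring, h1]

theorem frames_prod (q s k : ℕ) :
    ∏ i ∈ range s, (q ^ (2 * (s + k) - i) - q ^ i) =
      q ^ (∑ i ∈ range s, i) * ∏ x ∈ range s, (q ^ (2 * (k + x + 1)) - 1) := by
  rw [← Finset.prod_pow_eq_pow_sum]
  have h1 : ∏ x ∈ range s, (q ^ (2 * (k + x + 1)) - 1) =
      ∏ i ∈ range s, (q ^ (2 * (s + k - i)) - 1) := by
    rw [← Finset.prod_range_reflect]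
    apply Finset.prod_congr rfl
    intro i hi
    rw [Finset.mem_range] at hi
    congr 3
    omega
  rw [h1, ← Finset.prod_mul_distrib]
  apply Finset.prod_congr rfl
  intro i hi
  rw [Finset.mem_range] at hi
  rw [Nat.mul_sub, mul_one, ← pow_add]
  congr 2
  omega

theorem PP_add (q k s : ℕ) :
    PP q (k + s) = PP q k * ∏ x ∈ range s, (q ^ (2 * (k + x + 1)) - 1) := by
  unfold PP
  rw [Finset.prod_range_add]

theorem PP_pos (q k : ℕ) (hq : 2 ≤ q) : 0 < PP q k := by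
  unfold PP
  apply Finset.prod_pos
  intro i _
  have : 1 < q ^ (2 * (i + 1)) := Nat.one_lt_pow (by omega) (by omega)
  omega

/-- the final cancellation -/
theorem centr_arith (q s k C N N' b E : ℕ) (hq : 2 ≤ q) (hN : N = q ^ b * N')
    (hE : E + k ^ 2 + ∑ i ∈ range s, i = b + (s + k) ^ 2)
    (h : C * ∏ i ∈ range s, (q ^ (2 * (s + k) - i) - q ^ i) =
      N * (q ^ ((s + k) ^ 2) * PP q (s + k))) :
    C = q ^ E * N' * (q ^ (k ^ 2) * PP q k) := by
  rw [frames_prod q s k, add_comm s k, PP_add, hN] at h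
  set R := ∏ x ∈ range s, (q ^ (2 * (k + x + 1)) - 1) with hR
  set a := ∑ i ∈ range s, i with ha
  have hRpos : 0 < R := by
    apply Finset.prod_pos
    intro i _
    have : 1 < q ^ (2 * (k + i + 1)) := Nat.one_lt_pow (by omega) (by omega)
    omega
  have hpos : 0 < q ^ a * R := Nat.mul_pos (pow_pos (by omega) _) hRpos
  apply Nat.eq_of_mul_eq_mul_right hpos
  rw [h]
  have : q ^ E * N' * (q ^ (k ^ 2) * PP q k) * (q ^ a * R) =
      q ^ (E + k ^ 2 + a) * N' * PP q k * R := by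
    rw [pow_add, pow_add]; ring
  rw [this, hE, add_comm s k, pow_add]
  ring

theorem sum_range_id' (s : ℕ) : 2 * ∑ i ∈ range s, i + s = s * s := by
  have := Finset.sum_range_id_mul_two s
  rcases s with _ | s
  · simp
  · rw [Nat.add_sub_cancel] at this
    rw [mul_comm 2, this]
    ring

theorem exp1 (s k : ℕ) :
    2 * (s + k) * s - (3 * s ^ 2 - s) / 2 + k ^ 2 + ∑ i ∈ range s, i = 0 + (s + k) ^ 2 := by
  have h := sum_range_id' s
  set a := ∑ i ∈ range s, i
  have e1 : 2 * (s + k) * s = 2 * (s * s) + 2 * (s * k) := by ring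
  have e2 : (s + k) ^ 2 = s * s + 2 * (s * k) + k * k := by ring
  rw [e1, e2, pow_two, pow_two]
  omega

theorem exp2 (s k : ℕ) (hs : 1 ≤ s) :
    2 * (s + k) * s - (3 * s ^ 2 - 3 * s) / 2 - 1 + k ^ 2 + ∑ i ∈ range s, i =
      (s - 1) + (s + k) ^ 2 := by
  have h := sum_range_id' s
  set a := ∑ i ∈ range s, i
  have e1 : 2 * (s + k) * s = 2 * (s * s) + 2 * (s * k) := by ring
  have e2 : (s + k) ^ 2 = s * s + 2 * (s * k) + k * k := by ring
  have e3 : s ≤ s * s := Nat.le_mul_self s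
  rw [e1, e2, pow_two, pow_two]
  omega

end Cfsg.Agent.Lib.H13.CentrArith
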