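import Cfsg.Agent.Lib.H13.SpCentr
import Cfsg.Agent.Lib.H13.CentrArith

set_option autoImplicit false

namespace Cfsg.Agent.Lib.H13.SpCentr

open Module Matrix Finset
open Cfsg.Agent.Lib.H13.SpInvol Cfsg.Agent.Lib.H13.SpInvolCount Cfsg.Agent.Lib.H13.NFFibre
open Cfsg.Agent.Lib.H13.ONBCount Cfsg.Agent.Lib.H13.CentrArith

section frames

variable {F V : Type*} [Field F] [AddCommGroup V] [Module F V] (f : LinearMap.BilinForm F V)

theorem card_frames_equiv {ι κ : Type*} (e : ι ≃ κ) :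
    Nat.card {w : ι → V // LinearIndependent F w ∧ ∀ i j, f (w i) (w j) = 0} =
      Nat.card {w : κ → V // LinearIndependent F w ∧ ∀ i j, f (w i) (w j) = 0} := by
  apply Nat.card_congr
  refine Equiv.subtypeEquiv (Equiv.arrowCongr e (Equiv.refl V)) ?_
  intro w
  have e1 : (Equiv.arrowCongr e (Equiv.refl V)) w = w ∘ e.symm := by
    funext i; simp [Equiv.arrowCongr]
  rw [e1, linearIndependent_equiv]
  constructor
  · rintro ⟨h1, h2⟩
    exact ⟨h1, fun i j => h2 _ _⟩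
  · rintro ⟨h1, h2⟩
    refine ⟨h1, fun i j => ?_⟩
    have := h2 (e i) (e j)
    simpa using this

end frames

section sp

variable {F : Type*} [Field F] [Fintype F] [CharP F 2] (m : ℕ)

set_option quotPrecheck false in
local notation "Sp" => ↥(Matrix.symplecticGroup (Fin m) F)

set_option quotPrecheck false in
local notation "MM" => Matrix (Fin m ⊕ Fin m) (Fin m ⊕ Fin m) F

set_option quotPrecheck false in
local notation "VV" => (Fin m ⊕ Fin m → F)

theorem finrank_VV : finrank F VV = 2 * m := by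
  rw [finrank_fintype_fun_eq_card, Fintype.card_sum, Fintype.card_fin]; ring

theorem card_centralizer_id (t : Sp) (s : ℕ) (w : Fin s → VV)
    (hw : IsNF (sympB m) (Matrix.toLin' (t : MM)) id w) :
    ∃ k, m = s + k ∧
      Nat.card ↥(Subgroup.centralizer ({t} : Set Sp)) *
        ∏ i ∈ range s, (Fintype.card F ^ (2 * (s + k) - i) - Fintype.card F ^ i) =
      aNum (Fintype.card F) s *
        (Fintype.card F ^ ((s + k) ^ 2) * PP (Fintype.card F) (s + k)) := by
  have hle := hw.two_mul_card_le (sympB_nondeg m)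
  rw [finrank_VV, Fintype.card_fin] at hle
  obtain ⟨k, rfl⟩ : ∃ k, m = s + k := ⟨m - s, by omega⟩
  refine ⟨k, rfl, ?_⟩
  have key := card_centralizer_mul (s + k) t id w hw
  rw [FrameCount.card_frames (sympB_nondeg (s + k)) (sympB_alt (s + k)) s, finrank_VV,
    card_NF_id (sympB_nondeg (s + k)) (sympB_alt (s + k)) hw,
    Cfsg.Agent.Lib.H2.Sp.card_Sp] at key
  exact key

theorem card_centralizer_swap (t : Sp) (r : ℕ) (w : Fin r ⊕ Fin r → VV)
    (hw : IsNF (sympB m) (Matrix.toLin' (t : MM)) Sum.swap w) :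
    ∃ k, m = 2 * r + k ∧
      Nat.card ↥(Subgroup.centralizer ({t} : Set Sp)) *
        ∏ i ∈ range (2 * r), (Fintype.card F ^ (2 * (2 * r + k) - i) - Fintype.card F ^ i) =
      (Fintype.card F ^ (r ^ 2) * PP (Fintype.card F) r) *
        (Fintype.card F ^ ((2 * r + k) ^ 2) * PP (Fintype.card F) (2 * r + k)) := by
  classical
  have hle := hw.two_mul_card_le (sympB_nondeg m)
  rw [finrank_VV, Fintype.card_sum, Fintype.card_fin] at hle
  obtain ⟨k, rfl⟩ : ∃ k, m = 2 * r + k := ⟨m - 2 * r, by omega⟩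
  refine ⟨k, rfl, ?_⟩
  have key := card_centralizer_mul (2 * r + k) t Sum.swap w hw
  have e : Fin r ⊕ Fin r ≃ Fin (2 * r) := finSumFinEquiv.trans (finCongr (by ring))
  rw [card_frames_equiv (sympB (F := F) (2 * r + k)) e,
    FrameCount.card_frames (sympB_nondeg (2 * r + k)) (sympB_alt (2 * r + k)) (2 * r), finrank_VV,
    card_NF_swap (sympB_nondeg (2 * r + k)) (sympB_alt (2 * r + k)) hw,
    Cfsg.Agent.Lib.H2.Sp.card_Sp] at key
  exact key

theorem rank_one_sub : (((1 : Sp) : MM) - 1).rank = 0 := by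
  rw [show ((1 : Sp) : MM) = 1 from rfl, sub_self, Matrix.rank_zero]

theorem PP_eq_fin (q k : ℕ) : PP q k = ∏ i : Fin k, (q ^ (2 * ((i : ℕ) + 1)) - 1) := by
  unfold PP
  rw [← Fin.prod_univ_eq_prod_range (fun i => q ^ (2 * (i + 1)) - 1) k]

/-- the non-alternating normal form with the right number of vectors -/
theorem exists_NF_id_rank (t : Sp) (ht : t * t = 1) {s : ℕ} (hs : ((t : MM) - 1).rank = s)
    (hna : ∃ v : VV, Cfsg.sympForm m F v ((t : MM) *ᵥ v) ≠ 0) :
    ∃ w : Fin s → VV, IsNF (sympB m) (Matrix.toLin' (t : MM)) id w := by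
  obtain ⟨s', w, hw⟩ := exists_NF_id (sympB_nondeg (F := F) m) (sympB_alt m)
    (Matrix.toLin' (t : MM)) (toLin_sq m t ht) (toLin_iso m t) (by
      obtain ⟨v, hv⟩ := hna
      exact ⟨v, by rw [sympB_apply, Matrix.toLin'_apply]; exact hv⟩)
  have hs' : s' = s := by
    have := hw.finrank_range (sympB_nondeg m) (sympB_alt m) (fun _ => rfl)
    rw [← rank_eq, hs, Fintype.card_fin] at this
    exact this.symm
  subst hs'
  exact ⟨w, hw⟩

theorem exists_NF_swap_rank (t : Sp) (ht : t * t = 1) {s : ℕ} (hs : ((t : MM) - 1).rank = s)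
    (halt : ∀ v : VV, Cfsg.sympForm m F v ((t : MM) *ᵥ v) = 0) :
    ∃ (r : ℕ) (w : Fin r ⊕ Fin r → VV), s = 2 * r ∧
      IsNF (sympB m) (Matrix.toLin' (t : MM)) Sum.swap w := by
  obtain ⟨r, w, hw⟩ := exists_NF_swap (sympB_nondeg (F := F) m) (sympB_alt m)
    (Matrix.toLin' (t : MM)) (toLin_sq m t ht) (toLin_iso m t) (by
      intro v
      rw [sympB_apply, Matrix.toLin'_apply]; exact halt v)
  refine ⟨r, w, ?_, hw⟩
  have := hw.finrank_range (sympB_nondeg m) (sympB_alt m) Sum.swap_swap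
  rw [← rank_eq, hs, Fintype.card_sum, Fintype.card_fin] at this
  omega

/-- centraliser order, type `b_s` -/
theorem centralizer_b {q : ℕ} (hF : Fintype.card F = q) {s : ℕ} (t : Sp) (ht : t ^ 2 = 1)
    (hs : ((t : MM) - 1).rank = s) (hodd : Odd s) :
    Nat.card ↥(Subgroup.centralizer ({t} : Set Sp)) =
      q ^ (2 * m * s - (3 * s ^ 2 - s) / 2) *
        (q ^ (((s - 1) / 2) ^ 2) * ∏ i : Fin ((s - 1) / 2), (q ^ (2 * ((i : ℕ) + 1)) - 1)) *
        (q ^ ((m - s) ^ 2) * ∏ i : Fin (m - s), (q ^ (2 * ((i : ℕ) + 1)) - 1)) := by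
  subst hF
  have ht' : t * t = 1 := by rw [← pow_two]; exact ht
  have ht1 : t ≠ 1 := by
    rintro rfl
    rw [rank_one_sub] at hs
    subst hs
    exact (by decide : ¬ Odd 0) hodd
  have hna : ∃ v : VV, Cfsg.sympForm m F v ((t : MM) *ᵥ v) ≠ 0 := by
    by_contra h
    push Not at h
    have := (invariants_range_sp m t ht' ht1).2.2 h
    rw [hs] at this
    exact (Nat.not_even_iff_odd.mpr hodd) this
  obtain ⟨w, hw⟩ := exists_NF_id_rank m t ht' hs hna
  obtain ⟨k, rfl, key⟩ := card_centralizer_id m t s w hw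
  obtain ⟨r, rfl⟩ := hodd
  have hq : 2 ≤ Fintype.card F := Fintype.one_lt_card
  have := centr_arith (Fintype.card F) (2 * r + 1) k _ _
    (Fintype.card F ^ (r ^ 2) * PP (Fintype.card F) r) 0 _ hq
    (by rw [(aNum_closed (Fintype.card F) r).1, pow_zero, one_mul]) (exp1 (2 * r + 1) k) key
  rw [this, PP_eq_fin, PP_eq_fin]
  have e1 : (2 * r + 1 - 1) / 2 = r := by omega
  have e2 : 2 * r + 1 + k - (2 * r + 1) = k := by omega
  rw [e1, e2]

/-- centraliser order, type `c_s` -/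
theorem centralizer_c {q : ℕ} (hF : Fintype.card F = q) {s : ℕ} (t : Sp) (ht : t ^ 2 = 1)
    (hs : ((t : MM) - 1).rank = s) (heven : Even s)
    (hna : ∃ v : VV, Cfsg.sympForm m F v ((t : MM) *ᵥ v) ≠ 0) :
    Nat.card ↥(Subgroup.centralizer ({t} : Set Sp)) =
      q ^ (2 * m * s - (3 * s ^ 2 - 3 * s) / 2 - 1) *
        (q ^ (((s - 2) / 2) ^ 2) * ∏ i : Fin ((s - 2) / 2), (q ^ (2 * ((i : ℕ) + 1)) - 1)) *
        (q ^ ((m - s) ^ 2) * ∏ i : Fin (m - s), (q ^ (2 * ((i : ℕ) + 1)) - 1)) := by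
  subst hF
  have ht' : t * t = 1 := by rw [← pow_two]; exact ht
  have hs0 : s ≠ 0 := by
    rintro rfl
    obtain ⟨w, hw⟩ := exists_NF_id_rank m t ht' hs hna
    have := hw.eq_id_of_isEmpty
    obtain ⟨v, hv⟩ := hna
    apply hv
    rw [← Matrix.toLin'_apply, this, LinearMap.id_apply, ← sympB_apply]
    exact sympB_alt m v
  obtain ⟨w, hw⟩ := exists_NF_id_rank m t ht' hs hna
  obtain ⟨k, rfl, key⟩ := card_centralizer_id m t s w hw
  obtain ⟨r, rfl⟩ : ∃ r, s = 2 * r + 2 := by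
    obtain ⟨j, hj⟩ := heven
    exact ⟨j - 1, by omega⟩
  have hq : 2 ≤ Fintype.card F := Fintype.one_lt_card
  have := centr_arith (Fintype.card F) (2 * r + 2) k _ _
    (Fintype.card F ^ (r ^ 2) * PP (Fintype.card F) r) (2 * r + 2 - 1) _ hq
    (by rw [(aNum_closed (Fintype.card F) r).2]; rfl) (exp2 (2 * r + 2) k (by omega)) key
  rw [this, PP_eq_fin, PP_eq_fin]
  have e1 : (2 * r + 2 - 2) / 2 = r := by omega
  have e2 : 2 * r + 2 + k - (2 * r + 2) = k := by omega
  rw [e1, e2]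

/-- centraliser order, type `a_s` -/
theorem centralizer_a {q : ℕ} (hF : Fintype.card F = q) {s : ℕ} (t : Sp) (ht : t ^ 2 = 1)
    (hs : ((t : MM) - 1).rank = s)
    (halt : ∀ v : VV, Cfsg.sympForm m F v ((t : MM) *ᵥ v) = 0) :
    Nat.card ↥(Subgroup.centralizer ({t} : Set Sp)) =
      q ^ (2 * m * s - (3 * s ^ 2 - s) / 2) *
        (q ^ ((s / 2) ^ 2) * ∏ i : Fin (s / 2), (q ^ (2 * ((i : ℕ) + 1)) - 1)) *
        (q ^ ((m - s) ^ 2) * ∏ i : Fin (m - s), (q ^ (2 * ((i : ℕ) + 1)) - 1)) := by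
  subst hF
  have ht' : t * t = 1 := by rw [← pow_two]; exact ht
  obtain ⟨r, w, rfl, hw⟩ := exists_NF_swap_rank m t ht' hs halt
  obtain ⟨k, rfl, key⟩ := card_centralizer_swap m t r w hw
  have hq : 2 ≤ Fintype.card F := Fintype.one_lt_card
  have := centr_arith (Fintype.card F) (2 * r) k _ _
    (Fintype.card F ^ (r ^ 2) * PP (Fintype.card F) r) 0 _ hq
    (by rw [pow_zero, one_mul]) (exp1 (2 * r) k) key
  rw [this, PP_eq_fin, PP_eq_fin]
  have e1 : 2 * r / 2 = r := by omega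
  have e2 : 2 * r + k - 2 * r = k := by omega
  rw [e1, e2]

end sp

end Cfsg.Agent.Lib.H13.SpCentr
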