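import Cfsg.Agent.Lib.H2.SpPerfect
import Cfsg.Agent.Lib.H13.SpInvolCount
import Cfsg.Prelude.Def_SporadicB

set_option autoImplicit false

namespace Cfsg.Agent.Lib.H13.SpThreeTransp

open Matrix Module
open Cfsg.Agent.Lib.H4 Cfsg.Agent.Lib.H2.Sp

variable {F : Type*} [Field F] (m : ℕ)

set_option quotPrecheck false in
local notation "Sp" => ↥(Matrix.symplecticGroup (Fin m) F)

set_option quotPrecheck false in
local notation "MM" => Matrix (Fin m ⊕ Fin m) (Fin m ⊕ Fin m) F

set_option quotPrecheck false in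
local notation "VV" => (Fin m ⊕ Fin m → F)

/-- the set of symplectic transvections: `rank (g - 1) = 1` -/
def DS : Set Sp := {g | ((g : MM) - 1).rank = 1}

theorem tv_sub_one_mulVec (v : VV) (c : F) (y : VV) :
    ((tv m v c : MM) - 1) *ᵥ y = (c * Cfsg.sympForm m F y v) • v := by
  rw [Matrix.sub_mulVec, Matrix.one_mulVec, tv_mulVec, add_sub_cancel_left]

theorem rank_tv (v : VV) (c : F) (hv : v ≠ 0) (hc : c ≠ 0) : ((tv m v c : MM) - 1).rank = 1 := by
  have hrange : LinearMap.range (Matrix.mulVecLin ((tv m v c : MM) - 1)) =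
      Submodule.span F {v} := by
    apply le_antisymm
    · rintro _ ⟨y, rfl⟩
      rw [Matrix.mulVecLin_apply, tv_sub_one_mulVec]
      exact Submodule.smul_mem _ _ (Submodule.subset_span rfl)
    · rw [Submodule.span_le, Set.singleton_subset_iff]
      obtain ⟨y, hy⟩ := exists_sympForm_ne_zero m v hv
      have hy' : Cfsg.sympForm m F y v ≠ 0 := by
        rw [sympForm_swap, neg_ne_zero]; exact hy
      refine ⟨(c * Cfsg.sympForm m F y v)⁻¹ • y, ?_⟩
      rw [Matrix.mulVecLin_apply, tv_sub_one_mulVec, sympForm_smul_left]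
      have : c * ((c * Cfsg.sympForm m F y v)⁻¹ * Cfsg.sympForm m F y v) = 1 := by
        field_simp
      rw [this, one_smul]
  show finrank F ↥(LinearMap.range (Matrix.mulVecLin ((tv m v c : MM) - 1))) = 1
  rw [hrange]
  exact finrank_span_singleton hv

/-- an element of `Sp` with `rank (g - 1) = 1` is a transvection -/
theorem exists_tv_of_rank_one (g : Sp) (hg : ((g : MM) - 1).rank = 1) :
    ∃ (w : VV) (c : F), w ≠ 0 ∧ c ≠ 0 ∧ g = tv m w c := by
  obtain ⟨N, hNdef⟩ : ∃ N : MM, N = (g : MM) - 1 := ⟨_, rfl⟩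
  rw [← hNdef] at hg
  have hg' : finrank F ↥(LinearMap.range (Matrix.mulVecLin N)) = 1 := hg
  obtain ⟨⟨w, hwmem⟩, hw0, hspan⟩ := finrank_eq_one_iff'.mp hg'
  have hw0' : w ≠ 0 := fun h => hw0 (Subtype.ext h)
  obtain ⟨y₀, hy₀⟩ := hwmem
  rw [Matrix.mulVecLin_apply] at hy₀
  have hN : ∀ y, ∃ c : F, N *ᵥ y = c • w := by
    intro y
    obtain ⟨c, hc⟩ := hspan ⟨N *ᵥ y, ⟨y, rfl⟩⟩
    exact ⟨c, (congrArg Subtype.val hc).symm⟩
  have hgy : ∀ y, (g : MM) *ᵥ y = y + N *ᵥ y := by
    intro y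
    rw [hNdef, Matrix.sub_mulVec, Matrix.one_mulVec]
    abel
  have hiso := (mem_symplecticGroup_iff_sympForm m _).mp g.2
  -- `c_x f(y₀, w) = f(x, w)`
  have hkey : ∀ x c, N *ᵥ x = c • w → c * Cfsg.sympForm m F y₀ w = Cfsg.sympForm m F x w := by
    intro x c hc
    have h1 := hiso x y₀
    rw [hgy, hgy, hc, hy₀] at h1
    simp only [sympForm_add_left, sympForm_add_right, sympForm_smul_left, sympForm_self,
      mul_zero, add_zero] at h1
    rw [sympForm_swap m w y₀] at h1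
    linear_combination -h1
  have hκ : Cfsg.sympForm m F y₀ w ≠ 0 := by
    intro h0
    obtain ⟨z, hz⟩ := exists_sympForm_ne_zero m w hw0'
    apply hz
    obtain ⟨c, hc⟩ := hN z
    have := hkey z c hc
    rw [h0, mul_zero] at this
    rw [sympForm_swap, ← this, neg_zero]
  refine ⟨w, (Cfsg.sympForm m F y₀ w)⁻¹, hw0', inv_ne_zero hκ, ?_⟩
  apply Subtype.ext
  apply Matrix.ext_iff_mulVec.mpr
  intro y
  obtain ⟨c, hc⟩ := hN y
  rw [hgy, hc, tv_mulVec, ← hkey y c hc]
  congr 2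
  field_simp

theorem mem_DS_iff (g : Sp) :
    g ∈ DS (F := F) m ↔ ∃ (w : VV) (c : F), w ≠ 0 ∧ c ≠ 0 ∧ g = tv m w c := by
  constructor
  · exact exists_tv_of_rank_one m g
  · rintro ⟨w, c, hw, hc, rfl⟩
    exact rank_tv m w c hw hc

theorem tv_mul_tv (v : VV) (c d : F) : tv m v c * tv m v d = tv m v (c + d) := by
  apply Subtype.ext
  exact sympTransvection_mul m v c d

theorem tv_zero (v : VV) : tv m v (0 : F) = 1 := by
  apply Subtype.ext
  show Cfsg.sympTransvection m v 0 = 1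
  unfold Cfsg.sympTransvection
  simp

theorem conj_tv (g : Sp) (v : VV) (c : F) :
    g * tv m v c * g⁻¹ = tv m ((g : MM) *ᵥ v) c := by
  rw [mul_inv_eq_iff_eq_mul]
  apply Subtype.ext
  apply Matrix.ext_iff_mulVec.mpr
  intro y
  show ((g : MM) * (tv m v c : MM)) *ᵥ y = ((tv m ((g : MM) *ᵥ v) c : MM) * (g : MM)) *ᵥ y
  rw [← Matrix.mulVec_mulVec, ← Matrix.mulVec_mulVec, tv_mulVec, tv_mulVec, Matrix.mulVec_add,
    Matrix.mulVec_smul, (mem_symplecticGroup_iff_sympForm m _).mp g.2]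

section char2

variable [CharP F 2]

theorem tv_sq (v : VV) (c : F) : tv m v c * tv m v c = 1 := by
  rw [tv_mul_tv, CharTwo.add_self_eq_zero, tv_zero]

theorem tv_inv (v : VV) (c : F) : (tv m v c)⁻¹ = tv m v c :=
  inv_eq_of_mul_eq_one_left (tv_sq m v c)

theorem tv_comm_of_orth (u v : VV) (huv : Cfsg.sympForm m F v u = 0) :
    (tv m u (1 : F) * tv m v 1) ^ 2 = 1 := by
  have h1 : (tv m u (1 : F) : MM) *ᵥ v = v := by
    rw [tv_mulVec, huv, mul_zero, zero_smul, add_zero]
  have h2 := conj_tv m (tv m u (1 : F)) v 1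
  rw [h1, tv_inv] at h2
  rw [sq]
  calc tv m u (1 : F) * tv m v 1 * (tv m u 1 * tv m v 1)
      = (tv m u 1 * tv m v 1 * tv m u 1) * tv m v 1 := by group
    _ = tv m v 1 * tv m v 1 := by rw [h2]
    _ = 1 := tv_sq m v 1

theorem tv_cube (u v : VV) (huv : Cfsg.sympForm m F v u = 1) :
    (tv m u (1 : F) * tv m v 1) ^ 3 = 1 := by
  have huv' : Cfsg.sympForm m F u v = 1 := by
    rw [sympForm_swap, huv, CharTwo.neg_eq]
  have h1 : (tv m u (1 : F) : MM) *ᵥ v = u + v := by
    rw [tv_mulVec, huv, mul_one, one_smul, add_comm]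
  have h1' : (tv m v (1 : F) : MM) *ᵥ u = u + v := by
    rw [tv_mulVec, huv', mul_one, one_smul]
  have h2 := conj_tv m (tv m u (1 : F)) v 1
  have h2' := conj_tv m (tv m v (1 : F)) u 1
  rw [h1, tv_inv] at h2
  rw [h1', tv_inv] at h2'
  have : (tv m u (1 : F) * tv m v 1) ^ 3 =
      (tv m u 1 * tv m v 1 * tv m u 1) * (tv m v 1 * tv m u 1 * tv m v 1) := by
    rw [pow_succ, pow_succ, pow_one]; group
  rw [this, h2, h2', tv_sq]

/-- the symplectic transvections over the field of two elements form a class of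
`3`-transpositions -/
theorem isThreeTranspositionClass (hm : 1 ≤ m) (hone : ∀ x : F, x ≠ 0 → x = 1) :
    Cfsg.IsThreeTranspositionClass (DS (F := F) m) := by
  have hD : ∀ g : Sp, g ∈ DS (F := F) m ↔ ∃ w : VV, w ≠ 0 ∧ g = tv m w 1 := by
    intro g
    rw [mem_DS_iff]
    constructor
    · rintro ⟨w, c, hw, hc, rfl⟩
      exact ⟨w, hw, by rw [hone c hc]⟩
    · rintro ⟨w, hw, rfl⟩
      exact ⟨w, 1, hw, one_ne_zero, rfl⟩
  refine ⟨⟨?_, ?_⟩, ?_, ?_⟩
  · intro d hd
    obtain ⟨w, hw, rfl⟩ := (hD d).mp hd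
    rw [SpInvolCount.orderOf_two_iff]
    refine ⟨tv_sq m w 1, ?_⟩
    intro h1
    have h3 : ((tv m w (1 : F) : MM) - 1).rank = 1 := hd
    rw [h1] at h3
    have : (((1 : Sp) : MM) - 1) = 0 := by
      show (1 : MM) - 1 = 0
      exact sub_self _
    rw [this, Matrix.rank_zero] at h3
    omega
  · intro d hd e he
    obtain ⟨u, hu, rfl⟩ := (hD d).mp hd
    obtain ⟨v, hv, rfl⟩ := (hD e).mp he
    by_cases huv : Cfsg.sympForm m F v u = 0
    · exact Or.inl (tv_comm_of_orth m u v huv)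
    · exact Or.inr (tv_cube m u v (hone _ huv))
  · let u : VV := Pi.single (Sum.inl ⟨0, hm⟩) 1
    have hu : u ≠ 0 := by
      intro h
      have := congrFun h (Sum.inl ⟨0, hm⟩)
      simp [u] at this
    refine ⟨tv m u 1, (hD _).mpr ⟨u, hu, rfl⟩, ?_⟩
    ext g
    show g ∈ DS (F := F) m ↔ IsConj (tv m u 1) g
    rw [isConj_iff]
    constructor
    · intro hg
      obtain ⟨v, hv, rfl⟩ := (hD g).mp hg
      obtain ⟨c, hc⟩ := transitive m u v hu hv
      refine ⟨c, ?_⟩
      rw [conj_tv, hc]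
    · rintro ⟨c, rfl⟩
      rw [conj_tv]
      refine (hD _).mpr ⟨_, ?_, rfl⟩
      intro h0
      apply hu
      have hcc : ((c⁻¹ : Sp) : MM) * (c : MM) = 1 := by
        have := congrArg Subtype.val (inv_mul_cancel c)
        exact this
      have := congrArg (fun z => ((c⁻¹ : Sp) : MM) *ᵥ z) h0
      simp only [Matrix.mulVec_mulVec, hcc, Matrix.one_mulVec, Matrix.mulVec_zero] at this
      exact this
  · rw [eq_top_iff, ← TS_eq_top (F := F) m]
    unfold TS
    rw [Subgroup.closure_le]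
    rintro _ ⟨v, c, rfl⟩
    by_cases hc : c = 0
    · rw [hc, tv_zero]
      exact Subgroup.one_mem _
    · by_cases hv : v = 0
      · have : tv m v c = 1 := by
          apply Subtype.ext
          show Cfsg.sympTransvection m v c = 1
          rw [hv]
          unfold Cfsg.sympTransvection
          simp
        rw [this]
        exact Subgroup.one_mem _
      · exact Subgroup.subset_closure ((mem_DS_iff m _).mpr ⟨v, c, hv, hc, rfl⟩)

end char2

end Cfsg.Agent.Lib.H13.SpThreeTransp
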