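import Mathlib
import Cfsg.Agent.Lib.H2.SpSimple
import Cfsg.Agent.Lib.H13.SpThreeTransp
import Cfsg.Agent.Lib.H13.SpCentrFinal
import Cfsg.Agent.Lib.H13.AutPSLCentr
import Cfsg.Agent.Lib.H13.AutPSU2
import Cfsg.Agent.Lib.H13.FTPG

/-!
Automorphisms of `PSp_{2m}(q)`, part 1: elements of `Sp` acting on vectors (`sv`), transvections and the transvection subgroups
`Tb e` of `PSp`, orthogonality of centres and commuting, an automorphism fixing every `Tb e` is trivial, Eichler transformations `EL`,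
the group `Q_e`, the centre of a Sylow `p`-subgroup in odd characteristic, automorphisms preserve transvections (`presT_odd`).
-/

set_option autoImplicit false
set_option linter.unusedSectionVars false
set_option linter.unusedVariables false
set_option linter.unusedSimpArgs false
set_option linter.deprecated false

namespace Cfsg.Agent.Lib.H13.AutPSp

section

open Matrix Cfsg.Agent.Lib.H4 Cfsg.Agent.Lib.H2.Sp

variable {F : Type*} [Field F] {m : ℕ}

set_option quotPrecheck false in
local notation "B" => Cfsg.sympForm m F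

/-- the symplectic group, as a type -/
abbrev SpG (m : ℕ) (F : Type*) [Field F] : Type _ := ↥(Matrix.symplecticGroup (Fin m) F)

/-- the matrix of an element -/
def mat (s : SpG m F) : Matrix (K m) (K m) F := s.1

@[simp] theorem mat_one : mat (1 : SpG m F) = 1 := rfl

@[simp] theorem mat_mul (s t : SpG m F) : mat (s * t) = mat s * mat t := rfl

theorem mat_injective : Function.Injective (mat : SpG m F → Matrix (K m) (K m) F) :=
  Subtype.val_injective

theorem mat_mul_inv (s : SpG m F) : mat s * mat s⁻¹ = 1 := by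
  rw [← mat_mul, mul_inv_cancel, mat_one]

theorem mat_inv_mul (s : SpG m F) : mat s⁻¹ * mat s = 1 := by
  rw [← mat_mul, inv_mul_cancel, mat_one]

/-- the action on vectors -/
def sv (s : SpG m F) (v : K m → F) : K m → F := mat s *ᵥ v

@[simp] theorem sv_one (v : K m → F) : sv (1 : SpG m F) v = v := by
  unfold sv; rw [mat_one, one_mulVec]

theorem sv_mul (s t : SpG m F) (v : K m → F) : sv (s * t) v = sv s (sv t v) := by
  unfold sv; rw [mat_mul, mulVec_mulVec]

theorem sv_inv_sv (s : SpG m F) (v : K m → F) : sv s⁻¹ (sv s v) = v := by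
  rw [← sv_mul, inv_mul_cancel, sv_one]

theorem sv_sv_inv (s : SpG m F) (v : K m → F) : sv s (sv s⁻¹ v) = v := by
  rw [← sv_mul, mul_inv_cancel, sv_one]

theorem sv_add (s : SpG m F) (u v : K m → F) : sv s (u + v) = sv s u + sv s v := mulVec_add _ _ _

theorem sv_smul (s : SpG m F) (c : F) (v : K m → F) : sv s (c • v) = c • sv s v :=
  mulVec_smul _ _ _

theorem sv_zero (s : SpG m F) : sv s 0 = 0 := mulVec_zero _

theorem sv_sub (s : SpG m F) (u v : K m → F) : sv s (u - v) = sv s u - sv s v := mulVec_sub _ _ _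

theorem sv_neg (s : SpG m F) (v : K m → F) : sv s (-v) = -sv s v := mulVec_neg _ _

theorem sv_injective (s : SpG m F) : Function.Injective (sv s) := by
  intro u v h
  rw [← sv_inv_sv s u, h, sv_inv_sv]

theorem sv_ne_zero (s : SpG m F) {v : K m → F} (hv : v ≠ 0) : sv s v ≠ 0 := by
  intro h
  apply hv
  apply sv_injective s
  rw [h, sv_zero]

theorem B_sv (s : SpG m F) (u v : K m → F) : B (sv s u) (sv s v) = B u v :=
  (mem_symplecticGroup_iff_sympForm m _).1 s.2 u v

theorem B_sv_left (s : SpG m F) (u v : K m → F) : B (sv s u) v = B u (sv s⁻¹ v) := by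
  rw [← B_sv s⁻¹, sv_inv_sv]

theorem ext_sv {s t : SpG m F} (h : ∀ v, sv s v = sv t v) : s = t := by
  apply mat_injective
  apply Matrix.ext_iff_mulVec.mpr
  exact h

theorem sv_tv (v : K m → F) (c : F) (x : K m → F) :
    sv (tv m v c) x = x + (c * B x v) • v := tv_mulVec m v c x

theorem B_zero_left (v : K m → F) : B 0 v = 0 := by
  have := sympForm_smul_left m (0 : F) 0 v
  simpa using this

theorem B_zero_right (v : K m → F) : B v 0 = 0 := by
  have := sympForm_smul_right m (0 : F) v 0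
  simpa using this

theorem B_neg_left (u v : K m → F) : B (-u) v = -B u v := by
  have := sympForm_smul_left m (-1 : F) u v
  simpa using this

theorem B_neg_right (u v : K m → F) : B u (-v) = -B u v := by
  have := sympForm_smul_right m (-1 : F) u v
  simpa using this

theorem B_sub_left (u u' v : K m → F) : B (u - u') v = B u v - B u' v := by
  rw [sub_eq_add_neg, sympForm_add_left, B_neg_left, sub_eq_add_neg]

theorem B_sub_right (u v v' : K m → F) : B u (v - v') = B u v - B u v' := by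
  rw [sub_eq_add_neg, sympForm_add_right, B_neg_right, sub_eq_add_neg]

theorem B_eq_zero_symm {u v : K m → F} (h : B u v = 0) : B v u = 0 := by
  rw [sympForm_swap, h, neg_zero]

theorem B_nondeg {v : K m → F} (h : ∀ u, B u v = 0) : v = 0 := by
  apply eq_zero_of_forall
  intro z
  exact B_eq_zero_symm (h z)

/-- proportional vectors -/
abbrev Par (v w : K m → F) : Prop := FTPG.Par v w

theorem Par.sv {v w : K m → F} (h : Par v w) (s : SpG m F) : Par (sv s v) (sv s w) := by
  obtain ⟨c, hc, rfl⟩ := h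
  exact ⟨c, hc, sv_smul s c v⟩

theorem Par.B_left {v w : K m → F} (h : Par v w) (x : K m → F) : B w x = 0 ↔ B v x = 0 := by
  obtain ⟨c, hc, rfl⟩ := h
  rw [sympForm_smul_left, mul_eq_zero]
  exact ⟨fun h => h.resolve_left hc, fun h => Or.inr h⟩

theorem Par.B_right {v w : K m → F} (h : Par v w) (x : K m → F) : B x w = 0 ↔ B x v = 0 := by
  obtain ⟨c, hc, rfl⟩ := h
  rw [sympForm_smul_right, mul_eq_zero]
  exact ⟨fun h => h.resolve_left hc, fun h => Or.inr h⟩

/-- the projection to `PSp` -/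
def pr : SpG m F →* Cfsg.PSp m F := QuotientGroup.mk' _

theorem pr_surjective : Function.Surjective (pr : SpG m F →* Cfsg.PSp m F) :=
  QuotientGroup.mk'_surjective _

theorem pr_eq_one_iff {s : SpG m F} : pr s = 1 ↔ s ∈ Subgroup.center (SpG m F) := by
  unfold pr
  rw [QuotientGroup.mk'_apply, QuotientGroup.eq_one_iff]

theorem pr_eq_pr_iff {s t : SpG m F} : pr s = pr t ↔ s⁻¹ * t ∈ Subgroup.center (SpG m F) := by
  unfold pr
  rw [QuotientGroup.mk'_apply, QuotientGroup.mk'_apply, QuotientGroup.eq]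

theorem scalar_of_mem_center (hm : 1 ≤ m) {z : SpG m F} (hz : z ∈ Subgroup.center (SpG m F)) :
    ∃ c : F, ∀ x, sv z x = c • x := by
  obtain ⟨c, hc⟩ := central_scalar m hm z hz
  refine ⟨c, fun x => ?_⟩
  unfold sv mat
  rw [hc, smul_mulVec, one_mulVec]

/-- elements with the same image in `PSp` differ by a scalar -/
theorem exists_smul_of_pr_eq (hm : 1 ≤ m) {s t : SpG m F} (h : pr s = pr t) :
    ∃ c : F, c ≠ 0 ∧ ∀ x, sv t x = c • sv s x := by
  obtain ⟨c, hc⟩ := scalar_of_mem_center hm (pr_eq_pr_iff.1 h)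
  have hc0 : c ≠ 0 := by
    rintro rfl
    have i₀ : K m := Sum.inl ⟨0, hm⟩
    have h1 := hc (Pi.single i₀ 1)
    rw [zero_smul] at h1
    have h2 : (Pi.single i₀ 1 : K m → F) ≠ 0 := by
      intro h3
      have := congrFun h3 i₀
      simp at this
    exact sv_ne_zero _ h2 h1
  refine ⟨c, hc0, fun x => ?_⟩
  have h1 := hc x
  rw [sv_mul] at h1
  rw [← sv_smul, ← h1, sv_sv_inv]

/-- a vector orthogonal to two given vectors -/
theorem exists_perp₂ (hm : 2 ≤ m) (e e' : K m → F) :
    ∃ x : K m → F, x ≠ 0 ∧ B x e = 0 ∧ B x e' = 0 := by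
  let f : (K m → F) →ₗ[F] (Fin 2 → F) :=
    { toFun := fun z => ![B z e, B z e']
      map_add' := fun x y => by
        ext i; fin_cases i <;> simp [sympForm_add_left]
      map_smul' := fun c x => by
        ext i; fin_cases i <;> simp [sympForm_smul_left] }
  have hker : LinearMap.ker f ≠ ⊥ := by
    apply LinearMap.ker_ne_bot_of_finrank_lt
    simp only [Module.finrank_fin_fun, Module.finrank_pi, Fintype.card_sum, Fintype.card_fin]
    omega
  obtain ⟨z, hz, hz0⟩ := (Submodule.ne_bot_iff _).1 hker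
  refine ⟨z, hz0, ?_, ?_⟩
  · have := congrFun (LinearMap.mem_ker.1 hz) 0
    simpa [f] using this
  · have := congrFun (LinearMap.mem_ker.1 hz) 1
    simpa [f] using this

theorem not_par_iff {e e' : K m → F} (he : e ≠ 0) (he' : e' ≠ 0) :
    ¬ Par e e' ↔ ∀ a : F, e' ≠ a • e := by
  constructor
  · intro h a ha
    apply h
    refine ⟨a, ?_, ha⟩
    rintro rfl
    rw [zero_smul] at ha
    exact he' ha
  · rintro h ⟨c, -, hc⟩
    exact h c hc

/-- a vector with prescribed products with two independent vectors -/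
theorem exists_dual (e e' : K m → F) (he : e ≠ 0) (he' : e' ≠ 0) (h : ¬ Par e e') :
    ∃ x : K m → F, B x e = 0 ∧ B x e' = 1 := by
  obtain ⟨z, hz1, hz2⟩ := exists_orth_ne_zero e e' he ((not_par_iff he he').1 h)
  refine ⟨(B z e')⁻¹ • z, ?_, ?_⟩
  · rw [sympForm_smul_left, B_eq_zero_symm hz1, mul_zero]
  · have hz2' : B z e' ≠ 0 := by
      rw [sympForm_swap, neg_ne_zero]
      exact hz2
    rw [sympForm_smul_left, inv_mul_cancel₀ hz2']

end

section

open Matrix Cfsg.Agent.Lib.H4 Cfsg.Agent.Lib.H2.Sp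

variable {F : Type*} [Field F] {m : ℕ}

set_option quotPrecheck false in
local notation "B" => Cfsg.sympForm m F

/-- the nontrivial transvections in `PSp` -/
def TB (m : ℕ) (F : Type*) [Field F] : Set (Cfsg.PSp m F) :=
  {x | ∃ (e : K m → F) (a : F), e ≠ 0 ∧ a ≠ 0 ∧ x = pr (tv m e a)}

theorem tv_eq_one_iff {e : K m → F} {a : F} (he : e ≠ 0) : tv m e a = 1 ↔ a = 0 := by
  constructor
  · intro h
    obtain ⟨f, hf⟩ := exists_sympForm_ne_zero m e he
    have h1 := congrArg (fun s => sv s f) h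
    simp only [sv_tv, sv_one] at h1
    have h2 : (a * B f e) • e = 0 := by
      have := congrArg (fun v => v - f) h1
      simpa using this
    rcases smul_eq_zero.1 h2 with h3 | h3
    · rcases mul_eq_zero.1 h3 with h4 | h4
      · exact h4
      · exact absurd (B_eq_zero_symm h4) hf
    · exact absurd h3 he
  · rintro rfl
    exact tv_zero_right e

/-- a transvection with nonzero parameter is not central -/
theorem tv_not_mem_center (hm : 1 ≤ m) {e : K m → F} {a : F} (he0 : e ≠ 0) (ha0 : a ≠ 0) :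
    tv m e a ∉ Subgroup.center (SpG m F) := by
  intro hz
  obtain ⟨c, hc⟩ := scalar_of_mem_center hm hz
  have h1 := hc e
  rw [sv_tv, sympForm_self, mul_zero, zero_smul, add_zero] at h1
  have hc1 : c = 1 := by
    by_contra hne
    apply he0
    have : (1 - c) • e = 0 := by rw [sub_smul, one_smul, ← h1, sub_self]
    rcases smul_eq_zero.1 this with h3 | h3
    · exact absurd (sub_eq_zero.1 h3).symm hne
    · exact h3
  have h2 : tv m e a = 1 := by
    apply ext_sv
    intro x
    rw [hc x, hc1, one_smul, sv_one]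
  exact ha0 ((tv_eq_one_iff he0).1 h2)

theorem one_notMem_TB (hm : 1 ≤ m) : (1 : Cfsg.PSp m F) ∉ TB m F := by
  rintro ⟨e, a, he0, ha0, h⟩
  exact tv_not_mem_center hm he0 ha0 (pr_eq_one_iff.1 h.symm)

/-- Key lemma: if the product of two transvections is a scalar multiple of a transvection (or of
the identity) then they have the same centre. -/
theorem spkey (hm : 2 ≤ m) {e e' e'' : K m → F} {a a' a'' r : F} (he : e ≠ 0) (he' : e' ≠ 0)
    (ha : a ≠ 0) (ha' : a' ≠ 0)
    (h : ∀ x, sv (tv m e a) (sv (tv m e' a') x) = r • sv (tv m e'' a'') x) : Par e e' := by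
  by_contra hpar
  -- step 1 : r = 1
  have hr : r = 1 := by
    obtain ⟨z, hz0, hz1, hz2⟩ := exists_perp₂ hm e e'
    have e1 := h z
    simp only [sv_tv, hz2, mul_zero, zero_smul, add_zero, hz1] at e1
    by_contra hr
    have e2 := congrArg (fun y => B y e'') e1
    simp only [sympForm_smul_left, sympForm_add_left, sympForm_self, mul_zero, add_zero] at e2
    have hz3 : B z e'' = 0 := by
      have : (r - 1) * B z e'' = 0 := by linear_combination -e2
      rcases mul_eq_zero.1 this with h0 | h0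
      · exact absurd (sub_eq_zero.1 h0) hr
      · exact h0
    rw [hz3, mul_zero, zero_smul, add_zero] at e1
    have : (r - 1) • z = 0 := by rw [sub_smul, one_smul, ← e1, sub_self]
    rcases smul_eq_zero.1 this with h0 | h0
    · exact hr (sub_eq_zero.1 h0)
    · exact hz0 h0
  subst hr
  have hpar' : ¬ Par e' e := fun h => hpar h.symm
  obtain ⟨x₁, hx₁e', hx₁e⟩ := exists_dual e' e he' he hpar'
  obtain ⟨x₂, hx₂e, hx₂e'⟩ := exists_dual e e' he he' hpar
  have e1 := h x₁
  simp only [sv_tv, hx₁e', mul_zero, zero_smul, add_zero, hx₁e, mul_one, one_smul,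
    add_right_inj] at e1
  -- e1 : a • e = (a'' * B x₁ e'') • e''
  have e2 := h x₂
  simp only [sv_tv, hx₂e', mul_one, one_smul, sympForm_add_left, sympForm_smul_left, hx₂e,
    zero_add] at e2
  have e3 : a' • e' + (a * (a' * B e' e)) • e = (a'' * B x₂ e'') • e'' := by
    have := congrArg (fun v => v - x₂) e2
    simp only [add_sub_cancel_left] at this
    rw [← this]
    abel
  have hk : a'' * B x₁ e'' ≠ 0 := by
    intro h0
    rw [h0, zero_smul] at e1
    exact (smul_ne_zero ha he) e1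
  have he'' : e'' = ((a'' * B x₁ e'')⁻¹ * a) • e := by
    rw [mul_smul, e1, smul_smul, inv_mul_cancel₀ hk, one_smul]
  apply hpar
  have h4 : a' • e' = ((a'' * B x₂ e'') * ((a'' * B x₁ e'')⁻¹ * a) - a * (a' * B e' e)) • e := by
    rw [sub_smul, mul_smul, ← he'', ← e3]
    abel
  have h5 : e' = (a'⁻¹ * ((a'' * B x₂ e'') * ((a'' * B x₁ e'')⁻¹ * a) - a * (a' * B e' e))) • e := by
    rw [mul_smul, ← h4, smul_smul, inv_mul_cancel₀ ha', one_smul]
  refine ⟨_, ?_, h5⟩
  intro h0
  rw [h0, zero_smul] at h5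
  exact he' h5

/-- if the product of two nontrivial transvections is a transvection or trivial then they have
the same centre -/
theorem par_of_mul_mem (hm : 2 ≤ m) {e e' : K m → F} {a a' : F} (he0 : e ≠ 0)
    (he0' : e' ≠ 0) (ha0 : a ≠ 0) (ha0' : a' ≠ 0)
    (h : pr (tv m e a) * pr (tv m e' a') ∈ TB m F ∨ pr (tv m e a) * pr (tv m e' a') = 1) :
    Par e e' := by
  rcases h with h | h
  · obtain ⟨e'', a'', he0'', ha0'', h1⟩ := h
    rw [← map_mul] at h1
    obtain ⟨c, hc0, hc⟩ := exists_smul_of_pr_eq (by omega) h1.symm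
    apply spkey hm he0 he0' ha0 ha0' (e'' := e'') (a'' := a'') (r := c)
    intro x
    rw [← sv_mul]
    exact hc x
  · rw [← map_mul] at h
    have h1 : pr (1 : SpG m F) = pr (tv m e a * tv m e' a') := by rw [h, map_one]
    obtain ⟨c, hc0, hc⟩ := exists_smul_of_pr_eq (by omega) h1
    apply spkey hm he0 he0' ha0 ha0' (e'' := 0) (a'' := 0) (r := c)
    intro x
    rw [← sv_mul, hc x, tv_zero_right]

/-- two transvections commute in `Sp` iff their centres are orthogonal -/
theorem tv_comm_iff {e e' : K m → F} {a a' : F} (he0 : e ≠ 0) (he0' : e' ≠ 0) (ha0 : a ≠ 0)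
    (ha0' : a' ≠ 0) :
    tv m e a * tv m e' a' = tv m e' a' * tv m e a ↔ B e e' = 0 := by
  constructor
  · intro h
    by_contra hne
    have h1 := congrArg (fun s => sv s e) h
    simp only [sv_mul, sv_tv, sympForm_self, mul_zero, zero_smul, add_zero, sympForm_add_left,
      sympForm_smul_left] at h1
    -- e + (a' B e e') e' + (a (a' B e e') B e' e) e = e + (a' B e e') e'
    have h2 : (a * (a' * B e e' * B e' e)) • e = 0 := by
      have := congrArg (fun v => v - e - (a' * B e e') • e') h1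
      simp only [zero_add] at this
      rw [← sub_eq_zero] at this
      rw [← this]
      module
    rcases smul_eq_zero.1 h2 with h3 | h3
    · rcases mul_eq_zero.1 h3 with h4 | h4
      · exact ha0 h4
      · rcases mul_eq_zero.1 h4 with h5 | h5
        · rcases mul_eq_zero.1 h5 with h6 | h6
          · exact ha0' h6
          · exact hne h6
        · exact hne (B_eq_zero_symm h5)
    · exact he0 h3
  · intro h
    have h' : B e' e = 0 := B_eq_zero_symm h
    apply ext_sv
    intro x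
    simp only [sv_mul, sv_tv, sympForm_add_left, sympForm_smul_left, h, h', mul_zero, add_zero]
    abel

/-- two transvections commute in `PSp` iff their centres are orthogonal -/
theorem pr_tv_comm_iff (hm : 2 ≤ m) {e e' : K m → F} {a a' : F} (he0 : e ≠ 0) (he0' : e' ≠ 0)
    (ha0 : a ≠ 0) (ha0' : a' ≠ 0) :
    pr (tv m e a) * pr (tv m e' a') = pr (tv m e' a') * pr (tv m e a) ↔ B e e' = 0 := by
  rw [← tv_comm_iff he0 he0' ha0 ha0']
  constructor
  · intro h
    rw [← map_mul, ← map_mul] at h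
    obtain ⟨c, hc0, hc⟩ := exists_smul_of_pr_eq (by omega) h
    obtain ⟨x, hx0, hxe, hxe'⟩ := exists_perp₂ hm e e'
    have h1 := hc x
    simp only [sv_mul, sv_tv, hxe, hxe', mul_zero, zero_smul, add_zero] at h1
    have hc1 : c = 1 := by
      by_contra hne
      apply hx0
      have : (1 - c) • x = 0 := by rw [sub_smul, one_smul, ← h1, sub_self]
      rcases smul_eq_zero.1 this with h3 | h3
      · exact absurd (sub_eq_zero.1 h3).symm hne
      · exact h3
    apply ext_sv
    intro y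
    have := hc y
    rw [hc1, one_smul] at this
    exact this.symm
  · intro h
    rw [← map_mul, ← map_mul, h]

/-- the transvection subgroup of `PSp` with centre `e` -/
def Tb (e : K m → F) : Subgroup (Cfsg.PSp m F) := (Tvec e).map pr

theorem mem_Tb {e : K m → F} {x : Cfsg.PSp m F} : x ∈ Tb e ↔ ∃ a, x = pr (tv m e a) := by
  unfold Tb
  rw [Subgroup.mem_map]
  constructor
  · rintro ⟨s, ⟨a, rfl⟩, rfl⟩
    exact ⟨a, rfl⟩
  · rintro ⟨a, rfl⟩
    exact ⟨tv m e a, ⟨a, rfl⟩, rfl⟩

theorem Tb_par {e e' : K m → F} (h : Par e e') : Tb e' = Tb e := by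
  obtain ⟨c, hc, rfl⟩ := h
  unfold Tb
  rw [Tvec_smul c hc]

theorem mem_TB_of_mem_Tb (hm : 1 ≤ m) {e : K m → F} (he0 : e ≠ 0) {x : Cfsg.PSp m F}
    (hx : x ∈ Tb e) (hx1 : x ≠ 1) : x ∈ TB m F := by
  obtain ⟨a, rfl⟩ := mem_Tb.1 hx
  refine ⟨e, a, he0, ?_, rfl⟩
  rintro rfl
  apply hx1
  rw [tv_zero_right, map_one]

/-- a common nontrivial element forces the same centre -/
theorem par_of_common (hm : 2 ≤ m) {e e' : K m → F} {a a' : F} (he0 : e ≠ 0) (he0' : e' ≠ 0)
    (ha0 : a ≠ 0) (ha0' : a' ≠ 0) (h : pr (tv m e a) = pr (tv m e' a')) : Par e e' := by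
  apply par_of_mul_mem hm he0 he0' ha0 (neg_ne_zero.2 ha0')
  right
  rw [h, ← map_mul, tv_mul, add_neg_cancel, tv_zero_right, map_one]

theorem exists_ne_zero_of_two_le (hm : 2 ≤ m) : ∃ a : F, a ≠ 0 := ⟨1, one_ne_zero⟩

theorem Tb_eq_iff (hm : 2 ≤ m) {e e' : K m → F} (he0 : e ≠ 0) (he0' : e' ≠ 0) :
    Tb e = Tb e' ↔ Par e e' := by
  constructor
  · intro h
    have h1 : pr (tv m e 1) ∈ Tb e' := by
      rw [← h]; exact mem_Tb.2 ⟨1, rfl⟩
    obtain ⟨a', h2⟩ := mem_Tb.1 h1
    have ha0' : a' ≠ 0 := by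
      rintro rfl
      rw [tv_zero_right, map_one] at h2
      exact tv_not_mem_center (by omega) he0 one_ne_zero (pr_eq_one_iff.1 h2)
    exact par_of_common hm he0 he0' one_ne_zero ha0' h2
  · intro h
    exact (Tb_par h).symm

section image

variable (hpres : ∀ (θ : Cfsg.PSp m F ≃* Cfsg.PSp m F) (x : Cfsg.PSp m F),
  θ x ∈ TB m F ↔ x ∈ TB m F)

include hpres in
theorem image_Tb_le (hm : 2 ≤ m) (θ : Cfsg.PSp m F ≃* Cfsg.PSp m F) {e : K m → F}
    (he0 : e ≠ 0) :
    ∃ e' : K m → F, e' ≠ 0 ∧ (Tb e).map θ.toMonoidHom ≤ Tb e' := by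
  have hx0 : pr (tv m e 1) ∈ TB m F := ⟨e, 1, he0, one_ne_zero, rfl⟩
  obtain ⟨e1, a1, he01, ha10, h1⟩ := (hpres θ _).2 hx0
  refine ⟨e1, he01, ?_⟩
  rintro y hy
  obtain ⟨x, hx, rfl⟩ := Subgroup.mem_map.1 hy
  obtain ⟨a, rfl⟩ := mem_Tb.1 hx
  change θ (pr (tv m e a)) ∈ Tb e1
  by_cases haz : a = 0
  · rw [haz, tv_zero_right, map_one, map_one]
    exact one_mem _
  have hxT : pr (tv m e a) ∈ TB m F := ⟨e, a, he0, haz, rfl⟩
  obtain ⟨e2, a2, he02, ha20, h2⟩ := (hpres θ _).2 hxT
  have hpar : Par e1 e2 := by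
    apply par_of_mul_mem hm he01 he02 ha10 ha20
    rw [← h1, ← h2, ← map_mul, ← map_mul, tv_mul]
    by_cases hs : 1 + a = 0
    · right
      rw [hs, tv_zero_right, map_one, map_one]
    · left
      rw [hpres θ]
      exact ⟨e, 1 + a, he0, hs, rfl⟩
  rw [h2, ← Tb_par hpar]
  exact mem_Tb.2 ⟨a2, rfl⟩

include hpres in
/-- automorphisms permute the transvection subgroups -/
theorem image_Tb (hm : 2 ≤ m) (θ : Cfsg.PSp m F ≃* Cfsg.PSp m F) {e : K m → F} (he0 : e ≠ 0) :
    ∃ e' : K m → F, e' ≠ 0 ∧ (Tb e).map θ.toMonoidHom = Tb e' := by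
  obtain ⟨e1, he01, h1⟩ := image_Tb_le hpres hm θ he0
  obtain ⟨e2, he02, h2⟩ := image_Tb_le hpres hm θ.symm he01
  refine ⟨e1, he01, le_antisymm h1 ?_⟩
  have h3 : Tb e ≤ Tb e2 := by
    intro x hx
    apply h2
    refine Subgroup.mem_map.2 ⟨θ x, h1 (Subgroup.mem_map_of_mem _ hx), ?_⟩
    exact θ.symm_apply_apply x
  have hpar : Par e2 e := by
    have h4 : pr (tv m e 1) ∈ Tb e2 := h3 (mem_Tb.2 ⟨1, rfl⟩)
    obtain ⟨a', h5⟩ := mem_Tb.1 h4
    have ha0' : a' ≠ 0 := by
      rintro rfl
      rw [tv_zero_right, map_one] at h5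
      exact tv_not_mem_center (by omega) he0 one_ne_zero (pr_eq_one_iff.1 h5)
    exact (par_of_common hm he0 he02 one_ne_zero ha0' h5).symm
  rw [← Tb_par hpar] at h2
  intro y hy
  have h6 := h2 (Subgroup.mem_map_of_mem _ hy)
  refine Subgroup.mem_map.2 ⟨θ.symm y, h6, ?_⟩
  exact θ.apply_symm_apply y

/-- orthogonality of centres is preserved -/
theorem perp_image (hm : 2 ≤ m) (θ : Cfsg.PSp m F ≃* Cfsg.PSp m F) {e e' e1 e1' : K m → F}
    (he0 : e ≠ 0) (he0' : e' ≠ 0) (he01 : e1 ≠ 0) (he01' : e1' ≠ 0)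
    (h : (Tb e).map θ.toMonoidHom = Tb e1) (h' : (Tb e').map θ.toMonoidHom = Tb e1') :
    B e e' = 0 ↔ B e1 e1' = 0 := by
  have h1 : θ (pr (tv m e 1)) ∈ Tb e1 := by
    rw [← h]; exact Subgroup.mem_map_of_mem _ (mem_Tb.2 ⟨1, rfl⟩)
  have h1' : θ (pr (tv m e' 1)) ∈ Tb e1' := by
    rw [← h']; exact Subgroup.mem_map_of_mem _ (mem_Tb.2 ⟨1, rfl⟩)
  obtain ⟨b, h2⟩ := mem_Tb.1 h1
  obtain ⟨b', h2'⟩ := mem_Tb.1 h1'
  have hb0 : b ≠ 0 := by
    rintro rfl
    rw [tv_zero_right, map_one] at h2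
    have := θ.injective (h2.trans (map_one θ).symm)
    exact tv_not_mem_center (by omega) he0 one_ne_zero (pr_eq_one_iff.1 this)
  have hb0' : b' ≠ 0 := by
    rintro rfl
    rw [tv_zero_right, map_one] at h2'
    have := θ.injective (h2'.trans (map_one θ).symm)
    exact tv_not_mem_center (by omega) he0' one_ne_zero (pr_eq_one_iff.1 this)
  rw [← pr_tv_comm_iff hm he0 he0' (one_ne_zero (α := F)) (one_ne_zero (α := F)),
    ← pr_tv_comm_iff hm he01 he01' hb0 hb0', ← h2, ← h2']
  constructor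
  · intro h3
    rw [← map_mul θ, ← map_mul θ, h3]
  · intro h3
    apply θ.injective
    rw [map_mul θ, map_mul θ, h3]

end image

/-- conjugating a transvection subgroup -/
theorem conj_Tb (e : K m → F) (s : SpG m F) :
    (Tb e).map (MulAut.conj (pr s)).toMonoidHom = Tb (sv s e) := by
  ext y
  rw [Subgroup.mem_map]
  constructor
  · rintro ⟨x, hx, rfl⟩
    obtain ⟨a, rfl⟩ := mem_Tb.1 hx
    change pr s * pr (tv m e a) * (pr s)⁻¹ ∈ _
    rw [← map_inv, ← map_mul, ← map_mul, conj_tv]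
    exact mem_Tb.2 ⟨a, rfl⟩
  · intro hy
    obtain ⟨a, rfl⟩ := mem_Tb.1 hy
    refine ⟨pr (tv m e a), mem_Tb.2 ⟨a, rfl⟩, ?_⟩
    change pr s * pr (tv m e a) * (pr s)⁻¹ = _
    rw [← map_inv, ← map_mul, ← map_mul, conj_tv]
    rfl

/-- an automorphism fixing every transvection subgroup is trivial -/
theorem eq_refl_of_fix (hm : 2 ≤ m) (θ : Cfsg.PSp m F ≃* Cfsg.PSp m F)
    (h : ∀ e : K m → F, e ≠ 0 → (Tb e).map θ.toMonoidHom = Tb e) :
    θ = MulEquiv.refl _ := by
  apply MulEquiv.ext
  intro g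
  obtain ⟨s, rfl⟩ := pr_surjective g
  obtain ⟨t, ht⟩ := pr_surjective (θ (pr s))
  rw [MulEquiv.refl_apply, ← ht]
  have key : ∀ e : K m → F, e ≠ 0 → Par (sv s e) (sv t e) := by
    intro e he0
    rw [← Tb_eq_iff hm (sv_ne_zero s he0) (sv_ne_zero t he0)]
    have h1 : (Tb (sv s e)).map θ.toMonoidHom = Tb (sv s e) := h (sv s e) (sv_ne_zero s he0)
    have h2 : (Tb (sv s e)).map θ.toMonoidHom = Tb (sv t e) := by
      rw [← conj_Tb e s, ← conj_Tb e t]
      ext y
      simp only [Subgroup.mem_map]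
      constructor
      · rintro ⟨x, ⟨z, hz, rfl⟩, rfl⟩
        have hz' : θ z ∈ Tb e := by
          rw [← h e he0]; exact Subgroup.mem_map_of_mem _ hz
        refine ⟨θ z, hz', ?_⟩
        change pr t * θ z * (pr t)⁻¹ = θ (pr s * z * (pr s)⁻¹)
        rw [map_mul, map_mul, map_inv, ht]
      · rintro ⟨x, hx, rfl⟩
        rw [← h e he0] at hx
        obtain ⟨z, hz, rfl⟩ := Subgroup.mem_map.1 hx
        refine ⟨pr s * z * (pr s)⁻¹, ⟨z, hz, rfl⟩, ?_⟩
        change θ (pr s * z * (pr s)⁻¹) = pr t * θ z * (pr t)⁻¹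
        rw [map_mul, map_mul, map_inv, ht]
    exact h1.symm.trans h2
  have hfix : ∀ v : K m → F, v ≠ 0 → ∃ c : F, mat (s⁻¹ * t) *ᵥ v = c • v := by
    intro v hv0
    obtain ⟨c, hc0, hc⟩ := key v hv0
    refine ⟨c, ?_⟩
    change sv (s⁻¹ * t) v = c • v
    rw [sv_mul, hc, sv_smul, sv_inv_sv]
  obtain ⟨c, hc⟩ := scalar_of_eigen (by omega) (mat (s⁻¹ * t)) hfix
  symm
  rw [pr_eq_pr_iff, Subgroup.mem_center_iff]
  intro g
  apply mat_injective
  rw [mat_mul g (s⁻¹ * t), mat_mul (s⁻¹ * t) g, hc]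
  simp

end

section

open Matrix Cfsg.Agent.Lib.H4 Cfsg.Agent.Lib.H2.Sp

variable {F : Type*} [Field F] {m : ℕ}

set_option quotPrecheck false in
local notation "B" => Cfsg.sympForm m F

/-- double orthogonal complement of a finite family -/
theorem mem_span_of_perp {ι : Type*} [Fintype ι] (u : ι → K m → F) (w : K m → F)
    (h : ∀ x, (∀ i, B x (u i) = 0) → B x w = 0) : ∃ c : ι → F, w = ∑ i, c i • u i := by
  classical
  let Lf : (K m → F) → ((K m → F) →ₗ[F] F) := fun v =>
    { toFun := fun x => B x v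
      map_add' := fun x y => sympForm_add_left m x y v
      map_smul' := fun c x => sympForm_smul_left m c x v }
  have hLf : ∀ v x, Lf v x = B x v := fun _ _ => rfl
  have hker : ⨅ i, LinearMap.ker (Lf (u i)) ≤ LinearMap.ker (Lf w) := by
    intro x hx
    rw [Submodule.mem_iInf] at hx
    rw [LinearMap.mem_ker, hLf]
    apply h
    intro i
    have := hx i
    rwa [LinearMap.mem_ker, hLf] at this
  have h1 := mem_span_of_iInf_ker_le_ker hker
  obtain ⟨c, hc⟩ := (Submodule.mem_span_range_iff_exists_fun F).1 h1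
  refine ⟨c, ?_⟩
  have h2 : ∀ x, B x (w - ∑ i, c i • u i) = 0 := by
    intro x
    have h3 := congrArg (fun L : (K m → F) →ₗ[F] F => L x) hc
    simp only [LinearMap.coe_sum, Finset.sum_apply, LinearMap.smul_apply, hLf] at h3
    rw [B_sub_right, ← h3, sub_eq_zero]
    clear h3 hc h1 hker
    induction (Finset.univ : Finset ι) using Finset.induction_on with
    | empty => simp [B_zero_right]
    | insert a s ha ih =>
      rw [Finset.sum_insert ha, Finset.sum_insert ha, sympForm_add_right, sympForm_smul_right, ih]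
      rfl
  exact sub_eq_zero.1 (B_nondeg h2)

theorem mem_span_single_of_perp {e y : K m → F}
    (h : ∀ x, B x e = 0 → B x y = 0) : ∃ a : F, y = a • e := by
  obtain ⟨c, hc⟩ := mem_span_of_perp (fun _ : Unit => e) y (fun x hx => h x (hx ()))
  exact ⟨c (), by simpa using hc⟩

theorem mem_span_pair_of_perp {u v w : K m → F}
    (h : ∀ x, B x u = 0 → B x v = 0 → B x w = 0) : ∃ a b : F, w = a • u + b • v := by
  obtain ⟨c, hc⟩ := mem_span_of_perp (fun i : Fin 2 => ![u, v] i) w (fun x hx => h x (hx 0) (hx 1))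
  exact ⟨c 0, c 1, by simpa [Fin.sum_univ_two] using hc⟩

/-- the Eichler (Siegel) transformations with centre `e` -/
def EL (e w : K m → F) (b : F) : SpG m F := tv m w (-1) * tv m e (b - 1) * tv m (e + w) 1

theorem sv_EL {e w : K m → F} (hw : B w e = 0) (b : F) (x : K m → F) :
    sv (EL e w b) x = x + B x e • w + B x w • e + (b * B x e) • e := by
  have hew : B e w = 0 := B_eq_zero_symm hw
  unfold EL
  rw [sv_mul, sv_mul, sv_tv, sv_tv, sv_tv]
  simp only [sympForm_add_left, sympForm_add_right, sympForm_smul_left, sympForm_self, hw, hew,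
    mul_zero, add_zero, zero_add, one_mul]
  module

theorem EL_mul {e w w' : K m → F} (hw : B w e = 0) (hw' : B w' e = 0) (b b' : F) :
    EL e w b * EL e w' b' = EL e (w + w') (b + b' + B w' w) := by
  have hww : B (w + w') e = 0 := by rw [sympForm_add_left, hw, hw', add_zero]
  apply ext_sv
  intro x
  rw [sv_mul, sv_EL hw', sv_EL hw, sv_EL hww]
  simp only [sympForm_add_left, sympForm_add_right, sympForm_smul_left, sympForm_self, hw, hw',
    B_eq_zero_symm hw, B_eq_zero_symm hw', mul_zero, add_zero, zero_add]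
  module

theorem EL_zero (e : K m → F) : EL e 0 0 = 1 := by
  apply ext_sv
  intro x
  rw [sv_EL (B_zero_left e), sv_one, B_zero_right]
  simp

theorem EL_inv {e w : K m → F} (hw : B w e = 0) (b : F) :
    (EL e w b)⁻¹ = EL e (-w) (-b) := by
  have hw' : B (-w) e = 0 := by rw [B_neg_left, hw, neg_zero]
  rw [inv_eq_iff_mul_eq_one, EL_mul hw hw', B_neg_left, sympForm_self]
  simp [EL_zero]

theorem EL_conj {e w : K m → F} (hw : B w e = 0) (b : F) (s : SpG m F) :
    s * EL e w b * s⁻¹ = EL (sv s e) (sv s w) b := by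
  have hw' : B (sv s w) (sv s e) = 0 := by rw [B_sv, hw]
  apply ext_sv
  intro x
  rw [sv_mul, sv_mul, sv_EL hw, sv_EL hw']
  simp only [sv_add, sv_smul, sv_sv_inv]
  have hh : ∀ v, B (sv s⁻¹ x) v = B x (sv s v) := fun v => by rw [B_sv_left, inv_inv]
  rw [hh, hh]

theorem EL_zero_left (e : K m → F) (b : F) : EL e 0 b = tv m e b := by
  apply ext_sv
  intro x
  rw [sv_EL (B_zero_left e), sv_tv, B_zero_right]
  simp

/-- the group `Q_e` -/
def Qg (e : K m → F) : Subgroup (SpG m F) where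
  carrier := {s | ∃ w b, B w e = 0 ∧ s = EL e w b}
  one_mem' := ⟨0, 0, B_zero_left e, (EL_zero e).symm⟩
  mul_mem' := by
    rintro s t ⟨w, b, hw, rfl⟩ ⟨w', b', hw', rfl⟩
    exact ⟨w + w', _, by rw [sympForm_add_left, hw, hw', add_zero], EL_mul hw hw' b b'⟩
  inv_mem' := by
    rintro s ⟨w, b, hw, rfl⟩
    exact ⟨-w, -b, by rw [B_neg_left, hw, neg_zero], EL_inv hw b⟩

theorem mem_Qg {e : K m → F} {s : SpG m F} : s ∈ Qg e ↔ ∃ w b, B w e = 0 ∧ s = EL e w b := Iff.rfl

theorem EL_mem_Qg {e w : K m → F} (hw : B w e = 0) (b : F) : EL e w b ∈ Qg e := ⟨w, b, hw, rfl⟩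

theorem Tvec_le_Qg (e : K m → F) : Tvec e ≤ Qg e := by
  rintro s ⟨a, rfl⟩
  exact ⟨0, a, B_zero_left e, (EL_zero_left e a).symm⟩

theorem conj_mem_Qg {e : K m → F} {s : SpG m F} (hs : sv s e = e) {g : SpG m F} (hg : g ∈ Qg e) :
    s * g * s⁻¹ ∈ Qg e := by
  obtain ⟨w, b, hw, rfl⟩ := hg
  rw [EL_conj hw, hs]
  refine EL_mem_Qg ?_ b
  have := B_sv s w e
  rw [hs] at this
  rw [this, hw]

theorem EL_pow {e w : K m → F} (hw : B w e = 0) (b : F) (k : ℕ) :
    (EL e w b) ^ k = EL e ((k : F) • w) ((k : F) * b) := by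
  induction k with
  | zero => simp [EL_zero]
  | succ k ih =>
    have hkw : B ((k : F) • w) e = 0 := by rw [sympForm_smul_left, hw, mul_zero]
    rw [pow_succ, ih, EL_mul hkw hw, sympForm_smul_right, sympForm_self, mul_zero, add_zero]
    congr 1
    · push_cast; module
    · push_cast; ring

theorem isPGroup_Qg (p : ℕ) [Fact p.Prime] [CharP F p] (e : K m → F) : IsPGroup p (Qg e) := by
  rintro ⟨s, w, b, hw, rfl⟩
  refine ⟨1, ?_⟩
  apply Subtype.ext
  rw [Subgroup.coe_pow, pow_one]
  change (EL e w b) ^ p = 1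
  rw [EL_pow hw, CharP.cast_eq_zero, zero_smul, zero_mul, EL_zero]

/-- a vector pairing to one with `e` -/
theorem exists_B_eq_one {e : K m → F} (he : e ≠ 0) : ∃ f, B f e = 1 := by
  obtain ⟨f, hf⟩ := exists_sympForm_ne_zero m e he
  have hf' : B f e ≠ 0 := by rw [sympForm_swap, neg_ne_zero]; exact hf
  exact ⟨(B f e)⁻¹ • f, by rw [sympForm_smul_left, inv_mul_cancel₀ hf']⟩

/-- an element fixing `e` and commuting with `Q_e` is a transvection with centre `e`
(odd characteristic) -/
theorem mem_Tvec_of_comm (h2 : (2 : F) ≠ 0) {e : K m → F} (he0 : e ≠ 0) {z : SpG m F}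
    (hze : sv z e = e) (hcomm : ∀ g ∈ Qg e, z * g = g * z) : z ∈ Tvec e := by
  obtain ⟨f, hfe⟩ := exists_B_eq_one he0
  have hef : B e f = -1 := by rw [sympForm_swap, hfe]
  have key : ∀ w, B w e = 0 → sv z w = w + B f (w - sv z w) • e := by
    intro w hw
    have h1 : z * EL e w 0 * z⁻¹ = EL e w 0 := by
      rw [hcomm _ (EL_mem_Qg hw 0), mul_assoc, mul_inv_cancel, mul_one]
    rw [EL_conj hw, hze] at h1
    have hw' : B (sv z w) e = 0 := by
      have := B_sv z w e
      rw [hze] at this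
      rw [this, hw]
    have h2 := congrArg (fun s => sv s f) h1
    simp only [sv_EL hw, sv_EL hw', hfe, zero_mul, zero_smul, add_zero, one_smul] at h2
    rw [B_sub_right, sub_smul]
    have h3 : sv z w + B f (sv z w) • e = w + B f w • e := by
      have h4 := congrArg (fun v => v - f) h2
      simpa [add_sub_cancel_left, add_assoc] using h4
    calc sv z w = (sv z w + B f (sv z w) • e) - B f (sv z w) • e := by abel
      _ = (w + B f w • e) - B f (sv z w) • e := by rw [h3]
      _ = w + (B f w • e - B f (sv z w) • e) := by abel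
  set y := sv z f - f with hy
  have hye : B y e = 0 := by
    rw [hy, B_sub_left, hfe]
    have : B (sv z f) e = B (sv z f) (sv z e) := by rw [hze]
    rw [this, B_sv, hfe, sub_self]
  have hφ : ∀ w, B w e = 0 → B f (w - sv z w) = 0 := by
    intro w hw
    have h1 := key w hw
    set φ := B f (w - sv z w) with hφdef
    -- φ = -B y w and φ = -φ
    have h3 : w - sv z w = (-φ) • e := by
      rw [neg_smul, sub_eq_iff_eq_add, h1]; abel
    have h4 : φ = φ * B e f := by
      have : φ = B f (w - sv z w) := hφdef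
      rw [h3, sympForm_smul_right] at this
      rw [hef]
      rw [sympForm_swap, hef] at this
      linear_combination this
    rw [hef] at h4
    have h5 : (2 : F) * φ = 0 := by linear_combination h4
    rcases mul_eq_zero.1 h5 with h6 | h6
    · exact absurd h6 h2
    · exact h6
  have hzw : ∀ w, B w e = 0 → sv z w = w := by
    intro w hw
    rw [key w hw, hφ w hw, zero_smul, add_zero]
  have hyperp : ∀ w, B w e = 0 → B w y = 0 := by
    intro w hw
    have h1 : B (sv z w) (sv z f) = B w f := B_sv z w f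
    rw [hzw w hw] at h1
    rw [hy, B_sub_right, h1, sub_self]
  obtain ⟨a, ha⟩ := mem_span_single_of_perp hyperp
  have hzf : sv z f = f + a • e := by
    rw [← ha, hy]; abel
  rw [mem_Tvec]
  refine ⟨a, ?_⟩
  apply ext_sv
  intro x
  rw [sv_tv]
  have hx : x = B x e • f + (x - B x e • f) := by abel
  have hw : B (x - B x e • f) e = 0 := by
    rw [B_sub_left, sympForm_smul_left, hfe, mul_one, sub_self]
  conv_lhs => rw [hx]
  rw [sv_add, sv_smul, hzf, hzw _ hw]
  module

/-- transvections with centre `e` commute with every element fixing `e` -/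
theorem Tvec_comm {e : K m → F} {s t : SpG m F} (hs : sv s e = e) (ht : t ∈ Tvec e) :
    s * t = t * s := by
  obtain ⟨a, rfl⟩ := ht
  have h1 := conj_tv s e a
  have hs' : (s : Matrix (K m) (K m) F) *ᵥ e = e := hs
  rw [hs'] at h1
  calc s * tv m e a = s * tv m e a * s⁻¹ * s := by group
    _ = tv m e a * s := by rw [h1]

end

section

open Matrix Cfsg.Agent.Lib.H4 Cfsg.Agent.Lib.H2.Sp

section

variable {F : Type*} [Field F] {m : ℕ}

set_option quotPrecheck false in
local notation "B" => Cfsg.sympForm m F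

/-- if all of `Q_e` fixes `e'` then `e'` is a multiple of `e` -/
theorem par_of_Qg_fix {e e' : K m → F} (he0 : e ≠ 0)
    (h : ∀ g ∈ Qg e, sv g e' = e') : ∃ c : F, e' = c • e := by
  apply mem_span_single_of_perp
  intro w hw
  have h3 := h _ (EL_mem_Qg hw 0)
  have h1 := h _ (Tvec_le_Qg e ⟨1, rfl⟩)
  rw [sv_tv, one_mul] at h1
  have h2 : B e' e • e = 0 := by
    have := congrArg (fun v => v - e') h1
    simpa using this
  have he'e : B e' e = 0 := by
    rcases smul_eq_zero.1 h2 with h3 | h3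
    · exact h3
    · exact absurd h3 he0
  rw [sv_EL hw, he'e, zero_smul, mul_zero, zero_smul, add_zero, add_zero] at h3
  have h4 : B e' w • e = 0 := by
    have := congrArg (fun v => v - e') h3
    simpa using this
  rcases smul_eq_zero.1 h4 with h5 | h5
  · exact B_eq_zero_symm h5
  · exact absurd h5 he0

variable [Fintype F] (p : ℕ) [Fact p.Prime] [CharP F p]

instance : Finite (SpG m F) := by
  classical
  exact inferInstance

/-- a `p`-subgroup of `Sp` fixes a nonzero vector -/
theorem exists_fixed_vector (hm : 1 ≤ m) (P : Subgroup (SpG m F)) (hP : IsPGroup p P) :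
    ∃ e : K m → F, e ≠ 0 ∧ ∀ s ∈ P, sv s e = e := by
  classical
  letI act : MulAction ↥P (K m → F) :=
    { smul := fun s x => sv s.1 x
      one_smul := fun x => sv_one x
      mul_smul := fun s t x => sv_mul s.1 t.1 x }
  have hcard : p ∣ Nat.card (K m → F) := by
    rw [Nat.card_eq_fintype_card, Fintype.card_fun, Fintype.card_sum, Fintype.card_fin]
    have h2 : p ∣ Fintype.card F := AutPSL.p_dvd_card (p := p)
    exact dvd_trans h2 (dvd_pow_self _ (by omega))
  have h0 : (0 : K m → F) ∈ MulAction.fixedPoints ↥P (K m → F) := by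
    intro s
    exact sv_zero s.1
  obtain ⟨b, hb, hb0⟩ := hP.exists_fixed_point_of_prime_dvd_card_of_fixed_point (K m → F) hcard h0
  refine ⟨b, fun h => hb0 h.symm, ?_⟩
  intro s hs
  exact hb ⟨s, hs⟩

/-- the centre of a Sylow `p`-subgroup of `Sp` is a transvection group (`p` odd) -/
theorem sylow_Sp (h2 : (2 : F) ≠ 0) (hm : 1 ≤ m) (P : Sylow p (SpG m F)) :
    ∃ e : K m → F, e ≠ 0 ∧ (∀ s ∈ P, sv s e = e) ∧ Qg e ≤ P ∧
      ∀ z, (z ∈ P ∧ ∀ s ∈ P, s * z = z * s) ↔ z ∈ Tvec e := by
  obtain ⟨e, he0, hfix⟩ := exists_fixed_vector p hm P.1 P.2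
  have hQ : Qg e ≤ P := by
    have hnorm : (P : Subgroup (SpG m F)) ≤ Subgroup.normalizer (Qg e : Set (SpG m F)) := by
      intro s hs
      rw [Subgroup.mem_normalizer_iff]
      intro g
      constructor
      · intro hg
        exact conj_mem_Qg (hfix s hs) hg
      · intro hg
        have hs' : sv s⁻¹ e = e := by
          conv_lhs => rw [← hfix s hs]
          rw [sv_inv_sv]
        have := conj_mem_Qg hs' hg
        rw [inv_inv] at this
        have h2 : s⁻¹ * (s * g * s⁻¹) * s = g := by group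
        rwa [h2] at this
    have hp : IsPGroup p ↥((P : Subgroup (SpG m F)) ⊔ Qg e) :=
      IsPGroup.to_sup_of_normal_right' P.2 (isPGroup_Qg p e) hnorm
    have := P.is_maximal' hp le_sup_left
    calc Qg e ≤ (P : Subgroup (SpG m F)) ⊔ Qg e := le_sup_right
      _ = P := this
  refine ⟨e, he0, hfix, hQ, ?_⟩
  intro z
  constructor
  · rintro ⟨hz, hc⟩
    apply mem_Tvec_of_comm h2 he0 (hfix z hz)
    intro g hg
    exact (hc g (hQ hg)).symm
  · intro hz
    refine ⟨hQ (Tvec_le_Qg e hz), ?_⟩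
    intro s hs
    exact Tvec_comm (hfix s hs) hz

/-- transvections are central in some Sylow subgroup -/
theorem exists_sylow_of_tv (h2 : (2 : F) ≠ 0) (hm : 1 ≤ m) {e : K m → F} (he0 : e ≠ 0) :
    ∃ P : Sylow p (SpG m F), ∀ z, (z ∈ P ∧ ∀ s ∈ P, s * z = z * s) ↔ z ∈ Tvec e := by
  obtain ⟨P, hP⟩ := (isPGroup_Qg p e).exists_le_sylow
  obtain ⟨e', he0', hfix, hQ, hz⟩ := sylow_Sp p h2 hm P
  obtain ⟨c, hc⟩ := par_of_Qg_fix he0 (fun g hg => hfix g (hP hg))
  have hc0 : c ≠ 0 := by
    rintro rfl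
    rw [zero_smul] at hc
    exact he0' hc
  refine ⟨P, ?_⟩
  intro z
  rw [hz z, hc, Tvec_smul c hc0]

omit [Fintype F] in
/-- a central `p`-element is trivial (odd `p`) -/
theorem eq_one_of_center_of_pow (h2 : (2 : F) ≠ 0) (hm : 1 ≤ m) {z : SpG m F}
    (hz : z ∈ Subgroup.center (SpG m F)) {k : ℕ} (hk : z ^ (p ^ k) = 1) : z = 1 := by
  have hz' : z ∈ (Subgroup.center (SpG m F) : Set (SpG m F)) := hz
  rw [center_eq m hm] at hz'
  rcases hz' with h | h
  · exact h
  · exfalso
    rw [Set.mem_singleton_iff] at h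
    have hp2 : p ≠ 2 := by
      rintro rfl
      exact h2 (CharP.cast_eq_zero F 2)
    have hodd : Odd (p ^ k) := Odd.pow ((Fact.out : p.Prime).odd_of_ne_two hp2)
    rw [h] at hk
    have h3 := congrArg (fun s : SpG m F => (s : Matrix (K m) (K m) F)) hk
    simp only [SubmonoidClass.coe_pow] at h3
    have h4 : ((negOne m : SpG m F) : Matrix (K m) (K m) F) = -1 := rfl
    rw [h4, hodd.neg_one_pow] at h3
    have i₀ : K m := Sum.inl ⟨0, hm⟩
    have h5 := congrFun (congrFun h3 i₀) i₀
    have h6 : ((1 : SpG m F) : Matrix (K m) (K m) F) = 1 := rfl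
    rw [h6] at h5
    simp only [Matrix.neg_apply, Matrix.one_apply_eq] at h5
    apply h2
    linear_combination -h5

/-- the nontrivial transvections of `PSp` are the nontrivial elements which are central in a
Sylow `p`-subgroup (`p` odd) -/
theorem mem_TB_iff (h2 : (2 : F) ≠ 0) (hm : 1 ≤ m) (x : Cfsg.PSp m F) :
    x ∈ TB m F ↔ x ∈ AutPSL.ZS p (Cfsg.PSp m F) ∧ x ≠ 1 := by
  constructor
  · rintro ⟨e, a, he0, ha0, rfl⟩
    refine ⟨?_, fun h => one_notMem_TB hm (by rw [← h]; exact ⟨e, a, he0, ha0, rfl⟩)⟩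
    obtain ⟨P, hP⟩ := exists_sylow_of_tv p h2 hm he0
    have ht := (hP (tv m e a)).2 ⟨a, rfl⟩
    refine ⟨P.mapSurjective pr_surjective, ?_, ?_⟩
    · change _ ∈ Sylow.toSubgroup (P.mapSurjective pr_surjective)
      rw [Sylow.coe_mapSurjective]
      exact Subgroup.mem_map_of_mem _ ht.1
    · intro u hu
      change u ∈ Sylow.toSubgroup (P.mapSurjective pr_surjective) at hu
      rw [Sylow.coe_mapSurjective] at hu
      obtain ⟨y, hy, rfl⟩ := Subgroup.mem_map.1 hu
      rw [← map_mul, ← map_mul, ht.2 y hy]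
  · rintro ⟨⟨Q, hxQ, hc⟩, hx1⟩
    obtain ⟨P, hP⟩ := AutPSU.exists_sylow_map p (pr : SpG m F →* _) pr_surjective Q
    have hxQ' : x ∈ (Q : Subgroup _) := hxQ
    rw [hP] at hxQ'
    obtain ⟨t, ht, rfl⟩ := Subgroup.mem_map.1 hxQ'
    obtain ⟨e, he0, hfix, hQ, hz⟩ := sylow_Sp p h2 hm P
    have htz : t ∈ Tvec e := by
      rw [← hz]
      refine ⟨ht, ?_⟩
      intro s hs
      have h1 : pr s ∈ (Q : Subgroup _) := by
        rw [hP]; exact Subgroup.mem_map_of_mem _ hs
      have h2' := hc (pr s) h1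
      rw [← map_mul, ← map_mul] at h2'
      have h3 := pr_eq_pr_iff.1 h2'
      have h4 : (s * t)⁻¹ * (t * s) ∈ (P : Subgroup _) :=
        mul_mem (inv_mem (mul_mem hs ht)) (mul_mem ht hs)
      obtain ⟨k, hk⟩ := P.2 ⟨_, h4⟩
      have hk' : ((s * t)⁻¹ * (t * s)) ^ (p ^ k) = 1 := by
        have := congrArg Subtype.val hk
        simpa using this
      have h5 := eq_one_of_center_of_pow p h2 hm h3 hk'
      rw [inv_mul_eq_one] at h5
      exact h5
    obtain ⟨a, rfl⟩ := htz
    refine ⟨e, a, he0, ?_, rfl⟩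
    rintro rfl
    apply hx1
    rw [tv_zero_right, map_one]

include p in
/-- automorphisms of `PSp` preserve the set of transvections (`p` odd) -/
theorem presT_odd (h2 : (2 : F) ≠ 0) (hm : 1 ≤ m) (θ : Cfsg.PSp m F ≃* Cfsg.PSp m F)
    (x : Cfsg.PSp m F) : θ x ∈ TB m F ↔ x ∈ TB m F := by
  haveI : Finite (Cfsg.PSp m F) := by
    unfold Cfsg.PSp
    exact inferInstance
  rw [mem_TB_iff p h2 hm, mem_TB_iff p h2 hm, AutPSL.ZS_map_iff]
  simp

end

end

end Cfsg.Agent.Lib.H13.AutPSp
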