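import Mathlib
import Cfsg.Agent.Lib.H13.AutPSp1

/-!
Automorphisms of `PSp_{2m}(q)`, part 2: the point map of an automorphism is a collineation, hence semilinear; it preserves
orthogonality, so it is a semilinear similitude; the automorphisms `cSp` induced by semilinear similitudes; characteristic two
(`m ≥ 3`) through centraliser orders of involutions; the theorem `isSemi`: every automorphism of `PSp_{2m}(q)` is induced by a
semilinear similitude (`(2m, p) ≠ (4, 2)`).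
-/

set_option autoImplicit false
set_option linter.unusedSectionVars false
set_option linter.unusedVariables false
set_option linter.unusedSimpArgs false
set_option linter.deprecated false

namespace Cfsg.Agent.Lib.H13.AutPSp

section

open Matrix Cfsg.Agent.Lib.H4 Cfsg.Agent.Lib.H2.Sp

section

variable {F : Type*} [Field F] {m : ℕ}

set_option quotPrecheck false in
local notation "B" => Cfsg.sympForm m F

theorem map_Tb_injective (θ : Cfsg.PSp m F ≃* Cfsg.PSp m F) {e e' : K m → F}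
    (h : (Tb e).map θ.toMonoidHom = (Tb e').map θ.toMonoidHom) : Tb e = Tb e' :=
  Subgroup.map_injective θ.injective h

section image

variable (hpres : ∀ (θ : Cfsg.PSp m F ≃* Cfsg.PSp m F) (x : Cfsg.PSp m F),
  θ x ∈ TB m F ↔ x ∈ TB m F)

open Classical in
/-- the map on vectors (representing points) induced by an automorphism -/
noncomputable def ptMap (hm : 2 ≤ m) (θ : Cfsg.PSp m F ≃* Cfsg.PSp m F) (e : K m → F) :
    K m → F :=
  if he : e = 0 then 0 else Classical.choose (image_Tb hpres hm θ he)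

theorem ptMap_ne_zero (hm : 2 ≤ m) (θ : Cfsg.PSp m F ≃* Cfsg.PSp m F) {e : K m → F} (he : e ≠ 0) :
    ptMap hpres hm θ e ≠ 0 := by
  unfold ptMap
  rw [dif_neg he]
  exact (Classical.choose_spec (image_Tb hpres hm θ he)).1

theorem ptMap_spec (hm : 2 ≤ m) (θ : Cfsg.PSp m F ≃* Cfsg.PSp m F) {e : K m → F} (he : e ≠ 0) :
    (Tb e).map θ.toMonoidHom = Tb (ptMap hpres hm θ e) := by
  unfold ptMap
  rw [dif_neg he]
  exact (Classical.choose_spec (image_Tb hpres hm θ he)).2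

theorem ptMap_surj (hm : 2 ≤ m) (θ : Cfsg.PSp m F ≃* Cfsg.PSp m F) {w : K m → F} (hw : w ≠ 0) :
    ∃ v, v ≠ 0 ∧ Par (ptMap hpres hm θ v) w := by
  obtain ⟨v, hv0, hv⟩ := image_Tb hpres hm θ.symm hw
  refine ⟨v, hv0, ?_⟩
  rw [← Tb_eq_iff hm (ptMap_ne_zero hpres hm θ hv0) hw, ← ptMap_spec hpres hm θ hv0, ← hv]
  ext y
  simp only [Subgroup.mem_map]
  constructor
  · rintro ⟨x, ⟨z, hz, rfl⟩, rfl⟩
    have : θ (θ.symm z) = z := θ.apply_symm_apply z
    change θ (θ.symm z) ∈ _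
    rwa [this]
  · intro hy
    exact ⟨θ.symm y, ⟨y, hy, rfl⟩, θ.apply_symm_apply y⟩

theorem ptMap_perp (hm : 2 ≤ m) (θ : Cfsg.PSp m F ≃* Cfsg.PSp m F) {u v : K m → F} (hu : u ≠ 0)
    (hv : v ≠ 0) : B u v = 0 ↔ B (ptMap hpres hm θ u) (ptMap hpres hm θ v) = 0 :=
  perp_image hm θ hu hv (ptMap_ne_zero hpres hm θ hu) (ptMap_ne_zero hpres hm θ hv)
    (ptMap_spec hpres hm θ hu) (ptMap_spec hpres hm θ hv)

/-- the point map is a collineation -/
theorem coll_ptMap (hm : 2 ≤ m) (θ : Cfsg.PSp m F ≃* Cfsg.PSp m F) :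
    FTPG.Coll (ptMap hpres hm θ) := by
  refine ⟨fun v hv => ptMap_ne_zero hpres hm θ hv, ?_, ?_, fun w hw => ptMap_surj hpres hm θ hw⟩
  · intro u v w hu hv hw hspan
    apply mem_span_pair_of_perp
    intro y hyu hyv
    by_cases hy0 : y = 0
    · rw [hy0, B_zero_left]
    obtain ⟨x, hx0, hx⟩ := ptMap_surj hpres hm θ hy0
    rw [Par.B_left hx] at hyu hyv ⊢
    rw [← ptMap_perp hpres hm θ hx0 hu] at hyu
    rw [← ptMap_perp hpres hm θ hx0 hv] at hyv
    rw [← ptMap_perp hpres hm θ hx0 hw]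
    obtain ⟨a, b, rfl⟩ := hspan
    rw [sympForm_add_right, sympForm_smul_right, sympForm_smul_right, hyu, hyv]
    ring
  · intro u v hu hv h
    apply (Tb_eq_iff hm hu hv).1
    apply map_Tb_injective θ
    rw [ptMap_spec hpres hm θ hu, ptMap_spec hpres hm θ hv]
    exact (Tb_eq_iff hm (ptMap_ne_zero hpres hm θ hu) (ptMap_ne_zero hpres hm θ hv)).2 h

include hpres in
/-- the fundamental theorem applied to the point map -/
theorem exists_semilinear [Finite F] (hm : 2 ≤ m) (θ : Cfsg.PSp m F ≃* Cfsg.PSp m F) :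
    ∃ (σ : F ≃+* F) (G Gi : Matrix (K m) (K m) F), G * Gi = 1 ∧ Gi * G = 1 ∧
      ∀ v : K m → F, v ≠ 0 →
        (Tb v).map θ.toMonoidHom = Tb (G *ᵥ (fun i => σ (v i))) := by
  have h3 : 3 ≤ Fintype.card (K m) := by
    rw [Fintype.card_sum, Fintype.card_fin]; omega
  obtain ⟨σ, G, Gi, h1, h2, h⟩ := FTPG.fundamental (coll_ptMap hpres hm θ) h3
  refine ⟨σ, G, Gi, h1, h2, ?_⟩
  intro v hv
  rw [ptMap_spec hpres hm θ hv]
  exact Tb_par (h v hv)

end image

end

end

section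

open Matrix Cfsg.Agent.Lib.H4 Cfsg.Agent.Lib.H2.Sp

section

variable {F : Type*} [Field F] {m : ℕ}

set_option quotPrecheck false in
local notation "B" => Cfsg.sympForm m F

/-- apply a field automorphism to a vector -/
def sgv (σ : F ≃+* F) (x : K m → F) : K m → F := fun i => σ (x i)

theorem sgv_apply (σ : F ≃+* F) (x : K m → F) (i : K m) : sgv σ x i = σ (x i) := rfl

theorem sgv_add (σ : F ≃+* F) (x y : K m → F) : sgv σ (x + y) = sgv σ x + sgv σ y := by
  ext i; simp [sgv]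

theorem sgv_smul (σ : F ≃+* F) (c : F) (x : K m → F) : sgv σ (c • x) = σ c • sgv σ x := by
  ext i; simp [sgv]

theorem sgv_zero (σ : F ≃+* F) : sgv σ (0 : K m → F) = 0 := by
  ext i; simp [sgv]

theorem sgv_symm_sgv (σ : F ≃+* F) (x : K m → F) : sgv σ.symm (sgv σ x) = x := by
  ext i; simp [sgv]

theorem sgv_sgv_symm (σ : F ≃+* F) (x : K m → F) : sgv σ (sgv σ.symm x) = x := by
  ext i; simp [sgv]

theorem sgv_ne_zero (σ : F ≃+* F) {x : K m → F} (hx : x ≠ 0) : sgv σ x ≠ 0 := by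
  intro h
  apply hx
  rw [← sgv_symm_sgv σ x, h, sgv_zero]

theorem J_map (σ : F ≃+* F) : (Matrix.J (Fin m) F).map σ = Matrix.J (Fin m) F := by
  ext i j
  rcases i with i | i <;> rcases j with j | j <;>
    simp [Matrix.J, Matrix.one_apply, apply_ite σ]

theorem sgv_mulVec (σ : F ≃+* F) (M : Matrix (K m) (K m) F) (x : K m → F) :
    sgv σ (M *ᵥ x) = (M.map σ) *ᵥ sgv σ x := by
  ext i
  simp [sgv, mulVec, dotProduct, map_sum]

theorem B_sgv (σ : F ≃+* F) (x y : K m → F) : B (sgv σ x) (sgv σ y) = σ (B x y) := by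
  unfold Cfsg.sympForm
  conv_lhs => rw [← J_map σ, ← sgv_mulVec]
  simp [sgv, dotProduct, map_sum]

/-- the adjoint of a matrix with respect to the symplectic form -/
def adj (G : Matrix (K m) (K m) F) : Matrix (K m) (K m) F :=
  -(Matrix.J (Fin m) F) * Gᵀ * Matrix.J (Fin m) F

theorem B_mulVec_left (G : Matrix (K m) (K m) F) (x z : K m → F) :
    B (G *ᵥ x) z = B x (adj G *ᵥ z) := by
  unfold Cfsg.sympForm adj
  rw [mulVec_mulVec, ← Matrix.mul_assoc, ← Matrix.mul_assoc, Matrix.mul_neg, Matrix.J_squared,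
    neg_neg, Matrix.one_mul, ← mulVec_mulVec]
  conv_rhs => rw [dotProduct_mulVec, vecMul_transpose]

/-- a linear bijection preserving orthogonality is a similitude -/
theorem prop_of_perp (hm : 1 ≤ m) (G Gi : Matrix (K m) (K m) F) (hG : G * Gi = 1)
    (h : ∀ x y : K m → F, B x y = 0 ↔ B (G *ᵥ x) (G *ᵥ y) = 0) :
    ∃ c : F, c ≠ 0 ∧ ∀ x y : K m → F, B (G *ᵥ x) (G *ᵥ y) = c * B x y := by
  have hN : ∀ y : K m → F, y ≠ 0 → ∃ c : F, (adj G * G) *ᵥ y = c • y := by
    intro y _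
    apply mem_span_single_of_perp
    intro x hx
    rw [← mulVec_mulVec, ← B_mulVec_left]
    exact (h x y).1 hx
  obtain ⟨c, hc⟩ := scalar_of_eigen hm (adj G * G) hN
  have key : ∀ x y : K m → F, B (G *ᵥ x) (G *ᵥ y) = c * B x y := by
    intro x y
    rw [B_mulVec_left, mulVec_mulVec, hc, smul_mulVec, one_mulVec, sympForm_smul_right]
  refine ⟨c, ?_, key⟩
  rintro rfl
  have i₀ : K m := Sum.inl ⟨0, hm⟩
  have h2 : (Pi.single i₀ 1 : K m → F) ≠ 0 := by
    intro h3
    have := congrFun h3 i₀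
    simp at this
  obtain ⟨f, hf⟩ := exists_sympForm_ne_zero m _ h2
  apply hf
  rw [h]
  rw [key, zero_mul]

end

section

variable {F : Type*} [Field F] {m : ℕ}

set_option quotPrecheck false in
local notation "B" => Cfsg.sympForm m F

variable (hpres : ∀ (θ : Cfsg.PSp m F ≃* Cfsg.PSp m F) (x : Cfsg.PSp m F),
  θ x ∈ TB m F ↔ x ∈ TB m F)

include hpres in
/-- every automorphism acts on the transvection subgroups through a semilinear similitude -/
theorem exists_semisimilitude [Finite F] (hm : 2 ≤ m) (θ : Cfsg.PSp m F ≃* Cfsg.PSp m F) :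
    ∃ (σ : F ≃+* F) (g : GL (K m) F), g ∈ Cfsg.GSp m F ∧
      ∀ v : K m → F, v ≠ 0 →
        (Tb v).map θ.toMonoidHom = Tb ((g : Matrix (K m) (K m) F) *ᵥ sgv σ v) := by
  obtain ⟨σ, G, Gi, h1, h2, h⟩ := exists_semilinear hpres hm θ
  have hGne : ∀ x : K m → F, x ≠ 0 → G *ᵥ x ≠ 0 := by
    intro x hx h0
    apply hx
    have := congrArg (fun y => Gi *ᵥ y) h0
    simpa [mulVec_mulVec, h2] using this
  have hperp : ∀ x y : K m → F, B x y = 0 ↔ B (G *ᵥ x) (G *ᵥ y) = 0 := by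
    intro x y
    by_cases hx : x = 0
    · rw [hx, mulVec_zero, B_zero_left, B_zero_left]
    by_cases hy : y = 0
    · rw [hy, mulVec_zero, B_zero_right, B_zero_right]
    have hx' := sgv_ne_zero σ.symm hx
    have hy' := sgv_ne_zero σ.symm hy
    have h3 := perp_image hm θ hx' hy' (hGne _ (sgv_ne_zero σ hx')) (hGne _ (sgv_ne_zero σ hy'))
      (h _ hx') (h _ hy')
    change B (sgv σ.symm x) (sgv σ.symm y) = 0 ↔
      B (G *ᵥ sgv σ (sgv σ.symm x)) (G *ᵥ sgv σ (sgv σ.symm y)) = 0 at h3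
    rw [sgv_sgv_symm, sgv_sgv_symm, B_sgv] at h3
    rw [← h3]
    simp
  obtain ⟨c, hc0, hc⟩ := prop_of_perp (by omega) G Gi h1 hperp
  refine ⟨σ, ⟨G, Gi, h1, h2⟩, ⟨Units.mk0 c hc0, hc⟩, ?_⟩
  intro v hv
  exact h v hv

end

end

section

open Matrix Cfsg.Agent.Lib.H4 Cfsg.Agent.Lib.H2.Sp

section

variable {F : Type*} [Field F] {m : ℕ}

set_option quotPrecheck false in
local notation "B" => Cfsg.sympForm m F

/-- the field automorphism of `Sp` -/
def fieldSp (σ : F ≃+* F) : SpG m F ≃* SpG m F where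
  toFun s := ⟨(mat s).map σ, by
    rw [mem_symplecticGroup_iff_sympForm]
    intro u v
    have h1 := (mem_symplecticGroup_iff_sympForm m (mat s)).1 s.2 (sgv σ.symm u) (sgv σ.symm v)
    have h2 := congrArg σ h1
    rw [← B_sgv, ← B_sgv, sgv_mulVec, sgv_mulVec, sgv_sgv_symm, sgv_sgv_symm] at h2
    exact h2⟩
  invFun s := ⟨(mat s).map σ.symm, by
    rw [mem_symplecticGroup_iff_sympForm]
    intro u v
    have h1 := (mem_symplecticGroup_iff_sympForm m (mat s)).1 s.2 (sgv σ u) (sgv σ v)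
    have h2 := congrArg σ.symm h1
    rw [← B_sgv, ← B_sgv, sgv_mulVec, sgv_mulVec, sgv_symm_sgv, sgv_symm_sgv] at h2
    exact h2⟩
  left_inv s := by
    apply Subtype.ext
    ext i j
    change σ.symm (σ (s.1 i j)) = s.1 i j
    simp
  right_inv s := by
    apply Subtype.ext
    ext i j
    change σ (σ.symm (s.1 i j)) = s.1 i j
    simp
  map_mul' s t := by
    apply Subtype.ext
    change (mat s * mat t).map σ = (mat s).map σ * (mat t).map σ
    exact Matrix.map_mul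

theorem mat_fieldSp (σ : F ≃+* F) (s : SpG m F) : mat (fieldSp σ s) = (mat s).map σ := rfl

theorem GSp_inv_mem {g : GL (K m) F} (hg : g ∈ Cfsg.GSp m F) : g⁻¹ ∈ Cfsg.GSp m F :=
  inv_mem hg

/-- conjugation by a conformal symplectic matrix -/
def conjSp {g : GL (K m) F} (hg : g ∈ Cfsg.GSp m F) : SpG m F ≃* SpG m F where
  toFun s := ⟨(g : Matrix (K m) (K m) F) * mat s * ((g⁻¹ : GL (K m) F) : Matrix (K m) (K m) F), by
    rw [mem_symplecticGroup_iff_sympForm]
    intro u v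
    obtain ⟨c, hc⟩ := hg
    obtain ⟨d, hd⟩ := GSp_inv_mem ⟨c, hc⟩
    have h1 := (mem_symplecticGroup_iff_sympForm m (mat s)).1 s.2
    rw [← mulVec_mulVec, ← mulVec_mulVec, ← mulVec_mulVec, ← mulVec_mulVec, hc, h1]
    have h2 := hc (((g⁻¹ : GL (K m) F) : Matrix (K m) (K m) F) *ᵥ u)
      (((g⁻¹ : GL (K m) F) : Matrix (K m) (K m) F) *ᵥ v)
    rw [mulVec_mulVec, mulVec_mulVec, ← Units.val_mul, mul_inv_cancel, Units.val_one, one_mulVec,
      one_mulVec] at h2
    exact h2.symm⟩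
  invFun s := ⟨((g⁻¹ : GL (K m) F) : Matrix (K m) (K m) F) * mat s * (g : Matrix (K m) (K m) F), by
    rw [mem_symplecticGroup_iff_sympForm]
    intro u v
    obtain ⟨c, hc⟩ := hg
    obtain ⟨d, hd⟩ := GSp_inv_mem ⟨c, hc⟩
    have h1 := (mem_symplecticGroup_iff_sympForm m (mat s)).1 s.2
    rw [← mulVec_mulVec, ← mulVec_mulVec, ← mulVec_mulVec, ← mulVec_mulVec, hd, h1]
    have h2 := hd ((g : Matrix (K m) (K m) F) *ᵥ u) ((g : Matrix (K m) (K m) F) *ᵥ v)
    rw [mulVec_mulVec, mulVec_mulVec, ← Units.val_mul, inv_mul_cancel, Units.val_one, one_mulVec,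
      one_mulVec] at h2
    exact h2.symm⟩
  left_inv s := by
    apply Subtype.ext
    change ((g⁻¹ : GL (K m) F) : Matrix (K m) (K m) F) *
      ((g : Matrix (K m) (K m) F) * mat s * ((g⁻¹ : GL (K m) F) : Matrix (K m) (K m) F)) *
        (g : Matrix (K m) (K m) F) = mat s
    simp only [Matrix.mul_assoc]
    rw [← Units.val_mul, inv_mul_cancel, Units.val_one, Matrix.mul_one, ← Matrix.mul_assoc,
      ← Units.val_mul, inv_mul_cancel, Units.val_one, Matrix.one_mul]
  right_inv s := by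
    apply Subtype.ext
    change (g : Matrix (K m) (K m) F) *
      (((g⁻¹ : GL (K m) F) : Matrix (K m) (K m) F) * mat s * (g : Matrix (K m) (K m) F)) *
        ((g⁻¹ : GL (K m) F) : Matrix (K m) (K m) F) = mat s
    simp only [Matrix.mul_assoc]
    rw [← Units.val_mul, mul_inv_cancel, Units.val_one, Matrix.mul_one, ← Matrix.mul_assoc,
      ← Units.val_mul, mul_inv_cancel, Units.val_one, Matrix.one_mul]
  map_mul' s t := by
    apply Subtype.ext
    change (g : Matrix (K m) (K m) F) * (mat s * mat t) * ((g⁻¹ : GL (K m) F) : Matrix (K m) (K m) F) =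
      (g : Matrix (K m) (K m) F) * mat s * ((g⁻¹ : GL (K m) F) : Matrix (K m) (K m) F) *
        ((g : Matrix (K m) (K m) F) * mat t * ((g⁻¹ : GL (K m) F) : Matrix (K m) (K m) F))
    simp only [Matrix.mul_assoc]
    congr 2
    rw [← Matrix.mul_assoc ((g⁻¹ : GL (K m) F) : Matrix (K m) (K m) F), ← Units.val_mul,
      inv_mul_cancel, Units.val_one, Matrix.one_mul]

theorem mat_conjSp {g : GL (K m) F} (hg : g ∈ Cfsg.GSp m F) (s : SpG m F) :
    mat (conjSp hg s) =
      (g : Matrix (K m) (K m) F) * mat s * ((g⁻¹ : GL (K m) F) : Matrix (K m) (K m) F) := rfl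

/-- the automorphism `s ↦ g σ(s) g⁻¹` of `Sp` -/
def semiSp {g : GL (K m) F} (hg : g ∈ Cfsg.GSp m F) (σ : F ≃+* F) : SpG m F ≃* SpG m F :=
  (fieldSp σ).trans (conjSp hg)

theorem mat_semiSp {g : GL (K m) F} (hg : g ∈ Cfsg.GSp m F) (σ : F ≃+* F) (s : SpG m F) :
    mat (semiSp hg σ s) = (g : Matrix (K m) (K m) F) * (mat s).map σ *
      ((g⁻¹ : GL (K m) F) : Matrix (K m) (K m) F) := rfl

/-- the semilinear map `x ↦ g σ(x)` -/
def smv (g : Matrix (K m) (K m) F) (σ : F ≃+* F) (x : K m → F) : K m → F := g *ᵥ sgv σ x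

theorem smv_add (g : Matrix (K m) (K m) F) (σ : F ≃+* F) (x y : K m → F) :
    smv g σ (x + y) = smv g σ x + smv g σ y := by
  unfold smv; rw [sgv_add, mulVec_add]

theorem smv_smul (g : Matrix (K m) (K m) F) (σ : F ≃+* F) (c : F) (x : K m → F) :
    smv g σ (c • x) = σ c • smv g σ x := by
  unfold smv; rw [sgv_smul, mulVec_smul]

theorem smv_zero (g : Matrix (K m) (K m) F) (σ : F ≃+* F) : smv g σ 0 = 0 := by
  unfold smv; rw [sgv_zero, mulVec_zero]

theorem smv_surjective (g : GL (K m) F) (σ : F ≃+* F) :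
    Function.Surjective (smv (g : Matrix (K m) (K m) F) σ) := by
  intro x
  refine ⟨sgv σ.symm (((g⁻¹ : GL (K m) F) : Matrix (K m) (K m) F) *ᵥ x), ?_⟩
  unfold smv
  rw [sgv_sgv_symm, mulVec_mulVec, ← Units.val_mul, mul_inv_cancel, Units.val_one, one_mulVec]

theorem smv_ne_zero (g : GL (K m) F) (σ : F ≃+* F) {x : K m → F} (hx : x ≠ 0) :
    smv (g : Matrix (K m) (K m) F) σ x ≠ 0 := by
  intro h
  apply sgv_ne_zero σ hx
  have := congrArg (fun y => ((g⁻¹ : GL (K m) F) : Matrix (K m) (K m) F) *ᵥ y) h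
  simpa [smv, mulVec_mulVec, ← Units.val_mul] using this

theorem sv_semiSp {g : GL (K m) F} (hg : g ∈ Cfsg.GSp m F) (σ : F ≃+* F) (s : SpG m F)
    (x : K m → F) :
    sv (semiSp hg σ s) (smv (g : Matrix (K m) (K m) F) σ x) =
      smv (g : Matrix (K m) (K m) F) σ (sv s x) := by
  unfold sv smv
  rw [mat_semiSp, mulVec_mulVec, Matrix.mul_assoc, Matrix.mul_assoc, ← Units.val_mul,
    inv_mul_cancel, Units.val_one, Matrix.mul_one, ← mulVec_mulVec, sgv_mulVec]

/-- the multiplier of a conformal symplectic matrix -/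
theorem exists_mult {g : GL (K m) F} (hg : g ∈ Cfsg.GSp m F) (σ : F ≃+* F) :
    ∃ c : F, c ≠ 0 ∧ ∀ x y : K m → F,
      B (smv (g : Matrix (K m) (K m) F) σ x) (smv (g : Matrix (K m) (K m) F) σ y) = c * σ (B x y) := by
  obtain ⟨c, hc⟩ := hg
  refine ⟨c, c.ne_zero, fun x y => ?_⟩
  unfold smv
  rw [hc, B_sgv]

theorem semiSp_tv {g : GL (K m) F} (hg : g ∈ Cfsg.GSp m F) (σ : F ≃+* F) (e : K m → F) (a : F) :
    ∃ c : F, c ≠ 0 ∧ ∀ a : F, semiSp hg σ (tv m e a) =
      tv m (smv (g : Matrix (K m) (K m) F) σ e) (σ a / c) := by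
  obtain ⟨c, hc0, hc⟩ := exists_mult hg σ
  refine ⟨c, hc0, fun a => ?_⟩
  apply ext_sv
  intro y
  obtain ⟨x, rfl⟩ := smv_surjective g σ y
  rw [sv_semiSp, sv_tv, sv_tv, hc, smv_add, smv_smul, map_mul]
  congr 2
  field_simp

/-- descend an automorphism of `Sp` to `PSp` -/
noncomputable def descSp (e : SpG m F ≃* SpG m F) : Cfsg.PSp m F ≃* Cfsg.PSp m F :=
  QuotientGroup.congr _ _ e (AutPSL.map_center_eq e)

theorem descSp_pr (e : SpG m F ≃* SpG m F) (s : SpG m F) : descSp e (pr s) = pr (e s) := by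
  unfold descSp pr
  rw [QuotientGroup.mk'_apply, QuotientGroup.congr_mk]
  rfl

/-- the automorphism of `PSp` induced by `x ↦ g σ(x)` -/
noncomputable def cSp {g : GL (K m) F} (hg : g ∈ Cfsg.GSp m F) (σ : F ≃+* F) :
    Cfsg.PSp m F ≃* Cfsg.PSp m F := descSp (semiSp hg σ)

theorem cSp_pr {g : GL (K m) F} (hg : g ∈ Cfsg.GSp m F) (σ : F ≃+* F) (s : SpG m F) :
    cSp hg σ (pr s) = pr (semiSp hg σ s) := descSp_pr _ s

theorem isInduced_cSp {g : GL (K m) F} (hg : g ∈ Cfsg.GSp m F) (σ : F ≃+* F) :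
    Cfsg.IsInducedBySemilinearPSp g σ (cSp hg σ) := by
  intro s s' h
  have : s' = semiSp hg σ s := by
    apply Subtype.ext
    rw [h]
    rfl
  rw [this]
  exact cSp_pr hg σ s

/-- the image of a transvection subgroup under a semilinear automorphism -/
theorem map_cSp_Tb {g : GL (K m) F} (hg : g ∈ Cfsg.GSp m F) (σ : F ≃+* F) (e : K m → F) :
    (Tb e).map (cSp hg σ).toMonoidHom = Tb (smv (g : Matrix (K m) (K m) F) σ e) := by
  obtain ⟨c, hc0, hc⟩ := semiSp_tv hg σ e 0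
  ext y
  rw [Subgroup.mem_map]
  constructor
  · rintro ⟨x, hx, rfl⟩
    obtain ⟨a, rfl⟩ := mem_Tb.1 hx
    change cSp hg σ (pr (tv m e a)) ∈ _
    rw [cSp_pr, hc]
    exact mem_Tb.2 ⟨_, rfl⟩
  · intro hy
    obtain ⟨a, rfl⟩ := mem_Tb.1 hy
    refine ⟨pr (tv m e (σ.symm (a * c))), mem_Tb.2 ⟨_, rfl⟩, ?_⟩
    change cSp hg σ (pr (tv m e (σ.symm (a * c)))) = _
    rw [cSp_pr, hc, RingEquiv.apply_symm_apply, mul_div_assoc, div_self hc0, mul_one]

end

section

variable {F : Type*} [Field F] {m : ℕ}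

variable (hpres : ∀ (θ : Cfsg.PSp m F ≃* Cfsg.PSp m F) (x : Cfsg.PSp m F),
  θ x ∈ TB m F ↔ x ∈ TB m F)

include hpres in
/-- every automorphism of `PSp` is induced by a semilinear similitude, provided automorphisms
preserve transvections -/
theorem isSemi_of_pres [Finite F] (hm : 2 ≤ m) (θ : Cfsg.PSp m F ≃* Cfsg.PSp m F) :
    ∃ (g : GL (K m) F) (hg : g ∈ Cfsg.GSp m F) (σ : F ≃+* F), θ = cSp hg σ := by
  obtain ⟨σ, g, hg, h⟩ := exists_semisimilitude hpres hm θ
  refine ⟨g, hg, σ, ?_⟩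
  have h1 : θ.trans (cSp hg σ).symm = MulEquiv.refl _ := by
    apply eq_refl_of_fix hm
    intro e he
    have h2 := h e he
    have h3 := map_cSp_Tb hg σ e
    change (Tb e).map ((cSp hg σ).symm.toMonoidHom.comp θ.toMonoidHom) = Tb e
    rw [← Subgroup.map_map, h2]
    change Subgroup.map (cSp hg σ).symm.toMonoidHom (Tb (smv (g : Matrix (K m) (K m) F) σ e)) = _
    rw [← h3, Subgroup.map_map]
    have : (cSp hg σ).symm.toMonoidHom.comp (cSp hg σ).toMonoidHom = MonoidHom.id _ := by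
      ext x
      simp
    rw [this, Subgroup.map_id]
  apply MulEquiv.ext
  intro x
  have h2 := DFunLike.congr_fun h1 x
  change (cSp hg σ).symm (θ x) = x at h2
  rw [MulEquiv.symm_apply_eq] at h2
  exact h2

include hpres in
theorem gamma_eq_top_of_pres [Finite F] (hm : 2 ≤ m) : Cfsg.gammaPSp m F = ⊤ := by
  rw [eq_top_iff]
  intro β _
  obtain ⟨g, hg, σ, rfl⟩ := isSemi_of_pres hpres hm β
  exact Subgroup.subset_closure ⟨g, σ, hg, isInduced_cSp hg σ⟩

end

end

section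

open Matrix Cfsg.Agent.Lib.H4 Cfsg.Agent.Lib.H2.Sp

local notation "PP" => Cfsg.Agent.Lib.H13.CentrArith.PP

section arith

theorem PP_odd (q k : ℕ) (hq : Even q) (hq2 : 2 ≤ q) : Odd (PP q k) := by
  unfold Cfsg.Agent.Lib.H13.CentrArith.PP
  apply Finset.prod_induction _ Odd (fun a b ha hb => ha.mul hb) odd_one
  intro i _
  have h1 : Even (q ^ (2 * (i + 1))) := (Nat.even_pow.2 ⟨hq, by omega⟩)
  have h2 : 0 < q ^ (2 * (i + 1)) := pow_pos (by omega) _
  rcases h1 with ⟨r, hr⟩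
  rw [hr]
  exact ⟨r - 1, by omega⟩

theorem pow_mul_odd_inj {q E1 E2 O1 O2 : ℕ} (hq : Even q) (hq2 : 2 ≤ q) (h1 : Odd O1)
    (h2 : Odd O2) (h : q ^ E1 * O1 = q ^ E2 * O2) : E1 = E2 ∧ O1 = O2 := by
  have key : ∀ {a b X Y : ℕ}, Odd X → Odd Y → a ≤ b → q ^ a * X = q ^ b * Y → a = b := by
    intro a b X Y hX hY hab hh
    by_contra hne
    have hlt : a < b := lt_of_le_of_ne hab hne
    obtain ⟨d, rfl⟩ : ∃ d, b = a + (d + 1) := ⟨b - a - 1, by omega⟩
    rw [pow_add, mul_assoc] at hh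
    have hpos : 0 < q ^ a := pow_pos (by omega) a
    have h3 := Nat.eq_of_mul_eq_mul_left hpos hh
    have h4 : Even (q ^ (d + 1) * Y) := (Nat.even_pow.2 ⟨hq, by omega⟩).mul_right Y
    rw [← h3] at h4
    exact (Nat.not_even_iff_odd.2 hX) h4
  have hE : E1 = E2 := by
    rcases le_total E1 E2 with hle | hle
    · exact key h1 h2 hle h
    · exact (key h2 h1 hle h.symm).symm
  subst hE
  exact ⟨rfl, Nat.eq_of_mul_eq_mul_left (pow_pos (by omega) E1) h⟩

theorem norm_form (q a b c X Y : ℕ) :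
    q ^ a * (q ^ b * X) * (q ^ c * Y) = q ^ (a + b + c) * (X * Y) := by
  rw [pow_add, pow_add]; ring

theorem exp_b (j k : ℕ) :
    2 * (2 * j + 1 + k) * (2 * j + 1) - (3 * (2 * j + 1) ^ 2 - (2 * j + 1)) / 2 +
      ((2 * j + 1 - 1) / 2) ^ 2 + ((2 * j + 1 + k) - (2 * j + 1)) ^ 2 + j * (j + 1) =
      (2 * j + 1 + k) ^ 2 := by
  have h1 : 3 * (2 * j + 1) ^ 2 - (2 * j + 1) = 2 * (6 * j ^ 2 + 5 * j + 1) := by
    apply Nat.sub_eq_of_eq_add; ring
  have h2 : (2 * j + 1 - 1) / 2 = j := by omega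
  have h3 : (2 * j + 1 + k) - (2 * j + 1) = k := by omega
  rw [h1, Nat.mul_div_cancel_left _ (by norm_num : 0 < 2), h2, h3]
  have h4 : 2 * (2 * j + 1 + k) * (2 * j + 1) - (6 * j ^ 2 + 5 * j + 1) =
      2 * j ^ 2 + 3 * j + 1 + 4 * j * k + 2 * k := by
    apply Nat.sub_eq_of_eq_add; ring
  rw [h4]; ring

theorem exp_a (r k : ℕ) :
    2 * (2 * r + k) * (2 * r) - (3 * (2 * r) ^ 2 - 2 * r) / 2 +
      (2 * r / 2) ^ 2 + ((2 * r + k) - 2 * r) ^ 2 + r * r = (2 * r + k) ^ 2 + r := by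
  have h1 : 3 * (2 * r) ^ 2 - 2 * r = 2 * (6 * r ^ 2 - r) := by
    have : r ≤ 6 * r ^ 2 := by nlinarith
    have h : 2 * (6 * r ^ 2 - r) = 2 * (6 * r ^ 2) - 2 * r := Nat.mul_sub 2 _ _
    rw [h]
    congr 1
    ring
  have h2 : 2 * r / 2 = r := by omega
  have h3 : (2 * r + k) - 2 * r = k := by omega
  rw [h1, Nat.mul_div_cancel_left _ (by norm_num : 0 < 2), h2, h3]
  have h5 : r ≤ 6 * r ^ 2 := by nlinarith
  have h4 : 2 * (2 * r + k) * (2 * r) - (6 * r ^ 2 - r) = 2 * r ^ 2 + r + 4 * r * k := by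
    apply Nat.sub_eq_of_eq_add
    have : 2 * r ^ 2 + r + 4 * r * k + (6 * r ^ 2 - r) = 2 * r ^ 2 + 4 * r * k + 6 * r ^ 2 := by
      omega
    rw [this]; ring
  rw [h4]; ring

theorem exp_c (j k : ℕ) :
    2 * (2 * j + 2 + k) * (2 * j + 2) - (3 * (2 * j + 2) ^ 2 - 3 * (2 * j + 2)) / 2 - 1 +
      ((2 * j + 2 - 2) / 2) ^ 2 + ((2 * j + 2 + k) - (2 * j + 2)) ^ 2 + j * (j + 1) =
      (2 * j + 2 + k) ^ 2 := by
  have h1 : 3 * (2 * j + 2) ^ 2 - 3 * (2 * j + 2) = 2 * (6 * j ^ 2 + 9 * j + 3) := by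
    apply Nat.sub_eq_of_eq_add; ring
  have h2 : (2 * j + 2 - 2) / 2 = j := by omega
  have h3 : (2 * j + 2 + k) - (2 * j + 2) = k := by omega
  rw [h1, Nat.mul_div_cancel_left _ (by norm_num : 0 < 2), h2, h3]
  have h4 : 2 * (2 * j + 2 + k) * (2 * j + 2) - (6 * j ^ 2 + 9 * j + 3) - 1 =
      2 * j ^ 2 + 7 * j + 4 + 4 * j * k + 4 * k := by
    rw [Nat.sub_sub]
    apply Nat.sub_eq_of_eq_add; ring
  rw [h4]; ring

end arith

end

section

open Matrix Cfsg.Agent.Lib.H4 Cfsg.Agent.Lib.H2.Sp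

local notation "PP" => Cfsg.Agent.Lib.H13.CentrArith.PP

section general

theorem card_centralizer_equiv {G H : Type*} [Group G] [Group H] (e : G ≃* H) (t : G) :
    Nat.card ↥(Subgroup.centralizer ({e t} : Set H)) =
      Nat.card ↥(Subgroup.centralizer ({t} : Set G)) := by
  symm
  apply Nat.card_congr
  refine Equiv.subtypeEquiv e.toEquiv ?_
  intro y
  rw [Subgroup.mem_centralizer_singleton_iff, Subgroup.mem_centralizer_singleton_iff]
  change _ ↔ e y * e t = e t * e y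
  rw [← map_mul, ← map_mul, e.injective.eq_iff]

end general

section char2

variable {F : Type*} [Field F] [Fintype F] [CharP F 2] {m : ℕ}

set_option quotPrecheck false in
local notation "B" => Cfsg.sympForm m F

omit [Fintype F] in
theorem pr_injective (hm : 1 ≤ m) : Function.Injective (pr : SpG m F →* Cfsg.PSp m F) := by
  intro s t h
  have h1 := pr_eq_pr_iff.1 h
  have h2 : s⁻¹ * t ∈ (Subgroup.center (SpG m F) : Set (SpG m F)) := h1
  rw [center_eq m hm] at h2
  have h3 : negOne m = (1 : SpG m F) := by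
    apply Subtype.ext
    show (-1 : Matrix _ _ F) = 1
    ext i j
    rw [Matrix.neg_apply, CharTwo.neg_eq]
  rw [h3, Set.pair_eq_singleton, Set.mem_singleton_iff, inv_mul_eq_one] at h2
  exact h2

/-- `Sp ≃ PSp` in characteristic two -/
noncomputable def prEquiv (hm : 1 ≤ m) : SpG m F ≃* Cfsg.PSp m F :=
  MulEquiv.ofBijective pr ⟨pr_injective hm, pr_surjective⟩

omit [Fintype F] in
theorem prEquiv_apply (hm : 1 ≤ m) (s : SpG m F) : prEquiv hm s = pr s := rfl

theorem card_even : Even (Fintype.card F) := by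
  have := FiniteField.even_card_of_char_two (F := F) (by
    exact (ringChar.eq F 2))
  exact (Nat.even_iff).2 this

theorem two_le_card : 2 ≤ Fintype.card F := Fintype.one_lt_card

theorem card_centr_b_norm (t : SpG m F) (ht2 : t ^ 2 = 1) {j : ℕ}
    (hs : ((t : Matrix (K m) (K m) F) - 1).rank = 2 * j + 1) :
    ∃ k E, m = 2 * j + 1 + k ∧ E + j * (j + 1) = m ^ 2 ∧
      Nat.card ↥(Subgroup.centralizer ({t} : Set (SpG m F))) =
        Fintype.card F ^ E * (PP (Fintype.card F) j * PP (Fintype.card F) k) := by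
  have ht' : t * t = 1 := by rw [← pow_two]; exact ht2
  have ht1 : t ≠ 1 := by
    rintro rfl
    rw [SpCentr.rank_one_sub] at hs
    omega
  obtain ⟨h1, h2, -⟩ := SpInvolCount.invariants_range_sp m t ht' ht1
  rw [hs] at h2
  obtain ⟨k, rfl⟩ : ∃ k, m = 2 * j + 1 + k := ⟨m - (2 * j + 1), by omega⟩
  have h := SpCentr.centralizer_b (2 * j + 1 + k) rfl t ht2 hs ⟨j, rfl⟩
  rw [← SpCentr.PP_eq_fin, ← SpCentr.PP_eq_fin, norm_form] at h
  refine ⟨k, _, rfl, exp_b j k, ?_⟩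
  rw [h]
  have e1 : (2 * j + 1 - 1) / 2 = j := by omega
  have e2 : 2 * j + 1 + k - (2 * j + 1) = k := by omega
  rw [e1, e2]

theorem card_centr_a_norm (t : SpG m F) (ht2 : t ^ 2 = 1) (ht1 : t ≠ 1)
    (halt : ∀ v : K m → F, B v ((t : Matrix (K m) (K m) F) *ᵥ v) = 0) :
    ∃ r k E, 1 ≤ r ∧ m = 2 * r + k ∧ E + r * r = m ^ 2 + r ∧
      Nat.card ↥(Subgroup.centralizer ({t} : Set (SpG m F))) =
        Fintype.card F ^ E * (PP (Fintype.card F) r * PP (Fintype.card F) k) := by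
  have ht' : t * t = 1 := by rw [← pow_two]; exact ht2
  obtain ⟨h1, h2, h3⟩ := SpInvolCount.invariants_range_sp m t ht' ht1
  obtain ⟨r, hr⟩ := h3 halt
  have hs : ((t : Matrix (K m) (K m) F) - 1).rank = 2 * r := by rw [hr]; ring
  rw [hs] at h1 h2
  obtain ⟨k, rfl⟩ : ∃ k, m = 2 * r + k := ⟨m - 2 * r, by omega⟩
  have h := SpCentr.centralizer_a (2 * r + k) rfl t ht2 hs halt
  rw [← SpCentr.PP_eq_fin, ← SpCentr.PP_eq_fin, norm_form] at h
  refine ⟨r, k, _, by omega, rfl, exp_a r k, ?_⟩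
  rw [h]
  have e1 : 2 * r / 2 = r := by omega
  have e2 : 2 * r + k - 2 * r = k := by omega
  rw [e1, e2]

theorem card_centr_c_norm (t : SpG m F) (ht2 : t ^ 2 = 1) {j : ℕ}
    (hs : ((t : Matrix (K m) (K m) F) - 1).rank = 2 * j + 2)
    (hna : ∃ v : K m → F, B v ((t : Matrix (K m) (K m) F) *ᵥ v) ≠ 0) :
    ∃ k E, m = 2 * j + 2 + k ∧ E + j * (j + 1) = m ^ 2 ∧
      Nat.card ↥(Subgroup.centralizer ({t} : Set (SpG m F))) =
        Fintype.card F ^ E * (PP (Fintype.card F) j * PP (Fintype.card F) k) := by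
  have ht' : t * t = 1 := by rw [← pow_two]; exact ht2
  have ht1 : t ≠ 1 := by
    rintro rfl
    rw [SpCentr.rank_one_sub] at hs
    omega
  obtain ⟨h1, h2, -⟩ := SpInvolCount.invariants_range_sp m t ht' ht1
  rw [hs] at h2
  obtain ⟨k, rfl⟩ : ∃ k, m = 2 * j + 2 + k := ⟨m - (2 * j + 2), by omega⟩
  have h := SpCentr.centralizer_c (2 * j + 2 + k) rfl t ht2 hs ⟨j + 1, by ring⟩ hna
  rw [← SpCentr.PP_eq_fin, ← SpCentr.PP_eq_fin, norm_form] at h
  refine ⟨k, _, rfl, exp_c j k, ?_⟩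
  rw [h]
  have e1 : (2 * j + 2 - 2) / 2 = j := by omega
  have e2 : 2 * j + 2 + k - (2 * j + 2) = k := by omega
  rw [e1, e2]

/-- the centraliser order of a transvection -/
theorem card_centr_tv (hm : 1 ≤ m) {e : K m → F} {a : F} (he0 : e ≠ 0) (ha0 : a ≠ 0) :
    Nat.card ↥(Subgroup.centralizer ({tv m e a} : Set (SpG m F))) =
      Fintype.card F ^ (m ^ 2) * PP (Fintype.card F) (m - 1) := by
  have ht2 : (tv m e a) ^ 2 = 1 := by rw [pow_two]; exact SpThreeTransp.tv_sq m e a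
  obtain ⟨k, E, hk, hE, h⟩ := card_centr_b_norm (j := 0) (tv m e a) ht2
    (by rw [SpThreeTransp.rank_tv m e a he0 ha0])
  rw [h, CentrArith.PP_zero, one_mul]
  have hk' : k = m - 1 := by omega
  have hE' : E = m ^ 2 := by simpa using hE
  rw [hk', hE']

/-- an involution with the centraliser order of a transvection is a transvection (`m ≥ 3`) -/
theorem rank_one_of_card (hm : 3 ≤ m) (t : SpG m F) (ht2 : t ^ 2 = 1) (ht1 : t ≠ 1)
    (hcard : Nat.card ↥(Subgroup.centralizer ({t} : Set (SpG m F))) =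
      Fintype.card F ^ (m ^ 2) * PP (Fintype.card F) (m - 1)) :
    ((t : Matrix (K m) (K m) F) - 1).rank = 1 := by
  have hq := card_even (F := F)
  have hq2 := two_le_card (F := F)
  have hodd : ∀ a b, Odd (PP (Fintype.card F) a * PP (Fintype.card F) b) :=
    fun a b => (PP_odd _ a hq hq2).mul (PP_odd _ b hq hq2)
  have hpowinj : ∀ {a b : ℕ}, Fintype.card F ^ a = Fintype.card F ^ b → a = b :=
    fun h => Nat.pow_right_injective hq2 h
  by_cases halt : ∀ v : K m → F, B v ((t : Matrix (K m) (K m) F) *ᵥ v) = 0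
  · exfalso
    obtain ⟨r, k, E, hr, hmk, hE, h⟩ := card_centr_a_norm t ht2 ht1 halt
    rw [hcard] at h
    obtain ⟨h1, h2⟩ := pow_mul_odd_inj hq hq2 (PP_odd _ _ hq hq2) (hodd r k) h
    -- E = m^2 so r * r = r, r = 1
    have hr1 : r = 1 := by
      have : r * r = r := by omega
      rcases Nat.eq_zero_or_pos r with h0 | h0
      · omega
      · exact Nat.eq_of_mul_eq_mul_left h0 (by rw [this, mul_one])
    subst hr1
    have hm1 : m - 1 = k + 1 := by omega
    rw [hm1, CentrArith.PP_succ, CentrArith.PP_succ, CentrArith.PP_zero, one_mul, mul_comm] at h2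
    have hpos := CentrArith.PP_pos (Fintype.card F) k hq2
    have h3 := Nat.eq_of_mul_eq_mul_right hpos h2
    have h4 : 1 ≤ Fintype.card F ^ (2 * (k + 1)) := Nat.one_le_pow _ _ (by omega)
    have h5 : 1 ≤ Fintype.card F ^ (2 * (0 + 1)) := Nat.one_le_pow _ _ (by omega)
    have h6 : Fintype.card F ^ (2 * (k + 1)) = Fintype.card F ^ (2 * (0 + 1)) := by omega
    have := hpowinj h6
    omega
  · push Not at halt
    rcases Nat.even_or_odd' (((t : Matrix (K m) (K m) F) - 1).rank) with ⟨j, hj | hj⟩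
    · exfalso
      have ht' : t * t = 1 := by rw [← pow_two]; exact ht2
      obtain ⟨h1, -, -⟩ := SpInvolCount.invariants_range_sp m t ht' ht1
      obtain ⟨j', rfl⟩ : ∃ j', j = j' + 1 := ⟨j - 1, by omega⟩
      have hs : ((t : Matrix (K m) (K m) F) - 1).rank = 2 * j' + 2 := by rw [hj]; ring
      obtain ⟨k, E, hmk, hE, h⟩ := card_centr_c_norm t ht2 hs halt
      rw [hcard] at h
      obtain ⟨h1, h2⟩ := pow_mul_odd_inj hq hq2 (PP_odd _ _ hq hq2) (hodd j' k) h
      have hj0 : j' = 0 := by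
        have : j' * (j' + 1) = 0 := by omega
        rcases Nat.mul_eq_zero.1 this with h0 | h0
        · exact h0
        · omega
      subst hj0
      have hm1 : m - 1 = k + 1 := by omega
      rw [hm1, CentrArith.PP_succ, CentrArith.PP_zero, one_mul] at h2
      have hpos := CentrArith.PP_pos (Fintype.card F) k hq2
      have h3 : Fintype.card F ^ (2 * (k + 1)) - 1 = 1 := by
        have : PP (Fintype.card F) k * (Fintype.card F ^ (2 * (k + 1)) - 1) =
            PP (Fintype.card F) k * 1 := by rw [h2, mul_one]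
        exact Nat.eq_of_mul_eq_mul_left hpos this
      have h4 : 2 ^ (2 * (k + 1)) ≤ Fintype.card F ^ (2 * (k + 1)) :=
        Nat.pow_le_pow_left hq2 _
      have h5 : 2 ^ 2 ≤ 2 ^ (2 * (k + 1)) := Nat.pow_le_pow_right (by norm_num) (by omega)
      omega
    · obtain ⟨k, E, hmk, hE, h⟩ := card_centr_b_norm t ht2 hj
      rw [hcard] at h
      obtain ⟨h1, h2⟩ := pow_mul_odd_inj hq hq2 (PP_odd _ _ hq hq2) (hodd j k) h
      have hj0 : j = 0 := by
        have : j * (j + 1) = 0 := by omega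
        rcases Nat.mul_eq_zero.1 this with h0 | h0
        · exact h0
        · omega
      rw [hj, hj0]

end char2

end

section

open Matrix Cfsg.Agent.Lib.H4 Cfsg.Agent.Lib.H2.Sp

local notation "PP" => Cfsg.Agent.Lib.H13.CentrArith.PP

section char2

variable {F : Type*} [Field F] [Fintype F] [CharP F 2] {m : ℕ}

/-- characterisation of transvections in characteristic two, `m ≥ 3` -/
theorem mem_TB_iff_two (hm : 3 ≤ m) (x : Cfsg.PSp m F) :
    x ∈ TB m F ↔ x ≠ 1 ∧ x * x = 1 ∧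
      Nat.card ↥(Subgroup.centralizer ({x} : Set (Cfsg.PSp m F))) =
        Fintype.card F ^ (m ^ 2) * PP (Fintype.card F) (m - 1) := by
  have hm1 : 1 ≤ m := by omega
  constructor
  · rintro ⟨e, a, he0, ha0, rfl⟩
    refine ⟨?_, ?_, ?_⟩
    · intro h
      exact one_notMem_TB hm1 (by rw [← h]; exact ⟨e, a, he0, ha0, rfl⟩)
    · rw [← map_mul, SpThreeTransp.tv_sq, map_one]
    · rw [← prEquiv_apply hm1, card_centralizer_equiv, card_centr_tv hm1 he0 ha0]
  · rintro ⟨hx1, hx2, hcard⟩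
    obtain ⟨t, rfl⟩ := pr_surjective x
    have ht1 : t ≠ 1 := by
      rintro rfl
      exact hx1 (map_one _)
    have ht2 : t ^ 2 = 1 := by
      apply pr_injective hm1
      rw [pow_two, map_mul, hx2, map_one]
    rw [← prEquiv_apply hm1, card_centralizer_equiv] at hcard
    have hrank := rank_one_of_card hm t ht2 ht1 hcard
    obtain ⟨w, c, hw, hc, rfl⟩ := SpThreeTransp.exists_tv_of_rank_one m t hrank
    exact ⟨w, c, hw, hc, rfl⟩

/-- automorphisms preserve transvections in characteristic two, `m ≥ 3` -/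
theorem presT_two (hm : 3 ≤ m) (θ : Cfsg.PSp m F ≃* Cfsg.PSp m F) (x : Cfsg.PSp m F) :
    θ x ∈ TB m F ↔ x ∈ TB m F := by
  rw [mem_TB_iff_two hm, mem_TB_iff_two hm, card_centralizer_equiv θ x]
  constructor
  · rintro ⟨h1, h2, h3⟩
    refine ⟨?_, ?_, h3⟩
    · rintro rfl
      exact h1 (map_one θ)
    · apply θ.injective
      rw [map_mul, h2, map_one]
  · rintro ⟨h1, h2, h3⟩
    refine ⟨?_, ?_, h3⟩
    · intro h
      apply h1
      apply θ.injective
      rw [h, map_one]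
    · rw [← map_mul, h2, map_one]

end char2

/-- **every automorphism of `PSp_{2m}(F)` is induced by a semilinear similitude** -/
theorem isSemi {F : Type*} [Field F] [Fintype F] {p : ℕ} [Fact p.Prime] [CharP F p] {m : ℕ}
    (hm : 2 ≤ m) (h4 : m = 2 → p ≠ 2) (θ : Cfsg.PSp m F ≃* Cfsg.PSp m F) :
    ∃ (g : GL (K m) F) (hg : g ∈ Cfsg.GSp m F) (σ : F ≃+* F), θ = cSp hg σ := by
  by_cases hp : p = 2
  · subst hp
    have hm3 : 3 ≤ m := by
      rcases Nat.lt_or_ge m 3 with h | h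
      · exact absurd rfl (h4 (by omega))
      · exact h
    exact isSemi_of_pres (presT_two hm3) hm θ
  · have h2 : (2 : F) ≠ 0 := by
      intro h
      have h1 : ((2 : ℕ) : F) = 0 := by exact_mod_cast h
      rw [CharP.cast_eq_zero_iff F p] at h1
      exact hp ((Nat.prime_dvd_prime_iff_eq Fact.out Nat.prime_two).1 h1)
    exact isSemi_of_pres (presT_odd p h2 (by omega)) hm θ

theorem gammaPSp_eq_top {F : Type*} [Field F] [Fintype F] {p : ℕ} [Fact p.Prime] [CharP F p] {m : ℕ}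
    (hm : 2 ≤ m) (h4 : m = 2 → p ≠ 2) : Cfsg.gammaPSp m F = ⊤ := by
  rw [eq_top_iff]
  intro β _
  obtain ⟨g, hg, σ, rfl⟩ := isSemi hm h4 β
  exact Subgroup.subset_closure ⟨g, σ, hg, isInduced_cSp hg σ⟩

end

end Cfsg.Agent.Lib.H13.AutPSp
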