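import Mathlib
import Cfsg.Agent.Lib.H13.AutPSp2

/-!
Automorphisms of `PSp_{2m}(q)`, part 3: composition of the semilinear automorphisms `cSp`, the homomorphisms
`cGSp : GSp → Aut(PSp)` and `fSp : Aut(F) → Aut(PSp)`, the inner-diagonal group is the image of `GSp`, the kernel of `cGSp`, the
multiplier `mult`, the map `kapSp : GSp → Out(PSp)`, normality of the inner-diagonal group, the generic split class count
(`split_psp`) and centraliser isomorphism (`centralizer_isoSp`).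
-/

set_option autoImplicit false
set_option linter.unusedSectionVars false
set_option linter.unusedVariables false
set_option linter.unusedSimpArgs false
set_option linter.deprecated false

namespace Cfsg.Agent.Lib.H13.AutPSp

section

open Matrix Cfsg.Agent.Lib.H4 Cfsg.Agent.Lib.H2.Sp

section

variable {F : Type*} [Field F] {m : ℕ}

set_option quotPrecheck false in
local notation "B" => Cfsg.sympForm m F

/-- GL-level field automorphism -/
abbrev gmapK (σ : F ≃+* F) : GL (K m) F →* GL (K m) F :=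
  Matrix.GeneralLinearGroup.map (σ : F →+* F)

theorem gmapK_coe (σ : F ≃+* F) (g : GL (K m) F) :
    ((gmapK σ g : GL (K m) F) : Matrix (K m) (K m) F) = (g : Matrix (K m) (K m) F).map σ := rfl

theorem map_reflK (M : Matrix (K m) (K m) F) : M.map (RingEquiv.refl F) = M := by
  ext i j; rfl

theorem gmapK_refl (g : GL (K m) F) : gmapK (RingEquiv.refl F) g = g := by
  apply Units.ext
  rw [gmapK_coe, map_reflK]

theorem gmapK_mem_GSp (σ : F ≃+* F) {g : GL (K m) F} (hg : g ∈ Cfsg.GSp m F) :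
    gmapK σ g ∈ Cfsg.GSp m F := by
  obtain ⟨c, hc⟩ := hg
  refine ⟨Units.map (σ : F →* F) c, ?_⟩
  intro u v
  rw [gmapK_coe]
  have hu : u = sgv σ (sgv σ.symm u) := (sgv_sgv_symm σ u).symm
  have hv : v = sgv σ (sgv σ.symm v) := (sgv_sgv_symm σ v).symm
  rw [hu, hv, ← sgv_mulVec, ← sgv_mulVec, B_sgv, B_sgv, hc, map_mul]
  rfl

theorem cSp_congr {g g' : GL (K m) F} (hg : g ∈ Cfsg.GSp m F) (hg' : g' ∈ Cfsg.GSp m F)
    {σ σ' : F ≃+* F} (h1 : g = g') (h2 : σ = σ') : cSp hg σ = cSp hg' σ' := by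
  subst h1 h2
  rfl

/-- composition of semilinear automorphisms -/
theorem cSp_trans {g g' : GL (K m) F} (hg : g ∈ Cfsg.GSp m F) (hg' : g' ∈ Cfsg.GSp m F)
    (σ σ' : F ≃+* F) :
    (cSp hg σ).trans (cSp hg' σ') =
      cSp (mul_mem hg' (gmapK_mem_GSp σ' hg)) (σ.trans σ') := by
  ext x
  obtain ⟨s, rfl⟩ := pr_surjective x
  rw [MulEquiv.trans_apply, cSp_pr, cSp_pr, cSp_pr]
  congr 1
  apply mat_injective
  rw [mat_semiSp, mat_semiSp, mat_semiSp, _root_.mul_inv_rev, Units.val_mul, Units.val_mul,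
    ← map_inv, gmapK_coe, gmapK_coe]
  have e1 : ((g : Matrix (K m) (K m) F) * (mat s).map σ *
      ((g⁻¹ : GL (K m) F) : Matrix (K m) (K m) F)).map σ' =
      (g : Matrix (K m) (K m) F).map σ' * ((mat s).map σ).map σ' *
      ((g⁻¹ : GL (K m) F) : Matrix (K m) (K m) F).map σ' := by
    rw [Matrix.map_mul, Matrix.map_mul]
  rw [e1]
  have e2 : ((mat s).map σ).map σ' = (mat s).map (σ.trans σ') := by
    ext i j; rfl
  rw [e2]
  simp only [Matrix.mul_assoc]

theorem cSp_one_refl : cSp (one_mem (Cfsg.GSp m F)) (RingEquiv.refl F) = MulEquiv.refl _ := by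
  ext x
  obtain ⟨s, rfl⟩ := pr_surjective x
  rw [cSp_pr, MulEquiv.refl_apply]
  congr 1
  apply mat_injective
  rw [mat_semiSp]
  simp [map_reflK]

/-- the inner-diagonal automorphisms, as a homomorphism from `GSp` -/
noncomputable def cGSp : ↥(Cfsg.GSp m F) →* MulAut (Cfsg.PSp m F) where
  toFun g := cSp g.2 (RingEquiv.refl F)
  map_one' := cSp_one_refl
  map_mul' g g' := by
    change cSp (g * g').2 (RingEquiv.refl F) =
      (cSp g'.2 (RingEquiv.refl F)).trans (cSp g.2 (RingEquiv.refl F))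
    rw [cSp_trans]
    apply cSp_congr
    · change (g : GL (K m) F) * (g' : GL (K m) F) = _
      rw [gmapK_refl]
    · rfl

theorem cGSp_apply (g : ↥(Cfsg.GSp m F)) : cGSp g = cSp g.2 (RingEquiv.refl F) := rfl

/-- the standard field automorphisms, as a homomorphism from `Aut F` -/
noncomputable def fSp : (F ≃+* F) →* MulAut (Cfsg.PSp m F) where
  toFun σ := cSp (one_mem (Cfsg.GSp m F)) σ
  map_one' := cSp_one_refl
  map_mul' σ σ' := by
    change cSp (one_mem (Cfsg.GSp m F)) (σ * σ') =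
      (cSp (one_mem (Cfsg.GSp m F)) σ').trans (cSp (one_mem (Cfsg.GSp m F)) σ)
    rw [cSp_trans]
    apply cSp_congr
    · rw [map_one, mul_one]
    · rfl

theorem fSp_apply (σ : F ≃+* F) : fSp (m := m) σ = cSp (one_mem (Cfsg.GSp m F)) σ := rfl

theorem cSp_factor {g : GL (K m) F} (hg : g ∈ Cfsg.GSp m F) (σ : F ≃+* F) :
    cSp hg σ = cSp hg (RingEquiv.refl F) * cSp (one_mem (Cfsg.GSp m F)) σ := by
  ext x
  obtain ⟨s, rfl⟩ := pr_surjective x
  rw [MulAut.mul_apply, cSp_pr, cSp_pr, cSp_pr]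
  congr 1
  apply mat_injective
  rw [mat_semiSp, mat_semiSp, mat_semiSp, map_reflK, inv_one, Units.val_one, Matrix.one_mul,
    Matrix.mul_one]

theorem cSp_eq_mul {g : GL (K m) F} (hg : g ∈ Cfsg.GSp m F) (σ : F ≃+* F) :
    cSp hg σ = cGSp ⟨g, hg⟩ * fSp σ := by
  rw [cGSp_apply, fSp_apply]
  exact cSp_factor hg σ

/-- `σ` applied to an element of `GSp` -/
noncomputable def gmapSp (σ : F ≃+* F) : ↥(Cfsg.GSp m F) →* ↥(Cfsg.GSp m F) :=
  ((gmapK σ).comp (Cfsg.GSp m F).subtype).codRestrict (Cfsg.GSp m F)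
    (fun g => gmapK_mem_GSp σ g.2)

theorem gmapSp_coe (σ : F ≃+* F) (g : ↥(Cfsg.GSp m F)) :
    ((gmapSp σ g : ↥(Cfsg.GSp m F)) : GL (K m) F) = gmapK σ (g : GL (K m) F) := rfl

/-- the commutation relation -/
theorem fSp_mul_cGSp (σ : F ≃+* F) (g : ↥(Cfsg.GSp m F)) :
    fSp σ * cGSp g = cGSp (gmapSp σ g) * fSp σ := by
  have e0 : gmapSp σ g = ⟨gmapK σ (g : GL (K m) F), gmapK_mem_GSp σ g.2⟩ := rfl
  rw [e0, ← cSp_eq_mul (gmapK_mem_GSp σ g.2) σ]
  change (cSp g.2 (RingEquiv.refl F)).trans (cSp (one_mem (Cfsg.GSp m F)) σ) = _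
  rw [cSp_trans]
  apply cSp_congr
  · rw [one_mul]
  · rfl

theorem mul_formSp (g g' : ↥(Cfsg.GSp m F)) (σ σ' : F ≃+* F) :
    (cGSp g * fSp σ) * (cGSp g' * fSp σ') = cGSp (g * gmapSp σ g') * fSp (σ * σ') := by
  rw [mul_assoc, ← mul_assoc (fSp σ), fSp_mul_cGSp, mul_assoc, ← mul_assoc, ← map_mul,
    ← map_mul]

/-- an induced automorphism is determined -/
theorem eq_cSp_of_isInduced {g : GL (K m) F} (hg : g ∈ Cfsg.GSp m F) {σ : F ≃+* F}
    {β : Cfsg.PSp m F ≃* Cfsg.PSp m F} (h : Cfsg.IsInducedBySemilinearPSp g σ β) :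
    β = cSp hg σ := by
  ext x
  obtain ⟨s, rfl⟩ := pr_surjective x
  rw [cSp_pr]
  exact h s (semiSp hg σ s) rfl

theorem eq_cGSp_of_isInnerDiagonal {β : MulAut (Cfsg.PSp m F)}
    (h : Cfsg.IsInnerDiagonalAutPSp β) : ∃ g : ↥(Cfsg.GSp m F), β = cGSp g := by
  obtain ⟨g, hg, hβ⟩ := h
  exact ⟨⟨g, hg⟩, eq_cSp_of_isInduced hg hβ⟩

theorem inndiagSp_eq : Cfsg.inndiagPSp m F = (cGSp (m := m) (F := F)).range := by
  apply le_antisymm
  · unfold Cfsg.inndiagPSp Cfsg.autSubgroupOf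
    rw [Subgroup.closure_le]
    intro β hβ
    obtain ⟨g, rfl⟩ := eq_cGSp_of_isInnerDiagonal hβ
    exact ⟨g, rfl⟩
  · rintro _ ⟨g, rfl⟩
    exact Subgroup.subset_closure ⟨g.1, g.2, isInduced_cSp g.2 _⟩

theorem eq_fSp_of_isStd {σ : F ≃+* F} {φ : MulAut (Cfsg.PSp m F)}
    (h : Cfsg.IsStdFieldAutPSp σ φ) : φ = fSp σ := by
  ext x
  obtain ⟨s, rfl⟩ := pr_surjective x
  rw [fSp_apply, cSp_pr]
  apply h s
  change mat (semiSp (one_mem (Cfsg.GSp m F)) σ s) = (mat s).map σ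
  rw [mat_semiSp]
  simp

/-- `Sp ≤ GSp` -/
def spGSp : SpG m F →* ↥(Cfsg.GSp m F) where
  toFun s := ⟨⟨mat s, mat s⁻¹, mat_mul_inv s, mat_inv_mul s⟩, 1, fun u v => by
    rw [Units.val_one, one_mul]
    exact B_sv s u v⟩
  map_one' := by
    apply Subtype.ext
    apply Units.ext
    rfl
  map_mul' s t := by
    apply Subtype.ext
    apply Units.ext
    rfl

theorem spGSp_coe (s : SpG m F) :
    (((spGSp s : ↥(Cfsg.GSp m F)) : GL (K m) F) : Matrix (K m) (K m) F) = mat s := rfl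

theorem spGSp_inv_coe (s : SpG m F) :
    ((((spGSp s : ↥(Cfsg.GSp m F)) : GL (K m) F)⁻¹ : GL (K m) F) : Matrix (K m) (K m) F) =
      mat s⁻¹ := rfl

theorem cGSp_spGSp (s : SpG m F) : cGSp (spGSp s) = MulAut.conj (pr s) := by
  ext x
  obtain ⟨t, rfl⟩ := pr_surjective x
  rw [cGSp_apply, cSp_pr, MulAut.conj_apply, ← map_inv, ← map_mul, ← map_mul]
  congr 1

theorem inn_le_range_cGSp :
    Cfsg.Inn (Cfsg.PSp m F) ≤ (cGSp (m := m) (F := F)).range := by
  rintro _ ⟨y, rfl⟩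
  obtain ⟨s, rfl⟩ := pr_surjective y
  exact ⟨spGSp s, cGSp_spGSp s⟩

end

end

section

open Matrix Cfsg.Agent.Lib.H4 Cfsg.Agent.Lib.H2.Sp

section

variable {F : Type*} [Field F] {m : ℕ}

set_option quotPrecheck false in
local notation "B" => Cfsg.sympForm m F

theorem sgv_e (σ : F ≃+* F) (i : K m) : sgv σ (FTPG.e i : K m → F) = FTPG.e i := by
  ext j
  rw [sgv_apply, FTPG.e_apply]
  split_ifs <;> simp

/-- a semilinear map fixing every point is a scalar and the field automorphism is trivial -/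
theorem scalar_of_fix_all (hm : 1 ≤ m) (g : Matrix (K m) (K m) F) (σ : F ≃+* F)
    (h : ∀ e : K m → F, e ≠ 0 → Par e (smv g σ e)) :
    σ = RingEquiv.refl F ∧ ∃ c : F, g = c • 1 := by
  classical
  -- the basis vectors
  have hbase : ∀ i : K m, ∃ l : F, l ≠ 0 ∧ g *ᵥ (FTPG.e i) = l • FTPG.e i := by
    intro i
    obtain ⟨l, hl0, hl⟩ := h (FTPG.e i) (FTPG.e_ne_zero i)
    refine ⟨l, hl0, ?_⟩
    unfold smv at hl
    rw [sgv_e] at hl
    exact hl
  choose l hl0 hl using hbase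
  have hpair : ∀ (i j : K m) (a : F), i ≠ j → ∃ c : F, c ≠ 0 ∧
      l i • FTPG.e i + (σ a * l j) • FTPG.e j = c • (FTPG.e i + a • FTPG.e j : K m → F) := by
    intro i j a hij
    have hne : (FTPG.e i + a • FTPG.e j : K m → F) ≠ 0 := by
      intro h0
      have := congrFun h0 i
      simp [FTPG.e_self, FTPG.e_of_ne hij] at this
    obtain ⟨c, hc0, hc⟩ := h _ hne
    refine ⟨c, hc0, ?_⟩
    rw [← hc, smv_add, smv_smul]
    unfold smv
    rw [sgv_e, sgv_e, hl, hl, smul_smul]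
  have hpair' : ∀ (i j : K m) (a : F), i ≠ j → σ a * l j = l i * a := by
    intro i j a hij
    obtain ⟨c, hc0, hc⟩ := hpair i j a hij
    have h1 := congrFun hc i
    have h2 := congrFun hc j
    simp [FTPG.e_self, FTPG.e_of_ne hij, FTPG.e_of_ne hij.symm] at h1 h2
    rw [h2, h1]
  have hleq : ∀ i j : K m, l i = l j := by
    intro i j
    by_cases hij : i = j
    · rw [hij]
    · have := hpair' i j 1 hij
      rw [map_one, one_mul, mul_one] at this
      exact this.symm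
  have i₀ : K m := Sum.inl ⟨0, hm⟩
  have i₁ : K m := Sum.inr ⟨0, hm⟩
  obtain ⟨i₀, i₁, h01⟩ : ∃ i₀ i₁ : K m, i₀ ≠ i₁ :=
    ⟨Sum.inl ⟨0, hm⟩, Sum.inr ⟨0, hm⟩, by simp⟩
  constructor
  · apply RingEquiv.ext
    intro a
    have := hpair' i₀ i₁ a h01
    rw [hleq i₀ i₁, mul_comm] at this
    exact mul_left_cancel₀ (hl0 i₁) this
  · refine ⟨l i₀, ?_⟩
    ext r i
    have h1 := congrFun (hl i) r
    rw [hleq i i₀] at h1
    simp only [mulVec, dotProduct, FTPG.e_apply, mul_ite, mul_one, mul_zero, Finset.sum_ite_eq',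
      Finset.mem_univ, if_true, Pi.smul_apply, smul_eq_mul] at h1
    rw [h1, Matrix.smul_apply, Matrix.one_apply, smul_eq_mul]
    by_cases hri : r = i
    · simp [hri]
    · simp [hri]

/-- the kernel of `(g, σ) ↦ cSp g σ` -/
theorem ker_cSp (hm : 2 ≤ m) {g : GL (K m) F} (hg : g ∈ Cfsg.GSp m F) (σ : F ≃+* F)
    (h : cSp hg σ = MulEquiv.refl _) :
    σ = RingEquiv.refl F ∧ ∃ c : F, (g : Matrix (K m) (K m) F) = c • 1 := by
  apply scalar_of_fix_all (by omega)
  intro e he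
  rw [← Tb_eq_iff hm he (smv_ne_zero g σ he), ← map_cSp_Tb hg σ e, h]
  ext y
  simp

theorem cSp_eq_one_of_scalar (hm : 1 ≤ m) {g : GL (K m) F} (hg : g ∈ Cfsg.GSp m F) {c : F}
    (hc : (g : Matrix (K m) (K m) F) = c • 1) : cSp hg (RingEquiv.refl F) = MulEquiv.refl _ := by
  have hc0 : c ≠ 0 := by
    rintro rfl
    have h1 : (g : Matrix (K m) (K m) F) * ((g⁻¹ : GL (K m) F) : Matrix (K m) (K m) F) = 1 := by
      rw [← Units.val_mul, mul_inv_cancel, Units.val_one]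
    rw [hc, zero_smul, Matrix.zero_mul] at h1
    have i₀ : K m := Sum.inl ⟨0, hm⟩
    have := congrFun (congrFun h1 i₀) i₀
    simp at this
  have hinv : ((g⁻¹ : GL (K m) F) : Matrix (K m) (K m) F) = c⁻¹ • 1 := by
    have h1 : (g : Matrix (K m) (K m) F) * ((g⁻¹ : GL (K m) F) : Matrix (K m) (K m) F) = 1 := by
      rw [← Units.val_mul, mul_inv_cancel, Units.val_one]
    rw [hc, Matrix.smul_mul, Matrix.one_mul] at h1
    have h2 := congrArg (fun M => c⁻¹ • M) h1
    simp only [smul_smul, inv_mul_cancel₀ hc0, one_smul] at h2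
    exact h2
  ext x
  obtain ⟨s, rfl⟩ := pr_surjective x
  rw [cSp_pr, MulEquiv.refl_apply]
  congr 1
  apply mat_injective
  rw [mat_semiSp, hc, hinv, map_reflK, Matrix.smul_mul, Matrix.one_mul, Matrix.mul_smul,
    Matrix.mul_one, smul_smul, inv_mul_cancel₀ hc0, one_smul]

theorem cGSp_eq_one_iff (hm : 2 ≤ m) (g : ↥(Cfsg.GSp m F)) :
    cGSp g = 1 ↔ ∃ c : F, ((g : GL (K m) F) : Matrix (K m) (K m) F) = c • 1 := by
  constructor
  · intro h
    exact (ker_cSp hm g.2 (RingEquiv.refl F) h).2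
  · rintro ⟨c, hc⟩
    exact cSp_eq_one_of_scalar (by omega) g.2 hc

theorem fSp_injective (hm : 2 ≤ m) :
    Function.Injective (fSp : (F ≃+* F) →* MulAut (Cfsg.PSp m F)) := by
  rw [injective_iff_map_eq_one]
  intro σ hσ
  exact (ker_cSp hm (one_mem _) σ hσ).1

/-- uniqueness of the field automorphism -/
theorem uniq_sigma (hm : 2 ≤ m) {g g' : ↥(Cfsg.GSp m F)} {σ σ' : F ≃+* F}
    (h : cGSp g * fSp σ = cGSp g' * fSp σ') : σ = σ' := by
  have h1 : cGSp (g'⁻¹ * g) * fSp (σ * σ'⁻¹) = 1 := by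
    rw [map_mul, map_mul, map_inv, map_inv]
    calc (cGSp g')⁻¹ * cGSp g * (fSp σ * (fSp σ')⁻¹)
        = (cGSp g')⁻¹ * (cGSp g * fSp σ) * (fSp σ')⁻¹ := by group
      _ = 1 := by rw [h]; group
  rw [← cSp_eq_mul (g'⁻¹ * g).2] at h1
  have h2 := (ker_cSp hm _ _ h1).1
  have h3 : σ * σ'⁻¹ = 1 := h2
  exact mul_inv_eq_one.1 h3

theorem cGSp_eq_of_smul (hm : 2 ≤ m) {g g' : ↥(Cfsg.GSp m F)} {d : F}
    (h : ((g : GL (K m) F) : Matrix (K m) (K m) F) = d • ((g' : GL (K m) F) : Matrix (K m) (K m) F)) :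
    cGSp g = cGSp g' := by
  have h1 : cGSp (g * g'⁻¹) = 1 := by
    rw [cGSp_eq_one_iff hm]
    refine ⟨d, ?_⟩
    change ((g : GL (K m) F) : Matrix (K m) (K m) F) *
      (((g' : GL (K m) F)⁻¹ : GL (K m) F) : Matrix (K m) (K m) F) = _
    rw [h, Matrix.smul_mul, ← Units.val_mul, mul_inv_cancel, Units.val_one]
  rw [map_mul, map_inv, mul_inv_eq_one] at h1
  exact h1

end

end

section

open Matrix Cfsg.Agent.Lib.H4 Cfsg.Agent.Lib.H2.Sp

section

variable {F : Type*} [Field F] {m : ℕ}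

set_option quotPrecheck false in
local notation "B" => Cfsg.sympForm m F

theorem exists_B_one (hm : 1 ≤ m) : ∃ u v : K m → F, B u v = 1 := by
  have h2 : (Pi.single (Sum.inl ⟨0, hm⟩) 1 : K m → F) ≠ 0 := by
    intro h3
    have := congrFun h3 (Sum.inl ⟨0, hm⟩)
    simp at this
  obtain ⟨f, hf⟩ := exists_B_eq_one h2
  exact ⟨f, _, hf⟩

theorem mult_unique (hm : 1 ≤ m) {g : Matrix (K m) (K m) F} {c c' : Fˣ}
    (hc : ∀ u v, B (g *ᵥ u) (g *ᵥ v) = (c : F) * B u v)
    (hc' : ∀ u v, B (g *ᵥ u) (g *ᵥ v) = (c' : F) * B u v) : c = c' := by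
  obtain ⟨u, v, huv⟩ := exists_B_one (F := F) hm
  apply Units.ext
  have := (hc u v).symm.trans (hc' u v)
  rwa [huv, mul_one, mul_one] at this

/-- the multiplier of a conformal symplectic matrix -/
noncomputable def mult (hm : 1 ≤ m) : ↥(Cfsg.GSp m F) →* Fˣ where
  toFun g := Classical.choose g.2
  map_one' := by
    apply mult_unique hm (g := 1) (Classical.choose_spec (1 : ↥(Cfsg.GSp m F)).2)
    intro u v
    simp
  map_mul' g g' := by
    apply mult_unique hm (Classical.choose_spec (g * g').2)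
    intro u v
    change B ((((g : GL (K m) F) * (g' : GL (K m) F) : GL (K m) F) : Matrix (K m) (K m) F) *ᵥ u)
      ((((g : GL (K m) F) * (g' : GL (K m) F) : GL (K m) F) : Matrix (K m) (K m) F) *ᵥ v) = _
    rw [Units.val_mul, ← mulVec_mulVec, ← mulVec_mulVec, Classical.choose_spec g.2,
      Classical.choose_spec g'.2, Units.val_mul, mul_assoc]

theorem mult_spec (hm : 1 ≤ m) (g : ↥(Cfsg.GSp m F)) (u v : K m → F) :
    B (((g : GL (K m) F) : Matrix (K m) (K m) F) *ᵥ u)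
      (((g : GL (K m) F) : Matrix (K m) (K m) F) *ᵥ v) = (mult hm g : F) * B u v :=
  Classical.choose_spec g.2 u v

theorem mult_eq (hm : 1 ≤ m) (g : ↥(Cfsg.GSp m F)) {c : Fˣ}
    (hc : ∀ u v, B (((g : GL (K m) F) : Matrix (K m) (K m) F) *ᵥ u)
      (((g : GL (K m) F) : Matrix (K m) (K m) F) *ᵥ v) = (c : F) * B u v) : mult hm g = c :=
  mult_unique hm (mult_spec hm g) hc

theorem mult_spGSp (hm : 1 ≤ m) (s : SpG m F) : mult hm (spGSp s) = 1 := by
  apply mult_eq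
  intro u v
  rw [Units.val_one, one_mul]
  exact B_sv s u v

/-- an element of multiplier one is symplectic -/
theorem exists_spGSp_of_mult (hm : 1 ≤ m) {g : ↥(Cfsg.GSp m F)} (h : mult hm g = 1) :
    ∃ s : SpG m F, g = spGSp s := by
  have hmem : ((g : GL (K m) F) : Matrix (K m) (K m) F) ∈ Matrix.symplecticGroup (Fin m) F := by
    rw [mem_symplecticGroup_iff_sympForm]
    intro u v
    rw [mult_spec hm, h, Units.val_one, one_mul]
  refine ⟨⟨_, hmem⟩, ?_⟩
  apply Subtype.ext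
  apply Units.ext
  rfl

/-- the composite `GSp → Aut(PSp) → Out(PSp)` -/
noncomputable def kapSp : ↥(Cfsg.GSp m F) →* Cfsg.Out (Cfsg.PSp m F) :=
  (QuotientGroup.mk' (Cfsg.Inn (Cfsg.PSp m F))).comp cGSp

theorem kapSp_spGSp (s : SpG m F) : kapSp (spGSp s) = 1 := by
  change QuotientGroup.mk' _ (cGSp _) = 1
  rw [QuotientGroup.mk'_apply, QuotientGroup.eq_one_iff, cGSp_spGSp]
  exact ⟨pr s, rfl⟩

theorem kapSp_of_mult (hm : 1 ≤ m) {g : ↥(Cfsg.GSp m F)} (h : mult hm g = 1) : kapSp g = 1 := by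
  obtain ⟨s, rfl⟩ := exists_spGSp_of_mult hm h
  exact kapSp_spGSp s

/-- the diagonal matrix `diag(c, …, c, 1, …, 1)` -/
def dvec (c : F) : K m → F := Sum.elim (fun _ => c) (fun _ => 1)

theorem dvec_mul (c d : F) : (fun i => dvec (m := m) c i * dvec d i) = dvec (c * d) := by
  ext i
  rcases i with i | i <;> simp [dvec]

theorem dvec_one : dvec (m := m) (1 : F) = 1 := by
  ext i
  rcases i with i | i <;> simp [dvec]

/-- diagonal elements of `GSp` with prescribed multiplier -/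
noncomputable def dgM : Fˣ →* ↥(Cfsg.GSp m F) where
  toFun c := ⟨⟨Matrix.diagonal (dvec (c : F)), Matrix.diagonal (dvec ((c⁻¹ : Fˣ) : F)),
      by rw [Matrix.diagonal_mul_diagonal, dvec_mul, ← Units.val_mul, mul_inv_cancel,
        Units.val_one, dvec_one]; exact Matrix.diagonal_one,
      by rw [Matrix.diagonal_mul_diagonal, dvec_mul, ← Units.val_mul, inv_mul_cancel,
        Units.val_one, dvec_one]; exact Matrix.diagonal_one⟩, c, by
    intro u v
    change B (Matrix.diagonal (dvec (c : F)) *ᵥ u) (Matrix.diagonal (dvec (c : F)) *ᵥ v) = _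
    rw [sympForm_eq, sympForm_eq, Finset.mul_sum]
    apply Finset.sum_congr rfl
    intro i _
    simp only [mulVec_diagonal, dvec, Sum.elim_inl, Sum.elim_inr]
    ring⟩
  map_one' := by
    apply Subtype.ext
    apply Units.ext
    change Matrix.diagonal (dvec ((1 : Fˣ) : F)) = 1
    rw [Units.val_one, dvec_one]
    exact Matrix.diagonal_one
  map_mul' c d := by
    apply Subtype.ext
    apply Units.ext
    change Matrix.diagonal (dvec ((c * d : Fˣ) : F)) =
      Matrix.diagonal (dvec (c : F)) * Matrix.diagonal (dvec (d : F))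
    rw [Matrix.diagonal_mul_diagonal, dvec_mul, Units.val_mul]

theorem mult_dgM (hm : 1 ≤ m) (c : Fˣ) : mult hm (dgM (m := m) c) = c := by
  apply mult_eq
  intro u v
  change B (Matrix.diagonal (dvec (c : F)) *ᵥ u) (Matrix.diagonal (dvec (c : F)) *ᵥ v) = _
  rw [sympForm_eq, sympForm_eq, Finset.mul_sum]
  apply Finset.sum_congr rfl
  intro i _
  simp only [mulVec_diagonal, dvec, Sum.elim_inl, Sum.elim_inr]
  ring

theorem kapSp_eq (hm : 1 ≤ m) (g : ↥(Cfsg.GSp m F)) :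
    kapSp g = kapSp (dgM (mult hm g)) := by
  have h1 : g = dgM (mult hm g) * ((dgM (mult hm g))⁻¹ * g) := by
    rw [mul_inv_cancel_left]
  have h2 : kapSp ((dgM (mult hm g))⁻¹ * g) = 1 := by
    apply kapSp_of_mult hm
    rw [map_mul, map_inv, mult_dgM, inv_mul_cancel]
  conv_lhs => rw [h1]
  rw [map_mul, h2, mul_one]

/-- scalar elements of `GSp` -/
noncomputable def scM : Fˣ →* ↥(Cfsg.GSp m F) :=
  (Matrix.GeneralLinearGroup.scalar (K m)).codRestrict (Cfsg.GSp m F) (fun l => by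
    refine ⟨l * l, ?_⟩
    intro u v
    change B ((Matrix.scalar (K m) (l : F)) *ᵥ u) ((Matrix.scalar (K m) (l : F)) *ᵥ v) = _
    have h1 : ∀ x : K m → F, Matrix.scalar (K m) (l : F) *ᵥ x = (l : F) • x := by
      intro x
      ext i
      rw [Matrix.scalar_apply, mulVec_diagonal]
      rfl
    rw [h1, h1, sympForm_smul_left, sympForm_smul_right, Units.val_mul]
    ring)

theorem scM_coe (l : Fˣ) :
    (((scM (m := m) l : ↥(Cfsg.GSp m F)) : GL (K m) F) : Matrix (K m) (K m) F) = (l : F) • 1 := by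
  change Matrix.scalar (K m) (l : F) = _
  rw [Matrix.scalar_apply, Matrix.smul_one_eq_diagonal]

theorem mult_scM (hm : 1 ≤ m) (l : Fˣ) : mult hm (scM (m := m) l) = l ^ 2 := by
  apply mult_eq
  intro u v
  rw [scM_coe, smul_mulVec, smul_mulVec, one_mulVec, one_mulVec, sympForm_smul_left,
    sympForm_smul_right, Units.val_pow_eq_pow_val]
  ring

theorem cGSp_scM (hm : 2 ≤ m) (l : Fˣ) : cGSp (scM (m := m) l) = 1 :=
  (cGSp_eq_one_iff hm _).2 ⟨l, scM_coe l⟩

theorem exists_scM_of_cGSp_eq_one (hm : 2 ≤ m) {g : ↥(Cfsg.GSp m F)} (h : cGSp g = 1) :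
    ∃ l : Fˣ, g = scM l := by
  obtain ⟨c, hc⟩ := (cGSp_eq_one_iff hm g).1 h
  have hc0 : c ≠ 0 := by
    rintro rfl
    have h1 : ((g : GL (K m) F) : Matrix (K m) (K m) F) *
        (((g : GL (K m) F)⁻¹ : GL (K m) F) : Matrix (K m) (K m) F) = 1 := by
      rw [← Units.val_mul, mul_inv_cancel, Units.val_one]
    rw [hc, zero_smul, Matrix.zero_mul] at h1
    have i₀ : K m := Sum.inl ⟨0, by omega⟩
    have := congrFun (congrFun h1 i₀) i₀
    simp at this
  refine ⟨Units.mk0 c hc0, ?_⟩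
  apply Subtype.ext
  apply Units.ext
  rw [scM_coe, hc]
  rfl

theorem cGSp_ker (hm : 2 ≤ m) :
    (cGSp (m := m) (F := F)).ker = (scM (m := m) (F := F)).range := by
  ext g
  rw [MonoidHom.mem_ker]
  constructor
  · intro h
    obtain ⟨l, rfl⟩ := exists_scM_of_cGSp_eq_one hm h
    exact ⟨l, rfl⟩
  · rintro ⟨l, rfl⟩
    exact cGSp_scM hm l

theorem ker_kapSp_dgM (hm : 2 ≤ m) :
    ((kapSp (m := m) (F := F)).comp dgM).ker = (powMonoidHom 2 : Fˣ →* Fˣ).range := by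
  have hm1 : 1 ≤ m := by omega
  ext c
  rw [MonoidHom.mem_ker, MonoidHom.comp_apply]
  constructor
  · intro h
    change QuotientGroup.mk' _ (cGSp (dgM c)) = 1 at h
    rw [QuotientGroup.mk'_apply, QuotientGroup.eq_one_iff] at h
    obtain ⟨y, hy⟩ := h
    obtain ⟨s, rfl⟩ := pr_surjective y
    have h1 : cGSp (dgM c * (spGSp s)⁻¹) = 1 := by
      rw [map_mul, map_inv, cGSp_spGSp, mul_inv_eq_one]
      exact hy.symm
    obtain ⟨l, hl⟩ := exists_scM_of_cGSp_eq_one hm h1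
    have h2 := congrArg (mult hm1) hl
    rw [map_mul, map_inv, mult_dgM, mult_spGSp, inv_one, mul_one, mult_scM] at h2
    exact ⟨l, h2.symm⟩
  · rintro ⟨l, rfl⟩
    rw [powMonoidHom_apply]
    have h1 : dgM (m := m) (l ^ 2) = scM l * ((scM l)⁻¹ * dgM (l ^ 2)) := by
      rw [mul_inv_cancel_left]
    have h2 : kapSp ((scM (m := m) l)⁻¹ * dgM (l ^ 2)) = 1 := by
      apply kapSp_of_mult hm1
      rw [map_mul, map_inv, mult_dgM, mult_scM, inv_mul_cancel]
    have h3 : kapSp (scM (m := m) l) = 1 := by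
      change QuotientGroup.mk' _ (cGSp _) = 1
      rw [cGSp_scM hm, map_one]
    rw [h1, map_mul, h2, h3, mul_one]

theorem range_kapSp (hm : 1 ≤ m) :
    (kapSp (m := m) (F := F)).range = ((kapSp (m := m) (F := F)).comp dgM).range := by
  apply le_antisymm
  · rintro _ ⟨g, rfl⟩
    exact ⟨mult hm g, (kapSp_eq hm g).symm⟩
  · rintro _ ⟨c, rfl⟩
    exact ⟨dgM c, rfl⟩

theorem kapSp_comp_eq (hm : 1 ≤ m) {G₁ : Type*} [Group G₁] (j : G₁ →* ↥(Cfsg.GSp m F)) :
    (kapSp (m := m) (F := F)).comp j =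
      ((kapSp (m := m) (F := F)).comp dgM).comp ((mult hm).comp j) := by
  ext a
  exact kapSp_eq hm (j a)

end

end

section

open Matrix Cfsg.Agent.Lib.H4 Cfsg.Agent.Lib.H2.Sp

section

variable {F : Type*} [Field F] {m : ℕ}

/-- normality of the inner-diagonal group when every automorphism is semilinear -/
theorem normal_range_cGSp_of_all
    (hall : ∀ θ : Cfsg.PSp m F ≃* Cfsg.PSp m F,
      ∃ (g : GL (K m) F) (hg : g ∈ Cfsg.GSp m F) (σ : F ≃+* F), θ = cSp hg σ) :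
    (cGSp (m := m) (F := F)).range.Normal := by
  constructor
  rintro _ ⟨h, rfl⟩ θ
  obtain ⟨g, hg, σ, rfl⟩ := hall θ
  rw [cSp_eq_mul hg σ]
  refine ⟨⟨g, hg⟩ * gmapSp σ h * (⟨g, hg⟩ : ↥(Cfsg.GSp m F))⁻¹, ?_⟩
  rw [map_mul, map_mul, map_inv, _root_.mul_inv_rev]
  calc cGSp ⟨g, hg⟩ * cGSp (gmapSp σ h) * (cGSp ⟨g, hg⟩)⁻¹
      = cGSp ⟨g, hg⟩ * (cGSp (gmapSp σ h) * fSp σ) * ((fSp σ)⁻¹ * (cGSp ⟨g, hg⟩)⁻¹) := by group
    _ = cGSp ⟨g, hg⟩ * (fSp σ * cGSp h) * ((fSp σ)⁻¹ * (cGSp ⟨g, hg⟩)⁻¹) := by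
        rw [fSp_mul_cGSp]
    _ = _ := by group

/-- if every unit is a square, the inner-diagonal group is the inner automorphism group -/
theorem range_cGSp_eq_inn (hm : 2 ≤ m) (hsq : ∀ c : Fˣ, ∃ d : Fˣ, c = d ^ 2) :
    (cGSp (m := m) (F := F)).range = Cfsg.Inn (Cfsg.PSp m F) := by
  have hm1 : 1 ≤ m := by omega
  apply le_antisymm
  · rintro _ ⟨g, rfl⟩
    obtain ⟨d, hd⟩ := hsq (mult hm1 g)
    have h1 : g = scM d * ((scM d)⁻¹ * g) := by rw [mul_inv_cancel_left]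
    have h2 : mult hm1 ((scM (m := m) d)⁻¹ * g) = 1 := by
      rw [map_mul, map_inv, mult_scM, hd, inv_mul_cancel]
    obtain ⟨s, hs⟩ := exists_spGSp_of_mult hm1 h2
    rw [h1, map_mul, cGSp_scM hm, one_mul, hs, cGSp_spGSp]
    exact ⟨pr s, rfl⟩
  · exact inn_le_range_cGSp

theorem normal_range_cGSp_of_sq (hm : 2 ≤ m) (hsq : ∀ c : Fˣ, ∃ d : Fˣ, c = d ^ 2) :
    (cGSp (m := m) (F := F)).range.Normal := by
  rw [range_cGSp_eq_inn hm hsq]
  infer_instance

/-- the split class count for an automorphism `x` conjugate to `x₀` whose centraliser in the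
inner-diagonal group is the image of `j : G₁ → GSp_{2m}(F)` -/
theorem split_psp (hm : 2 ≤ m) (hm1 : 1 ≤ m) (hDn : (cGSp (m := m) (F := F)).range.Normal)
    (x α x₀ : MulAut (Cfsg.PSp m F)) (hx₀ : α * x * α⁻¹ = x₀)
    {G₁ : Type*} [Group G₁] (j : G₁ →* ↥(Cfsg.GSp m F))
    (hC : (cGSp (m := m) (F := F)).range ⊓ Subgroup.centralizer {x₀} =
      ((cGSp (m := m) (F := F)).comp j).range) :
    Cfsg.splitClassCount (Cfsg.inndiagPSp m F) (Cfsg.Inn (Cfsg.PSp m F)) x =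
      (((mult hm1).comp j).range ⊔ (powMonoidHom 2 : Fˣ →* Fˣ).range).index := by
  rw [inndiagSp_eq]
  obtain ⟨DD, hD⟩ : ∃ DD : Subgroup (MulAut (Cfsg.PSp m F)),
      DD = (cGSp (m := m) (F := F)).range := ⟨_, rfl⟩
  obtain ⟨I, hI⟩ : ∃ I : Subgroup (MulAut (Cfsg.PSp m F)),
      I = Cfsg.Inn (Cfsg.PSp m F) := ⟨_, rfl⟩
  haveI : I.Normal := by rw [hI]; infer_instance
  haveI : DD.Normal := by rw [hD]; exact hDn
  rw [← hD, ← hI]
  rw [← hD] at hC
  have hID : I ≤ DD := by rw [hI, hD]; exact inn_le_range_cGSp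
  rw [AutPSL.splitClassCount_eq DD I hID x]
  have h2 : (I ⊔ (DD ⊓ Subgroup.centralizer {x})).relIndex DD =
      (I ⊔ (DD ⊓ Subgroup.centralizer {x₀})).relIndex DD := by
    have hinj : Function.Injective (MulAut.conj α).toMonoidHom := (MulAut.conj α).injective
    rw [← Subgroup.relIndex_map_map_of_injective _ _ hinj, Subgroup.map_sup,
      Subgroup.map_inf _ _ _ hinj, AutPSL.map_conj_normal, AutPSL.map_conj_normal,
      AutPSL.map_centralizer_conj, hx₀]
  rw [h2, hC]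
  obtain ⟨π, hπ⟩ : ∃ π : MulAut (Cfsg.PSp m F) →* MulAut (Cfsg.PSp m F) ⧸ I,
      π = QuotientGroup.mk' I := ⟨_, rfl⟩
  have hker : π.ker = I := by rw [hπ]; exact QuotientGroup.ker_mk' I
  have h3 := Subgroup.relIndex_map_map π ((cGSp (m := m) (F := F)).comp j).range DD
  rw [hker, sup_of_le_left hID, sup_comm] at h3
  rw [← h3]
  subst hI
  have h4 : ((cGSp (m := m) (F := F)).comp j).range.map π =
      ((kapSp (m := m) (F := F)).comp j).range := by
    rw [MonoidHom.map_range, hπ]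
    rfl
  have h5 : DD.map π = (kapSp (m := m) (F := F)).range := by
    rw [hD, MonoidHom.map_range, hπ]
    rfl
  rw [h4, h5, kapSp_comp_eq hm1 j, range_kapSp hm1, ← MonoidHom.map_range,
    MonoidHom.range_eq_map ((kapSp (m := m) (F := F)).comp dgM),
    Subgroup.relIndex_map_map, ker_kapSp_dgM hm, top_sup_eq, Subgroup.relIndex_top_right]

/-- the generic centraliser isomorphism -/
theorem centralizer_isoSp (hDn : (cGSp (m := m) (F := F)).range.Normal)
    (x α x₀ : MulAut (Cfsg.PSp m F)) (hx₀ : α * x * α⁻¹ = x₀)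
    {G₁ : Type*} [Group G₁] (j : G₁ →* ↥(Cfsg.GSp m F))
    (hC : (cGSp (m := m) (F := F)).range ⊓ Subgroup.centralizer {x₀} =
      ((cGSp (m := m) (F := F)).comp j).range) :
    Nonempty (↥(Cfsg.inndiagPSp m F ⊓ Subgroup.centralizer {x}) ≃*
      G₁ ⧸ ((cGSp (m := m) (F := F)).comp j).ker) := by
  haveI := hDn
  rw [inndiagSp_eq]
  have hinj : Function.Injective (MulAut.conj α).toMonoidHom := (MulAut.conj α).injective
  have e1 := Subgroup.equivMapOfInjective
    ((cGSp (m := m) (F := F)).range ⊓ Subgroup.centralizer {x}) _ hinj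
  have h2 : ((cGSp (m := m) (F := F)).range ⊓ Subgroup.centralizer {x}).map
      (MulAut.conj α).toMonoidHom = ((cGSp (m := m) (F := F)).comp j).range := by
    rw [Subgroup.map_inf _ _ _ hinj, AutPSL.map_conj_normal, AutPSL.map_centralizer_conj, hx₀, hC]
  exact ⟨(e1.trans (MulEquiv.subgroupCongr h2)).trans
    (QuotientGroup.quotientKerEquivRange _).symm⟩

end

end

end Cfsg.Agent.Lib.H13.AutPSp
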