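import Mathlib
import Cfsg.Agent.Lib.H13.AutPSp3
import Cfsg.Agent.Lib.H13.AutPSLField
import Cfsg.Agent.Lib.H13.AutPSLCentr
import Cfsg.Agent.Lib.H13.SympBasis

/-!
Automorphisms of `PSp_{2m}(q)`, part 4: field automorphisms of prime order. Hilbert 90 on the index type `Fin m ⊕ Fin m`, the
embedding `jSp : GSp(F^σ) → GSp(F)`, the centraliser of a standard field automorphism, equivalence of nondegenerate alternating
forms in matrix form (`exists_std_form`), Lang's theorem for `GSp` (`lang_GSp`), conjugacy in the coset of a field automorphism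
(`symp_field_conj`, `s2713`), and the centraliser and class splitting of a field automorphism of prime order (`s2712`).
-/

set_option autoImplicit false
set_option linter.unusedSectionVars false
set_option linter.unusedVariables false
set_option linter.unusedSimpArgs false
set_option linter.deprecated false

namespace Cfsg.Agent.Lib.H13.AutPSp

section

open Matrix Cfsg.Agent.Lib.H4 Cfsg.Agent.Lib.H2.Sp

section

variable {F : Type*} [Field F] {m : ℕ}

set_option quotPrecheck false in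
local notation "B" => Cfsg.sympForm m F

/-- partial norms of a matrix cocycle: `PMK g i = g σ(g) ⋯ σ^{i-1}(g)` -/
def PMK (σ : F ≃+* F) (g : Matrix (K m) (K m) F) : ℕ → Matrix (K m) (K m) F
  | 0 => 1
  | (i + 1) => g * (PMK σ g i).map σ

theorem PMK_zero (σ : F ≃+* F) (g : Matrix (K m) (K m) F) : PMK σ g 0 = 1 := rfl

theorem PMK_succ (σ : F ≃+* F) (g : Matrix (K m) (K m) F) (i : ℕ) :
    PMK σ g (i + 1) = g * (PMK σ g i).map σ := rfl

/-- reindexing to `Fin (m + m)` -/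
def rix (M : Matrix (K m) (K m) F) : Matrix (Fin (m + m)) (Fin (m + m)) F :=
  M.submatrix finSumFinEquiv.symm finSumFinEquiv.symm

def rixInv (M : Matrix (Fin (m + m)) (Fin (m + m)) F) : Matrix (K m) (K m) F :=
  M.submatrix finSumFinEquiv finSumFinEquiv

theorem rixInv_rix (M : Matrix (K m) (K m) F) : rixInv (rix M) = M := by
  ext i j
  simp [rix, rixInv]

theorem rix_rixInv (M : Matrix (Fin (m + m)) (Fin (m + m)) F) : rix (rixInv M) = M := by
  ext i j
  simp [rix, rixInv]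

theorem rix_mul (M N : Matrix (K m) (K m) F) : rix (M * N) = rix M * rix N := by
  unfold rix
  rw [Matrix.submatrix_mul_equiv]

theorem rixInv_mul (M N : Matrix (Fin (m + m)) (Fin (m + m)) F) :
    rixInv (M * N) = rixInv M * rixInv N := by
  unfold rixInv
  rw [Matrix.submatrix_mul_equiv]

theorem rix_one : rix (1 : Matrix (K m) (K m) F) = 1 := by
  unfold rix
  rw [Matrix.submatrix_one_equiv]

theorem rixInv_one : rixInv (1 : Matrix (Fin (m + m)) (Fin (m + m)) F) = 1 := by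
  unfold rixInv
  rw [Matrix.submatrix_one_equiv]

theorem rix_map (σ : F ≃+* F) (M : Matrix (K m) (K m) F) : rix (M.map σ) = (rix M).map σ := rfl

theorem rixInv_map (σ : F ≃+* F) (M : Matrix (Fin (m + m)) (Fin (m + m)) F) :
    rixInv (M.map σ) = (rixInv M).map σ := rfl

theorem rix_PMK (σ : F ≃+* F) (g : Matrix (K m) (K m) F) (i : ℕ) :
    rix (PMK σ g i) = AutPSL.PM σ (rix g) i := by
  induction i with
  | zero => exact rix_one
  | succ i ih => rw [PMK_succ, AutPSL.PM_succ, rix_mul, rix_map, ih]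

/-- **Hilbert 90 for `GL`** on the index type `K m` -/
theorem hilbert90_K (σ : F ≃+* F) {r : ℕ} (hr : 0 < r) (hσ : orderOf σ = r)
    (g : Matrix (K m) (K m) F) (hg : PMK σ g r = 1) :
    ∃ h hi : Matrix (K m) (K m) F, h * hi = 1 ∧ hi * h = 1 ∧ g * h.map σ = h := by
  have h1 : AutPSL.PM σ (rix g) r = 1 := by rw [← rix_PMK, hg, rix_one]
  obtain ⟨h, hu, hh⟩ := AutPSL.hilbert90_GL σ hr hσ (rix g) h1
  obtain ⟨⟨u, ui, h2, h3⟩, rfl⟩ := hu
  refine ⟨rixInv u, rixInv ui, ?_, ?_, ?_⟩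
  · rw [← rixInv_mul, h2, rixInv_one]
  · rw [← rixInv_mul, h3, rixInv_one]
  · have := congrArg rixInv hh
    rw [rixInv_mul, rixInv_rix, rixInv_map] at this
    exact this

theorem PMK_smul (σ : F ≃+* F) (a : F) (g : Matrix (K m) (K m) F) (i : ℕ) :
    PMK σ (a • g) i = AutPSL.Nm σ i a • PMK σ g i := by
  induction i with
  | zero => simp [PMK_zero, AutPSL.Nm_zero]
  | succ i ih =>
    rw [PMK_succ, ih, PMK_succ, AutPSL.Nm_succ']
    have e1 : (AutPSL.Nm σ i a • PMK σ g i).map σ = σ (AutPSL.Nm σ i a) • (PMK σ g i).map σ := by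
      ext x y
      simp [Matrix.map_apply]
    rw [e1, Matrix.smul_mul, Matrix.mul_smul, smul_smul]

theorem map_pow_eq_NmK (σ : F ≃+* F) (g : Matrix (K m) (K m) F) (c : F)
    (h : g.map σ = c • g) (i : ℕ) : g.map (σ ^ i) = AutPSL.Nm σ i c • g := by
  induction i with
  | zero =>
    ext a b
    simp [AutPSL.Nm_zero]
  | succ i ih =>
    ext a b
    have h1 : (g.map (σ ^ (i + 1))) a b = σ ((g.map (σ ^ i)) a b) := by
      rw [Matrix.map_apply, Matrix.map_apply, pow_succ', RingAut.mul_apply]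
    rw [h1, ih, Matrix.smul_apply, smul_eq_mul, map_mul]
    have h2 : σ (g a b) = c * g a b := by
      have := congrFun (congrFun h a) b
      rwa [Matrix.map_apply, Matrix.smul_apply, smul_eq_mul] at this
    rw [h2, Matrix.smul_apply, smul_eq_mul, AutPSL.Nm_succ']
    ring

/-- descent: a matrix with `σ(g) = c g` is a scalar multiple of a `σ`-fixed matrix -/
theorem exists_fixed_smulK (σ : F ≃+* F) {r : ℕ} (hr : 0 < r) (hσ : orderOf σ = r)
    (g : Matrix (K m) (K m) F) (hg : g ≠ 0) (c : F) (h : g.map σ = c • g) :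
    ∃ l : F, l ≠ 0 ∧ (l • g).map σ = l • g := by
  have hσr : σ ^ r = 1 := by rw [← hσ, pow_orderOf_eq_one]
  have hne : ∃ a b, g a b ≠ 0 := by
    by_contra hcon
    push Not at hcon
    exact hg (by ext a b; exact hcon a b)
  obtain ⟨a, b, hab⟩ := hne
  have h1 := congrFun (congrFun (map_pow_eq_NmK σ g c h r) a) b
  rw [hσr, Matrix.map_apply, RingAut.one_apply, Matrix.smul_apply, smul_eq_mul] at h1
  have h2 : AutPSL.Nm σ r c = 1 := by
    have : (1 : F) * g a b = AutPSL.Nm σ r c * g a b := by rw [one_mul]; exact h1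
    exact (mul_right_cancel₀ hab this).symm
  obtain ⟨l, hl0, hl⟩ := AutPSL.hilbert90_scalar σ hr hσ c h2
  refine ⟨l, hl0, ?_⟩
  have e1 : (l • g).map σ = σ l • g.map σ := by
    ext x y
    simp [Matrix.map_apply]
  rw [e1, h, smul_smul, mul_comm, hl]

end

section

variable {F : Type*} [Field F] {m : ℕ}

set_option quotPrecheck false in
local notation "B" => Cfsg.sympForm m F

/-- matrix criterion for a similitude -/
theorem simil_iff (G : Matrix (K m) (K m) F) (c : F) :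
    (∀ u v : K m → F, B (G *ᵥ u) (G *ᵥ v) = c * B u v) ↔ adj G * G = c • 1 := by
  constructor
  · intro h
    have h1 : ∀ y : K m → F, (adj G * G) *ᵥ y = (c • (1 : Matrix (K m) (K m) F)) *ᵥ y := by
      intro y
      rw [smul_mulVec, one_mulVec, ← sub_eq_zero]
      apply B_nondeg
      intro x
      rw [B_sub_right, ← mulVec_mulVec, ← B_mulVec_left, h, sympForm_smul_right, sub_self]
    ext i j
    have := congrFun (h1 (Pi.single j 1)) i
    rwa [Matrix.mulVec_single_one, Matrix.mulVec_single_one] at this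
  · intro h u v
    rw [B_mulVec_left, mulVec_mulVec, h, smul_mulVec, one_mulVec, sympForm_smul_right]

variable {K₀ : Type*} [Field K₀]

theorem J_mapHom (φ : K₀ →+* F) : (Matrix.J (Fin m) K₀).map φ = Matrix.J (Fin m) F := by
  ext i j
  rcases i with i | i <;> rcases j with j | j <;>
    simp [Matrix.J, Matrix.one_apply, apply_ite φ]

theorem adj_mapHom (φ : K₀ →+* F) (G : Matrix (K m) (K m) K₀) :
    (adj G).map φ = adj (G.map φ) := by
  unfold adj
  rw [Matrix.map_mul, Matrix.map_mul, Matrix.map_neg _ (fun a => map_neg φ a), J_mapHom,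
    Matrix.transpose_map]

theorem map_mem_GSp (φ : K₀ →+* F) {g : GL (K m) K₀} (hg : g ∈ Cfsg.GSp m K₀) :
    Matrix.GeneralLinearGroup.map φ g ∈ Cfsg.GSp m F := by
  obtain ⟨c, hc⟩ := hg
  refine ⟨Units.map φ.toMonoidHom c, ?_⟩
  have h1 := (simil_iff _ _).1 hc
  apply (simil_iff _ _).2
  change adj ((g : Matrix (K m) (K m) K₀).map φ) * (g : Matrix (K m) (K m) K₀).map φ = _
  rw [← adj_mapHom, ← Matrix.map_mul, h1]
  ext i j
  simp [Matrix.map_apply, Matrix.smul_apply, Matrix.one_apply, apply_ite φ]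

/-- the map `GSp(K₀) → GSp(F)` induced by a homomorphism of fields -/
noncomputable def mapGSp (φ : K₀ →+* F) : ↥(Cfsg.GSp m K₀) →* ↥(Cfsg.GSp m F) :=
  ((Matrix.GeneralLinearGroup.map φ).comp (Cfsg.GSp m K₀).subtype).codRestrict (Cfsg.GSp m F)
    (fun g => map_mem_GSp φ g.2)

theorem mapGSp_coe (φ : K₀ →+* F) (g : ↥(Cfsg.GSp m K₀)) :
    (((mapGSp φ g : ↥(Cfsg.GSp m F)) : GL (K m) F) : Matrix (K m) (K m) F) =
      ((g : GL (K m) K₀) : Matrix (K m) (K m) K₀).map φ := rfl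

theorem mapGSp_injective (φ : K₀ →+* F) :
    Function.Injective (mapGSp (m := m) φ) := by
  intro g g' h
  apply Subtype.ext
  apply Units.ext
  ext i j
  have := congrArg (fun x : ↥(Cfsg.GSp m F) => ((x : GL (K m) F) : Matrix (K m) (K m) F) i j) h
  simp only [mapGSp_coe, Matrix.map_apply] at this
  exact φ.injective this

theorem mult_mapGSp (hm : 1 ≤ m) (φ : K₀ →+* F) (g : ↥(Cfsg.GSp m K₀)) :
    mult hm (mapGSp φ g) = Units.map φ.toMonoidHom (mult hm g) := by
  apply mult_eq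
  apply (simil_iff _ _).2
  have h1 := (simil_iff _ _).1 (mult_spec hm g)
  rw [mapGSp_coe, ← adj_mapHom, ← Matrix.map_mul, h1]
  ext i j
  simp [Matrix.map_apply, Matrix.smul_apply, Matrix.one_apply, apply_ite φ]

end

end

section

open Matrix Cfsg.Agent.Lib.H4 Cfsg.Agent.Lib.H2.Sp

section

variable {F : Type*} [Field F] {m : ℕ} (σ : F ≃+* F)

/-- the embedding `GSp(F^σ) → GSp(F)` -/
noncomputable abbrev jSp : ↥(Cfsg.GSp m (AutPSL.fixF σ)) →* ↥(Cfsg.GSp m F) :=
  mapGSp (AutPSL.fixF σ).subtype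

theorem jSp_coe (g : ↥(Cfsg.GSp m (AutPSL.fixF σ))) (i k : K m) :
    (((jSp σ g : ↥(Cfsg.GSp m F)) : GL (K m) F) : Matrix (K m) (K m) F) i k =
      ((((g : GL (K m) (AutPSL.fixF σ)) : Matrix (K m) (K m) (AutPSL.fixF σ)) i k : AutPSL.fixF σ) : F) :=
  rfl

theorem gmapSp_jSp (g : ↥(Cfsg.GSp m (AutPSL.fixF σ))) : gmapSp σ (jSp σ g) = jSp σ g := by
  apply Subtype.ext
  apply Units.ext
  ext i k
  rw [gmapSp_coe, gmapK_coe, Matrix.map_apply, jSp_coe]
  exact (AutPSL.mem_fixF_iff σ _).1 (SetLike.coe_mem _)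

theorem adj_smul (l : F) (G : Matrix (K m) (K m) F) : adj (l • G) = l • adj G := by
  unfold adj
  rw [Matrix.transpose_smul, Matrix.mul_smul, Matrix.smul_mul]

theorem centralizer_fSp (hm : 2 ≤ m) {r : ℕ} (hr : 0 < r) (hσ : orderOf σ = r) :
    (cGSp (m := m) (F := F)).range ⊓ Subgroup.centralizer {fSp σ} =
      ((cGSp (m := m) (F := F)).comp (jSp σ)).range := by
  have hm1 : 1 ≤ m := by omega
  ext y
  constructor
  · rintro ⟨⟨g, rfl⟩, hy2⟩
    have hcomm : fSp σ * cGSp g = cGSp g * fSp σ := Subgroup.mem_centralizer_iff.1 hy2 _ rfl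
    rw [fSp_mul_cGSp] at hcomm
    have h1 : cGSp (gmapSp σ g) = cGSp g := mul_right_cancel hcomm
    have h2 : cGSp (g⁻¹ * gmapSp σ g) = 1 := by rw [map_mul, h1, map_inv, inv_mul_cancel]
    obtain ⟨c, h4⟩ := (cGSp_eq_one_iff hm _).1 h2
    set G : Matrix (K m) (K m) F := ((g : GL (K m) F) : Matrix (K m) (K m) F) with hG
    have h4' : (((g : GL (K m) F)⁻¹ : GL (K m) F) : Matrix (K m) (K m) F) * G.map σ = c • 1 := h4
    have h5 : G.map σ = c • G := by
      have := congrArg (fun X => G * X) h4'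
      simp only [← Matrix.mul_assoc, Matrix.mul_smul, Matrix.mul_one] at this
      rw [hG, ← Units.val_mul, mul_inv_cancel, Units.val_one, Matrix.one_mul] at this
      exact this
    have hdetG : G.det ≠ 0 := Matrix.GeneralLinearGroup.det_ne_zero (g : GL (K m) F)
    have hg0 : G ≠ 0 := by
      intro h0
      haveI : Nonempty (K m) := ⟨Sum.inl ⟨0, hm1⟩⟩
      rw [h0, Matrix.det_zero] at hdetG
      exact hdetG rfl
    obtain ⟨l, hl0, hl⟩ := exists_fixed_smulK σ hr hσ G hg0 c h5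
    -- the matrix over the fixed field
    let M₁ : Matrix (K m) (K m) (AutPSL.fixF σ) := Matrix.of (fun i k =>
      ⟨(l • G) i k, (AutPSL.mem_fixF_iff σ _).2 (by
        have := congrFun (congrFun hl i) k
        rwa [Matrix.map_apply] at this)⟩)
    have hM₁ : M₁.map (AutPSL.fixF σ).subtype = l • G := by
      ext i k
      rfl
    have hdet : M₁.det ≠ 0 := by
      intro h0
      have e1 := RingHom.map_det (AutPSL.fixF σ).subtype M₁
      rw [h0, map_zero] at e1
      have e2 : ((AutPSL.fixF σ).subtype.mapMatrix M₁) = l • G := hM₁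
      rw [e2, Matrix.det_smul] at e1
      exact (mul_ne_zero (pow_ne_zero _ hl0) hdetG) e1.symm
    -- similitude
    have hsim : adj (l • G) * (l • G) = (l * l * (mult hm1 g : F)) • 1 := by
      have h6 := (simil_iff G _).1 (mult_spec hm1 g)
      rw [adj_smul, Matrix.smul_mul, Matrix.mul_smul, h6, smul_smul, smul_smul]
    have i₀ : K m := Sum.inl ⟨0, hm1⟩
    obtain ⟨c₁, hc₁⟩ : ∃ c₁ : AutPSL.fixF σ, c₁ = (adj M₁ * M₁) i₀ i₀ := ⟨_, rfl⟩
    have hmap : (adj M₁ * M₁).map (AutPSL.fixF σ).subtype = (l * l * (mult hm1 g : F)) • 1 := by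
      rw [Matrix.map_mul, adj_mapHom, hM₁, hsim]
    have hc₁v : ((c₁ : AutPSL.fixF σ) : F) = l * l * (mult hm1 g : F) := by
      have := congrFun (congrFun hmap i₀) i₀
      rw [Matrix.map_apply, ← hc₁] at this
      simpa using this
    have hc₁0 : c₁ ≠ 0 := by
      intro h0
      rw [h0] at hc₁v
      have : l * l * (mult hm1 g : F) ≠ 0 :=
        mul_ne_zero (mul_ne_zero hl0 hl0) (mult hm1 g).ne_zero
      exact this hc₁v.symm
    have hsim₁ : adj M₁ * M₁ = c₁ • 1 := by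
      ext i k
      have := congrFun (congrFun hmap i) k
      rw [Matrix.map_apply] at this
      change (((adj M₁ * M₁) i k : AutPSL.fixF σ) : F) = _
      change (((adj M₁ * M₁) i k : AutPSL.fixF σ) : F) = _ at this
      rw [this]
      change _ = (((c₁ • (1 : Matrix (K m) (K m) (AutPSL.fixF σ))) i k : AutPSL.fixF σ) : F)
      rw [Matrix.smul_apply, Matrix.smul_apply, Matrix.one_apply, Matrix.one_apply]
      by_cases hik : i = k
      · simp [hik, hc₁v]
      · simp [hik]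
    have hmem : Matrix.GeneralLinearGroup.mkOfDetNeZero M₁ hdet ∈ Cfsg.GSp m (AutPSL.fixF σ) :=
      ⟨Units.mk0 c₁ hc₁0, (simil_iff M₁ c₁).2 hsim₁⟩
    refine ⟨⟨_, hmem⟩, ?_⟩
    show cGSp (jSp σ _) = cGSp g
    apply cGSp_eq_of_smul hm (d := l)
    ext i k
    rfl
  · rintro ⟨g₁, rfl⟩
    refine Subgroup.mem_inf.2 ⟨⟨jSp σ g₁, rfl⟩, ?_⟩
    refine Subgroup.mem_centralizer_iff.2 ?_
    intro w hw
    rw [Set.mem_singleton_iff] at hw
    subst hw
    show fSp σ * cGSp (jSp σ g₁) = cGSp (jSp σ g₁) * fSp σ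
    rw [fSp_mul_cGSp, gmapSp_jSp]

theorem ker_cGSp_jSp (hm : 2 ≤ m) :
    ((cGSp (m := m) (F := F)).comp (jSp σ)).ker =
      (Cfsg.Geo.scalars (K m) (AutPSL.fixF σ)).subgroupOf (Cfsg.GSp m (AutPSL.fixF σ)) := by
  have hm1 : 1 ≤ m := by omega
  ext g₁
  rw [MonoidHom.mem_ker, MonoidHom.comp_apply, cGSp_eq_one_iff hm, Subgroup.mem_subgroupOf,
    Cfsg.Geo.mem_scalars_iff]
  constructor
  · rintro ⟨c, hc⟩
    have i₀ : K m := Sum.inl ⟨0, hm1⟩
    have h1 : ∀ i k, ((((g₁ : GL (K m) (AutPSL.fixF σ)) : Matrix (K m) (K m) (AutPSL.fixF σ)) i k :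
        AutPSL.fixF σ) : F) = if i = k then c else 0 := by
      intro i k
      have := congrFun (congrFun hc i) k
      rw [jSp_coe] at this
      rw [this, Matrix.smul_apply, Matrix.one_apply]
      split_ifs <;> simp
    have hc0 : c ≠ 0 := by
      rintro rfl
      have hdet := Matrix.GeneralLinearGroup.det_ne_zero (g₁ : GL (K m) (AutPSL.fixF σ))
      apply hdet
      have hz : ((g₁ : GL (K m) (AutPSL.fixF σ)) : Matrix (K m) (K m) (AutPSL.fixF σ)) = 0 := by
        ext i k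
        have := h1 i k
        simp only [ite_self] at this
        exact this
      haveI : Nonempty (K m) := ⟨i₀⟩
      rw [hz, Matrix.det_zero]
    obtain ⟨c₁, hc₁⟩ : ∃ c₁ : AutPSL.fixF σ, c₁ =
        ((g₁ : GL (K m) (AutPSL.fixF σ)) : Matrix (K m) (K m) (AutPSL.fixF σ)) i₀ i₀ := ⟨_, rfl⟩
    have hc₁v : (c₁ : F) = c := by
      rw [hc₁, h1 i₀ i₀, if_pos rfl]
    have hc₁0 : c₁ ≠ 0 := by
      intro h0
      rw [h0] at hc₁v
      exact hc0 hc₁v.symm
    refine ⟨Units.mk0 c₁ hc₁0, ?_⟩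
    ext i k
    change ((((g₁ : GL (K m) (AutPSL.fixF σ)) : Matrix (K m) (K m) (AutPSL.fixF σ)) i k :
        AutPSL.fixF σ) : F) = _
    rw [h1 i k, Units.val_mk0]
    change _ = (((c₁ • (1 : Matrix (K m) (K m) (AutPSL.fixF σ))) i k : AutPSL.fixF σ) : F)
    rw [Matrix.smul_apply, Matrix.one_apply]
    by_cases hik : i = k
    · simp [hik, hc₁v]
    · simp [hik]
  · rintro ⟨c₁, hc₁⟩
    refine ⟨((c₁ : AutPSL.fixF σ) : F), ?_⟩
    ext i k
    rw [jSp_coe, hc₁, Matrix.smul_apply, Matrix.smul_apply, Matrix.one_apply, Matrix.one_apply]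
    by_cases hik : i = k
    · simp [hik]
    · simp [hik]

end

end

section

open Matrix Cfsg.Agent.Lib.H4 Cfsg.Agent.Lib.H2.Sp

section

variable {F : Type*} [Field F] {m : ℕ}

set_option quotPrecheck false in
local notation "B" => Cfsg.sympForm m F

theorem adj_mul (X Y : Matrix (K m) (K m) F) : adj (X * Y) = adj Y * adj X := by
  unfold adj
  rw [Matrix.transpose_mul]
  have hJ : Matrix.J (Fin m) F * Matrix.J (Fin m) F = -1 := Matrix.J_squared (Fin m) F
  calc -Matrix.J (Fin m) F * (Yᵀ * Xᵀ) * Matrix.J (Fin m) F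
      = -(Matrix.J (Fin m) F * Yᵀ * (-(-1 : Matrix (K m) (K m) F)) * Xᵀ * Matrix.J (Fin m) F) := by
        rw [neg_neg, Matrix.mul_one]
        simp only [Matrix.neg_mul, Matrix.mul_assoc]
    _ = -(Matrix.J (Fin m) F * Yᵀ * (-(Matrix.J (Fin m) F * Matrix.J (Fin m) F)) * Xᵀ *
          Matrix.J (Fin m) F) := by rw [hJ]
    _ = _ := by
        simp only [Matrix.neg_mul, Matrix.mul_neg, Matrix.mul_assoc, neg_neg]

theorem adj_one : adj (1 : Matrix (K m) (K m) F) = 1 := by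
  unfold adj
  rw [Matrix.transpose_one, Matrix.mul_one, Matrix.neg_mul, Matrix.J_squared, neg_neg]

theorem adj_map (σ : F ≃+* F) (G : Matrix (K m) (K m) F) : adj (G.map σ) = (adj G).map σ :=
  (adj_mapHom (σ : F →+* F) G).symm

theorem smul_one_map (σ : F ≃+* F) (c : F) :
    (c • (1 : Matrix (K m) (K m) F)).map σ = σ c • 1 := by
  ext x y
  by_cases hxy : x = y
  · subst hxy; simp
  · simp [Matrix.one_apply_ne hxy]

theorem one_mapK (σ : F ≃+* F) : (1 : Matrix (K m) (K m) F).map σ = 1 := by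
  have := smul_one_map (m := m) σ 1
  rwa [one_smul, map_one, one_smul] at this

/-- the multiplier of a partial norm -/
theorem adj_PMK (σ : F ≃+* F) (g : Matrix (K m) (K m) F) (c : F) (hg : adj g * g = c • 1)
    (i : ℕ) : adj (PMK σ g i) * PMK σ g i = AutPSL.Nm σ i c • 1 := by
  induction i with
  | zero => rw [PMK_zero, adj_one, Matrix.one_mul, AutPSL.Nm_zero, one_smul]
  | succ i ih =>
    rw [PMK_succ, adj_mul, Matrix.mul_assoc, ← Matrix.mul_assoc (adj g), hg, Matrix.smul_mul,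
      Matrix.one_mul, Matrix.mul_smul, adj_map, ← Matrix.map_mul, ih, smul_one_map, smul_smul,
      AutPSL.Nm_succ']

end

section stdform

variable {K₀ : Type*} [Field K₀] {m : ℕ}

/-- every nondegenerate alternating form is equivalent to the standard one (matrix form) -/
theorem exists_std_form (A₀ Ai : Matrix (K m) (K m) K₀) (hA : A₀ * Ai = 1)
    (halt : ∀ v : K m → K₀, Cfsg.sympForm m K₀ v (A₀ *ᵥ v) = 0) :
    ∃ H Hi : Matrix (K m) (K m) K₀, H * Hi = 1 ∧ Hi * H = 1 ∧ adj H * A₀ * H = 1 := by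
  classical
  let Bf : LinearMap.BilinForm K₀ (K m → K₀) :=
    (SpInvolCount.sympB (F := K₀) m).compl₂ (Matrix.mulVecLin A₀)
  have hBf : ∀ u v, Bf u v = Cfsg.sympForm m K₀ u (A₀ *ᵥ v) := by
    intro u v
    change SpInvolCount.sympB m u (Matrix.mulVecLin A₀ v) = _
    rw [SpInvolCount.sympB_apply, Matrix.mulVecLin_apply]
  have halt' : ∀ v, Bf v v = 0 := fun v => by rw [hBf]; exact halt v
  have hnd : ∀ v, (∀ w, Bf v w = 0) → v = 0 := by
    intro v hv
    apply B_nondeg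
    intro u
    have h1 := hv (Ai *ᵥ u)
    rw [hBf, mulVec_mulVec, hA, one_mulVec] at h1
    rw [sympForm_swap, h1, neg_zero]
  have hfin : Module.finrank K₀ (K m → K₀) = 2 * m := by
    rw [Module.finrank_fintype_fun_eq_card, Fintype.card_sum, Fintype.card_fin]; ring
  obtain ⟨b, hb⟩ := exists_symp_basis Bf halt' hnd hfin
  have key := sympForm_of_isSymp Bf halt' b hb
  set b' := b.reindex (Equiv.sumComm (Fin m) (Fin m)) with hb'
  let H : Matrix (K m) (K m) K₀ := Matrix.of (fun r i => b' i r)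
  have hH : ∀ x : K m → K₀, b'.equivFun (H *ᵥ x) = x := by
    intro x
    have h1 : H *ᵥ x = b'.equivFun.symm x := by
      rw [Module.Basis.equivFun_symm_apply]
      ext r
      simp only [mulVec, dotProduct, H, Matrix.of_apply, Finset.sum_apply, Pi.smul_apply,
        smul_eq_mul]
      apply Finset.sum_congr rfl
      intro i _
      ring
    rw [h1, LinearEquiv.apply_symm_apply]
  have h2 : ∀ x y : K m → K₀,
      Cfsg.sympForm m K₀ (H *ᵥ x) (A₀ *ᵥ (H *ᵥ y)) = Cfsg.sympForm m K₀ x y := by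
    intro x y
    rw [← hBf, key, hH, hH]
  have h3 : adj H * A₀ * H = 1 := by
    have h4 : ∀ y : K m → K₀, (adj H * A₀ * H) *ᵥ y = y := by
      intro y
      rw [← sub_eq_zero]
      apply B_nondeg
      intro x
      rw [B_sub_right, ← mulVec_mulVec, ← mulVec_mulVec, ← B_mulVec_left, h2, sub_self]
    ext i j
    have := congrFun (h4 (Pi.single j 1)) i
    rw [Matrix.mulVec_single_one] at this
    rw [Matrix.one_apply]
    rw [show (adj H * A₀ * H) i j = (adj H * A₀ * H).col j i from rfl, this, Pi.single_apply]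
  refine ⟨H, adj H * A₀, ?_, h3, h3⟩
  exact mul_eq_one_comm.1 h3

end stdform

section lang

variable {F : Type*} [Field F] {m : ℕ}

set_option quotPrecheck false in
local notation "B" => Cfsg.sympForm m F

/-- **Lang's theorem for `GSp_{2m}`** with respect to a field automorphism of finite order -/
theorem lang_GSp (hm : 1 ≤ m) (σ : F ≃+* F) {r : ℕ} (hr : 0 < r) (hσ : orderOf σ = r)
    (g : Matrix (K m) (K m) F) (c : F) (hg : adj g * g = c • 1) (hN : PMK σ g r = 1) :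
    ∃ (k ki : Matrix (K m) (K m) F) (l : F), k * ki = 1 ∧ ki * k = 1 ∧ l ≠ 0 ∧
      adj k * k = l • 1 ∧ g * k.map σ = k := by
  classical
  have i₀ : K m := Sum.inl ⟨0, hm⟩
  -- the multiplier has norm one
  have hNc : AutPSL.Nm σ r c = 1 := by
    have h1 := adj_PMK σ g c hg r
    rw [hN, adj_one, Matrix.one_mul] at h1
    have h2 := congrFun (congrFun h1 i₀) i₀
    simpa using h2.symm
  obtain ⟨l, hl0, hl⟩ := AutPSL.hilbert90_scalar σ hr hσ c hNc
  obtain ⟨k₁, k₁i, hk1, hk2, hk₁⟩ := hilbert90_K σ hr hσ g hN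
  -- the form of k₁
  set A : Matrix (K m) (K m) F := l⁻¹ • (adj k₁ * k₁) with hA
  have hσl : σ l ≠ 0 := (map_ne_zero σ).2 hl0
  have hAσ : A.map σ = A := by
    have e0 : adj k₁ * k₁ = c • (adj k₁ * k₁).map σ := by
      conv_lhs => rw [← hk₁]
      rw [adj_mul, Matrix.mul_assoc, ← Matrix.mul_assoc (adj g), hg, Matrix.smul_mul,
        Matrix.one_mul, Matrix.mul_smul, adj_map, ← Matrix.map_mul]
    have e1 : A.map σ = (σ l)⁻¹ • (adj k₁ * k₁).map σ := by
      rw [hA]
      ext x y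
      rw [Matrix.map_apply, Matrix.smul_apply, Matrix.smul_apply, Matrix.map_apply, smul_eq_mul,
        smul_eq_mul, map_mul, map_inv₀]
    rw [e1, hA]
    conv_rhs => rw [e0]
    rw [smul_smul]
    congr 1
    have hc : c = l * (σ l)⁻¹ := (eq_mul_inv_iff_mul_eq₀ hσl).2 hl
    rw [hc]
    field_simp
  have hAalt : ∀ v : K m → F, B v (A *ᵥ v) = 0 := by
    intro v
    rw [hA, smul_mulVec, sympForm_smul_right, ← mulVec_mulVec, ← B_mulVec_left, sympForm_self,
      mul_zero]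
  -- descend to the fixed field
  let A₀ : Matrix (K m) (K m) (AutPSL.fixF σ) := Matrix.of (fun i j =>
    (⟨A i j, (AutPSL.mem_fixF_iff σ _).2 (by
      have := congrFun (congrFun hAσ i) j
      rwa [Matrix.map_apply] at this)⟩ : AutPSL.fixF σ))
  have hA₀ : A₀.map (AutPSL.fixF σ).subtype = A := by
    ext i j
    rfl
  -- the inverse of A
  set Ai : Matrix (K m) (K m) F := l • (k₁i * adj k₁i) with hAi
  have hadj1 : adj k₁ * adj k₁i = 1 := by rw [← adj_mul, hk2, adj_one]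
  have hAAi : A * Ai = 1 := by
    rw [hA, hAi, Matrix.smul_mul, Matrix.mul_smul, smul_smul, inv_mul_cancel₀ hl0, one_smul,
      Matrix.mul_assoc, ← Matrix.mul_assoc k₁, hk1, Matrix.one_mul, hadj1]
  have hAiσ : Ai.map σ = Ai := by
    have h1 : A * Ai.map σ = 1 := by
      have := congrArg (fun X : Matrix (K m) (K m) F => X.map σ) hAAi
      simp only [Matrix.map_mul, hAσ, one_mapK] at this
      exact this
    have hAiA : Ai * A = 1 := mul_eq_one_comm.1 hAAi
    calc Ai.map σ = (Ai * A) * Ai.map σ := by rw [hAiA, Matrix.one_mul]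
      _ = Ai := by rw [Matrix.mul_assoc, h1, Matrix.mul_one]
  let Ai₀ : Matrix (K m) (K m) (AutPSL.fixF σ) := Matrix.of (fun i j =>
    (⟨Ai i j, (AutPSL.mem_fixF_iff σ _).2 (by
      have := congrFun (congrFun hAiσ i) j
      rwa [Matrix.map_apply] at this)⟩ : AutPSL.fixF σ))
  have hAi₀ : Ai₀.map (AutPSL.fixF σ).subtype = Ai := by
    ext i j
    rfl
  have hinjM : ∀ X Y : Matrix (K m) (K m) (AutPSL.fixF σ),
      X.map (AutPSL.fixF σ).subtype = Y.map (AutPSL.fixF σ).subtype → X = Y := by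
    intro X Y h
    ext i j
    have := congrFun (congrFun h i) j
    exact this
  have hA₀Ai₀ : A₀ * Ai₀ = 1 := by
    apply hinjM
    rw [Matrix.map_mul, hA₀, hAi₀, hAAi]
    ext i j
    simp [Matrix.map_apply, Matrix.one_apply, apply_ite]
  have hA₀alt : ∀ v : K m → AutPSL.fixF σ, Cfsg.sympForm m (AutPSL.fixF σ) v (A₀ *ᵥ v) = 0 := by
    intro v
    apply (AutPSL.fixF σ).subtype.injective
    rw [map_zero]
    have h1 := hAalt (fun i => ((v i : AutPSL.fixF σ) : F))
    rw [← h1]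
    unfold Cfsg.sympForm
    simp only [dotProduct, mulVec, map_sum, map_mul]
    apply Finset.sum_congr rfl
    intro x _
    congr 1
    apply Finset.sum_congr rfl
    intro y _
    have hJ := congrFun (congrFun (J_mapHom (m := m) (AutPSL.fixF σ).subtype) x) y
    rw [Matrix.map_apply] at hJ
    rw [hJ]
    congr 1
  obtain ⟨H, Hi, hH1, hH2, hH3⟩ := exists_std_form A₀ Ai₀ hA₀Ai₀ hA₀alt
  set h : Matrix (K m) (K m) F := H.map (AutPSL.fixF σ).subtype with hh
  set hi : Matrix (K m) (K m) F := Hi.map (AutPSL.fixF σ).subtype with hhi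
  have hone : (1 : Matrix (K m) (K m) (AutPSL.fixF σ)).map (AutPSL.fixF σ).subtype = 1 := by
    ext i j
    simp [Matrix.map_apply, Matrix.one_apply, apply_ite]
  have hhhi : h * hi = 1 := by rw [hh, hhi, ← Matrix.map_mul, hH1, hone]
  have hhih : hi * h = 1 := by rw [hh, hhi, ← Matrix.map_mul, hH2, hone]
  have hhσ : h.map σ = h := by
    rw [hh]
    ext i j
    rw [Matrix.map_apply, Matrix.map_apply]
    exact (AutPSL.mem_fixF_iff σ _).1 (SetLike.coe_mem _)
  have hform : adj h * A * h = 1 := by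
    rw [hh, ← hA₀, ← adj_mapHom, ← Matrix.map_mul, ← Matrix.map_mul, hH3, hone]
  refine ⟨k₁ * h, hi * k₁i, l, ?_, ?_, hl0, ?_, ?_⟩
  · rw [Matrix.mul_assoc, ← Matrix.mul_assoc h, hhhi, Matrix.one_mul, hk1]
  · rw [Matrix.mul_assoc, ← Matrix.mul_assoc k₁i, hk2, Matrix.one_mul, hhih]
  · rw [adj_mul]
    have e1 : adj h * adj k₁ * (k₁ * h) = l • (adj h * A * h) := by
      rw [hA, Matrix.mul_smul, Matrix.smul_mul, smul_smul, mul_inv_cancel₀ hl0, one_smul]
      simp only [Matrix.mul_assoc]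
    rw [e1, hform]
  · rw [Matrix.map_mul, hhσ, ← Matrix.mul_assoc, hk₁]

end lang

end

section

open Matrix Cfsg.Agent.Lib.H4 Cfsg.Agent.Lib.H2.Sp

section

variable {F : Type*} [Field F] {m : ℕ}

theorem rixInv_mapτ (τ : F ≃+* F) (M : Matrix (Fin (m + m)) (Fin (m + m)) F) :
    rixInv (M.map τ) = (rixInv M).map τ := rfl

theorem rix_mapτ (τ : F ≃+* F) (M : Matrix (K m) (K m) F) : rix (M.map τ) = (rix M).map τ := rfl

theorem PMK_succ_right (σ : F ≃+* F) (g : Matrix (K m) (K m) F) (i : ℕ) :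
    PMK σ g (i + 1) = PMK σ g i * g.map (σ ^ i) := by
  have h1 := AutPSL.PM_succ_right σ (rix g) i
  rw [← rix_PMK, ← rix_PMK, ← rix_mapτ, ← rix_mul] at h1
  have h2 := congrArg rixInv h1
  rwa [rixInv_rix, rixInv_rix] at h2

/-- partial norms in `GSp` -/
noncomputable def PNSp (σ : F ≃+* F) (g : ↥(Cfsg.GSp m F)) : ℕ → ↥(Cfsg.GSp m F)
  | 0 => 1
  | (i + 1) => g * gmapSp σ (PNSp σ g i)

theorem PNSp_coe (σ : F ≃+* F) (g : ↥(Cfsg.GSp m F)) (i : ℕ) :
    (((PNSp σ g i : ↥(Cfsg.GSp m F)) : GL (K m) F) : Matrix (K m) (K m) F) =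
      PMK σ ((g : GL (K m) F) : Matrix (K m) (K m) F) i := by
  induction i with
  | zero => rfl
  | succ i ih =>
    change (((g * gmapSp σ (PNSp σ g i) : ↥(Cfsg.GSp m F)) : GL (K m) F) :
      Matrix (K m) (K m) F) = _
    rw [Subgroup.coe_mul, Units.val_mul, gmapSp_coe, gmapK_coe, ih, PMK_succ]

theorem pow_cGSp_fSp (σ : F ≃+* F) (g : ↥(Cfsg.GSp m F)) (i : ℕ) :
    (cGSp g * fSp σ : MulAut (Cfsg.PSp m F)) ^ i = cGSp (PNSp σ g i) * fSp (σ ^ i) := by
  induction i with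
  | zero =>
    change _ = cGSp 1 * fSp 1
    rw [pow_zero, map_one, map_one, mul_one]
  | succ i ih =>
    rw [pow_succ', ih, mul_formSp, ← pow_succ']
    rfl

theorem conj_cGSp_fSp (σ : F ≃+* F) (h : ↥(Cfsg.GSp m F)) :
    (cGSp h * fSp σ * (cGSp h)⁻¹ : MulAut (Cfsg.PSp m F)) =
      cGSp (h * (gmapSp σ h)⁻¹) * fSp σ := by
  rw [← map_inv, mul_assoc, fSp_mul_cGSp, ← mul_assoc, ← map_mul, map_inv]

variable [Fintype F]

/-- the key conjugacy statement for field automorphisms of `PSp` -/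
theorem symp_field_conj (hm : 2 ≤ m) (σ : F ≃+* F) {r : ℕ} (hr : 0 < r) (hσ : orderOf σ = r)
    (g : ↥(Cfsg.GSp m F)) (h : (cGSp g * fSp σ : MulAut (Cfsg.PSp m F)) ^ r = 1) :
    ∃ k : ↥(Cfsg.GSp m F), cGSp g * fSp σ = cGSp k * fSp σ * (cGSp k)⁻¹ := by
  have hm1 : 1 ≤ m := by omega
  have hσr : σ ^ r = 1 := by rw [← hσ, pow_orderOf_eq_one]
  rw [pow_cGSp_fSp, hσr, map_one, mul_one] at h
  obtain ⟨c, h2⟩ := (cGSp_eq_one_iff hm _).1 h
  rw [PNSp_coe] at h2
  set G : Matrix (K m) (K m) F := ((g : GL (K m) F) : Matrix (K m) (K m) F) with hG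
  have hdetG : G.det ≠ 0 := Matrix.GeneralLinearGroup.det_ne_zero (g : GL (K m) F)
  have hne : ∃ x y, G x y ≠ 0 := by
    by_contra hcon
    push Not at hcon
    have h0 : G = 0 := by ext x y; exact hcon x y
    haveI : Nonempty (K m) := ⟨Sum.inl ⟨0, hm1⟩⟩
    rw [h0, Matrix.det_zero] at hdetG
    exact hdetG rfl
  have hadjG : adj G * G = ((mult hm1 g : Fˣ) : F) • 1 := (simil_iff G _).1 (mult_spec hm1 g)
  have hc : c ≠ 0 := by
    rintro rfl
    have h3 := adj_PMK σ G _ hadjG r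
    rw [h2, zero_smul, Matrix.mul_zero] at h3
    have h4 := congrFun (congrFun h3 (Sum.inl ⟨0, hm1⟩)) (Sum.inl ⟨0, hm1⟩)
    simp only [Matrix.zero_apply, Matrix.smul_apply, Matrix.one_apply_eq, smul_eq_mul,
      mul_one] at h4
    exact AutPSL.Nm_ne_zero σ r (mult hm1 g).ne_zero h4.symm
  -- `c` is fixed
  have h3 : σ c = c := by
    have e1 := PMK_succ σ G r
    have e2 := PMK_succ_right σ G r
    rw [e1, h2, hσr] at e2
    have e4 : G.map ((1 : F ≃+* F)) = G := by
      ext x y; rfl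
    rw [smul_one_map, e4, Matrix.mul_smul, Matrix.mul_one, Matrix.smul_mul, Matrix.one_mul] at e2
    obtain ⟨x, y, hxy⟩ := hne
    have e5 := congrFun (congrFun e2 x) y
    simp only [Matrix.smul_apply, smul_eq_mul] at e5
    exact mul_right_cancel₀ hxy e5
  obtain ⟨d, hd0, hd⟩ := AutPSL.Nm_surjective σ hr hσ c hc h3
  -- normalise
  have h4 : PMK σ (d⁻¹ • G) r = 1 := by
    rw [PMK_smul, h2, AutPSL.Nm_inv, hd, smul_smul, inv_mul_cancel₀ hc, one_smul]
  have h5 : adj (d⁻¹ • G) * (d⁻¹ • G) = (d⁻¹ * d⁻¹ * ((mult hm1 g : Fˣ) : F)) • 1 := by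
    rw [adj_smul, Matrix.smul_mul, Matrix.mul_smul, hadjG, smul_smul, smul_smul]
  obtain ⟨k, ki, l, hk1, hk2, hl0, hkl, hk⟩ := lang_GSp hm1 σ hr hσ _ _ h5 h4
  have hkmem : (⟨k, ki, hk1, hk2⟩ : GL (K m) F) ∈ Cfsg.GSp m F :=
    ⟨Units.mk0 l hl0, (simil_iff k l).2 hkl⟩
  refine ⟨⟨_, hkmem⟩, ?_⟩
  rw [conj_cGSp_fSp]
  congr 1
  apply cGSp_eq_of_smul hm (d := d)
  change G = d • (k * (((gmapK σ (⟨k, ki, hk1, hk2⟩ : GL (K m) F))⁻¹ : GL (K m) F) :
    Matrix (K m) (K m) F))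
  rw [← map_inv]
  change G = d • (k * ki.map σ)
  have h6 : k.map σ * ki.map σ = 1 := by
    rw [← Matrix.map_mul, hk1, one_mapK]
  rw [← hk, Matrix.smul_mul, Matrix.smul_mul, Matrix.mul_assoc, h6, Matrix.mul_one, smul_smul,
    mul_inv_cancel₀ hd0, one_smul]

end

end

section

open Matrix Cfsg.Agent.Lib.H4 Cfsg.Agent.Lib.H2.Sp

section

variable {F : Type*} [Field F] [Fintype F] {m : ℕ}

/-- in a finite field of characteristic two every unit is a square -/
theorem units_sq_of_char_two [CharP F 2] (c : Fˣ) : ∃ d : Fˣ, c = d ^ 2 := by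
  obtain ⟨d, hd⟩ := FiniteField.isSquare_of_char_two (ringChar.eq F 2) (c : F)
  have hd0 : d ≠ 0 := by
    rintro rfl
    rw [mul_zero] at hd
    exact c.ne_zero hd
  refine ⟨Units.mk0 d hd0, ?_⟩
  apply Units.ext
  rw [Units.val_pow_eq_pow_val, Units.val_mk0, hd, pow_two]

/-- the inner-diagonal group of `PSp_{2m}(q)` is normal in the automorphism group (including
the case `PSp_4(2^f)`, where it is the group of inner automorphisms) -/
theorem normal_range_cGSp (hm : 2 ≤ m) : (cGSp (m := m) (F := F)).range.Normal := by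
  obtain ⟨p, hp⟩ := CharP.exists F
  haveI := hp
  haveI : Fact p.Prime := ⟨CharP.char_is_prime F p⟩
  by_cases hp2 : p = 2
  · subst hp2
    exact normal_range_cGSp_of_sq hm units_sq_of_char_two
  · exact normal_range_cGSp_of_all (fun θ => isSemi hm (fun _ => hp2) θ)

theorem s2713 (hm : 2 ≤ m) (x δ : MulAut (Cfsg.PSp m F)) (hx : Cfsg.IsFieldAutClassPSp x) {r : ℕ}
    (hr : r.Prime) (hxr : orderOf x = r) (hδ : δ ∈ Cfsg.inndiagPSp m F) :
    orderOf (δ * x) = r ↔ Cfsg.IsConjUnder (Cfsg.inndiagPSp m F) x (δ * x) := by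
  haveI := normal_range_cGSp (m := m) (F := F) hm
  rw [inndiagSp_eq] at hδ ⊢
  constructor
  · intro hord
    obtain ⟨α, σ, hσ1, hφ⟩ := hx
    have hx₀ : α * x * α⁻¹ = fSp σ := eq_fSp_of_isStd hφ
    refine AutPSL.conj_reduce _ α x δ (fSp σ) hx₀ hδ ?_ hord
    rintro δ₀ ⟨g, rfl⟩ hpow
    have hσr : orderOf σ = r := by
      rw [← orderOf_injective fSp (fSp_injective hm) σ, ← hx₀, AutPSL.orderOf_conj', hxr]
    obtain ⟨k, hk⟩ := symp_field_conj hm σ hr.pos hσr g hpow
    exact ⟨cGSp k, ⟨k, rfl⟩, hk⟩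
  · rintro ⟨h, -, heq⟩
    rw [heq, AutPSL.orderOf_conj', hxr]

end

end

section

open Matrix Cfsg.Agent.Lib.H4 Cfsg.Agent.Lib.H2.Sp

section congr

variable {K₁ : Type*} [Field K₁] {K₂ : Type*} [Field K₂] {m : ℕ}

/-- conformal symplectic groups of isomorphic fields -/
noncomputable def gspCongr (e : K₁ ≃+* K₂) : ↥(Cfsg.GSp m K₁) ≃* ↥(Cfsg.GSp m K₂) :=
  { toFun := mapGSp (e : K₁ →+* K₂)
    invFun := mapGSp (e.symm : K₂ →+* K₁)
    left_inv := by
      intro g
      apply Subtype.ext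
      apply Units.ext
      ext i k
      simp [mapGSp_coe]
    right_inv := by
      intro g
      apply Subtype.ext
      apply Units.ext
      ext i k
      simp [mapGSp_coe]
    map_mul' := fun a b => map_mul _ a b }

theorem gspCongr_coe (e : K₁ ≃+* K₂) (g : ↥(Cfsg.GSp m K₁)) :
    (((gspCongr e g : ↥(Cfsg.GSp m K₂)) : GL (K m) K₂) : Matrix (K m) (K m) K₂) =
      ((g : GL (K m) K₁) : Matrix (K m) (K m) K₁).map e := rfl

theorem gspCongr_scalars (e : K₁ ≃+* K₂) :
    ((Cfsg.Geo.scalars (K m) K₁).subgroupOf (Cfsg.GSp m K₁)).map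
      (gspCongr (m := m) e).toMonoidHom =
      (Cfsg.Geo.scalars (K m) K₂).subgroupOf (Cfsg.GSp m K₂) := by
  ext y
  constructor
  · rintro ⟨g, hg, rfl⟩
    rw [SetLike.mem_coe] at hg
    rw [Subgroup.mem_subgroupOf, Cfsg.Geo.mem_scalars_iff] at hg ⊢
    obtain ⟨c, hcg⟩ := hg
    refine ⟨Units.map (e : K₁ →+* K₂).toMonoidHom c, ?_⟩
    change (((gspCongr e g : ↥(Cfsg.GSp m K₂)) : GL (K m) K₂) : Matrix (K m) (K m) K₂) = _
    rw [gspCongr_coe, hcg]
    ext i k
    simp only [Matrix.map_apply, Matrix.smul_apply, Matrix.one_apply, smul_eq_mul]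
    split_ifs <;> simp
  · intro hy
    rw [Subgroup.mem_subgroupOf, Cfsg.Geo.mem_scalars_iff] at hy
    obtain ⟨c, hcy⟩ := hy
    refine ⟨(gspCongr e).symm y, ?_, ?_⟩
    · rw [SetLike.mem_coe, Subgroup.mem_subgroupOf, Cfsg.Geo.mem_scalars_iff]
      refine ⟨Units.map (e.symm : K₂ →+* K₁).toMonoidHom c, ?_⟩
      change ((y : GL (K m) K₂) : Matrix (K m) (K m) K₂).map e.symm = _
      rw [hcy]
      ext i k
      simp only [Matrix.map_apply, Matrix.smul_apply, Matrix.one_apply, smul_eq_mul]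
      split_ifs <;> simp
    · exact (gspCongr e).apply_symm_apply y

/-- `PGSp_{2m}` of isomorphic fields -/
noncomputable def pgspCongr (e : K₁ ≃+* K₂) : Cfsg.PGSp m K₁ ≃* Cfsg.PGSp m K₂ :=
  QuotientGroup.congr _ _ (gspCongr e) (gspCongr_scalars e)

end congr

section arith

theorem geom_parity_odd (q₀ r : ℕ) (hq : Odd q₀) :
    (∑ i ∈ Finset.range r, q₀ ^ i) % 2 = r % 2 := by
  induction r with
  | zero => simp
  | succ r ih =>
    rw [Finset.sum_range_succ, Nat.add_mod, ih]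
    have h1 : q₀ ^ r % 2 = 1 := Nat.odd_iff.1 (hq.pow)
    rw [h1]
    omega

theorem geom_parity_even (q₀ r : ℕ) (hq : Even q₀) (hr : 0 < r) :
    (∑ i ∈ Finset.range r, q₀ ^ i) % 2 = 1 := by
  obtain ⟨r, rfl⟩ : ∃ r', r = r' + 1 := ⟨r - 1, by omega⟩
  clear hr
  induction r with
  | zero => simp
  | succ r ih =>
    rw [Finset.sum_range_succ, Nat.add_mod, ih]
    have h1 : q₀ ^ (r + 1) % 2 = 0 := Nat.even_iff.1 ((Nat.even_pow.2 ⟨hq, by omega⟩))
    rw [h1]

theorem gcd_arith (p f r : ℕ) (hp : p.Prime) (hr : 0 < r) (hd : r ∣ f) (hf : 1 ≤ f) :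
    Nat.gcd 2 ((p ^ f - 1) / (p ^ (f / r) - 1)) = Nat.gcd (Nat.gcd 2 (p ^ f - 1)) r := by
  obtain ⟨k, rfl⟩ := hd
  have hk : 0 < k := by
    rcases Nat.eq_zero_or_pos k with h | h
    · subst h; omega
    · exact h
  rw [Nat.mul_div_cancel_left _ hr]
  set q₀ := p ^ k with hq₀
  have hq₀2 : 2 ≤ q₀ := by
    calc 2 ≤ p := hp.two_le
      _ = p ^ 1 := (pow_one p).symm
      _ ≤ p ^ k := Nat.pow_le_pow_right hp.pos hk
  have e1 : p ^ (r * k) = q₀ ^ r := by rw [hq₀, ← pow_mul, mul_comm]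
  rw [e1, ← Nat.geomSum_eq hq₀2 r]
  have hgcd2 : ∀ n : ℕ, Nat.gcd 2 n = if n % 2 = 0 then 2 else 1 := by
    intro n
    split_ifs with h
    · exact Nat.gcd_eq_left (Nat.dvd_of_mod_eq_zero h)
    · have : Nat.Coprime 2 n := by
        rw [Nat.coprime_two_left]
        exact Nat.odd_iff.2 (by omega)
      exact this
  rcases hp.eq_two_or_odd' with rfl | hodd
  · have hq₀e : Even q₀ := Nat.even_pow.2 ⟨even_two, by omega⟩
    have h1 := geom_parity_even q₀ r hq₀e hr
    have h2 : (q₀ ^ r - 1) % 2 = 1 := by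
      have : Even (q₀ ^ r) := Nat.even_pow.2 ⟨hq₀e, by omega⟩
      have hpos : 0 < q₀ ^ r := pow_pos (by omega) r
      obtain ⟨t, ht⟩ := this
      omega
    rw [hgcd2, hgcd2 (q₀ ^ r - 1), h1, h2]
    simp
  · have hq₀o : Odd q₀ := hodd.pow
    have h1 := geom_parity_odd q₀ r hq₀o
    have h2 : (q₀ ^ r - 1) % 2 = 0 := by
      have : Odd (q₀ ^ r) := hq₀o.pow
      obtain ⟨t, ht⟩ := this
      omega
    rw [hgcd2, hgcd2 (q₀ ^ r - 1), h1, h2, if_pos rfl, hgcd2 r]

end arith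

section final

variable {F : Type*} [Field F] {m : ℕ}

theorem range_mult_jSp (hm : 1 ≤ m) (σ : F ≃+* F) :
    ((mult hm).comp (jSp (m := m) σ)).range =
      (Units.map (AutPSL.fixF σ).subtype.toMonoidHom).range := by
  ext u
  constructor
  · rintro ⟨g₁, rfl⟩
    exact ⟨mult hm g₁, (mult_mapGSp hm _ g₁).symm⟩
  · rintro ⟨u₁, rfl⟩
    refine ⟨dgM u₁, ?_⟩
    rw [MonoidHom.comp_apply]
    change mult hm (mapGSp _ (dgM u₁)) = _
    rw [mult_mapGSp, mult_dgM]

theorem s2712 [Fintype F] {p f : ℕ} [Fact p.Prime] (hF : Fintype.card F = p ^ f) (hf : 1 ≤ f)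
    (hm : 2 ≤ m) (x : MulAut (Cfsg.PSp m F)) (hx : Cfsg.IsFieldAutClassPSp x) {r : ℕ}
    (hr : r.Prime) (hxr : orderOf x = r) (F₀ : Type*) [Field F₀] [Fintype F₀]
    (hF₀ : Fintype.card F₀ = p ^ (f / r)) :
    r ∣ f ∧ Nonempty (↥(Cfsg.inndiagPSp m F ⊓ Subgroup.centralizer {x}) ≃* Cfsg.PGSp m F₀) ∧
      Cfsg.splitClassCount (Cfsg.inndiagPSp m F) (Cfsg.Inn (Cfsg.PSp m F)) x =
        Nat.gcd (Nat.gcd 2 (p ^ f - 1)) r := by
  classical
  have hm1 : 1 ≤ m := by omega
  haveI : CharP F p := charP_of_card_eq_prime_pow hF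
  have hDn := normal_range_cGSp (m := m) (F := F) hm
  obtain ⟨α, σ, hσ1, hφ⟩ := hx
  have hx₀ : α * x * α⁻¹ = fSp σ := eq_fSp_of_isStd hφ
  have hσr : orderOf σ = r := by
    rw [← orderOf_injective fSp (fSp_injective hm) σ, ← hx₀, AutPSL.orderOf_conj', hxr]
  have hd : r ∣ f := by
    rw [← hσr, ← AutPSL.card_ringAut p hF]
    exact orderOf_dvd_natCard σ
  have hC := centralizer_fSp (m := m) σ hm hr.pos hσr
  have hcardF₁ := AutPSL.card_fixF' σ hr.pos hσr hF
  refine ⟨hd, ?_, ?_⟩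
  · obtain ⟨e1⟩ := centralizer_isoSp hDn x α (fSp σ) hx₀ (jSp σ) hC
    have e2 := QuotientGroup.quotientMulEquivOfEq (ker_cGSp_jSp (m := m) σ hm)
    haveI : Fintype (AutPSL.fixF σ) := Fintype.ofFinite _
    have hcard : Fintype.card (AutPSL.fixF σ) = Fintype.card F₀ := by
      rw [← Nat.card_eq_fintype_card, hcardF₁, hF₀]
    have e3 : Cfsg.PGSp m (AutPSL.fixF σ) ≃* Cfsg.PGSp m F₀ :=
      pgspCongr (FiniteField.ringEquivOfCardEq hcard)
    exact ⟨(e1.trans e2).trans e3⟩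
  · rw [split_psp hm hm1 hDn x α (fSp σ) hx₀ (jSp σ) hC, AutPSL.cyclic_index,
      range_mult_jSp hm1, AutPSL.card_range_units_map, hcardF₁, Nat.card_units,
      Nat.card_eq_fintype_card, hF]
    exact gcd_arith p f r Fact.out hr.pos hd hf

end final

end

end Cfsg.Agent.Lib.H13.AutPSp
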