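import Mathlib
import Cfsg.Agent.Lib.H13.AutPO7
import Cfsg.Agent.Lib.H13.AutPSp4

/-!
Automorphisms of `PΩ(Q)`, part 8 (helper13): centralisers of field automorphisms. `upSim : Sim(Q|F₀) → Sim(Q)` for the fixed field `F₀` of `σ`,
`centralizer_stdAut` (the centraliser of the standard field automorphism in `PGO(Q)` is the image of `Sim(Q|F₀)`), `ker_Phi_upSim`, transport of
similarity groups along field isomorphisms (`simEquiv`), `centralizer_equiv_gen`, reflections over the fixed field (`refl_up`, `upGL_list`),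
squares in subfields (`isSquare_coe_of_two`, `exists_nonsquare_coe`), `upGL_mem_omega_of_sq`, `exists_so_not_omega`, the split class count in odd
dimension (`split_odd_gen`) and `s2714`.
-/

set_option autoImplicit false
set_option linter.unusedSectionVars false
set_option linter.unusedVariables false
set_option linter.unusedSimpArgs false
set_option linter.deprecated false

namespace Cfsg.Agent.Lib.H13.AutPO

section

open Matrix QuadraticMap Module
open Cfsg.Agent.Lib.H11.ConfOrth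

section upsim

variable {F : Type*} [Field F] {ι : Type} [Fintype ι] [DecidableEq ι]
variable {σ : F ≃+* F} (Q : QuadraticForm F (ι → F)) (hσQ : SigEq σ Q)

theorem upGL_mul (k k' : GL ι (AutPSL.fixF σ)) : upGL (k * k') = upGL k * upGL k' := by
  unfold upGL
  rw [map_mul]

theorem upGL_one : upGL (1 : GL ι (AutPSL.fixF σ)) = 1 := by
  unfold upGL
  rw [map_one]

theorem upGL_injective : Function.Injective (upGL (σ := σ) (ι := ι)) := by
  intro k k' h
  apply Units.ext
  ext i j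
  have := congrArg (fun g : GL ι F => (g : Matrix ι ι F) i j) h
  simp only [upGL_val, Matrix.map_apply] at this
  exact this

theorem upGL_mem_sim (k : GL ι (AutPSL.fixF σ)) (hk : k ∈ Sim ⇑(down Q hσQ)) :
    upGL k ∈ Sim ⇑Q := by
  obtain ⟨c, hc⟩ := hk
  have hc0 : ((c : AutPSL.fixF σ) : F) ≠ 0 := by
    intro h
    exact c.ne_zero (Subtype.ext h)
  refine ⟨Units.mk0 _ hc0, ?_⟩
  have h1 : Q.comp (Matrix.toLin' (upGL (σ := σ) k).1) = ((c : AutPSL.fixF σ) : F) • Q := by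
    apply qf_ext_of_upV (σ := σ)
    intro v
    rw [QuadraticMap.comp_apply, Matrix.toLin'_apply, upGL_mulVec, _root_.smul_apply, smul_eq_mul,
      ← down_apply Q hσQ, ← down_apply Q hσQ, hc]
    rfl
  intro v
  have := congrArg (fun R : QuadraticForm F (ι → F) => R v) h1
  simpa [QuadraticMap.comp_apply, Matrix.toLin'_apply] using this

/-- the inclusion of the similarity group over the fixed field -/
def upSim : ↥(Sim ⇑(down Q hσQ)) →* ↥(Sim ⇑Q) where
  toFun k := ⟨upGL k.1, upGL_mem_sim Q hσQ k.1 k.2⟩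
  map_one' := Subtype.ext upGL_one
  map_mul' k k' := Subtype.ext (upGL_mul k.1 k'.1)

theorem upSim_val (k : ↥(Sim ⇑(down Q hσQ))) : (upSim Q hσQ k).1 = upGL k.1 := rfl

/-- a matrix fixed by `σ` comes from the fixed field -/
theorem exists_upGL_of_fixed (g : GL ι F) (hg : glmap σ g = g) :
    ∃ k : GL ι (AutPSL.fixF σ), upGL k = g := by
  have h1 : ∀ i j, σ (g.1 i j) = g.1 i j := by
    intro i j
    have := congrArg (fun x : GL ι F => (x : Matrix ι ι F) i j) hg
    simpa [glmap_val] using this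
  have hgi : glmap σ g⁻¹ = g⁻¹ := by rw [map_inv, hg]
  have h2 : ∀ i j, σ ((g⁻¹).1 i j) = (g⁻¹).1 i j := by
    intro i j
    have h3 := congrArg (fun x : GL ι F => (x : Matrix ι ι F)) hgi
    simp only [glmap_val] at h3
    have h4 := congrFun (congrFun h3 i) j
    rwa [Matrix.map_apply] at h4
  let A : Matrix ι ι (AutPSL.fixF σ) := Matrix.of fun i j =>
    ⟨g.1 i j, (AutPSL.mem_fixF_iff σ _).2 (h1 i j)⟩
  let B : Matrix ι ι (AutPSL.fixF σ) := Matrix.of fun i j =>
    ⟨(g⁻¹).1 i j, (AutPSL.mem_fixF_iff σ _).2 (h2 i j)⟩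
  have hA : A.map (AutPSL.fixF σ).subtype = g.1 := by ext i j; rfl
  have hB : B.map (AutPSL.fixF σ).subtype = (g⁻¹).1 := by ext i j; rfl
  have hinjM : ∀ X Y : Matrix ι ι (AutPSL.fixF σ),
      X.map (AutPSL.fixF σ).subtype = Y.map (AutPSL.fixF σ).subtype → X = Y := by
    intro X Y h
    ext i j
    have := congrFun (congrFun h i) j
    exact this
  have hone : (1 : Matrix ι ι (AutPSL.fixF σ)).map (AutPSL.fixF σ).subtype = 1 := by
    ext i j
    simp [Matrix.map_apply, Matrix.one_apply, apply_ite]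
  have hAB : A * B = 1 := by
    apply hinjM
    rw [Matrix.map_mul, hA, hB, hone, ← Units.val_mul, mul_inv_cancel, Units.val_one]
  have hBA : B * A = 1 := by
    apply hinjM
    rw [Matrix.map_mul, hA, hB, hone, ← Units.val_mul, inv_mul_cancel, Units.val_one]
  refine ⟨⟨A, B, hAB, hBA⟩, ?_⟩
  apply Units.ext
  rw [upGL_val]
  exact hA

end upsim

end

section

open Matrix QuadraticMap Module
open Cfsg.Agent.Lib.H11.ConfOrth

section centr

variable {F : Type*} [Field F] [Fintype F] {ι : Type} [Fintype ι] [DecidableEq ι]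
variable {σ : F ≃+* F} (Q : QuadraticForm F (ι → F)) (hσQ : SigEq σ Q)

omit [Fintype F] in
theorem glmap_scalar (τ : F ≃+* F) (c : Fˣ) :
    glmap τ (Matrix.GeneralLinearGroup.scalar ι c) =
      Matrix.GeneralLinearGroup.scalar ι (Units.map (τ : F →* F) c) := by
  apply Units.ext
  rw [glmap_val, Matrix.GeneralLinearGroup.coe_scalar, Matrix.GeneralLinearGroup.coe_scalar]
  ext a b
  rw [Matrix.map_apply, Matrix.scalar_apply, Matrix.scalar_apply, Matrix.diagonal_apply,
    Matrix.diagonal_apply]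
  split_ifs
  · rfl
  · exact map_zero τ

omit [Fintype F] in
/-- there is a vector over the fixed field on which `Q` does not vanish -/
theorem exists_upV_ne (hne : ∃ v, Q v ≠ 0) : ∃ v₀ : ι → AutPSL.fixF σ, Q (upV σ v₀) ≠ 0 := by
  by_contra hcon
  push Not at hcon
  have h1 : Q = 0 := by
    apply qf_ext_of_upV (σ := σ)
    intro v
    rw [hcon]; rfl
  obtain ⟨v, hv⟩ := hne
  apply hv
  rw [h1]; rfl

theorem Phi_upSim_comm (k : ↥(Sim ⇑(down Q hσQ))) :
    stdAut Q σ hσQ * Phi ⇑Q (upSim Q hσQ k) = Phi ⇑Q (upSim Q hσQ k) * stdAut Q σ hσQ := by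
  rw [stdAut_mul_Phi, Phi_mul_stdAut]
  exact semiAut_congr ⇑Q (glmap_upGL _) rfl _ _

theorem centralizer_stdAut (hker : (Phi ⇑Q).ker = (Zs ι F).subgroupOf (Sim ⇑Q))
    (hne : ∃ v, Q v ≠ 0) {r : ℕ} (hr : 0 < r) (hσ : orderOf σ = r) :
    (Phi ⇑Q).range ⊓ Subgroup.centralizer {stdAut Q σ hσQ} =
      ((Phi ⇑Q).comp (upSim Q hσQ)).range := by
  have hσr : σ ^ r = 1 := by rw [← hσ, pow_orderOf_eq_one]
  apply le_antisymm
  · rintro _ ⟨⟨g, rfl⟩, hcen⟩
    have hcen' : Phi ⇑Q g ∈ Subgroup.centralizer {stdAut Q σ hσQ} := hcen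
    rw [Subgroup.mem_centralizer_iff] at hcen'
    have h1 := hcen' _ (Set.mem_singleton _)
    -- `σ(g) = g * scalar`
    have hσg : glmap σ g.1 ∈ Sim ⇑Q := by
      obtain ⟨c, hc⟩ := g.2
      refine ⟨Units.map (σ : F →* F) c, fun v => ?_⟩
      have e1 : (glmap σ g.1).1 *ᵥ v = vmap σ (g.1.1 *ᵥ vmap σ.symm v) := by
        rw [glmap_val, ← map_mulVec_vmap, vmap_vmap_symm]
      rw [e1, hσQ, hc, map_mul]
      have e2 : σ (Q (vmap σ.symm v)) = Q v := by rw [← hσQ, vmap_vmap_symm]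
      rw [e2]
      rfl
    have h3 : Phi ⇑Q ⟨glmap σ g.1, hσg⟩ = Phi ⇑Q g := by
      have e1 : Phi ⇑Q ⟨glmap σ g.1, hσg⟩ * stdAut Q σ hσQ = Phi ⇑Q g * stdAut Q σ hσQ := by
        rw [← h1, stdAut_mul_Phi, Phi_mul_stdAut]
      exact mul_right_cancel e1
    have h4 : g⁻¹ * ⟨glmap σ g.1, hσg⟩ ∈ (Phi ⇑Q).ker := by
      rw [MonoidHom.mem_ker, map_mul, map_inv, h3, inv_mul_cancel]
    rw [hker, Subgroup.mem_subgroupOf, mem_Zs_iff] at h4
    obtain ⟨c, hc⟩ := h4
    have hc' : glmap σ g.1 = g.1 * Matrix.GeneralLinearGroup.scalar ι c := by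
      have : g.1⁻¹ * glmap σ g.1 = Matrix.GeneralLinearGroup.scalar ι c := hc
      rw [← this, mul_inv_cancel_left]
    -- the norm of `c` is one
    have hpow : ∀ i : ℕ, glmap (σ ^ i) g.1 = g.1 * Matrix.GeneralLinearGroup.scalar ι
        (Units.mk0 (AutPSL.Nm σ i (c : F)) (AutPSL.Nm_ne_zero σ i c.ne_zero)) := by
      intro i
      induction i with
      | zero =>
        rw [pow_zero]
        have : glmap (1 : F ≃+* F) g.1 = g.1 := glmap_refl _
        rw [this]
        have e : Units.mk0 (AutPSL.Nm σ 0 (c : F)) (AutPSL.Nm_ne_zero σ 0 c.ne_zero) = 1 := by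
          apply Units.ext; simp [AutPSL.Nm_zero]
        rw [e, map_one, mul_one]
      | succ i ih =>
        rw [glmap_pow_succ, ih, map_mul, hc', glmap_scalar, mul_assoc, ← map_mul]
        congr 2
        apply Units.ext
        simp only [Units.val_mul, Units.val_mk0, Units.coe_map, MonoidHom.coe_coe,
          AutPSL.Nm_succ']
    have hN : AutPSL.Nm σ r (c : F) = 1 := by
      have h5 := hpow r
      rw [hσr] at h5
      have : glmap (1 : F ≃+* F) g.1 = g.1 := glmap_refl _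
      rw [this] at h5
      have h6 : Matrix.GeneralLinearGroup.scalar ι
          (Units.mk0 (AutPSL.Nm σ r (c : F)) (AutPSL.Nm_ne_zero σ r c.ne_zero)) = 1 := by
        have := congrArg (fun x => g.1⁻¹ * x) h5
        simp only [inv_mul_cancel, inv_mul_cancel_left] at this
        exact this.symm
      have hne' : Nonempty ι := by
        obtain ⟨v, hv⟩ := hne
        by_contra hcon
        rw [not_nonempty_iff] at hcon
        apply hv
        have : v = 0 := Subsingleton.elim _ _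
        rw [this, map_zero]
      obtain ⟨i⟩ := hne'
      have h7 := congrArg (fun M : GL ι F => (M : Matrix ι ι F) i i) h6
      simpa [Matrix.GeneralLinearGroup.coe_scalar, Matrix.scalar_apply] using h7
    obtain ⟨l, hl0, hl⟩ := AutPSL.hilbert90_scalar σ hr hσ (c : F) hN
    set lu : Fˣ := Units.mk0 l hl0 with hlu
    set g' : GL ι F := Matrix.GeneralLinearGroup.scalar ι lu * g.1 with hg'
    have hg'σ : glmap σ g' = g' := by
      have e0 : Units.map (σ : F →* F) lu * c = lu := by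
        apply Units.ext
        simp only [Units.val_mul, Units.coe_map, MonoidHom.coe_coe, hlu, Units.val_mk0]
        rw [mul_comm]; exact hl
      calc glmap σ g' = Matrix.GeneralLinearGroup.scalar ι (Units.map (σ : F →* F) lu) *
            (g.1 * Matrix.GeneralLinearGroup.scalar ι c) := by
              rw [hg', map_mul, glmap_scalar, hc']
        _ = Matrix.GeneralLinearGroup.scalar ι (Units.map (σ : F →* F) lu) *
            (Matrix.GeneralLinearGroup.scalar ι c * g.1) := by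
              rw [Matrix.GeneralLinearGroup.scalar_commute c g.1]
        _ = g' := by rw [← mul_assoc, ← map_mul, e0]
    obtain ⟨k, hk⟩ := exists_upGL_of_fixed g' hg'σ
    have hg'S : g' ∈ Sim ⇑Q := mul_mem (Zs_le_sim' Q ((mem_Zs_iff _).2 ⟨lu, rfl⟩)) g.2
    have hkS : k ∈ Sim ⇑(down Q hσQ) := by
      obtain ⟨τ, hτ⟩ := hg'S
      obtain ⟨v₀, hv₀⟩ := exists_upV_ne (σ := σ) Q hne
      have hτσ : σ (τ : F) = τ := by
        have e1 := hτ (upV σ v₀)
        have e2 : σ (Q (g'.1 *ᵥ upV σ v₀)) = Q (g'.1 *ᵥ upV σ v₀) := by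
          rw [← hσQ, ← map_mulVec_vmap, vmap_upV, ← glmap_val, hg'σ]
        rw [e1, map_mul, ← hσQ, vmap_upV] at e2
        exact mul_right_cancel₀ hv₀ e2
      refine ⟨Units.mk0 ⟨(τ : F), (AutPSL.mem_fixF_iff σ _).2 hτσ⟩ (by
        intro h
        exact τ.ne_zero (congrArg Subtype.val h)), fun v => ?_⟩
      apply Subtype.ext
      rw [down_apply, ← upGL_mulVec, hk, hτ]
      rfl
    refine ⟨⟨k, hkS⟩, ?_⟩
    rw [MonoidHom.comp_apply]
    have e1 : upSim Q hσQ ⟨k, hkS⟩ = ⟨Matrix.GeneralLinearGroup.scalar ι lu,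
        Zs_le_sim' Q ((mem_Zs_iff _).2 ⟨lu, rfl⟩)⟩ * g := by
      apply Subtype.ext
      rw [upSim_val, hk]
      rfl
    rw [e1, map_mul]
    have e2 : (⟨Matrix.GeneralLinearGroup.scalar ι lu,
        Zs_le_sim' Q ((mem_Zs_iff _).2 ⟨lu, rfl⟩)⟩ : ↥(Sim ⇑Q)) ∈ (Phi ⇑Q).ker := by
      rw [hker, Subgroup.mem_subgroupOf, mem_Zs_iff]
      exact ⟨lu, rfl⟩
    rw [MonoidHom.mem_ker.1 e2, one_mul]
  · rintro _ ⟨k, rfl⟩
    refine ⟨⟨_, rfl⟩, ?_⟩
    show _ ∈ Subgroup.centralizer {stdAut Q σ hσQ}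
    rw [Subgroup.mem_centralizer_iff]
    intro h hh
    rw [Set.mem_singleton_iff] at hh
    subst hh
    exact Phi_upSim_comm Q hσQ k

end centr

end

section

open Matrix QuadraticMap Module
open Cfsg.Agent.Lib.H11.ConfOrth

section kerup

variable {F : Type*} [Field F] [Fintype F] {ι : Type} [Fintype ι] [DecidableEq ι]
variable {σ : F ≃+* F} (Q : QuadraticForm F (ι → F)) (hσQ : SigEq σ Q)

omit [Fintype F] in
theorem upGL_scalar (c : (AutPSL.fixF σ)ˣ) :
    upGL (Matrix.GeneralLinearGroup.scalar ι c) =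
      Matrix.GeneralLinearGroup.scalar ι (Units.map (AutPSL.fixF σ).subtype.toMonoidHom c) := by
  apply Units.ext
  rw [upGL_val, Matrix.GeneralLinearGroup.coe_scalar, Matrix.GeneralLinearGroup.coe_scalar]
  ext a b
  rw [Matrix.map_apply, Matrix.scalar_apply, Matrix.scalar_apply, Matrix.diagonal_apply,
    Matrix.diagonal_apply]
  split_ifs
  · rfl
  · rfl

omit [Fintype F] in
theorem upGL_mem_Zs_iff [Nonempty ι] (k : GL ι (AutPSL.fixF σ)) :
    upGL k ∈ Zs ι F ↔ k ∈ Zs ι (AutPSL.fixF σ) := by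
  rw [mem_Zs_iff, mem_Zs_iff]
  constructor
  · rintro ⟨c, hc⟩
    obtain ⟨i⟩ := ‹Nonempty ι›
    have hent : ∀ a b, ((k.1 a b : AutPSL.fixF σ) : F) = if a = b then (c : F) else 0 := by
      intro a b
      have := congrArg (fun M : GL ι F => (M : Matrix ι ι F) a b) hc
      simp only [upGL_val, Matrix.map_apply, Matrix.GeneralLinearGroup.coe_scalar,
        Matrix.scalar_apply, Matrix.diagonal_apply] at this
      exact this
    have hc0 : k.1 i i ≠ 0 := by
      intro h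
      have := hent i i
      rw [h, if_pos rfl] at this
      exact c.ne_zero this.symm
    refine ⟨Units.mk0 (k.1 i i) hc0, ?_⟩
    apply Units.ext
    ext a b
    rw [Matrix.GeneralLinearGroup.coe_scalar, Matrix.scalar_apply, Matrix.diagonal_apply,
      Units.val_mk0]
    rw [hent a b]
    split_ifs
    · rw [hent i i, if_pos rfl]
    · rfl
  · rintro ⟨c, rfl⟩
    exact ⟨_, upGL_scalar c⟩

theorem ker_Phi_upSim [Nonempty ι] (hker : (Phi ⇑Q).ker = (Zs ι F).subgroupOf (Sim ⇑Q)) :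
    ((Phi ⇑Q).comp (upSim Q hσQ)).ker =
      (Zs ι (AutPSL.fixF σ)).subgroupOf (Sim ⇑(down Q hσQ)) := by
  ext k
  rw [MonoidHom.mem_ker, MonoidHom.comp_apply, ← MonoidHom.mem_ker, hker, Subgroup.mem_subgroupOf,
    Subgroup.mem_subgroupOf, upSim_val, upGL_mem_Zs_iff]

end kerup

section generic

variable {A : Type*} [Group A]

theorem map_conj_normal' (D : Subgroup A) [D.Normal] (α : A) :
    D.map (MulAut.conj α).toMonoidHom = D := by
  ext y
  constructor
  · rintro ⟨x, hx, rfl⟩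
    exact Subgroup.Normal.conj_mem inferInstance x hx α
  · intro hy
    refine ⟨α⁻¹ * y * α, ?_, ?_⟩
    · have := Subgroup.Normal.conj_mem (inferInstance : D.Normal) y hy α⁻¹
      rwa [inv_inv] at this
    · show α * (α⁻¹ * y * α) * α⁻¹ = y
      group

theorem map_centralizer_conj' (x α : A) :
    (Subgroup.centralizer {x}).map (MulAut.conj α).toMonoidHom =
      Subgroup.centralizer {α * x * α⁻¹} := by
  ext y
  constructor
  · rintro ⟨z, hz, rfl⟩
    have hz' : z ∈ Subgroup.centralizer {x} := hz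
    rw [Subgroup.mem_centralizer_iff] at hz' ⊢
    have hz := hz'
    intro h hh
    rw [Set.mem_singleton_iff] at hh
    subst hh
    have := hz x (Set.mem_singleton _)
    show α * x * α⁻¹ * (α * z * α⁻¹) = α * z * α⁻¹ * (α * x * α⁻¹)
    calc α * x * α⁻¹ * (α * z * α⁻¹) = α * (x * z) * α⁻¹ := by group
      _ = α * (z * x) * α⁻¹ := by rw [this]
      _ = _ := by group
  · intro hy
    rw [Subgroup.mem_centralizer_iff] at hy
    have h1 := hy _ (Set.mem_singleton _)
    refine ⟨α⁻¹ * y * α, ?_, ?_⟩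
    · show _ ∈ Subgroup.centralizer {x}
      rw [Subgroup.mem_centralizer_iff]
      intro h hh
      rw [Set.mem_singleton_iff] at hh
      subst hh
      calc h * (α⁻¹ * y * α) = α⁻¹ * (α * h * α⁻¹ * y) * α := by group
        _ = α⁻¹ * (y * (α * h * α⁻¹)) * α := by rw [h1]
        _ = _ := by group
    · show α * (α⁻¹ * y * α) * α⁻¹ = y
      group

/-- the centraliser of `x` in a normal subgroup, computed at a conjugate -/
theorem centralizer_iso_gen (D : Subgroup A) [D.Normal] (x α x₀ : A) (hx₀ : α * x * α⁻¹ = x₀)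
    {G₁ : Type*} [Group G₁] (j : G₁ →* A) (hC : D ⊓ Subgroup.centralizer {x₀} = j.range) :
    Nonempty (↥(D ⊓ Subgroup.centralizer {x}) ≃* G₁ ⧸ j.ker) := by
  have hinj : Function.Injective (MulAut.conj α).toMonoidHom := (MulAut.conj α).injective
  have e1 := Subgroup.equivMapOfInjective (D ⊓ Subgroup.centralizer {x}) _ hinj
  have h2 : (D ⊓ Subgroup.centralizer {x}).map (MulAut.conj α).toMonoidHom = j.range := by
    rw [Subgroup.map_inf _ _ _ hinj, map_conj_normal', map_centralizer_conj', hx₀, hC]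
  exact ⟨(e1.trans (MulEquiv.subgroupCongr h2)).trans (QuotientGroup.quotientKerEquivRange _).symm⟩

end generic

end

section

open Matrix QuadraticMap Module
open Cfsg.Agent.Lib.H11.ConfOrth

section congr

variable {K₁ : Type*} [Field K₁] {K₂ : Type*} [Field K₂] {ι : Type} [Fintype ι] [DecidableEq ι]

/-- `GL` of isomorphic fields -/
def glMapEquiv (e : K₁ ≃+* K₂) : GL ι K₁ ≃* GL ι K₂ where
  toFun := Matrix.GeneralLinearGroup.map (e : K₁ →+* K₂)
  invFun := Matrix.GeneralLinearGroup.map (e.symm : K₂ →+* K₁)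
  left_inv g := by
    apply Units.ext
    ext i j
    simp [Matrix.GeneralLinearGroup.map]
  right_inv g := by
    apply Units.ext
    ext i j
    simp [Matrix.GeneralLinearGroup.map]
  map_mul' g h := map_mul _ g h

theorem glMapEquiv_val (e : K₁ ≃+* K₂) (g : GL ι K₁) :
    ((glMapEquiv e g : GL ι K₂) : Matrix ι ι K₂) = (g : Matrix ι ι K₁).map e := by
  ext i j
  rfl

theorem glMapEquiv_symm_val (e : K₁ ≃+* K₂) (g : GL ι K₂) :
    (((glMapEquiv e).symm g : GL ι K₁) : Matrix ι ι K₁) = (g : Matrix ι ι K₂).map e.symm := by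
  ext i j
  rfl

theorem glMapEquiv_mulVec (e : K₁ ≃+* K₂) (g : GL ι K₁) (v : ι → K₁) :
    (glMapEquiv e g).1 *ᵥ (fun i => e (v i)) = fun i => e ((g.1 *ᵥ v) i) := by
  rw [glMapEquiv_val]
  funext i
  exact (RingHom.map_mulVec (e : K₁ →+* K₂) g.1 v i).symm

variable (Q₁ : (ι → K₁) → K₁) (Q₂ : (ι → K₂) → K₂) (e : K₁ ≃+* K₂)

theorem mem_sim_glMapEquiv (hQ : ∀ v, Q₂ (fun i => e (v i)) = e (Q₁ v)) (g : GL ι K₁)
    (hg : g ∈ Sim Q₁) : glMapEquiv e g ∈ Sim Q₂ := by
  obtain ⟨c, hc⟩ := hg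
  refine ⟨Units.map (e : K₁ →* K₂) c, fun w => ?_⟩
  have hw : w = fun i => e (e.symm (w i)) := by funext i; simp
  rw [hw, glMapEquiv_mulVec, hQ, hQ, hc, map_mul]
  rfl

theorem hQ_symm (hQ : ∀ v, Q₂ (fun i => e (v i)) = e (Q₁ v)) :
    ∀ w, Q₁ (fun i => e.symm (w i)) = e.symm (Q₂ w) := by
  intro w
  apply e.injective
  rw [← hQ, RingEquiv.apply_symm_apply]
  congr 1
  funext i
  simp

/-- the similarity groups of corresponding forms over isomorphic fields -/
def simEquiv (hQ : ∀ v, Q₂ (fun i => e (v i)) = e (Q₁ v)) : ↥(Sim Q₁) ≃* ↥(Sim Q₂) where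
  toFun g := ⟨glMapEquiv e g.1, mem_sim_glMapEquiv Q₁ Q₂ e hQ g.1 g.2⟩
  invFun g := ⟨(glMapEquiv e).symm g.1,
    mem_sim_glMapEquiv Q₂ Q₁ e.symm (hQ_symm Q₁ Q₂ e hQ) g.1 g.2⟩
  left_inv g := Subtype.ext ((glMapEquiv e).symm_apply_apply g.1)
  right_inv g := Subtype.ext ((glMapEquiv e).apply_symm_apply g.1)
  map_mul' g h := Subtype.ext (map_mul (glMapEquiv e) g.1 h.1)

theorem simEquiv_val (hQ : ∀ v, Q₂ (fun i => e (v i)) = e (Q₁ v)) (g : ↥(Sim Q₁)) :
    (simEquiv Q₁ Q₂ e hQ g).1 = glMapEquiv e g.1 := rfl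

omit [Fintype ι] in
theorem glMapEquiv_scalar' [Fintype ι] (c : K₁ˣ) :
    glMapEquiv e (Matrix.GeneralLinearGroup.scalar ι c) =
      Matrix.GeneralLinearGroup.scalar ι (Units.map (e : K₁ →* K₂) c) := by
  apply Units.ext
  rw [glMapEquiv_val, Matrix.GeneralLinearGroup.coe_scalar, Matrix.GeneralLinearGroup.coe_scalar]
  ext a b
  rw [Matrix.map_apply, Matrix.scalar_apply, Matrix.scalar_apply, Matrix.diagonal_apply,
    Matrix.diagonal_apply]
  split_ifs
  · rfl
  · exact map_zero e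

theorem glMapEquiv_mem_Zs_iff (g : GL ι K₁) : glMapEquiv e g ∈ Zs ι K₂ ↔ g ∈ Zs ι K₁ := by
  rw [mem_Zs_iff, mem_Zs_iff]
  constructor
  · rintro ⟨c, hc⟩
    refine ⟨Units.map (e.symm : K₂ →* K₁) c, ?_⟩
    apply (glMapEquiv e).injective
    rw [hc, glMapEquiv_scalar']
    congr 1
    apply Units.ext
    simp
  · rintro ⟨c, rfl⟩
    exact ⟨_, glMapEquiv_scalar' e c⟩

theorem map_Zs_simEquiv (hQ : ∀ v, Q₂ (fun i => e (v i)) = e (Q₁ v)) :
    ((Zs ι K₁).subgroupOf (Sim Q₁)).map (simEquiv Q₁ Q₂ e hQ).toMonoidHom =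
      (Zs ι K₂).subgroupOf (Sim Q₂) := by
  ext g
  constructor
  · rintro ⟨k, hk, rfl⟩
    rw [SetLike.mem_coe, Subgroup.mem_subgroupOf] at hk
    rw [Subgroup.mem_subgroupOf]
    show glMapEquiv e k.1 ∈ Zs ι K₂
    rw [glMapEquiv_mem_Zs_iff]
    exact hk
  · intro hg
    refine ⟨(simEquiv Q₁ Q₂ e hQ).symm g, ?_, ?_⟩
    · rw [SetLike.mem_coe, Subgroup.mem_subgroupOf, ← glMapEquiv_mem_Zs_iff e]
      have : glMapEquiv e ((simEquiv Q₁ Q₂ e hQ).symm g).1 = g.1 := by
        rw [← simEquiv_val Q₁ Q₂ e hQ, MulEquiv.apply_symm_apply]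
      rw [this]
      exact hg
    · exact (simEquiv Q₁ Q₂ e hQ).apply_symm_apply g

end congr

end

section

open Matrix QuadraticMap Module
open Cfsg.Agent.Lib.H11.ConfOrth

section centiso

variable {F : Type*} [Field F] [Fintype F] {ι : Type} [Fintype ι] [DecidableEq ι]
variable {σ : F ≃+* F} (Q : QuadraticForm F (ι → F)) (hσQ : SigEq σ Q)

/-- the centraliser of a field automorphism in `PGO(Q)` is `PGO` of the form over the fixed field -/
theorem centralizer_equiv_gen [Nonempty ι]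
    (hker : (Phi ⇑Q).ker = (Zs ι F).subgroupOf (Sim ⇑Q)) (hne : ∃ v, Q v ≠ 0) {r : ℕ} (hr : 0 < r)
    (hσ : orderOf σ = r) (hDn : (Phi ⇑Q).range.Normal) (x α : MulAut (Cfsg.POmega F ⇑Q))
    (hx₀ : α * x * α⁻¹ = stdAut Q σ hσQ)
    {K₂ : Type*} [Field K₂] (Q₂ : (ι → K₂) → K₂) (e : AutPSL.fixF σ ≃+* K₂)
    (hQe : ∀ v, Q₂ (fun i => e (v i)) = e (down Q hσQ v))
    (hker₂ : (Phi Q₂).ker = (Zs ι K₂).subgroupOf (Sim Q₂)) :
    Nonempty (↥((Phi ⇑Q).range ⊓ Subgroup.centralizer {x}) ≃* ↥(Phi Q₂).range) := by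
  haveI := hDn
  obtain ⟨e1⟩ := centralizer_iso_gen (Phi ⇑Q).range x α _ hx₀ ((Phi ⇑Q).comp (upSim Q hσQ))
    (centralizer_stdAut Q hσQ hker hne hr hσ)
  haveI := Zs_normal_subgroupOf (F := AutPSL.fixF σ) (ι := ι) ⇑(down Q hσQ)
  haveI := Zs_normal_subgroupOf (F := K₂) (ι := ι) Q₂
  have e2 := QuotientGroup.quotientMulEquivOfEq (ker_Phi_upSim Q hσQ hker)
  have e3 := QuotientGroup.congr ((Zs ι (AutPSL.fixF σ)).subgroupOf (Sim ⇑(down Q hσQ)))
    ((Zs ι K₂).subgroupOf (Sim Q₂)) (simEquiv ⇑(down Q hσQ) Q₂ e hQe)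
    (map_Zs_simEquiv ⇑(down Q hσQ) Q₂ e hQe)
  have e4 := QuotientGroup.quotientMulEquivOfEq hker₂.symm
  have e5 := QuotientGroup.quotientKerEquivRange (Phi Q₂)
  exact ⟨(((e1.trans e2).trans e3).trans e4).trans e5⟩

end centiso

end

section

open Matrix QuadraticMap Module
open Cfsg.Agent.Lib.H11.ConfOrth

section reflup

variable {F : Type*} [Field F] {ι : Type} [Fintype ι] [DecidableEq ι]
variable {σ : F ≃+* F} (Q : QuadraticForm F (ι → F)) (hσQ : SigEq σ Q)

omit [Fintype ι] in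
theorem upV_single (j : ι) : upV σ (Pi.single j (1 : AutPSL.fixF σ)) = Pi.single j (1 : F) := by
  funext i
  unfold upV
  by_cases hj : i = j
  · subst hj; simp
  · simp [Pi.single_eq_of_ne hj]

theorem refl_up (u : ι → AutPSL.fixF σ) :
    Cfsg.reflectionMatrix ⇑Q (upV σ u) =
      (Cfsg.reflectionMatrix ⇑(down Q hσQ) u).map (AutPSL.fixF σ).subtype := by
  ext i j
  unfold Cfsg.reflectionMatrix Cfsg.polarVec
  simp only [Matrix.sub_apply, Matrix.smul_apply, Matrix.vecMulVec_apply, Matrix.map_apply,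
    smul_eq_mul, Matrix.one_apply]
  rw [← upV_single (σ := σ) j, ← down_polar Q hσQ, ← down_apply Q hσQ]
  simp only [Subfield.coe_subtype, Subfield.coe_sub, Subfield.coe_mul, Subfield.coe_inv]
  congr 1
  split_ifs <;> simp

theorem upGL_list (k : GL ι (AutPSL.fixF σ)) (us : List (ι → AutPSL.fixF σ))
    (hk : (k : Matrix ι ι (AutPSL.fixF σ)) =
      (us.map (fun u => Cfsg.reflectionMatrix ⇑(down Q hσQ) u)).prod) :
    ((upGL k : GL ι F) : Matrix ι ι F) =
      ((us.map (upV σ)).map (fun v => Cfsg.reflectionMatrix ⇑Q v)).prod := by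
  rw [upGL_val, hk]
  have h1 := map_list_prod (RingHom.mapMatrix (m := ι) ((AutPSL.fixF σ).subtype : _ →+* F))
    (us.map (fun u => Cfsg.reflectionMatrix ⇑(down Q hσQ) u))
  rw [RingHom.mapMatrix_apply] at h1
  rw [h1, List.map_map, List.map_map]
  congr 1
  apply List.map_congr_left
  intro u _
  simp only [Function.comp_apply, RingHom.mapMatrix_apply]
  rw [refl_up Q hσQ]

theorem upGL_mem_iso (k : GL ι (AutPSL.fixF σ)) (hk : k ∈ Cfsg.isometryGroup (AutPSL.fixF σ)
    ⇑(down Q hσQ)) : upGL k ∈ Cfsg.isometryGroup F ⇑Q := by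
  rw [Cfsg.Agent.Lib.H11.ConfOrth.mem_iso_iff] at hk ⊢
  have h1 : Q.comp (Matrix.toLin' (upGL (σ := σ) k).1) = Q := by
    apply qf_ext_of_upV (σ := σ)
    intro v
    rw [QuadraticMap.comp_apply, Matrix.toLin'_apply, upGL_mulVec, ← down_apply Q hσQ,
      ← down_apply Q hσQ, hk]
  intro v
  have := congrArg (fun R : QuadraticForm F (ι → F) => R v) h1
  simpa [QuadraticMap.comp_apply, Matrix.toLin'_apply] using this

theorem det_upGL (k : GL ι (AutPSL.fixF σ)) :
    (upGL k : GL ι F).1.det = ((k.1.det : AutPSL.fixF σ) : F) := by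
  rw [upGL_val]
  exact ((AutPSL.fixF σ).subtype.map_det k.1).symm

end reflup

end

section

open Matrix QuadraticMap Module
open Cfsg.Agent.Lib.H11.ConfOrth

section squares

variable {F : Type*} [Field F] [Fintype F] (σ : F ≃+* F)

theorem ringChar_ne_two_of {K : Type*} [Field K] (h2 : (2 : K) ≠ 0) : ringChar K ≠ 2 := by
  intro h
  apply h2
  have := CharP.cast_eq_zero K (ringChar K)
  rw [h] at this
  exact_mod_cast this

theorem card_odd_of_two_ne_zero (h2 : (2 : F) ≠ 0) : Odd (Fintype.card F) := by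
  by_contra h
  rw [Nat.not_odd_iff_even, Nat.even_iff, ← FiniteField.even_card_iff_char_two] at h
  exact ringChar_ne_two_of h2 h

/-- elements of the fixed field of an involutory automorphism are squares -/
theorem isSquare_coe_of_two (h2 : (2 : F) ≠ 0) (hσ : orderOf σ = 2) (x : AutPSL.fixF σ) :
    IsSquare (x : F) := by
  by_cases hx : x = 0
  · rw [hx]; exact ⟨0, by simp⟩
  haveI : Fintype (AutPSL.fixF σ) := Fintype.ofFinite _
  have hq := AutPSL.card_fixF σ (by norm_num) hσ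
  rw [Nat.card_eq_fintype_card] at hq
  set q₀ := Fintype.card (AutPSL.fixF σ) with hq₀
  have hodd : Odd (Fintype.card F) := card_odd_of_two_ne_zero h2
  have hq₀odd : Odd q₀ := by
    rw [← hq] at hodd
    exact (Nat.odd_pow_iff (by norm_num)).1 hodd
  have hx1 : (x : F) ^ (q₀ - 1) = 1 := by
    have := FiniteField.pow_card_sub_one_eq_one x hx
    have h3 := congrArg (fun y : AutPSL.fixF σ => (y : F)) this
    simpa using h3
  have hxF : (x : F) ≠ 0 := fun h => hx (Subtype.ext h)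
  rw [FiniteField.isSquare_iff (ringChar_ne_two_of h2) hxF, ← hq]
  obtain ⟨t, ht⟩ := hq₀odd
  have e1 : q₀ ^ 2 / 2 = (q₀ - 1) * (t + 1) := by
    rw [ht]
    have : (2 * t + 1) ^ 2 = 2 * (2 * t * (t + 1)) + 1 := by ring
    rw [this]
    have h5 : (2 * (2 * t * (t + 1)) + 1) / 2 = 2 * t * (t + 1) := by omega
    rw [h5]
    simp
  rw [e1, pow_mul, hx1, one_pow]

/-- a non-square of the fixed field of an automorphism of odd order stays a non-square -/
theorem exists_nonsquare_coe (h2 : (2 : F) ≠ 0) {r : ℕ} (hr : Odd r) (hσ : orderOf σ = r) :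
    ∃ x : AutPSL.fixF σ, x ≠ 0 ∧ ¬ IsSquare (x : F) := by
  haveI : Fintype (AutPSL.fixF σ) := Fintype.ofFinite _
  have hr0 : 0 < r := hr.pos
  have hq := AutPSL.card_fixF σ hr0 hσ
  rw [Nat.card_eq_fintype_card] at hq
  set q₀ := Fintype.card (AutPSL.fixF σ) with hq₀
  have hodd : Odd (Fintype.card F) := card_odd_of_two_ne_zero h2
  have hq₀odd : Odd q₀ := by
    rw [← hq] at hodd
    exact (Nat.odd_pow_iff (by omega)).1 hodd
  have h2' : (2 : AutPSL.fixF σ) ≠ 0 := by
    intro h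
    apply h2
    have := congrArg (fun y : AutPSL.fixF σ => (y : F)) h
    simp only [ZeroMemClass.coe_zero] at this
    rw [← this]
    norm_cast
  obtain ⟨x, hx⟩ := FiniteField.exists_nonsquare (ringChar_ne_two_of h2')
  have hx0 : x ≠ 0 := by
    rintro rfl
    exact hx ⟨0, by simp⟩
  refine ⟨x, hx0, ?_⟩
  have hxm : x ^ (q₀ / 2) = -1 := by
    rcases FiniteField.pow_dichotomy (ringChar_ne_two_of h2') hx0 with h | h
    · exact absurd ((FiniteField.isSquare_iff (ringChar_ne_two_of h2') hx0).2 h) hx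
    · exact h
  have hxmF : (x : F) ^ (q₀ / 2) = -1 := by
    have h3 := congrArg (fun y : AutPSL.fixF σ => (y : F)) hxm
    simpa using h3
  have hxF : (x : F) ≠ 0 := fun h => hx0 (Subtype.ext h)
  rw [FiniteField.isSquare_iff (ringChar_ne_two_of h2) hxF, ← hq]
  have hq₀2 : 2 ≤ q₀ := by
    have : 1 < Fintype.card (AutPSL.fixF σ) := Fintype.one_lt_card
    omega
  set S := ∑ i ∈ Finset.range r, q₀ ^ i with hS
  have hS1 : S * (q₀ - 1) = q₀ ^ r - 1 := by
    have := Nat.geomSum_eq hq₀2 r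
    rw [hS, this]
    exact Nat.div_mul_cancel (Nat.sub_one_dvd_pow_sub_one q₀ r)
  obtain ⟨t, ht⟩ := hq₀odd
  have e1 : q₀ ^ r / 2 = (q₀ / 2) * S := by
    have h5 : q₀ / 2 = t := by omega
    have h6 : q₀ - 1 = 2 * t := by omega
    rw [h5]
    rw [h6] at hS1
    have hpos : 0 < q₀ ^ r := pow_pos (by omega) r
    have : q₀ ^ r = 2 * (t * S) + 1 := by
      have : S * (2 * t) = 2 * (t * S) := by ring
      omega
    rw [this]
    omega
  rw [e1, pow_mul, hxmF]
  have hSodd : Odd S := by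
    rw [Nat.odd_iff, hS, AutPSp.geom_parity_odd q₀ r ⟨t, ht⟩]
    exact Nat.odd_iff.1 hr
  rw [hSodd.neg_one_pow]
  intro h
  apply h2
  linear_combination -h

end squares

end

section

open Matrix QuadraticMap Module
open Cfsg.Agent.Lib.H11.ConfOrth
open Cfsg.Agent.Lib.H13.HypPairs

section omegaup

variable {F : Type*} [Field F] [Fintype F] {ι : Type} [Fintype ι] [DecidableEq ι]
variable {σ : F ≃+* F} (Q : QuadraticForm F (ι → F)) (hσQ : SigEq σ Q)
variable (hQ : (polarBilin Q).Nondegenerate) (h2 : (2 : F) ≠ 0)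

omit [Fintype F] [Fintype ι] [DecidableEq ι] in
theorem two_ne_zero_fix (h2 : (2 : F) ≠ 0) : (2 : AutPSL.fixF σ) ≠ 0 := by
  intro h
  apply h2
  have := congrArg (fun y : AutPSL.fixF σ => (y : F)) h
  simp only [ZeroMemClass.coe_zero] at this
  rw [← this]
  norm_cast

omit [Fintype F] [DecidableEq ι] in
theorem list_prod_up (us : List (ι → AutPSL.fixF σ)) :
    ((us.map (upV σ)).map (fun v => Q v)).prod =
      (((us.map (fun u => down Q hσQ u)).prod : AutPSL.fixF σ) : F) := by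
  induction us with
  | nil => simp
  | cons u us ih =>
    simp only [List.map_cons, List.prod_cons, Subfield.coe_mul]
    rw [← ih]
    rfl

include hQ h2 in
/-- if the elements of the fixed field are squares, `SO` over the fixed field lies in `Ω` -/
theorem upGL_mem_omega_of_sq (hcard : 2 ≤ Fintype.card ι)
    (hsq : ∀ x : AutPSL.fixF σ, IsSquare (x : F)) (k : GL ι (AutPSL.fixF σ))
    (hk : k ∈ Cfsg.specialIsometryGL (AutPSL.fixF σ) ⇑(down Q hσQ)) :
    upGL k ∈ Cfsg.Geo.omegaGL ⇑Q := by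
  haveI : Fintype (AutPSL.fixF σ) := Fintype.ofFinite _
  have h2' := two_ne_zero_fix (σ := σ) h2
  have hkO := ((mem_sO_iff (down Q hσQ) k).1 hk).1
  obtain ⟨us, hus, hrep⟩ := exists_refl_list (down Q hσQ) (down_nondeg Q hσQ hQ) h2' k hkO
  have heven := (sO_iff_even (down Q hσQ) h2' k hkO us hus hrep).1 hk
  have hrepF := upGL_list Q hσQ k us hrep
  have hvs : ∀ v ∈ us.map (upV σ), Q v ≠ 0 := by
    intro v hv
    obtain ⟨u, hu, rfl⟩ := List.mem_map.1 hv
    intro h
    apply hus u hu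
    apply Subtype.ext
    rw [down_apply, h]
    rfl
  rw [omegaGL_iff_list Q hQ h2 hcard (upGL k) (upGL_mem_iso Q hσQ k hkO) _ hvs hrepF]
  refine ⟨by rw [List.length_map]; exact heven, ?_⟩
  rw [list_prod_up Q hσQ]
  exact hsq _

include hQ h2 in
/-- if some element of the fixed field is a non-square, `SO` over the fixed field does not lie
in `Ω` -/
theorem exists_so_not_omega (hcard : 3 ≤ Fintype.card ι)
    (hns : ∃ x : AutPSL.fixF σ, x ≠ 0 ∧ ¬ IsSquare (x : F)) :
    ∃ k : GL ι (AutPSL.fixF σ), k ∈ Cfsg.specialIsometryGL (AutPSL.fixF σ) ⇑(down Q hσQ) ∧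
      upGL k ∉ Cfsg.Geo.omegaGL ⇑Q := by
  haveI : Fintype (AutPSL.fixF σ) := Fintype.ofFinite _
  have h2' := two_ne_zero_fix (σ := σ) h2
  obtain ⟨x, hx0, hx⟩ := hns
  have hnd := down_nondeg Q hσQ hQ
  have hfr : 3 ≤ finrank (AutPSL.fixF σ) (ι → AutPSL.fixF σ) := by
    rw [Module.finrank_fintype_fun_eq_card]; exact hcard
  obtain ⟨e, he0, he⟩ := Cfsg.Agent.Lib.H13.exists_singular_of_three_le (down Q hσQ) hfr
  obtain ⟨f, hf, hef⟩ := Cfsg.Agent.Lib.H13.exists_hyperbolic_pair (down Q hσQ) hnd e he0 he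
  have hQt : ∀ t : AutPSL.fixF σ, down Q hσQ (e + t • f) = t := by
    intro t
    have h1 : down Q hσQ (e + t • f) = down Q hσQ e + down Q hσQ (t • f) +
        QuadraticMap.polar (⇑(down Q hσQ)) e (t • f) := by
      unfold QuadraticMap.polar; ring
    rw [h1, QuadraticMap.map_smul, he, hf, QuadraticMap.polar_smul_right, hef]
    simp
  set u := e + (1 : AutPSL.fixF σ) • f with hu
  set v := e + x • f with hv
  have hQu : down Q hσQ u = 1 := hQt 1
  have hQv : down Q hσQ v = x := hQt x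
  have hu0 : down Q hσQ u ≠ 0 := by rw [hQu]; exact one_ne_zero
  have hv0 : down Q hσQ v ≠ 0 := by rw [hQv]; exact hx0
  set k : ↥(Cfsg.isometryGroup (AutPSL.fixF σ) ⇑(down Q hσQ)) :=
    reflG (down Q hσQ) u hu0 * reflG (down Q hσQ) v hv0 with hk
  have hrep : ((k.1 : GL ι (AutPSL.fixF σ)) : Matrix ι ι (AutPSL.fixF σ)) =
      ([u, v].map (fun w => Cfsg.reflectionMatrix ⇑(down Q hσQ) w)).prod := by
    rw [hk, Subgroup.coe_mul, Units.val_mul, reflG_val, reflG_val]
    simp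
  have hus : ∀ w ∈ [u, v], down Q hσQ w ≠ 0 := by
    intro w hw
    simp only [List.mem_cons, List.not_mem_nil, or_false] at hw
    rcases hw with rfl | rfl
    · exact hu0
    · exact hv0
  refine ⟨k.1, ?_, ?_⟩
  · rw [sO_iff_even (down Q hσQ) h2' k.1 k.2 [u, v] hus hrep]
    exact ⟨1, rfl⟩
  · have hrepF := upGL_list Q hσQ k.1 [u, v] hrep
    have hvs : ∀ w ∈ [u, v].map (upV σ), Q w ≠ 0 := by
      intro w hw
      obtain ⟨w', hw', rfl⟩ := List.mem_map.1 hw
      intro h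
      apply hus w' hw'
      apply Subtype.ext
      rw [down_apply, h]
      rfl
    rw [omegaGL_iff_list Q hQ h2 (by omega) (upGL k.1) (upGL_mem_iso Q hσQ k.1 k.2) _ hvs hrepF]
    rintro ⟨-, hsq⟩
    rw [list_prod_up Q hσQ] at hsq
    apply hx
    simpa [hQu, hQv] using hsq

end omegaup

end

section

open Matrix QuadraticMap Module
open Cfsg.Agent.Lib.H11.ConfOrth
open Cfsg.Agent.Lib.H13.HypPairs

section oddsplit

variable {F : Type*} [Field F] [Fintype F] {ι : Type} [Fintype ι] [DecidableEq ι]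
variable {σ : F ≃+* F} (Q : QuadraticForm F (ι → F)) (hσQ : SigEq σ Q)
variable (hQ : (polarBilin Q).Nondegenerate) (h2 : (2 : F) ≠ 0) (hcard : 7 ≤ Fintype.card ι)
variable (hodd : Odd (Fintype.card ι))

omit [Fintype F] in
include hQ hcard hodd in
/-- in odd dimension every isometry is `±` a special isometry -/
theorem iso_eq_sign_mul_so (s : GL ι F) (hs : s ∈ Cfsg.isometryGroup F ⇑Q) :
    ∃ ε : Fˣ, Matrix.GeneralLinearGroup.scalar ι ε * s ∈ Cfsg.specialIsometryGL F ⇑Q := by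
  have hne := exists_neO Q hQ hcard
  have hd := det_sq Q hQ hne ⟨s, iso_le_sim ⇑Q hs⟩
  have hm : mult (⇑Q) hne ⟨s, iso_le_sim ⇑Q hs⟩ = 1 := (mult_eq_one_iff (⇑Q) hne _).2 hs
  rw [hm, Units.val_one, one_pow] at hd
  have hd' : s.1.det = 1 ∨ s.1.det = -1 := by
    have : (s.1.det - 1) * (s.1.det + 1) = 0 := by linear_combination hd
    rcases mul_eq_zero.1 this with h | h
    · left; linear_combination h
    · right; linear_combination h
  rcases hd' with h | h
  · refine ⟨1, ?_⟩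
    rw [map_one, one_mul, mem_sO_iff]
    exact ⟨hs, h⟩
  · refine ⟨-1, ?_⟩
    rw [mem_sO_iff]
    constructor
    · apply mul_mem _ hs
      rw [Cfsg.Agent.Lib.H11.ConfOrth.mem_iso_iff]
      intro x
      rw [scalar_mulVec, hhom]
      simp
    · rw [Units.val_mul, Matrix.det_mul, h, Matrix.GeneralLinearGroup.coe_scalar,
        Matrix.scalar_apply, Matrix.det_diagonal, Finset.prod_const, Finset.card_univ,
        Units.val_neg, Units.val_one, hodd.neg_one_pow]
      ring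

include hQ h2 hcard hodd in
theorem range_up_le_inn (hsq : ∀ x : AutPSL.fixF σ, IsSquare (x : F)) :
    ((Phi ⇑Q).comp (upSim Q hσQ)).range ≤ Cfsg.Inn (Cfsg.POmega F ⇑Q) := by
  have hker := ker_Phi_gen Q hQ h2 hcard
  rintro _ ⟨k, rfl⟩
  obtain ⟨c₀, s, hs, hks⟩ := sim_eq_scalar_mul (down Q hσQ) (down_nondeg Q hσQ hQ) hcard hodd k
  obtain ⟨ε, hε⟩ := iso_eq_sign_mul_so (down Q hσQ) (down_nondeg Q hσQ hQ) hcard hodd s hs
  have hω := upGL_mem_omega_of_sq Q hσQ hQ h2 (by omega) hsq _ hε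
  rw [MonoidHom.comp_apply, inn_eq]
  have := (mem_comap_map Q hker (Cfsg.Geo.omegaGL ⇑Q) (upSim Q hσQ k)).2
    ⟨Units.map (AutPSL.fixF σ).subtype.toMonoidHom (c₀ * ε⁻¹), _, hω, by
      rw [upSim_val, ← upGL_scalar, ← upGL_mul, hks, map_mul, mul_assoc,
        ← mul_assoc (Matrix.GeneralLinearGroup.scalar ι ε⁻¹), ← map_mul, inv_mul_cancel,
        map_one, one_mul]⟩
  exact this

include hQ h2 hcard hodd in
theorem range_up_not_le_inn (hns : ∃ x : AutPSL.fixF σ, x ≠ 0 ∧ ¬ IsSquare (x : F)) :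
    ¬ ((Phi ⇑Q).comp (upSim Q hσQ)).range ≤ Cfsg.Inn (Cfsg.POmega F ⇑Q) := by
  have hker := ker_Phi_gen Q hQ h2 hcard
  have hne := exists_neO Q hQ hcard
  intro hle
  obtain ⟨k, hk, hkω⟩ := exists_so_not_omega Q hσQ hQ h2 (by omega) hns
  have hkO := ((mem_sO_iff (down Q hσQ) k).1 hk).1
  have hkdet := ((mem_sO_iff (down Q hσQ) k).1 hk).2
  have hkS : k ∈ Sim ⇑(down Q hσQ) := iso_le_sim _ hkO
  have h1 := hle ⟨⟨k, hkS⟩, rfl⟩
  rw [MonoidHom.comp_apply, inn_eq] at h1
  have h3 : upSim Q hσQ ⟨k, hkS⟩ ∈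
      (((Cfsg.Geo.omegaGL ⇑Q).subgroupOf (Sim ⇑Q)).map (Phi ⇑Q)).comap (Phi ⇑Q) := h1
  rw [mem_comap_map Q hker] at h3
  obtain ⟨c, ω, hω, hkc⟩ := h3
  rw [upSim_val] at hkc
  have hωso := omegaGL_le_sO Q hQ h2 (by omega) hω
  have hkso : upGL k ∈ Cfsg.specialIsometryGL F ⇑Q := by
    rw [mem_sO_iff]
    refine ⟨upGL_mem_iso Q hσQ k hkO, ?_⟩
    rw [det_upGL, hkdet]
    rfl
  have hcso : Matrix.GeneralLinearGroup.scalar ι c ∈ Cfsg.specialIsometryGL F ⇑Q := by
    have : Matrix.GeneralLinearGroup.scalar ι c = upGL k * ω⁻¹ := by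
      rw [hkc, mul_inv_cancel_right]
    rw [this]
    exact mul_mem hkso (inv_mem hωso)
  rw [mem_sO_iff, Cfsg.Agent.Lib.H11.ConfOrth.mem_iso_iff] at hcso
  obtain ⟨hc1, hc2⟩ := hcso
  have hcsq : (c : F) ^ 2 = 1 := by
    obtain ⟨v, hv⟩ := hne
    have := hc1 v
    rw [scalar_mulVec, hhom] at this
    have h5 : ((c : F) ^ 2 - 1) * Q v = 0 := by linear_combination this
    rcases mul_eq_zero.1 h5 with h | h
    · linear_combination h
    · exact absurd h hv
  have hc1' : (c : F) = 1 := by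
    rw [Matrix.GeneralLinearGroup.coe_scalar, Matrix.scalar_apply, Matrix.det_diagonal,
      Finset.prod_const, Finset.card_univ] at hc2
    obtain ⟨m, hm⟩ := hodd
    rw [hm, pow_succ, pow_mul, hcsq, one_pow, one_mul] at hc2
    exact hc2
  apply hkω
  have : c = 1 := Units.ext hc1'
  rw [hkc, this, map_one, one_mul]
  exact hω

end oddsplit

end

section

open Matrix QuadraticMap Module
open Cfsg.Agent.Lib.H11.ConfOrth
open Cfsg.Agent.Lib.H13.HypPairs

section generic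

variable {A : Type*} [Group A]

theorem relIndex_mul_card_of_le (I D : Subgroup A) (h : I ≤ D) :
    I.relIndex D * Nat.card ↥I = Nat.card ↥D := by
  unfold Subgroup.relIndex
  rw [← Subgroup.card_mul_index (I.subgroupOf D), mul_comm]
  congr 1
  exact (Nat.card_congr (Subgroup.subgroupOfEquivOfLe h).toEquiv).symm

/-- conjugating the data of a split class count -/
theorem relIndex_conj (I D : Subgroup A) [I.Normal] [D.Normal] (x α : A) :
    (I ⊔ (D ⊓ Subgroup.centralizer {x})).relIndex D =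
      (I ⊔ (D ⊓ Subgroup.centralizer {α * x * α⁻¹})).relIndex D := by
  have hinj : Function.Injective (MulAut.conj α).toMonoidHom := (MulAut.conj α).injective
  rw [← Subgroup.relIndex_map_map_of_injective _ _ hinj, Subgroup.map_sup,
    Subgroup.map_inf _ _ _ hinj, map_conj_normal', map_conj_normal', map_centralizer_conj']

theorem relIndex_sup_of_le (I J D : Subgroup A) (hJI : J ≤ I) : (I ⊔ J).relIndex D = I.relIndex D := by
  rw [sup_of_le_left hJI]

theorem relIndex_sup_of_not_le (I J D : Subgroup A) (hID : I ≤ D) (hJD : J ≤ D)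
    (hJI : ¬ J ≤ I) (h2 : I.relIndex D = 2) : (I ⊔ J).relIndex D = 1 := by
  have h1 := Subgroup.relIndex_mul_relIndex I (I ⊔ J) D le_sup_left (sup_le hID hJD)
  rw [h2] at h1
  have h3 : I.relIndex (I ⊔ J) ≠ 1 := by
    rw [Ne, Subgroup.relIndex_eq_one]
    intro h
    exact hJI (le_trans le_sup_right h)
  have h4 : I.relIndex (I ⊔ J) ∣ 2 := Dvd.intro _ h1
  rcases (Nat.dvd_prime Nat.prime_two).1 h4 with h | h
  · exact absurd h h3
  · rw [h] at h1
    omega

end generic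

section oddfinal

variable {F : Type*} [Field F] [Fintype F] {ι : Type} [Fintype ι] [DecidableEq ι]
variable (Q : QuadraticForm F (ι → F))
variable (hQ : (polarBilin Q).Nondegenerate) (h2 : (2 : F) ≠ 0) (hcard : 7 ≤ Fintype.card ι)
variable (hodd : Odd (Fintype.card ι)) (hall : Cfsg.gammaPOmega F ⇑Q = ⊤)

include hQ h2 hcard in
theorem inn_le_range_Phi : Cfsg.Inn (Cfsg.POmega F ⇑Q) ≤ (Phi ⇑Q).range := by
  rw [inn_eq]
  rintro _ ⟨g, -, rfl⟩
  exact ⟨g, rfl⟩

include hQ h2 hcard hodd in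
theorem relIndex_inn_odd : (Cfsg.Inn (Cfsg.POmega F ⇑Q)).relIndex (Phi ⇑Q).range = 2 := by
  have h1 := relIndex_mul_card_of_le _ _ (inn_le_range_Phi Q hQ h2 hcard)
  have hZ : Subgroup.center (Cfsg.POmega F ⇑Q) = ⊥ :=
    center_quot_eq_bot (Cfsg.Agent.Lib.H11.OmegaGen.center_omega_eq_bot_of_odd Q hQ h2 hcard hodd)
  rw [card_inn_eq hZ, card_Phi_range Q hQ h2 hcard hodd] at h1
  have hpos : 0 < Nat.card (Cfsg.POmega F ⇑Q) := Nat.card_pos
  exact Nat.eq_of_mul_eq_mul_right hpos h1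

include hQ h2 hcard hodd hall in
/-- the number of `PΩ`-classes in the `PGO`-class of a field automorphism, odd dimension -/
theorem split_odd_gen (hσall : ∀ σ : F ≃+* F, SigEq σ Q) (x α : MulAut (Cfsg.POmega F ⇑Q))
    (σ : F ≃+* F) {r : ℕ} (hr : r.Prime) (hσ : orderOf σ = r)
    (hx₀ : α * x * α⁻¹ = stdAut Q σ (hσall σ)) :
    Cfsg.splitClassCount (Phi ⇑Q).range (Cfsg.Inn (Cfsg.POmega F ⇑Q)) x =
      if r = 2 then 2 else 1 := by
  haveI := range_Phi_normal Q hQ h2 hcard hall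
  have hID := inn_le_range_Phi Q hQ h2 hcard
  have hker := ker_Phi_gen Q hQ h2 hcard
  have hne := exists_neO Q hQ hcard
  rw [AutPSL.splitClassCount_eq _ _ hID x, relIndex_conj _ _ x α, hx₀,
    centralizer_stdAut Q (hσall σ) hker hne hr.pos hσ]
  have hJD : ((Phi ⇑Q).comp (upSim Q (hσall σ))).range ≤ (Phi ⇑Q).range := by
    rintro _ ⟨k, rfl⟩
    exact ⟨_, rfl⟩
  split_ifs with h
  · subst h
    rw [relIndex_sup_of_le _ _ _ (range_up_le_inn Q (hσall σ) hQ h2 hcard hodd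
      (isSquare_coe_of_two σ h2 hσ)), relIndex_inn_odd Q hQ h2 hcard hodd]
  · have hrodd : Odd r := hr.odd_of_ne_two h
    exact relIndex_sup_of_not_le _ _ _ hID hJD
      (range_up_not_le_inn Q (hσall σ) hQ h2 hcard hodd (exists_nonsquare_coe σ h2 hrodd hσ))
      (relIndex_inn_odd Q hQ h2 hcard hodd)

end oddfinal

end

section

open Matrix QuadraticMap Module
open Cfsg.Agent.Lib.H11.ConfOrth
open Cfsg.Agent.Lib.H13.HypPairs

section oddmain

theorem quadFormOdd_map {K₁ K₂ : Type*} [Field K₁] [Field K₂] (m : ℕ) (φ : K₁ →+* K₂)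
    (v : Unit ⊕ (Fin m ⊕ Fin m) → K₁) :
    Cfsg.quadFormOdd m K₂ (fun i => φ (v i)) = φ (Cfsg.quadFormOdd m K₁ v) := by
  unfold Cfsg.quadFormOdd
  simp only [map_add, map_pow, map_sum, map_mul]

variable {F : Type*} [Field F] [Fintype F]

theorem s2714 {p f : ℕ} [Fact p.Prime] (hF : Fintype.card F = p ^ f) (hf : 1 ≤ f)
    (hodd : Odd (Fintype.card F)) {m : ℕ} (hm : 3 ≤ m)
    (x : MulAut (Cfsg.POmega F (Cfsg.quadFormOdd m F)))
    (hx : Cfsg.IsFieldAutClassPOmega (Cfsg.quadFormOdd m F) x) {r : ℕ} (hr : r.Prime)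
    (hxr : orderOf x = r) (F₀ : Type*) [Field F₀] [Fintype F₀]
    (hF₀ : Fintype.card F₀ = p ^ (f / r)) :
    r ∣ f ∧ Nonempty (↥(Cfsg.inndiagPOmegaOdd m F ⊓ Subgroup.centralizer {x}) ≃*
        ↥(Cfsg.inndiagPOmegaOdd m F₀)) ∧
      (Odd r → Cfsg.splitClassCount (Cfsg.inndiagPOmegaOdd m F)
        (Cfsg.Inn (Cfsg.POmega F (Cfsg.quadFormOdd m F))) x = 1) ∧
      (r = 2 → Cfsg.splitClassCount (Cfsg.inndiagPOmegaOdd m F)
        (Cfsg.Inn (Cfsg.POmega F (Cfsg.quadFormOdd m F))) x = 2) := by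
  have := charP_of_card hF
  have h2 := two_ne_zero_of_odd hodd
  have hQ := Cfsg.Agent.S0286.nondeg (F := F) h2 m
  have hcard : Fintype.card (Unit ⊕ (Fin m ⊕ Fin m)) = 2 * m + 1 := by
    simp; ring
  have hc7 : 7 ≤ Fintype.card (Unit ⊕ (Fin m ⊕ Fin m)) := by rw [hcard]; omega
  have hoddn : Odd (Fintype.card (Unit ⊕ (Fin m ⊕ Fin m))) := by rw [hcard]; exact ⟨m, rfl⟩
  have hall : Cfsg.gammaPOmega F ⇑(Cfsg.Agent.S0286.oddQF F m) = ⊤ := by
    apply gamma_eq_top _ hQ hc7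
    by_cases h4 : 4 ≤ m
    · left
      show 9 ≤ Fintype.card (Unit ⊕ (Fin m ⊕ Fin m))
      rw [hcard]; omega
    · apply noTriality_of_card_le _ hQ
      show Fintype.card (Unit ⊕ (Fin m ⊕ Fin m)) ≤ 7
      rw [hcard]; omega
  -- the field `F₀`
  have hpodd : Odd p := by
    rw [hF] at hodd
    exact (Nat.odd_pow_iff (by omega)).1 hodd
  have hoddF₀ : Odd (Fintype.card F₀) := by rw [hF₀]; exact hpodd.pow
  have h2₀ := two_ne_zero_of_odd hoddF₀
  have hQ₀ := Cfsg.Agent.S0286.nondeg (F := F₀) h2₀ m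
  have hker₂ := ker_Phi_gen (Cfsg.Agent.S0286.oddQF F₀ m) hQ₀ h2₀ hc7
  rw [Cfsg.Agent.S0286.coe_oddQF] at hker₂
  have hD : Cfsg.inndiagPOmegaOdd m F = (Phi (Cfsg.quadFormOdd m F)).range :=
    pgoAut_eq (Cfsg.quadFormOdd m F)
  have hD₀ : Cfsg.inndiagPOmegaOdd m F₀ = (Phi (Cfsg.quadFormOdd m F₀)).range :=
    pgoAut_eq (Cfsg.quadFormOdd m F₀)
  rw [hD, hD₀]
  -- the general statements
  have key : ∀ (x : MulAut (Cfsg.POmega F ⇑(Cfsg.Agent.S0286.oddQF F m))),
      Cfsg.IsFieldAutClassPOmega ⇑(Cfsg.Agent.S0286.oddQF F m) x → orderOf x = r →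
      r ∣ f ∧ Nonempty (↥((Phi ⇑(Cfsg.Agent.S0286.oddQF F m)).range ⊓ Subgroup.centralizer {x}) ≃*
        ↥(Phi (Cfsg.quadFormOdd m F₀)).range) ∧
      Cfsg.splitClassCount (Phi ⇑(Cfsg.Agent.S0286.oddQF F m)).range
        (Cfsg.Inn (Cfsg.POmega F ⇑(Cfsg.Agent.S0286.oddQF F m))) x = if r = 2 then 2 else 1 := by
    intro x hx hxr
    obtain ⟨α, φ, σ, hσ1, hφ, hx₀⟩ := hx
    rw [eq_stdAut_of_isField _ σ (sigEq_odd m σ) φ hφ] at hx₀
    have hσr : orderOf σ = r := by
      rw [← orderOf_stdAut _ hQ h2 hc7 hall (sigEq_odd m) σ, ← hx₀, AutPSL.orderOf_conj', hxr]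
    have hd : r ∣ f := by
      rw [← hσr, ← AutPSL.card_ringAut p hF]
      exact orderOf_dvd_natCard σ
    refine ⟨hd, ?_, ?_⟩
    · haveI : Fintype (AutPSL.fixF σ) := Fintype.ofFinite _
      have hcardF₁ := AutPSL.card_fixF' σ hr.pos hσr hF
      have hce : Fintype.card (AutPSL.fixF σ) = Fintype.card F₀ := by
        rw [← Nat.card_eq_fintype_card, hcardF₁, hF₀]
      haveI : Nonempty (Unit ⊕ (Fin m ⊕ Fin m)) := ⟨Sum.inl ()⟩
      refine centralizer_equiv_gen _ (sigEq_odd m σ) (ker_Phi_gen _ hQ h2 hc7)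
        (exists_neO _ hQ hc7) hr.pos hσr (range_Phi_normal _ hQ h2 hc7 hall) x α hx₀
        (Cfsg.quadFormOdd m F₀) (FiniteField.ringEquivOfCardEq hce) ?_ hker₂
      intro v
      have h1 : Cfsg.quadFormOdd m F₀ (fun i => (FiniteField.ringEquivOfCardEq hce) (v i)) =
          (FiniteField.ringEquivOfCardEq hce) (Cfsg.quadFormOdd m (AutPSL.fixF σ) v) :=
        quadFormOdd_map m ((FiniteField.ringEquivOfCardEq hce : AutPSL.fixF σ ≃+* F₀) :
          AutPSL.fixF σ →+* F₀) v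
      rw [h1]
      congr 1
      apply Subtype.ext
      rw [down_apply, Cfsg.Agent.S0286.oddQF_apply]
      exact (quadFormOdd_map m (AutPSL.fixF σ).subtype v).symm
    · exact split_odd_gen _ hQ h2 hc7 hoddn hall (sigEq_odd m) x α σ hr hσr hx₀
  rw [Cfsg.Agent.S0286.coe_oddQF] at key
  obtain ⟨k1, k2, k3⟩ := key x hx hxr
  refine ⟨k1, k2, ?_, ?_⟩
  · intro hro
    rw [k3, if_neg]
    rintro rfl
    exact absurd hro (by decide)
  · intro h
    rw [k3, if_pos h]

end oddmain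

end

end Cfsg.Agent.Lib.H13.AutPO
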