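import Mathlib
import Cfsg.Prelude.Def_Classical

set_option autoImplicit false

namespace Cfsg.Agent.Lib.H13

open Matrix

/-- The Gram determinant of a polar form in an arbitrary basis differs from the one in the
standard basis by a nonzero square. -/
theorem gram_det_basis {F : Type*} [Field F] {κ ι : Type*} [Fintype κ] [DecidableEq κ] [Fintype ι] [DecidableEq ι]
    (Qf : (κ → F) → F) (B₀ : LinearMap.BilinForm F (κ → F))
    (hpol : ∀ u v, QuadraticMap.polar Qf u v = B₀ u v)
    (b : Module.Basis ι F (κ → F)) :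
    ∃ d : F, d ≠ 0 ∧ (Matrix.of (fun i j : ι => QuadraticMap.polar Qf (b i) (b j))).det =
      d * d * (LinearMap.BilinForm.toMatrix' B₀).det := by
  classical
  let e : ι ≃ κ := b.indexEquiv (Pi.basisFun F κ)
  let b' : Module.Basis κ F (κ → F) := b.reindex e
  have hMb : Matrix.of (fun i j : ι => QuadraticMap.polar Qf (b i) (b j)) = LinearMap.BilinForm.toMatrix b B₀ := by
    ext i j
    simp [hpol, LinearMap.BilinForm.toMatrix_apply]
  have hsub : LinearMap.BilinForm.toMatrix b' B₀ = (LinearMap.BilinForm.toMatrix b B₀).submatrix e.symm e.symm := by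
    ext i j
    simp [LinearMap.BilinForm.toMatrix_apply, b', Module.Basis.reindex_apply]
  have hdet1 : (LinearMap.BilinForm.toMatrix b' B₀).det = (LinearMap.BilinForm.toMatrix b B₀).det := by
    rw [hsub, Matrix.det_submatrix_equiv_self]
  have hchg := LinearMap.BilinForm.toMatrix_mul_basis_toMatrix (b := Pi.basisFun F κ) b' B₀
  have hstd : LinearMap.BilinForm.toMatrix (Pi.basisFun F κ) B₀ = LinearMap.BilinForm.toMatrix' B₀ := by
    rw [LinearMap.BilinForm.toMatrix_basisFun]
  rw [hstd] at hchg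
  set P := (Pi.basisFun F κ).toMatrix b' with hP
  have hPinv : P * b'.toMatrix (Pi.basisFun F κ) = 1 := Module.Basis.toMatrix_mul_toMatrix_flip _ _
  have hPdet : P.det ≠ 0 := by
    intro h0
    have := congrArg Matrix.det hPinv
    rw [Matrix.det_mul, h0, zero_mul, Matrix.det_one] at this
    exact zero_ne_one this
  refine ⟨P.det, hPdet, ?_⟩
  rw [hMb, ← hdet1, ← hchg, Matrix.det_mul, Matrix.det_mul, Matrix.det_transpose]
  ring

theorem isSquare_sq_mul_iff {F : Type*} [Field F] (d x : F) (hd : d ≠ 0) :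
    IsSquare (d * d * x) ↔ IsSquare x := by
  constructor
  · rintro ⟨s, hs⟩
    refine ⟨s / d, ?_⟩
    field_simp
    have : s ^ 2 = d * d * x := by rw [hs]; ring
    rw [this]; ring
  · rintro ⟨s, hs⟩
    exact ⟨d * s, by rw [hs]; ring⟩

/-- determinant of the hyperbolic Gram matrix -/
theorem det_hyp {F : Type*} [Field F] (m : ℕ) :
    (Matrix.fromBlocks (0 : Matrix (Fin m) (Fin m) F) (1 : Matrix (Fin m) (Fin m) F)
      (1 : Matrix (Fin m) (Fin m) F) (0 : Matrix (Fin m) (Fin m) F)).det = (-1) ^ m := by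
  have h1 : (Matrix.fromBlocks (0 : Matrix (Fin m) (Fin m) F) (1 : Matrix (Fin m) (Fin m) F)
      (1 : Matrix (Fin m) (Fin m) F) (0 : Matrix (Fin m) (Fin m) F)) *
      (Matrix.fromBlocks (1 : Matrix (Fin m) (Fin m) F) (0 : Matrix (Fin m) (Fin m) F)
      (1 : Matrix (Fin m) (Fin m) F) (1 : Matrix (Fin m) (Fin m) F))
      = Matrix.fromBlocks (1 : Matrix (Fin m) (Fin m) F) (1 : Matrix (Fin m) (Fin m) F)
      (1 : Matrix (Fin m) (Fin m) F) (0 : Matrix (Fin m) (Fin m) F) := by
    rw [Matrix.fromBlocks_multiply]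
    simp
  have h2 : (Matrix.fromBlocks (1 : Matrix (Fin m) (Fin m) F) (0 : Matrix (Fin m) (Fin m) F)
      (1 : Matrix (Fin m) (Fin m) F) (1 : Matrix (Fin m) (Fin m) F)).det = 1 := by
    rw [Matrix.det_fromBlocks_zero₁₂]; simp
  have h3 : (Matrix.fromBlocks (1 : Matrix (Fin m) (Fin m) F) (1 : Matrix (Fin m) (Fin m) F)
      (1 : Matrix (Fin m) (Fin m) F) (0 : Matrix (Fin m) (Fin m) F)).det = (-1) ^ m := by
    rw [Matrix.det_fromBlocks_one₁₁]
    simp [Matrix.det_neg]
  have := congrArg Matrix.det h1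
  rw [Matrix.det_mul, h2, mul_one, h3] at this
  exact this

/-- Gram matrix of the plus form -/
def gramPlus (m : ℕ) (F : Type*) [Field F] : Matrix (Fin m ⊕ Fin m) (Fin m ⊕ Fin m) F :=
  Matrix.fromBlocks 0 1 1 0

theorem polar_quadFormPlus {F : Type*} [Field F] (m : ℕ) (u v : Fin m ⊕ Fin m → F) :
    QuadraticMap.polar (Cfsg.quadFormPlus m F) u v = Matrix.toBilin' (gramPlus m F) u v := by
  rw [Matrix.toBilin'_apply', gramPlus, Matrix.fromBlocks_mulVec]
  simp only [QuadraticMap.polar, Cfsg.quadFormPlus, Matrix.zero_mulVec, Matrix.one_mulVec, zero_add, add_zero,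
    dotProduct, Fintype.sum_sum_type, Sum.elim_inl, Sum.elim_inr, Function.comp_apply, Pi.add_apply]
  rw [← Finset.sum_sub_distrib, ← Finset.sum_sub_distrib, ← Finset.sum_add_distrib]
  apply Finset.sum_congr rfl
  intro i _
  ring

/-- Gram matrix of the minus form -/
def gramMinus (m : ℕ) (F : Type*) [Field F] (a c : F) :
    Matrix ((Fin m ⊕ Fin m) ⊕ Fin 2) ((Fin m ⊕ Fin m) ⊕ Fin 2) F :=
  Matrix.fromBlocks (gramPlus m F) 0 0 !![2, a; a, 2 * c]

theorem polar_quadFormMinus {F : Type*} [Field F] (m : ℕ) (a c : F) (u v : (Fin m ⊕ Fin m) ⊕ Fin 2 → F) :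
    QuadraticMap.polar (Cfsg.quadFormMinus m F a c) u v = Matrix.toBilin' (gramMinus m F a c) u v := by
  rw [Matrix.toBilin'_apply', gramMinus, gramPlus, Matrix.fromBlocks_mulVec, Matrix.fromBlocks_mulVec]
  simp only [QuadraticMap.polar, Cfsg.quadFormMinus, Matrix.zero_mulVec, Matrix.one_mulVec, zero_add, add_zero,
    dotProduct, Fintype.sum_sum_type, Sum.elim_inl, Sum.elim_inr, Function.comp_apply, Pi.add_apply,
    Fin.sum_univ_two, Matrix.mulVec, Matrix.of_apply, Matrix.cons_val', Matrix.cons_val_zero, Matrix.cons_val_one,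
    Matrix.empty_val', Matrix.cons_val_fin_one]
  have hsum : ∑ x, (u (Sum.inl (Sum.inl x)) + v (Sum.inl (Sum.inl x))) * (u (Sum.inl (Sum.inr x)) + v (Sum.inl (Sum.inr x)))
      = ∑ i, u (Sum.inl (Sum.inl i)) * u (Sum.inl (Sum.inr i)) + ∑ i, v (Sum.inl (Sum.inl i)) * v (Sum.inl (Sum.inr i))
        + ∑ a₁, u (Sum.inl (Sum.inl a₁)) * v (Sum.inl (Sum.inr a₁)) + ∑ a₂, u (Sum.inl (Sum.inr a₂)) * v (Sum.inl (Sum.inl a₂)) := by
    rw [← Finset.sum_add_distrib, ← Finset.sum_add_distrib, ← Finset.sum_add_distrib]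
    apply Finset.sum_congr rfl
    intro i _
    ring
  rw [hsum]
  ring

theorem toMatrix'_toBilin'_det {F : Type*} [Field F] {κ : Type*} [Fintype κ] [DecidableEq κ] (G : Matrix κ κ F) :
    (LinearMap.BilinForm.toMatrix' (Matrix.toBilin' G)).det = G.det := by
  rw [LinearMap.BilinForm.toMatrix'_toBilin']

/-- `(-1)^m` is a square in a finite field of odd order `q` iff `m (q-1)/2` is even. -/
theorem neg_one_pow_isSquare_iff {F : Type*} [Field F] [Fintype F] (hq : Odd (Fintype.card F)) (m : ℕ) :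
    IsSquare ((-1 : F) ^ m) ↔ Even (m * (Fintype.card F - 1) / 2) := by
  obtain ⟨k, hk⟩ := hq
  have h1 : m * (Fintype.card F - 1) / 2 = m * k := by
    rw [hk]
    have : 2 * k + 1 - 1 = k * 2 := by omega
    rw [this, ← mul_assoc, Nat.mul_div_cancel _ (by norm_num)]
  rw [h1]
  rcases Nat.even_or_odd m with hm | hm
  · rw [Even.neg_one_pow hm]
    simp only [IsSquare.one, true_iff]
    exact hm.mul_right k
  · rw [Odd.neg_one_pow hm, FiniteField.isSquare_neg_one_iff, Nat.even_mul]
    have hm' : ¬ Even m := Nat.not_even_iff_odd.mpr hm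
    simp only [hm', false_or]
    rw [hk]
    constructor
    · intro h
      rw [Nat.even_iff]
      omega
    · intro h
      rw [Nat.even_iff] at h
      omega

/-- product with a nonsquare flips squareness -/
theorem isSquare_mul_nonsquare_iff {F : Type*} [Field F] [Fintype F] [DecidableEq F] {x y : F} (hx : x ≠ 0)
    (hy : ¬ IsSquare y) : IsSquare (x * y) ↔ ¬ IsSquare x := by
  have hy0 : y ≠ 0 := by
    rintro rfl
    exact hy ⟨0, by simp⟩
  rw [← quadraticChar_one_iff_isSquare (mul_ne_zero hx hy0), ← quadraticChar_neg_one_iff_not_isSquare, map_mul,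
    quadraticChar_neg_one_iff_not_isSquare.mpr hy]
  constructor <;> intro h <;> linarith

/-- the determinant of the Gram matrix of the minus form -/
theorem det_gramMinus {F : Type*} [Field F] (m : ℕ) (a c : F) :
    (gramMinus m F a c).det = (-1) ^ m * (4 * c - a ^ 2) := by
  rw [gramMinus, Matrix.det_fromBlocks_zero₂₁, gramPlus, det_hyp, Matrix.det_fin_two_of]
  ring

/-- an anisotropic binary form has nonsquare discriminant (odd characteristic) -/
theorem disc_nonsquare {F : Type*} [Field F] (h2 : (2 : F) ≠ 0) (a c : F)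
    (hac : ∀ z₁ z₂ : F, z₁ ^ 2 + a * z₁ * z₂ + c * z₂ ^ 2 = 0 → z₁ = 0 ∧ z₂ = 0) :
    ¬ IsSquare (a ^ 2 - 4 * c) := by
  rintro ⟨s, hs⟩
  have := hac ((-a + s) / 2) 1 (by
    field_simp
    have : s ^ 2 = a ^ 2 - 4 * c := by rw [hs]; ring
    ring_nf
    rw [this]; ring)
  exact one_ne_zero this.2

end Cfsg.Agent.Lib.H13
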