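import Mathlib
import Cfsg.Agent.Lib.H13.AutPO8
import Cfsg.Agent.Lib.H13.Disc

/-!
Automorphisms of `PΩ(Q)`, part 9 (helper13): the outer automorphism group of `PΩ⁻_{2m+2}(q)`, `q` odd. Generic group theory: odd-order
automorphisms of `D_8` are trivial (`d8_aut_odd`), internal direct products (`mulEquiv_prod_of_disjoint`), `d8_ext` (an extension of a cyclic group of
odd order by `D_8` splits as a direct product), `klein_ext` (a non-split central extension of `Z_f` by a four-group is `Z_2 × Z_{2f}`), transfer of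
kernels to quotients (`kerProj`, `lift_ker_sq`, `lift_ker_central`). Semisimilarities: `pair_PN_mult`, `det_PN`, `semiAut_Phi_comm`, invariance of
`psi` under conjugation by semisimilarities (`psi_conj`), `comm_mem_inn`. The Frobenius semisimilarity of the minus-type form (`twM`,
`exists_frob_pair`), `Nm_frob_nonsquare`, `frob_generates`, and `out_minus_odd`.
-/

set_option autoImplicit false
set_option linter.unusedSectionVars false
set_option linter.unusedVariables false
set_option linter.unusedSimpArgs false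
set_option linter.deprecated false

namespace Cfsg.Agent.Lib.H13.AutPO

section

open DihedralGroup in
/-- an automorphism of odd order of the dihedral group of order 8 is trivial -/
theorem d8_aut_odd (α : MulAut (DihedralGroup 4)) (f : ℕ) (hf : Odd f) (hα : α ^ f = 1) :
    α = 1 := by
  -- step 1: `α (r 1)` is `r 1` or `r 3`
  have h1 : ∀ x : DihedralGroup 4, x ^ 2 ≠ 1 → x = r 1 ∨ x = r 3 := by decide
  have hr : α (r 1) = r 1 ∨ α (r 1) = r 3 := by
    apply h1
    intro h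
    have : α ((r 1 : DihedralGroup 4) ^ 2) = α 1 := by rw [map_pow, h, map_one]
    have h3 := α.injective this
    revert h3
    decide
  have hr2 : (α ^ 2) (r 1) = r 1 := by
    rw [pow_two, MulAut.mul_apply]
    rcases hr with h | h
    · rw [h, h]
    · rw [h]
      have : (r 3 : DihedralGroup 4) = (r 1) ^ 3 := by decide
      rw [this, map_pow, h]
      decide
  have hpow : ∀ k : ℕ, ((α ^ 2) ^ k) (r 1) = r 1 := by
    intro k
    induction k with
    | zero => simp
    | succ k ih => rw [pow_succ, MulAut.mul_apply, hr2, ih]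
  obtain ⟨k, hk⟩ := hf
  have hα' : α = (α ^ 2) ^ (k + 1) := by
    rw [← pow_mul]
    have : 2 * (k + 1) = f + 1 := by omega
    rw [this, pow_succ, hα, one_mul]
  have hr1 : α (r 1) = r 1 := by
    rw [hα']
    exact hpow _
  have hrj : ∀ j : ZMod 4, α (r j) = r j := by
    intro j
    have : (r j : DihedralGroup 4) = (r 1) ^ j.val := by
      rw [r_one_pow]
      congr 1
      exact (ZMod.natCast_zmod_val j).symm
    rw [this, map_pow, hr1]
  -- step 2: `α (sr 0) = sr i`
  have h2 : ∀ x : DihedralGroup 4, x ^ 2 = 1 → x ≠ 1 → x ≠ r 2 → ∃ i, x = sr i := by decide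
  obtain ⟨i, hi⟩ : ∃ i, α (sr 0) = sr i := by
    apply h2
    · rw [← map_pow]
      have : (sr 0 : DihedralGroup 4) ^ 2 = 1 := by decide
      rw [this, map_one]
    · intro h
      have : α (sr 0) = α 1 := by rw [h, map_one]
      have h3 := α.injective this
      revert h3
      decide
    · intro h
      have : α (sr 0) = α (r 2) := by rw [h, hrj]
      have h3 := α.injective this
      revert h3
      decide
  have hsj : ∀ j : ZMod 4, α (sr j) = sr (i + j) := by
    intro j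
    have : (sr j : DihedralGroup 4) = sr 0 * r j := by rw [sr_mul_r, zero_add]
    rw [this, map_mul, hi, hrj, sr_mul_r]
  have hsn : ∀ n : ℕ, (α ^ n) (sr 0) = sr ((n : ZMod 4) * i) := by
    intro n
    induction n with
    | zero => simp
    | succ n ih =>
      rw [pow_succ', MulAut.mul_apply, ih, hsj]
      congr 1
      push_cast
      ring
  have hi0 : i = 0 := by
    have h3 := hsn f
    rw [hα, MulAut.one_apply] at h3
    have h4 : ((f : ℕ) : ZMod 4) * i = 0 := by
      have := DihedralGroup.sr.inj h3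
      exact this.symm
    have h5 : ((f : ℕ) : ZMod 4) = 1 ∨ ((f : ℕ) : ZMod 4) = 3 := by
      rw [← ZMod.natCast_mod f 4]
      have : f % 4 = 1 ∨ f % 4 = 3 := by omega
      rcases this with h | h <;> rw [h]
      · left; rfl
      · right; rfl
    have h6 : ∀ c i : ZMod 4, (c = 1 ∨ c = 3) → c * i = 0 → i = 0 := by decide
    exact h6 _ _ h5 h4
  rw [hi0] at hi
  rw [hi0] at hsj
  apply MulEquiv.ext
  intro x
  rw [MulAut.one_apply]
  cases x with
  | r j => exact hrj j
  | sr j => rw [hsj, zero_add]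

end

section

section generic2

variable {G : Type*} [Group G]

/-- internal direct product of two commuting subgroups with trivial intersection and the right orders -/
theorem mulEquiv_prod_of_disjoint [Finite G] (H K : Subgroup G)
    (hcomm : ∀ h ∈ H, ∀ k ∈ K, h * k = k * h) (hdisj : H ⊓ K = ⊥)
    (hcard : Nat.card ↥H * Nat.card ↥K = Nat.card G) : Nonempty (↥H × ↥K ≃* G) := by
  let φ : ↥H × ↥K →* G := MonoidHom.noncommCoprod H.subtype K.subtype
    (fun h k => hcomm h.1 h.2 k.1 k.2)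
  have hinj : Function.Injective φ := by
    rw [injective_iff_map_eq_one]
    rintro ⟨h, k⟩ hhk
    have h1 : h.1 * k.1 = 1 := hhk
    have h2 : h.1 = k.1⁻¹ := eq_inv_of_mul_eq_one_left h1
    have h3 : h.1 ∈ H ⊓ K := ⟨h.2, by rw [h2]; exact K.inv_mem k.2⟩
    rw [hdisj, Subgroup.mem_bot] at h3
    have h4 : k.1 = 1 := by rw [h3, one_mul] at h1; exact h1
    exact Prod.ext (Subtype.ext h3) (Subtype.ext h4)
  have hbij : Function.Bijective φ := by
    rw [Nat.bijective_iff_injective_and_card]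
    exact ⟨hinj, by rw [Nat.card_prod, hcard]⟩
  exact ⟨MulEquiv.ofBijective φ hbij⟩

/-- a cyclic subgroup is `Z_n` -/
theorem zpowers_equiv (y : G) (n : ℕ) (hn : orderOf y = n) :
    Nonempty (↥(Subgroup.zpowers y) ≃* Multiplicative (ZMod n)) := by
  have h1 : Nat.card ↥(Subgroup.zpowers y) = n := by rw [Nat.card_zpowers, hn]
  have hc : IsCyclic ↥(Subgroup.zpowers y) := inferInstance
  exact ⟨((zmodCyclicMulEquiv hc).symm).trans
    (AddEquiv.toMultiplicative (ZMod.ringEquivCongr h1).toAddEquiv)⟩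

end generic2

end

section

section generic3

/-- an extension of a cyclic group of odd order by `D_8` is a direct product -/
theorem d8_ext {G C : Type*} [Group G] [Finite G] [Group C] (ψ : G →* C)
    (hψ : Function.Surjective ψ) (f : ℕ) (hfodd : Odd f) (hC : Nat.card C = f)
    (eV : ↥ψ.ker ≃* DihedralGroup 4) : Nonempty (G ≃* DihedralGroup 4 × C) := by
  have hk8 : Nat.card ↥ψ.ker = 8 := by
    rw [Nat.card_congr eV.toEquiv, DihedralGroup.nat_card]
  have hidx : ψ.ker.index = f := by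
    rw [Subgroup.index_ker, MonoidHom.range_eq_top.2 hψ, Subgroup.card_top, hC]
  have hcop : Nat.Coprime (Nat.card ↥ψ.ker) ψ.ker.index := by
    rw [hk8, hidx]
    have : Nat.Coprime 2 f := Nat.coprime_two_left.2 hfodd
    exact Nat.Coprime.pow_left 3 this
  obtain ⟨K, hK⟩ := Subgroup.exists_right_complement'_of_coprime hcop
  have hdisj : ψ.ker ⊓ K = ⊥ := hK.disjoint.eq_bot
  have hcardK : Nat.card ↥ψ.ker * Nat.card ↥K = Nat.card G := hK.card_mul
  have hcG := AutPSL.card_of_surjective_ker ψ hψ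
  have hKf : Nat.card ↥K = f := by
    rw [hC, hk8] at hcG
    rw [hk8, hcG] at hcardK
    omega
  have hcomm : ∀ v ∈ ψ.ker, ∀ k ∈ K, v * k = k * v := by
    intro v hv k hk
    set α : MulAut ↥ψ.ker := MulAut.conjNormal k with hα
    have hkf : k ^ f = 1 := by
      have h1 : (⟨k, hk⟩ : ↥K) ^ Nat.card ↥K = 1 := pow_card_eq_one'
      rw [hKf] at h1
      exact congrArg Subtype.val h1
    have hαf : α ^ f = 1 := by rw [hα, ← map_pow, hkf, map_one]
    have h1 : MulAut.congr eV α = 1 :=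
      d8_aut_odd _ f hfodd (by rw [← map_pow, hαf, map_one])
    have h2 : α = 1 := (MulAut.congr eV).injective (by rw [h1, map_one])
    have h3 := congrArg (fun β : MulAut ↥ψ.ker => ((β ⟨v, hv⟩ : ↥ψ.ker) : G)) h2
    simp only [hα, MulAut.conjNormal_apply, MulAut.one_apply] at h3
    calc v * k = (k * v * k⁻¹) * k := by rw [h3]
      _ = k * v := by group
  obtain ⟨e⟩ := mulEquiv_prod_of_disjoint ψ.ker K hcomm hdisj hcardK
  have hinj : Function.Injective (ψ.comp K.subtype) := by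
    rw [injective_iff_map_eq_one]
    intro k hk
    have h1 : k.1 ∈ ψ.ker ⊓ K := ⟨hk, k.2⟩
    rw [hdisj, Subgroup.mem_bot] at h1
    exact Subtype.ext h1
  haveI : Finite C := Finite.of_surjective ψ hψ
  have hbij : Function.Bijective (ψ.comp K.subtype) := by
    rw [Nat.bijective_iff_injective_and_card]
    exact ⟨hinj, by rw [hKf, hC]⟩
  exact ⟨e.symm.trans (MulEquiv.prodCongr eV (MulEquiv.ofBijective _ hbij))⟩

/-- a central extension of a cyclic group of order `f` by a four-group which does not split -/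
theorem klein_ext {G C : Type*} [Group G] [Finite G] [Group C] (ψ : G →* C)
    (hψ : Function.Surjective ψ) (f : ℕ) (hf : 0 < f) (hC : Nat.card C = f)
    (hK4 : Nat.card ↥ψ.ker = 4) (hexp : ∀ v ∈ ψ.ker, v * v = 1)
    (hcen : ψ.ker ≤ Subgroup.center G)
    (y : G) (hy : ∀ c : C, c ∈ Subgroup.zpowers (ψ y)) (hyf : y ^ f ≠ 1) :
    Nonempty (G ≃* Multiplicative (ZMod 2 × ZMod (2 * f))) := by
  haveI : Finite C := Finite.of_surjective ψ hψ
  have hdec : ∀ g : G, ∃ v ∈ ψ.ker, ∃ k : ℤ, g = v * y ^ k := by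
    intro g
    obtain ⟨k, hk⟩ := Subgroup.mem_zpowers_iff.1 (hy (ψ g))
    refine ⟨g * (y ^ k)⁻¹, ?_, k, by group⟩
    rw [MonoidHom.mem_ker, map_mul, map_inv, map_zpow, hk, mul_inv_cancel]
  have hcomm : ∀ g h : G, g * h = h * g := by
    intro g h
    obtain ⟨v, hv, k, rfl⟩ := hdec g
    obtain ⟨w, hw, l, rfl⟩ := hdec h
    have cv := Subgroup.mem_center_iff.1 (hcen hv)
    have cw := Subgroup.mem_center_iff.1 (hcen hw)
    have e1 : y ^ k * y ^ l = y ^ l * y ^ k := by rw [← zpow_add, ← zpow_add, add_comm]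
    calc v * y ^ k * (w * y ^ l) = v * (y ^ k * w) * y ^ l := by group
      _ = v * (w * y ^ k) * y ^ l := by rw [cw]
      _ = (v * w) * (y ^ k * y ^ l) := by group
      _ = (w * v) * (y ^ l * y ^ k) := by rw [cv w, e1]
      _ = w * (v * y ^ l) * y ^ k := by group
      _ = w * (y ^ l * v) * y ^ k := by rw [cv]
      _ = w * y ^ l * (v * y ^ k) := by group
  have hu : y ^ f ∈ ψ.ker := by
    rw [MonoidHom.mem_ker, map_pow, ← hC]
    exact pow_card_eq_one'
  have hy2 : y ^ (2 * f) = 1 := by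
    rw [mul_comm, pow_mul, pow_two]
    exact hexp _ hu
  have hoψ : orderOf (ψ y) = f := by rw [orderOf_eq_card_of_forall_mem_zpowers hy, hC]
  have hoy : orderOf y = 2 * f := by
    have h1 : orderOf y ∣ 2 * f := orderOf_dvd_of_pow_eq_one hy2
    have h2 : f ∣ orderOf y := by
      rw [← hoψ]
      exact orderOf_map_dvd ψ y
    obtain ⟨j, hj⟩ := h2
    rw [hj, mul_comm 2 f] at h1
    have h3 : j ∣ 2 := (Nat.mul_dvd_mul_iff_left hf).1 h1
    have h4 : j = 1 ∨ j = 2 := by
      have := Nat.le_of_dvd (by norm_num) h3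
      interval_cases j
      · simp at h3
      · left; rfl
      · right; rfl
    rcases h4 with h4 | h4
    · exfalso
      apply hyf
      rw [h4, mul_one] at hj
      rw [← hj]
      exact pow_orderOf_eq_one y
    · rw [hj, h4, mul_comm]
  -- a third element of the kernel
  obtain ⟨z, hz, hz1, hzu⟩ : ∃ z ∈ ψ.ker, z ≠ 1 ∧ z ≠ y ^ f := by
    classical
    by_contra hcon
    push Not at hcon
    haveI : Fintype ↥ψ.ker := Fintype.ofFinite _
    have hsub : (Finset.univ : Finset ↥ψ.ker) ⊆ {1, ⟨y ^ f, hu⟩} := by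
      intro w _
      by_cases hw : w.1 = 1
      · have : w = 1 := Subtype.ext hw
        rw [this]; simp
      · have := hcon w.1 w.2 hw
        have : w = ⟨y ^ f, hu⟩ := Subtype.ext this
        rw [this]; simp
    have h1 := Finset.card_le_card hsub
    rw [Finset.card_univ, ← Nat.card_eq_fintype_card, hK4] at h1
    have h2 : ({1, ⟨y ^ f, hu⟩} : Finset ↥ψ.ker).card ≤ 2 := Finset.card_le_two
    omega
  have hz2 : z ^ 2 = 1 := by rw [pow_two]; exact hexp z hz
  have hoz : orderOf z = 2 := orderOf_eq_prime hz2 hz1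
  have hdisj : Subgroup.zpowers z ⊓ Subgroup.zpowers y = ⊥ := by
    rw [eq_bot_iff]
    rintro x ⟨hxz, hxy⟩
    rw [Subgroup.mem_bot]
    by_contra hx1
    obtain ⟨i, hi⟩ := Subgroup.mem_zpowers_iff.1 hxz
    have hxz' : x = z := by
      rcases Int.even_or_odd i with ⟨j, hj⟩ | ⟨j, hj⟩
      · exfalso
        apply hx1
        rw [← hi, hj, ← two_mul, zpow_mul, zpow_ofNat, hz2, one_zpow]
      · rw [← hi, hj, zpow_add, zpow_mul, zpow_ofNat, hz2, one_zpow, one_mul, zpow_one]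
    obtain ⟨k, hk⟩ := Subgroup.mem_zpowers_iff.1 hxy
    rw [hxz'] at hk
    have h1 : (ψ y) ^ k = 1 := by
      rw [← map_zpow, hk]
      exact hz
    have h2 : (f : ℤ) ∣ k := by
      rw [← hoψ]
      exact orderOf_dvd_iff_zpow_eq_one.2 h1
    obtain ⟨j, hj⟩ := h2
    have h3 : z = (y ^ f) ^ j := by
      rw [← hk, hj, zpow_mul, zpow_natCast]
    have hu2 : (y ^ f) ^ 2 = 1 := by rw [pow_two]; exact hexp _ hu
    rcases Int.even_or_odd j with ⟨l, hl⟩ | ⟨l, hl⟩
    · apply hz1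
      rw [h3, hl, ← two_mul, zpow_mul, zpow_ofNat, hu2, one_zpow]
    · apply hzu
      rw [h3, hl, zpow_add, zpow_mul, zpow_ofNat, hu2, one_zpow, one_mul, zpow_one]
  have hcG := AutPSL.card_of_surjective_ker ψ hψ
  have hcard : Nat.card ↥(Subgroup.zpowers z) * Nat.card ↥(Subgroup.zpowers y) = Nat.card G := by
    rw [Nat.card_zpowers, Nat.card_zpowers, hoz, hoy, hcG, hC, hK4]
    ring
  obtain ⟨e⟩ := mulEquiv_prod_of_disjoint (Subgroup.zpowers z) (Subgroup.zpowers y)
    (fun h _ k _ => hcomm h k) hdisj hcard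
  obtain ⟨e1⟩ := zpowers_equiv z 2 hoz
  obtain ⟨e2⟩ := zpowers_equiv y (2 * f) hoy
  exact ⟨e.symm.trans ((MulEquiv.prodCongr e1 e2).trans (MulEquiv.prodMultiplicative _ _).symm)⟩

end generic3

end

section

section transfer

variable {A C : Type*} [Group A] [Group C] (N : Subgroup A) [N.Normal] (ψ : A →* C)
  (hN : N ≤ ψ.ker)

/-- two surjections with the same kernel have isomorphic targets -/
theorem equiv_of_same_ker {P B₁ B₂ : Type*} [Group P] [Group B₁] [Group B₂] (φ₁ : P →* B₁)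
    (φ₂ : P →* B₂) (h₁ : Function.Surjective φ₁) (h₂ : Function.Surjective φ₂)
    (hk : φ₁.ker = φ₂.ker) : Nonempty (B₁ ≃* B₂) :=
  ⟨(QuotientGroup.quotientKerEquivOfSurjective φ₁ h₁).symm.trans
    ((QuotientGroup.quotientMulEquivOfEq hk).trans
      (QuotientGroup.quotientKerEquivOfSurjective φ₂ h₂))⟩

/-- the projection of `ker ψ` onto the kernel of the induced map on the quotient -/
def kerProj : ↥ψ.ker →* ↥(QuotientGroup.lift N ψ hN).ker :=
  ((QuotientGroup.mk' N).comp ψ.ker.subtype).codRestrict _ (fun β => by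
    rw [MonoidHom.mem_ker, MonoidHom.comp_apply, QuotientGroup.mk'_apply, QuotientGroup.lift_mk]
    exact β.2)

theorem kerProj_surjective : Function.Surjective (kerProj N ψ hN) := by
  rintro ⟨x, hx⟩
  induction x using QuotientGroup.induction_on with
  | H a =>
    rw [MonoidHom.mem_ker, QuotientGroup.lift_mk] at hx
    exact ⟨⟨a, hx⟩, rfl⟩

theorem kerProj_ker : (kerProj N ψ hN).ker = N.subgroupOf ψ.ker := by
  ext β
  rw [MonoidHom.mem_ker, Subgroup.mem_subgroupOf]
  constructor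
  · intro h
    have h1 := congrArg Subtype.val h
    exact (QuotientGroup.eq_one_iff _).1 h1
  · intro h
    apply Subtype.ext
    exact (QuotientGroup.eq_one_iff _).2 h

theorem lift_ker_sq (h : ∀ β ∈ ψ.ker, β * β ∈ N) :
    ∀ v ∈ (QuotientGroup.lift N ψ hN).ker, v * v = 1 := by
  intro v hv
  obtain ⟨β, hβ⟩ := kerProj_surjective N ψ hN ⟨v, hv⟩
  have h1 : v = QuotientGroup.mk β.1 := (congrArg Subtype.val hβ).symm
  rw [h1, ← QuotientGroup.mk_mul, QuotientGroup.eq_one_iff]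
  exact h β.1 β.2

theorem lift_ker_central (h : ∀ β ∈ ψ.ker, ∀ α : A, α * β * α⁻¹ * β⁻¹ ∈ N) :
    (QuotientGroup.lift N ψ hN).ker ≤ Subgroup.center (A ⧸ N) := by
  intro v hv
  obtain ⟨β, hβ⟩ := kerProj_surjective N ψ hN ⟨v, hv⟩
  have h1 : v = QuotientGroup.mk β.1 := (congrArg Subtype.val hβ).symm
  rw [Subgroup.mem_center_iff]
  intro x
  induction x using QuotientGroup.induction_on with
  | H α =>
    rw [h1, ← QuotientGroup.mk_mul, ← QuotientGroup.mk_mul, QuotientGroup.eq]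
    have h3 := h β.1 β.2 α⁻¹
    have h4 : (α * β.1)⁻¹ * (β.1 * α) = β.1⁻¹ * (α⁻¹ * β.1 * α⁻¹⁻¹ * β.1⁻¹) * β.1⁻¹⁻¹ := by group
    rw [h4]
    exact Subgroup.Normal.conj_mem (inferInstance : N.Normal) _ h3 β.1⁻¹

theorem lift_surjective (hψ : Function.Surjective ψ) :
    Function.Surjective (QuotientGroup.lift N ψ hN) := by
  intro c
  obtain ⟨a, rfl⟩ := hψ c
  exact ⟨QuotientGroup.mk a, QuotientGroup.lift_mk _ _ _⟩

end transfer

end

section

open Matrix QuadraticMap Module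
open Cfsg.Agent.Lib.H11.ConfOrth

section semiconj

variable {F : Type*} [Field F] [Fintype F] {ι : Type} [Fintype ι] [DecidableEq ι]
  (Q : (ι → F) → F)

/-- the multiplier of the partial norms of a semisimilarity -/
theorem pair_PN_mult {g : GL ι F} {σ : F ≃+* F} (c : F)
    (hc : ∀ v, Q (g.1 *ᵥ vmap σ v) = c * σ (Q v)) (i : ℕ) (v : ι → F) :
    Q ((PN σ g i).1 *ᵥ vmap (σ ^ i) v) = AutPSL.Nm σ i c * (σ ^ i) (Q v) := by
  induction i generalizing v with
  | zero =>
    rw [PN_zero, AutPSL.Nm_zero, pow_zero, Units.val_one, Matrix.one_mulVec, one_mul]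
    rfl
  | succ i ih =>
    have e1 : (PN σ g (i + 1)).1 *ᵥ vmap (σ ^ (i + 1)) v =
        g.1 *ᵥ vmap σ ((PN σ g i).1 *ᵥ vmap (σ ^ i) v) := by
      rw [PN_succ, Units.val_mul, glmap_val, ← Matrix.mulVec_mulVec, ← map_mulVec_vmap]
      congr 2
      rw [pow_succ']
      rfl
    rw [e1, hc, ih, AutPSL.Nm_succ', map_mul, pow_succ', RingAut.mul_apply]
    ring

theorem det_glmap (σ : F ≃+* F) (g : GL ι F) :
    ((glmap σ g : GL ι F) : Matrix ι ι F).det = σ (g : Matrix ι ι F).det := by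
  rw [glmap_val]
  exact (RingHom.map_det (σ : F →+* F) _).symm

/-- the determinant of the partial norms -/
theorem det_PN (σ : F ≃+* F) (g : GL ι F) (i : ℕ) :
    ((PN σ g i : GL ι F) : Matrix ι ι F).det = AutPSL.Nm σ i (g : Matrix ι ι F).det := by
  induction i with
  | zero => rw [PN_zero, AutPSL.Nm_zero, Units.val_one, Matrix.det_one]
  | succ i ih => rw [PN_succ, Units.val_mul, Matrix.det_mul, det_glmap, ih, AutPSL.Nm_succ']

/-- conjugating a similarity by a semisimilarity gives a similarity -/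
theorem conj_mem_sim {g : GL ι F} {σ : F ≃+* F} (hp : Cfsg.IsSemisimilarityPair Q g σ)
    (k : ↥(Sim Q)) : g * glmap σ k.1 * g⁻¹ ∈ Sim Q := by
  obtain ⟨c, hc⟩ := (pair_iff Q g σ).1 hp
  obtain ⟨d, hd⟩ := k.2
  refine ⟨Units.map (σ : F →* F) d, fun x => ?_⟩
  obtain ⟨y, hy⟩ : ∃ y, sact g σ y = x := ⟨_, sact_surj g σ x⟩
  rw [← hy, conj_sact, hc, hc, hd, map_mul]
  show _ = σ (d : F) * _
  ring

theorem semiAut_Phi_comm {g : GL ι F} {σ : F ≃+* F} (hp : Cfsg.IsSemisimilarityPair Q g σ)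
    (k : ↥(Sim Q)) :
    semiAut Q g σ hp * Phi Q k =
      Phi Q ⟨g * glmap σ k.1 * g⁻¹, conj_mem_sim Q hp k⟩ * semiAut Q g σ hp := by
  rw [← semiAut_refl, ← semiAut_refl, semiAut_mul, semiAut_mul]
  apply semiAut_congr
  · rw [glmap_refl, inv_mul_cancel_right]
  · rfl

end semiconj

end

section

open Matrix QuadraticMap Module
open Cfsg.Agent.Lib.H11.ConfOrth

section psiinv

variable {F : Type*} [Field F] [Fintype F] [DecidableEq F] {ι : Type} [Fintype ι] [DecidableEq ι]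
  (Q : QuadraticForm F (ι → F))

variable (hQ : (QuadraticMap.polarBilin Q).Nondegenerate) (h2 : (2 : F) ≠ 0) (m : ℕ)
  (hm : 4 ≤ m) (hcard : Fintype.card ι = 2 * m) (hne : ∃ v, Q v ≠ 0)

theorem mult_conj {g : GL ι F} {σ : F ≃+* F} (hp : Cfsg.IsSemisimilarityPair ⇑Q g σ)
    (k : ↥(Sim ⇑Q)) :
    mult (⇑Q) hne ⟨g * glmap σ k.1 * g⁻¹, conj_mem_sim ⇑Q hp k⟩ =
      Units.map (σ : F →* F) (mult (⇑Q) hne k) := by
  apply mult_eq
  intro x
  obtain ⟨c, hc⟩ := (pair_iff ⇑Q g σ).1 hp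
  obtain ⟨y, hy⟩ : ∃ y, sact g σ y = x := ⟨_, sact_surj g σ x⟩
  show Q ((g * glmap σ k.1 * g⁻¹ : GL ι F).1 *ᵥ x) = _
  rw [← hy, conj_sact, hc, hc, mult_spec (⇑Q) hne k, map_mul]
  show _ = σ (mult (⇑Q) hne k : F) * _
  ring

theorem delta_conj {g : GL ι F} {σ : F ≃+* F} (hp : Cfsg.IsSemisimilarityPair ⇑Q g σ)
    (k : ↥(Sim ⇑Q)) :
    delta Q hne m ⟨g * glmap σ k.1 * g⁻¹, conj_mem_sim ⇑Q hp k⟩ =
      Units.map (σ : F →* F) (delta Q hne m k) := by
  rw [delta_apply, delta_apply, mult_conj Q hne hp k]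
  have e1 : Matrix.GeneralLinearGroup.det (g * glmap σ k.1 * g⁻¹) =
      Units.map (σ : F →* F) (Matrix.GeneralLinearGroup.det k.1) := by
    rw [map_mul, map_mul, map_inv, mul_comm, inv_mul_cancel_left]
    apply Units.ext
    rw [Matrix.GeneralLinearGroup.val_det_apply, det_glmap]
    rfl
  rw [e1, map_mul (Units.map (σ : F →* F)), map_inv, map_pow]

omit [Fintype F] [DecidableEq F] [Fintype ι] [DecidableEq ι] in
theorem units_map_eq_one_iff (σ : F ≃+* F) (u : Fˣ) : Units.map (σ : F →* F) u = 1 ↔ u = 1 := by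
  constructor
  · intro h
    have h1 := congrArg Units.val h
    rw [Units.coe_map, Units.val_one] at h1
    apply Units.ext
    rw [Units.val_one]
    have : σ (u : F) = σ 1 := by rw [map_one]; exact h1
    exact σ.injective this
  · rintro rfl
    exact map_one _

theorem int_units_eq_of_iff (a b : ℤˣ) (h : a = 1 ↔ b = 1) : a = b := by
  rcases Int.units_eq_one_or a with ha | ha <;> rcases Int.units_eq_one_or b with hb | hb
  · rw [ha, hb]
  · exfalso
    have := h.1 ha
    rw [hb] at this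
    exact absurd this (by decide)
  · exfalso
    have := h.2 hb
    rw [ha] at this
    exact absurd this (by decide)
  · rw [ha, hb]

theorem psi_conj {g : GL ι F} {σ : F ≃+* F} (hp : Cfsg.IsSemisimilarityPair ⇑Q g σ)
    (k : ↥(Sim ⇑Q)) :
    psi Q hne m hQ h2 hcard ⟨g * glmap σ k.1 * g⁻¹, conj_mem_sim ⇑Q hp k⟩ =
      psi Q hne m hQ h2 hcard k := by
  unfold psi
  rw [MonoidHom.prod_apply, MonoidHom.prod_apply]
  apply Prod.ext
  · show (quadraticChar F).toUnitHom (mult (⇑Q) hne _) = (quadraticChar F).toUnitHom (mult (⇑Q) hne k)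
    apply int_units_eq_of_iff
    rw [qc_eq_one_iff, qc_eq_one_iff, mult_conj Q hne hp k]
    show IsSquare (σ (mult (⇑Q) hne k : F)) ↔ _
    constructor
    · rintro ⟨r, hr⟩
      refine ⟨σ.symm r, ?_⟩
      rw [← map_mul, ← hr, RingEquiv.symm_apply_apply]
    · rintro ⟨r, hr⟩
      exact ⟨σ r, by rw [hr, map_mul]⟩
  · show dsign Q hne m hQ h2 hcard _ = dsign Q hne m hQ h2 hcard k
    apply int_units_eq_of_iff
    rw [dsign_eq_one_iff, dsign_eq_one_iff, delta_conj Q m hne hp k, units_map_eq_one_iff]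

include hQ h2 hm hcard in
/-- an element of `Inn` has trivial `psi` -/
theorem psi_eq_one_of_mem_inn (k : ↥(Sim ⇑Q)) (hk : Phi ⇑Q k ∈ Cfsg.Inn (Cfsg.POmega F ⇑Q)) :
    psi Q hne m hQ h2 hcard k = 1 := by
  have h1 : k ∈ (Cfsg.Inn (Cfsg.POmega F ⇑Q)).comap (Phi ⇑Q) := hk
  rw [inn_eq, mem_comap_map Q (ker_Phi_main Q hQ h2 m hm hcard)] at h1
  obtain ⟨c, s, hs, hks⟩ := h1
  rw [psi_eq_one_iff']
  exact ⟨c, s, omegaGL_le_sO Q hQ h2 (by omega) hs, hks⟩

include hm in
/-- when `-1 ∉ Ω`, `Inn` is the kernel of `psi` -/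
theorem mem_inn_of_psi_eq_one (hneg : negOne ι F ∉ Cfsg.Geo.omegaGL ⇑Q) (k : ↥(Sim ⇑Q))
    (hk : psi Q hne m hQ h2 hcard k = 1) : Phi ⇑Q k ∈ Cfsg.Inn (Cfsg.POmega F ⇑Q) := by
  have h1 : k ∈ (Cfsg.Inn (Cfsg.POmega F ⇑Q)).comap (Phi ⇑Q) := by
    rw [inn_eq, mem_comap_map Q (ker_Phi_main Q hQ h2 m hm hcard),
      ← zso_iff_zomega Q hQ h2 m hm hcard hne hneg, ← psi_eq_one_iff' Q hne m hQ h2 hcard]
    exact hk
  exact h1

include hQ h2 hm hcard hne in
/-- when `-1 ∉ Ω`, `PGO / Inn` is central in `Aut / Inn` -/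
theorem comm_mem_inn (hall : Cfsg.gammaPOmega F ⇑Q = ⊤)
    (hneg : negOne ι F ∉ Cfsg.Geo.omegaGL ⇑Q) (β : MulAut (Cfsg.POmega F ⇑Q))
    (hβ : β ∈ (Phi ⇑Q).range) (α : MulAut (Cfsg.POmega F ⇑Q)) :
    α * β * α⁻¹ * β⁻¹ ∈ Cfsg.Inn (Cfsg.POmega F ⇑Q) := by
  obtain ⟨k, rfl⟩ := hβ
  obtain ⟨g, σ, hp, rfl⟩ := exists_formO Q hall α
  rw [semiAut_Phi_comm, mul_inv_cancel_right, ← map_inv, ← map_mul]
  apply mem_inn_of_psi_eq_one Q hQ h2 m hm hcard hne hneg
  rw [map_mul, map_inv, psi_conj Q hQ h2 m hcard hne hp k, mul_inv_cancel]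

end psiinv

end

section

open Matrix QuadraticMap Module
open Cfsg.Agent.Lib.H11.ConfOrth

section frobpair

variable {F : Type*} [Field F] {m : ℕ}

/-- the matrix of a semisimilarity of the minus-type form twisting the binary part -/
def twM (s t : F) : Matrix ((Fin m ⊕ Fin m) ⊕ Fin 2) ((Fin m ⊕ Fin m) ⊕ Fin 2) F :=
  Matrix.fromBlocks 1 0 0 !![1, s; 0, t]

theorem twM_det (s t : F) : (twM (m := m) s t).det = t := by
  unfold twM
  rw [Matrix.det_fromBlocks_zero₂₁, Matrix.det_one, Matrix.det_fin_two_of]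
  ring

theorem twM_Q (σ : F ≃+* F) (a b s t : F) (hs : 2 * s = σ a - a * t)
    (ht : t ^ 2 * (a ^ 2 - 4 * b) = σ a ^ 2 - 4 * σ b) (h2 : (2 : F) ≠ 0)
    (x : (Fin m ⊕ Fin m) ⊕ Fin 2 → F) :
    Cfsg.quadFormMinus m F a b (twM s t *ᵥ vmap σ x) = σ (Cfsg.quadFormMinus m F a b x) := by
  unfold twM Cfsg.quadFormMinus
  rw [Matrix.fromBlocks_mulVec]
  simp only [Matrix.zero_mulVec, add_zero, zero_add, Sum.elim_inl, Sum.elim_inr,
    Matrix.one_mulVec, Function.comp_apply, vmap_apply, map_add, map_sum, map_mul, map_pow]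
  have h0 : (!![1, s; 0, t] *ᵥ (vmap σ x ∘ Sum.inr)) 0 =
      σ (x (Sum.inr 0)) + s * σ (x (Sum.inr 1)) := by
    simp [Matrix.mulVec, dotProduct, Fin.sum_univ_two, vmap_apply]
  have h1 : (!![1, s; 0, t] *ᵥ (vmap σ x ∘ Sum.inr)) 1 = t * σ (x (Sum.inr 1)) := by
    simp [Matrix.mulVec, dotProduct, Fin.sum_univ_two, vmap_apply]
  rw [h0, h1]
  congr 1
  have h4 : (4 : F) ≠ 0 := by
    have : (4 : F) = 2 * 2 := by norm_num
    rw [this]
    exact mul_ne_zero h2 h2
  apply mul_left_cancel₀ h4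
  set w0 := σ (x (Sum.inr 0))
  set w1 := σ (x (Sum.inr 1))
  linear_combination (4 * w0 * w1 + (2 * s + σ a - a * t) * w1 ^ 2 + 2 * a * t * w1 ^ 2) * hs
    - w1 ^ 2 * ht

end frobpair

end

section

open Matrix QuadraticMap Module
open Cfsg.Agent.Lib.H11.ConfOrth

section frob

variable {F : Type*} [Field F] [Fintype F] {p : ℕ} [Fact p.Prime] [CharP F p]

/-- powers of the Frobenius automorphism -/
theorem frob_pow_apply (i : ℕ) (x : F) : ((frobeniusEquiv F p) ^ i) x = x ^ p ^ i := by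
  induction i generalizing x with
  | zero => simp
  | succ i ih =>
    rw [pow_succ', RingAut.mul_apply, ih, frobeniusEquiv_apply, frobenius_def, ← pow_mul, pow_succ']
    ring_nf

theorem Nm_frob (i : ℕ) (x : F) :
    AutPSL.Nm (frobeniusEquiv F p) i x = x ^ (∑ j ∈ Finset.range i, p ^ j) := by
  unfold AutPSL.Nm
  rw [← Finset.prod_pow_eq_pow_sum]
  apply Finset.prod_congr rfl
  intro j _
  exact frob_pow_apply j x

theorem pred_mul_geom (f : ℕ) : (p - 1) * ∑ j ∈ Finset.range f, p ^ j = p ^ f - 1 := by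
  have hp : 1 ≤ p := (Fact.out : p.Prime).one_lt.le
  have h1 := Nat.geomSum_eq (Fact.out : p.Prime).two_le f
  rw [h1]
  have hdvd : (p - 1) ∣ p ^ f - 1 := by
    have := Nat.sub_dvd_pow_sub_pow p 1 f
    rwa [one_pow] at this
  exact Nat.mul_div_cancel' hdvd

/-- the norm of `D ^ ((p - 1) / 2)` for a non-square `D` is `-1` -/
theorem Nm_frob_nonsquare {f : ℕ} (hF : Fintype.card F = p ^ f) (hp2 : p ≠ 2) (D : F)
    (hD : ¬ IsSquare D) : AutPSL.Nm (frobeniusEquiv F p) f (D ^ ((p - 1) / 2)) = -1 := by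
  have hodd : Odd p := (Fact.out : p.Prime).odd_of_ne_two hp2
  have hchar : ringChar F ≠ 2 := by
    rw [ringChar.eq F p]
    exact hp2
  have hD0 : D ≠ 0 := by
    rintro rfl
    exact hD ⟨0, by simp⟩
  rw [Nm_frob, ← pow_mul]
  have h1 : (p - 1) / 2 * ∑ j ∈ Finset.range f, p ^ j = Fintype.card F / 2 := by
    have h3 := pred_mul_geom (p := p) f
    obtain ⟨k, hk⟩ := hodd
    have h4 : (p - 1) / 2 = k := by omega
    have h5 : p - 1 = 2 * k := by omega
    rw [h4, hF]
    rw [h5, mul_assoc] at h3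
    have h6 : 1 ≤ p ^ f := Nat.one_le_pow _ _ (Fact.out : p.Prime).pos
    generalize k * ∑ j ∈ Finset.range f, p ^ j = X at h3 ⊢
    omega
  rw [h1]
  rcases FiniteField.pow_dichotomy hchar hD0 with h | h
  · exact absurd ((FiniteField.isSquare_iff hchar hD0).2 h) hD
  · exact h

/-- the Frobenius automorphism generates the automorphism group -/
theorem frob_generates {f : ℕ} (hF : Fintype.card F = p ^ f) (τ : F ≃+* F) :
    τ ∈ Subgroup.zpowers (frobeniusEquiv F p) := by
  letI := ZMod.algebra F p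
  have h1 : orderOf (FiniteField.frobeniusAlgEquivOfAlgebraic (ZMod p) F) =
      Module.finrank (ZMod p) F := FiniteField.orderOf_frobeniusAlgEquivOfAlgebraic (ZMod p) F
  have h2 : (AutPSL.galEquiv (F := F) p).symm
      (FiniteField.frobeniusAlgEquivOfAlgebraic (ZMod p) F) = frobeniusEquiv F p := by
    ext x
    show (FiniteField.frobeniusAlgEquivOfAlgebraic (ZMod p) F) x = _
    rw [FiniteField.coe_frobeniusAlgEquivOfAlgebraic, frobeniusEquiv_apply, frobenius_def]
    simp [ZMod.card]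
  have h3 : orderOf (frobeniusEquiv F p) = Nat.card (F ≃+* F) := by
    rw [← h2, MulEquiv.orderOf_eq, h1, AutPSL.card_ringAut p hF]
    have h4 : Fintype.card F = Fintype.card (ZMod p) ^ Module.finrank (ZMod p) F :=
      Module.card_eq_pow_finrank
    rw [ZMod.card, hF] at h4
    exact (Nat.pow_right_injective (Fact.out : p.Prime).two_le h4).symm
  haveI : Finite (F ≃+* F) := by
    apply Nat.finite_of_card_ne_zero
    rw [AutPSL.card_ringAut p hF]
    rintro rfl
    rw [pow_zero] at hF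
    have := Fintype.one_lt_card (α := F)
    omega
  have h5 : Subgroup.zpowers (frobeniusEquiv F p) = ⊤ := by
    apply Subgroup.eq_top_of_card_eq
    rw [Nat.card_zpowers, h3]
  rw [h5]
  exact Subgroup.mem_top _

end frob

end

section

open Matrix QuadraticMap Module
open Cfsg.Agent.Lib.H11.ConfOrth
open Cfsg.Agent.Lib.H13

section minusfrob

variable {F : Type*} [Field F] [Fintype F] {p : ℕ} [Fact p.Prime] [CharP F p] {m : ℕ}

theorem two_ne_zero_of_char (hp2 : p ≠ 2) : (2 : F) ≠ 0 := by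
  intro h
  have h1 : ((2 : ℕ) : F) = 0 := by exact_mod_cast h
  rw [CharP.cast_eq_zero_iff F p] at h1
  have := (Nat.prime_dvd_prime_iff_eq (Fact.out : p.Prime) Nat.prime_two).1 h1
  exact hp2 this

/-- the Frobenius twist data -/
theorem frob_data (hp2 : p ≠ 2) (a b : F) :
    ∃ s t : F, t = (a ^ 2 - 4 * b) ^ ((p - 1) / 2) ∧
      2 * s = frobeniusEquiv F p a - a * t ∧
      t ^ 2 * (a ^ 2 - 4 * b) = frobeniusEquiv F p a ^ 2 - 4 * frobeniusEquiv F p b := by
  have h2 := two_ne_zero_of_char (F := F) hp2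
  have hodd : Odd p := (Fact.out : p.Prime).odd_of_ne_two hp2
  refine ⟨(frobeniusEquiv F p a - a * (a ^ 2 - 4 * b) ^ ((p - 1) / 2)) / 2,
    (a ^ 2 - 4 * b) ^ ((p - 1) / 2), rfl, ?_, ?_⟩
  · field_simp
  · have h1 : frobeniusEquiv F p a ^ 2 - 4 * frobeniusEquiv F p b =
        frobeniusEquiv F p (a ^ 2 - 4 * b) := by
      rw [map_sub, map_pow, map_mul]
      congr 2
      exact (map_ofNat (frobeniusEquiv F p) 4).symm
    rw [h1, frobeniusEquiv_apply, frobenius_def, ← pow_mul, ← pow_succ]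
    congr 1
    obtain ⟨k, hk⟩ := hodd
    omega

end minusfrob

end

section

open Matrix QuadraticMap Module
open Cfsg.Agent.Lib.H11.ConfOrth
open Cfsg.Agent.Lib.H13

section minusout

variable {F : Type*} [Field F] [Fintype F] {p : ℕ} [Fact p.Prime] [CharP F p] {m : ℕ}

/-- the Frobenius semisimilarity of the minus-type form -/
theorem exists_frob_pair (hp2 : p ≠ 2) (a b : F)
    (hab : ∀ z₁ z₂ : F, z₁ ^ 2 + a * z₁ * z₂ + b * z₂ ^ 2 = 0 → z₁ = 0 ∧ z₂ = 0) :
    ∃ g : GL ((Fin m ⊕ Fin m) ⊕ Fin 2) F,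
      (∀ v, minusQF F m a b (g.1 *ᵥ vmap (frobeniusEquiv F p) v) =
        frobeniusEquiv F p (minusQF F m a b v)) ∧
      (g.1 : Matrix _ _ F).det = (a ^ 2 - 4 * b) ^ ((p - 1) / 2) := by
  have h2 := two_ne_zero_of_char (F := F) hp2
  obtain ⟨s, t, ht, hs, htt⟩ := frob_data (F := F) hp2 a b
  have hD := disc_nonsquare h2 a b hab
  have hD0 : a ^ 2 - 4 * b ≠ 0 := by
    intro h
    exact hD ⟨0, by rw [h]; simp⟩
  have ht0 : t ≠ 0 := by rw [ht]; exact pow_ne_zero _ hD0
  refine ⟨Matrix.GeneralLinearGroup.mkOfDetNeZero (twM s t) (by rw [twM_det]; exact ht0), ?_, ?_⟩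
  · intro v
    rw [minusQF_apply, minusQF_apply]
    exact twM_Q _ a b s t hs htt h2 v
  · show (twM s t).det = _
    rw [twM_det, ht]

theorem orderOf_frob {f : ℕ} (hF : Fintype.card F = p ^ f) (hf : 1 ≤ f) :
    orderOf (frobeniusEquiv F p) = f := by
  haveI : Finite (F ≃+* F) := by
    apply Nat.finite_of_card_ne_zero
    rw [AutPSL.card_ringAut p hF]
    omega
  rw [← AutPSL.card_ringAut p hF]
  apply orderOf_eq_card_of_forall_mem_zpowers
  exact frob_generates hF

end minusout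

end

section

open Matrix QuadraticMap Module
open Cfsg.Agent.Lib.H11.ConfOrth
open Cfsg.Agent.Lib.H13

section minusout2

variable {F : Type*} [Field F] [Fintype F] {p : ℕ} [Fact p.Prime] [CharP F p] {m : ℕ}

theorem odd_of_pow_mod_four {f : ℕ} (h : p ^ f % 4 = 3) : Odd f := by
  by_contra hcon
  rw [Nat.not_odd_iff_even] at hcon
  obtain ⟨k, rfl⟩ := hcon
  rw [← two_mul, pow_mul, Nat.pow_mod] at h
  have : p ^ 2 % 4 = 0 ∨ p ^ 2 % 4 = 1 := by
    rw [pow_two, Nat.mul_mod]
    have : p % 4 < 4 := Nat.mod_lt _ (by norm_num)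
    interval_cases (p % 4) <;> simp
  rcases this with h1 | h1
  · rw [h1] at h
    rcases Nat.eq_zero_or_pos k with hk | hk
    · subst hk; simp at h
    · rw [zero_pow (by omega)] at h; simp at h
  · rw [h1, one_pow] at h
    simp at h

omit [Field F] [Fintype F] [Fact p.Prime] in
theorem transport_hom {A B : Type*} [Group A] [Group B] {P P' N : Subgroup A} (h : P = P')
    (hex : ∃ φ : ↥P →* B, Function.Surjective φ ∧ φ.ker = N.subgroupOf P) :
    ∃ φ' : ↥P' →* B, Function.Surjective φ' ∧ φ'.ker = N.subgroupOf P' := by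
  subst h
  exact hex

omit [Field F] [Fintype F] [Fact p.Prime] in
theorem card_klein : Nat.card (Multiplicative (ZMod 2 × ZMod 2)) = 4 := by
  rw [Nat.card_eq_fintype_card]; rfl

theorem out_minus_odd (hp2 : p ≠ 2) (hm : 3 ≤ m) (a b : F)
    (hab : ∀ z₁ z₂ : F, z₁ ^ 2 + a * z₁ * z₂ + b * z₂ ^ 2 = 0 → z₁ = 0 ∧ z₂ = 0)
    {f : ℕ} (hf : 1 ≤ f) (hF : Fintype.card F = p ^ f) :
    ((Even m ∧ p ^ f % 4 = 3) →
      Nonempty (Cfsg.Out (Cfsg.POmega F ⇑(minusQF F m a b)) ≃*
        DihedralGroup 4 × Multiplicative (ZMod f))) ∧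
    (¬ (Even m ∧ p ^ f % 4 = 3) →
      Nonempty (Cfsg.Out (Cfsg.POmega F ⇑(minusQF F m a b)) ≃*
        Multiplicative (ZMod 2 × ZMod (2 * f)))) := by
  classical
  have h2 := two_ne_zero_of_char (F := F) hp2
  have hoddp : Odd p := (Fact.out : p.Prime).odd_of_ne_two hp2
  have hodd : Odd (Fintype.card F) := by rw [hF]; exact hoddp.pow
  set Q := minusQF F m a b with hQdef
  have hQ : (polarBilin Q).Nondegenerate := Cfsg.Agent.S0288.nondeg (F := F) a b hab m
  have hcard : Fintype.card ((Fin m ⊕ Fin m) ⊕ Fin 2) = 2 * (m + 1) := card_minus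
  have hc7 : 7 ≤ Fintype.card ((Fin m ⊕ Fin m) ⊕ Fin 2) := by rw [hcard]; omega
  have hne : ∃ v, Q v ≠ 0 := exists_neO Q hQ hc7
  have hall : Cfsg.gammaPOmega F ⇑Q = ⊤ := by
    apply gamma_eq_top _ hQ hc7
    by_cases h4 : 4 ≤ m
    · left
      rw [hcard]; omega
    · right
      intro U hU
      have hm3 : m = 3 := by omega
      have := no_ts_minus m a b hab U hU
      omega
  set σ := frobeniusEquiv F p with hσdef
  obtain ⟨g₁, hg₁, hdet⟩ := exists_frob_pair (m := m) hp2 a b hab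
  have hp₁ : Cfsg.IsSemisimilarityPair ⇑Q g₁ σ :=
    ⟨1, fun v => by rw [Units.val_one, one_mul]; exact hg₁ v⟩
  set β₁ := semiAut ⇑Q g₁ σ hp₁ with hβ₁
  set ψO := psiO Q hQ h2 hc7 hall with hψO
  have hψβ : ψO β₁ = σ := psiO_apply Q hQ h2 hc7 hall hp₁
  have hsurjO : Function.Surjective ψO := by
    intro τ
    obtain ⟨k, hk⟩ := Subgroup.mem_zpowers_iff.1 (frob_generates hF τ)
    exact ⟨β₁ ^ k, by rw [map_zpow, hψβ, hk]⟩
  have hN : Cfsg.Inn (Cfsg.POmega F ⇑Q) ≤ ψO.ker := inn_le_ker Q hQ h2 hc7 hall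
  set ψ : Cfsg.Out (Cfsg.POmega F ⇑Q) →* (F ≃+* F) := QuotientGroup.lift _ ψO hN with hψ
  have hsurj : Function.Surjective ψ := lift_surjective _ ψO hN hsurjO
  have hC : Nat.card (F ≃+* F) = f := AutPSL.card_ringAut p hF
  haveI : Finite (Cfsg.POmega F ⇑Q) := by
    unfold Cfsg.POmega
    infer_instance
  haveI : Finite (MulAut (Cfsg.POmega F ⇑Q)) :=
    Finite.of_injective (fun f : MulAut (Cfsg.POmega F ⇑Q) =>
      (f : Cfsg.POmega F ⇑Q → Cfsg.POmega F ⇑Q)) (fun f g h => MulEquiv.ext (congrFun h))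
  have hkerO : ψO.ker = Cfsg.pgoAut F ⇑Q := by
    rw [hψO, psiO_ker, pgoAut_eq]
  obtain ⟨hD8, hKl⟩ := minus_pgo_inn hodd hm a b hab
  have hFq : Fintype.card F % 4 = 3 ↔ p ^ f % 4 = 3 := by rw [hF]
  constructor
  · intro hcase
    have hfodd : Odd f := odd_of_pow_mod_four hcase.2
    obtain ⟨φ, hφs, hφk⟩ := transport_hom hkerO.symm (hD8 ⟨hcase.1, hFq.2 hcase.2⟩)
    obtain ⟨eV⟩ := equiv_of_same_ker (kerProj _ ψO hN) φ (kerProj_surjective _ ψO hN) hφs
      (by rw [kerProj_ker, hφk])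
    obtain ⟨e⟩ := d8_ext ψ hsurj f hfodd hC eV
    exact ⟨e.trans (MulEquiv.prodCongr (MulEquiv.refl _) (AutPSL.ringAutEquiv p hF))⟩
  · intro hcase
    have hcase' : ¬ (Even m ∧ Fintype.card F % 4 = 3) := by
      rw [hFq]; exact hcase
    obtain ⟨φ, hφs, hφk⟩ := transport_hom hkerO.symm (hKl hcase')
    obtain ⟨eV⟩ := equiv_of_same_ker (kerProj _ ψO hN) φ (kerProj_surjective _ ψO hN) hφs
      (by rw [kerProj_ker, hφk])
    have hK4 : Nat.card ↥ψ.ker = 4 := by
      rw [Nat.card_congr eV.toEquiv, card_klein]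
    have hneg : negOne ((Fin m ⊕ Fin m) ⊕ Fin 2) F ∉ Cfsg.Geo.omegaGL ⇑Q := by
      rw [negOne_mem_minus_iff (F := F) (m := m) rfl hodd a b hab,
        pow_succ_mod_four_eq_three_iff hodd]
      exact hcase'
    have hexp : ∀ v ∈ ψ.ker, v * v = 1 := by
      apply lift_ker_sq
      intro β hβ
      have h1 : φ (⟨β, hβ⟩ * ⟨β, hβ⟩) = 1 := by
        rw [map_mul]
        have : ∀ x : Multiplicative (ZMod 2 × ZMod 2), x * x = 1 := by decide
        exact this _
      have h3 : (⟨β, hβ⟩ * ⟨β, hβ⟩ : ↥ψO.ker) ∈ φ.ker := h1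
      rw [hφk, Subgroup.mem_subgroupOf] at h3
      exact h3
    have hcen : ψ.ker ≤ Subgroup.center _ := by
      apply lift_ker_central
      intro β hβ α
      have hβ' : β ∈ (Phi ⇑Q).range := by
        rw [← psiO_ker Q hQ h2 hc7 hall]
        exact hβ
      exact comm_mem_inn Q hQ h2 (m + 1) (by omega) hcard hne hall hneg β hβ' α
    -- the non-split element
    have hσf : σ ^ f = 1 := by
      rw [← orderOf_frob hF hf]
      exact pow_orderOf_eq_one _
    have hy : ∀ c : F ≃+* F, c ∈ Subgroup.zpowers (ψ (QuotientGroup.mk β₁)) := by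
      intro c
      rw [hψ, QuotientGroup.lift_mk, hψβ]
      exact frob_generates hF c
    have hyf : (QuotientGroup.mk β₁ : Cfsg.Out (Cfsg.POmega F ⇑Q)) ^ f ≠ 1 := by
      intro hmem0
      have hmem1 : β₁ ^ f ∈ Cfsg.Inn (Cfsg.POmega F ⇑Q) := by
        have h := (QuotientGroup.mk_pow (Cfsg.Inn (Cfsg.POmega F ⇑Q)) β₁ f).trans hmem0
        exact (QuotientGroup.eq_one_iff _).1 h
      have hmem : semiAut ⇑Q (PN σ g₁ f) (σ ^ f) (pair_PN ⇑Q hp₁ f) ∈
          Cfsg.Inn (Cfsg.POmega F ⇑Q) := by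
        rw [← semiAut_pow]
        exact hmem1
      have hsim : PN σ g₁ f ∈ Sim ⇑Q := by
        apply sim_of_pair_refl
        have := pair_PN ⇑Q hp₁ f
        rw [hσf] at this
        exact this
      have e1 : semiAut ⇑Q (PN σ g₁ f) (σ ^ f) (pair_PN ⇑Q hp₁ f) =
          Phi ⇑Q ⟨PN σ g₁ f, hsim⟩ := by
        rw [← semiAut_refl]
        exact semiAut_congr ⇑Q rfl hσf _ _
      rw [e1] at hmem
      have h3 := psi_eq_one_of_mem_inn Q hQ h2 (m + 1) (by omega) hcard hne _ hmem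
      rw [psi_eq_one_iff] at h3
      have h4 := (delta_eq_one_iff Q hne (m + 1) _).1 h3.2
      have hmult : mult (⇑Q) hne ⟨PN σ g₁ f, hsim⟩ = 1 := by
        apply mult_eq
        intro v
        have h5 := pair_PN_mult (⇑Q) (g := g₁) (σ := σ) 1
          (fun v => by rw [one_mul]; exact hg₁ v) f v
        rw [hσf, AutPSL.Nm_one, one_mul] at h5
        rw [Units.val_one, one_mul]
        exact h5
      rw [hmult, Units.val_one, one_pow] at h4
      have h6 : ((PN σ g₁ f : GL ((Fin m ⊕ Fin m) ⊕ Fin 2) F) :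
          Matrix ((Fin m ⊕ Fin m) ⊕ Fin 2) ((Fin m ⊕ Fin m) ⊕ Fin 2) F).det = -1 := by
        rw [det_PN, hdet]
        exact Nm_frob_nonsquare hF hp2 _ (disc_nonsquare h2 a b hab)
      rw [h6] at h4
      have : (2 : F) = 0 := by linear_combination -h4
      exact h2 this
    exact klein_ext ψ hsurj f (by omega) hC hK4 hexp hcen _ hy hyf

end minusout2

end

end Cfsg.Agent.Lib.H13.AutPO
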