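import Cfsg.Agent.Lib.H13.DicksonGen

set_option autoImplicit false

namespace Cfsg.Agent.Lib.H13.Char2Omega

open Matrix
open scoped MatrixGroups
open Cfsg.Agent.Lib.H13.HypPairs Cfsg.Agent.Lib.H13.Char2Gen Cfsg.Agent.Lib.H13.Char2Mat
  Cfsg.Agent.Lib.H13.DicksonGen Cfsg.Agent.Lib.H13.Dickson

variable {F : Type*} [Field F] {ι : Type} [Fintype ι] [DecidableEq ι] (Q : QuadraticForm F (ι → F))

theorem polarVec_smul (l : F) (v : ι → F) :
    Cfsg.polarVec (⇑Q) (l • v) = l • Cfsg.polarVec (⇑Q) v := by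
  funext j
  unfold Cfsg.polarVec
  rw [QuadraticMap.polar_smul_left]
  rfl

/-- the reflection only depends on the line -/
theorem reflectionMatrix_smul (l : F) (hl : l ≠ 0) (v : ι → F) :
    Cfsg.reflectionMatrix (⇑Q) (l • v) = Cfsg.reflectionMatrix (⇑Q) v := by
  unfold Cfsg.reflectionMatrix
  rw [polarVec_smul, QuadraticMap.map_smul, Matrix.smul_vecMulVec, Matrix.vecMulVec_smul, smul_smul,
    smul_smul, smul_eq_mul]
  congr 2
  by_cases hv : Q v = 0
  · rw [hv]; simp
  · field_simp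

theorem exists_Q_ne_zero' [Nonempty ι] (hQ : (QuadraticMap.polarBilin Q).Nondegenerate) :
    ∃ u, Q u ≠ 0 := by
  by_contra hcon
  push Not at hcon
  obtain ⟨i⟩ := ‹Nonempty ι›
  have : (Pi.single i 1 : ι → F) = 0 := by
    apply hQ.1
    intro y
    rw [QuadraticMap.polarBilin_apply_apply]
    unfold QuadraticMap.polar
    rw [hcon, hcon, hcon]
    simp
  have h2 := congrFun this i
  simp at h2

variable [Finite F] [CharP F 2]

/-- all reflections are conjugate (characteristic two) -/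
theorem exists_conj (hQ : (QuadraticMap.polarBilin Q).Nondegenerate)
    (h : Nat.card F ≠ 2 ∨ Fintype.card ι ≠ 4) (u v : ι → F) (hu : Q u ≠ 0) (hv : Q v ≠ 0) :
    ∃ g : ↥(Cfsg.isometryGroup F ⇑Q), g * reflG Q u hu * g⁻¹ = reflG Q v hv := by
  obtain ⟨l, hl⟩ := exists_sqrt (Q u / Q v)
  have hl0 : l ≠ 0 := by
    rintro rfl
    rw [mul_zero] at hl
    exact div_ne_zero hu hv hl.symm
  have hQv' : Q (l • v) = Q u := by
    rw [QuadraticMap.map_smul, hl, smul_eq_mul]
    field_simp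
  have hcard : Nat.card F ≠ 2 ∨ Module.finrank F (ι → F) ≠ 4 := by
    rcases h with h | h
    · exact Or.inl h
    · right
      rw [Module.finrank_pi]
      exact h
  obtain ⟨ρ, hρ, hρu⟩ := exists_mem_RG_map Q hQ hcard u (l • v) hQv'.symm hu
  obtain ⟨g, -, hg⟩ := exists_of_mem_RG Q ρ hρ
  refine ⟨g, ?_⟩
  have hgu : ((g : GL ι F) : Matrix ι ι F) *ᵥ u = l • v := by rw [hg, hρu]
  have hne : Q (((g : GL ι F) : Matrix ι ι F) *ᵥ u) ≠ 0 := by
    rw [hgu, hQv']; exact hu
  rw [conj_reflG Q g u hu hne]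
  apply Subtype.ext
  apply Units.ext
  rw [reflG_val, reflG_val, hgu, reflectionMatrix_smul Q l hl0]

theorem reflG_mul_self' (v : ι → F) (hv : Q v ≠ 0) : reflG Q v hv * reflG Q v hv = 1 := by
  apply Subtype.ext
  apply Units.ext
  exact refl_mul_self Q v hv

theorem reflG_inv (v : ι → F) (hv : Q v ≠ 0) : (reflG Q v hv)⁻¹ = reflG Q v hv :=
  inv_eq_of_mul_eq_one_left (reflG_mul_self' Q v hv)

open scoped commutatorElement in
/-- the product of two reflections lies in `Ω` -/
theorem refl_mul_refl_mem (hQ : (QuadraticMap.polarBilin Q).Nondegenerate)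
    (h : Nat.card F ≠ 2 ∨ Fintype.card ι ≠ 4) (u v : ι → F) (hu : Q u ≠ 0) (hv : Q v ≠ 0) :
    reflG Q u hu * reflG Q v hv ∈ Cfsg.Omega F ⇑Q := by
  obtain ⟨g, hg⟩ := exists_conj Q hQ h u v hu hv
  have : reflG Q u hu * reflG Q v hv = ⁅reflG Q u hu, g⁆ := by
    rw [commutatorElement_def, reflG_inv, ← hg]
    group
  rw [this]
  exact Subgroup.commutator_mem_commutator (Subgroup.mem_top _) (Subgroup.mem_top _)

theorem refl_not_mem (hQ : (QuadraticMap.polarBilin Q).Nondegenerate) (u : ι → F) (hu : Q u ≠ 0) :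
    reflG Q u hu ∉ Cfsg.Omega F ⇑Q := by
  intro hmem
  have := Abelianization.commutator_subset_ker (dkQ Q hQ) hmem
  rw [MonoidHom.mem_ker, dkQ_refl] at this
  have h1 : (1 : F) = 0 := this
  exact one_ne_zero h1

/-- modulo `Ω`, every isometry is trivial or a fixed reflection -/
theorem abel_cases (hQ : (QuadraticMap.polarBilin Q).Nondegenerate)
    (h : Nat.card F ≠ 2 ∨ Fintype.card ι ≠ 4) (u : ι → F) (hu : Q u ≠ 0)
    (g : ↥(Cfsg.isometryGroup F ⇑Q)) :
    g ∈ Cfsg.Omega F ⇑Q ∨ reflG Q u hu * g ∈ Cfsg.Omega F ⇑Q := by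
  have hg : g ∈ Subgroup.closure (reflSet Q) := by
    rw [closure_reflSet_eq_top Q hQ h]; exact Subgroup.mem_top _
  have hcomm : ∀ a b : ↥(Cfsg.isometryGroup F ⇑Q), a * b ∈ Cfsg.Omega F ⇑Q →
      b * a ∈ Cfsg.Omega F ⇑Q := by
    intro a b hab
    have : b * a = a⁻¹ * (a * b) * a := by group
    rw [this]
    have hn : (Cfsg.Omega F ⇑Q).Normal := inferInstance
    have := hn.conj_mem (a * b) hab a⁻¹
    rwa [inv_inv] at this
  induction hg using Subgroup.closure_induction with
  | mem x hx =>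
    obtain ⟨v, hv, hxv⟩ := hx
    right
    have : x = reflG Q v hv := by
      apply Subtype.ext
      apply Units.ext
      rw [hxv, reflG_val]
    rw [this]
    exact refl_mul_refl_mem Q hQ h u v hu hv
  | one => left; exact Subgroup.one_mem _
  | mul x y _ _ ihx ihy =>
    rcases ihx with hx | hx <;> rcases ihy with hy | hy
    · left; exact Subgroup.mul_mem _ hx hy
    · right
      have : reflG Q u hu * (x * y) = (reflG Q u hu * x * (reflG Q u hu)⁻¹) * (reflG Q u hu * y) := by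
        group
      rw [this]
      have hn : (Cfsg.Omega F ⇑Q).Normal := inferInstance
      exact Subgroup.mul_mem _ (hn.conj_mem x hx _) hy
    · right
      rw [← mul_assoc]
      exact Subgroup.mul_mem _ hx hy
    · left
      have h1 : (reflG Q u hu * x) * (y * reflG Q u hu) ∈ Cfsg.Omega F ⇑Q :=
        Subgroup.mul_mem _ hx (hcomm _ _ hy)
      have h2 := hcomm _ _ h1
      have e : y * reflG Q u hu * (reflG Q u hu * x) = y * x := by
        rw [mul_assoc, ← mul_assoc (reflG Q u hu), reflG_mul_self', one_mul]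
      rw [e] at h2
      exact hcomm _ _ h2
  | inv x _ ihx =>
    rcases ihx with hx | hx
    · left; exact Subgroup.inv_mem _ hx
    · right
      have h1 := Subgroup.inv_mem _ hx
      rw [_root_.mul_inv_rev, reflG_inv] at h1
      exact hcomm _ _ h1

/-- `[O(Q) : Ω(Q)] = 2` in characteristic two -/
theorem index_Omega [Nonempty ι] (hQ : (QuadraticMap.polarBilin Q).Nondegenerate)
    (h : Nat.card F ≠ 2 ∨ Fintype.card ι ≠ 4) : (Cfsg.Omega F ⇑Q).index = 2 := by
  obtain ⟨u, hu⟩ := exists_Q_ne_zero' Q hQ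
  rw [Subgroup.index_eq_two_iff]
  refine ⟨reflG Q u hu, ?_⟩
  intro b
  have hn : (Cfsg.Omega F ⇑Q).Normal := inferInstance
  have hcomm : ∀ a b : ↥(Cfsg.isometryGroup F ⇑Q), a * b ∈ Cfsg.Omega F ⇑Q →
      b * a ∈ Cfsg.Omega F ⇑Q := by
    intro a b hab
    have : b * a = a⁻¹ * (a * b) * a := by group
    rw [this]
    have := hn.conj_mem (a * b) hab a⁻¹
    rwa [inv_inv] at this
  rcases abel_cases Q hQ h u hu b with hb | hb
  · right
    refine ⟨hb, ?_⟩
    intro hbr
    have := Subgroup.mul_mem _ (Subgroup.inv_mem _ hb) hbr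
    rw [inv_mul_cancel_left] at this
    exact refl_not_mem Q hQ u hu this
  · left
    refine ⟨hcomm _ _ hb, ?_⟩
    intro hb'
    have := Subgroup.mul_mem _ hb (Subgroup.inv_mem _ hb')
    rw [mul_inv_cancel_right] at this
    exact refl_not_mem Q hQ u hu this

/-- a normal subgroup containing all `r_u r_v` (fixed `u`) has index at most two -/
theorem cases_of_normal (hQ : (QuadraticMap.polarBilin Q).Nondegenerate)
    (h : Nat.card F ≠ 2 ∨ Fintype.card ι ≠ 4) (u : ι → F) (hu : Q u ≠ 0)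
    (H : Subgroup ↥(Cfsg.isometryGroup F ⇑Q)) (hn : H.Normal)
    (hH : ∀ v (hv : Q v ≠ 0), reflG Q u hu * reflG Q v hv ∈ H)
    (g : ↥(Cfsg.isometryGroup F ⇑Q)) :
    g ∈ H ∨ reflG Q u hu * g ∈ H := by
  have hg : g ∈ Subgroup.closure (reflSet Q) := by
    rw [closure_reflSet_eq_top Q hQ h]; exact Subgroup.mem_top _
  have hcomm : ∀ a b : ↥(Cfsg.isometryGroup F ⇑Q), a * b ∈ H → b * a ∈ H := by
    intro a b hab
    have : b * a = a⁻¹ * (a * b) * a := by group
    rw [this]
    have := hn.conj_mem (a * b) hab a⁻¹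
    rwa [inv_inv] at this
  induction hg using Subgroup.closure_induction with
  | mem x hx =>
    obtain ⟨v, hv, hxv⟩ := hx
    right
    have : x = reflG Q v hv := by
      apply Subtype.ext
      apply Units.ext
      rw [hxv, reflG_val]
    rw [this]
    exact hH v hv
  | one => left; exact Subgroup.one_mem _
  | mul x y _ _ ihx ihy =>
    rcases ihx with hx | hx <;> rcases ihy with hy | hy
    · left; exact Subgroup.mul_mem _ hx hy
    · right
      have : reflG Q u hu * (x * y) = (reflG Q u hu * x * (reflG Q u hu)⁻¹) * (reflG Q u hu * y) := by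
        group
      rw [this]
      exact Subgroup.mul_mem _ (hn.conj_mem x hx _) hy
    · right
      rw [← mul_assoc]
      exact Subgroup.mul_mem _ hx hy
    · left
      have h1 : (reflG Q u hu * x) * (y * reflG Q u hu) ∈ H :=
        Subgroup.mul_mem _ hx (hcomm _ _ hy)
      have h2 := hcomm _ _ h1
      have e : y * reflG Q u hu * (reflG Q u hu * x) = y * x := by
        rw [mul_assoc, ← mul_assoc (reflG Q u hu), reflG_mul_self', one_mul]
      rw [e] at h2
      exact hcomm _ _ h2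
  | inv x _ ihx =>
    rcases ihx with hx | hx
    · left; exact Subgroup.inv_mem _ hx
    · right
      have h1 := Subgroup.inv_mem _ hx
      rw [_root_.mul_inv_rev, reflG_inv] at h1
      exact hcomm _ _ h1

/-- the set of products of two reflections -/
def pairSet : Set ↥(Cfsg.isometryGroup F ⇑Q) :=
  {g | ∃ u v : ι → F, Q u ≠ 0 ∧ Q v ≠ 0 ∧ ((g : GL ι F) : Matrix ι ι F) =
    Cfsg.reflectionMatrix ⇑Q u * Cfsg.reflectionMatrix ⇑Q v}

theorem mem_pairSet_iff (g : ↥(Cfsg.isometryGroup F ⇑Q)) :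
    g ∈ pairSet Q ↔ ∃ u v, ∃ (hu : Q u ≠ 0) (hv : Q v ≠ 0), g = reflG Q u hu * reflG Q v hv := by
  constructor
  · rintro ⟨u, v, hu, hv, hg⟩
    refine ⟨u, v, hu, hv, ?_⟩
    apply Subtype.ext
    apply Units.ext
    rw [hg]
    rfl
  · rintro ⟨u, v, hu, hv, rfl⟩
    exact ⟨u, v, hu, hv, rfl⟩

theorem closure_pairSet_normal : (Subgroup.closure (pairSet Q)).Normal := by
  constructor
  intro x hx g
  induction hx using Subgroup.closure_induction with
  | mem x hx =>
    rw [mem_pairSet_iff] at hx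
    obtain ⟨u, v, hu, hv, rfl⟩ := hx
    apply Subgroup.subset_closure
    rw [mem_pairSet_iff]
    have hg : ∀ x, Q (((g : GL ι F) : Matrix ι ι F) *ᵥ x) = Q x :=
      (Cfsg.Agent.Lib.H11.IsoReindex.mem_iso_iff' _ _).mp g.2
    refine ⟨((g : GL ι F) : Matrix ι ι F) *ᵥ u, ((g : GL ι F) : Matrix ι ι F) *ᵥ v,
      by rw [hg]; exact hu, by rw [hg]; exact hv, ?_⟩
    rw [← conj_reflG Q g u hu, ← conj_reflG Q g v hv]
    group
  | one =>
    rw [mul_one, mul_inv_cancel]
    exact Subgroup.one_mem _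
  | mul x y _ _ ihx ihy =>
    have : g * (x * y) * g⁻¹ = (g * x * g⁻¹) * (g * y * g⁻¹) := by group
    rw [this]
    exact Subgroup.mul_mem _ ihx ihy
  | inv x _ ihx =>
    have : g * x⁻¹ * g⁻¹ = (g * x * g⁻¹)⁻¹ := by group
    rw [this]
    exact Subgroup.inv_mem _ ihx

/-- `Ω` is generated by the products of two reflections (characteristic two) -/
theorem Omega_eq_closure_pairSet [Nonempty ι] (hQ : (QuadraticMap.polarBilin Q).Nondegenerate)
    (h : Nat.card F ≠ 2 ∨ Fintype.card ι ≠ 4) :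
    Cfsg.Omega F ⇑Q = Subgroup.closure (pairSet Q) := by
  have hle : Subgroup.closure (pairSet Q) ≤ Cfsg.Omega F ⇑Q := by
    rw [Subgroup.closure_le]
    intro g hg
    rw [mem_pairSet_iff] at hg
    obtain ⟨u, v, hu, hv, rfl⟩ := hg
    exact refl_mul_refl_mem Q hQ h u v hu hv
  apply le_antisymm _ hle
  intro g hg
  obtain ⟨u, hu⟩ := exists_Q_ne_zero' Q hQ
  rcases cases_of_normal Q hQ h u hu (Subgroup.closure (pairSet Q)) (closure_pairSet_normal Q)
    (fun v hv => Subgroup.subset_closure ((mem_pairSet_iff Q _).mpr ⟨u, v, hu, hv, rfl⟩)) g with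
    h1 | h1
  · exact h1
  · exfalso
    have h2 := hle h1
    have h3 := Subgroup.mul_mem _ h2 (Subgroup.inv_mem _ hg)
    rw [mul_inv_cancel_right] at h3
    exact refl_not_mem Q hQ u hu h3

/-- `Ω` is transitive on the nonsingular points (characteristic two) -/
theorem exists_Omega_map (hQ : (QuadraticMap.polarBilin Q).Nondegenerate)
    (h : Nat.card F ≠ 2 ∨ Fintype.card ι ≠ 4) (u v : ι → F) (hu : Q u ≠ 0) (hv : Q v ≠ 0) :
    ∃ g : ↥(Cfsg.isometryGroup F ⇑Q), g ∈ Cfsg.Omega F ⇑Q ∧ ∃ l : F, l ≠ 0 ∧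
      ((g : GL ι F) : Matrix ι ι F) *ᵥ u = l • v := by
  obtain ⟨l, hl⟩ := exists_sqrt (Q u / Q v)
  have hl0 : l ≠ 0 := by
    rintro rfl
    rw [mul_zero] at hl
    exact div_ne_zero hu hv hl.symm
  have hQv' : Q (l • v) = Q u := by
    rw [QuadraticMap.map_smul, hl, smul_eq_mul]
    field_simp
  have hcard : Nat.card F ≠ 2 ∨ Module.finrank F (ι → F) ≠ 4 := by
    rcases h with h | h
    · exact Or.inl h
    · right
      rw [Module.finrank_pi]
      exact h
  obtain ⟨ρ, hρ, hρu⟩ := exists_mem_RG_map Q hQ hcard u (l • v) hQv'.symm hu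
  obtain ⟨g, -, hg⟩ := exists_of_mem_RG Q ρ hρ
  have hgu : ((g : GL ι F) : Matrix ι ι F) *ᵥ u = l • v := by rw [hg, hρu]
  have hlv : Q (l • v) ≠ 0 := by rw [hQv']; exact hu
  rcases abel_cases Q hQ h (l • v) hlv g with h1 | h1
  · exact ⟨g, h1, l, hl0, hgu⟩
  · refine ⟨reflG Q (l • v) hlv * g, h1, l, hl0, ?_⟩
    show (Cfsg.reflectionMatrix ⇑Q (l • v) * ((g : GL ι F) : Matrix ι ι F)) *ᵥ u = l • v
    rw [← Matrix.mulVec_mulVec, hgu, Cfsg.Agent.Lib.H4.reflectionMatrix_mulVec,
      Cfsg.Agent.Lib.H4.polar_self]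
    have : (2 : F) = 0 := CharTwo.two_eq_zero
    rw [this, zero_mul, mul_zero, zero_smul, sub_zero]

/-- `Ω` is the kernel of the Dickson homomorphism -/
theorem mem_Omega_iff_dkQ (hQ : (QuadraticMap.polarBilin Q).Nondegenerate)
    (h : Nat.card F ≠ 2 ∨ Fintype.card ι ≠ 4) (g : ↥(Cfsg.isometryGroup F ⇑Q)) :
    g ∈ Cfsg.Omega F ⇑Q ↔ dkQ Q hQ g = 1 := by
  constructor
  · intro hg
    have := Abelianization.commutator_subset_ker (dkQ Q hQ) hg
    rwa [MonoidHom.mem_ker] at this
  · intro hg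
    by_cases hne : Nonempty ι
    · obtain ⟨u, hu⟩ := exists_Q_ne_zero' Q hQ
      rcases abel_cases Q hQ h u hu g with h1 | h1
      · exact h1
      · exfalso
        have h3 := Abelianization.commutator_subset_ker (dkQ Q hQ) h1
        rw [MonoidHom.mem_ker, map_mul, hg, mul_one, dkQ_refl] at h3
        have h4 : (1 : F) = 0 := h3
        exact one_ne_zero h4
    · haveI : IsEmpty ι := not_nonempty_iff.mp hne
      have : g = 1 := by
        apply Subtype.ext
        apply Units.ext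
        exact Subsingleton.elim _ _
      rw [this]
      exact Subgroup.one_mem _

theorem dkQ_list (hQ : (QuadraticMap.polarBilin Q).Nondegenerate) (vs : List (ι → F))
    (hvs : ∀ v ∈ vs, Q v ≠ 0) (g : ↥(Cfsg.isometryGroup F ⇑Q))
    (hg : ((g : GL ι F) : Matrix ι ι F) = (vs.map (fun v => Cfsg.reflectionMatrix ⇑Q v)).prod) :
    dkQ Q hQ g = Multiplicative.ofAdd ((vs.length : ℕ) : F) := by
  induction vs generalizing g with
  | nil =>
    have : g = 1 := by
      apply Subtype.ext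
      apply Units.ext
      rw [hg]
      rfl
    rw [this, map_one]
    simp
  | cons v vs ih =>
    have hv : Q v ≠ 0 := hvs v List.mem_cons_self
    have hg' : (((reflG Q v hv * g : ↥(Cfsg.isometryGroup F ⇑Q)) : GL ι F) : Matrix ι ι F) =
        (vs.map (fun v => Cfsg.reflectionMatrix ⇑Q v)).prod := by
      rw [Subgroup.coe_mul, Units.val_mul, hg, List.map_cons, List.prod_cons, ← Matrix.mul_assoc,
        reflG_val, refl_mul_self Q v hv, Matrix.one_mul]
    have h1 := ih (fun w hw => hvs w (List.mem_cons_of_mem _ hw)) _ hg'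
    rw [map_mul, dkQ_refl] at h1
    have h3 : dkQ Q hQ g = (Multiplicative.ofAdd (1 : F))⁻¹ *
        Multiplicative.ofAdd ((vs.length : ℕ) : F) := by
      rw [← h1, inv_mul_cancel_left]
    rw [h3, List.length_cons, ← ofAdd_neg, ← ofAdd_add, CharTwo.neg_eq]
    congr 1
    push_cast
    ring

/-- a product of reflections lies in `Ω` iff the number of factors is even -/
theorem mem_Omega_iff_list_even (hQ : (QuadraticMap.polarBilin Q).Nondegenerate)
    (h : Nat.card F ≠ 2 ∨ Fintype.card ι ≠ 4) (vs : List (ι → F))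
    (hvs : ∀ v ∈ vs, Q v ≠ 0) (g : ↥(Cfsg.isometryGroup F ⇑Q))
    (hg : ((g : GL ι F) : Matrix ι ι F) = (vs.map (fun v => Cfsg.reflectionMatrix ⇑Q v)).prod) :
    g ∈ Cfsg.Omega F ⇑Q ↔ Even vs.length := by
  rw [mem_Omega_iff_dkQ Q hQ h, dkQ_list Q hQ vs hvs g hg]
  have : (Multiplicative.ofAdd ((vs.length : ℕ) : F) = 1) ↔ ((vs.length : ℕ) : F) = 0 := by
    constructor
    · intro h1; exact h1
    · intro h1; exact h1
  rw [this, CharP.cast_eq_zero_iff F 2, even_iff_two_dvd]

end Cfsg.Agent.Lib.H13.Char2Omega
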