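import Cfsg.Agent.Lib.H13.SpAbs

set_option autoImplicit false

namespace Cfsg.Agent.Lib.H13.Char2Gen

open Module QuadraticMap

theorem neg_eq_self (F : Type*) [Field F] [CharP F 2] {V : Type*} [AddCommGroup V] [Module F V]
    (v : V) : -v = v := by
  rw [← neg_one_smul F v, CharTwo.neg_eq, one_smul]

theorem add_self_zero (F : Type*) [Field F] [CharP F 2] {V : Type*} [AddCommGroup V] [Module F V]
    (v : V) : v + v = 0 := by
  rw [← two_smul F v, CharTwo.two_eq_zero, zero_smul]

theorem sub_eq_add' (F : Type*) [Field F] [CharP F 2] {V : Type*} [AddCommGroup V] [Module F V]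
    (v w : V) : v - w = v + w := by
  rw [sub_eq_add_neg, neg_eq_self F]

variable {F : Type*} [Field F] {V : Type*} [AddCommGroup V] [Module F V] (Q : QuadraticForm F V)

/-- the reflection `x ↦ x - Q(v)⁻¹ B(v,x) v` as a linear map -/
def rMap (v : V) : V →ₗ[F] V :=
  LinearMap.id - (Q v)⁻¹ • (polarBilin Q v).smulRight v

theorem rMap_apply (v x : V) : rMap Q v x = x - ((Q v)⁻¹ * polar (⇑Q) v x) • v := by
  simp [rMap, mul_smul]

theorem Q_add' (x y : V) : Q (x + y) = Q x + Q y + polar (⇑Q) x y := by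
  unfold polar
  ring

theorem Q_rMap (v : V) (hv : Q v ≠ 0) (x : V) : Q (rMap Q v x) = Q x := by
  rw [rMap_apply, sub_eq_add_neg, ← neg_smul, Q_add', QuadraticMap.map_smul, polar_smul_right,
    polar_comm (⇑Q) x v]
  simp only [smul_eq_mul]
  field_simp
  ring

theorem rMap_rMap (v : V) (hv : Q v ≠ 0) (x : V) : rMap Q v (rMap Q v x) = x := by
  rw [rMap_apply Q v (rMap Q v x), rMap_apply, polar_sub_right, polar_smul_right, polar_self]
  have : (Q v)⁻¹ * (polar (⇑Q) v x - ((Q v)⁻¹ * polar (⇑Q) v x) • (2 • Q v)) =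
      -((Q v)⁻¹ * polar (⇑Q) v x) := by
    simp only [smul_eq_mul, nsmul_eq_mul, Nat.cast_ofNat]
    field_simp
    ring
  rw [this, neg_smul]
  abel

/-- the reflection as a linear equivalence -/
def rEquiv (v : V) (hv : Q v ≠ 0) : V ≃ₗ[F] V :=
  LinearEquiv.ofLinearMap (rMap Q v) (rMap Q v)
    (by ext x; exact rMap_rMap Q v hv x) (by ext x; exact rMap_rMap Q v hv x)

theorem rEquiv_apply (v : V) (hv : Q v ≠ 0) (x : V) :
    rEquiv Q v hv x = x - ((Q v)⁻¹ * polar (⇑Q) v x) • v := rMap_apply Q v x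

/-- the group generated by the reflections -/
def RG : Subgroup (V ≃ₗ[F] V) := Subgroup.closure {g | ∃ v hv, g = rEquiv Q v hv}

theorem rEquiv_mem (v : V) (hv : Q v ≠ 0) : rEquiv Q v hv ∈ RG Q :=
  Subgroup.subset_closure ⟨v, hv, rfl⟩

theorem isom_of_mem_RG (g : V ≃ₗ[F] V) (hg : g ∈ RG Q) : ∀ x, Q (g x) = Q x := by
  induction hg using Subgroup.closure_induction with
  | mem g hg =>
    obtain ⟨v, hv, rfl⟩ := hg
    intro x
    exact Q_rMap Q v hv x
  | one => intro x; rfl
  | mul g h _ _ ihg ihh =>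
    intro x
    show Q (g (h x)) = Q x
    rw [ihg, ihh]
  | inv g _ ihg =>
    intro x
    have := ihg (g⁻¹ x)
    rw [show g (g⁻¹ x) = x from g.apply_symm_apply x] at this
    exact this.symm

theorem polar_of_isom (g : V ≃ₗ[F] V) (hg : ∀ x, Q (g x) = Q x) (x y : V) :
    polar (⇑Q) (g x) (g y) = polar (⇑Q) x y := by
  unfold polar
  rw [← map_add, hg, hg, hg]

section char2

variable [CharP F 2]

theorem polar_self_zero (x : V) : polar (⇑Q) x x = 0 := by
  rw [polar_self]
  simp only [nsmul_eq_mul, Nat.cast_ofNat]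
  rw [CharTwo.two_eq_zero, zero_mul]

/-- `r_{u+v}` maps `u` to `v` when `Q u = Q v` and `B(u,v) ≠ 0` -/
theorem rMap_move (u v : V) (hQ : Q u = Q v) (h : polar (⇑Q) u v ≠ 0) :
    Q (u + v) ≠ 0 ∧ rMap Q (u + v) u = v := by
  have h1 : Q (u + v) = polar (⇑Q) u v := by
    rw [Q_add', hQ, CharTwo.add_self_eq_zero, zero_add]
  refine ⟨by rw [h1]; exact h, ?_⟩
  rw [rMap_apply, h1, polar_add_left, polar_self_zero, zero_add, polar_comm (⇑Q) v u,
    inv_mul_cancel₀ h, one_smul]
  rw [sub_add_eq_sub_sub, sub_self, zero_sub, neg_eq_self F]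

omit Q in
theorem exists_sqrt [Finite F] (a : F) : ∃ r : F, r * r = a := by
  obtain ⟨r, hr⟩ := FiniteField.isSquare_of_char_two (ringChar.eq F 2) a
  exact ⟨r, hr.symm⟩

theorem exists_both_ne (hnd : (polarBilin Q).Nondegenerate) (u v : V) (hu : u ≠ 0) (hv : v ≠ 0) :
    ∃ y, polar (⇑Q) u y ≠ 0 ∧ polar (⇑Q) v y ≠ 0 := by
  obtain ⟨y₁, hy₁⟩ : ∃ y, polar (⇑Q) u y ≠ 0 := by
    by_contra h
    push Not at h
    exact hu (hnd.1 u (fun y => by rw [polarBilin_apply_apply]; exact h y))
  obtain ⟨y₂, hy₂⟩ : ∃ y, polar (⇑Q) v y ≠ 0 := by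
    by_contra h
    push Not at h
    exact hv (hnd.1 v (fun y => by rw [polarBilin_apply_apply]; exact h y))
  by_cases h1 : polar (⇑Q) v y₁ = 0
  · by_cases h2 : polar (⇑Q) u y₂ = 0
    · refine ⟨y₁ + y₂, ?_, ?_⟩
      · rw [polar_add_right, h2, add_zero]; exact hy₁
      · rw [polar_add_right, h1, zero_add]; exact hy₂
    · exact ⟨y₂, h2, hy₂⟩
  · exact ⟨y₁, hy₁, h1⟩

theorem linearIndependent_pair_of (u v : V) (c : F) (hu : Q u = c) (hv : Q v = c) (hc : c ≠ 0)
    (huv : polar (⇑Q) u v = 0) (hne : u ≠ v) : LinearIndependent F ![u, v] := by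
  rw [LinearIndependent.pair_iff]
  intro a b hab
  have h1 : Q (a • u + b • v) = (a + b) * (a + b) * c := by
    rw [Q_add', QuadraticMap.map_smul, QuadraticMap.map_smul, polar_smul_left, polar_smul_right, huv,
      hu, hv]
    simp only [smul_eq_mul, mul_zero, add_zero]
    have : a * b * c + a * b * c = 0 := CharTwo.add_self_eq_zero _
    linear_combination -this
  rw [hab, map_zero] at h1
  have h2 : a + b = 0 := by
    rcases mul_eq_zero.mp h1.symm with h | h
    · exact mul_self_eq_zero.mp h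
    · exact absurd h hc
  have h3 : b = a := by
    have : b = -a := by linear_combination h2
    rw [this, CharTwo.neg_eq]
  subst h3
  by_cases ha : b = 0
  · exact ⟨ha, ha⟩
  · exfalso
    apply hne
    rw [← smul_add] at hab
    have := (smul_eq_zero.mp hab).resolve_left ha
    have h4 : u = -v := by
      rw [eq_neg_iff_add_eq_zero]; exact this
    rw [h4, neg_eq_self F]

theorem exists_Q_ne_zero [Finite F] [FiniteDimensional F V] (hnd : (polarBilin Q).Nondegenerate)
    (hcard : Nat.card F ≠ 2 ∨ finrank F V ≠ 4) (u v : V) (c : F) (hu : Q u = c) (hv : Q v = c)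
    (hc : c ≠ 0) (huv : polar (⇑Q) u v = 0) (hne : u ≠ v) :
    ∃ y, polar (⇑Q) u y ≠ 0 ∧ polar (⇑Q) v y ≠ 0 ∧ Q y ≠ 0 := by
  classical
  have hu0 : u ≠ 0 := by
    rintro rfl
    rw [map_zero] at hu
    exact hc hu.symm
  have hv0 : v ≠ 0 := by
    rintro rfl
    rw [map_zero] at hv
    exact hc hv.symm
  obtain ⟨y₀, hy1, hy2⟩ := exists_both_ne Q hnd u v hu0 hv0
  by_cases hQy : Q y₀ ≠ 0
  · exact ⟨y₀, hy1, hy2, hQy⟩
  push Not at hQy
  rcases hcard with hcard | hcard
  · -- more than two elements: move along `u`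
    by_contra hcon
    push Not at hcon
    have key : ∀ a : F, a ≠ 0 → a = polar (⇑Q) u y₀ / c := by
      intro a ha
      have h1 := hcon (y₀ + a • u) (by
        rw [polar_add_right, polar_smul_right, polar_self_zero, smul_zero, add_zero]; exact hy1)
        (by
          rw [polar_add_right, polar_smul_right, polar_comm (⇑Q) v u, huv, smul_zero, add_zero]
          exact hy2)
      rw [Q_add', QuadraticMap.map_smul, polar_smul_right, hQy, hu, polar_comm (⇑Q) y₀ u] at h1
      simp only [smul_eq_mul, zero_add] at h1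
      have h2 : a * (a * c + polar (⇑Q) u y₀) = 0 := by linear_combination h1
      have h3 := (mul_eq_zero.mp h2).resolve_left ha
      have h4 : a * c = polar (⇑Q) u y₀ := by
        have : a * c = - polar (⇑Q) u y₀ := by linear_combination h3
        rw [this, CharTwo.neg_eq]
      rw [← h4]
      field_simp
    have hinj : Function.Injective (fun a : F => decide (a = 0)) := by
      intro a b hab
      simp only [decide_eq_decide] at hab
      by_cases ha : a = 0
      · rw [ha, (hab.mp ha)]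
      · have hb : b ≠ 0 := fun h => ha (hab.mpr h)
        rw [key a ha, key b hb]
    have h1 := Nat.card_le_card_of_injective _ hinj
    have hb : Nat.card Bool = 2 := by simp
    rw [hb] at h1
    have h2 : 1 < Nat.card F := Finite.one_lt_card
    omega
  · -- dimension different from four: move inside `⟨u,v⟩^⊥`
    by_contra hcon
    push Not at hcon
    set T := Submodule.span F (Set.range ![u, v]) with hT
    set W := LinearMap.BilinForm.orthogonal (polarBilin Q) T with hW
    have hrefl : (polarBilin Q).IsRefl := by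
      intro x y h
      rw [polarBilin_apply_apply] at h ⊢
      rw [polar_comm]; exact h
    have hli := linearIndependent_pair_of Q u v c hu hv hc huv hne
    have hTdim : finrank F T = 2 := by
      rw [hT, finrank_span_eq_card hli]
      simp
    have huT : u ∈ T := Submodule.subset_span ⟨0, rfl⟩
    have hvT : v ∈ T := Submodule.subset_span ⟨1, rfl⟩
    have hWmem : ∀ z, z ∈ W ↔ polar (⇑Q) u z = 0 ∧ polar (⇑Q) v z = 0 := by
      intro z
      rw [hW, LinearMap.BilinForm.mem_orthogonal_iff]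
      constructor
      · intro h
        refine ⟨?_, ?_⟩
        · have := h u huT
          rwa [polarBilin_apply_apply] at this
        · have := h v hvT
          rwa [polarBilin_apply_apply] at this
      · rintro ⟨h1, h2⟩ t ht
        rw [polarBilin_apply_apply]
        rw [hT] at ht
        induction ht using Submodule.span_induction with
        | mem x hx =>
          obtain ⟨i, rfl⟩ := hx
          fin_cases i
          · exact h1
          · exact h2
        | zero => simp [polar]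
        | add x y _ _ hx hy => rw [polar_add_left, hx, hy, add_zero]
        | smul a x _ hx => rw [polar_smul_left, hx, smul_zero]
    have hTW : T ≤ W := by
      rw [hT, Submodule.span_le]
      rintro x ⟨i, rfl⟩
      rw [SetLike.mem_coe, hWmem]
      fin_cases i
      · exact ⟨polar_self_zero Q u, by rw [polar_comm]; exact huv⟩
      · exact ⟨huv, polar_self_zero Q v⟩
    have hzero : ∀ z ∈ W, Q z + polar (⇑Q) y₀ z = 0 := by
      intro z hz
      rw [hWmem] at hz
      have := hcon (y₀ + z) (by rw [polar_add_right, hz.1, add_zero]; exact hy1)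
        (by rw [polar_add_right, hz.2, add_zero]; exact hy2)
      rw [Q_add', hQy, zero_add] at this
      exact this
    have hWW : W ≤ LinearMap.BilinForm.orthogonal (polarBilin Q) W := by
      intro z hz
      rw [LinearMap.BilinForm.mem_orthogonal_iff]
      intro z' hz'
      rw [polarBilin_apply_apply]
      have h1 := hzero z hz
      have h2 := hzero z' hz'
      have h3 := hzero (z' + z) (W.add_mem hz' hz)
      rw [Q_add', polar_add_right] at h3
      linear_combination h3 - h1 - h2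
    rw [hW, LinearMap.BilinForm.orthogonal_orthogonal hnd hrefl, ← hW] at hWW
    have hWdim := LinearMap.BilinForm.finrank_orthogonal hnd T
    rw [← hW] at hWdim
    have h5 := Submodule.finrank_mono hWW
    have h6 := Submodule.finrank_mono hTW
    have h7 : finrank F T ≤ finrank F V := Submodule.finrank_le T
    omega

/-- one reflection step -/
theorem exists_step (u v : V) (hQ : Q u = Q v) (h : polar (⇑Q) u v ≠ 0) :
    ∃ ρ ∈ RG Q, ρ u = v := by
  obtain ⟨h1, h2⟩ := rMap_move Q u v hQ h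
  exact ⟨rEquiv Q (u + v) h1, rEquiv_mem Q _ h1, h2⟩

/-- **Lemma A**: the reflections act transitively on the vectors of a given non-zero norm -/
theorem exists_mem_RG_map [Finite F] [FiniteDimensional F V] (hnd : (polarBilin Q).Nondegenerate)
    (hcard : Nat.card F ≠ 2 ∨ finrank F V ≠ 4) (u v : V) (hQ : Q u = Q v) (hu : Q u ≠ 0) :
    ∃ ρ ∈ RG Q, ρ u = v := by
  by_cases h : polar (⇑Q) u v ≠ 0
  · exact exists_step Q u v hQ h
  push Not at h
  by_cases hne : u = v
  · exact ⟨1, Subgroup.one_mem _, by rw [hne]; rfl⟩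
  obtain ⟨y, hy1, hy2, hy3⟩ := exists_Q_ne_zero Q hnd hcard u v (Q u) rfl hQ.symm hu h hne
  obtain ⟨l, hl⟩ := exists_sqrt (Q u / Q y)
  have hl0 : l ≠ 0 := by
    rintro rfl
    rw [mul_zero] at hl
    exact (div_ne_zero hu hy3) hl.symm
  set w := l • y with hw
  have hQw : Q w = Q u := by
    rw [hw, QuadraticMap.map_smul, smul_eq_mul, hl]
    field_simp
  have h1 : polar (⇑Q) u w ≠ 0 := by
    rw [hw, polar_smul_right, smul_eq_mul]
    exact mul_ne_zero hl0 hy1
  have h2 : polar (⇑Q) w v ≠ 0 := by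
    rw [hw, polar_smul_left, smul_eq_mul, polar_comm]
    exact mul_ne_zero hl0 hy2
  obtain ⟨ρ₁, hρ₁, e₁⟩ := exists_step Q u w hQw.symm h1
  obtain ⟨ρ₂, hρ₂, e₂⟩ := exists_step Q w v (hQw.trans hQ) h2
  refine ⟨ρ₂ * ρ₁, mul_mem hρ₂ hρ₁, ?_⟩
  show ρ₂ (ρ₁ u) = v
  rw [e₁, e₂]

end char2

section lemmaB

variable [CharP F 2] (u w : V)

/-- the complement `⟨u,w⟩^⊥` -/
def UU : Submodule F V := LinearMap.ker (polarBilin Q u) ⊓ LinearMap.ker (polarBilin Q w)

theorem mem_UU (x : V) : x ∈ UU Q u w ↔ polar (⇑Q) u x = 0 ∧ polar (⇑Q) w x = 0 := by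
  rw [UU, Submodule.mem_inf, LinearMap.mem_ker, LinearMap.mem_ker, polarBilin_apply_apply,
    polarBilin_apply_apply]

/-- the projection onto `⟨u,w⟩^⊥` -/
def pMap : V →ₗ[F] V :=
  LinearMap.id - ((polarBilin Q).flip w).smulRight u - (polarBilin Q u).smulRight w

theorem pMap_apply (x : V) :
    pMap Q u w x = x - polar (⇑Q) x w • u - polar (⇑Q) u x • w := by
  simp [pMap]

theorem pMap_mem (huw : polar (⇑Q) u w = 1) (x : V) : pMap Q u w x ∈ UU Q u w := by
  rw [mem_UU, pMap_apply]
  constructor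
  · rw [polar_sub_right, polar_sub_right, polar_smul_right, polar_smul_right, polar_self_zero, huw]
    simp
  · rw [polar_sub_right, polar_sub_right, polar_smul_right, polar_smul_right, polar_self_zero,
      polar_comm (⇑Q) w u, huw, polar_comm (⇑Q) w x]
    simp

theorem pMap_of_mem (x : V) (hx : x ∈ UU Q u w) : pMap Q u w x = x := by
  rw [mem_UU] at hx
  rw [pMap_apply, polar_comm (⇑Q) x w, hx.1, hx.2]
  simp

theorem pMap_u (huw : polar (⇑Q) u w = 1) : pMap Q u w u = 0 := by
  rw [pMap_apply, huw, polar_self_zero]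
  simp

theorem decomp (x : V) : x = polar (⇑Q) x w • u + polar (⇑Q) u x • w + pMap Q u w x := by
  rw [pMap_apply]
  abel

/-- the restricted alternating form -/
def BU : LinearMap.BilinForm F (UU Q u w) := Cfsg.Agent.Lib.H13.restrictB (polarBilin Q) (UU Q u w)

theorem BU_apply (x y : UU Q u w) : BU Q u w x y = polar (⇑Q) (x : V) (y : V) := by
  rw [BU, Cfsg.Agent.Lib.H13.restrictB_apply, polarBilin_apply_apply]

theorem BU_alt (x : UU Q u w) : BU Q u w x x = 0 := by
  rw [BU_apply, polar_self_zero]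

theorem BU_nondeg (hnd : (polarBilin Q).Nondegenerate) (huw : polar (⇑Q) u w = 1) (t : UU Q u w)
    (ht : ∀ t' : UU Q u w, BU Q u w t t' = 0) : t = 0 := by
  apply Subtype.ext
  apply hnd.1
  intro x
  rw [polarBilin_apply_apply]
  have hx := decomp Q u w x
  have htU := (mem_UU Q u w t).mp t.2
  rw [hx, polar_add_right, polar_add_right, polar_smul_right, polar_smul_right,
    polar_comm (⇑Q) (t : V) u, polar_comm (⇑Q) (t : V) w, htU.1, htU.2]
  have := ht ⟨pMap Q u w x, pMap_mem Q u w huw x⟩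
  rw [BU_apply] at this
  rw [this]
  simp

/-- the projection as a map into the complement -/
def pU (huw : polar (⇑Q) u w = 1) : V →ₗ[F] UU Q u w :=
  (pMap Q u w).codRestrict (UU Q u w) (pMap_mem Q u w huw)

theorem pU_val (huw : polar (⇑Q) u w = 1) (x : V) : ((pU Q u w huw x : UU Q u w) : V) = pMap Q u w x :=
  rfl

/-- the map induced on the complement -/
def bar (huw : polar (⇑Q) u w = 1) (g : V →ₗ[F] V) : UU Q u w →ₗ[F] UU Q u w :=
  (pU Q u w huw).comp (g.comp (UU Q u w).subtype)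

theorem bar_val (huw : polar (⇑Q) u w = 1) (g : V →ₗ[F] V) (t : UU Q u w) :
    ((bar Q u w huw g t : UU Q u w) : V) = pMap Q u w (g t) := rfl

theorem bar_id (huw : polar (⇑Q) u w = 1) : bar Q u w huw LinearMap.id = LinearMap.id := by
  ext t
  rw [bar_val]
  exact pMap_of_mem Q u w _ t.2

/-- `g t = ḡ t + B(g t, w) u` for isometries fixing `u` -/
theorem apply_eq_bar_add (huw : polar (⇑Q) u w = 1) (g : V ≃ₗ[F] V) (hg : ∀ x, Q (g x) = Q x)
    (hgu : g u = u) (t : UU Q u w) :
    g t = (bar Q u w huw (g : V →ₗ[F] V) t : V) + polar (⇑Q) (g t) w • u := by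
  have h1 : polar (⇑Q) u (g t) = 0 := by
    have := polar_of_isom Q g hg u t
    rw [hgu] at this
    rw [this]
    exact ((mem_UU Q u w t).mp t.2).1
  have h2 := decomp Q u w (g t)
  rw [h1, zero_smul, add_zero] at h2
  rw [bar_val]
  rw [add_comm]
  exact h2

theorem bar_comp (huw : polar (⇑Q) u w = 1) (g h : V ≃ₗ[F] V) (hgu : g u = u)
    (hh : ∀ x, Q (h x) = Q x) (hhu : h u = u) :
    bar Q u w huw ((g * h : V ≃ₗ[F] V) : V →ₗ[F] V) =
      (bar Q u w huw (g : V →ₗ[F] V)).comp (bar Q u w huw (h : V →ₗ[F] V)) := by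
  ext t
  rw [LinearMap.comp_apply, bar_val, bar_val]
  show pMap Q u w (g (h t)) = _
  rw [apply_eq_bar_add Q u w huw h hh hhu t, map_add, map_smul, map_add, map_smul, hgu,
    pMap_u Q u w huw, smul_zero, add_zero]
  rfl

theorem bar_polar (huw : polar (⇑Q) u w = 1) (g : V ≃ₗ[F] V) (hg : ∀ x, Q (g x) = Q x)
    (hgu : g u = u) (t t' : UU Q u w) :
    polar (⇑Q) (bar Q u w huw (g : V →ₗ[F] V) t : V) (bar Q u w huw (g : V →ₗ[F] V) t' : V) =
      polar (⇑Q) (t : V) (t' : V) := by
  have h1 := apply_eq_bar_add Q u w huw g hg hgu t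
  have h2 := apply_eq_bar_add Q u w huw g hg hgu t'
  have h3 := polar_of_isom Q g hg t t'
  have hb1 := (mem_UU Q u w _).mp (bar Q u w huw (g : V →ₗ[F] V) t).2
  have hb2 := (mem_UU Q u w _).mp (bar Q u w huw (g : V →ₗ[F] V) t').2
  rw [h1, h2, polar_add_left, polar_add_right, polar_add_right, polar_smul_left, polar_smul_right,
    polar_smul_left, polar_smul_right, polar_self_zero, hb2.1,
    polar_comm (⇑Q) (bar Q u w huw (g : V →ₗ[F] V) t : V) u, hb1.1] at h3
  simpa using h3

open Cfsg.Agent.Lib.H13.SpAbs in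
/-- lift of a transvection of the complement to a reflection fixing `u` -/
theorem exists_lift_tv [Finite F] (huw : polar (⇑Q) u w = 1) (hu : Q u ≠ 0) (t : UU Q u w) (κ : F) :
    ∃ ρ ∈ RG Q, ρ u = u ∧ bar Q u w huw (ρ : V →ₗ[F] V) =
      (tvEquiv (BU Q u w) (BU_alt Q u w) t κ : UU Q u w →ₗ[F] UU Q u w) := by
  by_cases hκ : κ = 0
  · refine ⟨1, Subgroup.one_mem _, rfl, ?_⟩
    subst hκ
    ext x
    rw [LinearEquiv.coe_coe, tvEquiv_apply, zero_mul, zero_smul, add_zero]
    exact pMap_of_mem Q u w _ x.2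
  · obtain ⟨a, ha⟩ := exists_sqrt ((κ⁻¹ + Q (t : V)) / Q u)
    have htU := (mem_UU Q u w t).mp t.2
    set z := a • u + (t : V) with hz
    have hQz : Q z = κ⁻¹ := by
      rw [hz, Q_add', QuadraticMap.map_smul, polar_smul_left, htU.1, smul_eq_mul, smul_eq_mul, ha,
        div_mul_cancel₀ _ hu, mul_zero, add_zero, add_assoc, CharTwo.add_self_eq_zero, add_zero]
    have hz0 : Q z ≠ 0 := by rw [hQz]; exact inv_ne_zero hκ
    have hzu : polar (⇑Q) z u = 0 := by
      rw [hz, polar_add_left, polar_smul_left, polar_self_zero, polar_comm, htU.1]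
      simp
    refine ⟨rEquiv Q z hz0, rEquiv_mem Q z hz0, ?_, ?_⟩
    · rw [rEquiv_apply, hzu, mul_zero, zero_smul, sub_zero]
    · ext x
      have hxU := (mem_UU Q u w x).mp x.2
      rw [bar_val, LinearEquiv.coe_coe, LinearEquiv.coe_coe, rEquiv_apply, tvEquiv_apply, map_sub,
        map_smul, pMap_of_mem Q u w _ x.2, hQz, inv_inv]
      have h1 : pMap Q u w z = (t : V) := by
        rw [hz, map_add, map_smul, pMap_u Q u w huw, smul_zero, zero_add, pMap_of_mem Q u w _ t.2]
      have h2 : polar (⇑Q) z (x : V) = polar (⇑Q) (x : V) (t : V) := by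
        rw [hz, polar_add_left, polar_smul_left, hxU.1, smul_zero, zero_add, polar_comm]
      rw [h1, h2, sub_eq_add' F, BU_apply]
      rfl

open Cfsg.Agent.Lib.H13.SpAbs in
/-- every symplectic map of the complement lifts to a product of reflections fixing `u` -/
theorem exists_lift [Finite F] [FiniteDimensional F V] (hnd : (polarBilin Q).Nondegenerate)
    (huw : polar (⇑Q) u w = 1) (hu : Q u ≠ 0) (φ : UU Q u w ≃ₗ[F] UU Q u w)
    (hφ : ∀ x y, BU Q u w (φ x) (φ y) = BU Q u w x y) :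
    ∃ ρ ∈ RG Q, ρ u = u ∧ bar Q u w huw (ρ : V →ₗ[F] V) = (φ : UU Q u w →ₗ[F] UU Q u w) := by
  have hmem := mem_closure_tv (BU Q u w) (BU_alt Q u w) (BU_nondeg Q u w hnd huw) φ hφ
  clear hφ
  induction hmem using Subgroup.closure_induction with
  | mem φ hφ' =>
    obtain ⟨t, κ, rfl⟩ := hφ'
    exact exists_lift_tv Q u w huw hu t κ
  | one =>
    refine ⟨1, Subgroup.one_mem _, rfl, ?_⟩
    exact bar_id Q u w huw
  | mul φ ψ _ _ ihφ ihψ =>
    obtain ⟨ρ₁, h1, h2, h3⟩ := ihφ
    obtain ⟨ρ₂, h4, h5, h6⟩ := ihψ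
    refine ⟨ρ₁ * ρ₂, mul_mem h1 h4, ?_, ?_⟩
    · show ρ₁ (ρ₂ u) = u
      rw [h5, h2]
    · rw [bar_comp Q u w huw ρ₁ ρ₂ h2 (isom_of_mem_RG Q ρ₂ h4) h5, h3, h6]
      rfl
  | inv φ _ ihφ =>
    obtain ⟨ρ, h1, h2, h3⟩ := ihφ
    have hinvu : ρ⁻¹ u = u := by
      have := congrArg (ρ⁻¹ : V ≃ₗ[F] V) h2
      rw [show ρ⁻¹ (ρ u) = u from ρ.symm_apply_apply u] at this
      exact this.symm
    refine ⟨ρ⁻¹, inv_mem h1, hinvu, ?_⟩
    have h4 := bar_comp Q u w huw ρ⁻¹ ρ hinvu (isom_of_mem_RG Q ρ h1) h2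
    rw [inv_mul_cancel] at h4
    have h5 : bar Q u w huw ((1 : V ≃ₗ[F] V) : V →ₗ[F] V) = LinearMap.id := bar_id Q u w huw
    rw [h5, h3] at h4
    ext x
    have := congrArg (fun f => f (φ⁻¹ x)) h4
    simp only [LinearMap.id_apply, LinearMap.comp_apply, LinearEquiv.coe_coe] at this
    rw [show φ (φ⁻¹ x) = x from φ.apply_symm_apply x] at this
    rw [LinearEquiv.coe_coe, ← this]

/-- an isometry fixing `u` and inducing the identity on the complement is `1` or `r_u` -/
theorem eq_one_or_refl (hnd : (polarBilin Q).Nondegenerate) (huw : polar (⇑Q) u w = 1)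
    (hu : Q u ≠ 0) (h : V ≃ₗ[F] V) (hh : ∀ x, Q (h x) = Q x) (hhu : h u = u)
    (hbar : bar Q u w huw (h : V →ₗ[F] V) = LinearMap.id) :
    h = 1 ∨ h = rEquiv Q u hu := by
  -- `h` is the identity on the complement
  have hfix : ∀ t : UU Q u w, h t = t := by
    intro t
    have h1 := apply_eq_bar_add Q u w huw h hh hhu t
    rw [hbar, LinearMap.id_apply] at h1
    obtain ⟨l, hl⟩ : ∃ l : F, h t = (t : V) + l • u := ⟨_, h1⟩
    have htU := (mem_UU Q u w t).mp t.2
    have h2 := hh t
    rw [hl, Q_add', QuadraticMap.map_smul, polar_smul_right, polar_comm, htU.1] at h2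
    simp only [smul_eq_mul, mul_zero, add_zero] at h2
    have h3 : l * l * Q u = 0 := by linear_combination h2
    have h4 : l = 0 := by
      rcases mul_eq_zero.mp h3 with h5 | h5
      · exact mul_self_eq_zero.mp h5
      · exact absurd h5 hu
    rw [h4, zero_smul, add_zero] at hl
    exact hl
  -- the image of `w`
  have hw1 : polar (⇑Q) u (h w) = 1 := by
    have := polar_of_isom Q h hh u w
    rw [hhu] at this
    rw [this, huw]
  have hw2 : pMap Q u w (h w) = 0 := by
    have hz := BU_nondeg Q u w hnd huw ⟨pMap Q u w (h w), pMap_mem Q u w huw _⟩ (by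
      intro t'
      rw [BU_apply]
      show polar (⇑Q) (pMap Q u w (h w)) (t' : V) = 0
      have ht' := (mem_UU Q u w t').mp t'.2
      rw [pMap_apply, polar_sub_left, polar_sub_left, polar_smul_left, polar_smul_left, ht'.1,
        ht'.2]
      have := polar_of_isom Q h hh w t'
      rw [hfix t'] at this
      rw [this, ht'.2]
      simp)
    exact congrArg Subtype.val hz
  set α := polar (⇑Q) (h w) w with hα
  have hw3 : h w = α • u + w := by
    have := decomp Q u w (h w)
    rw [hw1, hw2, one_smul, add_zero] at this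
    exact this
  have hα2 : α * (α * Q u + 1) = 0 := by
    have := hh w
    rw [hw3, Q_add', QuadraticMap.map_smul, polar_smul_left, huw] at this
    simp only [smul_eq_mul, mul_one] at this
    linear_combination this
  have hall : ∀ (k : V ≃ₗ[F] V), k u = u → k w = α • u + w → (∀ t : UU Q u w, k t = t) → h = k := by
    intro k hku hkw hkt
    apply LinearEquiv.ext
    intro x
    rw [decomp Q u w x, map_add, map_add, map_smul, map_smul, map_add, map_add, map_smul, map_smul,
      hhu, hku, hw3, hkw]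
    have := hfix ⟨pMap Q u w x, pMap_mem Q u w huw x⟩
    have h2 := hkt ⟨pMap Q u w x, pMap_mem Q u w huw x⟩
    simp only at this h2
    rw [this, h2]
  rcases mul_eq_zero.mp hα2 with h0 | h0
  · left
    apply hall 1 rfl
    · rw [h0, zero_smul, zero_add]; rfl
    · intro t; rfl
  · right
    have hα' : α = (Q u)⁻¹ := by
      have : α * Q u = 1 := by
        have : α * Q u = -1 := by linear_combination h0
        rw [this, CharTwo.neg_eq]
      exact eq_inv_of_mul_eq_one_left this
    apply hall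
    · rw [rEquiv_apply, polar_self_zero, mul_zero, zero_smul, sub_zero]
    · rw [rEquiv_apply, huw, mul_one, hα', sub_eq_add' F, add_comm]
    · intro t
      rw [rEquiv_apply, ((mem_UU Q u w t).mp t.2).1, mul_zero, zero_smul, sub_zero]

/-- **Lemma B**: an isometry fixing a non-singular vector is a product of reflections -/
theorem mem_RG_of_fix [Finite F] [FiniteDimensional F V] (hnd : (polarBilin Q).Nondegenerate)
    (hu : Q u ≠ 0) (g : V ≃ₗ[F] V) (hg : ∀ x, Q (g x) = Q x) (hgu : g u = u) : g ∈ RG Q := by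
  have hu0 : u ≠ 0 := by
    rintro rfl
    rw [map_zero] at hu
    exact hu rfl
  obtain ⟨y, hy⟩ : ∃ y, polar (⇑Q) u y ≠ 0 := by
    by_contra h
    push Not at h
    exact hu0 (hnd.1 u (fun y => by rw [polarBilin_apply_apply]; exact h y))
  set w₀ := (polar (⇑Q) u y)⁻¹ • y with hw₀
  have huw : polar (⇑Q) u w₀ = 1 := by
    rw [hw₀, polar_smul_right, smul_eq_mul, inv_mul_cancel₀ hy]
  have hginv : ∀ x, Q (g⁻¹ x) = Q x := by
    intro x
    have := hg (g⁻¹ x)
    rw [show g (g⁻¹ x) = x from g.apply_symm_apply x] at this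
    exact this.symm
  have hginvu : g⁻¹ u = u := by
    have := congrArg (g⁻¹ : V ≃ₗ[F] V) hgu
    rw [show g⁻¹ (g u) = u from g.symm_apply_apply u] at this
    exact this.symm
  have hone : bar Q u w₀ huw ((1 : V ≃ₗ[F] V) : V →ₗ[F] V) = LinearMap.id := bar_id Q u w₀ huw
  have e1 : (bar Q u w₀ huw (g : V →ₗ[F] V)).comp (bar Q u w₀ huw ((g⁻¹ : V ≃ₗ[F] V) : V →ₗ[F] V)) =
      LinearMap.id := by
    rw [← bar_comp Q u w₀ huw g g⁻¹ hgu hginv hginvu, mul_inv_cancel, hone]
  have e2 : (bar Q u w₀ huw ((g⁻¹ : V ≃ₗ[F] V) : V →ₗ[F] V)).comp (bar Q u w₀ huw (g : V →ₗ[F] V)) =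
      LinearMap.id := by
    rw [← bar_comp Q u w₀ huw g⁻¹ g hginvu hg hgu, inv_mul_cancel, hone]
  set φ : UU Q u w₀ ≃ₗ[F] UU Q u w₀ := LinearEquiv.ofLinearMap (bar Q u w₀ huw (g : V →ₗ[F] V))
    (bar Q u w₀ huw ((g⁻¹ : V ≃ₗ[F] V) : V →ₗ[F] V)) e1 e2 with hφ
  have hφpres : ∀ x y, BU Q u w₀ (φ x) (φ y) = BU Q u w₀ x y := by
    intro x y
    rw [BU_apply, BU_apply]
    exact bar_polar Q u w₀ huw g hg hgu x y
  obtain ⟨ρ, hρ, hρu, hρbar⟩ := exists_lift Q u w₀ hnd huw hu φ hφpres
  have hφg : (φ : UU Q u w₀ →ₗ[F] UU Q u w₀) = bar Q u w₀ huw (g : V →ₗ[F] V) := rfl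
  rw [hφg] at hρbar
  have hρinvu : ρ⁻¹ u = u := by
    have := congrArg (ρ⁻¹ : V ≃ₗ[F] V) hρu
    rw [show ρ⁻¹ (ρ u) = u from ρ.symm_apply_apply u] at this
    exact this.symm
  have hρiso := isom_of_mem_RG Q ρ hρ
  have hρinviso := isom_of_mem_RG Q ρ⁻¹ (inv_mem hρ)
  -- `ρ⁻¹ g` induces the identity
  have hbar : bar Q u w₀ huw ((ρ⁻¹ * g : V ≃ₗ[F] V) : V →ₗ[F] V) = LinearMap.id := by
    rw [bar_comp Q u w₀ huw ρ⁻¹ g hρinvu hg hgu, ← hρbar,
      ← bar_comp Q u w₀ huw ρ⁻¹ ρ hρinvu hρiso hρu, inv_mul_cancel, hone]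
  have hiso : ∀ x, Q ((ρ⁻¹ * g : V ≃ₗ[F] V) x) = Q x := by
    intro x
    show Q (ρ⁻¹ (g x)) = Q x
    rw [hρinviso, hg]
  have hfixu : (ρ⁻¹ * g : V ≃ₗ[F] V) u = u := by
    show ρ⁻¹ (g u) = u
    rw [hgu, hρinvu]
  have hg_eq : g = ρ * (ρ⁻¹ * g) := by rw [mul_inv_cancel_left]
  rcases eq_one_or_refl Q u w₀ hnd huw hu (ρ⁻¹ * g) hiso hfixu hbar with h1 | h1
  · rw [hg_eq, h1, mul_one]
    exact hρ
  · rw [hg_eq, h1]
    exact mul_mem hρ (rEquiv_mem Q u hu)

end lemmaB

section main

variable [CharP F 2]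

/-- **Generation by reflections in characteristic two** -/
theorem mem_RG [Finite F] [FiniteDimensional F V] (hnd : (polarBilin Q).Nondegenerate)
    (hcard : Nat.card F ≠ 2 ∨ finrank F V ≠ 4) (g : V ≃ₗ[F] V) (hg : ∀ x, Q (g x) = Q x) :
    g ∈ RG Q := by
  by_cases hex : ∃ u, Q u ≠ 0
  · obtain ⟨u, hu⟩ := hex
    obtain ⟨ρ, hρ, hρu⟩ := exists_mem_RG_map Q hnd hcard (g u) u (hg u) (by rw [hg]; exact hu)
    have h1 : ρ * g ∈ RG Q := by
      apply mem_RG_of_fix Q u hnd hu
      · intro x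
        show Q (ρ (g x)) = Q x
        rw [isom_of_mem_RG Q ρ hρ, hg]
      · exact hρu
    have : g = ρ⁻¹ * (ρ * g) := by rw [inv_mul_cancel_left]
    rw [this]
    exact mul_mem (inv_mem hρ) h1
  · push Not at hex
    have hall : ∀ x : V, x = 0 := by
      intro x
      apply hnd.1
      intro y
      rw [polarBilin_apply_apply]
      unfold polar
      rw [hex, hex, hex]
      simp
    have : g = 1 := by
      apply LinearEquiv.ext
      intro x
      rw [hall (g x), hall ((1 : V ≃ₗ[F] V) x)]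
    rw [this]
    exact Subgroup.one_mem _

end main

end Cfsg.Agent.Lib.H13.Char2Gen
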