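import Cfsg.Agent.Lib.H13.Witt
import Cfsg.Agent.Lib.H13.StdForm
import Cfsg.Agent.Lib.H13.Char2Gen

set_option autoImplicit false

namespace Cfsg.Agent.Lib.H13.MinusClass

open Module QuadraticMap
open Cfsg.Agent.Lib.H13

abbrev IM (k : ℕ) : Type := (Fin k ⊕ Fin k) ⊕ Fin 2

section Classify

variable {F : Type*} [Field F] [Finite F] {V : Type*} [AddCommGroup V] [Module F V]
  [FiniteDimensional F V]

/-- a nondegenerate quadratic space of dimension `2 d` over a finite field is of plus type or of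
minus type -/
theorem classify (Q : QuadraticForm F V) (hQ : (polarBilin Q).Nondegenerate) {d : ℕ} (hd : 1 ≤ d)
    (hV : finrank F V = 2 * d) :
    (∃ Φ : V ≃ₗ[F] (Fin d ⊕ Fin d → F), ∀ v, Q v = Cfsg.quadFormPlus d F (Φ v)) ∨
    (∃ ζ : F, (∀ t : F, t ^ 2 + t + ζ ≠ 0) ∧ ∃ Φ : V ≃ₗ[F] (IM (d - 1) → F),
      ∀ v, Q v = Cfsg.quadFormMinus (d - 1) F 1 ζ (Φ v)) := by
  classical
  obtain ⟨k, r, b, hstd, htail, hdim⟩ := witt Q hQ
  match r, b, hstd, htail, hdim with
  | 0, b, hstd, htail, hdim =>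
    left
    have hk : k = d := by omega
    subst hk
    let b1 : Basis (Fin k ⊕ Fin k) F V := b.reindex (Equiv.sumEmpty (Fin k ⊕ Fin k) (Fin 0))
    have hb1 : ∀ x, b1 x = b (Sum.inl x) := by
      intro x
      simp [b1, Basis.reindex_apply]
    refine ⟨b1.equivFun, eq_quadFormPlus_of_std Q b1 ?_ ?_ ?_⟩
    · intro i
      rw [hb1, hb1]
      exact ⟨hstd.sing_l _, hstd.sing_r _⟩
    · intro i j
      rw [hb1, hb1, hstd.pair]
    · intro i j
      rw [hb1, hb1, hb1, hb1]
      exact ⟨hstd.iso_l _ _, hstd.iso_r _ _⟩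
  | 1, b, hstd, htail, hdim => omega
  | 2, b, hstd, htail, hdim =>
    right
    have hk : k = d - 1 := by omega
    subst hk
    obtain ⟨ζ, hζ, h5, h6, h7⟩ := htail
    refine ⟨ζ, hζ, b.equivFun, eq_quadFormMinus_of_std Q b ζ ?_ ?_ ?_ ?_ h5 h6 h7⟩
    · intro i
      exact ⟨hstd.sing_l _, hstd.sing_r _⟩
    · intro i j
      exact hstd.pair i j
    · intro i j
      exact ⟨hstd.iso_l _ _, hstd.iso_r _ _⟩
    · intro i l
      exact ⟨hstd.orth_l _ _, hstd.orth_r _ _⟩
  | r + 3, b, hstd, htail, hdim => exact htail.elim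

end Classify

section AS

variable {F : Type*} [Field F] [Finite F] [CharP F 2]

/-- the Artin–Schreier map `t ↦ t ^ 2 + t` -/
def asHom (F : Type*) [Field F] [CharP F 2] : F →+ F where
  toFun t := t ^ 2 + t
  map_zero' := by simp
  map_add' x y := by
    have h2 : (2 : F) = 0 := CharTwo.two_eq_zero
    linear_combination (x * y) * h2

theorem asHom_apply (t : F) : asHom F t = t ^ 2 + t := rfl

theorem card_ker_asHom : Nat.card (asHom F).ker = 2 := by
  classical
  have h : ∀ t : F, t ∈ (asHom F).ker ↔ t = 0 ∨ t = 1 := by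
    intro t
    rw [AddMonoidHom.mem_ker, asHom_apply]
    constructor
    · intro ht
      have : t * (t + 1) = 0 := by linear_combination ht
      rcases mul_eq_zero.1 this with h | h
      · exact Or.inl h
      · right
        have h2 : (2 : F) = 0 := CharTwo.two_eq_zero
        linear_combination h - h2
    · rintro (rfl | rfl)
      · simp
      · have h2 : (2 : F) = 0 := CharTwo.two_eq_zero
        linear_combination h2
  have e : (asHom F).ker ≃ Fin 2 :=
    { toFun := fun t => if t.1 = 0 then 0 else 1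
      invFun := fun i => if i = 0 then ⟨0, (h 0).2 (Or.inl rfl)⟩ else ⟨1, (h 1).2 (Or.inr rfl)⟩
      left_inv := by
        rintro ⟨t, ht⟩
        rcases (h t).1 ht with rfl | rfl
        · simp
        · simp
      right_inv := by
        intro i
        fin_cases i
        · simp
        · simp }
  rw [Nat.card_congr e, Nat.card_eq_fintype_card, Fintype.card_fin]

theorem index_range_asHom : (asHom F).range.index = 2 := by
  haveI : (asHom F).ker.FiniteIndex := AddSubgroup.finiteIndex_of_finite_quotient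
  rw [AddSubgroup.index_range, card_ker_asHom]

/-- two irreducible Artin–Schreier constants differ by a value of `t ^ 2 + t` -/
theorem exists_as (ζ ζ' : F) (hζ : ∀ t : F, t ^ 2 + t + ζ ≠ 0) (hζ' : ∀ t : F, t ^ 2 + t + ζ' ≠ 0) :
    ∃ s : F, ζ' = ζ + s ^ 2 + s := by
  have h2 : (2 : F) = 0 := CharTwo.two_eq_zero
  have hn : ∀ z : F, (∀ t : F, t ^ 2 + t + z ≠ 0) → z ∉ (asHom F).range := by
    rintro z hz ⟨t, ht⟩
    rw [asHom_apply] at ht
    apply hz t
    linear_combination ht + z * h2
  have := (AddSubgroup.add_mem_iff_of_index_two (index_range_asHom (F := F)) (a := ζ) (b := ζ')).2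
    ⟨fun h => absurd h (hn ζ hζ), fun h => absurd h (hn ζ' hζ')⟩
  obtain ⟨s, hs⟩ := this
  rw [asHom_apply] at hs
  refine ⟨s, ?_⟩
  linear_combination (-1 : F) * hs - ζ * h2

end AS

section Binary

variable {F : Type*} [Field F]

/-- the map `(z₁, z₂) ↦ (z₁ + c z₂, e z₂)` on the anisotropic part -/
def phiLin (k : ℕ) (c e : F) : (IM k → F) →ₗ[F] (IM k → F) where
  toFun v := Sum.elim (fun j => v (Sum.inl j)) ![v (Sum.inr 0) + c * v (Sum.inr 1), e * v (Sum.inr 1)]
  map_add' u v := by
    funext i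
    rcases i with j | l
    · simp
    · fin_cases l
      · simp; ring
      · simp; ring
  map_smul' a v := by
    funext i
    rcases i with j | l
    · simp
    · fin_cases l
      · simp; ring
      · simp; ring

theorem phiLin_inl (k : ℕ) (c e : F) (v : IM k → F) (j : Fin k ⊕ Fin k) :
    phiLin k c e v (Sum.inl j) = v (Sum.inl j) := rfl

theorem phiLin_zero (k : ℕ) (c e : F) (v : IM k → F) :
    phiLin k c e v (Sum.inr 0) = v (Sum.inr 0) + c * v (Sum.inr 1) := rfl

theorem phiLin_one (k : ℕ) (c e : F) (v : IM k → F) :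
    phiLin k c e v (Sum.inr 1) = e * v (Sum.inr 1) := rfl

/-- `phiLin` as a linear equivalence -/
def phiEquiv (k : ℕ) (c e : F) (he : e ≠ 0) : (IM k → F) ≃ₗ[F] (IM k → F) :=
  LinearEquiv.ofLinearMap (phiLin k c e) (phiLin k (-(c / e)) e⁻¹)
    (by
      apply LinearMap.ext
      intro v
      funext i
      rcases i with j | l
      · rfl
      · fin_cases l
        · show phiLin k c e (phiLin k (-(c / e)) e⁻¹ v) (Sum.inr 0) = v (Sum.inr 0)
          rw [phiLin_zero, phiLin_zero, phiLin_one]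
          field_simp
          ring
        · show phiLin k c e (phiLin k (-(c / e)) e⁻¹ v) (Sum.inr 1) = v (Sum.inr 1)
          rw [phiLin_one, phiLin_one]
          field_simp)
    (by
      apply LinearMap.ext
      intro v
      funext i
      rcases i with j | l
      · rfl
      · fin_cases l
        · show phiLin k (-(c / e)) e⁻¹ (phiLin k c e v) (Sum.inr 0) = v (Sum.inr 0)
          rw [phiLin_zero, phiLin_zero, phiLin_one]
          field_simp
          ring
        · show phiLin k (-(c / e)) e⁻¹ (phiLin k c e v) (Sum.inr 1) = v (Sum.inr 1)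
          rw [phiLin_one, phiLin_one]
          field_simp)

theorem phiEquiv_apply (k : ℕ) (c e : F) (he : e ≠ 0) (v : IM k → F) :
    phiEquiv k c e he v = phiLin k c e v := rfl

variable [Finite F] [CharP F 2]

/-- all minus-type standard forms of a given dimension are isometric -/
theorem minus_equiv (k : ℕ) (a b ζ : F)
    (hab : ∀ z₁ z₂ : F, z₁ ^ 2 + a * z₁ * z₂ + b * z₂ ^ 2 = 0 → z₁ = 0 ∧ z₂ = 0)
    (hζ : ∀ t : F, t ^ 2 + t + ζ ≠ 0) :
    ∃ φ : (IM k → F) ≃ₗ[F] (IM k → F), ∀ v,
      Cfsg.quadFormMinus k F 1 ζ (φ v) = Cfsg.quadFormMinus k F a b v := by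
  have h2 : (2 : F) = 0 := CharTwo.two_eq_zero
  have ha : a ≠ 0 := by
    rintro rfl
    obtain ⟨s, hs⟩ := Char2Gen.exists_sqrt (F := F) b
    have := (hab s 1 (by rw [← hs]; linear_combination (s * s) * h2)).2
    exact one_ne_zero this
  have hζ' : ∀ t : F, t ^ 2 + t + b / a ^ 2 ≠ 0 := by
    intro t ht
    have := (hab t a⁻¹ (by
      have : t ^ 2 + a * t * a⁻¹ + b * a⁻¹ ^ 2 = t ^ 2 + t + b / a ^ 2 := by
        field_simp
      rw [this, ht])).2
    exact inv_ne_zero ha this
  obtain ⟨s, hs⟩ := exists_as ζ (b / a ^ 2) hζ hζ'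
  have hs' : a ^ 2 * (ζ + s ^ 2 + s) = b := by
    rw [← hs]; field_simp
  refine ⟨phiEquiv k (s * a) a ha, ?_⟩
  intro v
  rw [phiEquiv_apply]
  unfold Cfsg.quadFormMinus
  simp only [phiLin_inl, phiLin_zero, phiLin_one]
  linear_combination (s * a * v (Sum.inr 0) * v (Sum.inr 1)) * h2 + (v (Sum.inr 1)) ^ 2 * hs'

end Binary

end Cfsg.Agent.Lib.H13.MinusClass
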