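import Mathlib
import Cfsg.Agent.Lib.H13.AutPO9
import Cfsg.Agent.Lib.H13.Char2Omega
import Cfsg.Agent.Lib.H11.OmegaAll
import Cfsg.Agent.Lib.H13.MinusClass

/-!
Automorphisms of `PΩ(Q)`, part 10 (helper13): all characteristics. `hS_all`, `hadj_all` (the hypotheses of helper11's simplicity machinery for the
reindexed form in every characteristic), `schur_all`, `perfect_all`, `ker_Phi_all`, `semi_ker_all` (characteristic-free versions of helper11's
`schur_gen`, `perfect_gen`, `ker_Phi_gen`, `semi_ker`), the homomorphism `psiA : Aut(PΩ(Q)) → Aut(F)` in every characteristic (`psiA_apply`,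
`psiA_ker`, `card_aut_all`, `range_Phi_normalA`). Characteristic two: the absolute trace `tr2` and `tr2_eq_one`, similarities are scalars times
isometries (`sim_eq_scalar_mul2`), `PhiO_injective2`, `center_omega2`, `card_Phi_range2`, `mem_inn_iff2`; the Frobenius semisimilarity of the
minus-type form (`twM_Q2`), its partial norms (`PN_frob2`, `twAB_final`) ending in a reflection (`twM_eq_refl`); `out_minus_two` (`Out(PΩ⁻_{2m+2}(2^f))`
is cyclic of order `2f`), Grün's lemma `center_quot_eq_bot_of_perfect`, and `card_aut_minus_odd`.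
-/

set_option autoImplicit false
set_option linter.unusedSectionVars false
set_option linter.unusedVariables false
set_option linter.unusedSimpArgs false
set_option linter.deprecated false

namespace Cfsg.Agent.Lib.H13.AutPO

section

open Matrix QuadraticMap Module
open scoped MatrixGroups
open Cfsg.Agent.Lib.H11.ConfOrth
open Cfsg.Agent.Lib.H11.CD Cfsg.Agent.Lib.H11.SiegelGen Cfsg.Agent.Lib.H11.OmegaTrans
open Cfsg.Agent.Lib.H11.OmegaSimple Cfsg.Agent.Lib.H11.IsoReindex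

section allchar

variable {F : Type*} [Field F] [Fintype F] {ι : Type} [Fintype ι] [DecidableEq ι]
  (Q : QuadraticForm F (ι → F))

/-- `Ω = S` for the reindexed form, all characteristics -/
theorem hS_all (hQ : (QuadraticMap.polarBilin Q).Nondegenerate) (hcard : 7 ≤ Fintype.card ι) :
    commutator ↥(Cfsg.isometryGroup F ⇑(trQF (Fintype.equivFin ι) Q)) =
      S (trQF (Fintype.equivFin ι) Q) :=
  commutator_eq_S_of_rGen _ (nondeg_trQF _ Q hQ)
    (Cfsg.Agent.Lib.H11.OmegaAll.rGen_tr Q hQ (by omega)) hcard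

/-- the adjustment property for the reindexed form, all characteristics -/
theorem hadj_all (hQ : (QuadraticMap.polarBilin Q).Nondegenerate) (hcard : 7 ≤ Fintype.card ι) :
    Adj (trQF (Fintype.equivFin ι) Q) := by
  by_cases h2 : (2 : F) = 0
  · haveI : CharP F 2 := CharTwo.of_one_ne_zero_of_two_eq_zero one_ne_zero h2
    apply adj_of_index_two _ (nondeg_trQF _ Q hQ)
      (Cfsg.Agent.Lib.H11.OmegaAll.rGen_tr Q hQ (by omega))
    haveI : Nonempty (Fin (Fintype.card ι)) := ⟨⟨0, by omega⟩⟩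
    exact Cfsg.Agent.Lib.H13.Char2Omega.index_Omega _ (nondeg_trQF _ Q hQ)
      (Or.inr (by rw [Fintype.card_fin]; omega))
  · exact adj_of_odd _ (nondeg_trQF _ Q hQ) h2

end allchar

end

section

open Matrix QuadraticMap Module
open scoped MatrixGroups
open Cfsg.Agent.Lib.H11.ConfOrth
open Cfsg.Agent.Lib.H11.CD Cfsg.Agent.Lib.H11.SiegelGen Cfsg.Agent.Lib.H11.OmegaTrans
open Cfsg.Agent.Lib.H11.OmegaSimple Cfsg.Agent.Lib.H11.IsoReindex

section fin
variable {F : Type*} [Field F] {n : ℕ} (Q : QuadraticForm F (Fin n → F))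

set_option quotPrecheck false in
local notation "P" => QuadraticMap.polar (⇑Q)

/-- a matrix centralizing `Ω` is scalar (`n ≥ 7`) -/
theorem schur_fin' [Fintype F] (hQ : (QuadraticMap.polarBilin Q).Nondegenerate)
    (hadj : Adj Q) (hS : commutator ↥(Cfsg.isometryGroup F ⇑Q) = S Q) (hn : 7 ≤ n) (A : Matrix (Fin n) (Fin n) F)
    (hA : ∀ s ∈ commutator ↥(Cfsg.isometryGroup F ⇑Q),
      A * ((s : GL (Fin n) F) : Matrix (Fin n) (Fin n) F) =
      ((s : GL (Fin n) F) : Matrix (Fin n) (Fin n) F) * A) :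
    ∃ l : F, A = l • (1 : Matrix (Fin n) (Fin n) F) := by
  obtain ⟨e₁, f₁, e₂, f₂, e₃, f₃, he₁, hf₁, he₂, hf₂, he₃, hf₃, h11, h22, h33, h12ee, h12ef,
    h12fe, h12ff, h3e1, h3f1, h3e2, h3f2, h3'e1, h3'f1, h3'e2, h3'f2⟩ := exists_three_pairs Q hQ hn
  have he₁0 : e₁ ≠ 0 := by
    rintro rfl
    rw [QuadraticMap.polar_zero_left] at h11
    exact zero_ne_one h11
  obtain ⟨l, hl⟩ := coreM Q e₁ e₂ f₂ e₃ f₃ he₁ he₂ he₃ h12ee
    (by rw [QuadraticMap.polar_comm]; exact h3e1) h22 h12ef h3f2 h33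
    (by rw [QuadraticMap.polar_comm]; exact h3'e1) A (fun s hs => hA s (by rw [hS]; exact hs))
  -- every singular vector is an eigenvector for `l`
  have hsing : ∀ u : Fin n → F, Q u = 0 → A *ᵥ u = l • u := by
    intro u hu
    by_cases hu0 : u = 0
    · rw [hu0, Matrix.mulVec_zero, smul_zero]
    obtain ⟨ω, hω, hωu⟩ := omega_trans_sing Q hQ hadj hn e₁ u he₁0 hu0 he₁ hu
    have h1 := congrArg (fun M => M *ᵥ e₁) (hA ω hω)
    simp only [← Matrix.mulVec_mulVec] at h1
    unfold act at hωu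
    rw [hωu, hl, Matrix.mulVec_smul, hωu] at h1
    exact h1
  refine ⟨l, ?_⟩
  apply Matrix.ext_iff_mulVec.mpr
  intro x
  rw [Matrix.smul_mulVec, Matrix.one_mulVec]
  set e := e₁ with hedef
  set f := f₁ with hfdef
  obtain ⟨w, hw⟩ : ∃ w, w = x - P f x • e - P e x • f := ⟨_, rfl⟩
  have hee : P e e = 0 := by rw [Cfsg.Agent.Lib.H4.polar_self, he₁, mul_zero]
  have hff : P f f = 0 := by rw [Cfsg.Agent.Lib.H4.polar_self, hf₁, mul_zero]
  have hfe : P f e = 1 := by rw [QuadraticMap.polar_comm, h11]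
  have hew : P e w = 0 := by
    rw [hw]
    simp only [QuadraticMap.polar_sub_right, QuadraticMap.polar_smul_right, hee, h11, smul_eq_mul]
    ring
  have hfw : P f w = 0 := by
    rw [hw]
    simp only [QuadraticMap.polar_sub_right, QuadraticMap.polar_smul_right, hff, hfe, smul_eq_mul]
    ring
  have hs : Q (w + (e - Q w • f)) = 0 := by
    rw [QuadraticMap.map_add (⇑Q), Q_sub, QuadraticMap.map_smul, he₁, hf₁]
    simp only [QuadraticMap.polar_sub_right, QuadraticMap.polar_smul_right,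
      QuadraticMap.polar_comm (⇑Q) w e, QuadraticMap.polar_comm (⇑Q) w f, hew, hfw, h11,
      smul_eq_mul]
    ring
  have hx : x = (w + (e - Q w • f)) + (P f x - 1) • e + (P e x + Q w) • f := by
    rw [hw]
    module
  have h5 : A *ᵥ x = l • ((w + (e - Q w • f)) + (P f x - 1) • e + (P e x + Q w) • f) := by
    nth_rewrite 1 [hx]
    rw [Matrix.mulVec_add, Matrix.mulVec_add, Matrix.mulVec_smul, Matrix.mulVec_smul, hsing _ hs,
      hsing _ he₁, hsing _ hf₁]
    module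
  rw [h5, ← hx]


end fin

section gen

variable {F : Type*} [Field F] [Fintype F] {ι : Type} [Fintype ι] [DecidableEq ι]
  (Q : QuadraticForm F (ι → F))

/-- a matrix centralizing `Ω(Q)` is scalar -/
theorem schur_all (hQ : (QuadraticMap.polarBilin Q).Nondegenerate)
    (hcard : 7 ≤ Fintype.card ι) (A : GL ι F)
    (hA : ∀ w ∈ Cfsg.Geo.omegaGL ⇑Q, A * w = w * A) : A ∈ Zs ι F := by
  set e := Fintype.equivFin ι with he
  let Θ : ↥(Cfsg.isometryGroup F ⇑Q) ≃* ↥(Cfsg.isometryGroup F ⇑(trQF e Q)) := isoEquiv e ⇑Q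
  have key := schur_fin' (trQF e Q) (nondeg_trQF _ Q hQ) (hadj_all Q hQ hcard) (hS_all Q hQ hcard) hcard
    (Matrix.reindex e e (A : Matrix ι ι F)) (by
      intro s hs
      have hs' : Θ.symm s ∈ commutator ↥(Cfsg.isometryGroup F ⇑Q) := by
        rw [← mem_commutator_iff Θ, MulEquiv.apply_symm_apply]
        exact hs
      have h1 : A * (Θ.symm s).1 = (Θ.symm s).1 * A := hA _ ⟨Θ.symm s, hs', rfl⟩
      have h3 : (((s : ↥(Cfsg.isometryGroup F ⇑(trQF e Q))) : GL (Fin (Fintype.card ι)) F) :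
          Matrix (Fin (Fintype.card ι)) (Fin (Fintype.card ι)) F) =
          Matrix.reindex e e (((Θ.symm s : ↥(Cfsg.isometryGroup F ⇑Q)) : GL ι F) : Matrix ι ι F) := by
        have h5 := isoEquiv_val e ⇑Q (Θ.symm s)
        have h6 : isoEquiv e ⇑Q (Θ.symm s) = s := Θ.apply_symm_apply s
        rw [h6] at h5
        exact h5
      rw [h3]
      have h4 := congrArg (fun g : GL ι F => Matrix.reindex e e (g : Matrix ι ι F)) h1
      simp only [Units.val_mul, Matrix.reindex_apply] at h4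
      rw [Matrix.reindex_apply, Matrix.reindex_apply, Matrix.submatrix_mul_equiv,
        Matrix.submatrix_mul_equiv]
      exact h4)
  obtain ⟨l, hl⟩ := key
  have hA' : (A : Matrix ι ι F) = l • 1 := by
    ext i j
    have := congrFun (congrFun hl (e i)) (e j)
    simp only [Matrix.reindex_apply, Matrix.submatrix_apply, Equiv.symm_apply_apply,
      Matrix.smul_apply, Matrix.one_apply, EmbeddingLike.apply_eq_iff_eq] at this
    rw [this, Matrix.smul_apply, Matrix.one_apply]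
  have hne : Nonempty ι := by
    have : 0 < Fintype.card ι := by omega
    exact Fintype.card_pos_iff.mp this
  have hl0 : l ≠ 0 := by
    rintro rfl
    have hdet := A.isUnit
    rw [Matrix.isUnit_iff_isUnit_det] at hdet
    rw [zero_smul] at hA'
    rw [hA', Matrix.det_zero] at hdet
    exact not_isUnit_zero hdet
  rw [mem_Zs_iff]
  refine ⟨Units.mk0 l hl0, ?_⟩
  apply Units.ext
  rw [Matrix.GeneralLinearGroup.coe_scalar, hA']
  ext i j
  simp [Matrix.scalar_apply, Matrix.diagonal_apply, Matrix.one_apply]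

/-- `Ω(Q)` is perfect -/
theorem perfect_all (hQ : (QuadraticMap.polarBilin Q).Nondegenerate)
    (hcard : 7 ≤ Fintype.card ι) : commutator ↥(Cfsg.Omega F ⇑Q) = ⊤ := by
  set e := Fintype.equivFin ι with he
  let Θ : ↥(Cfsg.isometryGroup F ⇑Q) ≃* ↥(Cfsg.isometryGroup F ⇑(trQF e Q)) := isoEquiv e ⇑Q
  have h1 := perfect (trQF e Q) (nondeg_trQF _ Q hQ) (hadj_all Q hQ hcard) hcard
    (hS_all Q hQ hcard)
  exact perfect_of_equiv (commutatorCongr Θ) h1

/-- the kernel of `Phi` is the group of scalars -/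
theorem ker_Phi_all (hQ : (QuadraticMap.polarBilin Q).Nondegenerate)
    (hcard : 7 ≤ Fintype.card ι) : (Phi ⇑Q).ker = (Zs ι F).subgroupOf (Sim ⇑Q) :=
  ker_Phi ⇑Q (perfect_all Q hQ hcard) (schur_all Q hQ hcard)

/-- a nontrivial unipotent one-parameter family `1 + t X` inside `Ω` -/
theorem exists_unip_family_all (hQ : (QuadraticMap.polarBilin Q).Nondegenerate)
    (hcard : 7 ≤ Fintype.card ι) :
    ∃ X : Matrix ι ι F, X ≠ 0 ∧ ∀ t : F, ∃ ω ∈ Cfsg.Geo.omegaGL ⇑Q,
      (ω : Matrix ι ι F) = 1 + t • X := by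
  set e := Fintype.equivFin ι with he
  let Θ : ↥(Cfsg.isometryGroup F ⇑Q) ≃* ↥(Cfsg.isometryGroup F ⇑(trQF e Q)) := isoEquiv e ⇑Q
  have hQ' := nondeg_trQF e Q hQ
  have hS := hS_all Q hQ hcard
  obtain ⟨e₁, f₁, e₂, f₂, e₃, f₃, he₁, hf₁, he₂, hf₂, he₃, hf₃, h11, h22, h33, h12ee, h12ef,
    h12fe, h12ff, h3e1, h3f1, h3e2, h3f2, h3'e1, h3'f1, h3'e2, h3'f2⟩ :=
    exists_three_pairs (trQF e Q) hQ' hcard
  have he₁0 : e₁ ≠ 0 := by
    rintro rfl
    rw [QuadraticMap.polar_zero_left] at h11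
    exact zero_ne_one h11
  obtain ⟨X₀, hX₀⟩ : ∃ X₀ : Matrix (Fin (Fintype.card ι)) (Fin (Fintype.card ι)) F,
      X₀ = Matrix.vecMulVec e₂ (Cfsg.polarVec (⇑(trQF e Q)) e₁) -
        Matrix.vecMulVec e₁ (Cfsg.polarVec (⇑(trQF e Q)) e₂) := ⟨_, rfl⟩
  have hsieg : ∀ t : F, Cfsg.siegelMatrix (⇑(trQF e Q)) e₁ e₂ t = 1 + t • X₀ := by
    intro t
    rw [hX₀]
    rfl
  have hX₀ne : X₀ ≠ 0 := by
    intro h0
    have h1 := Cfsg.Agent.Lib.H4.siegelMatrix_mulVec (trQF e Q) e₁ e₂ 1 f₂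
    rw [hsieg, h0, smul_zero, add_zero, Matrix.one_mulVec, h12ef, h22, mul_zero, zero_smul,
      add_zero, mul_one, one_smul] at h1
    apply he₁0
    have : f₂ - (f₂ - e₁) = e₁ := by abel
    rw [← this, ← h1, sub_self]
  refine ⟨X₀.submatrix e e, ?_, ?_⟩
  · intro h0
    apply hX₀ne
    ext i j
    have := congrFun (congrFun h0 (e.symm i)) (e.symm j)
    simpa using this
  · intro t
    obtain ⟨s, hs⟩ : ∃ s, s = siegEl (trQF e Q) e₁ e₂ he₁ he₂ h12ee t := ⟨_, rfl⟩
    have hsS : s ∈ commutator ↥(Cfsg.isometryGroup F ⇑(trQF e Q)) := by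
      rw [hS, hs]
      exact siegEl_mem (trQF e Q) e₁ e₂ he₁ he₂ h12ee t
    have hs' : Θ.symm s ∈ commutator ↥(Cfsg.isometryGroup F ⇑Q) := by
      rw [← mem_commutator_iff Θ, MulEquiv.apply_symm_apply]
      exact hsS
    refine ⟨(Θ.symm s).1, ⟨Θ.symm s, hs', rfl⟩, ?_⟩
    have h5 := isoEquiv_val e ⇑Q (Θ.symm s)
    have h6 : isoEquiv e ⇑Q (Θ.symm s) = s := Θ.apply_symm_apply s
    have h5' : (((s : ↥(Cfsg.isometryGroup F ⇑(trQF e Q))) : GL (Fin (Fintype.card ι)) F) :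
        Matrix (Fin (Fintype.card ι)) (Fin (Fintype.card ι)) F) = 1 + t • X₀ := by
      rw [hs, siegEl_val, hsieg]
    rw [h6, h5'] at h5
    ext i j
    have h7 := congrFun (congrFun h5 (e i)) (e j)
    simp only [Matrix.reindex_apply, Matrix.submatrix_apply, Equiv.symm_apply_apply,
      Matrix.add_apply, Matrix.smul_apply, Matrix.one_apply, EmbeddingLike.apply_eq_iff_eq] at h7
    rw [← h7]
    simp only [Matrix.add_apply, Matrix.smul_apply, Matrix.one_apply, Matrix.submatrix_apply]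

/-- a semisimilarity pair acting trivially on `PΩ` is a scalar with trivial field automorphism -/
theorem semi_ker_all (hQ : (QuadraticMap.polarBilin Q).Nondegenerate)
    (hcard : 7 ≤ Fintype.card ι) (g : GL ι F) (σ : F ≃+* F)
    (hp : Cfsg.IsSemisimilarityPair (⇑Q) g σ) (h1 : semiAut (⇑Q) g σ hp = 1) :
    σ = RingEquiv.refl F ∧ g ∈ Zs ι F := by
  have hperf := perfect_all Q hQ hcard
  have hfix : ∀ s : ↥(Cfsg.Omega F ⇑Q), semiOmega (⇑Q) g σ hp s = s := by
    apply aut_eq_one_of_perfect hperf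
    intro s
    have h3 := congrArg (fun β : MulAut (Cfsg.POmega F ⇑Q) => β (QuotientGroup.mk s)) h1
    simp only [MulAut.one_apply] at h3
    rw [semiAut_mk] at h3
    exact QuotientGroup.eq.1 h3.symm
  have hconj : ∀ ω ∈ Cfsg.Geo.omegaGL ⇑Q, g * glmap σ ω * g⁻¹ = ω := by
    intro ω hω
    obtain ⟨h, hs⟩ := (mem_omegaGL_iff (⇑Q) ω).1 hω
    have h3 := hfix ⟨⟨ω, h⟩, hs⟩
    have h4 := congrArg (fun x : ↥(Cfsg.Omega F ⇑Q) =>
      ((x : ↥(Cfsg.isometryGroup F ⇑Q)) : GL ι F)) h3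
    simp only [semiOmega_val] at h4
    exact h4
  obtain ⟨X, hX, hfam⟩ := exists_unip_family_all Q hQ hcard
  have hmap : ∀ t : F, (1 + t • X).map σ = 1 + σ t • X.map σ := by
    intro t
    ext i j
    simp only [Matrix.map_apply, Matrix.add_apply, Matrix.smul_apply, Matrix.one_apply,
      smul_eq_mul, map_add, map_mul]
    split_ifs <;> simp
  have hY : ∀ t : F, 1 + σ t • ((g : Matrix ι ι F) * X.map σ * ((g⁻¹ : GL ι F) : Matrix ι ι F)) =
      1 + t • X := by
    intro t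
    obtain ⟨ω, hω, hωv⟩ := hfam t
    have h3 := congrArg (fun x : GL ι F => (x : Matrix ι ι F)) (hconj ω hω)
    simp only [Units.val_mul, glmap_val] at h3
    rw [hωv, hmap, Matrix.mul_add, Matrix.add_mul, Matrix.mul_one, ← Units.val_mul,
      mul_inv_cancel, Units.val_one, Matrix.mul_smul, Matrix.smul_mul] at h3
    exact h3
  have hY1 : (g : Matrix ι ι F) * X.map σ * ((g⁻¹ : GL ι F) : Matrix ι ι F) = X := by
    have := hY 1
    rw [map_one, one_smul, one_smul] at this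
    exact add_left_cancel this
  have hσ : ∀ t : F, σ t = t := by
    intro t
    have h3 := hY t
    rw [hY1] at h3
    have h4 : (σ t - t) • X = 0 := by
      rw [sub_smul, sub_eq_zero]
      exact add_left_cancel h3
    rcases smul_eq_zero.1 h4 with h5 | h5
    · exact sub_eq_zero.1 h5
    · exact absurd h5 hX
  have hσ' : σ = RingEquiv.refl F := RingEquiv.ext hσ
  refine ⟨hσ', ?_⟩
  apply schur_all Q hQ hcard g
  intro ω hω
  have h3 := hconj ω hω
  rw [hσ', glmap_refl] at h3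
  calc g * ω = g * ω * g⁻¹ * g := by group
    _ = ω * g := by rw [h3]


end gen

end

section

open Matrix QuadraticMap Module
open Cfsg.Agent.Lib.H11.ConfOrth

section psiall

variable {F : Type*} [Field F] [Fintype F] {ι : Type} [Fintype ι] [DecidableEq ι]
variable (Q : QuadraticForm F (ι → F))

variable (hQ : (polarBilin Q).Nondegenerate) (hcard : 7 ≤ Fintype.card ι)
variable (hall : Cfsg.gammaPOmega F ⇑Q = ⊤)

include hQ hcard hall in
/-- the field automorphism of `semiAut g σ` is unique -/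
theorem uniq_sigmaA {g g' : GL ι F} {σ σ' : F ≃+* F} (hp : Cfsg.IsSemisimilarityPair ⇑Q g σ)
    (hp' : Cfsg.IsSemisimilarityPair ⇑Q g' σ')
    (h : semiAut ⇑Q g σ hp = semiAut ⇑Q g' σ' hp') : σ = σ' := by
  obtain ⟨k, τ, hk, hinv⟩ := exists_formO Q hall (semiAut ⇑Q g σ hp)⁻¹
  have e1 : semiAut ⇑Q k τ hk * semiAut ⇑Q g σ hp = 1 := by rw [← hinv]; group
  have e2 : semiAut ⇑Q k τ hk * semiAut ⇑Q g' σ' hp' = 1 := by rw [← h]; exact e1
  rw [semiAut_mul] at e1 e2
  have s1 := (semi_ker_all Q hQ hcard _ _ _ e1).1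
  have s2 := (semi_ker_all Q hQ hcard _ _ _ e2).1
  ext x
  have t1 := RingEquiv.congr_fun s1 x
  have t2 := RingEquiv.congr_fun s2 x
  simp only [RingEquiv.trans_apply, RingEquiv.refl_apply] at t1 t2
  exact τ.injective (t1.trans t2.symm)

/-- the field automorphism component -/
noncomputable def psiAFun (β : MulAut (Cfsg.POmega F ⇑Q)) : F ≃+* F :=
  (exists_formO Q hall β).choose_spec.choose

include hQ hcard in
theorem psiAFun_eq {β : MulAut (Cfsg.POmega F ⇑Q)} {g : GL ι F} {σ : F ≃+* F}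
    (hp : Cfsg.IsSemisimilarityPair ⇑Q g σ) (h : β = semiAut ⇑Q g σ hp) :
    psiAFun Q hall β = σ := by
  obtain ⟨hp', h1⟩ := (exists_formO Q hall β).choose_spec.choose_spec
  unfold psiAFun
  exact uniq_sigmaA Q hQ hcard hall hp' hp (h1.symm.trans h)

/-- the homomorphism `Aut(PΩ(Q)) → Aut(F)` -/
noncomputable def psiA : MulAut (Cfsg.POmega F ⇑Q) →* (F ≃+* F) where
  toFun := psiAFun Q hall
  map_one' := by
    have h1 : (1 : MulAut (Cfsg.POmega F ⇑Q)) =
        semiAut ⇑Q (1 : ↥(Sim ⇑Q)).1 (RingEquiv.refl F) (pair_refl_of_sim ⇑Q 1) := by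
      rw [semiAut_refl, map_one]
    rw [psiAFun_eq Q hQ hcard hall _ h1]
    rfl
  map_mul' β β' := by
    obtain ⟨g, σ, hp, h⟩ := exists_formO Q hall β
    obtain ⟨g', σ', hp', h'⟩ := exists_formO Q hall β'
    rw [psiAFun_eq Q hQ hcard hall hp h, psiAFun_eq Q hQ hcard hall hp' h']
    have h3 : β * β' = semiAut ⇑Q (g * glmap σ g') (σ'.trans σ) (pair_mul ⇑Q hp hp') := by
      rw [h, h', semiAut_mul]
    rw [psiAFun_eq Q hQ hcard hall _ h3]
    rfl

theorem psiA_apply {g : GL ι F} {σ : F ≃+* F} (hp : Cfsg.IsSemisimilarityPair ⇑Q g σ) :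
    psiA Q hQ hcard hall (semiAut ⇑Q g σ hp) = σ :=
  psiAFun_eq Q hQ hcard hall hp rfl

theorem psiA_ker : (psiA Q hQ hcard hall).ker = (Phi ⇑Q).range := by
  ext β
  rw [MonoidHom.mem_ker, MonoidHom.mem_range]
  constructor
  · intro h
    obtain ⟨g, σ, hp, hβ⟩ := exists_formO Q hall β
    rw [hβ, psiA_apply] at h
    subst h
    refine ⟨⟨g, sim_of_pair_refl ⇑Q hp⟩, ?_⟩
    rw [hβ, ← semiAut_refl]
    rfl
  · rintro ⟨g, rfl⟩
    rw [← semiAut_refl, psiA_apply]
    rfl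


theorem psiA_surjective (hex : ∀ σ : F ≃+* F, ∃ g : GL ι F, Cfsg.IsSemisimilarityPair ⇑Q g σ) :
    Function.Surjective (psiA Q hQ hcard hall) := by
  intro σ
  obtain ⟨g, hg⟩ := hex σ
  exact ⟨semiAut ⇑Q g σ hg, psiA_apply Q hQ hcard hall _⟩

include hQ hcard hall in
/-- the order of the automorphism group -/
theorem card_aut_all (hex : ∀ σ : F ≃+* F, ∃ g : GL ι F, Cfsg.IsSemisimilarityPair ⇑Q g σ)
    {p f : ℕ} [Fact p.Prime] [CharP F p] (hF : Fintype.card F = p ^ f) :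
    Nat.card (MulAut (Cfsg.POmega F ⇑Q)) = f * Nat.card ↥(Phi ⇑Q).range := by
  rw [AutPSL.card_of_surjective_ker _ (psiA_surjective Q hQ hcard hall hex), psiA_ker,
    AutPSL.card_ringAut p hF]

include hQ hcard in
theorem inn_le_kerA : Cfsg.Inn (Cfsg.POmega F ⇑Q) ≤ (psiA Q hQ hcard hall).ker := by
  rw [psiA_ker, inn_eq]
  rintro _ ⟨g, -, rfl⟩
  exact ⟨g, rfl⟩

include hQ hcard hall in
theorem range_Phi_normalA : (Phi ⇑Q).range.Normal := by
  rw [← psiA_ker Q hQ hcard hall]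
  infer_instance

end psiall

end

section

open Matrix QuadraticMap Module
open Cfsg.Agent.Lib.H11.ConfOrth

section trace2

variable {F : Type*} [Field F] [Fintype F] [CharP F 2]

/-- the absolute trace in characteristic two -/
def tr2 (f : ℕ) (x : F) : F := ∑ j ∈ Finset.range f, x ^ 2 ^ j

theorem tr2_zero (x : F) : tr2 0 x = 0 := by simp [tr2]

theorem tr2_succ (f : ℕ) (x : F) : tr2 (f + 1) x = tr2 f x ^ 2 + x := by
  unfold tr2
  rw [Finset.sum_range_succ', sum_pow_char]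
  congr 1
  · apply Finset.sum_congr rfl
    intro j _
    rw [← pow_mul, pow_succ]
  · simp

theorem tr2_add (f : ℕ) (x y : F) : tr2 f (x + y) = tr2 f x + tr2 f y := by
  unfold tr2
  rw [← Finset.sum_add_distrib]
  apply Finset.sum_congr rfl
  intro j _
  haveI : Fact (Nat.Prime 2) := ⟨Nat.prime_two⟩
  exact add_pow_char_pow x y 2 j

theorem tr2_sq (f : ℕ) (x : F) : tr2 f (x ^ 2) = tr2 f x ^ 2 := by
  unfold tr2
  rw [sum_pow_char]
  apply Finset.sum_congr rfl
  intro j _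
  rw [← pow_mul, ← pow_mul, mul_comm]

theorem tr2_sq_add {f : ℕ} (hF : Fintype.card F = 2 ^ f) (x : F) :
    tr2 f x ^ 2 + tr2 f x = 0 := by
  have h2 : (2 : F) = 0 := CharTwo.two_eq_zero
  have key : ∀ i : ℕ, tr2 i x ^ 2 + tr2 i x = x ^ 2 ^ i + x := by
    intro i
    induction i with
    | zero =>
      rw [tr2_zero, pow_zero, pow_one]
      linear_combination (-x) * h2
    | succ i ih =>
      rw [tr2_succ, pow_succ 2 i, pow_mul]
      linear_combination (x ^ 2 ^ i + tr2 i x ^ 2 + tr2 i x - x) * ih +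
        (2 * tr2 i x ^ 2 * x - tr2 i x ^ 3 + tr2 i x * x) * h2
  rw [key, ← hF, FiniteField.pow_card]
  linear_combination x * h2

theorem tr2_cases {f : ℕ} (hF : Fintype.card F = 2 ^ f) (x : F) : tr2 f x = 0 ∨ tr2 f x = 1 := by
  have h2 : (2 : F) = 0 := CharTwo.two_eq_zero
  have h := tr2_sq_add hF x
  have : tr2 f x * (tr2 f x + 1) = 0 := by linear_combination h
  rcases mul_eq_zero.1 this with h | h
  · exact Or.inl h
  · right
    linear_combination h - h2

theorem exists_tr2_ne {f : ℕ} (hF : Fintype.card F = 2 ^ f) : ∃ x : F, tr2 f x ≠ 0 := by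
  letI := ZMod.algebra F 2
  obtain ⟨x, hx⟩ := Algebra.trace_surjective (ZMod 2) F 1
  refine ⟨x, ?_⟩
  have h1 := FiniteField.algebraMap_trace_eq_sum_pow (ZMod 2) F x
  have h2 : Module.finrank (ZMod 2) F = f := by
    have h4 : Fintype.card F = Fintype.card (ZMod 2) ^ Module.finrank (ZMod 2) F :=
      Module.card_eq_pow_finrank
    rw [ZMod.card, hF] at h4
    exact (Nat.pow_right_injective (le_refl 2) h4).symm
  rw [h2, hx, map_one] at h1
  simp only [Nat.card_eq_fintype_card, ZMod.card] at h1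
  unfold tr2
  rw [← h1]
  exact one_ne_zero

/-- the trace of an element outside the image of `t ↦ t ^ 2 + t` is `1` -/
theorem tr2_eq_one {f : ℕ} (hF : Fintype.card F = 2 ^ f) (c : F)
    (hc : ∀ t : F, t ^ 2 + t + c ≠ 0) : tr2 f c = 1 := by
  have h2 : (2 : F) = 0 := CharTwo.two_eq_zero
  rcases tr2_cases hF c with h0 | h1
  · exfalso
    obtain ⟨x, hx⟩ := exists_tr2_ne hF
    apply hx
    have hcn : c ∉ (MinusClass.asHom F).range := by
      rintro ⟨t, ht⟩
      rw [MinusClass.asHom_apply] at ht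
      apply hc t
      linear_combination ht + c * h2
    have hr : ∀ y ∈ (MinusClass.asHom F).range, tr2 f y = 0 := by
      rintro _ ⟨t, rfl⟩
      rw [MinusClass.asHom_apply, tr2_add, tr2_sq]
      exact tr2_sq_add hF t
    by_cases hxr : x ∈ (MinusClass.asHom F).range
    · exact hr x hxr
    · have := (AddSubgroup.add_mem_iff_of_index_two (MinusClass.index_range_asHom (F := F))
        (a := x) (b := c)).2 ⟨fun h => absurd h hxr, fun h => absurd h hcn⟩
      have h3 := hr _ this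
      rw [tr2_add, h0, add_zero] at h3
      exact h3
  · exact h1

end trace2

end

section

open Matrix QuadraticMap Module
open Cfsg.Agent.Lib.H11.ConfOrth

section char2struct

variable {F : Type*} [Field F] [Fintype F] [CharP F 2] {ι : Type} [Fintype ι] [DecidableEq ι]
variable (Q : QuadraticForm F (ι → F))
variable (hQ : (polarBilin Q).Nondegenerate) (hcard : 7 ≤ Fintype.card ι)

omit [Fintype F] [Fintype ι] [DecidableEq ι] in
theorem units_eq_one_of_sq (c : Fˣ) (h : (c : F) ^ 2 = 1) : c = 1 := by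
  have h2 : (2 : F) = 0 := CharTwo.two_eq_zero
  apply Units.ext
  rw [Units.val_one]
  have h1 : ((c : F) - 1) ^ 2 = 0 := by linear_combination h - (c : F) * h2 + h2
  have h3 := pow_eq_zero_iff (two_ne_zero) |>.1 h1
  linear_combination h3

include hQ hcard in
/-- in characteristic two every similarity is a scalar times an isometry -/
theorem sim_eq_scalar_mul2 (g : ↥(Sim ⇑Q)) :
    ∃ c : Fˣ, ∃ s ∈ Cfsg.isometryGroup F ⇑Q, g.1 = Matrix.GeneralLinearGroup.scalar ι c * s := by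
  have hne := exists_neO Q hQ hcard
  set τ : Fˣ := mult (⇑Q) hne g with hτ
  obtain ⟨r, hr⟩ := Cfsg.Agent.Lib.H13.Char2Gen.exists_sqrt (F := F) (τ : F)
  have hr0 : r ≠ 0 := by
    rintro rfl
    rw [mul_zero] at hr
    exact τ.ne_zero hr.symm
  set c : Fˣ := Units.mk0 r hr0 with hc
  refine ⟨c, (Matrix.GeneralLinearGroup.scalar ι c)⁻¹ * g.1, ?_, by rw [mul_inv_cancel_left]⟩
  rw [Cfsg.Agent.Lib.H11.ConfOrth.mem_iso_iff]
  intro x
  have h3 : ((Matrix.GeneralLinearGroup.scalar ι c)⁻¹ * g.1).1 *ᵥ x =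
      ((c⁻¹ : Fˣ) : F) • (g.1.1 *ᵥ x) := by
    rw [Units.val_mul, ← Matrix.mulVec_mulVec, ← map_inv, scalar_mulVec]
  rw [h3, hhom, mult_spec (⇑Q) hne g, ← hτ, ← hr]
  have : ((c⁻¹ : Fˣ) : F) = r⁻¹ := by rw [Units.val_inv_eq_inv_val, hc, Units.val_mk0]
  rw [this]
  field_simp

include hQ hcard in
theorem PhiO_range2 : (PhiO Q).range = (Phi ⇑Q).range := by
  apply le_antisymm
  · rintro _ ⟨s, rfl⟩
    exact ⟨_, rfl⟩
  · rintro _ ⟨g, rfl⟩
    obtain ⟨c, s, hs, hg⟩ := sim_eq_scalar_mul2 Q hQ hcard g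
    have hcS : Matrix.GeneralLinearGroup.scalar ι c ∈ Sim ⇑Q :=
      Zs_le_sim' Q ((mem_Zs_iff _).2 ⟨c, rfl⟩)
    have hg' : g = ⟨Matrix.GeneralLinearGroup.scalar ι c, hcS⟩ *
        Subgroup.inclusion (iso_le_sim ⇑Q) ⟨s, hs⟩ := Subtype.ext hg
    have hk : (⟨Matrix.GeneralLinearGroup.scalar ι c, hcS⟩ : ↥(Sim ⇑Q)) ∈ (Phi ⇑Q).ker := by
      rw [ker_Phi_all Q hQ hcard, Subgroup.mem_subgroupOf, mem_Zs_iff]
      exact ⟨c, rfl⟩
    refine ⟨⟨s, hs⟩, ?_⟩
    rw [hg', map_mul, MonoidHom.mem_ker.1 hk, one_mul]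
    rfl

include hQ hcard in
/-- a scalar isometry is trivial in characteristic two -/
theorem scalar_iso_eq_one (c : Fˣ)
    (h : Matrix.GeneralLinearGroup.scalar ι c ∈ Cfsg.isometryGroup F ⇑Q) : c = 1 := by
  obtain ⟨v, hv⟩ := exists_neO Q hQ hcard
  have h1 := (Cfsg.Agent.Lib.H11.ConfOrth.mem_iso_iff ⇑Q _).1 h v
  rw [scalar_mulVec, hhom] at h1
  apply units_eq_one_of_sq
  have : ((c : F) ^ 2 - 1) * Q v = 0 := by linear_combination h1
  rcases mul_eq_zero.1 this with h | h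
  · linear_combination h
  · exact absurd h hv

include hQ hcard in
theorem PhiO_injective2 : Function.Injective (PhiO Q) := by
  rw [injective_iff_map_eq_one]
  intro z hz
  have h1 : Subgroup.inclusion (iso_le_sim ⇑Q) z ∈ (Phi ⇑Q).ker := hz
  rw [ker_Phi_all Q hQ hcard, Subgroup.mem_subgroupOf, mem_Zs_iff] at h1
  obtain ⟨c, hc⟩ := h1
  have hc' : z.1 = Matrix.GeneralLinearGroup.scalar ι c := hc
  have h3 := scalar_iso_eq_one Q hQ hcard c (by rw [← hc']; exact z.2)
  apply Subtype.ext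
  rw [hc', h3, map_one]
  rfl

include hQ hcard in
theorem center_omega2 : Subgroup.center ↥(Cfsg.Omega F ⇑Q) = ⊥ := by
  rw [Subgroup.eq_bot_iff_forall]
  intro z hz
  rw [Subgroup.mem_center_iff] at hz
  have h1 : z.1.1 ∈ Zs ι F := by
    apply schur_all Q hQ hcard
    rintro w ⟨s, hs, rfl⟩
    have := hz ⟨s, hs⟩
    have h3 := congrArg (fun x : ↥(Cfsg.Omega F ⇑Q) => ((x : ↥(Cfsg.isometryGroup F ⇑Q)) : GL ι F)) this
    exact h3.symm
  obtain ⟨c, hc⟩ := (mem_Zs_iff _).1 h1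
  have h3 := scalar_iso_eq_one Q hQ hcard c (by rw [← hc]; exact z.1.2)
  apply Subtype.ext
  apply Subtype.ext
  rw [hc, h3, map_one]
  rfl

include hQ hcard in
theorem card_pomega2 : Nat.card (Cfsg.POmega F ⇑Q) = Nat.card ↥(Cfsg.Omega F ⇑Q) := by
  have h5 := Subgroup.card_eq_card_quotient_mul_card_subgroup (Subgroup.center ↥(Cfsg.Omega F ⇑Q))
  have hc : Nat.card ↥(Subgroup.center ↥(Cfsg.Omega F ⇑Q)) = 1 := by
    rw [center_omega2 Q hQ hcard, Subgroup.card_bot]
  rw [hc, mul_one] at h5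
  exact h5.symm

include hQ hcard in
theorem card_Phi_range2 : Nat.card ↥(Phi ⇑Q).range = 2 * Nat.card (Cfsg.POmega F ⇑Q) := by
  have h1 : Nat.card ↥(PhiO Q).range = Nat.card ↥(Cfsg.isometryGroup F ⇑Q) :=
    (Nat.card_congr (MonoidHom.ofInjective (PhiO_injective2 Q hQ hcard)).toEquiv).symm
  rw [PhiO_range2 Q hQ hcard] at h1
  haveI : Nonempty ι := by
    rw [← Fintype.card_pos_iff]; omega
  have h3 := Cfsg.Agent.Lib.H13.Char2Omega.index_Omega Q hQ (Or.inr (by omega))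
  have h4 := Subgroup.card_mul_index (Cfsg.Omega F ⇑Q)
  rw [h3] at h4
  rw [h1, card_pomega2 Q hQ hcard]
  omega

include hQ hcard in
/-- an isometry induces an inner automorphism iff it lies in `Ω` -/
theorem mem_inn_iff2 (s : ↥(Cfsg.isometryGroup F ⇑Q)) :
    PhiO Q s ∈ Cfsg.Inn (Cfsg.POmega F ⇑Q) ↔ s ∈ Cfsg.Omega F ⇑Q := by
  constructor
  · intro h
    have h1 : Subgroup.inclusion (iso_le_sim ⇑Q) s ∈
        (Cfsg.Inn (Cfsg.POmega F ⇑Q)).comap (Phi ⇑Q) := h
    rw [inn_eq, mem_comap_map Q (ker_Phi_all Q hQ hcard)] at h1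
    obtain ⟨c, ω, hω, hsω⟩ := h1
    have hsω' : s.1 = Matrix.GeneralLinearGroup.scalar ι c * ω := hsω
    obtain ⟨hωi, hωΩ⟩ := (mem_omegaGL_iff (⇑Q) ω).1 hω
    have hci : Matrix.GeneralLinearGroup.scalar ι c ∈ Cfsg.isometryGroup F ⇑Q := by
      have : Matrix.GeneralLinearGroup.scalar ι c = s.1 * ω⁻¹ := by
        rw [hsω', mul_inv_cancel_right]
      rw [this]
      exact mul_mem s.2 (inv_mem hωi)
    have hc1 := scalar_iso_eq_one Q hQ hcard c hci
    rw [hc1, map_one, one_mul] at hsω'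
    have : s = ⟨ω, hωi⟩ := Subtype.ext hsω'
    rw [this]
    exact hωΩ
  · intro h
    rw [inn_eq]
    refine ⟨Subgroup.inclusion (iso_le_sim ⇑Q) s, ?_, rfl⟩
    rw [SetLike.mem_coe, Subgroup.mem_subgroupOf]
    exact (mem_omegaGL_iff (⇑Q) _).2 ⟨s.2, h⟩

end char2struct

end

section

open Matrix QuadraticMap Module
open Cfsg.Agent.Lib.H11.ConfOrth
open Cfsg.Agent.Lib.H13

section frob2

variable {F : Type*} [Field F] {m : ℕ}

theorem twM_mul (s t u v : F) : twM (m := m) s t * twM u v = twM (u + s * v) (t * v) := by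
  unfold twM
  rw [Matrix.fromBlocks_multiply]
  simp only [Matrix.one_mul, Matrix.mul_zero, Matrix.zero_mul, add_zero, zero_add]
  congr 1
  ext i j
  fin_cases i <;> fin_cases j <;> simp [Matrix.mul_apply, Fin.sum_univ_two]

theorem twM_map (σ : F ≃+* F) (s t : F) : (twM (m := m) s t).map σ = twM (σ s) (σ t) := by
  unfold twM
  rw [Matrix.fromBlocks_map]
  congr 1
  · ext i j
    by_cases h : i = j <;> simp [Matrix.one_apply, h]
  · ext i j; simp
  · ext i j; simp
  · ext i j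
    fin_cases i <;> fin_cases j <;> simp

theorem twM_one : twM (m := m) (0 : F) 1 = 1 := by
  unfold twM
  have : (!![1, 0; 0, 1] : Matrix (Fin 2) (Fin 2) F) = 1 := by
    ext i j
    fin_cases i <;> fin_cases j <;> simp
  rw [this, Matrix.fromBlocks_one]

theorem twM_mulVec (s t : F) (x : (Fin m ⊕ Fin m) ⊕ Fin 2 → F) :
    twM s t *ᵥ x = Sum.elim (fun j => x (Sum.inl j))
      ![x (Sum.inr 0) + s * x (Sum.inr 1), t * x (Sum.inr 1)] := by
  unfold twM
  rw [Matrix.fromBlocks_mulVec]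
  funext k
  rcases k with j | j
  · simp
  · fin_cases j <;> simp [Matrix.mulVec, dotProduct, Fin.sum_univ_two]

variable [CharP F 2]

theorem twM_Q2 (σ : F ≃+* F) (a b : F) (hσ : ∀ x, σ x = x ^ 2)
    (x : (Fin m ⊕ Fin m) ⊕ Fin 2 → F) :
    Cfsg.quadFormMinus m F a b (twM b a *ᵥ vmap σ x) = σ (Cfsg.quadFormMinus m F a b x) := by
  have h2 : (2 : F) = 0 := CharTwo.two_eq_zero
  rw [twM_mulVec]
  unfold Cfsg.quadFormMinus
  simp only [Sum.elim_inl, Sum.elim_inr, vmap_apply, map_add, map_sum, map_mul, map_pow,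
    Matrix.cons_val_zero, Matrix.cons_val_one]
  congr 1
  rw [hσ a, hσ b]
  set w0 := σ (x (Sum.inr 0))
  set w1 := σ (x (Sum.inr 1))
  linear_combination (b * w0 * w1 + a ^ 2 * b * w1 ^ 2) * h2

/-- the sequences of entries of the partial norms -/
def twA (a : F) : ℕ → F
  | 0 => 1
  | (i + 1) => a * (twA a i) ^ 2

def twB (a b : F) : ℕ → F
  | 0 => 0
  | (i + 1) => (twB a b i) ^ 2 + b * (twA a i) ^ 2

omit [CharP F 2] in
theorem twA_mul (a : F) (i : ℕ) : twA a i * a = a ^ 2 ^ i := by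
  induction i with
  | zero => simp [twA]
  | succ i ih =>
    show a * (twA a i) ^ 2 * a = _
    rw [pow_succ 2 i, pow_mul, ← ih]
    ring

theorem twB_eq [Fintype F] (a b : F) (ha : a ≠ 0) (i : ℕ) :
    twB a b i = a ^ 2 ^ i * tr2 i (b / a ^ 2) := by
  induction i with
  | zero => simp [twB, tr2_zero]
  | succ i ih =>
    show (twB a b i) ^ 2 + b * (twA a i) ^ 2 = _
    rw [ih, tr2_succ, pow_succ 2 i, pow_mul, ← twA_mul a i]
    field_simp

end frob2

end

section

open Matrix QuadraticMap Module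
open Cfsg.Agent.Lib.H11.ConfOrth
open Cfsg.Agent.Lib.H13

section out2

variable {F : Type*} [Field F] [Fintype F] [CharP F 2] {m : ℕ}

omit [Fintype F] in
theorem PN_frob2 (a b : F) (g₁ : GL ((Fin m ⊕ Fin m) ⊕ Fin 2) F) (hg₁ : g₁.1 = twM b a)
    (σ : F ≃+* F) (hσ : ∀ x, σ x = x ^ 2) (i : ℕ) :
    (PN σ g₁ i).1 = twM (twB a b i) (twA a i) := by
  induction i with
  | zero =>
    rw [PN_zero, Units.val_one]
    exact twM_one.symm
  | succ i ih =>
    rw [PN_succ, Units.val_mul, glmap_val, ih, hg₁, twM_map, twM_mul, hσ, hσ]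
    rfl

/-- anisotropy in characteristic two -/
theorem aniso_char2 (a b : F)
    (hab : ∀ z₁ z₂ : F, z₁ ^ 2 + a * z₁ * z₂ + b * z₂ ^ 2 = 0 → z₁ = 0 ∧ z₂ = 0) :
    a ≠ 0 ∧ ∀ t : F, t ^ 2 + t + b / a ^ 2 ≠ 0 := by
  have h2 : (2 : F) = 0 := CharTwo.two_eq_zero
  have ha : a ≠ 0 := by
    rintro rfl
    obtain ⟨s, hs⟩ := Char2Gen.exists_sqrt (F := F) b
    have := (hab s 1 (by rw [← hs]; linear_combination (s * s) * h2)).2
    exact one_ne_zero this
  refine ⟨ha, ?_⟩
  intro t ht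
  have := (hab t a⁻¹ (by
    have : t ^ 2 + a * t * a⁻¹ + b * a⁻¹ ^ 2 = t ^ 2 + t + b / a ^ 2 := by
      field_simp
    rw [this, ht])).2
  exact inv_ne_zero ha this

theorem twAB_final {f : ℕ} (hF : Fintype.card F = 2 ^ f) (a b : F)
    (hab : ∀ z₁ z₂ : F, z₁ ^ 2 + a * z₁ * z₂ + b * z₂ ^ 2 = 0 → z₁ = 0 ∧ z₂ = 0) :
    twA a f = 1 ∧ twB a b f = a := by
  obtain ⟨ha, hc⟩ := aniso_char2 a b hab
  have hq : a ^ 2 ^ f = a := by rw [← hF, FiniteField.pow_card]
  constructor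
  · have h1 := twA_mul a f
    rw [hq] at h1
    have : (twA a f - 1) * a = 0 := by linear_combination h1
    rcases mul_eq_zero.1 this with h | h
    · linear_combination h
    · exact absurd h ha
  · rw [twB_eq a b ha, hq, tr2_eq_one hF _ hc, mul_one]

omit [Fintype F] in
/-- the transvection `twM a 1` is the reflection in the first anisotropic basis vector -/
theorem twM_eq_refl (a b : F) :
    twM (m := m) a 1 = Cfsg.reflectionMatrix (Cfsg.quadFormMinus m F a b)
      (Pi.single (Sum.inr 0) 1) := by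
  have h2 : (2 : F) = 0 := CharTwo.two_eq_zero
  rw [← Cfsg.Agent.S0288.coe_minusQF, Matrix.ext_iff_mulVec]
  intro x
  rw [Cfsg.Agent.Lib.H4.reflectionMatrix_mulVec, twM_mulVec, Cfsg.Agent.S0288.coe_minusQF,
    polar_quadFormMinus_formula]
  have hQe : Cfsg.quadFormMinus m F a b (Pi.single (Sum.inr 0) 1) = 1 := by
    unfold Cfsg.quadFormMinus
    simp
  rw [hQe]
  funext k
  rcases k with j | j
  · simp
  · fin_cases j
    · simp
      linear_combination (x (Sum.inr 0) + a * x (Sum.inr 1)) * h2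
    · simp

end out2

end

section

open Matrix QuadraticMap Module
open Cfsg.Agent.Lib.H11.ConfOrth
open Cfsg.Agent.Lib.H13

section out2main

variable {F : Type*} [Field F] [Fintype F] [CharP F 2] {m : ℕ}

theorem out_minus_two (hm : 3 ≤ m) (a b : F)
    (hab : ∀ z₁ z₂ : F, z₁ ^ 2 + a * z₁ * z₂ + b * z₂ ^ 2 = 0 → z₁ = 0 ∧ z₂ = 0)
    {f : ℕ} (hf : 1 ≤ f) (hF : Fintype.card F = 2 ^ f) :
    IsCyclic (Cfsg.Out (Cfsg.POmega F ⇑(minusQF F m a b))) ∧
      Nat.card (Cfsg.Out (Cfsg.POmega F ⇑(minusQF F m a b))) = 2 * f ∧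
      Nat.card (MulAut (Cfsg.POmega F ⇑(minusQF F m a b))) =
        2 * f * Nat.card (Cfsg.POmega F ⇑(minusQF F m a b)) := by
  classical
  haveI : Fact (Nat.Prime 2) := ⟨Nat.prime_two⟩
  have h2 : (2 : F) = 0 := CharTwo.two_eq_zero
  set Q := minusQF F m a b with hQdef
  have hQ : (polarBilin Q).Nondegenerate := Cfsg.Agent.S0288.nondeg (F := F) a b hab m
  have hcard : Fintype.card ((Fin m ⊕ Fin m) ⊕ Fin 2) = 2 * (m + 1) := card_minus
  have hc7 : 7 ≤ Fintype.card ((Fin m ⊕ Fin m) ⊕ Fin 2) := by rw [hcard]; omega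
  have hall : Cfsg.gammaPOmega F ⇑Q = ⊤ := by
    apply gamma_eq_top _ hQ hc7
    by_cases h4 : 4 ≤ m
    · left
      rw [hcard]; omega
    · right
      intro U hU
      have hm3 : m = 3 := by omega
      have := no_ts_minus m a b hab U hU
      omega
  obtain ⟨ha, hc⟩ := aniso_char2 a b hab
  set σ := frobeniusEquiv F 2 with hσdef
  have hσ : ∀ x : F, σ x = x ^ 2 := fun x => by
    rw [hσdef, frobeniusEquiv_apply, frobenius_def]
  set g₁ : GL ((Fin m ⊕ Fin m) ⊕ Fin 2) F :=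
    Matrix.GeneralLinearGroup.mkOfDetNeZero (twM b a) (by rw [twM_det]; exact ha) with hg₁def
  have hg₁ : g₁.1 = twM b a := rfl
  have hp₁ : Cfsg.IsSemisimilarityPair ⇑Q g₁ σ := by
    refine ⟨1, fun v => ?_⟩
    rw [Units.val_one, one_mul, hg₁, Cfsg.Agent.S0288.coe_minusQF]
    exact twM_Q2 σ a b hσ v
  set β₁ := semiAut ⇑Q g₁ σ hp₁ with hβ₁
  set ψO := psiA Q hQ hc7 hall with hψO
  have hψβ : ψO β₁ = σ := psiA_apply Q hQ hc7 hall hp₁
  have hsurjO : Function.Surjective ψO := by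
    intro τ
    obtain ⟨k, hk⟩ := Subgroup.mem_zpowers_iff.1 (frob_generates hF τ)
    exact ⟨β₁ ^ k, by rw [map_zpow, hψβ, hk]⟩
  have hN : Cfsg.Inn (Cfsg.POmega F ⇑Q) ≤ ψO.ker := inn_le_kerA Q hQ hc7 hall
  set ψ : Cfsg.Out (Cfsg.POmega F ⇑Q) →* (F ≃+* F) := QuotientGroup.lift _ ψO hN with hψ
  have hC : Nat.card (F ≃+* F) = f := AutPSL.card_ringAut 2 hF
  haveI : Finite (Cfsg.POmega F ⇑Q) := by
    unfold Cfsg.POmega
    infer_instance
  haveI : Finite (MulAut (Cfsg.POmega F ⇑Q)) :=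
    Finite.of_injective (fun f : MulAut (Cfsg.POmega F ⇑Q) =>
      (f : Cfsg.POmega F ⇑Q → Cfsg.POmega F ⇑Q)) (fun f g h => MulEquiv.ext (congrFun h))
  -- orders
  have hcA : Nat.card (MulAut (Cfsg.POmega F ⇑Q)) = 2 * f * Nat.card (Cfsg.POmega F ⇑Q) := by
    rw [AutPSL.card_of_surjective_ker ψO hsurjO, hC, hψO, psiA_ker, card_Phi_range2 Q hQ hc7]
    ring
  have hZ : Subgroup.center (Cfsg.POmega F ⇑Q) = ⊥ :=
    center_quot_eq_bot (center_omega2 Q hQ hc7)
  have hcO : Nat.card (Cfsg.Out (Cfsg.POmega F ⇑Q)) = 2 * f := by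
    have h3 := Subgroup.card_eq_card_quotient_mul_card_subgroup (Cfsg.Inn (Cfsg.POmega F ⇑Q))
    rw [card_inn_eq hZ, hcA] at h3
    have hpos : 0 < Nat.card (Cfsg.POmega F ⇑Q) := Nat.card_pos
    exact (Nat.eq_of_mul_eq_mul_right hpos h3).symm
  refine ⟨?_, hcO, hcA⟩
  -- the generator
  have hσf : σ ^ f = 1 := by
    rw [← orderOf_frob hF hf]
    exact pow_orderOf_eq_one _
  set y : Cfsg.Out (Cfsg.POmega F ⇑Q) := QuotientGroup.mk β₁ with hy
  have hψy : ψ y = σ := by rw [hψ, hy, QuotientGroup.lift_mk, hψβ]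
  have hyf : y ^ f ≠ 1 := by
    intro hmem0
    have hmem1 : β₁ ^ f ∈ Cfsg.Inn (Cfsg.POmega F ⇑Q) := by
      have h := (QuotientGroup.mk_pow (Cfsg.Inn (Cfsg.POmega F ⇑Q)) β₁ f).trans hmem0
      exact (QuotientGroup.eq_one_iff _).1 h
    have hmem : semiAut ⇑Q (PN σ g₁ f) (σ ^ f) (pair_PN ⇑Q hp₁ f) ∈
        Cfsg.Inn (Cfsg.POmega F ⇑Q) := by
      rw [← semiAut_pow]
      exact hmem1
    -- the partial norm is the reflection
    obtain ⟨hA, hB⟩ := twAB_final hF a b hab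
    have hPN : (PN σ g₁ f).1 = Cfsg.reflectionMatrix ⇑Q (Pi.single (Sum.inr 0) 1) := by
      rw [PN_frob2 a b g₁ hg₁ σ hσ f, hA, hB, Cfsg.Agent.S0288.coe_minusQF]
      exact twM_eq_refl a b
    have he : Q (Pi.single (Sum.inr 0) 1) ≠ 0 := by
      rw [minusQF_apply]
      unfold Cfsg.quadFormMinus
      simp
    have hPNeq : PN σ g₁ f = (HypPairs.reflG Q _ he).1 := by
      apply Units.ext
      rw [hPN]
      rfl
    have e1 : semiAut ⇑Q (PN σ g₁ f) (σ ^ f) (pair_PN ⇑Q hp₁ f) =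
        PhiO Q (HypPairs.reflG Q _ he) := by
      unfold PhiO
      rw [MonoidHom.comp_apply, ← semiAut_refl]
      exact semiAut_congr ⇑Q hPNeq hσf _ _
    rw [e1, mem_inn_iff2 Q hQ hc7] at hmem
    exact Cfsg.Agent.Lib.H13.Char2Omega.refl_not_mem Q hQ _ he hmem
  have hoψ : orderOf (ψ y) = f := by rw [hψy, orderOf_frob hF hf]
  haveI : Finite (Cfsg.Out (Cfsg.POmega F ⇑Q)) := by
    apply Nat.finite_of_card_ne_zero
    rw [hcO]; omega
  have hoy : orderOf y = 2 * f := by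
    have h1 : orderOf y ∣ 2 * f := by
      rw [← hcO]
      exact orderOf_dvd_natCard y
    have h2' : f ∣ orderOf y := by
      rw [← hoψ]
      exact orderOf_map_dvd ψ y
    obtain ⟨j, hj⟩ := h2'
    rw [hj, mul_comm 2 f] at h1
    have h3 : j ∣ 2 := (Nat.mul_dvd_mul_iff_left (by omega)).1 h1
    have h4 : j = 1 ∨ j = 2 := by
      have := Nat.le_of_dvd (by norm_num) h3
      interval_cases j
      · simp at h3
      · left; rfl
      · right; rfl
    rcases h4 with h4 | h4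
    · exfalso
      apply hyf
      rw [h4, mul_one] at hj
      rw [← hj]
      exact pow_orderOf_eq_one y
    · rw [hj, h4, mul_comm]
  exact isCyclic_of_orderOf_eq_card y (by rw [hoy, hcO])

end out2main

end

section

open Matrix QuadraticMap Module
open Cfsg.Agent.Lib.H11.ConfOrth
open Cfsg.Agent.Lib.H13

section gruen

/-- Grün's lemma: the central quotient of a perfect group has trivial centre -/
theorem center_quot_eq_bot_of_perfect {G : Type*} [Group G] (hperf : commutator G = ⊤) :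
    Subgroup.center (G ⧸ Subgroup.center G) = ⊥ := by
  rw [eq_bot_iff]
  intro z hz
  induction z using QuotientGroup.induction_on with
  | H x =>
    rw [Subgroup.mem_center_iff] at hz
    rw [Subgroup.mem_bot, QuotientGroup.eq_one_iff, Subgroup.mem_center_iff]
    have hc : ∀ s : G, s⁻¹ * MulAut.conj x s ∈ Subgroup.center G := by
      intro s
      have h3 := hz (QuotientGroup.mk s)
      rw [← QuotientGroup.mk_mul, ← QuotientGroup.mk_mul, QuotientGroup.eq] at h3
      -- h3 : (s * x)⁻¹ * (x * s) ∈ center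
      rw [MulAut.conj_apply]
      have h4 : s⁻¹ * (x * s * x⁻¹) = x * ((s * x)⁻¹ * (x * s)) * x⁻¹ := by group
      rw [h4]
      exact Subgroup.Normal.conj_mem inferInstance _ h3 x
    intro s
    have h5 := aut_eq_one_of_perfect hperf (MulAut.conj x) hc s
    rw [MulAut.conj_apply] at h5
    calc s * x = (x * s * x⁻¹) * x := by rw [h5]
      _ = x * s := by group

end gruen

section cardminus

variable {F : Type*} [Field F] [Fintype F] {m : ℕ}

theorem card_inn_pomega {ι : Type} [Fintype ι] [DecidableEq ι] (Q : QuadraticForm F (ι → F))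
    (hQ : (polarBilin Q).Nondegenerate) (hcard : 7 ≤ Fintype.card ι) :
    Nat.card ↥(Cfsg.Inn (Cfsg.POmega F ⇑Q)) = Nat.card (Cfsg.POmega F ⇑Q) :=
  card_inn_eq (center_quot_eq_bot_of_perfect (perfect_all Q hQ hcard))

theorem card_aut_of_out {G : Type*} [Group G] (hZ : Subgroup.center G = ⊥) {B : Type*}
    (e : Nonempty (Cfsg.Out G ≃ B)) :
    Nat.card (MulAut G) = Nat.card B * Nat.card G := by
  obtain ⟨e⟩ := e
  have h3 := Subgroup.card_eq_card_quotient_mul_card_subgroup (Cfsg.Inn G)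
  rw [card_inn_eq hZ, Nat.card_congr e] at h3
  exact h3

theorem card_aut_minus_odd {p : ℕ} [Fact p.Prime] [CharP F p] (hp2 : p ≠ 2) (hm : 3 ≤ m) (a b : F)
    (hab : ∀ z₁ z₂ : F, z₁ ^ 2 + a * z₁ * z₂ + b * z₂ ^ 2 = 0 → z₁ = 0 ∧ z₂ = 0)
    {f : ℕ} (hf : 1 ≤ f) (hF : Fintype.card F = p ^ f) :
    Nat.card (MulAut (Cfsg.POmega F ⇑(minusQF F m a b))) =
      (if Even m ∧ p ^ f % 4 = 3 then 8 else 4) * f *
        Nat.card (Cfsg.POmega F ⇑(minusQF F m a b)) := by
  have hQ : (polarBilin (minusQF F m a b)).Nondegenerate :=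
    Cfsg.Agent.S0288.nondeg (F := F) a b hab m
  have hcard : Fintype.card ((Fin m ⊕ Fin m) ⊕ Fin 2) = 2 * (m + 1) := card_minus
  have hc7 : 7 ≤ Fintype.card ((Fin m ⊕ Fin m) ⊕ Fin 2) := by rw [hcard]; omega
  have hZ := center_quot_eq_bot_of_perfect (perfect_all (minusQF F m a b) hQ hc7)
  obtain ⟨h1, h2⟩ := out_minus_odd hp2 hm a b hab hf hF
  haveI : NeZero f := ⟨by omega⟩
  split_ifs with h
  · obtain ⟨e⟩ := h1 h
    have := card_aut_of_out hZ ⟨e.toEquiv⟩
    rw [this, Nat.card_prod, DihedralGroup.nat_card, Nat.card_eq_fintype_card (α := Multiplicative (ZMod f))]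
    simp [ZMod.card]
  · obtain ⟨e⟩ := h2 h
    have hh := card_aut_of_out hZ ⟨e.toEquiv⟩
    haveI : NeZero (2 * f) := ⟨by omega⟩
    rw [hh, Nat.card_eq_fintype_card (α := Multiplicative (ZMod 2 × ZMod (2 * f)))]
    have : Fintype.card (Multiplicative (ZMod 2 × ZMod (2 * f))) = 4 * f := by
      simp [ZMod.card]
      ring
    rw [this]

end cardminus

end

end Cfsg.Agent.Lib.H13.AutPO
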