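import Cfsg.Agent.Lib.H11.SpinSignGen

set_option autoImplicit false

namespace Cfsg.Agent.Lib.H13.OmegaCrit

open Matrix
open scoped MatrixGroups
open Cfsg.Agent.Lib.H11.CD Cfsg.Agent.Lib.H11.SpinSign Cfsg.Agent.Lib.H11.IsoReindex

section fin

variable {F : Type*} [Field F] [Fintype F] [DecidableEq F] {n : ℕ} (Q : QuadraticForm F (Fin n → F))

theorem ringChar_ne_two' (h2 : (2 : F) ≠ 0) : ringChar F ≠ 2 := by
  intro h
  apply h2
  have := CharP.cast_eq_zero F (ringChar F)
  rw [h] at this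
  exact_mod_cast this

open scoped Classical in
/-- the sign character at level `1` of a reflection is `-χ(Q v)` -/
theorem chi_one_reflEl (h2 : (2 : F) ≠ 0) (v : Fin n → F) (hv : Q v ≠ 0) :
    ((chi Q 1 (reflEl Q v hv) : ℤˣ) : ℤ) = - quadraticChar F (Q v) := by
  rw [chi_reflEl Q h2 v hv 1 one_ne_zero]
  split_ifs with h
  · obtain ⟨s, hs⟩ := h
    have hs0 : s ≠ 0 := by
      rintro rfl
      simp at hs
    have : IsSquare (Q v) := by
      refine ⟨s⁻¹, ?_⟩
      field_simp
      linear_combination hs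
    rw [(quadraticChar_one_iff_isSquare hv).mpr this]
    simp
  · have : ¬ IsSquare (Q v) := by
      rintro ⟨r, hr⟩
      apply h
      have hr0 : r ≠ 0 := by
        rintro rfl
        apply hv
        rw [hr, mul_zero]
      refine ⟨r⁻¹, ?_⟩
      rw [hr]
      field_simp
    rw [(quadraticChar_neg_one_iff_not_isSquare).mpr this]
    simp

/-- a product of reflections as an element of the isometry group, with its determinant and sign -/
theorem list_key (h2 : (2 : F) ≠ 0) (vs : List (Fin n → F)) (hvs : ∀ v ∈ vs, Q v ≠ 0) :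
    ∃ h : ↥(Cfsg.isometryGroup F ⇑Q),
      ((h : GL (Fin n) F) : Matrix (Fin n) (Fin n) F) =
        (vs.map (fun v => Cfsg.reflectionMatrix ⇑Q v)).prod ∧
      ((detHom Q h : Fˣ) : F) = (-1) ^ vs.length ∧
      ((chi Q 1 h : ℤˣ) : ℤ) = (-1) ^ vs.length * quadraticChar F (vs.map (fun v => Q v)).prod := by
  induction vs with
  | nil =>
    refine ⟨1, ?_, ?_, ?_⟩
    · simp
    · simp
    · simp
  | cons v vs ih =>
    obtain ⟨h, h1, h3, h4⟩ := ih (fun w hw => hvs w (List.mem_cons_of_mem _ hw))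
    have hv : Q v ≠ 0 := hvs v List.mem_cons_self
    refine ⟨reflEl Q v hv * h, ?_, ?_, ?_⟩
    · rw [List.map_cons, List.prod_cons, ← h1]
      rfl
    · rw [map_mul, Units.val_mul, h3, detHom_reflEl, List.length_cons, pow_succ]
      simp
    · rw [map_mul, Units.val_mul, h4, chi_one_reflEl Q h2 v hv, List.map_cons, List.prod_cons,
        map_mul, List.length_cons, pow_succ]
      ring

/-- **Spinor norm criterion** (Fin n version) -/
theorem mem_Omega_iff_list_fin (h2 : (2 : F) ≠ 0) (hn : 2 ≤ n)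
    (hQ : (QuadraticMap.polarBilin Q).Nondegenerate) (g : ↥(Cfsg.isometryGroup F ⇑Q))
    (vs : List (Fin n → F)) (hvs : ∀ v ∈ vs, Q v ≠ 0)
    (hg : ((g : GL (Fin n) F) : Matrix (Fin n) (Fin n) F) =
      (vs.map (fun v => Cfsg.reflectionMatrix ⇑Q v)).prod) :
    g ∈ Cfsg.Omega F ⇑Q ↔ (Even vs.length ∧ IsSquare (vs.map (fun v => Q v)).prod) := by
  obtain ⟨h, h1, h3, h4⟩ := list_key Q h2 vs hvs
  have hgh : g = h := by
    apply Subtype.ext
    apply Units.ext
    rw [hg, h1]
  subst hgh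
  have hne : (-1 : F) ≠ 1 := by
    intro h
    apply h2
    linear_combination -h
  have hprod : (vs.map (fun v => Q v)).prod ≠ 0 := by
    rw [Ne, List.prod_eq_zero_iff]
    intro h0
    obtain ⟨v, hv, hv0⟩ := List.mem_map.mp h0
    exact hvs v hv hv0
  have hm := (main Q hQ h2 hn 1 one_ne_zero).2 g
  show g ∈ commutator _ ↔ _
  rw [hm]
  have e1 : detHom Q g = 1 ↔ Even vs.length := by
    rw [← Units.val_inj, h3, Units.val_one]
    exact neg_one_pow_eq_one_iff_even hne
  have e2 : chi Q 1 g = 1 ↔ ((chi Q 1 g : ℤˣ) : ℤ) = 1 := by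
    rw [← Units.val_inj, Units.val_one]
  rw [e1, e2, h4]
  constructor
  · rintro ⟨he, h5⟩
    refine ⟨he, ?_⟩
    rw [he.neg_one_pow, one_mul] at h5
    exact (quadraticChar_one_iff_isSquare hprod).mp h5
  · rintro ⟨he, h5⟩
    refine ⟨he, ?_⟩
    rw [he.neg_one_pow, one_mul]
    exact (quadraticChar_one_iff_isSquare hprod).mpr h5

end fin

section gen

variable {F : Type*} [Field F] {ι κ : Type} [Fintype ι] [DecidableEq ι] [Fintype κ] [DecidableEq κ]

theorem single_comp_equiv (e : ι ≃ κ) (k : κ) :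
    (Pi.single k (1 : F) : κ → F) ∘ e = Pi.single (e.symm k) 1 := by
  funext i
  simp only [Function.comp_apply, Pi.single_apply]
  by_cases h : e i = k
  · rw [if_pos h, if_pos (by rw [← h, Equiv.symm_apply_apply])]
  · rw [if_neg h, if_neg (by rintro rfl; exact h (Equiv.apply_symm_apply e k))]

theorem comp_symm_comp (e : ι ≃ κ) (v : ι → F) : (v ∘ e.symm) ∘ e = v := by
  funext i
  simp

theorem polarVec_tr (e : ι ≃ κ) (Q : (ι → F) → F) (v : ι → F) :
    Cfsg.polarVec (tr e Q) (v ∘ e.symm) = Cfsg.polarVec Q v ∘ e.symm := by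
  funext k
  simp only [Cfsg.polarVec, QuadraticMap.polar, tr, Function.comp_apply]
  have h1 : (v ∘ e.symm + Pi.single k (1 : F)) ∘ e = v + Pi.single (e.symm k) 1 := by
    rw [← single_comp_equiv e k]
    funext i
    simp
  rw [h1, comp_symm_comp, single_comp_equiv]

theorem reflectionMatrix_tr (e : ι ≃ κ) (Q : (ι → F) → F) (v : ι → F) :
    Cfsg.reflectionMatrix (tr e Q) (v ∘ e.symm) =
      Matrix.reindex e e (Cfsg.reflectionMatrix Q v) := by
  unfold Cfsg.reflectionMatrix
  rw [polarVec_tr]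
  have h0 : tr e Q (v ∘ e.symm) = Q v := by
    rw [tr, comp_symm_comp]
  rw [h0]
  ext i j
  simp [Matrix.vecMulVec_apply, Matrix.one_apply]

theorem reindex_list_prod (e : ι ≃ κ) (l : List (Matrix ι ι F)) :
    Matrix.reindex e e l.prod = (l.map (Matrix.reindex e e)).prod := by
  have := map_list_prod (Matrix.reindexAlgEquiv F F e) l
  exact this

variable [Fintype F] [DecidableEq F]

/-- **Spinor norm criterion**, general index type -/
theorem mem_Omega_iff_list (Q : QuadraticForm F (ι → F)) (h2 : (2 : F) ≠ 0)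
    (hcard : 2 ≤ Fintype.card ι)
    (hQ : (QuadraticMap.polarBilin Q).Nondegenerate) (g : ↥(Cfsg.isometryGroup F ⇑Q))
    (vs : List (ι → F)) (hvs : ∀ v ∈ vs, Q v ≠ 0)
    (hg : ((g : GL ι F) : Matrix ι ι F) =
      (vs.map (fun v => Cfsg.reflectionMatrix ⇑Q v)).prod) :
    g ∈ Cfsg.Omega F ⇑Q ↔ (Even vs.length ∧ IsSquare (vs.map (fun v => Q v)).prod) := by
  set e := Fintype.equivFin ι with he
  have key := mem_Omega_iff_list_fin (trQF e Q) h2 hcard (nondeg_trQF e Q hQ) (isoEquiv e ⇑Q g)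
    (vs.map (fun v => v ∘ e.symm)) ?_ ?_
  · have h1 : (isoEquiv e ⇑Q g ∈ Cfsg.Omega F ⇑(trQF e Q)) ↔ g ∈ Cfsg.Omega F ⇑Q :=
      mem_commutator_iff (isoEquiv e ⇑Q) g
    refine h1.symm.trans (key.trans ?_)
    rw [List.length_map, List.map_map]
    have h3 : ((fun v => (trQF e Q) v) ∘ fun v : ι → F => v ∘ e.symm) = fun v => Q v := by
      funext v
      show Q ((v ∘ e.symm) ∘ e) = Q v
      rw [comp_symm_comp]
    rw [h3]
  · intro w hw
    obtain ⟨v, hv, rfl⟩ := List.mem_map.mp hw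
    show Q ((v ∘ e.symm) ∘ e) ≠ 0
    rw [comp_symm_comp]
    exact hvs v hv
  · rw [isoEquiv_val, hg, reindex_list_prod, List.map_map, List.map_map]
    congr 1
    apply List.map_congr_left
    intro v _
    simp only [Function.comp_apply]
    rw [coe_trQF, reflectionMatrix_tr]

end gen

end Cfsg.Agent.Lib.H13.OmegaCrit
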