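import Cfsg.Agent.Lib.H13.Char2Omega
import Cfsg.Agent.Lib.H13.OmegaCrit
import Cfsg.Agent.Lib.H11.CartanDieudonne
import Cfsg.Agent.S0785

set_option autoImplicit false

namespace Cfsg.Agent.Lib.H13.OmegaSum

open Matrix
open scoped MatrixGroups
open Cfsg.Agent.Lib.H13.HypPairs Cfsg.Agent.Lib.H13.Char2Omega Cfsg.Agent.Lib.H13.Dickson
  Cfsg.Agent.Lib.H13.OrthSum Cfsg.Agent.Lib.H13.Char2Mat Cfsg.Agent.Lib.H11.IsoReindex

variable {F : Type*} [Field F] {ι : Type} [Fintype ι] [DecidableEq ι] (Q : QuadraticForm F (ι → F))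

theorem refl_list_mul_reverse (vs : List (ι → F)) (hvs : ∀ v ∈ vs, Q v ≠ 0) :
    (vs.map (fun v => Cfsg.reflectionMatrix ⇑Q v)).prod *
      (vs.reverse.map (fun v => Cfsg.reflectionMatrix ⇑Q v)).prod = 1 := by
  induction vs with
  | nil => simp
  | cons v vs ih =>
    rw [List.reverse_cons, List.map_append, List.prod_append, List.map_cons, List.prod_cons,
      List.map_cons, List.map_nil, List.prod_cons, List.prod_nil, Matrix.mul_one]
    calc Cfsg.reflectionMatrix (⇑Q) v * (vs.map fun v => Cfsg.reflectionMatrix (⇑Q) v).prod *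
        ((vs.reverse.map fun v => Cfsg.reflectionMatrix (⇑Q) v).prod * Cfsg.reflectionMatrix (⇑Q) v)
        = Cfsg.reflectionMatrix (⇑Q) v * ((vs.map fun v => Cfsg.reflectionMatrix (⇑Q) v).prod *
        (vs.reverse.map fun v => Cfsg.reflectionMatrix (⇑Q) v).prod) *
          Cfsg.reflectionMatrix (⇑Q) v := by simp only [Matrix.mul_assoc]
      _ = 1 := by
        rw [ih (fun w hw => hvs w (List.mem_cons_of_mem _ hw)), Matrix.mul_one,
          refl_mul_self Q v (hvs v List.mem_cons_self)]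

/-- an element of the closure of the reflections is a product of a list of reflections -/
theorem exists_list (g : ↥(Cfsg.isometryGroup F ⇑Q)) (hg : g ∈ Subgroup.closure (reflSet Q)) :
    ∃ vs : List (ι → F), (∀ v ∈ vs, Q v ≠ 0) ∧ ((g : GL ι F) : Matrix ι ι F) =
      (vs.map (fun v => Cfsg.reflectionMatrix ⇑Q v)).prod := by
  induction hg using Subgroup.closure_induction with
  | mem x hx =>
    obtain ⟨v, hv, hxv⟩ := hx
    refine ⟨[v], ?_, ?_⟩
    · intro w hw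
      rw [List.mem_singleton] at hw
      rw [hw]; exact hv
    · simp [hxv]
  | one => exact ⟨[], by simp, by simp⟩
  | mul x y _ _ ihx ihy =>
    obtain ⟨vx, hvx, hx⟩ := ihx
    obtain ⟨vy, hvy, hy⟩ := ihy
    refine ⟨vx ++ vy, ?_, ?_⟩
    · intro w hw
      rcases List.mem_append.mp hw with h | h
      · exact hvx w h
      · exact hvy w h
    · rw [List.map_append, List.prod_append, ← hx, ← hy]
      rfl
  | inv x _ ihx =>
    obtain ⟨vx, hvx, hx⟩ := ihx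
    refine ⟨vx.reverse, ?_, ?_⟩
    · intro w hw
      exact hvx w (List.mem_reverse.mp hw)
    · have h1 := refl_list_mul_reverse Q vx hvx
      rw [← hx] at h1
      have h3 : ((x : GL ι F) : Matrix ι ι F) * (((x⁻¹ : ↥(Cfsg.isometryGroup F ⇑Q)) : GL ι F) :
          Matrix ι ι F) = 1 := by
        rw [← Units.val_mul, ← Subgroup.coe_mul, mul_inv_cancel]
        rfl
      have h4 : (((x⁻¹ : ↥(Cfsg.isometryGroup F ⇑Q)) : GL ι F) : Matrix ι ι F) *
          ((x : GL ι F) : Matrix ι ι F) = 1 := by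
        rw [← Units.val_mul, ← Subgroup.coe_mul, inv_mul_cancel]
        rfl
      calc (((x⁻¹ : ↥(Cfsg.isometryGroup F ⇑Q)) : GL ι F) : Matrix ι ι F)
          = (((x⁻¹ : ↥(Cfsg.isometryGroup F ⇑Q)) : GL ι F) : Matrix ι ι F) *
            (((x : GL ι F) : Matrix ι ι F) *
              (vx.reverse.map (fun v => Cfsg.reflectionMatrix ⇑Q v)).prod) := by
            rw [h1, Matrix.mul_one]
        _ = _ := by rw [← Matrix.mul_assoc, h4, Matrix.one_mul]

section sq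

open Cfsg.Agent.Lib.H11.SpinSign

theorem sq_mem_fin [Fintype F] {n : ℕ} (Q : QuadraticForm F (Fin n → F))
    (hQ : (QuadraticMap.polarBilin Q).Nondegenerate) (h2 : (2 : F) ≠ 0) (hn : 2 ≤ n)
    (y : ↥(Cfsg.isometryGroup F ⇑Q)) : y * y ∈ commutator ↥(Cfsg.isometryGroup F ⇑Q) := by
  rw [(main Q hQ h2 hn 1 one_ne_zero).2]
  constructor
  · rw [map_mul]
    apply Units.ext
    rw [Units.val_mul, detHom_val]
    rcases (Cfsg.Agent.S0785.result Q hQ).1 y with h1 | h1 <;> rw [h1] <;> simp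
  · rw [map_mul]
    exact Int.units_mul_self _

/-- modulo `Ω` every isometry has order at most two (odd characteristic) -/
theorem sq_mem_odd [Fintype F] (hQ : (QuadraticMap.polarBilin Q).Nondegenerate) (h2 : (2 : F) ≠ 0)
    (hcard : 2 ≤ Fintype.card ι) (y : ↥(Cfsg.isometryGroup F ⇑Q)) :
    y * y ∈ Cfsg.Omega F ⇑Q := by
  set e := Fintype.equivFin ι with he
  have key := sq_mem_fin (trQF e Q) (nondeg_trQF e Q hQ) h2 hcard (isoEquiv e ⇑Q y)
  exact (mem_commutator_iff (isoEquiv e ⇑Q) (y * y)).mp (by rw [map_mul]; exact key)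

/-- modulo `Ω` every isometry has order at most two (characteristic two) -/
theorem sq_mem_even [Finite F] [CharP F 2] [Nonempty ι]
    (hQ : (QuadraticMap.polarBilin Q).Nondegenerate)
    (h : Nat.card F ≠ 2 ∨ Fintype.card ι ≠ 4) (y : ↥(Cfsg.isometryGroup F ⇑Q)) :
    y * y ∈ Cfsg.Omega F ⇑Q :=
  Subgroup.mul_self_mem_of_index_two (index_Omega Q hQ h) y

end sq

section dbl

/-- the swap of the two summands of `Q ⊥ Q` -/
noncomputable def swapG : ↥(Cfsg.isometryGroup F ⇑(sumQF Q Q)) :=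
  ⟨⟨fromBlocks 0 1 1 0, fromBlocks 0 1 1 0,
    by rw [fromBlocks_multiply]; simp [fromBlocks_one],
    by rw [fromBlocks_multiply]; simp [fromBlocks_one]⟩,
    (mem_iso_iff' _ _).mpr (fun x => by
      show sumQF Q Q (fromBlocks (0 : Matrix ι ι F) 1 1 0 *ᵥ x) = sumQF Q Q x
      rw [fromBlocks_mulVec, sumQF_apply, sumQF_apply]
      simp only [Matrix.zero_mulVec, Matrix.one_mulVec, zero_add, add_zero]
      have e1 : (Sum.elim (x ∘ Sum.inr) (x ∘ Sum.inl)) ∘ Sum.inl = x ∘ (Sum.inr : ι → ι ⊕ ι) := rfl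
      have e2 : (Sum.elim (x ∘ Sum.inr) (x ∘ Sum.inl)) ∘ Sum.inr = x ∘ (Sum.inl : ι → ι ⊕ ι) := rfl
      rw [e1, e2, add_comm])⟩

theorem swapG_val : (((swapG Q : ↥(Cfsg.isometryGroup F ⇑(sumQF Q Q))) : GL (ι ⊕ ι) F) :
    Matrix (ι ⊕ ι) (ι ⊕ ι) F) = fromBlocks 0 1 1 0 := rfl

theorem swapG_mul_self : swapG Q * swapG Q = 1 := by
  apply Subtype.ext
  apply Units.ext
  show fromBlocks (0 : Matrix ι ι F) 1 1 0 * fromBlocks 0 1 1 0 = 1
  rw [fromBlocks_multiply]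
  simp [fromBlocks_one]

theorem swapG_conj (g : ↥(Cfsg.isometryGroup F ⇑Q)) :
    swapG Q * blkIso Q Q (g, 1) * (swapG Q)⁻¹ = blkIso Q Q (1, g) := by
  rw [mul_inv_eq_iff_eq_mul]
  apply Subtype.ext
  apply Units.ext
  show fromBlocks (0 : Matrix ι ι F) 1 1 0 * fromBlocks ((g : GL ι F) : Matrix ι ι F) 0 0 1 =
    fromBlocks 1 0 0 ((g : GL ι F) : Matrix ι ι F) * fromBlocks 0 1 1 0
  rw [fromBlocks_multiply, fromBlocks_multiply]
  simp

open scoped commutatorElement in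
/-- `g ⊕ g ∈ Ω(Q ⊥ Q)` as soon as squares lie in `Ω(Q ⊥ Q)` -/
theorem dbl_mem (hsq : ∀ y : ↥(Cfsg.isometryGroup F ⇑(sumQF Q Q)), y * y ∈ Cfsg.Omega F ⇑(sumQF Q Q))
    (g : ↥(Cfsg.isometryGroup F ⇑Q)) : blkIso Q Q (g, g) ∈ Cfsg.Omega F ⇑(sumQF Q Q) := by
  have h1 : blkIso Q Q (g, g) = blkIso Q Q (g, 1) * blkIso Q Q (1, g) := by
    rw [← map_mul]
    simp
  rw [h1, ← swapG_conj]
  set y := blkIso Q Q (g, 1) with hy
  have h3 : y * (swapG Q * y * (swapG Q)⁻¹) = (y * y) * ⁅y⁻¹, swapG Q⁆ := by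
    rw [commutatorElement_def]
    group
  rw [h3]
  exact Subgroup.mul_mem _ (hsq y)
    (Subgroup.commutator_mem_commutator (Subgroup.mem_top _) (Subgroup.mem_top _))

end dbl

section blk

variable {ι₂ : Type} [Fintype ι₂] [DecidableEq ι₂] (Q₂ : QuadraticForm F (ι₂ → F))

/-- a homomorphism maps the commutator subgroup into the commutator subgroup -/
theorem map_comm' {G H : Type*} [Group G] [Group H] (f : G →* H) {g : G} (hg : g ∈ commutator G) :
    f g ∈ commutator H := by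
  have h1 : f g ∈ Subgroup.map f (commutator G) := Subgroup.mem_map_of_mem f hg
  rw [commutator_def, Subgroup.map_commutator] at h1
  rw [commutator_def]
  exact Subgroup.commutator_mono le_top le_top h1

theorem blk_inl_mem_of_mem (g₁ : ↥(Cfsg.isometryGroup F ⇑Q)) (hg : g₁ ∈ Cfsg.Omega F ⇑Q) :
    blkIso Q Q₂ (g₁, 1) ∈ Cfsg.Omega F ⇑(sumQF Q Q₂) :=
  map_comm' ((blkIso Q Q₂).comp (MonoidHom.inl _ _)) hg

theorem blk_refl_inl (u : ι → F) (hu : Q u ≠ 0) (hu' : sumQF Q Q₂ (Sum.elim u 0) ≠ 0) :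
    blkIso Q Q₂ (reflG Q u hu, 1) = reflG (sumQF Q Q₂) (Sum.elim u 0) hu' := by
  apply Subtype.ext
  apply Units.ext
  rw [blkIso_val]
  show _ = Cfsg.reflectionMatrix (⇑(sumQF Q Q₂)) (Sum.elim u 0)
  rw [refl_inl]
  rfl

theorem sumQF_inl (u : ι → F) : sumQF Q Q₂ (Sum.elim u 0) = Q u := by
  rw [sumQF_apply]
  have e1 : (Sum.elim u (0 : ι₂ → F)) ∘ Sum.inl = u := rfl
  have e2 : (Sum.elim u (0 : ι₂ → F)) ∘ Sum.inr = 0 := rfl
  rw [e1, e2, map_zero, add_zero]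

theorem eq_one_of_isEmpty [IsEmpty ι] (g : ↥(Cfsg.isometryGroup F ⇑Q)) : g = 1 := by
  apply Subtype.ext
  apply Units.ext
  exact Subsingleton.elim _ _

/-- characteristic two: `g₁ ⊕ 1 ∈ Ω(Q₁ ⊥ Q₂)` forces `g₁ ∈ Ω(Q₁)` -/
theorem mem_of_blk_inl_mem_even [Finite F] [CharP F 2]
    (hQ : (QuadraticMap.polarBilin Q).Nondegenerate)
    (hQ₂ : (QuadraticMap.polarBilin Q₂).Nondegenerate)
    (h : Nat.card F ≠ 2 ∨ Fintype.card ι ≠ 4) (g₁ : ↥(Cfsg.isometryGroup F ⇑Q))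
    (hg : blkIso Q Q₂ (g₁, 1) ∈ Cfsg.Omega F ⇑(sumQF Q Q₂)) : g₁ ∈ Cfsg.Omega F ⇑Q := by
  by_cases hne : Nonempty ι
  · obtain ⟨u, hu⟩ := exists_Q_ne_zero' Q hQ
    rcases abel_cases Q hQ h u hu g₁ with h1 | h1
    · exact h1
    · exfalso
      have h3 := blk_inl_mem_of_mem Q Q₂ _ h1
      have h4 : blkIso Q Q₂ (reflG Q u hu * g₁, 1) =
          blkIso Q Q₂ (reflG Q u hu, 1) * blkIso Q Q₂ (g₁, 1) := by
        rw [← map_mul]
        simp
      rw [h4] at h3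
      have h5 := Subgroup.mul_mem _ h3 (Subgroup.inv_mem _ hg)
      rw [mul_inv_cancel_right] at h5
      have hu' : sumQF Q Q₂ (Sum.elim u 0) ≠ 0 := by rw [sumQF_inl]; exact hu
      rw [blk_refl_inl Q Q₂ u hu hu'] at h5
      exact refl_not_mem (sumQF Q Q₂) (nondeg_sumQF Q Q₂ hQ hQ₂) _ hu' h5
  · haveI : IsEmpty ι := not_nonempty_iff.mp hne
    rw [eq_one_of_isEmpty Q g₁]
    exact Subgroup.one_mem _

theorem blk_list (vs : List (ι → F)) :
    fromBlocks (vs.map (fun v => Cfsg.reflectionMatrix ⇑Q v)).prod 0 0 (1 : Matrix ι₂ ι₂ F) =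
      ((vs.map (fun v => (Sum.elim v 0 : ι ⊕ ι₂ → F))).map
        (fun w => Cfsg.reflectionMatrix ⇑(sumQF Q Q₂) w)).prod := by
  induction vs with
  | nil => simp [fromBlocks_one]
  | cons v vs ih =>
    rw [List.map_cons, List.prod_cons, List.map_cons, List.map_cons, List.prod_cons, ← ih, refl_inl,
      fromBlocks_multiply]
    simp

/-- odd characteristic: `g₁ ⊕ 1 ∈ Ω(Q₁ ⊥ Q₂)` forces `g₁ ∈ Ω(Q₁)` -/
theorem mem_of_blk_inl_mem_odd [Fintype F] {k : ℕ} (Q₁ : QuadraticForm F (Fin k → F))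
    (hQ₁ : (QuadraticMap.polarBilin Q₁).Nondegenerate)
    (hQ₂ : (QuadraticMap.polarBilin Q₂).Nondegenerate) (h2 : (2 : F) ≠ 0)
    (g₁ : ↥(Cfsg.isometryGroup F ⇑Q₁))
    (hg : blkIso Q₁ Q₂ (g₁, 1) ∈ Cfsg.Omega F ⇑(sumQF Q₁ Q₂)) : g₁ ∈ Cfsg.Omega F ⇑Q₁ := by
  classical
  rcases Nat.lt_or_ge k 2 with hk | hk
  · -- small cases: `g₁ = 1`
    have hone : g₁ = 1 := by
      interval_cases k
      · exact eq_one_of_isEmpty Q₁ g₁
      · have hdet := det_eq_one_of_mem_Omega _ _ hg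
        rw [blkIso_val, Matrix.det_fromBlocks_zero₂₁] at hdet
        simp only [Prod.snd, Subgroup.coe_one, Units.val_one, Matrix.det_one, mul_one] at hdet
        rw [Matrix.det_fin_one] at hdet
        apply Subtype.ext
        apply Units.ext
        ext i j
        have hi : i = 0 := Subsingleton.elim _ _
        have hj : j = 0 := Subsingleton.elim _ _
        rw [hi, hj]
        simpa using hdet
    rw [hone]
    exact Subgroup.one_mem _
  · have hcd := Cfsg.Agent.Lib.H11.CD.cartan_dieudonne Q₁ hQ₁ h2 g₁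
    obtain ⟨vs, hvs, hval⟩ := exists_list Q₁ g₁ hcd
    rw [Cfsg.Agent.Lib.H13.OmegaCrit.mem_Omega_iff_list Q₁ h2 (by rw [Fintype.card_fin]; exact hk)
      hQ₁ g₁ vs hvs hval]
    have hvs' : ∀ w ∈ vs.map (fun v => (Sum.elim v 0 : Fin k ⊕ ι₂ → F)), sumQF Q₁ Q₂ w ≠ 0 := by
      intro w hw
      obtain ⟨v, hv, rfl⟩ := List.mem_map.mp hw
      rw [sumQF_inl]
      exact hvs v hv
    have hval' : (((blkIso Q₁ Q₂ (g₁, 1) : ↥(Cfsg.isometryGroup F ⇑(sumQF Q₁ Q₂))) :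
        GL (Fin k ⊕ ι₂) F) : Matrix (Fin k ⊕ ι₂) (Fin k ⊕ ι₂) F) =
        ((vs.map (fun v => (Sum.elim v 0 : Fin k ⊕ ι₂ → F))).map
          (fun w => Cfsg.reflectionMatrix ⇑(sumQF Q₁ Q₂) w)).prod := by
      rw [blkIso_val, ← blk_list, ← hval]
      rfl
    have hcard : 2 ≤ Fintype.card (Fin k ⊕ ι₂) := by
      rw [Fintype.card_sum, Fintype.card_fin]
      omega
    have key := (Cfsg.Agent.Lib.H13.OmegaCrit.mem_Omega_iff_list (sumQF Q₁ Q₂) h2 hcard
      (nondeg_sumQF Q₁ Q₂ hQ₁ hQ₂) _ _ hvs' hval').mp hg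
    rw [List.length_map, List.map_map] at key
    have e : ((fun w => sumQF Q₁ Q₂ w) ∘ fun v => (Sum.elim v 0 : Fin k ⊕ ι₂ → F)) =
        fun v => Q₁ v := by
      funext v
      exact sumQF_inl Q₁ Q₂ v
    rw [e] at key
    exact key

end blk

end Cfsg.Agent.Lib.H13.OmegaSum
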