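import Cfsg.Agent.Lib.H13.MaxTS
import Cfsg.Agent.Lib.H13.OmegaSum
import Cfsg.Agent.S0287

set_option autoImplicit false

namespace Cfsg.Agent.Lib.H13.PlusTS

open Matrix Module
open scoped MatrixGroups
open Cfsg.Agent.Lib.H13 Cfsg.Agent.Lib.H13.HypPairs Cfsg.Agent.Lib.H13.PlusLevi
  Cfsg.Agent.Lib.H13.MaxTS

variable {F : Type*} [Field F] {m : ℕ}

/-- the standard maximal totally singular subspace `{y = 0}` -/
def U0 (F : Type*) [Field F] (m : ℕ) : Submodule F (K m → F) :=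
  LinearMap.ker (LinearMap.funLeft F F (Sum.inr : Fin m → Fin m ⊕ Fin m))

theorem mem_U0_iff (x : K m → F) : x ∈ U0 F m ↔ x ∘ Sum.inr = 0 := by
  unfold U0
  rw [LinearMap.mem_ker]
  rfl

theorem U0_ts : ∀ u ∈ U0 F m, plusQF F m u = 0 := by
  intro u hu
  rw [mem_U0_iff] at hu
  rw [plusQF_apply, quadFormPlus_eq_dot, hu, dotProduct_zero]

theorem U0_perp : ∀ x : K m → F,
    (∀ u ∈ U0 F m, QuadraticMap.polar (⇑(plusQF F m)) u x = 0) → x ∈ U0 F m := by
  intro x hx
  rw [mem_U0_iff]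
  funext i
  have hmem : (Sum.elim (Pi.single i (1 : F)) 0 : K m → F) ∈ U0 F m := by
    rw [mem_U0_iff]; rfl
  have := hx _ hmem
  rw [Cfsg.Agent.S0287.coe_plusQF, polar_quadFormPlus_formula] at this
  simp only [Sum.elim_inl, Sum.elim_inr, Pi.zero_apply, mul_zero, add_zero, Pi.single_apply,
    ite_mul, one_mul, zero_mul, Finset.sum_ite_eq', Finset.mem_univ, if_true] at this
  exact this

theorem finrank_U0 : finrank F (U0 F m) = m := by
  have hsurj : Function.Surjective (LinearMap.funLeft F F (Sum.inr : Fin m → Fin m ⊕ Fin m)) :=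
    LinearMap.funLeft_surjective_of_injective F F _ Sum.inr_injective
  have h1 := LinearMap.finrank_range_add_finrank_ker
    (LinearMap.funLeft F F (Sum.inr : Fin m → Fin m ⊕ Fin m))
  rw [LinearMap.range_eq_top.mpr hsurj, finrank_top, Module.finrank_fintype_fun_eq_card,
    Module.finrank_fintype_fun_eq_card, Fintype.card_sum, Fintype.card_fin] at h1
  exact Nat.add_left_cancel h1

/-- the determinant of a reflection, general index type -/
theorem det_reflectionMatrix {ι : Type} [Fintype ι] [DecidableEq ι] (Q : QuadraticForm F (ι → F))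
    (v : ι → F) (hv : Q v ≠ 0) : (Cfsg.reflectionMatrix ⇑Q v).det = -1 := by
  set e := Fintype.equivFin ι
  have h1 := Cfsg.Agent.Lib.H13.OmegaCrit.reflectionMatrix_tr e (⇑Q) v
  have h2 : Cfsg.Agent.Lib.H11.IsoReindex.trQF e Q (v ∘ e.symm) ≠ 0 := by
    show Q ((v ∘ e.symm) ∘ e) ≠ 0
    rw [Cfsg.Agent.Lib.H13.OmegaCrit.comp_symm_comp]
    exact hv
  have h3 := (Cfsg.Agent.S0784.result (Cfsg.Agent.Lib.H11.IsoReindex.trQF e Q) (v ∘ e.symm) h2).2.2.2
  rw [Cfsg.Agent.Lib.H11.IsoReindex.coe_trQF, h1, Matrix.det_reindex_self] at h3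
  exact h3

theorem det_refl_list {ι : Type} [Fintype ι] [DecidableEq ι] (Q : QuadraticForm F (ι → F))
    (vs : List (ι → F)) (hvs : ∀ v ∈ vs, Q v ≠ 0) :
    (vs.map (fun v => Cfsg.reflectionMatrix ⇑Q v)).prod.det = (-1) ^ vs.length := by
  induction vs with
  | nil => simp
  | cons v vs ih =>
    rw [List.map_cons, List.prod_cons, Matrix.det_mul, det_reflectionMatrix Q v
      (hvs v List.mem_cons_self), ih (fun w hw => hvs w (List.mem_cons_of_mem _ hw)),
      List.length_cons, pow_succ]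
    ring

theorem isIso_refl_list (vs : List (K m → F)) (hvs : ∀ v ∈ vs, plusQF F m v ≠ 0) :
    Dickson.IsIso (vs.map (fun v => Cfsg.reflectionMatrix ⇑(plusQF F m) v)).prod := by
  induction vs with
  | nil =>
    intro x
    simp
  | cons v vs ih =>
    rw [List.map_cons, List.prod_cons]
    apply Dickson.IsIso.mul _ (ih (fun w hw => hvs w (List.mem_cons_of_mem _ hw)))
    intro x
    have := refl_isometry (plusQF F m) v (hvs v List.mem_cons_self) x
    rwa [plusQF_apply, plusQF_apply] at this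

/-- an isometry stabilising `U0` is block upper triangular with determinant one -/
theorem parabolic (M : Matrix (K m) (K m) F) (hM : Dickson.IsIso M)
    (hU : ∀ u ∈ U0 F m, M *ᵥ u ∈ U0 F m) :
    M.toBlocks₂₁ = 0 ∧ M.det = 1 := by
  have hC : M.toBlocks₂₁ = 0 := by
    apply Matrix.ext_iff_mulVec.mpr
    intro u
    rw [Matrix.zero_mulVec]
    have hmem : (Sum.elim u 0 : K m → F) ∈ U0 F m := by
      rw [mem_U0_iff]; rfl
    have := hU _ hmem
    rw [mem_U0_iff, ← fromBlocks_toBlocks M, fromBlocks_mulVec] at this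
    have e : (Sum.elim (M.toBlocks₁₁ *ᵥ (Sum.elim u (0 : Fin m → F)) ∘ Sum.inl +
        M.toBlocks₁₂ *ᵥ (Sum.elim u (0 : Fin m → F)) ∘ Sum.inr)
        (M.toBlocks₂₁ *ᵥ (Sum.elim u (0 : Fin m → F)) ∘ Sum.inl +
        M.toBlocks₂₂ *ᵥ (Sum.elim u (0 : Fin m → F)) ∘ Sum.inr)) ∘ Sum.inr =
        M.toBlocks₂₁ *ᵥ u + M.toBlocks₂₂ *ᵥ 0 := rfl
    rw [e, Matrix.mulVec_zero, add_zero] at this
    exact this
  refine ⟨hC, ?_⟩
  have hcr : Dickson.ColRel M.toBlocks₁₁ M.toBlocks₁₂ M.toBlocks₂₁ M.toBlocks₂₂ :=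
    Dickson.colRel_of_isIso (by rw [fromBlocks_toBlocks]; exact hM)
  have had := hcr.ad
  rw [hC, Matrix.transpose_zero, Matrix.zero_mul, add_zero] at had
  have hdet := congrArg Matrix.det had
  rw [Matrix.det_mul, Matrix.det_transpose, Matrix.det_one] at hdet
  rw [← fromBlocks_toBlocks M, hC, Matrix.det_fromBlocks_zero₂₁]
  exact hdet

theorem toEquiv_coe {ι : Type} [Fintype ι] [DecidableEq ι] (g : GL ι F) :
    (Char2Mat.toEquiv g : (ι → F) →ₗ[F] (ι → F)) = Matrix.mulVecLin (g : Matrix ι ι F) := by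
  apply LinearMap.ext
  intro x
  rw [LinearEquiv.coe_coe, Char2Mat.toEquiv_apply, Matrix.mulVecLin_apply]

/-- reduction of an isometry of the hyperbolic form to the parabolic by reflections -/
theorem exists_decomp (g : ↥(Cfsg.isometryGroup F (Cfsg.quadFormPlus m F))) :
    ∃ vs : List (K m → F), (∀ v ∈ vs, plusQF F m v = 1) ∧
      vs.length = m - finrank F ↥(U0 F m ⊓ (U0 F m).map
        (Matrix.mulVecLin ((g : GL (K m) F) : Matrix (K m) (K m) F))) ∧
      ∀ u ∈ U0 F m, ((vs.map (fun v => Cfsg.reflectionMatrix ⇑(plusQF F m) v)).prod *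
        ((g : GL (K m) F) : Matrix (K m) (K m) F)) *ᵥ u ∈ U0 F m := by
  set U₁ := (U0 F m).map (Matrix.mulVecLin ((g : GL (K m) F) : Matrix (K m) (K m) F)) with hU₁
  have hg : ∀ x, Cfsg.quadFormPlus m F (((g : GL (K m) F) : Matrix (K m) (K m) F) *ᵥ x) =
      Cfsg.quadFormPlus m F x := (Cfsg.Agent.Lib.H11.IsoReindex.mem_iso_iff' _ _).mp g.2
  have hts : ∀ u ∈ U₁, plusQF F m u = 0 := by
    rintro z ⟨u, hu, rfl⟩
    rw [Matrix.mulVecLin_apply, plusQF_apply, hg, ← plusQF_apply]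
    exact U0_ts u hu
  have hfr : finrank F U₁ = finrank F (U0 F m) := by
    rw [hU₁, ← toEquiv_coe, LinearEquiv.finrank_map_eq]
  obtain ⟨vs, hvs, hlen, hmap⟩ := exists_refl_list (plusQF F m) (U0 F m) U0_ts U0_perp _ U₁ hts hfr rfl
  refine ⟨vs, hvs, ?_, ?_⟩
  · rw [hlen, finrank_U0]
  · intro u hu
    rw [← Matrix.mulVec_mulVec, ← hmap]
    exact ⟨_, ⟨u, hu, rfl⟩, rfl⟩

theorem det_eq_pow (g : ↥(Cfsg.isometryGroup F (Cfsg.quadFormPlus m F))) :
    ((g : GL (K m) F) : Matrix (K m) (K m) F).det =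
      (-1) ^ (m - finrank F ↥(U0 F m ⊓ (U0 F m).map
        (Matrix.mulVecLin ((g : GL (K m) F) : Matrix (K m) (K m) F)))) := by
  obtain ⟨vs, hvs, hlen, hU⟩ := exists_decomp g
  have hvs' : ∀ v ∈ vs, plusQF F m v ≠ 0 := fun v hv => by rw [hvs v hv]; exact one_ne_zero
  have hiso := (isIso_refl_list vs hvs').mul (Dickson.isIso_of_mem g)
  have hdet := (parabolic _ hiso hU).2
  rw [Matrix.det_mul, det_refl_list _ vs hvs', hlen] at hdet
  have hsq : ((-1 : F) ^ (m - finrank F ↥(U0 F m ⊓ (U0 F m).map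
        (Matrix.mulVecLin ((g : GL (K m) F) : Matrix (K m) (K m) F))))) *
      ((-1 : F) ^ (m - finrank F ↥(U0 F m ⊓ (U0 F m).map
        (Matrix.mulVecLin ((g : GL (K m) F) : Matrix (K m) (K m) F))))) = 1 := by
    rw [← mul_pow]
    simp
  calc ((g : GL (K m) F) : Matrix (K m) (K m) F).det
      = ((-1 : F) ^ (m - finrank F ↥(U0 F m ⊓ (U0 F m).map
        (Matrix.mulVecLin ((g : GL (K m) F) : Matrix (K m) (K m) F))))) *
        (((-1 : F) ^ (m - finrank F ↥(U0 F m ⊓ (U0 F m).map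
        (Matrix.mulVecLin ((g : GL (K m) F) : Matrix (K m) (K m) F))))) *
          ((g : GL (K m) F) : Matrix (K m) (K m) F).det) := by
        rw [← mul_assoc, hsq, one_mul]
    _ = _ := by rw [hdet, mul_one]

/-- S2629 -/
theorem even_iff_det (h2 : (2 : F) ≠ 0) (g : ↥(Cfsg.isometryGroup F (Cfsg.quadFormPlus m F))) :
    Even (m - finrank F ↥(U0 F m ⊓ (U0 F m).map
        (Matrix.mulVecLin ((g : GL (K m) F) : Matrix (K m) (K m) F)))) ↔
      ((g : GL (K m) F) : Matrix (K m) (K m) F).det = 1 := by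
  rw [det_eq_pow g]
  have hne : (-1 : F) ≠ 1 := by
    intro h
    apply h2
    linear_combination -h
  exact (neg_one_pow_eq_one_iff_even hne).symm

section char2

variable [Fintype F] [CharP F 2]

theorem exists_list_top {ι : Type} [Fintype ι] [DecidableEq ι] (Q : QuadraticForm F (ι → F))
    (hQ : (QuadraticMap.polarBilin Q).Nondegenerate)
    (h : Nat.card F ≠ 2 ∨ Fintype.card ι ≠ 4) (g : ↥(Cfsg.isometryGroup F ⇑Q)) :
    ∃ vs : List (ι → F), (∀ v ∈ vs, Q v ≠ 0) ∧ ((g : GL ι F) : Matrix ι ι F) =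
      (vs.map (fun v => Cfsg.reflectionMatrix ⇑Q v)).prod := by
  apply OmegaSum.exists_list Q g
  rw [Char2Mat.closure_reflSet_eq_top Q hQ h]
  exact Subgroup.mem_top _

theorem dk_refl_plus (v : K m → F) (hv : Cfsg.quadFormPlus m F v ≠ 0) :
    Dickson.dk (Cfsg.reflectionMatrix (Cfsg.quadFormPlus m F) v) = 1 :=
  DicksonGen.dk_refl v hv

theorem dk_refl_list (vs : List (K m → F)) (hvs : ∀ v ∈ vs, Cfsg.quadFormPlus m F v ≠ 0) :
    Dickson.IsIso (vs.map (fun v => Cfsg.reflectionMatrix (Cfsg.quadFormPlus m F) v)).prod ∧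
    Dickson.dk (vs.map (fun v => Cfsg.reflectionMatrix (Cfsg.quadFormPlus m F) v)).prod =
      ((vs.length : ℕ) : F) := by
  induction vs with
  | nil =>
    refine ⟨fun x => by simp, ?_⟩
    simp [Dickson.dk_one]
  | cons v vs ih =>
    obtain ⟨ih1, ih2⟩ := ih (fun w hw => hvs w (List.mem_cons_of_mem _ hw))
    have hv := hvs v List.mem_cons_self
    have hiso : Dickson.IsIso (Cfsg.reflectionMatrix (Cfsg.quadFormPlus m F) v) := by
      intro x
      have := refl_isometry (plusQF F m) v (by rw [plusQF_apply]; exact hv) x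
      rwa [plusQF_apply, plusQF_apply, Cfsg.Agent.S0287.coe_plusQF] at this
    rw [List.map_cons, List.prod_cons]
    refine ⟨hiso.mul ih1, ?_⟩
    rw [Dickson.dk_mul hiso ih1, ih2, dk_refl_plus v hv, List.length_cons]
    push_cast
    ring

/-- in characteristic two, `Ω` of the hyperbolic form is the kernel of the Dickson functional -/
theorem mem_Omega_iff_dk (h : Fintype.card F ≠ 2 ∨ m ≠ 2)
    (g : ↥(Cfsg.isometryGroup F (Cfsg.quadFormPlus m F))) :
    g ∈ Cfsg.Omega F (Cfsg.quadFormPlus m F) ↔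
      Dickson.dk ((g : GL (K m) F) : Matrix (K m) (K m) F) = 0 := by
  have hcard : Nat.card F ≠ 2 ∨ Fintype.card (K m) ≠ 4 := by
    rw [Nat.card_eq_fintype_card, Fintype.card_sum, Fintype.card_fin]
    rcases h with h | h
    · exact Or.inl h
    · right; omega
  have key1 := exists_list_top (plusQF F m) (Cfsg.Agent.S0287.nondeg m) hcard
  have key2 := Char2Omega.mem_Omega_iff_list_even (plusQF F m) (Cfsg.Agent.S0287.nondeg m) hcard
  simp only [plusQF_apply] at key1 key2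
  rw [Cfsg.Agent.S0287.coe_plusQF] at key1 key2
  obtain ⟨vs, hvs, hval⟩ := key1 g
  rw [key2 vs hvs g hval, hval, (dk_refl_list vs hvs).2, CharP.cast_eq_zero_iff F 2,
    even_iff_two_dvd]

/-- S2630 -/
theorem even_iff_mem_Omega (h : Fintype.card F ≠ 2 ∨ m ≠ 2)
    (g : ↥(Cfsg.isometryGroup F (Cfsg.quadFormPlus m F))) :
    Even (m - finrank F ↥(U0 F m ⊓ (U0 F m).map
        (Matrix.mulVecLin ((g : GL (K m) F) : Matrix (K m) (K m) F)))) ↔
      g ∈ Cfsg.Omega F (Cfsg.quadFormPlus m F) := by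
  rw [mem_Omega_iff_dk h]
  obtain ⟨vs, hvs, hlen, hU⟩ := exists_decomp g
  have hvs' : ∀ v ∈ vs, Cfsg.quadFormPlus m F v ≠ 0 := fun v hv => by
    rw [← plusQF_apply, hvs v hv]; exact one_ne_zero
  rw [Cfsg.Agent.S0287.coe_plusQF] at hU
  obtain ⟨hiso, hdk⟩ := dk_refl_list vs hvs'
  have hP := (parabolic _ (hiso.mul (Dickson.isIso_of_mem g)) hU).1
  have h1 : Dickson.dk ((vs.map (fun v => Cfsg.reflectionMatrix (Cfsg.quadFormPlus m F) v)).prod *
      ((g : GL (K m) F) : Matrix (K m) (K m) F)) = 0 := by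
    unfold Dickson.dk
    rw [hP]
    simp
  rw [Dickson.dk_mul hiso (Dickson.isIso_of_mem g), hdk, hlen] at h1
  have h3 : Dickson.dk ((g : GL (K m) F) : Matrix (K m) (K m) F) =
      (((m - finrank F ↥(U0 F m ⊓ (U0 F m).map
        (Matrix.mulVecLin ((g : GL (K m) F) : Matrix (K m) (K m) F)))) : ℕ) : F) := by
    have := CharTwo.add_self_eq_zero (Dickson.dk ((g : GL (K m) F) : Matrix (K m) (K m) F))
    linear_combination this - h1
  rw [h3, CharP.cast_eq_zero_iff F 2, even_iff_two_dvd]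

end char2

/-- S2631 for `plusQF` -/
theorem exists_Omega_map_ts [Fintype F] (hm : 1 ≤ m) (h : Fintype.card F ≠ 2 ∨ m ≠ 2)
    (U W : Submodule F (K m → F)) (hU : finrank F U = m) (hW : finrank F W = m)
    (hU0 : ∀ u ∈ U, (plusQF F m) u = 0) (hW0 : ∀ w ∈ W, (plusQF F m) w = 0)
    (he : Even (m - finrank F ↥(U ⊓ W))) :
    ∃ g : ↥(Cfsg.isometryGroup F ⇑(plusQF F m)), g ∈ Cfsg.Omega F ⇑(plusQF F m) ∧
      U.map (Matrix.mulVecLin ((g : GL (K m) F) : Matrix (K m) (K m) F)) = W := by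
  classical
  have hnd := Cfsg.Agent.S0287.nondeg (F := F) m
  have hperp : ∀ x : K m → F,
      (∀ w ∈ W, QuadraticMap.polar (⇑(plusQF F m)) w x = 0) → x ∈ W := by
    have hle : W ≤ LinearMap.BilinForm.orthogonal (QuadraticMap.polarBilin (plusQF F m)) W := by
      intro x hx
      rw [LinearMap.BilinForm.mem_orthogonal_iff]
      intro w hw
      show QuadraticMap.polar (⇑(plusQF F m)) w x = 0
      exact polar_eq_zero_of_ts (plusQF F m) W hW0 w x hw hx
    have hfr := LinearMap.BilinForm.finrank_orthogonal hnd W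
    rw [Module.finrank_fintype_fun_eq_card, Fintype.card_sum, Fintype.card_fin, hW] at hfr
    have heq := Submodule.eq_of_le_of_finrank_eq hle (by rw [hW, hfr]; omega)
    intro x hx
    rw [heq, LinearMap.BilinForm.mem_orthogonal_iff]
    intro w hw
    exact hx w hw
  obtain ⟨vs, hvs, hlen, hmap⟩ := exists_refl_list (plusQF F m) W hW0 hperp _ U hU0
    (by rw [hU, hW]) rfl
  have hvs' : ∀ v ∈ vs, plusQF F m v ≠ 0 := fun v hv => by rw [hvs v hv]; exact one_ne_zero
  obtain ⟨g, hg⟩ := exists_of_list (plusQF F m) vs hvs'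
  refine ⟨g, ?_, by rw [hg]; exact hmap⟩
  have hlen' : Even vs.length := by
    rw [hlen, hW, inf_comm]
    exact he
  have hcard2 : 2 ≤ Fintype.card (K m) := by
    rw [Fintype.card_sum, Fintype.card_fin]; omega
  by_cases h2 : (2 : F) = 0
  · haveI : CharP F 2 := CharTwo.of_one_ne_zero_of_two_eq_zero one_ne_zero h2
    have hcard : Nat.card F ≠ 2 ∨ Fintype.card (K m) ≠ 4 := by
      rw [Nat.card_eq_fintype_card, Fintype.card_sum, Fintype.card_fin]
      rcases h with h | h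
      · exact Or.inl h
      · right; omega
    rw [Char2Omega.mem_Omega_iff_list_even (plusQF F m) hnd hcard vs hvs' g hg]
    exact hlen'
  · rw [OmegaCrit.mem_Omega_iff_list (plusQF F m) h2 hcard2 hnd g vs hvs' hg]
    refine ⟨hlen', ?_⟩
    have : (vs.map (fun v => plusQF F m v)).prod = 1 := by
      apply List.prod_eq_one
      intro x hx
      obtain ⟨v, hv, rfl⟩ := List.mem_map.mp hx
      exact hvs v hv
    rw [this]
    exact ⟨1, by ring⟩

end Cfsg.Agent.Lib.H13.PlusTS
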