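import Mathlib

set_option autoImplicit false

/-! Quadratic extensions `K / F` of finite fields given only by cardinalities. -/

namespace Cfsg.Agent.Lib.H13

open Module

section Hom
variable {F K : Type*} [Field F] [Fintype F] [Field K] [Fintype K]

/-- a finite field of order `|F|^d` contains a copy of `F` -/
theorem nonempty_ringHom_of_card_pow {d : ℕ} (hd : 0 < d)
    (h : Fintype.card K = Fintype.card F ^ d) : Nonempty (F →+* K) := by
  classical
  set p := ringChar F with hp
  haveI : CharP F p := ringChar.charP F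
  haveI : Fact p.Prime := ⟨CharP.char_is_prime F p⟩
  obtain ⟨n, hpr, hn⟩ := FiniteField.card F p
  set p' := ringChar K with hp'
  haveI : CharP K p' := ringChar.charP K
  haveI : Fact p'.Prime := ⟨CharP.char_is_prime K p'⟩
  obtain ⟨n', hpr', hn'⟩ := FiniteField.card K p'
  have hpp : p' = p := by
    have h1 : p' ∣ p ^ ((n : ℕ) * d) := by
      rw [pow_mul, ← hn, ← h, hn']
      exact dvd_pow_self p' n'.ne_zero
    exact (Nat.prime_dvd_prime_iff_eq hpr' hpr).mp (hpr'.dvd_of_dvd_pow h1)
  haveI : CharP K p := hpp ▸ (inferInstance : CharP K p')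
  letI : Algebra (ZMod p) F := ZMod.algebra F p
  letI : Algebra (ZMod p) K := ZMod.algebra K p
  have hfF := FiniteField.pow_finrank_eq_card p F
  have hfK := FiniteField.pow_finrank_eq_card p K
  have hdvd : finrank (ZMod p) F ∣ finrank (ZMod p) K := by
    refine ⟨d, ?_⟩
    have h2 : p ^ finrank (ZMod p) K = p ^ (finrank (ZMod p) F * d) := by
      rw [hfK, h, ← hfF, pow_mul]
    exact Nat.pow_right_injective (Fact.out : p.Prime).two_le h2
  obtain ⟨f⟩ := FiniteField.nonempty_algHom_of_finrank_dvd (F := ZMod p) (K := F) (L := K) hdvd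
  exact ⟨f.toRingHom⟩

end Hom

section Quad
variable {F K : Type*} [Field F] [Fintype F] [Field K] [Fintype K] [Algebra F K] {q : ℕ}

theorem finrank_eq_two (hF : Fintype.card F = q) (hK : Fintype.card K = q ^ 2) :
    finrank F K = 2 := by
  have h1 := Module.card_eq_pow_finrank (K := F) (V := K)
  rw [hK, hF] at h1
  have hq : 2 ≤ q := by
    rw [← hF]; exact Fintype.one_lt_card
  exact (Nat.pow_right_injective hq h1).symm

theorem algebraMap_pow_card (hF : Fintype.card F = q) (c : F) :
    (algebraMap F K c) ^ q = algebraMap F K c := by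
  rw [← map_pow, ← hF, FiniteField.pow_card]

theorem pow_card_sq (hK : Fintype.card K = q ^ 2) (z : K) : (z ^ q) ^ q = z := by
  rw [← pow_mul, ← pow_two, ← hK, FiniteField.pow_card]

theorem algebraMap_trace (hF : Fintype.card F = q) (hK : Fintype.card K = q ^ 2) (z : K) :
    algebraMap F K (Algebra.trace F K z) = z + z ^ q := by
  rw [FiniteField.algebraMap_trace_eq_sum_pow, finrank_eq_two hF hK, Finset.sum_range_succ,
    Finset.sum_range_one, Nat.card_eq_fintype_card, hF]
  simp

theorem algebraMap_norm (hF : Fintype.card F = q) (hK : Fintype.card K = q ^ 2) (z : K) :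
    algebraMap F K (Algebra.norm F z) = z * z ^ q := by
  rw [FiniteField.algebraMap_norm_eq_prod_pow, finrank_eq_two hF hK, Finset.prod_range_succ,
    Finset.prod_range_one, Nat.card_eq_fintype_card, hF]
  simp

/-- elements fixed by the `q`-Frobenius come from `F` -/
theorem exists_of_pow_eq (hF : Fintype.card F = q) (hK : Fintype.card K = q ^ 2) (z : K)
    (hz : z ^ q = z) : ∃ c : F, algebraMap F K c = z := by
  classical
  -- the roots of X^q - X in K are exactly the q elements of the image
  by_contra hne
  push Not at hne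
  have hq : 2 ≤ q := by
    rw [← hF]; exact Fintype.one_lt_card
  let P : Polynomial K := Polynomial.X ^ q - Polynomial.X
  have hP0 : P ≠ 0 := FiniteField.X_pow_card_sub_X_ne_zero K (by omega)
  have hdeg : P.natDegree = q := FiniteField.X_pow_card_sub_X_natDegree_eq K (by omega)
  have hroots : (Finset.univ.image (algebraMap F K)) ∪ {z} ⊆ P.roots.toFinset := by
    intro y hy
    rw [Multiset.mem_toFinset, Polynomial.mem_roots hP0, Polynomial.IsRoot]
    simp only [P, Polynomial.eval_sub, Polynomial.eval_pow, Polynomial.eval_X]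
    rcases Finset.mem_union.mp hy with hy | hy
    · obtain ⟨c, _, rfl⟩ := Finset.mem_image.mp hy
      rw [algebraMap_pow_card hF, sub_self]
    · rw [Finset.mem_singleton.mp hy, hz, sub_self]
  have hcard := Finset.card_le_card hroots
  have h1 : ((Finset.univ.image (algebraMap F K)) ∪ {z}).card = q + 1 := by
    rw [Finset.card_union_of_disjoint, Finset.card_image_of_injective _ (algebraMap F K).injective,
      Finset.card_univ, hF, Finset.card_singleton]
    rw [Finset.disjoint_singleton_right]
    intro hmem
    obtain ⟨c, _, hc⟩ := Finset.mem_image.mp hmem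
    exact hne c hc
  have h2 : P.roots.toFinset.card ≤ q := by
    calc P.roots.toFinset.card ≤ Multiset.card P.roots := Multiset.toFinset_card_le _
      _ ≤ P.natDegree := Polynomial.card_roots' P
      _ = q := hdeg
  omega

/-- an anisotropic binary form over `F` acquires a root over the quadratic extension -/
theorem exists_root_of_aniso (hF : Fintype.card F = q) (hK : Fintype.card K = q ^ 2) (a c : F)
    (hac : ∀ z₁ z₂ : F, z₁ ^ 2 + a * z₁ * z₂ + c * z₂ ^ 2 = 0 → z₁ = 0 ∧ z₂ = 0) :
    ∃ α : K, α ^ 2 + algebraMap F K a * α + algebraMap F K c = 0 := by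
  classical
  open Polynomial in
  let f : F[X] := X ^ 2 + C a * X + C c
  have hfdeg : f.natDegree = 2 := by
    simp only [f]
    compute_degree!
  have hnr : ∀ x, ¬ f.IsRoot x := by
    intro x hx
    have h1 : x ^ 2 + a * x + c = 0 := by
      simpa [f, Polynomial.IsRoot] using hx
    have h2 := hac x 1 (by rw [← h1]; ring)
    exact one_ne_zero h2.2
  have hirr : Irreducible f :=
    Polynomial.irreducible_of_degree_le_three_of_not_isRoot (by rw [hfdeg]; decide) hnr
  haveI : Fact (Irreducible f) := ⟨hirr⟩
  have hfr : finrank F (AdjoinRoot f) = 2 := by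
    rw [(AdjoinRoot.powerBasis hirr.ne_zero).finrank, AdjoinRoot.powerBasis_dim, hfdeg]
  have hfrK : finrank F K = 2 := finrank_eq_two hF hK
  obtain ⟨ψ⟩ := FiniteField.nonempty_algHom_of_finrank_dvd (F := F) (K := AdjoinRoot f) (L := K)
    (by rw [hfr, hfrK])
  refine ⟨ψ (AdjoinRoot.root f), ?_⟩
  have h := AdjoinRoot.aeval_algHom_eq_zero f ψ
  have h2 : Polynomial.aeval (ψ (AdjoinRoot.root f)) f =
      (ψ (AdjoinRoot.root f)) ^ 2 + algebraMap F K a * ψ (AdjoinRoot.root f) +
        algebraMap F K c := by
    simp only [f, map_add, map_mul, map_pow, Polynomial.aeval_X, Polynomial.aeval_C]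
  rw [← h2]
  exact h

end Quad

end Cfsg.Agent.Lib.H13
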