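import Mathlib
import Cfsg.Agent.Lib.H13.AutPO10
import Cfsg.Agent.Lib.H13.QuadField
import Cfsg.Agent.Lib.H13.PlusTS

/-!
Automorphisms of `PΩ(Q)`, part 11 (helper13): field automorphisms of the minus-type groups, generic part (all characteristics).
`field_conj_genA`, `orderOf_stdAutA` (characteristic-free versions of `field_conj_gen`, `orderOf_stdAut`), `sigEq_minus`, `down_minus`,
`order_ne_two_of_aniso`, `minus_iso` (any two minus-type forms over a finite field are isometric), `ts_of_plus_down`, `fixSim_minus` (the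
classification hypothesis of `lang_GO` for minus-type forms), `coset_conj_D`, `centralizer_D`, `map_equiv_of_ker_eq`, `centralizer_D_equiv`,
`split_D`, transport of statements along `MulAut.congr` (`isConjUnder_map`, `centralizer_map_equiv`, `splitClassCount_map`, `map_inn_congr`),
`exists_fixed_refl`, `hall_minus`.
-/

set_option autoImplicit false
set_option linter.unusedSectionVars false
set_option linter.unusedVariables false
set_option linter.unusedSimpArgs false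
set_option linter.deprecated false

namespace Cfsg.Agent.Lib.H13.AutPO

section

open Matrix QuadraticMap Module
open Cfsg.Agent.Lib.H11.ConfOrth

section fieldconjA

variable {F : Type*} [Field F] [Fintype F] {ι : Type} [Fintype ι] [DecidableEq ι]
variable (Q : QuadraticForm F (ι → F)) (σ : F ≃+* F)
variable (hQ : (polarBilin Q).Nondegenerate) (hcard : 7 ≤ Fintype.card ι)

include hQ hcard in
theorem Phi_scalarA (d : Fˣ) (hd : Matrix.GeneralLinearGroup.scalar ι d ∈ Sim ⇑Q) :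
    Phi ⇑Q ⟨Matrix.GeneralLinearGroup.scalar ι d, hd⟩ = 1 := by
  rw [← MonoidHom.mem_ker, ker_Phi_all Q hQ hcard, Subgroup.mem_subgroupOf, mem_Zs_iff]
  exact ⟨d, rfl⟩

include hQ hcard in
/-- elements of order `r` in the coset of the standard field automorphism are conjugate to it
(all characteristics) -/
theorem field_conj_genA (hσQ : SigEq σ Q) {r : ℕ} (hr : 0 < r) (hσ : orderOf σ = r)
    (hcl : ∀ Q' : QuadraticForm F (ι → F), (polarBilin Q').Nondegenerate → SigEq σ Q' →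
      (∃ (h : GL ι F) (l : F), l ≠ 0 ∧ ∀ v, Q' v = l * Q (h.1 *ᵥ v)) → FixSim Q σ Q')
    (g₀ : ↥(Sim ⇑Q)) (hpow : (Phi ⇑Q g₀ * stdAut Q σ hσQ) ^ r = 1) :
    ∃ k : ↥(Sim ⇑Q), Phi ⇑Q g₀ * stdAut Q σ hσQ = Phi ⇑Q k * stdAut Q σ hσQ * (Phi ⇑Q k)⁻¹ := by
  have hne := exists_neO Q hQ hcard
  have hσr : σ ^ r = 1 := by rw [← hσ, pow_orderOf_eq_one]
  rw [Phi_mul_stdAut, semiAut_pow] at hpow
  obtain ⟨-, hz⟩ := semi_ker_all Q hQ hcard _ _ _ hpow
  obtain ⟨c, hc⟩ := (mem_Zs_iff _).1 hz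
  -- `c` is fixed by `σ`
  have hcσ : σ (c : F) = c := by
    have h1 := PN_succ_right σ g₀.1 r
    rw [PN_succ, hc, hσr] at h1
    have h3 : glmap (1 : F ≃+* F) g₀.1 = g₀.1 := glmap_refl _
    rw [h3] at h1
    have h4 : glmap σ (Matrix.GeneralLinearGroup.scalar ι c) =
        Matrix.GeneralLinearGroup.scalar ι (Units.map (σ : F →* F) c) := by
      apply Units.ext
      rw [glmap_val, Matrix.GeneralLinearGroup.coe_scalar, Matrix.GeneralLinearGroup.coe_scalar]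
      ext a b
      rw [Matrix.map_apply, Matrix.scalar_apply, Matrix.scalar_apply, Matrix.diagonal_apply,
        Matrix.diagonal_apply]
      split_ifs
      · rfl
      · exact map_zero σ
    rw [h4, ← Matrix.GeneralLinearGroup.scalar_commute] at h1
    have h5 := mul_right_cancel h1
    have hne' : Nonempty ι := by
      rw [← Fintype.card_pos_iff]; omega
    obtain ⟨i⟩ := hne'
    have h6 := congrArg (fun M : GL ι F => (M : Matrix ι ι F) i i) h5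
    simp only [Matrix.GeneralLinearGroup.coe_scalar, Matrix.scalar_apply,
      Matrix.diagonal_apply_eq] at h6
    exact h6
  -- adjust by a scalar
  have hc0 : ((c⁻¹ : Fˣ) : F) ≠ 0 := Units.ne_zero _
  have hcσ' : σ ((c⁻¹ : Fˣ) : F) = ((c⁻¹ : Fˣ) : F) := by
    rw [Units.val_inv_eq_inv_val, map_inv₀, hcσ]
  obtain ⟨d, hd0, hd⟩ := AutPSL.Nm_surjective σ hr hσ _ hc0 hcσ'
  set du : Fˣ := Units.mk0 d hd0 with hdu
  have hdS : Matrix.GeneralLinearGroup.scalar ι du ∈ Sim ⇑Q :=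
    Zs_le_sim' Q ((mem_Zs_iff _).2 ⟨du, rfl⟩)
  set g₁ : ↥(Sim ⇑Q) := ⟨Matrix.GeneralLinearGroup.scalar ι du, hdS⟩ * g₀ with hg₁
  have hN : PN σ g₁.1 r = 1 := by
    have h1 := PN_scalar_mul σ du g₀.1 r
    rw [hg₁, Subgroup.coe_mul]
    show PN σ (Matrix.GeneralLinearGroup.scalar ι du * g₀.1) r = 1
    rw [h1, hc, ← map_mul]
    have : Units.mk0 (AutPSL.Nm σ r (du : F)) (AutPSL.Nm_ne_zero σ r du.ne_zero) * c = 1 := by
      apply Units.ext
      rw [Units.val_mul, Units.val_mk0, hdu, Units.val_mk0, hd, Units.val_one,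
        Units.inv_mul]
    rw [this, map_one]
  obtain ⟨k, hk, hgk⟩ := lang_GO Q σ hQ hne hσQ hr hσ hcl g₁.1 g₁.2 hN
  refine ⟨⟨k, hk⟩, ?_⟩
  have e1 : Phi ⇑Q g₀ = Phi ⇑Q g₁ := by
    rw [hg₁, map_mul, Phi_scalarA Q hQ hcard, one_mul]
  rw [e1, eq_mul_inv_iff_mul_eq, Phi_mul_stdAut, Phi_mul_stdAut,
    semiAut_mul_Phi Q σ _ ⟨k, hk⟩ (by
      show Cfsg.IsSemisimilarityPair ⇑Q (g₁.1 * glmap σ k) σ
      rw [hgk]; exact pair_of_sim Q σ hσQ ⟨k, hk⟩)]
  exact semiAut_congr ⇑Q hgk rfl _ _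

variable (hall : Cfsg.gammaPOmega F ⇑Q = ⊤)

theorem PN_one (i : ℕ) : PN σ (1 : GL ι F) i = 1 := by
  induction i with
  | zero => rfl
  | succ i ih => rw [PN_succ, ih, map_one, mul_one]

omit [Fintype F] in
theorem sigEq_pow (hσQ : SigEq σ Q) (i : ℕ) : SigEq (σ ^ i) Q := by
  induction i with
  | zero =>
    intro v
    rfl
  | succ i ih =>
    intro v
    rw [pow_succ']
    have : vmap (σ * σ ^ i) v = vmap σ (vmap (σ ^ i) v) := rfl
    rw [this, hσQ, ih]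
    rfl

theorem stdAut_pow (hσQ : SigEq σ Q) (i : ℕ) :
    (stdAut Q σ hσQ) ^ i = stdAut Q (σ ^ i) (sigEq_pow Q σ hσQ i) := by
  unfold stdAut
  rw [semiAut_pow]
  exact semiAut_congr _ (PN_one σ i) rfl _ _

include hQ hcard hall in
theorem orderOf_stdAutA (hσQ : SigEq σ Q) : orderOf (stdAut Q σ hσQ) = orderOf σ := by
  apply orderOf_eq_orderOf_iff.2
  intro i
  rw [stdAut_pow]
  constructor
  · intro h
    have h1 := congrArg (psiA Q hQ hcard hall) h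
    unfold stdAut at h1
    rwa [psiA_apply, map_one] at h1
  · intro h
    unfold stdAut
    have h1 : semiAut ⇑Q 1 (σ ^ i) (pair_one_of_sigEq Q (σ ^ i) (sigEq_pow Q σ hσQ i)) =
        semiAut ⇑Q 1 1 (pair_one_of_sigEq Q 1 (fun v => rfl)) :=
      semiAut_congr ⇑Q rfl h _ _
    rw [h1]
    exact semiAut_one ⇑Q _

end fieldconjA

end

section

open Matrix QuadraticMap Module
open Cfsg.Agent.Lib.H11.ConfOrth
open Cfsg.Agent.Lib.H13

section minusdown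

variable {F : Type*} [Field F] {m : ℕ}

theorem quadFormMinus_map {K₁ K₂ : Type*} [Field K₁] [Field K₂] (m : ℕ) (φ : K₁ →+* K₂)
    (a b : K₁) (v : (Fin m ⊕ Fin m) ⊕ Fin 2 → K₁) :
    Cfsg.quadFormMinus m K₂ (φ a) (φ b) (fun i => φ (v i)) = φ (Cfsg.quadFormMinus m K₁ a b v) := by
  unfold Cfsg.quadFormMinus
  simp only [map_add, map_pow, map_sum, map_mul]

theorem sigEq_minus (σ : F ≃+* F) (a b : F) (ha : σ a = a) (hb : σ b = b) :
    SigEq σ (minusQF F m a b) := by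
  intro v
  rw [minusQF_apply, minusQF_apply]
  have h := quadFormMinus_map m (σ : F →+* F) a b v
  simp only [RingHom.coe_coe, ha, hb] at h
  exact h

/-- the descended form of a minus-type form with fixed coefficients is the minus-type form over the
fixed field -/
theorem down_minus (σ : F ≃+* F) (a b : F) (hσQ : SigEq σ (minusQF F m a b))
    (a₀ b₀ : AutPSL.fixF σ) (ha : (a₀ : F) = a) (hb : (b₀ : F) = b)
    (v : (Fin m ⊕ Fin m) ⊕ Fin 2 → AutPSL.fixF σ) :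
    down (minusQF F m a b) hσQ v = minusQF (AutPSL.fixF σ) m a₀ b₀ v := by
  apply Subtype.ext
  rw [down_apply, minusQF_apply, minusQF_apply]
  have h := quadFormMinus_map m (AutPSL.fixF σ).subtype a₀ b₀ v
  rw [← ha, ← hb]
  exact h

theorem aniso_fix (σ : F ≃+* F) (a₀ b₀ : AutPSL.fixF σ)
    (hab : ∀ z₁ z₂ : F, z₁ ^ 2 + (a₀ : F) * z₁ * z₂ + (b₀ : F) * z₂ ^ 2 = 0 → z₁ = 0 ∧ z₂ = 0) :
    ∀ z₁ z₂ : AutPSL.fixF σ, z₁ ^ 2 + a₀ * z₁ * z₂ + b₀ * z₂ ^ 2 = 0 → z₁ = 0 ∧ z₂ = 0 := by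
  intro z₁ z₂ h
  have h1 := congrArg (fun x : AutPSL.fixF σ => (x : F)) h
  simp only [Subfield.coe_add, Subfield.coe_mul, SubmonoidClass.coe_pow, ZeroMemClass.coe_zero] at h1
  obtain ⟨h3, h4⟩ := hab _ _ h1
  exact ⟨Subtype.ext h3, Subtype.ext h4⟩

/-- a field automorphism of order two cannot fix the coefficients of an anisotropic binary form -/
theorem order_ne_two_of_aniso [Fintype F] (σ : F ≃+* F) (hσ : orderOf σ = 2) (a b : F)
    (ha : σ a = a) (hb : σ b = b)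
    (hab : ∀ z₁ z₂ : F, z₁ ^ 2 + a * z₁ * z₂ + b * z₂ ^ 2 = 0 → z₁ = 0 ∧ z₂ = 0) : False := by
  haveI : Fintype (AutPSL.fixF σ) := Fintype.ofFinite _
  have h1 := AutPSL.card_fixF σ (by norm_num : 0 < 2) hσ
  rw [Nat.card_eq_fintype_card] at h1
  set a₀ : AutPSL.fixF σ := ⟨a, (AutPSL.mem_fixF_iff σ a).2 ha⟩ with ha₀
  set b₀ : AutPSL.fixF σ := ⟨b, (AutPSL.mem_fixF_iff σ b).2 hb⟩ with hb₀
  obtain ⟨α, hα⟩ := exists_root_of_aniso (F := AutPSL.fixF σ) (K := F) rfl h1.symm a₀ b₀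
    (aniso_fix σ a₀ b₀ hab)
  have h3 := hab α 1 (by
    have e1 : algebraMap (AutPSL.fixF σ) F a₀ = a := rfl
    have e2 : algebraMap (AutPSL.fixF σ) F b₀ = b := rfl
    rw [e1, e2] at hα
    linear_combination hα)
  exact one_ne_zero h3.2

end minusdown

end

section

open Matrix QuadraticMap Module
open Cfsg.Agent.Lib.H11.ConfOrth
open Cfsg.Agent.Lib.H13

section minusiso

variable {F : Type*} [Field F] {m : ℕ}

/-- the change of binary part in odd characteristic -/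
theorem twM_Q' (a b a' b' s t : F) (hs : 2 * s = a' - a * t)
    (ht : t ^ 2 * (a ^ 2 - 4 * b) = a' ^ 2 - 4 * b') (h2 : (2 : F) ≠ 0)
    (x : (Fin m ⊕ Fin m) ⊕ Fin 2 → F) :
    Cfsg.quadFormMinus m F a b (twM s t *ᵥ x) = Cfsg.quadFormMinus m F a' b' x := by
  rw [twM_mulVec]
  unfold Cfsg.quadFormMinus
  simp only [Sum.elim_inl, Sum.elim_inr]
  have e0 : (![x (Sum.inr 0) + s * x (Sum.inr 1), t * x (Sum.inr 1)] : Fin 2 → F) 0 =
      x (Sum.inr 0) + s * x (Sum.inr 1) := rfl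
  have e1 : (![x (Sum.inr 0) + s * x (Sum.inr 1), t * x (Sum.inr 1)] : Fin 2 → F) 1 =
      t * x (Sum.inr 1) := rfl
  rw [e0, e1]
  have h4 : (4 : F) ≠ 0 := by
    have : (4 : F) = 2 * 2 := by norm_num
    rw [this]; exact mul_ne_zero h2 h2
  have hb' : s ^ 2 + a * s * t + b * t ^ 2 = b' := by
    apply mul_left_cancel₀ h4
    linear_combination (2 * s + a' + a * t) * hs - ht
  have ha' : 2 * s + a * t = a' := by linear_combination hs
  rw [← hb', ← ha']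
  ring

theorem isSquare_mul_of_nonsquare [Fintype F] (h2 : (2 : F) ≠ 0) (D D' : F) (hD : ¬ IsSquare D)
    (hD' : ¬ IsSquare D') : IsSquare (D' * D) := by
  classical
  have hchar : ringChar F ≠ 2 := ringChar_ne_two_of h2
  have hD0 : D ≠ 0 := by rintro rfl; exact hD ⟨0, by simp⟩
  have hD'0 : D' ≠ 0 := by rintro rfl; exact hD' ⟨0, by simp⟩
  rw [← quadraticChar_one_iff_isSquare (mul_ne_zero hD'0 hD0), map_mul,
    (quadraticChar_neg_one_iff_not_isSquare).2 hD, (quadraticChar_neg_one_iff_not_isSquare).2 hD']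
  norm_num

/-- any two minus-type forms of the same dimension over a finite field are isometric -/
theorem minus_iso [Fintype F] (a b a' b' : F)
    (hab : ∀ z₁ z₂ : F, z₁ ^ 2 + a * z₁ * z₂ + b * z₂ ^ 2 = 0 → z₁ = 0 ∧ z₂ = 0)
    (hab' : ∀ z₁ z₂ : F, z₁ ^ 2 + a' * z₁ * z₂ + b' * z₂ ^ 2 = 0 → z₁ = 0 ∧ z₂ = 0) :
    ∃ L : GL ((Fin m ⊕ Fin m) ⊕ Fin 2) F,
      ∀ v, Cfsg.quadFormMinus m F a b (L.1 *ᵥ v) = Cfsg.quadFormMinus m F a' b' v := by
  by_cases h2 : (2 : F) = 0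
  · haveI : CharP F 2 := CharTwo.of_one_ne_zero_of_two_eq_zero one_ne_zero h2
    obtain ⟨ha, hζ⟩ := aniso_char2 a b hab
    obtain ⟨φ₁, hφ₁⟩ := MinusClass.minus_equiv m a b (b / a ^ 2) hab hζ
    obtain ⟨φ₂, hφ₂⟩ := MinusClass.minus_equiv m a' b' (b / a ^ 2) hab' hζ
    refine ⟨glOfEquiv (φ₂.trans φ₁.symm), fun v => ?_⟩
    rw [glOfEquiv_mulVec, ← hφ₁, LinearEquiv.trans_apply, LinearEquiv.apply_symm_apply, hφ₂]
  · have hD := disc_nonsquare h2 a b hab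
    have hD' := disc_nonsquare h2 a' b' hab'
    have hD0 : a ^ 2 - 4 * b ≠ 0 := by
      intro h; exact hD ⟨0, by rw [h]; simp⟩
    obtain ⟨u, hu⟩ := isSquare_mul_of_nonsquare h2 _ _ hD hD'
    set t : F := u / (a ^ 2 - 4 * b) with ht
    have htt : t ^ 2 * (a ^ 2 - 4 * b) = a' ^ 2 - 4 * b' := by
      rw [ht]
      field_simp
      linear_combination -hu
    have ht0 : t ≠ 0 := by
      rintro h0
      rw [h0] at htt
      apply hD'
      exact ⟨0, by rw [← htt]; ring⟩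
    refine ⟨Matrix.GeneralLinearGroup.mkOfDetNeZero (twM ((a' - a * t) / 2) t)
      (by rw [twM_det]; exact ht0), fun v => ?_⟩
    exact twM_Q' a b a' b' _ t (by field_simp) htt h2 v

end minusiso

end

section

open Matrix QuadraticMap Module
open Cfsg.Agent.Lib.H11.ConfOrth
open Cfsg.Agent.Lib.H13

section plusdown

variable {F : Type*} [Field F] {ι : Type} [Fintype ι] [DecidableEq ι]
variable {σ : F ≃+* F}

theorem quadFormPlus_map {K₁ K₂ : Type*} [Field K₁] [Field K₂] (d : ℕ) (φ : K₁ →+* K₂)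
    (v : Fin d ⊕ Fin d → K₁) :
    Cfsg.quadFormPlus d K₂ (fun i => φ (v i)) = φ (Cfsg.quadFormPlus d K₁ v) := by
  unfold Cfsg.quadFormPlus
  simp only [map_sum, map_mul]

/-- if the descended form is of plus type, the form has a totally singular subspace of half the
dimension -/
theorem ts_of_plus_down (Q' : QuadraticForm F (ι → F)) (hσQ' : SigEq σ Q') (d : ℕ)
    (Φ : (ι → AutPSL.fixF σ) ≃ₗ[AutPSL.fixF σ] (Fin d ⊕ Fin d → AutPSL.fixF σ))
    (hΦ : ∀ v, down Q' hσQ' v = Cfsg.quadFormPlus d (AutPSL.fixF σ) (Φ v)) :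
    ∃ U : Submodule F (ι → F), finrank F U = d ∧ ∀ x ∈ U, Q' x = 0 := by
  have hcard : Fintype.card ι = Fintype.card (Fin d ⊕ Fin d) := by
    have h1 := Φ.finrank_eq
    rwa [Module.finrank_fintype_fun_eq_card, Module.finrank_fintype_fun_eq_card] at h1
  set e : ι ≃ Fin d ⊕ Fin d := Fintype.equivOfCardEq hcard with he
  set T₀ : (ι → AutPSL.fixF σ) ≃ₗ[AutPSL.fixF σ] (ι → AutPSL.fixF σ) :=
    Φ.trans (LinearEquiv.funCongrLeft (AutPSL.fixF σ) (AutPSL.fixF σ) e) with hT₀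
  set k : GL ι F := upGL (glOfEquiv T₀) with hk
  set P : QuadraticForm F (ι → F) :=
    Cfsg.Agent.Lib.H11.IsoReindex.trQF e.symm (plusQF F d) with hP
  have hPv : ∀ x : ι → F, P x = Cfsg.quadFormPlus d F (x ∘ e.symm) := by
    intro x
    rw [hP]
    show plusQF F d (x ∘ e.symm) = _
    rw [plusQF_apply]
  have hQP : Q' = P.comp (Matrix.toLin' k.1) := by
    apply qf_ext_of_upV (σ := σ)
    intro v
    rw [QuadraticMap.comp_apply, Matrix.toLin'_apply, hk, upGL_mulVec, glOfEquiv_mulVec, hPv,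
      ← down_apply Q' hσQ', hΦ]
    have e1 : (upV σ (T₀ v)) ∘ e.symm = fun j => (AutPSL.fixF σ).subtype (Φ v j) := by
      funext j
      rw [hT₀]
      simp [upV, LinearEquiv.funCongrLeft]
    rw [e1, quadFormPlus_map d (AutPSL.fixF σ).subtype (Φ v)]
    rfl
  set UP : Submodule F (ι → F) :=
    (PlusTS.U0 F d).map (LinearEquiv.funCongrLeft F F e : (Fin d ⊕ Fin d → F) →ₗ[F] (ι → F))
    with hUP
  have hUPfin : finrank F UP = d := by
    rw [hUP, LinearEquiv.finrank_map_eq, PlusTS.finrank_U0]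
  have hUPts : ∀ y ∈ UP, P y = 0 := by
    rintro _ ⟨u, hu, rfl⟩
    rw [hPv]
    have e2 : ((LinearEquiv.funCongrLeft F F e : (Fin d ⊕ Fin d → F) →ₗ[F] (ι → F)) u) ∘ e.symm
        = u := by
      funext j
      simp [LinearEquiv.funCongrLeft]
    rw [e2, ← plusQF_apply]
    exact PlusTS.U0_ts u hu
  refine ⟨UP.map ((Char2Mat.toEquiv k⁻¹ : (ι → F) ≃ₗ[F] (ι → F)) : (ι → F) →ₗ[F] (ι → F)), ?_, ?_⟩
  · rw [LinearEquiv.finrank_map_eq, hUPfin]
  · rintro _ ⟨y, hy, rfl⟩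
    rw [hQP, QuadraticMap.comp_apply, Matrix.toLin'_apply, LinearEquiv.coe_coe,
      Char2Mat.toEquiv_apply, mulVec_inv_mulVec]
    exact hUPts y hy

end plusdown

end

section

open Matrix QuadraticMap Module
open Cfsg.Agent.Lib.H11.ConfOrth
open Cfsg.Agent.Lib.H13

section fixsimminus

variable {F : Type*} [Field F] [Fintype F] {m : ℕ}

omit [Fintype F] in
theorem aniso_of_as (ζ : F) (hζ : ∀ t : F, t ^ 2 + t + ζ ≠ 0) :
    ∀ z₁ z₂ : F, z₁ ^ 2 + 1 * z₁ * z₂ + ζ * z₂ ^ 2 = 0 → z₁ = 0 ∧ z₂ = 0 := by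
  intro z₁ z₂ h
  have hz₂ : z₂ = 0 := by
    by_contra hne
    apply hζ (z₁ / z₂)
    field_simp
    linear_combination h
  subst hz₂
  refine ⟨?_, rfl⟩
  have : z₁ ^ 2 = 0 := by linear_combination h
  exact pow_eq_zero_iff (two_ne_zero) |>.1 this

/-- the classification hypothesis of `lang_GO` for the minus-type forms -/
theorem fixSim_minus (σ : F ≃+* F) (a b : F) (ha : σ a = a) (hb : σ b = b)
    (hab : ∀ z₁ z₂ : F, z₁ ^ 2 + a * z₁ * z₂ + b * z₂ ^ 2 = 0 → z₁ = 0 ∧ z₂ = 0)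
    (Q' : QuadraticForm F ((Fin m ⊕ Fin m) ⊕ Fin 2 → F)) (hQ' : (polarBilin Q').Nondegenerate)
    (hσQ' : SigEq σ Q')
    (hsim : ∃ (h : GL ((Fin m ⊕ Fin m) ⊕ Fin 2) F) (l : F), l ≠ 0 ∧
      ∀ v, Q' v = l * minusQF F m a b (h.1 *ᵥ v)) :
    FixSim (minusQF F m a b) σ Q' := by
  haveI : Fintype (AutPSL.fixF σ) := Fintype.ofFinite _
  have hσQ := sigEq_minus (m := m) σ a b ha hb
  set a₀ : AutPSL.fixF σ := ⟨a, (AutPSL.mem_fixF_iff σ a).2 ha⟩ with ha₀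
  set b₀ : AutPSL.fixF σ := ⟨b, (AutPSL.mem_fixF_iff σ b).2 hb⟩ with hb₀
  have hab₀ := aniso_fix σ a₀ b₀ hab
  have hfr : finrank (AutPSL.fixF σ) ((Fin m ⊕ Fin m) ⊕ Fin 2 → AutPSL.fixF σ) = 2 * (m + 1) := by
    rw [Module.finrank_fintype_fun_eq_card, card_minus]
  rcases MinusClass.classify (down Q' hσQ') (down_nondeg Q' hσQ' hQ') (d := m + 1) (by omega) hfr
    with ⟨Φ, hΦ⟩ | ⟨ζ, hζ, Φ, hΦ⟩
  · exfalso
    obtain ⟨U, hUfin, hUts⟩ := ts_of_plus_down Q' hσQ' (m + 1) Φ hΦ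
    obtain ⟨h, l, hl, hQh⟩ := hsim
    have hts : ∀ x ∈ U.map ((Char2Mat.toEquiv h :
        ((Fin m ⊕ Fin m) ⊕ Fin 2 → F) ≃ₗ[F] ((Fin m ⊕ Fin m) ⊕ Fin 2 → F)) :
        ((Fin m ⊕ Fin m) ⊕ Fin 2 → F) →ₗ[F] ((Fin m ⊕ Fin m) ⊕ Fin 2 → F)),
        minusQF F m a b x = 0 := by
      rintro _ ⟨u, hu, rfl⟩
      rw [LinearEquiv.coe_coe, Char2Mat.toEquiv_apply]
      have h1 := hQh u
      rw [hUts u hu] at h1
      rcases mul_eq_zero.1 h1.symm with h0 | h0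
      · exact absurd h0 hl
      · exact h0
    have h3 := no_ts_minus m a b hab _ hts
    rw [LinearEquiv.finrank_map_eq, hUfin] at h3
    omega
  · obtain ⟨Φ, hΦ⟩ : ∃ Φ' : ((Fin m ⊕ Fin m) ⊕ Fin 2 → AutPSL.fixF σ) ≃ₗ[AutPSL.fixF σ]
        ((Fin m ⊕ Fin m) ⊕ Fin 2 → AutPSL.fixF σ),
        ∀ v, down Q' hσQ' v = Cfsg.quadFormMinus m (AutPSL.fixF σ) 1 ζ (Φ' v) := ⟨Φ, hΦ⟩
    obtain ⟨L₀, hL₀⟩ := minus_iso (m := m) (1 : AutPSL.fixF σ) ζ a₀ b₀ (aniso_of_as ζ hζ) hab₀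
    apply fixSim_of_down (minusQF F m a b) σ hσQ Q' hσQ' ((Char2Mat.toEquiv L₀).trans Φ.symm) 1
      one_ne_zero
    intro v
    rw [hΦ, LinearEquiv.trans_apply, LinearEquiv.apply_symm_apply, Char2Mat.toEquiv_apply, hL₀,
      one_mul, down_minus σ a b hσQ a₀ b₀ rfl rfl, minusQF_apply]

end fixsimminus

end

section

open Matrix QuadraticMap Module
open Cfsg.Agent.Lib.H11.ConfOrth
open Cfsg.Agent.Lib.H13

section genericD

variable {F : Type*} [Field F] [Fintype F] {ι : Type} [Fintype ι] [DecidableEq ι]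
variable (Q : QuadraticForm F (ι → F)) (σ : F ≃+* F)
variable (hQ : (polarBilin Q).Nondegenerate) (hcard : 7 ≤ Fintype.card ι)

/-- a similarity fixed by `σ` induces an automorphism commuting with the standard field
automorphism -/
theorem Phi_comm_of_fixed (hσQ : SigEq σ Q) (ρ : ↥(Sim ⇑Q)) (hρσ : glmap σ ρ.1 = ρ.1) :
    stdAut Q σ hσQ * Phi ⇑Q ρ = Phi ⇑Q ρ * stdAut Q σ hσQ := by
  rw [stdAut_mul_Phi, Phi_mul_stdAut]
  exact semiAut_congr ⇑Q hρσ rfl _ _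

include hQ hcard in
/-- coset conjugacy inside a subgroup `Dt` of the similarity group which together with a
`σ`-fixed element `ρ` exhausts it -/
theorem coset_conj_D (hσQ : SigEq σ Q) {r : ℕ} (hr : 0 < r) (hσ : orderOf σ = r)
    (hcl : ∀ Q' : QuadraticForm F (ι → F), (polarBilin Q').Nondegenerate → SigEq σ Q' →
      (∃ (h : GL ι F) (l : F), l ≠ 0 ∧ ∀ v, Q' v = l * Q (h.1 *ᵥ v)) → FixSim Q σ Q')
    (Dt : Subgroup ↥(Sim ⇑Q)) (ρ : ↥(Sim ⇑Q)) (hρσ : glmap σ ρ.1 = ρ.1)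
    (hdich : ∀ k : ↥(Sim ⇑Q), k ∈ Dt ∨ k * ρ ∈ Dt)
    (g₀ : ↥(Sim ⇑Q)) (hpow : (Phi ⇑Q g₀ * stdAut Q σ hσQ) ^ r = 1) :
    ∃ h ∈ Dt, Phi ⇑Q g₀ * stdAut Q σ hσQ = Phi ⇑Q h * stdAut Q σ hσQ * (Phi ⇑Q h)⁻¹ := by
  obtain ⟨k, hk⟩ := field_conj_genA Q σ hQ hcard hσQ hr hσ hcl g₀ hpow
  rcases hdich k with h | h
  · exact ⟨k, h, hk⟩
  · refine ⟨k * ρ, h, ?_⟩
    rw [hk, map_mul, _root_.mul_inv_rev]
    have hc := Phi_comm_of_fixed Q σ hσQ ρ hρσ
    calc Phi ⇑Q k * stdAut Q σ hσQ * (Phi ⇑Q k)⁻¹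
        = Phi ⇑Q k * (stdAut Q σ hσQ * Phi ⇑Q ρ * (Phi ⇑Q ρ)⁻¹) * (Phi ⇑Q k)⁻¹ := by group
      _ = Phi ⇑Q k * (Phi ⇑Q ρ * stdAut Q σ hσQ * (Phi ⇑Q ρ)⁻¹) * (Phi ⇑Q k)⁻¹ := by rw [hc]
      _ = _ := by group

/-- the centraliser of the standard field automorphism in the image of `Dt` -/
theorem centralizer_D (hσQ : SigEq σ Q)
    (hker : (Phi ⇑Q).ker = (Zs ι F).subgroupOf (Sim ⇑Q)) (hne : ∃ v, Q v ≠ 0) {r : ℕ} (hr : 0 < r)
    (hσ : orderOf σ = r) (Dt : Subgroup ↥(Sim ⇑Q)) (hZ : (Phi ⇑Q).ker ≤ Dt) :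
    Dt.map (Phi ⇑Q) ⊓ Subgroup.centralizer {stdAut Q σ hσQ} =
      (Dt.comap (upSim Q hσQ)).map ((Phi ⇑Q).comp (upSim Q hσQ)) := by
  apply le_antisymm
  · rintro β ⟨⟨g, hg, rfl⟩, hcen⟩
    have h1 : Phi ⇑Q g ∈ (Phi ⇑Q).range ⊓ Subgroup.centralizer {stdAut Q σ hσQ} :=
      ⟨⟨g, rfl⟩, hcen⟩
    rw [centralizer_stdAut Q hσQ hker hne hr hσ] at h1
    obtain ⟨k, hk⟩ := h1
    refine ⟨k, ?_, hk⟩
    show upSim Q hσQ k ∈ Dt
    have h3 : g⁻¹ * upSim Q hσQ k ∈ (Phi ⇑Q).ker := by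
      rw [MonoidHom.mem_ker, map_mul, map_inv]
      rw [MonoidHom.comp_apply] at hk
      rw [hk, inv_mul_cancel]
    have h4 := Dt.mul_mem hg (hZ h3)
    rwa [mul_inv_cancel_left] at h4
  · rintro _ ⟨k, hk, rfl⟩
    refine ⟨⟨upSim Q hσQ k, hk, rfl⟩, ?_⟩
    show _ ∈ Subgroup.centralizer {stdAut Q σ hσQ}
    rw [Subgroup.mem_centralizer_iff]
    intro h hh
    rw [Set.mem_singleton_iff] at hh
    subst hh
    exact Phi_upSim_comm Q hσQ k

end genericD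

section imageiso

variable {G A₁ A₂ : Type*} [Group G] [Group A₁] [Group A₂]

/-- images of a subgroup under two homomorphisms with the same kernel are isomorphic -/
theorem map_equiv_of_ker_eq (j₁ : G →* A₁) (j₂ : G →* A₂) (hk : j₁.ker = j₂.ker)
    (S : Subgroup G) : Nonempty (↥(S.map j₁) ≃* ↥(S.map j₂)) := by
  have h1 : (j₁.comp S.subtype).range = S.map j₁ := by
    rw [MonoidHom.range_comp, Subgroup.range_subtype]
  have h2 : (j₂.comp S.subtype).range = S.map j₂ := by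
    rw [MonoidHom.range_comp, Subgroup.range_subtype]
  have h3 : (j₁.comp S.subtype).ker = (j₂.comp S.subtype).ker := by
    rw [← MonoidHom.comap_ker, ← MonoidHom.comap_ker, hk]
  exact ⟨(((MulEquiv.subgroupCongr h1).symm.trans
    (QuotientGroup.quotientKerEquivRange (j₁.comp S.subtype)).symm).trans
    (QuotientGroup.quotientMulEquivOfEq h3)).trans
    ((QuotientGroup.quotientKerEquivRange (j₂.comp S.subtype)).trans
      (MulEquiv.subgroupCongr h2))⟩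

end imageiso

section centD

variable {F : Type*} [Field F] [Fintype F] {ι : Type} [Fintype ι] [DecidableEq ι]
variable {σ : F ≃+* F} (Q : QuadraticForm F (ι → F)) (hσQ : SigEq σ Q)

/-- the centraliser of the standard field automorphism in the image of `Dt` is the image of the
corresponding subgroup over the fixed field -/
theorem centralizer_D_equiv [Nonempty ι]
    (hker : (Phi ⇑Q).ker = (Zs ι F).subgroupOf (Sim ⇑Q)) (hne : ∃ v, Q v ≠ 0) {r : ℕ} (hr : 0 < r)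
    (hσ : orderOf σ = r) (Dt : Subgroup ↥(Sim ⇑Q)) (hZ : (Phi ⇑Q).ker ≤ Dt)
    {K₂ : Type*} [Field K₂] (Q₂ : (ι → K₂) → K₂) (e : AutPSL.fixF σ ≃+* K₂)
    (hQe : ∀ v, Q₂ (fun i => e (v i)) = e (down Q hσQ v))
    (hker₂ : (Phi Q₂).ker = (Zs ι K₂).subgroupOf (Sim Q₂))
    (Dt₂ : Subgroup ↥(Sim Q₂))
    (hcomp : Dt.comap (upSim Q hσQ) =
      Dt₂.comap (simEquiv ⇑(down Q hσQ) Q₂ e hQe).toMonoidHom) :
    Nonempty (↥(Dt.map (Phi ⇑Q) ⊓ Subgroup.centralizer {stdAut Q σ hσQ}) ≃*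
      ↥(Dt₂.map (Phi Q₂))) := by
  set Θ := simEquiv ⇑(down Q hσQ) Q₂ e hQe with hΘ
  have hk : ((Phi ⇑Q).comp (upSim Q hσQ)).ker = ((Phi Q₂).comp Θ.toMonoidHom).ker := by
    rw [ker_Phi_upSim Q hσQ hker, ← MonoidHom.comap_ker, hker₂,
      ← map_Zs_simEquiv ⇑(down Q hσQ) Q₂ e hQe,
      Subgroup.comap_map_eq_self_of_injective Θ.injective]
  obtain ⟨E⟩ := map_equiv_of_ker_eq ((Phi ⇑Q).comp (upSim Q hσQ)) ((Phi Q₂).comp Θ.toMonoidHom) hk
    (Dt.comap (upSim Q hσQ))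
  have h1 := centralizer_D Q σ hσQ hker hne hr hσ Dt hZ
  have h2 : (Dt.comap (upSim Q hσQ)).map ((Phi Q₂).comp Θ.toMonoidHom) = Dt₂.map (Phi Q₂) := by
    rw [hcomp, ← Subgroup.map_map, Subgroup.map_comap_eq_self_of_surjective Θ.surjective]
  exact ⟨((MulEquiv.subgroupCongr h1).trans E).trans (MulEquiv.subgroupCongr h2)⟩

end centD

section splitD

variable {F : Type*} [Field F] [Fintype F] {ι : Type} [Fintype ι] [DecidableEq ι]
variable {σ : F ≃+* F} (Q : QuadraticForm F (ι → F)) (hσQ : SigEq σ Q)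

/-- the class of the standard field automorphism under the image of `Dt` does not split -/
theorem split_D (Dt : Subgroup ↥(Sim ⇑Q))
    (hInn : Cfsg.Inn (Cfsg.POmega F ⇑Q) ≤ Dt.map (Phi ⇑Q))
    (hP8 : ∀ g ∈ Dt, ∃ g' ∈ Dt, glmap σ g'.1 = g'.1 ∧
      Phi ⇑Q (g * g'⁻¹) ∈ Cfsg.Inn (Cfsg.POmega F ⇑Q)) :
    Cfsg.splitClassCount (Dt.map (Phi ⇑Q)) (Cfsg.Inn (Cfsg.POmega F ⇑Q)) (stdAut Q σ hσQ) = 1 := by
  rw [AutPSL.splitClassCount_eq _ _ hInn, Subgroup.relIndex_eq_one]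
  rintro _ ⟨g, hg, rfl⟩
  obtain ⟨g', hg', hfix, hinn⟩ := hP8 g hg
  have e1 : Phi ⇑Q g = Phi ⇑Q (g * g'⁻¹) * Phi ⇑Q g' := by
    rw [← map_mul, inv_mul_cancel_right]
  rw [e1]
  apply Subgroup.mul_mem_sup hinn
  refine ⟨⟨g', hg', rfl⟩, ?_⟩
  show _ ∈ Subgroup.centralizer {stdAut Q σ hσQ}
  rw [Subgroup.mem_centralizer_iff]
  intro h hh
  rw [Set.mem_singleton_iff] at hh
  subst hh
  exact Phi_comm_of_fixed Q σ hσQ g' hfix

end splitD

end

section

open Matrix QuadraticMap Module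
open Cfsg.Agent.Lib.H11.ConfOrth
open Cfsg.Agent.Lib.H13

section transportgen

variable {A B : Type*} [Group A] [Group B] (Ψ : A ≃* B)

theorem isConjUnder_map (D : Subgroup A) (x y : A) :
    Cfsg.IsConjUnder (D.map Ψ.toMonoidHom) (Ψ x) (Ψ y) ↔ Cfsg.IsConjUnder D x y := by
  constructor
  · rintro ⟨_, ⟨h, hh, rfl⟩, heq⟩
    refine ⟨h, hh, ?_⟩
    apply Ψ.injective
    rw [heq, map_mul, map_mul, map_inv]
    rfl
  · rintro ⟨h, hh, rfl⟩
    refine ⟨Ψ h, ⟨h, hh, rfl⟩, ?_⟩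
    rw [map_mul, map_mul, map_inv]

theorem map_centralizer_equiv (x : A) :
    (Subgroup.centralizer {x}).map Ψ.toMonoidHom = Subgroup.centralizer {Ψ x} := by
  ext y
  constructor
  · rintro ⟨z, hz, rfl⟩
    have hz' : z ∈ Subgroup.centralizer {x} := hz
    rw [Subgroup.mem_centralizer_iff] at hz' ⊢
    intro h hh
    rw [Set.mem_singleton_iff] at hh
    subst hh
    have := hz' x (Set.mem_singleton _)
    show Ψ x * Ψ z = Ψ z * Ψ x
    rw [← map_mul, ← map_mul, this]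
  · intro hy
    rw [Subgroup.mem_centralizer_iff] at hy
    have h1 := hy _ (Set.mem_singleton _)
    refine ⟨Ψ.symm y, ?_, Ψ.apply_symm_apply y⟩
    show _ ∈ Subgroup.centralizer {x}
    rw [Subgroup.mem_centralizer_iff]
    intro h hh
    rw [Set.mem_singleton_iff] at hh
    subst hh
    apply Ψ.injective
    rw [map_mul, map_mul, Ψ.apply_symm_apply, h1]

theorem centralizer_map_equiv (D : Subgroup A) (x : A) :
    Nonempty (↥(D ⊓ Subgroup.centralizer {x}) ≃*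
      ↥(D.map Ψ.toMonoidHom ⊓ Subgroup.centralizer {Ψ x})) := by
  have hinj : Function.Injective Ψ.toMonoidHom := Ψ.injective
  have e1 := Subgroup.equivMapOfInjective (D ⊓ Subgroup.centralizer {x}) _ hinj
  have h2 : (D ⊓ Subgroup.centralizer {x}).map Ψ.toMonoidHom =
      D.map Ψ.toMonoidHom ⊓ Subgroup.centralizer {Ψ x} := by
    rw [Subgroup.map_inf _ _ _ hinj, map_centralizer_equiv]
  exact ⟨e1.trans (MulEquiv.subgroupCongr h2)⟩

theorem splitClassCount_map (D K : Subgroup A) [K.Normal] (hKD : K ≤ D) (x : A) :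
    Cfsg.splitClassCount (D.map Ψ.toMonoidHom) (K.map Ψ.toMonoidHom) (Ψ x) =
      Cfsg.splitClassCount D K x := by
  have hinj : Function.Injective Ψ.toMonoidHom := Ψ.injective
  haveI : (K.map Ψ.toMonoidHom).Normal := Subgroup.Normal.map inferInstance _ Ψ.surjective
  rw [AutPSL.splitClassCount_eq _ _ (Subgroup.map_mono hKD), AutPSL.splitClassCount_eq _ _ hKD,
    ← map_centralizer_equiv, ← Subgroup.map_inf _ _ _ hinj, ← Subgroup.map_sup,
    Subgroup.relIndex_map_map_of_injective _ _ hinj]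

end transportgen

section transportaut

variable {X Y : Type*} [Group X] [Group Y] (ψ : X ≃* Y)

theorem map_inn_congr : (Cfsg.Inn X).map (MulAut.congr ψ).toMonoidHom = Cfsg.Inn Y := by
  ext β
  constructor
  · rintro ⟨_, ⟨x, rfl⟩, rfl⟩
    refine ⟨ψ x, ?_⟩
    apply MulEquiv.ext
    intro y
    show ψ x * y * (ψ x)⁻¹ = ψ (x * ψ.symm y * x⁻¹)
    rw [map_mul, map_mul, map_inv, ψ.apply_symm_apply]
  · rintro ⟨y, rfl⟩
    refine ⟨MulAut.conj (ψ.symm y), ⟨_, rfl⟩, ?_⟩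
    apply MulEquiv.ext
    intro z
    show ψ (ψ.symm y * ψ.symm z * (ψ.symm y)⁻¹) = y * z * y⁻¹
    rw [map_mul, map_mul, map_inv, ψ.apply_symm_apply, ψ.apply_symm_apply]

theorem congr_apply_eq (β : MulAut X) :
    MulAut.congr ψ β = (ψ.symm.trans β).trans ψ := by
  apply MulEquiv.ext
  intro y
  rfl

end transportaut

end

section

open Matrix QuadraticMap Module
open Cfsg.Agent.Lib.H11.ConfOrth
open Cfsg.Agent.Lib.H13 Cfsg.Agent.Lib.H13.HypPairs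

section fixedrefl

variable {F : Type*} [Field F] [Fintype F] {ι : Type} [Fintype ι] [DecidableEq ι]
variable {σ : F ≃+* F} (Q : QuadraticForm F (ι → F)) (hσQ : SigEq σ Q)

include hσQ in
/-- a reflection whose matrix is fixed by `σ` -/
theorem exists_fixed_refl (hne : ∃ v, Q v ≠ 0) :
    ∃ (v : ι → F) (hv : Q v ≠ 0) (ρ : ↥(Sim ⇑Q)), glmap σ ρ.1 = ρ.1 ∧ ρ.1 = (reflG Q v hv).1 := by
  obtain ⟨u₀, hu₀⟩ := exists_upV_ne (σ := σ) Q hne
  have hu₀' : down Q hσQ u₀ ≠ 0 := by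
    intro h
    apply hu₀
    rw [← down_apply Q hσQ, h]
    rfl
  set r₀ := reflG (down Q hσQ) u₀ hu₀' with hr₀
  refine ⟨upV σ u₀, hu₀, ⟨upGL r₀.1, iso_le_sim _ (upGL_mem_iso Q hσQ r₀.1 r₀.2)⟩,
    glmap_upGL _, ?_⟩
  apply Units.ext
  rw [upGL_val]
  show (Cfsg.reflectionMatrix ⇑(down Q hσQ) u₀).map (AutPSL.fixF σ).subtype =
    Cfsg.reflectionMatrix ⇑Q (upV σ u₀)
  rw [refl_up Q hσQ]

end fixedrefl

section hallminus

variable {F : Type*} [Field F] [Fintype F] {m : ℕ}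

theorem hall_minus (hm : 3 ≤ m) (a b : F)
    (hab : ∀ z₁ z₂ : F, z₁ ^ 2 + a * z₁ * z₂ + b * z₂ ^ 2 = 0 → z₁ = 0 ∧ z₂ = 0) :
    Cfsg.gammaPOmega F ⇑(minusQF F m a b) = ⊤ := by
  have hQ : (polarBilin (minusQF F m a b)).Nondegenerate :=
    Cfsg.Agent.S0288.nondeg (F := F) a b hab m
  have hcard : Fintype.card ((Fin m ⊕ Fin m) ⊕ Fin 2) = 2 * (m + 1) := card_minus
  have hc7 : 7 ≤ Fintype.card ((Fin m ⊕ Fin m) ⊕ Fin 2) := by rw [hcard]; omega
  apply gamma_eq_top _ hQ hc7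
  by_cases h4 : 4 ≤ m
  · left
    rw [hcard]; omega
  · right
    intro U hU
    have hm3 : m = 3 := by omega
    have := no_ts_minus m a b hab U hU
    omega

end hallminus

end

end Cfsg.Agent.Lib.H13.AutPO
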