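import Cfsg.Agent.Lib.H12.M7920VAL3
import Cfsg.Agent.Lib.H11.M7920NOMIX
import Cfsg.Agent.Lib.H28.M7920ARITH3
import Cfsg.Agent.Lib.H28.M7920SUM10
import Cfsg.Agent.Lib.H23.ClassBound
import Cfsg.Agent.Lib.H23.CentralChar
import Cfsg.Agent.Lib.H24.CharConj
import Cfsg.Agent.Lib.H24.CharOrth

/-!
S0434 piece (T3) `card_centralizer_order3` (architect helper14, route of helper7): in a group with the
structure data of a simple group of order 7920 (hypothesis block of S0435 `card_centralizer_involution`),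
every element of order 3 has centralizer of order 18.
-/

set_option autoImplicit false

namespace Cfsg.Agent.Lib.H13.M7920

open Cfsg
open scoped BigOperators ComplexConjugate
universe u

/-- An element whose centralizer has prime order `p < |G|` has order `p`. -/
theorem orderOf_eq_of_card_centralizer {G : Type u} [Group G] [Finite G] (x : G) (p : ℕ)
    (hp : p.Prime) (hpG : Nat.card G ≠ p)
    (hCx : Nat.card (Subgroup.centralizer ({x} : Set G)) = p) : orderOf x = p := by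
  have hmem : x ∈ Subgroup.centralizer ({x} : Set G) := by
    rw [Subgroup.mem_centralizer_iff]
    intro h hh
    rw [Set.mem_singleton_iff] at hh
    rw [hh]
  have hdvd : orderOf x ∣ p := by
    rw [← hCx]
    have h1 := orderOf_dvd_natCard (⟨x, hmem⟩ : Subgroup.centralizer ({x} : Set G))
    rwa [← Subgroup.orderOf_coe] at h1
  rcases (Nat.dvd_prime hp).1 hdvd with h1 | h1
  · exfalso
    rw [orderOf_eq_one_iff] at h1
    apply hpG
    rw [← hCx, h1]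
    have : Subgroup.centralizer ({1} : Set G) = ⊤ := by
      ext g
      simp [Subgroup.mem_centralizer_iff]
    rw [this, Subgroup.card_top]
  · exact h1

theorem orderOf_eq_of_isConj {G : Type u} [Group G] {a b : G} (h : IsConj a b) :
    orderOf a = orderOf b := by
  obtain ⟨c, hc⟩ := isConj_iff.1 h
  rw [← hc]
  exact (orderOf_injective (MulAut.conj c).toMonoidHom (MulAut.conj c).injective a).symm

/-- An irreducible character which agrees at `t` with every irreducible character of the same degree is real at `t`. -/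
theorem conj_eq_self_of_unique {G : Type u} [Group G] [Finite G] (ξ : IrrCharacter G) (t : G) (d : ℕ)
    (hd : (ξ : G → ℂ) 1 = d)
    (huniq : ∀ ξ' : IrrCharacter G, (ξ' : G → ℂ) 1 = d → (ξ' : G → ℂ) t = (ξ : G → ℂ) t) :
    conj ((ξ : G → ℂ) t) = (ξ : G → ℂ) t := by
  have h := huniq (Cfsg.Agent.Lib.H24.irrConj ξ)
    (by rw [Cfsg.Agent.Lib.H24.irrConj_apply, hd, Complex.conj_natCast])
  rwa [Cfsg.Agent.Lib.H24.irrConj_apply] at h

/-- A rational algebraic integer `k u / 16` forces `16 ∣ k u`. -/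
theorem dvd_of_isIntegral_div (k : ℕ) (u : ℤ) (h : IsIntegral ℤ ((k : ℂ) * (u : ℂ) / 16)) :
    (16 : ℤ) ∣ (k : ℤ) * u := by
  have h2 : IsIntegral ℤ ((((k : ℤ) * u : ℤ) : ℚ) / 16) := by
    rw [← isIntegral_algebraMap_iff (algebraMap ℚ ℂ).injective]
    convert h using 1
    simp
  obtain ⟨z, hz⟩ := IsIntegrallyClosed.isIntegral_iff.mp h2
  refine ⟨z, ?_⟩
  have h3 : (((k : ℤ) * u : ℤ) : ℚ) = 16 * (z : ℚ) := by
    have h16 : (16 : ℚ) ≠ 0 := by norm_num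
    have : (algebraMap ℤ ℚ) z = (z : ℚ) := rfl
    rw [this] at hz
    field_simp at hz
    linarith
  exact_mod_cast h3

theorem card_centralizer_order3 {G : Type u} [Group G] [Fintype G] (hG : Nat.card G = 7920)
    (x y : G) (hx : ¬ IsConj x x⁻¹) (hCx : Nat.card (Subgroup.centralizer ({x} : Set G)) = 11)
    (hCy : Nat.card (Subgroup.centralizer ({y} : Set G)) = 5)
    (ψ : Fin 3 → IrrCharacter G) (ψ₄ χ₁ χ₂ θ θ' φ : IrrCharacter G)
    (hall : ∀ ξ : IrrCharacter G, (ξ : G → ℂ) = 1 ∨ (∃ i, ξ = ψ i) ∨ ξ = ψ₄ ∨ ξ = χ₁ ∨ ξ = χ₂ ∨ ξ = θ ∨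
      ξ = θ' ∨ ξ = φ)
    (hinj : Function.Injective ψ)
    (hdist : (∀ i, ψ i ≠ ψ₄ ∧ ψ i ≠ χ₁ ∧ ψ i ≠ χ₂ ∧ ψ i ≠ θ ∧ ψ i ≠ θ' ∧ ψ i ≠ φ) ∧
      ψ₄ ≠ χ₁ ∧ ψ₄ ≠ χ₂ ∧ ψ₄ ≠ θ ∧ ψ₄ ≠ θ' ∧ ψ₄ ≠ φ ∧ χ₁ ≠ χ₂ ∧ χ₁ ≠ θ ∧ χ₁ ≠ θ' ∧ χ₁ ≠ φ ∧
      χ₂ ≠ θ ∧ χ₂ ≠ θ' ∧ χ₂ ≠ φ ∧ θ ≠ θ' ∧ θ ≠ φ ∧ θ' ≠ φ)
    (hne1 : (∀ i, (ψ i : G → ℂ) ≠ 1) ∧ (ψ₄ : G → ℂ) ≠ 1 ∧ (χ₁ : G → ℂ) ≠ 1 ∧ (χ₂ : G → ℂ) ≠ 1 ∧
      (θ : G → ℂ) ≠ 1 ∧ (θ' : G → ℂ) ≠ 1 ∧ (φ : G → ℂ) ≠ 1)
    (hdeg : (∀ i, (ψ i : G → ℂ) 1 = 10) ∧ (ψ₄ : G → ℂ) 1 = 45 ∧ (χ₁ : G → ℂ) 1 = 16 ∧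
      (χ₂ : G → ℂ) 1 = 16 ∧ (θ : G → ℂ) 1 = 11 ∧ (θ' : G → ℂ) 1 = 44 ∧ (φ : G → ℂ) 1 = 55)
    (hvalx : (∀ i, (ψ i : G → ℂ) x = -1) ∧ (ψ₄ : G → ℂ) x = 1 ∧
      (χ₁ : G → ℂ) x⁻¹ + (χ₂ : G → ℂ) x⁻¹ = -1 ∧ (θ : G → ℂ) x = 0 ∧ (θ' : G → ℂ) x = 0 ∧
      (φ : G → ℂ) x = 0)
    (hF5 : ∀ g : G, ¬ IsConj g x → ¬ IsConj g x⁻¹ → (χ₁ : G → ℂ) g = (χ₂ : G → ℂ) g ∧
      1 - ∑ i, (ψ i : G → ℂ) g + (ψ₄ : G → ℂ) g - (χ₁ : G → ℂ) g = 0)
    (hvaly : (∀ i, (ψ i : G → ℂ) y = 0) ∧ (ψ₄ : G → ℂ) y = 0 ∧ (χ₁ : G → ℂ) y = 1 ∧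
      (χ₂ : G → ℂ) y = 1 ∧ (θ : G → ℂ) y = 1 ∧ (θ' : G → ℂ) y = -1 ∧ (φ : G → ℂ) y = 0)
    (t : G) (ht : orderOf t = 3) :
    Nat.card (Subgroup.centralizer ({t} : Set G)) = 18 := by
  classical
  have : Fintype (IrrCharacter G) := Fintype.ofFinite _
  obtain ⟨hd10, hd45, hd16, hd16', hd11, hd44, hd55⟩ := hdeg
  obtain ⟨hy10, hy45, hy16, hy16', hy11, hy44, hy55⟩ := hvaly
  -- orders of x and y
  have hox : orderOf x = 11 :=
    orderOf_eq_of_card_centralizer x 11 (by norm_num) (by rw [hG]; norm_num) hCx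
  have hoy : orderOf y = 5 :=
    orderOf_eq_of_card_centralizer y 5 (by norm_num) (by rw [hG]; norm_num) hCy
  have htx : ¬ IsConj t x := fun h => by
    have := orderOf_eq_of_isConj h
    rw [ht, hox] at this
    norm_num at this
  have htx' : ¬ IsConj t x⁻¹ := fun h => by
    have := orderOf_eq_of_isConj h
    rw [ht, orderOf_inv, hox] at this
    norm_num at this
  have hty : ¬ IsConj t y := fun h => by
    have := orderOf_eq_of_isConj h
    rw [ht, hoy] at this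
    norm_num at this
  have ht3 : t ^ 3 = 1 := by rw [← ht]; exact pow_orderOf_eq_one t
  have h12 : (χ₁ : G → ℂ) t = (χ₂ : G → ℂ) t := (hF5 t htx htx').1
  -- classification of the irreducible characters by degree
  have hcls : ∀ ξ' : IrrCharacter G, (ξ' : G → ℂ) 1 = 1 ∨ (ξ' : G → ℂ) 1 = 10 ∨ ξ' = ψ₄ ∨
      ξ' = χ₁ ∨ ξ' = χ₂ ∨ ξ' = θ ∨ ξ' = θ' ∨ ξ' = φ := by
    intro ξ'
    rcases hall ξ' with h | ⟨i, h⟩ | h | h | h | h | h | h
    · left; rw [h]; rfl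
    · right; left; rw [h]; exact hd10 i
    · right; right; left; exact h
    · right; right; right; left; exact h
    · right; right; right; right; left; exact h
    · right; right; right; right; right; left; exact h
    · right; right; right; right; right; right; left; exact h
    · right; right; right; right; right; right; right; exact h
  -- reality of the values at t
  have hreal16 : conj ((χ₁ : G → ℂ) t) = (χ₁ : G → ℂ) t := by
    refine conj_eq_self_of_unique χ₁ t 16 (by rw [hd16]; norm_num) ?_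
    intro ξ' h
    rcases hcls ξ' with h1 | h1 | h1 | h1 | h1 | h1 | h1 | h1
    · rw [h1] at h; norm_num at h
    · rw [h1] at h; norm_num at h
    · rw [h1, hd45] at h; norm_num at h
    · rw [h1]
    · rw [h1, h12]
    · rw [h1, hd11] at h; norm_num at h
    · rw [h1, hd44] at h; norm_num at h
    · rw [h1, hd55] at h; norm_num at h
  have hreal11 : conj ((θ : G → ℂ) t) = (θ : G → ℂ) t := by
    refine conj_eq_self_of_unique θ t 11 (by rw [hd11]; norm_num) ?_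
    intro ξ' h
    rcases hcls ξ' with h1 | h1 | h1 | h1 | h1 | h1 | h1 | h1
    · rw [h1] at h; norm_num at h
    · rw [h1] at h; norm_num at h
    · rw [h1, hd45] at h; norm_num at h
    · rw [h1, hd16] at h; norm_num at h
    · rw [h1, hd16'] at h; norm_num at h
    · rw [h1]
    · rw [h1, hd44] at h; norm_num at h
    · rw [h1, hd55] at h; norm_num at h
  have hreal44 : conj ((θ' : G → ℂ) t) = (θ' : G → ℂ) t := by
    refine conj_eq_self_of_unique θ' t 44 (by rw [hd44]; norm_num) ?_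
    intro ξ' h
    rcases hcls ξ' with h1 | h1 | h1 | h1 | h1 | h1 | h1 | h1
    · rw [h1] at h; norm_num at h
    · rw [h1] at h; norm_num at h
    · rw [h1, hd45] at h; norm_num at h
    · rw [h1, hd16] at h; norm_num at h
    · rw [h1, hd16'] at h; norm_num at h
    · rw [h1, hd11] at h; norm_num at h
    · rw [h1]
    · rw [h1, hd55] at h; norm_num at h
  have hreal55 : conj ((φ : G → ℂ) t) = (φ : G → ℂ) t := by
    refine conj_eq_self_of_unique φ t 55 (by rw [hd55]; norm_num) ?_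
    intro ξ' h
    rcases hcls ξ' with h1 | h1 | h1 | h1 | h1 | h1 | h1 | h1
    · rw [h1] at h; norm_num at h
    · rw [h1] at h; norm_num at h
    · rw [h1, hd45] at h; norm_num at h
    · rw [h1, hd16] at h; norm_num at h
    · rw [h1, hd16'] at h; norm_num at h
    · rw [h1, hd11] at h; norm_num at h
    · rw [h1, hd44] at h; norm_num at h
    · rw [h1]
  -- (VAL3) integer values
  obtain ⟨u, hu, hu3⟩ := (Cfsg.Agent.Lib.H12.M7920.values_order3 χ₁ t ht3 16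
    (by rw [hd16]; norm_num)).1 hreal16
  obtain ⟨b, hb, hb3⟩ := (Cfsg.Agent.Lib.H12.M7920.values_order3 θ t ht3 11
    (by rw [hd11]; norm_num)).1 hreal11
  obtain ⟨d, hd, hd3⟩ := (Cfsg.Agent.Lib.H12.M7920.values_order3 θ' t ht3 44
    (by rw [hd44]; norm_num)).1 hreal44
  obtain ⟨f, hf, hf3⟩ := (Cfsg.Agent.Lib.H12.M7920.values_order3 φ t ht3 55
    (by rw [hd55]; norm_num)).1 hreal55
  have hn : ∀ i, 1 ≤ ‖(ψ i : G → ℂ) t‖ ^ 2 := fun i =>
    (Cfsg.Agent.Lib.H12.M7920.values_order3 (ψ i) t ht3 10 (by rw [hd10 i]; norm_num)).2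
      (by norm_num)
  -- (NOMIX3)
  obtain ⟨m, hm, hc⟩ := Cfsg.Agent.Lib.H11.M7920.card_centralizer_order3_form hG x y hCx hCy t ht
  have hmpos : 0 < m := Nat.pos_of_dvd_of_pos hm (by norm_num)
  -- (SUM10)
  obtain ⟨τ, hτ, hsum⟩ := Cfsg.Agent.Lib.H28.M7920.sum_irr_eq ψ ψ₄ χ₁ χ₂ θ θ' φ hall hinj hdist hne1
  have hτt : ∀ g : G, (τ : G → ℂ) g = 1 := fun g => by rw [hτ]; rfl
  -- column t / t
  have hcol : ((9 * m : ℕ) : ℝ) = 1 + ∑ i, ‖(ψ i : G → ℂ) t‖ ^ 2 + ‖(ψ₄ : G → ℂ) t‖ ^ 2 +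
      2 * (u : ℝ) ^ 2 + (b : ℝ) ^ 2 + (d : ℝ) ^ 2 + (f : ℝ) ^ 2 := by
    have h := Cfsg.Agent.Lib.H23.sum_normSq_irr_eq_card_centralizer t
    rw [hc] at h
    have h' : (((9 * m : ℕ) : ℝ) : ℂ) = ∑ ξ : IrrCharacter G, ((‖(ξ : G → ℂ) t‖ ^ 2 : ℝ) : ℂ) := by
      rw [← h]; push_cast; rfl
    rw [hsum (fun ξ => ((‖(ξ : G → ℂ) t‖ ^ 2 : ℝ) : ℂ))] at h'
    simp only [hτt, ← h12, hu, hb, hd, hf] at h'
    have e : ∀ z : ℤ, ‖((z : ℤ) : ℂ)‖ ^ 2 = (z : ℝ) ^ 2 := fun z => by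
      rw [Complex.norm_intCast, sq_abs]
    rw [e, e, e, e, norm_one] at h'
    have h'' : ((9 * m : ℕ) : ℝ) = 1 ^ 2 + ∑ i, ‖(ψ i : G → ℂ) t‖ ^ 2 + ‖(ψ₄ : G → ℂ) t‖ ^ 2 +
        (u : ℝ) ^ 2 + (u : ℝ) ^ 2 + (b : ℝ) ^ 2 + (d : ℝ) ^ 2 + (f : ℝ) ^ 2 := by
      exact_mod_cast h'
    rw [h'']; ring
  -- column t / y
  have hyrel : 1 + 2 * u + b - d = 0 := by
    have h := Cfsg.Agent.Lib.H24.second_orthogonality t y
    rw [if_neg hty, hsum (fun ξ => (ξ : G → ℂ) t * conj ((ξ : G → ℂ) y))] at h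
    simp only [hτt, hy10, hy45, hy16, hy16', hy11, hy44, hy55, ← h12, hu, hb, hd, hf, map_zero,
      map_one, map_neg, mul_zero, mul_one, Finset.sum_const_zero, add_zero] at h
    have h2 : ((1 + 2 * u + b - d : ℤ) : ℂ) = 0 := by
      push_cast
      linear_combination h
    exact_mod_cast h2
  -- central character of χ₁ at t
  have hidx : (Subgroup.centralizer ({t} : Set G)).index = 880 / m := by
    have h1 := Subgroup.index_mul_card (Subgroup.centralizer ({t} : Set G))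
    rw [hc, hG] at h1
    have h2 : 9 * ((Subgroup.centralizer ({t} : Set G)).index * m) = 7920 := by
      rw [← h1]; ring
    have h3 : (Subgroup.centralizer ({t} : Set G)).index * m = 880 := by omega
    exact (Nat.div_eq_of_eq_mul_left hmpos h3.symm).symm
  have hcc : (16 : ℤ) ∣ ((880 / m : ℕ) : ℤ) * u := by
    apply dvd_of_isIntegral_div
    have h := Cfsg.Agent.Lib.H23.isIntegral_centralChar (χ₁ : G → ℂ) χ₁.2 t
    rw [Cfsg.centralChar, hidx, hd16, hu] at h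
    exact h
  -- (ARITH3)
  have hm2 := Cfsg.Agent.Lib.H28.M7920.arith_m2 m hm u b d f
    (fun i => ‖(ψ i : G → ℂ) t‖ ^ 2) (‖(ψ₄ : G → ℂ) t‖ ^ 2)
    (hu3.trans (by decide)) (hb3.trans (by decide)) (hd3.trans (by decide)) (hf3.trans (by decide))
    hn (by positivity) hcc hcol hyrel
  rw [hc, hm2]

end Cfsg.Agent.Lib.H13.M7920
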