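import Cfsg.Agent.Lib.H13.HypTS

set_option autoImplicit false

namespace Cfsg.Agent.Lib.H13.RankParity

open Matrix Module
open scoped MatrixGroups
open Cfsg.Agent.Lib.H13 Cfsg.Agent.Lib.H13.HypPairs Cfsg.Agent.Lib.H13.MaxTS
  Cfsg.Agent.Lib.H13.DicksonGen Cfsg.Agent.Lib.H13.HypTS Cfsg.Agent.Lib.H13.OrthSum

variable {F : Type*} [Field F] {ι : Type} [Fintype ι] [DecidableEq ι] (Q : QuadraticForm F (ι → F))

/-- the diagonal embedding -/
def diagL (F : Type*) [Field F] (ι : Type) : (ι → F) →ₗ[F] (ι ⊕ ι → F) :=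
  LinearMap.funLeft F F (Sum.elim id id)

omit [Fintype ι] [DecidableEq ι] in
theorem diagL_apply (x : ι → F) : diagL F ι x = Sum.elim x x := by
  funext s
  rcases s with i | i <;> rfl

theorem Phi_mulVec (N : Matrix ι ι F) (a b : ι → F) :
    Phi N *ᵥ Sum.elim a b = Sum.elim (N *ᵥ a + Nᵀ *ᵥ b) (a + b) := by
  rw [Phi, fromBlocks_mulVec]
  simp only [Matrix.one_mulVec]
  rfl

theorem Phi_mem_U0_iff (N : Matrix ι ι F) (a b : ι → F) :
    Phi N *ᵥ Sum.elim a b ∈ U0 F ι ↔ a + b = 0 := by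
  rw [mem_U0_iff, Phi_mulVec]
  rfl

theorem T_mulVec_Phi (N : Matrix ι ι F) (hU : IsUnit (Phi N)) (g : Matrix ι ι F) (a b : ι → F) :
    T N g *ᵥ (Phi N *ᵥ Sum.elim a b) = Phi N *ᵥ Sum.elim (g *ᵥ a) b := by
  have hdet := (Matrix.isUnit_iff_isUnit_det _).mp hU
  unfold T
  rw [Matrix.mulVec_mulVec, Matrix.mul_assoc, Matrix.nonsing_inv_mul _ hdet, Matrix.mul_one,
    ← Matrix.mulVec_mulVec, fromBlocks_diag_mulVec, Matrix.one_mulVec]
  rfl

variable [CharP F 2]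

/-- the key identification: `U0 ∩ T U0` is the image of the fixed space of `g` -/
theorem inf_eq_map (N : Matrix ι ι F) (hU : IsUnit (Phi N)) (g : Matrix ι ι F) :
    U0 F ι ⊓ (U0 F ι).map (Matrix.mulVecLin (T N g)) =
      (LinearMap.ker (Matrix.mulVecLin (g - 1))).map
        ((Matrix.mulVecLin (Phi N)).comp (diagL F ι)) := by
  have hdet := (Matrix.isUnit_iff_isUnit_det _).mp hU
  apply le_antisymm
  · rintro z ⟨hz0, u, hu0, rfl⟩
    have hu : u = Phi N *ᵥ ((Phi N)⁻¹ *ᵥ u) := by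
      rw [Matrix.mulVec_mulVec, Matrix.mul_nonsing_inv _ hdet, Matrix.one_mulVec]
    set w := (Phi N)⁻¹ *ᵥ u with hw
    have hw' : w = Sum.elim (w ∘ Sum.inl) (w ∘ Sum.inr) := by
      funext s; rcases s with i | i <;> rfl
    rw [hw'] at hu
    rw [SetLike.mem_coe, hu, Phi_mem_U0_iff] at hu0
    have hba : w ∘ Sum.inr = w ∘ Sum.inl := by
      have : w ∘ Sum.inr = -(w ∘ Sum.inl) := by
        rw [eq_neg_iff_add_eq_zero, add_comm]; exact hu0
      rw [this, Char2Gen.neg_eq_self F]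
    rw [Matrix.mulVecLin_apply, hu, T_mulVec_Phi N hU, hba] at hz0 ⊢
    rw [SetLike.mem_coe, Phi_mem_U0_iff] at hz0
    have hga : g *ᵥ (w ∘ Sum.inl) = w ∘ Sum.inl := by
      have : g *ᵥ (w ∘ Sum.inl) = -(w ∘ Sum.inl) := by
        rw [eq_neg_iff_add_eq_zero]; exact hz0
      rw [this, Char2Gen.neg_eq_self F]
    refine ⟨w ∘ Sum.inl, ?_, ?_⟩
    · rw [SetLike.mem_coe, LinearMap.mem_ker, Matrix.mulVecLin_apply, Matrix.sub_mulVec,
        Matrix.one_mulVec, hga, sub_self]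
    · rw [LinearMap.comp_apply, diagL_apply, Matrix.mulVecLin_apply, hga]
  · rintro z ⟨x, hx, rfl⟩
    rw [SetLike.mem_coe, LinearMap.mem_ker, Matrix.mulVecLin_apply, Matrix.sub_mulVec,
      Matrix.one_mulVec, sub_eq_zero] at hx
    rw [LinearMap.comp_apply, diagL_apply, Matrix.mulVecLin_apply]
    have h0 : Phi N *ᵥ Sum.elim x x ∈ U0 F ι := by
      rw [Phi_mem_U0_iff]
      exact Char2Gen.add_self_zero F x
    refine ⟨h0, Phi N *ᵥ Sum.elim x x, h0, ?_⟩
    rw [Matrix.mulVecLin_apply, T_mulVec_Phi N hU, hx]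

theorem card_sub_finrank_inf (N : Matrix ι ι F) (hU : IsUnit (Phi N)) (g : Matrix ι ι F) :
    Fintype.card ι - finrank F ↥(U0 F ι ⊓ (U0 F ι).map (Matrix.mulVecLin (T N g))) =
      (g - 1).rank := by
  rw [inf_eq_map N hU g]
  have hinj : Function.Injective ((Matrix.mulVecLin (Phi N)).comp (diagL F ι)) := by
    intro x y hxy
    rw [LinearMap.comp_apply, LinearMap.comp_apply, Matrix.mulVecLin_apply,
      Matrix.mulVecLin_apply] at hxy
    have h1 := (Matrix.mulVec_injective_iff_isUnit.mpr hU) hxy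
    rw [diagL_apply, diagL_apply] at h1
    funext i
    exact congrFun h1 (Sum.inl i)
  have e := Submodule.equivMapOfInjective _ hinj (LinearMap.ker (Matrix.mulVecLin (g - 1)))
  rw [← LinearEquiv.finrank_eq e]
  have h1 := LinearMap.finrank_range_add_finrank_ker (Matrix.mulVecLin (g - 1))
  rw [Module.finrank_fintype_fun_eq_card] at h1
  unfold Matrix.rank
  omega

/-- the transferred isometry as a group element -/
noncomputable def TG (hQ : (QuadraticMap.polarBilin Q).Nondegenerate) (N : Matrix ι ι F)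
    (hN : ∀ x, Q x = x ⬝ᵥ N *ᵥ x) (g : ↥(Cfsg.isometryGroup F ⇑Q)) :
    ↥(Cfsg.isometryGroup F (hyp : (ι ⊕ ι → F) → F)) :=
  ⟨⟨T N ((g : GL ι F) : Matrix ι ι F), T N (((g⁻¹ : ↥(Cfsg.isometryGroup F ⇑Q)) : GL ι F) : Matrix ι ι F),
    by
      rw [← T_mul N (Phi_isUnit Q hQ N hN), ← Units.val_mul, ← Subgroup.coe_mul, mul_inv_cancel]
      exact T_one N (Phi_isUnit Q hQ N hN),
    by
      rw [← T_mul N (Phi_isUnit Q hQ N hN), ← Units.val_mul, ← Subgroup.coe_mul, inv_mul_cancel]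
      exact T_one N (Phi_isUnit Q hQ N hN)⟩,
    (Cfsg.Agent.Lib.H11.IsoReindex.mem_iso_iff' _ _).mpr
      (T_isIso Q N hN (Phi_isUnit Q hQ N hN) g)⟩

variable [Fintype F]

/-- the Dickson invariant is the parity of `rank (g - 1)` -/
theorem dk_T_eq_rank (hQ : (QuadraticMap.polarBilin Q).Nondegenerate) (N : Matrix ι ι F)
    (hN : ∀ x, Q x = x ⬝ᵥ N *ᵥ x) (g : ↥(Cfsg.isometryGroup F ⇑Q)) :
    dk (T N ((g : GL ι F) : Matrix ι ι F)) =
      (((((g : GL ι F) : Matrix ι ι F) - 1).rank : ℕ) : F) := by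
  have h1 := dk_eq_cast (TG Q hQ N hN g)
  have h3 : (((TG Q hQ N hN g : ↥(Cfsg.isometryGroup F (hyp : (ι ⊕ ι → F) → F))) :
      GL (ι ⊕ ι) F) : Matrix (ι ⊕ ι) (ι ⊕ ι) F) = T N ((g : GL ι F) : Matrix ι ι F) := rfl
  rw [h3, card_sub_finrank_inf N (Phi_isUnit Q hQ N hN)] at h1
  exact h1

/-- **characteristic two**: an isometry lies in `Ω` iff `rank (g - 1)` is even -/
theorem mem_Omega_iff_even_rank (hQ : (QuadraticMap.polarBilin Q).Nondegenerate)
    (h : Nat.card F ≠ 2 ∨ Fintype.card ι ≠ 4) (g : ↥(Cfsg.isometryGroup F ⇑Q)) :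
    g ∈ Cfsg.Omega F ⇑Q ↔ Even (((g : GL ι F) : Matrix ι ι F) - 1).rank := by
  rw [Char2Omega.mem_Omega_iff_dkQ Q hQ h]
  have h1 : dkQ Q hQ g = Multiplicative.ofAdd (dk (T (Classical.choose (exists_matrix Q))
    ((g : GL ι F) : Matrix ι ι F))) := rfl
  rw [h1, dk_T_eq_rank Q hQ _ (Classical.choose_spec (exists_matrix Q)) g]
  have : (Multiplicative.ofAdd ((((((g : GL ι F) : Matrix ι ι F) - 1).rank : ℕ) : F)) = 1) ↔
      (((((g : GL ι F) : Matrix ι ι F) - 1).rank : ℕ) : F) = 0 := by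
    constructor
    · intro h1; exact h1
    · intro h1; exact h1
  rw [this, CharP.cast_eq_zero_iff F 2, even_iff_two_dvd]

end Cfsg.Agent.Lib.H13.RankParity
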