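import Mathlib
import Cfsg.Agent.Lib.H13.AutPSLCentr
import Cfsg.Prelude.Def_LieClassical

/-!
Graph-field automorphisms of `PSL_n(q)`: an involutory field automorphism is the `p^(f/2)`-power map, matrix form of `GU`
(`mem_GU_iff_mat`), the centraliser of the standard graph-field automorphism in the inner-diagonal group is the image of `GU`,
`s2704`.
-/

set_option autoImplicit false
set_option linter.unusedSectionVars false
set_option linter.unusedVariables false
set_option linter.unusedSimpArgs false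
set_option linter.deprecated false

namespace Cfsg.Agent.Lib.H13.AutPSL

section

open Matrix

theorem eq_of_orderOf_two {U : Type*} [CommGroup U] [Finite U] [IsCyclic U] {a b : U}
    (ha : orderOf a = 2) (hb : orderOf b = 2) : a = b := by
  have h1 : Subgroup.zpowers a = Subgroup.zpowers b := by
    rw [eq_range_pow (Subgroup.zpowers a), eq_range_pow (Subgroup.zpowers b), Nat.card_zpowers,
      Nat.card_zpowers, ha, hb]
  have h2 : a ∈ Subgroup.zpowers b := by
    rw [← h1]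
    exact Subgroup.mem_zpowers a
  obtain ⟨k, hk⟩ := Subgroup.mem_zpowers_iff.1 h2
  rw [← zpow_mod_orderOf, hb, Nat.cast_ofNat] at hk
  rcases Int.emod_two_eq_zero_or_one k with h | h
  · rw [h] at hk
    have : a = 1 := by simpa using hk.symm
    rw [this, orderOf_one] at ha
    omega
  · rw [h] at hk
    simpa using hk.symm

variable {n : ℕ} {F : Type*} [Field F]

theorem hermForm_eq (τ : F ≃+* F) {q : ℕ} (hτ : ∀ a, τ a = a ^ q) (u v : Fin n → F) :
    Cfsg.hermForm n F q u v = u ⬝ᵥ (fun i => τ (v i)) := by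
  simp [Cfsg.hermForm, dotProduct, hτ]

theorem mem_GU_iff_mat (τ : F ≃+* F) {q : ℕ} (hτ : ∀ a, τ a = a ^ q) (g : GL (Fin n) F) :
    g ∈ Cfsg.GU n F q ↔
      (g : Matrix (Fin n) (Fin n) F)ᵀ * (g : Matrix (Fin n) (Fin n) F).map τ = 1 := by
  have key : ∀ u v : Fin n → F,
      Cfsg.hermForm n F q ((g : Matrix (Fin n) (Fin n) F) *ᵥ u)
        ((g : Matrix (Fin n) (Fin n) F) *ᵥ v) =
      u ⬝ᵥ (((g : Matrix (Fin n) (Fin n) F)ᵀ * (g : Matrix (Fin n) (Fin n) F).map τ) *ᵥ
        (fun i => τ (v i))) := by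
    intro u v
    rw [hermForm_eq τ hτ, sig_mulVec, ← Matrix.vecMul_transpose, ← Matrix.dotProduct_mulVec,
      Matrix.mulVec_mulVec]
  constructor
  · intro h
    ext i j
    have h1 : Cfsg.hermForm n F q ((g : Matrix (Fin n) (Fin n) F) *ᵥ (Pi.single i 1))
        ((g : Matrix (Fin n) (Fin n) F) *ᵥ (Pi.single j 1)) =
        Cfsg.hermForm n F q (Pi.single i 1) (Pi.single j 1) := h _ _
    rw [key, hermForm_eq τ hτ, sigma_single, map_one, single_one_dotProduct,
      single_one_dotProduct, Matrix.mulVec_single_one, Matrix.col_apply] at h1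
    rw [h1, Matrix.one_apply, Pi.single_apply]
  · intro h u v
    show Cfsg.hermForm n F q ((g : Matrix (Fin n) (Fin n) F) *ᵥ u)
        ((g : Matrix (Fin n) (Fin n) F) *ᵥ v) = Cfsg.hermForm n F q u v
    rw [key, h, Matrix.one_mulVec, hermForm_eq τ hτ]

end

section

open Matrix

variable {n : ℕ} {F : Type*} [Field F]

/-- an involutory automorphism of a field with `p ^ f` elements is the `p ^ (f / 2)`-power map -/
theorem involution_eq_pow [Fintype F] {p f : ℕ} [Fact p.Prime] (hF : Fintype.card F = p ^ f)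
    (σ : F ≃+* F) (hσ1 : σ ≠ 1) (hσ2 : σ * σ = 1) :
    Even f ∧ ∀ a, σ a = a ^ (p ^ (f / 2)) := by
  classical
  haveI : CharP F p := charP_of_card_eq_prime_pow hF
  haveI : ExpChar F p := ExpChar.prime Fact.out
  have hp : p.Prime := Fact.out
  have hord : orderOf σ = 2 := by
    apply orderOf_eq_prime
    · rw [pow_two]; exact hσ2
    · exact hσ1
  have h2f : 2 ∣ f := by
    rw [← hord, ← card_ringAut p hF]
    exact orderOf_dvd_natCard σ
  have hf2 : f / 2 * 2 = f := Nat.div_mul_cancel h2f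
  refine ⟨even_iff_two_dvd.2 h2f, ?_⟩
  set q₀ := p ^ (f / 2) with hq₀
  have hq₀2 : q₀ * q₀ = p ^ f := by rw [hq₀, ← pow_add, ← two_mul, mul_comm, hf2]
  have hq₀gt : 2 ≤ q₀ := by
    have hfpos : 0 < f / 2 := by
      rcases Nat.eq_zero_or_pos (f / 2) with h | h
      · rw [h, zero_mul] at hf2
        rw [← hf2, pow_zero] at hF
        have := Fintype.one_lt_card (α := F)
        omega
      · exact h
    calc 2 ≤ p := hp.two_le
      _ = p ^ 1 := (pow_one p).symm
      _ ≤ p ^ (f / 2) := Nat.pow_le_pow_right hp.pos hfpos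
  let τ : F ≃+* F := iterateFrobeniusEquiv F p (f / 2)
  have hτ : ∀ a, τ a = a ^ q₀ := fun a => iterateFrobeniusEquiv_def F p (f / 2) a
  have hτ2 : τ * τ = 1 := by
    ext a
    show τ (τ a) = a
    rw [hτ, hτ, ← pow_mul, hq₀2, ← hF, FiniteField.pow_card]
  have hτ1 : τ ≠ 1 := by
    intro h1
    obtain ⟨ζ, hζ⟩ := IsCyclic.exists_generator (α := Fˣ)
    have hordζ : orderOf ζ = Fintype.card F - 1 := by
      rw [orderOf_eq_card_of_forall_mem_zpowers hζ, Nat.card_units, Nat.card_eq_fintype_card]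
    have h3 : (ζ : F) ^ q₀ = ζ := by
      rw [← hτ, h1]
      rfl
    have h4 : ζ ^ (q₀ - 1) = 1 := by
      apply Units.ext
      rw [Units.val_pow_eq_pow_val, Units.val_one]
      have h5 : (ζ : F) ^ (q₀ - 1) * ζ = 1 * ζ := by
        rw [← pow_succ, Nat.sub_add_cancel (by omega), h3, one_mul]
      exact mul_right_cancel₀ ζ.ne_zero h5
    have h6 := orderOf_dvd_of_pow_eq_one h4
    rw [hordζ, hF, ← hq₀2] at h6
    have h7 := Nat.le_of_dvd (by omega) h6
    have : q₀ * 2 ≤ q₀ * q₀ := Nat.mul_le_mul_left _ hq₀gt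
    omega
  have hordτ : orderOf τ = 2 := by
    apply orderOf_eq_prime
    · rw [pow_two]; exact hτ2
    · exact hτ1
  haveI := isCyclic_ringAut (F := F) p
  letI : CommGroup (F ≃+* F) := IsCyclic.commGroup
  haveI : Finite (F ≃+* F) := Finite.of_injective (fun e : F ≃+* F => (e : F → F))
    (fun a b hab => RingEquiv.ext (fun x => congrFun hab x))
  have heq : σ = τ := eq_of_orderOf_two hord hordτ
  intro a
  rw [heq, hτ]

end

section

open Matrix

variable {n : ℕ} {F : Type*} [Field F]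

theorem map_one_sig (τ : F ≃+* F) : (1 : Matrix (Fin n) (Fin n) F).map τ = 1 := by
  ext x y
  by_cases hxy : x = y
  · subst hxy; simp
  · simp [Matrix.one_apply_ne hxy]

theorem smul_map_sig (τ : F ≃+* F) (a : F) (M : Matrix (Fin n) (Fin n) F) :
    (a • M).map τ = τ a • M.map τ := by
  ext x y
  simp [Matrix.map_apply]

theorem gmap_tGL_of_mem_GU (σ : F ≃+* F) {q : ℕ} (hσq : ∀ a, σ a = a ^ q)
    (hσσ : ∀ a, σ (σ a) = a) {g : GL (Fin n) F} (hg : g ∈ Cfsg.GU n F q) :
    gmap σ (tGL g) = g := by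
  have h1 := (mem_GU_iff_mat σ hσq g).1 hg
  have h2 : (g : Matrix (Fin n) (Fin n) F)ᵀ *
      ((g⁻¹ : GL (Fin n) F) : Matrix (Fin n) (Fin n) F)ᵀ = 1 := by
    rw [← Matrix.transpose_mul, gl_inv_mul, Matrix.transpose_one]
  have h3 : (g : Matrix (Fin n) (Fin n) F).map σ =
      ((g⁻¹ : GL (Fin n) F) : Matrix (Fin n) (Fin n) F)ᵀ := by
    have e1 := congrArg (fun X => ((g⁻¹ : GL (Fin n) F) : Matrix (Fin n) (Fin n) F)ᵀ * X) h1
    simp only [← Matrix.mul_assoc, Matrix.mul_one] at e1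
    rw [← Matrix.transpose_mul, gl_mul_inv, Matrix.transpose_one, Matrix.one_mul] at e1
    exact e1
  apply Units.ext
  rw [gmap_coe, tGL_coe, ← h3, map_map_sig σ hσσ]

section fin

variable [Fintype F]

theorem centralizer_gfAut (hn : 2 ≤ n) (σ : F ≃+* F) (hσ1 : σ ≠ 1) (hσ2 : σ * σ = 1) {q : ℕ}
    (hσq : ∀ a, σ a = a ^ q) :
    (cGL (n := n) (F := F)).range ⊓ Subgroup.centralizer {gfAut σ} =
      ((cGL (n := n) (F := F)).comp (Cfsg.GU n F q).subtype).range := by
  have hσσ : ∀ a, σ (σ a) = a := by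
    intro a
    have := RingEquiv.congr_fun hσ2 a
    exact this
  have hord : orderOf σ = 2 := by
    apply orderOf_eq_prime
    · rw [pow_two]; exact hσ2
    · exact hσ1
  ext y
  constructor
  · rintro ⟨⟨h, rfl⟩, hy2⟩
    have hcomm : gfAut σ * cGL h = cGL h * gfAut σ := Subgroup.mem_centralizer_iff.1 hy2 _ rfl
    rw [gfAut_mul_cGL] at hcomm
    have h1 : cGL (gmap σ (tGL h)) = cGL h := mul_right_cancel hcomm
    have h2 : cGL (h⁻¹ * gmap σ (tGL h)) = 1 := by rw [map_mul, h1, map_inv, inv_mul_cancel]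
    have h3 : fAut (n := n) (1 : F ≃+* F) = cGL (h⁻¹ * gmap σ (tGL h)) := by rw [map_one, h2]
    obtain ⟨-, c, hc, h4⟩ := uniq0 hn (hasParPA_of hn) _ 1 h3
    rw [Units.val_mul, gmap_coe, tGL_coe] at h4
    set M : Matrix (Fin n) (Fin n) F := (h : Matrix (Fin n) (Fin n) F) with hMdef
    set Mi : Matrix (Fin n) (Fin n) F := ((h⁻¹ : GL (Fin n) F) : Matrix (Fin n) (Fin n) F)
      with hMidef
    have hMMi : M * Mi = 1 := gl_mul_inv h
    have hMiM : Mi * M = 1 := gl_inv_mul h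
    -- σ(Miᵀ) = c • M
    have h5 : Miᵀ.map σ = c • M := by
      have := congrArg (fun X => M * X) h4
      simp only [← Matrix.mul_assoc, hMMi, Matrix.one_mul, Matrix.mul_smul, Matrix.mul_one] at this
      exact this
    -- Miᵀ = σ c • σ(M)
    have h6 : Miᵀ = σ c • M.map σ := by
      have := congrArg (fun X : Matrix (Fin n) (Fin n) F => X.map σ) h5
      simp only [map_map_sig σ hσσ, smul_map_sig] at this
      exact this
    have hσc : σ c ≠ 0 := (map_ne_zero_iff σ σ.injective).2 hc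
    -- Mᵀ σ(M) = (σ c)⁻¹ • 1
    have h7 : Mᵀ * M.map σ = (σ c)⁻¹ • 1 := by
      have e1 : Mᵀ * Miᵀ = 1 := by rw [← Matrix.transpose_mul, hMiM, Matrix.transpose_one]
      rw [h6, Matrix.mul_smul] at e1
      rw [← e1, smul_smul, inv_mul_cancel₀ hσc, one_smul]
    set c' := (σ c)⁻¹ with hc'
    have hc'0 : c' ≠ 0 := inv_ne_zero hσc
    have hc'σ : σ c' = c' := by
      have e1 : ((Mᵀ * M.map σ).map σ)ᵀ = Mᵀ * M.map σ := by
        rw [Matrix.map_mul, Matrix.transpose_mul, map_map_sig σ hσσ, ← Matrix.transpose_map,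
          Matrix.transpose_transpose]
      rw [h7, smul_map_sig, map_one_sig, Matrix.transpose_smul, Matrix.transpose_one] at e1
      have e2 := congrFun (congrFun e1 ⟨0, by omega⟩) ⟨0, by omega⟩
      simpa using e2
    obtain ⟨e, he0, he⟩ := Nm_surjective σ (by norm_num : 0 < 2) hord c' hc'0 hc'σ
    have he' : e * σ e = c' := by
      rw [← he]
      simp [Nm, Finset.prod_range_succ]
    -- the normalised element
    let h' : GL (Fin n) F := Matrix.GeneralLinearGroup.scalar (Fin n) (Units.mk0 e⁻¹ (inv_ne_zero he0)) * h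
    have hh' : (h' : Matrix (Fin n) (Fin n) F) = e⁻¹ • M := by
      show ((Matrix.GeneralLinearGroup.scalar (Fin n) _ * h : GL (Fin n) F) :
        Matrix (Fin n) (Fin n) F) = _
      rw [Units.val_mul, Matrix.GeneralLinearGroup.coe_scalar]
      show Matrix.scalar (Fin n) e⁻¹ * _ = _
      rw [Matrix.scalar_apply, ← Matrix.smul_eq_diagonal_mul]
    have hGU : h' ∈ Cfsg.GU n F q := by
      rw [mem_GU_iff_mat σ hσq, hh', smul_map_sig, Matrix.transpose_smul, Matrix.smul_mul,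
        Matrix.mul_smul, h7, smul_smul, smul_smul, map_inv₀, ← he']
      have : (e⁻¹ * (σ e)⁻¹ * (e * σ e)) = 1 := by
        have hσe : σ e ≠ 0 := (map_ne_zero_iff σ σ.injective).2 he0
        field_simp
      rw [this, one_smul]
    refine ⟨⟨h', hGU⟩, ?_⟩
    show cGL h' = cGL h
    exact cGL_eq_of_smul (inv_ne_zero he0) hh'
  · rintro ⟨g, rfl⟩
    refine Subgroup.mem_inf.2 ⟨⟨(g : GL (Fin n) F), rfl⟩, ?_⟩
    refine Subgroup.mem_centralizer_iff.2 ?_
    intro w hw
    rw [Set.mem_singleton_iff] at hw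
    subst hw
    show gfAut σ * cGL (g : GL (Fin n) F) = cGL (g : GL (Fin n) F) * gfAut σ
    rw [gfAut_mul_cGL, gmap_tGL_of_mem_GU σ hσq hσσ g.2]

theorem ker_cGL_GU (hn : 2 ≤ n) (q : ℕ) :
    ((cGL (n := n) (F := F)).comp (Cfsg.GU n F q).subtype).ker =
      (Cfsg.Geo.scalars (Fin n) F).subgroupOf (Cfsg.GU n F q) := by
  ext g
  rw [MonoidHom.mem_ker, MonoidHom.comp_apply, ← MonoidHom.mem_ker, cGL_ker hn (hasParPA_of hn),
    Matrix.GeneralLinearGroup.center_eq_range_scalar, Subgroup.mem_subgroupOf]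
  rfl

end fin

end

section

open Matrix

variable {n : ℕ} {F : Type*} [Field F]

theorem dg_coe (i₀ : Fin n) (u : Fˣ) :
    ((dg i₀ u : GL (Fin n) F) : Matrix (Fin n) (Fin n) F) =
      Matrix.diagonal (Function.update (1 : Fin n → F) i₀ (u : F)) := rfl

theorem dg_mem_GU (σ : F ≃+* F) {q : ℕ} (hσq : ∀ a, σ a = a ^ q) (i₀ : Fin n) (u : Fˣ)
    (hu : u ^ (q + 1) = 1) : dg i₀ u ∈ Cfsg.GU n F q := by
  rw [mem_GU_iff_mat σ hσq, dg_coe, Matrix.diagonal_transpose, Matrix.diagonal_map (map_zero σ),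
    Matrix.diagonal_mul_diagonal, ← Matrix.diagonal_one]
  congr 1
  funext k
  by_cases hk : k = i₀
  · subst hk
    simp only [Function.update_self, Function.comp_apply, Pi.one_apply]
    rw [hσq, ← pow_succ']
    have := congrArg Units.val hu
    simpa using this
  · simp [Function.update_of_ne hk]

theorem range_det_GU (hn : 2 ≤ n) (σ : F ≃+* F) {q : ℕ} (hσq : ∀ a, σ a = a ^ q) :
    (Matrix.GeneralLinearGroup.det.comp (Cfsg.GU n F q).subtype).range =
      (powMonoidHom (q + 1) : Fˣ →* Fˣ).ker := by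
  ext u
  constructor
  · rintro ⟨g, rfl⟩
    rw [MonoidHom.mem_ker, powMonoidHom_apply]
    have h1 := (mem_GU_iff_mat σ hσq (g : GL (Fin n) F)).1 g.2
    have h2 := congrArg Matrix.det h1
    rw [Matrix.det_mul, Matrix.det_transpose, Matrix.det_one] at h2
    have h3 : ((g : GL (Fin n) F) : Matrix (Fin n) (Fin n) F).map σ =
        (σ : F →+* F).mapMatrix ((g : GL (Fin n) F) : Matrix (Fin n) (Fin n) F) := rfl
    rw [h3, ← RingHom.map_det] at h2
    apply Units.ext
    rw [Units.val_pow_eq_pow_val, Units.val_one, pow_succ']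
    show ((g : GL (Fin n) F) : Matrix (Fin n) (Fin n) F).det *
      ((g : GL (Fin n) F) : Matrix (Fin n) (Fin n) F).det ^ q = 1
    rw [← hσq]
    exact h2
  · intro hu
    rw [MonoidHom.mem_ker, powMonoidHom_apply] at hu
    exact ⟨⟨dg ⟨0, by omega⟩ u, dg_mem_GU σ hσq _ u hu⟩, det_dg _ u⟩

section fin

variable [Fintype F]

theorem commute_gfAut (p : ℕ) [Fact p.Prime] [CharP F p] (σ τ : F ≃+* F) (e : ZMod 2) :
    Commute (fAut (n := n) τ * tPow e) (gfAut σ) := by
  haveI := isCyclic_ringAut (F := F) p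
  letI : CommGroup (F ≃+* F) := IsCyclic.commGroup
  have h1 : Commute (fAut (n := n) τ) (fAut σ) := by
    show fAut τ * fAut σ = fAut σ * fAut τ
    rw [← map_mul, ← map_mul, mul_comm]
  have h2 : Commute (fAut (n := n) τ) tAut := (tAut_comm_fAut τ).symm
  have h3 : Commute (tPow (n := n) (F := F) e) (fAut σ) := tPow_comm_fAut e σ
  have h4 : Commute (tPow (n := n) (F := F) e) tAut := by
    by_cases he : e = 0
    · rw [he, tPow_zero]; exact Commute.one_left _
    · rw [tPow_of_ne he]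
  unfold gfAut
  exact (h1.mul_right h2).mul_left (h3.mul_right h4)

theorem conj_std_inndiag (hn : 3 ≤ n) (p : ℕ) [Fact p.Prime] [CharP F p]
    (x α : MulAut (ProjectiveSpecialLinearGroup (Fin n) F)) (σ : F ≃+* F)
    (h : α * x * α⁻¹ = gfAut σ) :
    ∃ g : GL (Fin n) F, x = cGL g * gfAut σ * (cGL g)⁻¹ := by
  obtain ⟨g, τ, e, hα⟩ := exists_form3 hn p α⁻¹
  refine ⟨g, ?_⟩
  have hx : x = α⁻¹ * gfAut σ * α := by rw [← h]; group
  have hα' : α = (cGL g * fAut τ * tPow e)⁻¹ := by rw [← hα, inv_inv]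
  have hc := commute_gfAut (n := n) p σ τ e
  have hc' : fAut (n := n) τ * tPow e * gfAut σ * (fAut τ * tPow e)⁻¹ = gfAut σ := by
    rw [hc.eq, mul_assoc, mul_inv_cancel, mul_one]
  rw [hx, hα, hα']
  calc cGL g * fAut τ * tPow e * gfAut σ * (cGL g * fAut τ * tPow e)⁻¹
      = cGL g * (fAut τ * tPow e * gfAut σ * (fAut τ * tPow e)⁻¹) * (cGL g)⁻¹ := by group
    _ = _ := by rw [hc']

end fin

end

section

open Matrix

theorem graphfield_std {n : ℕ} {F : Type*} [Field F] [Fintype F] (hn : 3 ≤ n)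
    (x : MulAut (ProjectiveSpecialLinearGroup (Fin n) F))
    (hx : Cfsg.IsGraphFieldAutClassPSL x) (hx2 : orderOf x = 2) :
    ∃ (α : MulAut (ProjectiveSpecialLinearGroup (Fin n) F)) (σ : F ≃+* F),
      σ ≠ 1 ∧ σ * σ = 1 ∧ α * x * α⁻¹ = gfAut σ := by
  obtain ⟨-, α, φ, γ, σ, hσ, hφ, hγ, hαx⟩ := hx
  have hφ' := eq_of_isStdFieldAut σ hφ
  have hγ' := eq_of_isInverseTranspose hγ
  have hx₀ : α * x * α⁻¹ = gfAut σ := by rw [hαx, hφ', hγ']; rfl
  have hgr : orderOf (gfAut (n := n) σ) = 2 := by rw [← hx₀, orderOf_conj', hx2]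
  obtain ⟨-, hσ2⟩ := gfAut_prime_order hn σ Nat.prime_two hgr
  exact ⟨α, σ, hσ, hσ2, hx₀⟩

theorem s2704 {F : Type*} [Field F] [Fintype F] {p f : ℕ} [Fact p.Prime]
    (hF : Fintype.card F = p ^ f) {n : ℕ} (hn : 3 ≤ n)
    (x : MulAut (Matrix.ProjectiveSpecialLinearGroup (Fin n) F))
    (hx : Cfsg.IsGraphFieldAutClassPSL x) (hx2 : orderOf x = 2) :
    Even f ∧
      (∀ y : MulAut (Matrix.ProjectiveSpecialLinearGroup (Fin n) F),
        Cfsg.IsGraphFieldAutClassPSL y → orderOf y = 2 →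
          Cfsg.IsConjUnder (Cfsg.inndiagPSL n F) x y) ∧
      Nonempty (↥(Cfsg.inndiagPSL n F ⊓ Subgroup.centralizer {x}) ≃*
        Cfsg.PGU n F (p ^ (f / 2))) ∧
      Cfsg.splitClassCount (Cfsg.inndiagPSL n F)
        (Cfsg.Inn (Matrix.ProjectiveSpecialLinearGroup (Fin n) F)) x =
        Nat.gcd n (p ^ (f / 2) - 1) := by
  classical
  haveI : CharP F p := charP_of_card_eq_prime_pow hF
  have hn2 : 2 ≤ n := by omega
  obtain ⟨α, σ, hσ1, hσ2, hx₀⟩ := graphfield_std hn x hx hx2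
  obtain ⟨hfe, hσq⟩ := involution_eq_pow hF σ hσ1 hσ2
  set q₀ := p ^ (f / 2) with hq₀
  have hC := centralizer_gfAut hn2 σ hσ1 hσ2 hσq
  refine ⟨hfe, ?_, ?_, ?_⟩
  · intro y hy hy2
    obtain ⟨β, σ', hσ'1, hσ'2, hy₀⟩ := graphfield_std hn y hy hy2
    obtain ⟨-, hσ'q⟩ := involution_eq_pow hF σ' hσ'1 hσ'2
    have hσσ' : σ' = σ := by
      ext a
      rw [hσq, hσ'q]
    rw [hσσ'] at hy₀
    obtain ⟨g, hg⟩ := conj_std_inndiag hn p x α σ hx₀
    obtain ⟨g', hg'⟩ := conj_std_inndiag hn p y β σ hy₀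
    rw [inndiag_eq]
    refine ⟨cGL (g' * g⁻¹), ⟨_, rfl⟩, ?_⟩
    rw [hg', hg, map_mul, map_inv]
    group
  · obtain ⟨e1⟩ := centralizer_iso hn2 p x α (gfAut σ) hx₀ (Cfsg.GU n F q₀).subtype hC
    have e2 := QuotientGroup.quotientMulEquivOfEq (ker_cGL_GU (n := n) (F := F) hn2 q₀)
    exact ⟨e1.trans e2⟩
  · rw [split_psl hn2 p x α (gfAut σ) hx₀ (Cfsg.GU n F q₀).subtype hC, cyclic_index,
      range_det_GU hn2 σ hσq, IsCyclic.card_powMonoidHom_ker, Nat.card_units,
      Nat.card_eq_fintype_card, hF]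
    have hf2 : f / 2 * 2 = f := Nat.div_mul_cancel (even_iff_two_dvd.1 hfe)
    have hq₀2 : p ^ f = q₀ * q₀ := by rw [hq₀, ← pow_add, ← two_mul, mul_comm, hf2]
    have hq₀pos : 1 ≤ q₀ := Nat.one_le_pow _ _ (Fact.out : p.Prime).pos
    have h1 : q₀ * q₀ - 1 = (q₀ - 1) * (q₀ + 1) := by
      obtain ⟨k, hk⟩ : ∃ k, q₀ = k + 1 := ⟨q₀ - 1, by omega⟩
      rw [hk]
      simp only [Nat.add_sub_cancel]
      ring_nf
      omega
    rw [hq₀2, h1, Nat.gcd_eq_right (Dvd.intro_left _ rfl), Nat.mul_div_cancel _ (by omega)]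

end

end Cfsg.Agent.Lib.H13.AutPSL
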