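import Mathlib
import Cfsg.Prelude.Def_LieClassical
import Cfsg.Agent.Lib.H13.QuadField
import Cfsg.Agent.Lib.H13.Witt

/-!
# The hermitian form `Σ v_i v_i^q` over `K = F_{q²}` as a quadratic form over `F = F_q` (helper13)
-/

set_option autoImplicit false

namespace Cfsg.Agent.Lib.H13

open Module QuadraticMap

section
variable {F K : Type*} [Field F] [Fintype F] [Field K] [Fintype K] [Algebra F K]

local notation "q" => Fintype.card F

/-- the companion of the norm form -/
noncomputable def normCompanion : LinearMap.BilinForm F K :=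
  LinearMap.mk₂ F (fun x y => Algebra.trace F K (x * FiniteField.frobeniusAlgHom F K y))
    (by intro x x' y; simp only [add_mul, map_add])
    (by intro c x y; simp only [smul_mul_assoc, map_smul])
    (by intro x y y'; simp only [map_add, mul_add])
    (by intro c x y; simp only [map_smul, mul_smul_comm])

theorem normCompanion_apply (x y : K) :
    normCompanion (F := F) x y = Algebra.trace F K (x * y ^ q) := rfl

/-- the norm `K → F` as a quadratic form over `F` -/
noncomputable def normQF (hK : Fintype.card K = q ^ 2) : QuadraticForm F K where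
  toFun x := Algebra.norm F x
  toFun_smul c x := by
    rw [Algebra.smul_def, map_mul, Algebra.norm_algebraMap, finrank_eq_two rfl hK, smul_eq_mul,
      pow_two]
  exists_companion' := ⟨normCompanion, by
    intro x y
    apply (algebraMap F K).injective
    rw [algebraMap_norm rfl hK, map_add (algebraMap F K), map_add (algebraMap F K),
      algebraMap_norm rfl hK, algebraMap_norm rfl hK,
      normCompanion_apply, algebraMap_trace rfl hK, mul_pow, pow_card_sq hK]
    have hadd : (x + y) ^ q = x ^ q + y ^ q := map_add (FiniteField.frobeniusAlgHom F K) x y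
    rw [hadd]
    ring⟩

theorem normQF_apply (hK : Fintype.card K = q ^ 2) (x : K) :
    normQF (F := F) hK x = Algebra.norm F x := rfl

theorem algebraMap_normQF (hK : Fintype.card K = q ^ 2) (x : K) :
    algebraMap F K (normQF (F := F) hK x) = x * x ^ q := by
  rw [normQF_apply, algebraMap_norm rfl hK]

theorem polar_normQF (hK : Fintype.card K = q ^ 2) (x y : K) :
    polar (normQF (F := F) hK) x y = Algebra.trace F K (x * y ^ q) := by
  apply (algebraMap F K).injective
  unfold polar
  rw [map_sub, map_sub, algebraMap_normQF, algebraMap_normQF, algebraMap_normQF,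
    algebraMap_trace rfl hK, mul_pow, pow_card_sq hK]
  have hadd : (x + y) ^ q = x ^ q + y ^ q := map_add (FiniteField.frobeniusAlgHom F K) x y
  rw [hadd]
  ring

/-- the hermitian form as a quadratic form over `F` -/
noncomputable def hermQF (hK : Fintype.card K = q ^ 2) (m : ℕ) : QuadraticForm F (Fin m → K) :=
  ∑ i : Fin m, (normQF (F := F) hK).comp (LinearMap.proj (R := F) (φ := fun _ : Fin m => K) i)

theorem hermQF_apply (hK : Fintype.card K = q ^ 2) (m : ℕ) (v : Fin m → K) :
    hermQF (F := F) hK m v = ∑ i, normQF (F := F) hK (v i) := by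
  simp [hermQF]

theorem algebraMap_hermQF (hK : Fintype.card K = q ^ 2) (m : ℕ) (v : Fin m → K) :
    algebraMap F K (hermQF (F := F) hK m v) = Cfsg.hermForm m K q v v := by
  rw [hermQF_apply, map_sum]
  unfold Cfsg.hermForm
  apply Finset.sum_congr rfl
  intro i _
  exact algebraMap_normQF hK _

theorem polar_hermQF (hK : Fintype.card K = q ^ 2) (m : ℕ) (u v : Fin m → K) :
    polar (hermQF (F := F) hK m) u v = ∑ i, Algebra.trace F K (u i * v i ^ q) := by
  unfold polar
  rw [hermQF_apply, hermQF_apply, hermQF_apply, ← Finset.sum_sub_distrib, ← Finset.sum_sub_distrib]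
  apply Finset.sum_congr rfl
  intro i _
  rw [← polar_normQF hK]
  rfl

theorem nondeg_hermQF (hK : Fintype.card K = q ^ 2) (m : ℕ) :
    (polarBilin (hermQF (F := F) hK m)).Nondegenerate := by
  classical
  rw [nondegenerate_polar_iff]
  intro v h
  have h2 : finrank F K = 2 := finrank_eq_two rfl hK
  haveI : FiniteDimensional F K := Module.finite_of_finrank_pos (by rw [h2]; norm_num)
  by_contra hv
  obtain ⟨i, hi⟩ : ∃ i, v i ≠ 0 := by
    by_contra h'
    push Not at h'
    exact hv (funext h')
  obtain ⟨z, hz⟩ := Algebra.trace_surjective F K (1 : F)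
  set t : K := (z * (v i)⁻¹) ^ q with ht
  have htq : t ^ q = z * (v i)⁻¹ := pow_card_sq hK _
  have := h (Pi.single i t)
  rw [polar_hermQF, Finset.sum_eq_single i] at this
  · rw [Pi.single_eq_same, htq, mul_left_comm, mul_inv_cancel₀ hi, mul_one, hz] at this
    exact one_ne_zero this
  · intro j _ hj
    rw [Pi.single_eq_of_ne hj, zero_pow (Fintype.card_pos.ne'), mul_zero, map_zero]
  · intro h'; exact absurd (Finset.mem_univ i) h'

/-- the representation of `GU` on the restricted space -/
noncomputable def rhoGU (m : ℕ) : ↥(Cfsg.GU m K q) →* Module.End F (Fin m → K) where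
  toFun g := (Matrix.toLin' ((g : GL (Fin m) K) : Matrix (Fin m) (Fin m) K)).restrictScalars F
  map_one' := by
    apply LinearMap.ext
    intro v
    simp
  map_mul' g h := by
    apply LinearMap.ext
    intro v
    simp [Matrix.toLin'_mul]

theorem rhoGU_apply (m : ℕ) (g : ↥(Cfsg.GU m K q)) (v : Fin m → K) :
    rhoGU (F := F) m g v = ((g : GL (Fin m) K) : Matrix (Fin m) (Fin m) K).mulVec v := rfl

theorem rhoGU_injective (m : ℕ) : Function.Injective (rhoGU (F := F) (K := K) m) := by
  intro g h hgh
  apply Subtype.ext
  apply Units.ext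
  apply Matrix.toLin'.injective
  apply LinearMap.ext
  intro v
  have := congrArg (fun f : Module.End F (Fin m → K) => f v) hgh
  simpa [rhoGU_apply] using this

theorem hermQF_rhoGU (hK : Fintype.card K = q ^ 2) (m : ℕ) (g : ↥(Cfsg.GU m K q))
    (v : Fin m → K) : hermQF (F := F) hK m (rhoGU (F := F) m g v) = hermQF (F := F) hK m v := by
  apply (algebraMap F K).injective
  rw [algebraMap_hermQF, algebraMap_hermQF, rhoGU_apply]
  exact g.2 v v

end

end Cfsg.Agent.Lib.H13
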