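import Mathlib
import Cfsg.Prelude.Def_Classical
import Cfsg.Agent.Lib.H13.Witt
import Cfsg.Agent.Lib.H13.StdForm

/-!
# Plus-type bases from totally singular subspaces; embeddings into isometry groups (helper13)
-/

set_option autoImplicit false

namespace Cfsg.Agent.Lib.H13

open Module QuadraticMap

section Plus
variable {F : Type*} [Field F]

theorem plus_aux (n : ℕ) : ∀ {V : Type*} [AddCommGroup V] [Module F V] [FiniteDimensional F V]
    (Q : QuadraticForm F V), (polarBilin Q).Nondegenerate → ∀ (U : Submodule F V),
    n ≤ finrank F U → finrank F V = 2 * n → (∀ u ∈ U, Q u = 0) →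
    ∃ (ι : Type) (_ : Fintype ι) (_ : DecidableEq ι) (b : Basis ((ι ⊕ ι) ⊕ Empty) F V),
      IsStd Q b := by
  induction n with
  | zero =>
    intro V _ _ _ Q hQ U hU hV hs
    haveI : Subsingleton V := by
      rw [Nat.mul_zero, Module.finrank_zero_iff] at hV
      exact hV
    refine ⟨Empty, inferInstance, inferInstance, Basis.empty V, ?_⟩
    constructor <;> intro i <;> exact i.elim
  | succ n ih =>
    intro V _ _ _ Q hQ U hU hV hs
    have hpos : 0 < finrank F U := by omega
    obtain ⟨u, hu⟩ := Module.finrank_pos_iff_exists_ne_zero.mp hpos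
    have hu0 : (u : V) ≠ 0 := fun h => hu (Subtype.ext h)
    have hQu : Q (u : V) = 0 := hs u u.2
    obtain ⟨w, hQw, huw⟩ := exists_hyperbolic_pair Q hQ (u : V) hu0 hQu
    set W := pairOrth Q (u : V) w with hW
    have hfr : finrank F V = finrank F W + 2 := finrank_pairOrth Q (u : V) w hQu hQw huw
    have hUorth : ∀ x ∈ U, polar Q (u : V) x = 0 := by
      intro x hx
      unfold polar
      rw [hs _ (U.add_mem u.2 hx), hQu, hs x hx]
      simp
    let U' : Submodule F W := Submodule.comap W.subtype U
    -- injective map U → F × U'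
    let f : U →ₗ[F] F × U' :=
      { toFun := fun x => (polar Q w (x : V), ⟨⟨(x : V) - polar Q w (x : V) • (u : V), by
          rw [hW, mem_pairOrth]
          constructor
          · rw [polar_sub_right, polar_smul_right, hUorth _ x.2, polar_self, hQu]
            simp
          · rw [polar_sub_right, polar_smul_right, polar_comm Q w (u : V), huw]
            simp⟩, by
          show (x : V) - polar Q w (x : V) • (u : V) ∈ U
          exact U.sub_mem x.2 (U.smul_mem _ u.2)⟩)
        map_add' := by
          intro x y
          refine Prod.ext ?_ (Subtype.ext (Subtype.ext ?_))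
          · exact polar_add_right Q w _ _
          · show ((x + y : U) : V) - polar Q w ((x + y : U) : V) • (u : V) =
              ((x : V) - polar Q w (x : V) • (u : V)) + ((y : V) - polar Q w (y : V) • (u : V))
            rw [Submodule.coe_add, polar_add_right, add_smul]
            abel
        map_smul' := by
          intro c x
          refine Prod.ext ?_ (Subtype.ext (Subtype.ext ?_))
          · exact polar_smul_right Q c w _
          · show ((c • x : U) : V) - polar Q w ((c • x : U) : V) • (u : V) =
              c • ((x : V) - polar Q w (x : V) • (u : V))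
            rw [Submodule.coe_smul, polar_smul_right, smul_eq_mul, smul_sub, mul_smul] }
    have hf : Function.Injective f := by
      rw [injective_iff_map_eq_zero]
      intro x hx
      have h1 : polar Q w (x : V) = 0 := congrArg Prod.fst hx
      have h2 : (x : V) - polar Q w (x : V) • (u : V) = 0 :=
        congrArg (fun p : F × U' => ((p.2 : W) : V)) hx
      rw [h1, zero_smul, sub_zero] at h2
      exact Subtype.ext h2
    have hle := LinearMap.finrank_le_finrank_of_injective hf
    rw [Module.finrank_prod, Module.finrank_self] at hle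
    obtain ⟨ι, hι, hdec, b', hb'⟩ := ih (Q.comp W.subtype)
      (nondegenerate_pairOrth Q (u : V) w hQu hQw huw hQ) U' (by omega) (by omega)
      (by
        intro x hx
        exact hs _ hx)
    exact ⟨Unit ⊕ ι, inferInstance, inferInstance, consBasis Q (u : V) w hQu hQw huw b',
      IsStd.cons Q (u : V) w hQu hQw huw b' hb'⟩

/-- a non-degenerate quadratic space of dimension `2m` containing a totally singular subspace of
dimension `m` has a standard hyperbolic basis -/
theorem exists_plus_basis {V : Type*} [AddCommGroup V] [Module F V] [FiniteDimensional F V]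
    (Q : QuadraticForm F V) (hQ : (polarBilin Q).Nondegenerate) {m : ℕ}
    (hV : finrank F V = 2 * m) (U : Submodule F V) (hU : m ≤ finrank F U)
    (hs : ∀ u ∈ U, Q u = 0) :
    ∃ b : Basis (Fin m ⊕ Fin m) F V, ∀ v, Q v = Cfsg.quadFormPlus m F (b.equivFun v) := by
  classical
  obtain ⟨ι, hι, hdec, b, hb⟩ := plus_aux m Q hQ U hU hV hs
  have hcard : Fintype.card ι = m := by
    have := Module.finrank_eq_card_basis b
    rw [Fintype.card_sum, Fintype.card_sum, hV] at this
    simp at this
    omega
  let e : ι ≃ Fin m := Fintype.equivFinOfCardEq hcard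
  let b1 : Basis (Fin m ⊕ Fin m) F V :=
    b.reindex ((Equiv.sumEmpty (ι ⊕ ι) Empty).trans (e.sumCongr e))
  have hb1l : ∀ i, b1 (Sum.inl i) = b (Sum.inl (Sum.inl (e.symm i))) := by
    intro i
    simp [b1, Basis.reindex_apply]
  have hb1r : ∀ i, b1 (Sum.inr i) = b (Sum.inl (Sum.inr (e.symm i))) := by
    intro i
    simp [b1, Basis.reindex_apply]
  refine ⟨b1, eq_quadFormPlus_of_std Q b1 ?_ ?_ ?_⟩
  · intro i
    rw [hb1l, hb1r]
    exact ⟨hb.sing_l _, hb.sing_r _⟩
  · intro i j
    rw [hb1l, hb1r, hb.pair]
    simp
  · intro i j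
    rw [hb1l, hb1l, hb1r, hb1r]
    exact ⟨hb.iso_l _ _, hb.iso_r _ _⟩

end Plus

section Embed
variable {F : Type*} [Field F]

/-- a faithful representation preserving a function `Qf` which in some basis is `Q₀` embeds into
the isometry group of `Q₀` -/
theorem exists_embedding_isometryGroup {G : Type*} [Group G] {V : Type*} [AddCommGroup V]
    [Module F V] {ι : Type} [Fintype ι] [DecidableEq ι] (b : Basis ι F V) (Q₀ : (ι → F) → F)
    (Qf : V → F) (hb : ∀ v, Qf v = Q₀ (b.equivFun v))
    (ρ : G →* Module.End F V) (hρ : Function.Injective ρ)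
    (hpres : ∀ g v, Qf (ρ g v) = Qf v) :
    ∃ φ : G →* ↥(Cfsg.isometryGroup F Q₀), Function.Injective φ := by
  classical
  let M : G →* Matrix ι ι F :=
    ((LinearMap.toMatrixAlgEquiv b).toAlgHom : Module.End F V →* _).comp ρ
  have hM : ∀ g, M g = LinearMap.toMatrix b b (ρ g) := fun g => rfl
  let MU : G →* Matrix.GeneralLinearGroup ι F := M.toHomUnits
  have hMU : ∀ g, ((MU g : Matrix.GeneralLinearGroup ι F) : Matrix ι ι F) = M g := fun g => rfl
  have hmem : ∀ g, MU g ∈ Cfsg.isometryGroup F Q₀ := by
    intro g x y
    show Q₀ (((MU g : Matrix.GeneralLinearGroup ι F) : Matrix ι ι F).mulVec x) = Q₀ x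
    obtain ⟨v, rfl⟩ := b.equivFun.surjective x
    have h1 : (M g).mulVec (b.equivFun v) = b.equivFun (ρ g v) := by
      rw [hM]
      exact LinearMap.toMatrix_mulVec_repr b b (ρ g) v
    rw [hMU, h1, ← hb, ← hb, hpres]
  refine ⟨MU.codRestrict (Cfsg.isometryGroup F Q₀) hmem, ?_⟩
  intro g g' h
  apply hρ
  have h1 : MU g = MU g' := congrArg Subtype.val h
  have h2 : M g = M g' := by rw [← hMU, ← hMU, h1]
  rw [hM, hM] at h2
  exact (LinearMap.toMatrix b b).injective h2

end Embed

end Cfsg.Agent.Lib.H13
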