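import Mathlib
import Cfsg.Agent.Lib.H13.OrthEmbed
import Cfsg.Agent.Lib.H13.HermQuad

/-!
# The hermitian quadratic form in even dimension is of plus type (helper13)
-/

set_option autoImplicit false

namespace Cfsg.Agent.Lib.H13

open Module QuadraticMap

section
variable {F K : Type*} [Field F] [Fintype F] [Field K] [Fintype K] [Algebra F K]

local notation "q" => Fintype.card F

/-- the parametrisation of a maximal totally singular subspace -/
def hermSingMap (r : ℕ) (ζ : K) : (Fin r → K) →ₗ[F] (Fin (r + r) → K) where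
  toFun x := fun idx => Sum.elim x (ζ • x) (finSumFinEquiv.symm idx)
  map_add' x y := by
    funext idx
    rcases h : finSumFinEquiv.symm idx with i | i <;> simp [h, mul_add]
  map_smul' c x := by
    funext idx
    rcases h : finSumFinEquiv.symm idx with i | i <;> simp [h, mul_smul_comm]

theorem hermSingMap_castAdd (r : ℕ) (ζ : K) (x : Fin r → K) (i : Fin r) :
    hermSingMap (F := F) r ζ x (Fin.castAdd r i) = x i := by
  show Sum.elim x (ζ • x) (finSumFinEquiv.symm (Fin.castAdd r i)) = _
  rw [finSumFinEquiv_symm_apply_castAdd]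
  rfl

theorem hermSingMap_natAdd (r : ℕ) (ζ : K) (x : Fin r → K) (i : Fin r) :
    hermSingMap (F := F) r ζ x (Fin.natAdd r i) = ζ * x i := by
  show Sum.elim x (ζ • x) (finSumFinEquiv.symm (Fin.natAdd r i)) = _
  rw [finSumFinEquiv_symm_apply_natAdd]
  rfl

theorem hermSingMap_injective (r : ℕ) (ζ : K) :
    Function.Injective (hermSingMap (F := F) r ζ) := by
  rw [injective_iff_map_eq_zero]
  intro x hx
  funext i
  have := congrFun hx (Fin.castAdd r i)
  rw [hermSingMap_castAdd] at this
  exact this

theorem hermSingMap_sing (hK : Fintype.card K = q ^ 2) (r : ℕ) (ζ : K)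
    (hζ : Algebra.norm F ζ = -1) (x : Fin r → K) :
    hermQF (F := F) hK (r + r) (hermSingMap (F := F) r ζ x) = 0 := by
  rw [hermQF_apply, Fin.sum_univ_add, ← Finset.sum_add_distrib]
  apply Finset.sum_eq_zero
  intro i _
  rw [hermSingMap_castAdd, hermSingMap_natAdd, normQF_apply, normQF_apply, map_mul, hζ]
  ring

/-- in even dimension the hermitian quadratic form has a standard hyperbolic basis -/
theorem exists_plus_basis_hermQF (hK : Fintype.card K = q ^ 2) (m : ℕ) (hm : Even m) :
    ∃ b : Basis (Fin m ⊕ Fin m) F (Fin m → K),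
      ∀ v, hermQF (F := F) hK m v = Cfsg.quadFormPlus m F (b.equivFun v) := by
  classical
  obtain ⟨r, rfl⟩ := hm
  have h2 : finrank F K = 2 := finrank_eq_two rfl hK
  haveI : FiniteDimensional F K := Module.finite_of_finrank_pos (by rw [h2]; norm_num)
  have hV : finrank F (Fin (r + r) → K) = 2 * (r + r) := by
    rw [Module.finrank_pi_fintype]
    simp [h2]
    ring
  obtain ⟨ζ, hζ⟩ := FiniteField.norm_surjective F K (-1 : F)
  let U : Submodule F (Fin (r + r) → K) := LinearMap.range (hermSingMap (F := F) r ζ)
  have hU : r + r ≤ finrank F U := by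
    rw [LinearMap.finrank_range_of_inj (hermSingMap_injective r ζ), Module.finrank_pi_fintype]
    simp [h2]
    omega
  have hs : ∀ u ∈ U, hermQF (F := F) hK (r + r) u = 0 := by
    rintro u ⟨x, rfl⟩
    exact hermSingMap_sing hK r ζ hζ x
  exact exists_plus_basis (hermQF (F := F) hK (r + r)) (nondeg_hermQF hK (r + r)) hV U hU hs

end

end Cfsg.Agent.Lib.H13
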