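import Mathlib

/-!
S4937 piece (PEXP): a uniform exponent `e` computing `p'`-parts in a finite group.
Exact signature of `tools/blueprints/S4937_sigs.lean`.
-/

set_option autoImplicit false

namespace Cfsg.Agent.Lib.H13.AD

/-- (PEXP) a uniform exponent computing `p'`-parts -/
theorem exists_pexp (p : ℕ) (hp : p.Prime) (G : Type*) [Group G] [Finite G] :
    ∃ e : ℕ, (∀ g : G, ¬ p ∣ orderOf (g ^ e)) ∧ (∀ g : G, ¬ p ∣ orderOf g → g ^ e = g) ∧
      (∀ g : G, (∃ k : ℕ, orderOf g = p ^ k) → g ^ e = 1) ∧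
      (∀ g : G, ∃ k : ℕ, orderOf (g * (g ^ e)⁻¹) = p ^ k) := by
  have hn0 : Nat.card G ≠ 0 := Nat.card_pos.ne'
  obtain ⟨a, m, hpm, hn⟩ := Nat.exists_eq_pow_mul_and_not_dvd hn0 p hp.ne_one
  have hcop : (p ^ a).Coprime m := (Nat.Prime.coprime_iff_not_dvd hp).mpr hpm |>.pow_left a
  obtain ⟨e, he0, he1⟩ := Nat.chineseRemainder hcop 0 1
  have hpa : p ^ a ∣ e := (Nat.modEq_zero_iff_dvd).mp he0
  have hord : ∀ g : G, orderOf g ∣ p ^ a * m := fun g => hn ▸ orderOf_dvd_natCard g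
  refine ⟨e, ?_, ?_, ?_, ?_⟩
  · intro g hdiv
    have h1 : (g ^ e) ^ m = 1 := by
      rw [← pow_mul]
      apply orderOf_dvd_iff_pow_eq_one.mp
      exact (hord g).trans (Nat.mul_dvd_mul_right hpa m)
    have h2 : orderOf (g ^ e) ∣ m := orderOf_dvd_of_pow_eq_one h1
    exact hpm (hdiv.trans h2)
  · intro g hg
    have hcg : (orderOf g).Coprime (p ^ a) :=
      ((Nat.Prime.coprime_iff_not_dvd hp).mpr hg).symm.pow_right a
    have h1 : orderOf g ∣ m := hcg.dvd_of_dvd_mul_left (hord g)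
    have h2 : e ≡ 1 [MOD orderOf g] := he1.of_dvd h1
    calc g ^ e = g ^ 1 := (pow_eq_pow_iff_modEq).mpr h2
      _ = g := pow_one g
  · rintro g ⟨k, hk⟩
    have h1 : p ^ k ∣ p ^ a * m := hk ▸ hord g
    have hck : (p ^ k).Coprime m := ((Nat.Prime.coprime_iff_not_dvd hp).mpr hpm).pow_left k
    have h2 : p ^ k ∣ p ^ a := hck.dvd_of_dvd_mul_right h1
    apply orderOf_dvd_iff_pow_eq_one.mp
    rw [hk]
    exact h2.trans hpa
  · intro g
    have hcomm : Commute g (g ^ e)⁻¹ := (Commute.refl g).pow_right e |>.inv_right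
    have h1 : (g * (g ^ e)⁻¹) ^ (p ^ a) = 1 := by
      rw [hcomm.mul_pow, inv_pow, ← pow_mul, mul_inv_eq_one]
      apply (pow_eq_pow_iff_modEq).mpr
      -- p^a ≡ e * p^a mod orderOf g, since orderOf g ∣ p^a * m and m ∣ e - 1
      have h2 : 1 * p ^ a ≡ e * p ^ a [MOD m * p ^ a] :=
        (Nat.ModEq.mul_right' (p ^ a) he1.symm)
      rw [one_mul] at h2
      exact h2.of_dvd (by rw [mul_comm m]; exact hord g)
    have h3 : orderOf (g * (g ^ e)⁻¹) ∣ p ^ a := orderOf_dvd_of_pow_eq_one h1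
    obtain ⟨k, -, hk⟩ := (Nat.dvd_prime_pow hp).mp h3
    exact ⟨k, hk⟩

end Cfsg.Agent.Lib.H13.AD
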