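import Mathlib

/-!
# Rank-one square-zero endomorphisms (transvections minus one) (helper13)
-/

set_option autoImplicit false

namespace Cfsg.Agent.Lib.H13

open Module

section
variable {F V : Type*} [Field F] [AddCommGroup V] [Module F V] [FiniteDimensional F V]

/-- a functional taking the value one at a given nonzero vector -/
theorem exists_dual_eq_one (v : V) (hv : v ≠ 0) : ∃ ψ : Dual F V, ψ v = 1 := by
  obtain ⟨ψ0, hψ0, _⟩ := Submodule.exists_dual_map_eq_bot_of_notMem (p := (⊥ : Submodule F V))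
    (x := v) (by simpa using hv) inferInstance
  exact ⟨(ψ0 v)⁻¹ • ψ0, by simp [hψ0]⟩

/-- a rank one endomorphism of square zero is `x ↦ φ x • v` with `φ v = 0`. -/
theorem rankOne_decomp (N : V →ₗ[F] V) (hr : finrank F (LinearMap.range N) = 1)
    (hsq : N ∘ₗ N = 0) :
    ∃ (v : V) (φ : Dual F V), v ≠ 0 ∧ φ ≠ 0 ∧ φ v = 0 ∧ ∀ x, N x = φ x • v := by
  obtain ⟨⟨v, hvR⟩, hv0, hspan⟩ := (finrank_eq_one_iff' (K := F) (V := LinearMap.range N)).mp hr
  have hv : v ≠ 0 := fun h => hv0 (Subtype.ext h)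
  have hc : ∀ x, ∃ c : F, c • v = N x := by
    intro x
    obtain ⟨c, hc⟩ := hspan ⟨N x, LinearMap.mem_range_self N x⟩
    exact ⟨c, congrArg Subtype.val hc⟩
  obtain ⟨ψ, hψ⟩ := exists_dual_eq_one (F := F) v hv
  obtain ⟨x₀, hx₀⟩ := hvR
  have hNv : N v = 0 := by
    rw [← hx₀]
    exact congrArg (fun f : V →ₗ[F] V => f x₀) hsq
  refine ⟨v, ψ ∘ₗ N, hv, ?_, ?_, ?_⟩
  · intro h0
    have := congrArg (fun f : Dual F V => f x₀) h0
    simp only [LinearMap.comp_apply, hx₀, hψ, LinearMap.zero_apply] at this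
    exact one_ne_zero this
  · rw [LinearMap.comp_apply, hNv, map_zero]
  · intro x
    obtain ⟨c, hc⟩ := hc x
    rw [LinearMap.comp_apply, ← hc, map_smul, hψ, smul_eq_mul, mul_one]

omit [FiniteDimensional F V] in
/-- between spaces of equal dimension there is an isomorphism carrying a given nonzero vector to
another. -/
theorem exists_equiv_map_vec {U U' : Type*} [AddCommGroup U] [Module F U] [FiniteDimensional F U]
    [AddCommGroup U'] [Module F U'] [FiniteDimensional F U'] (h : finrank F U = finrank F U')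
    (u : U) (u' : U') (hu : u ≠ 0) (hu' : u' ≠ 0) : ∃ e : U ≃ₗ[F] U', e u = u' := by
  obtain ⟨C, hC⟩ := Submodule.exists_isCompl (F ∙ u)
  obtain ⟨C', hC'⟩ := Submodule.exists_isCompl (F ∙ u')
  have hfC : finrank F C = finrank F C' := by
    have e1 := Submodule.finrank_add_eq_of_isCompl hC
    have e2 := Submodule.finrank_add_eq_of_isCompl hC'
    rw [finrank_span_singleton hu] at e1
    rw [finrank_span_singleton hu'] at e2
    omega
  let e₁ : (F ∙ u) ≃ₗ[F] (F ∙ u') :=
    (LinearEquiv.toSpanNonzeroSingleton F U u hu).symm ≪≫ₗ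
      LinearEquiv.toSpanNonzeroSingleton F U' u' hu'
  let e₂ : C ≃ₗ[F] C' := LinearEquiv.ofFinrankEq _ _ hfC
  let P := Submodule.prodEquivOfIsCompl (F ∙ u) C hC
  let P' := Submodule.prodEquivOfIsCompl (F ∙ u') C' hC'
  refine ⟨P.symm ≪≫ₗ (e₁.prodCongr e₂) ≪≫ₗ P', ?_⟩
  have hu_mem : u ∈ F ∙ u := Submodule.mem_span_singleton_self u
  have h1 : P.symm u = ((⟨u, hu_mem⟩ : F ∙ u), (0 : C)) :=
    Submodule.prodEquivOfIsCompl_symm_apply_left (F ∙ u) C hC ⟨u, hu_mem⟩
  have h2 : (LinearEquiv.toSpanNonzeroSingleton F U u hu).symm ⟨u, hu_mem⟩ = 1 := by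
    rw [LinearEquiv.symm_apply_eq]
    apply Subtype.ext
    simp
  show P' ((e₁.prodCongr e₂) (P.symm u)) = u'
  rw [h1]
  simp only [LinearEquiv.prodCongr_apply, map_zero, e₁, LinearEquiv.trans_apply, h2]
  simp [P', Submodule.coe_prodEquivOfIsCompl']

/-- GL is transitive on pairs `(v, φ)` with `φ v = 0`, both nonzero. -/
theorem exists_equiv_pair (v v' : V) (φ φ' : Dual F V) (hv : v ≠ 0) (hv' : v' ≠ 0)
    (hφ : φ ≠ 0) (hφ' : φ' ≠ 0) (hφv : φ v = 0) (hφv' : φ' v' = 0) :
    ∃ g : V ≃ₗ[F] V, g v = v' ∧ ∀ x, φ' (g x) = φ x := by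
  -- vectors with φ w = 1
  have hex : ∀ ψ : Dual F V, ψ ≠ 0 → ∃ w, ψ w = 1 := by
    intro ψ hψ
    obtain ⟨x, hx⟩ : ∃ x, ψ x ≠ 0 := by
      by_contra h
      push Not at h
      exact hψ (LinearMap.ext h)
    exact ⟨(ψ x)⁻¹ • x, by rw [map_smul, smul_eq_mul, inv_mul_cancel₀ hx]⟩
  obtain ⟨w, hw⟩ := hex φ hφ
  obtain ⟨w', hw'⟩ := hex φ' hφ'
  set K := LinearMap.ker φ with hK
  set K' := LinearMap.ker φ' with hK'
  have hsurj : ∀ ψ : Dual F V, ψ ≠ 0 → finrank F (LinearMap.ker ψ) + 1 = finrank F V := by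
    intro ψ hψ
    have h1 := LinearMap.finrank_range_add_finrank_ker ψ
    have h2 : LinearMap.range ψ = ⊤ := by
      rw [LinearMap.range_eq_top]
      intro c
      obtain ⟨w, hw⟩ := hex ψ hψ
      exact ⟨c • w, by rw [map_smul, hw, smul_eq_mul, mul_one]⟩
    rw [h2, finrank_top, Module.finrank_self] at h1
    omega
  have hfin : finrank F K = finrank F K' := by
    have e1 : finrank F K + 1 = finrank F V := hsurj φ hφ
    have e2 : finrank F K' + 1 = finrank F V := hsurj φ' hφ'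
    omega
  have hvK : v ∈ K := hφv
  have hvK' : v' ∈ K' := hφv'
  obtain ⟨e, he⟩ := exists_equiv_map_vec hfin (⟨v, hvK⟩ : K) (⟨v', hvK'⟩ : K')
    (fun h => hv (congrArg Subtype.val h)) (fun h => hv' (congrArg Subtype.val h))
  -- projections
  let pK : V →ₗ[F] K := LinearMap.codRestrict K (LinearMap.id - φ.smulRight w) (by
    intro x
    rw [hK, LinearMap.mem_ker]
    simp [hw])
  let pK' : V →ₗ[F] K' := LinearMap.codRestrict K' (LinearMap.id - φ'.smulRight w') (by
    intro x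
    rw [hK', LinearMap.mem_ker]
    simp [hw'])
  have hpK : ∀ x, (pK x : V) = x - φ x • w := fun x => rfl
  have hpK' : ∀ x, (pK' x : V) = x - φ' x • w' := fun x => rfl
  let g : V →ₗ[F] V := K'.subtype ∘ₗ (e : K →ₗ[F] K') ∘ₗ pK + φ.smulRight w'
  let gi : V →ₗ[F] V := K.subtype ∘ₗ (e.symm : K' →ₗ[F] K) ∘ₗ pK' + φ'.smulRight w
  have hg : ∀ x, g x = (e (pK x) : V) + φ x • w' := fun x => rfl
  have hgi : ∀ x, gi x = (e.symm (pK' x) : V) + φ' x • w := fun x => rfl
  have hφ'g : ∀ x, φ' (g x) = φ x := by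
    intro x
    rw [hg, map_add, map_smul, hw']
    have : φ' ((e (pK x) : K') : V) = 0 := (e (pK x)).2
    rw [this]; simp
  have hφgi : ∀ x, φ (gi x) = φ' x := by
    intro x
    rw [hgi, map_add, map_smul, hw]
    have : φ ((e.symm (pK' x) : K) : V) = 0 := (e.symm (pK' x)).2
    rw [this]; simp
  have h1 : ∀ x, gi (g x) = x := by
    intro x
    have hp : pK' (g x) = e (pK x) := by
      apply Subtype.ext
      rw [hpK', hφ'g, hg]
      abel
    rw [hgi, hp, hφ'g, LinearEquiv.symm_apply_apply, hpK]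
    abel
  have h2 : ∀ x, g (gi x) = x := by
    intro x
    have hp : pK (gi x) = e.symm (pK' x) := by
      apply Subtype.ext
      rw [hpK, hφgi, hgi]
      abel
    rw [hg, hp, hφgi, LinearEquiv.apply_symm_apply, hpK']
    abel
  refine ⟨LinearEquiv.ofLinearMap g gi (LinearMap.ext h2) (LinearMap.ext h1), ?_, hφ'g⟩
  show g v = v'
  have hpv : pK v = ⟨v, hvK⟩ := by
    apply Subtype.ext
    rw [hpK, hφv, zero_smul, sub_zero]
  rw [hg, hpv, he, hφv, zero_smul, add_zero]

/-- an automorphism of prescribed determinant fixing `v` and `φ`, when `dim V ≥ 3`. -/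
theorem exists_equiv_det_fix (v : V) (φ : Dual F V) (hv : v ≠ 0) (hφ : φ ≠ 0) (hφv : φ v = 0)
    (hdim : 3 ≤ finrank F V) (d : F) (hd : d ≠ 0) :
    ∃ c : V ≃ₗ[F] V, LinearMap.det (c : V →ₗ[F] V) = d ∧ c v = v ∧ ∀ x, φ (c x) = φ x := by
  -- u in ker φ outside span v
  have hker : finrank F (LinearMap.ker φ) + 1 = finrank F V := by
    have h1 := LinearMap.finrank_range_add_finrank_ker φ
    have h2 : LinearMap.range φ = ⊤ := by
      rw [LinearMap.range_eq_top]
      intro c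
      obtain ⟨x, hx⟩ : ∃ x, φ x ≠ 0 := by
        by_contra h
        push Not at h
        exact hφ (LinearMap.ext h)
      exact ⟨(c * (φ x)⁻¹) • x, by rw [map_smul, smul_eq_mul, mul_assoc, inv_mul_cancel₀ hx, mul_one]⟩
    rw [h2, finrank_top, Module.finrank_self] at h1
    omega
  obtain ⟨u, huK, hu⟩ : ∃ u ∈ LinearMap.ker φ, u ∉ F ∙ v := by
    by_contra h
    push Not at h
    have hle : LinearMap.ker φ ≤ F ∙ v := fun u hu => h u hu
    have := Submodule.finrank_mono hle
    rw [finrank_span_singleton hv] at this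
    omega
  have hφu : φ u = 0 := huK
  obtain ⟨ψ0, hψ0, hψ0v⟩ := Submodule.exists_dual_map_eq_bot_of_notMem hu inferInstance
  have hψ0v' : ψ0 v = 0 := by
    have : ψ0 v ∈ (F ∙ v).map ψ0 := Submodule.mem_map_of_mem (Submodule.mem_span_singleton_self v)
    rw [hψ0v] at this
    simpa using this
  set f : Dual F V := ((d - 1) * (ψ0 u)⁻¹) • ψ0 with hf
  have hfu : f u = d - 1 := by
    rw [hf, LinearMap.smul_apply, smul_eq_mul, mul_assoc, inv_mul_cancel₀ hψ0, mul_one]
  have hfv : f v = 0 := by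
    rw [hf, LinearMap.smul_apply, hψ0v', smul_zero]
  have hunit : IsUnit (1 + f u) := by
    rw [hfu]
    have : (1 : F) + (d - 1) = d := by ring
    rw [this]
    exact IsUnit.mk0 d hd
  refine ⟨LinearEquiv.dilatransvection hunit, ?_, ?_, ?_⟩
  · rw [LinearEquiv.dilatransvection.coe_toLinearMap, LinearMap.transvection.det, hfu]
    ring
  · rw [LinearEquiv.dilatransvection.apply, hfv, zero_smul, add_zero]
  · intro x
    rw [LinearEquiv.dilatransvection.apply, map_add, map_smul, hφu, smul_zero, add_zero]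

end

end Cfsg.Agent.Lib.H13
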