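/-
EO (even-dimensional orthogonal rows; generic in fact): irreducibility and Schur's lemma for `Ω(Q)`,
`Q` any non-degenerate quadratic form on `Fin n → F`, `7 ≤ n`, ALL characteristics, from the Siegel elements of helper11.
-/
import Mathlib
import Cfsg.Agent.Lib.H11.OmTs5

set_option autoImplicit false
set_option linter.unusedSimpArgs false
set_option linter.unusedSectionVars false
set_option linter.unusedVariables false

namespace Cfsg.Agent.Lib.H13.EOP2

open Matrix Module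
open Cfsg.Agent.Lib.H28 Cfsg.Agent.Lib.H11.SubspMax
open Cfsg.Agent.Lib.H11.CD Cfsg.Agent.Lib.H11.SiegelGen Cfsg.Agent.Lib.H11.OrMax
open Cfsg.Agent.Lib.H11.OmTs

variable {F : Type*} [Field F] [Fintype F] {n : ℕ} (Q : QuadraticForm F (Fin n → F))

set_option quotPrecheck false in
local notation "P" => QuadraticMap.polar (⇑Q)

/-- separation: if `w` is not a multiple of `u ≠ 0`, some `y ⊥ u` has `P w y ≠ 0` -/
theorem exists_perp_sep (hQ : (QuadraticMap.polarBilin Q).Nondegenerate) (u w : Fin n → F)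
    (hu : u ≠ 0) (h : ∀ c : F, w ≠ c • u) : ∃ y, P u y = 0 ∧ P w y ≠ 0 := by
  by_contra hcon
  push Not at hcon
  obtain ⟨z, hz⟩ := exists_P_ne Q hQ u hu
  have key : ∀ y, P (w - (P w z / P u z) • u) y = 0 := by
    intro y
    have h1 : P u (y - (P u y / P u z) • z) = 0 := by
      rw [QuadraticMap.polar_sub_right, QuadraticMap.polar_smul_right, smul_eq_mul,
        div_mul_cancel₀ _ hz, sub_self]
    have h2 := hcon _ h1
    rw [QuadraticMap.polar_sub_right, QuadraticMap.polar_smul_right, smul_eq_mul] at h2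
    rw [QuadraticMap.polar_sub_left, QuadraticMap.polar_smul_left, smul_eq_mul]
    field_simp
    field_simp at h2
    linear_combination h2
  have h3 := hQ.1 _ key
  exact h (P w z / P u z) (sub_eq_zero.1 h3)

/-- `W` is invariant under all Siegel elements -/
def SgInv (W : Submodule F (Fin n → F)) : Prop :=
  ∀ u y, Q u = 0 → P u y = 0 → ∀ w ∈ W, act Q (sg Q u y) w ∈ W

variable {Q}

theorem SgInv.sing_mem (hQ : (QuadraticMap.polarBilin Q).Nondegenerate)
    {W : Submodule F (Fin n → F)} (hW : SgInv Q W) {w : Fin n → F} (hw : w ∈ W)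
    {u : Fin n → F} (hu : Q u = 0) (huw : P u w = 0) (h : ∀ c : F, w ≠ c • u) : u ∈ W := by
  by_cases hu0 : u = 0
  · rw [hu0]; exact W.zero_mem
  obtain ⟨y, hy1, hy2⟩ := exists_perp_sep Q hQ u w hu0 h
  have h1 := hW u y hu hy1 w hw
  rw [sg_act Q u y hu hy1, huw, zero_smul, add_zero, mul_zero, zero_smul, sub_zero] at h1
  have h2 : P y w • u ∈ W := by
    have := W.sub_mem hw h1
    rwa [sub_sub_cancel] at this
  have h3 : P y w ≠ 0 := by rw [P_comm]; exact hy2
  have h4 := W.smul_mem (P y w)⁻¹ h2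
  rwa [smul_smul, inv_mul_cancel₀ h3, one_smul] at h4

/-- a non-zero singular vector orthogonal to two given vectors -/
theorem exists_sing_perp2 (hQ : (QuadraticMap.polarBilin Q).Nondegenerate) (hn : 7 ≤ n)
    (a b : Fin n → F) : ∃ e, e ≠ 0 ∧ Q e = 0 ∧ P a e = 0 ∧ P b e = 0 := by
  obtain ⟨e, f, hQe, hQf, hef, hve, hvf⟩ := exists_hyp_perp Q hQ ![a, b] (by omega)
  refine ⟨e, ?_, hQe, hve 0, hve 1⟩
  rintro rfl
  rw [QuadraticMap.polar_zero_left] at hef
  exact zero_ne_one hef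

/-- from a non-zero singular vector of `W` to all singular vectors orthogonal to it -/
theorem SgInv.step (hQ : (QuadraticMap.polarBilin Q).Nondegenerate)
    {W : Submodule F (Fin n → F)} (hW : SgInv Q W) {u₀ : Fin n → F} (h0 : u₀ ∈ W) (h0n : u₀ ≠ 0)
    {u : Fin n → F} (hu : Q u = 0) (huu : P u₀ u = 0) : u ∈ W := by
  by_cases h : ∃ c : F, u₀ = c • u
  · obtain ⟨c, hc⟩ := h
    have hc0 : c ≠ 0 := by
      rintro rfl
      rw [zero_smul] at hc
      exact h0n hc
    have : u = c⁻¹ • u₀ := by rw [hc, smul_smul, inv_mul_cancel₀ hc0, one_smul]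
    rw [this]
    exact W.smul_mem _ h0
  · push Not at h
    exact hW.sing_mem hQ h0 hu (by rw [P_comm]; exact huu) h

/-- an invariant non-zero subspace contains every singular vector -/
theorem SgInv.all_sing (hQ : (QuadraticMap.polarBilin Q).Nondegenerate) (hn : 7 ≤ n)
    {W : Submodule F (Fin n → F)} (hW : SgInv Q W) (hW0 : W ≠ ⊥)
    (u : Fin n → F) (hu : Q u = 0) : u ∈ W := by
  obtain ⟨w, hw, hw0⟩ := Submodule.exists_mem_ne_zero_of_ne_bot hW0
  -- a non-zero singular vector in `W`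
  obtain ⟨u₀, h0, h0n, hQ0⟩ : ∃ u₀ ∈ W, u₀ ≠ 0 ∧ Q u₀ = 0 := by
    by_cases hQw : Q w = 0
    · exact ⟨w, hw, hw0, hQw⟩
    · obtain ⟨e, he0, hQe, hwe, -⟩ := exists_sing_perp2 hQ hn w w
      refine ⟨e, ?_, he0, hQe⟩
      apply hW.sing_mem hQ hw hQe (by rw [P_comm]; exact hwe)
      intro c hc
      apply hQw
      rw [hc, QuadraticMap.map_smul, hQe, smul_zero]
  by_cases huu : P u₀ u = 0
  · exact hW.step hQ h0 h0n hu huu
  · obtain ⟨e, he0, hQe, h1, h2⟩ := exists_sing_perp2 hQ hn u₀ u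
    have he : e ∈ W := hW.step hQ h0 h0n hQe h1
    exact hW.step hQ he he0 hu (by rw [P_comm]; exact h2)

/-- the singular vectors span the space -/
theorem eq_top_of_all_sing (hQ : (QuadraticMap.polarBilin Q).Nondegenerate) (hn : 3 ≤ n)
    (W : Submodule F (Fin n → F)) (hW : ∀ u : Fin n → F, Q u = 0 → u ∈ W) : W = ⊤ := by
  obtain ⟨e, f, hQe, hQf, hef, -, -⟩ := exists_hyp_perp Q hQ (k := 0) (fun i => i.elim0) (by omega)
  have hee : P e e = 0 := by rw [P_self, hQe, mul_zero]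
  have hff : P f f = 0 := by rw [P_self, hQf, mul_zero]
  have hfe : P f e = 1 := by rw [P_comm]; exact hef
  rw [eq_top_iff]
  intro x _
  obtain ⟨x', hx'⟩ : ∃ x', x' = x - P x f • e - P x e • f := ⟨_, rfl⟩
  have h1 : P x' e = 0 := by
    rw [hx', QuadraticMap.polar_sub_left, QuadraticMap.polar_sub_left, QuadraticMap.polar_smul_left,
      QuadraticMap.polar_smul_left, hee, hfe]
    simp
  have h2 : P x' f = 0 := by
    rw [hx', QuadraticMap.polar_sub_left, QuadraticMap.polar_sub_left, QuadraticMap.polar_smul_left,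
      QuadraticMap.polar_smul_left, hef, hff]
    simp
  have h3 : Q (e + x' - Q x' • f) = 0 := by
    rw [Q_sub', Q_add, QuadraticMap.map_smul, hQe, hQf, QuadraticMap.polar_smul_right,
      QuadraticMap.polar_add_left, hef, h2, P_comm Q e x', h1]
    simp
  have h4 : x' ∈ W := by
    have e1 : x' = (e + x' - Q x' • f) - e + Q x' • f := by abel
    rw [e1]
    exact W.add_mem (W.sub_mem (hW _ h3) (hW _ hQe)) (W.smul_mem _ (hW _ hQf))
  have e2 : x = x' + P x f • e + P x e • f := by rw [hx']; abel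
  rw [e2]
  exact W.add_mem (W.add_mem h4 (W.smul_mem _ (hW _ hQe))) (W.smul_mem _ (hW _ hQf))

/-- **irreducibility** of the group generated by the Siegel elements -/
theorem SgInv.eq_bot_or_eq_top (hQ : (QuadraticMap.polarBilin Q).Nondegenerate) (hn : 7 ≤ n)
    {W : Submodule F (Fin n → F)} (hW : SgInv Q W) : W = ⊥ ∨ W = ⊤ := by
  by_cases hW0 : W = ⊥
  · exact Or.inl hW0
  · exact Or.inr (eq_top_of_all_sing hQ (by omega) W (hW.all_sing hQ hn hW0))

/-- **Schur's lemma**: a matrix commuting with all Siegel elements is scalar (all characteristics) -/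
theorem schur_sg (hQ : (QuadraticMap.polarBilin Q).Nondegenerate) (hn : 7 ≤ n)
    (A : Matrix (Fin n) (Fin n) F)
    (hA : ∀ u y, Q u = 0 → P u y = 0 → ∀ x, A *ᵥ (act Q (sg Q u y) x) = act Q (sg Q u y) (A *ᵥ x)) :
    ∃ l : F, A = l • (1 : Matrix (Fin n) (Fin n) F) := by
  obtain ⟨u₀, hu0, hQu, -, -⟩ := exists_sing_perp2 hQ hn (0 : Fin n → F) 0
  obtain ⟨e, f, hQe, hQf, hef, hve, hvf⟩ := exists_hyp_perp Q hQ ![u₀] (by omega)
  have hue : P u₀ e = 0 := hve 0
  have huf : P u₀ f = 0 := hvf 0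
  have hff : P f f = 0 := by rw [P_self, hQf, mul_zero]
  have hfe : P f e = 1 := by rw [P_comm]; exact hef
  -- `A u₀ ∈ ⟨u₀, e⟩`
  have h1 : A *ᵥ u₀ = P e (A *ᵥ f) • u₀ - P u₀ (A *ᵥ f) • e := by
    have h := hA u₀ e hQu hue f
    rw [sg_act Q u₀ e hQu hue, sg_act Q u₀ e hQu hue, huf, hef, hQe] at h
    simp only [zero_smul, add_zero, one_smul, zero_mul, sub_zero] at h
    rw [Matrix.mulVec_sub] at h
    have : A *ᵥ u₀ = A *ᵥ f - (A *ᵥ f + P u₀ (A *ᵥ f) • e - P e (A *ᵥ f) • u₀) := by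
      rw [← h]; abel
    rw [this]; abel
  -- `A u₀ ∈ ⟨u₀, f⟩`
  have h2 : A *ᵥ u₀ = P f (A *ᵥ e) • u₀ - P u₀ (A *ᵥ e) • f := by
    have h := hA u₀ f hQu huf e
    rw [sg_act Q u₀ f hQu huf, sg_act Q u₀ f hQu huf, hue, hfe, hQf] at h
    simp only [zero_smul, add_zero, one_smul, zero_mul, sub_zero] at h
    rw [Matrix.mulVec_sub] at h
    have : A *ᵥ u₀ = A *ᵥ e - (A *ᵥ e + P u₀ (A *ᵥ e) • f - P f (A *ᵥ e) • u₀) := by
      rw [← h]; abel
    rw [this]; abel
  have h3 : P u₀ (A *ᵥ f) = 0 := by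
    have e1 : P (A *ᵥ u₀) f = - P u₀ (A *ᵥ f) := by
      rw [h1, QuadraticMap.polar_sub_left, QuadraticMap.polar_smul_left,
        QuadraticMap.polar_smul_left, huf, hef]
      simp
    have e2 : P (A *ᵥ u₀) f = 0 := by
      rw [h2, QuadraticMap.polar_sub_left, QuadraticMap.polar_smul_left,
        QuadraticMap.polar_smul_left, huf, hff]
      simp
    rw [e2] at e1
    exact neg_eq_zero.1 e1.symm
  rw [h3, zero_smul, sub_zero] at h1
  obtain ⟨l, hl⟩ : ∃ l, l = P e (A *ᵥ f) := ⟨_, rfl⟩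
  rw [← hl] at h1
  refine ⟨l, ?_⟩
  have hinv : SgInv Q (Module.End.eigenspace (Matrix.toLin' A) l) := by
    intro u y hu huy w hw
    rw [Module.End.mem_eigenspace_iff, Matrix.toLin'_apply] at hw ⊢
    rw [hA u y hu huy w, hw, act_smul]
  have hne : Module.End.eigenspace (Matrix.toLin' A) l ≠ ⊥ := by
    intro h
    have : u₀ ∈ Module.End.eigenspace (Matrix.toLin' A) l := by
      rw [Module.End.mem_eigenspace_iff, Matrix.toLin'_apply]; exact h1
    rw [h, Submodule.mem_bot] at this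
    exact hu0 this
  have htop := (hinv.eq_bot_or_eq_top hQ hn).resolve_left hne
  apply Matrix.toLin'.injective
  apply LinearMap.ext
  intro x
  have hx : x ∈ Module.End.eigenspace (Matrix.toLin' A) l := by rw [htop]; exact Submodule.mem_top
  rw [Module.End.mem_eigenspace_iff] at hx
  rw [hx, map_smul, Matrix.toLin'_one, LinearMap.smul_apply, LinearMap.id_apply]

end Cfsg.Agent.Lib.H13.EOP2
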