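/-
EO generic layer: for ANY non-degenerate quadratic form `Q` on `ι → F` (`7 ≤ |ι|`, all characteristics):
`Ω(Q)` is irreducible, its centraliser in the matrix algebra consists of scalars, root families, and
`Ω(Q)` lies in no subspace stabiliser / field-extension normaliser / subfield group.
-/
import Mathlib
import Cfsg.Agent.Lib.H13.AschEOCore
import Cfsg.Agent.Lib.H29.Orth
import Cfsg.Agent.Lib.H5.AschO2B4

set_option autoImplicit false
set_option linter.unusedSimpArgs false
set_option linter.unusedSectionVars false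
set_option linter.unusedVariables false

namespace Cfsg.Agent.Lib.H13.EOP2

open Cfsg Cfsg.Geo
open Matrix Module
open Cfsg.Agent.Lib.H28 Cfsg.Agent.Lib.H11.SubspMax
open Cfsg.Agent.Lib.H11.CD Cfsg.Agent.Lib.H11.SiegelGen Cfsg.Agent.Lib.H11.OrMax
open Cfsg.Agent.Lib.H11.OmTs Cfsg.Agent.Lib.H11.IsoReindex
open scoped MatrixGroups

section fin

variable {F : Type*} [Field F] [Fintype F] {n : ℕ} (Q : QuadraticForm F (Fin n → F))

set_option quotPrecheck false in
local notation "P" => QuadraticMap.polar (⇑Q)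

/-- Siegel elements as elements of `omegaGL` -/
theorem sg_mem_omegaGL (hQ : (QuadraticMap.polarBilin Q).Nondegenerate) (hn : 7 ≤ n)
    (u y : Fin n → F) (hu : Q u = 0) (huy : P u y = 0) :
    ((sg Q u y : ↥(Cfsg.isometryGroup F ⇑Q)) : GL (Fin n) F) ∈ omegaGL ⇑Q :=
  coe_mem_omegaGL Q _ (sg_mem_comm Q hQ hn u y hu huy)

/-- irreducibility of `Ω(Q)` over `Fin n` -/
theorem irr_fin (hQ : (QuadraticMap.polarBilin Q).Nondegenerate) (hn : 7 ≤ n)
    (W : Submodule F (Fin n → F)) (h : omegaGL ⇑Q ≤ subspaceStabilizer W) : W = ⊥ ∨ W = ⊤ := by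
  apply SgInv.eq_bot_or_eq_top hQ hn
  intro u y hu huy w hw
  have h1 := h (sg_mem_omegaGL Q hQ hn u y hu huy)
  rw [mem_subspaceStabilizer_iff] at h1
  exact (h1 w).1 hw

/-- Schur's lemma for `Ω(Q)` over `Fin n`, all characteristics -/
theorem schur_fin_all (hQ : (QuadraticMap.polarBilin Q).Nondegenerate) (hn : 7 ≤ n)
    (A : Matrix (Fin n) (Fin n) F)
    (hA : ∀ g ∈ omegaGL ⇑Q, A * (g : Matrix (Fin n) (Fin n) F) = (g : Matrix (Fin n) (Fin n) F) * A) :
    ∃ l : F, A = l • (1 : Matrix (Fin n) (Fin n) F) := by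
  apply schur_sg hQ hn
  intro u y hu huy x
  have h1 := hA _ (sg_mem_omegaGL Q hQ hn u y hu huy)
  unfold act
  rw [Matrix.mulVec_mulVec, Matrix.mulVec_mulVec, h1]

/-- a root family over `Fin n` -/
theorem exists_root_family_fin (hQ : (QuadraticMap.polarBilin Q).Nondegenerate) (hn : 7 ≤ n) :
    ∃ N : Matrix (Fin n) (Fin n) F, N ≠ 0 ∧ N * N = 0 ∧
      ∀ c : F, ∃ g ∈ omegaGL ⇑Q, (g : Matrix (Fin n) (Fin n) F) = 1 + c • N := by
  obtain ⟨u₀, hu0, hQu, -, -⟩ := exists_sing_perp2 hQ hn (0 : Fin n → F) 0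
  obtain ⟨e, f, hQe, hQf, hef, hve, hvf⟩ := exists_hyp_perp Q hQ ![u₀] (by omega)
  have hue : P u₀ e = 0 := hve 0
  have huf : P u₀ f = 0 := hvf 0
  have huu : P u₀ u₀ = 0 := by rw [P_self, hQu, mul_zero]
  have hee : P e e = 0 := by rw [P_self, hQe, mul_zero]
  have heu : P e u₀ = 0 := by rw [P_comm]; exact hue
  set N : Matrix (Fin n) (Fin n) F :=
    LinearMap.toMatrix' ((fr Q u₀).smulRight e - (fr Q e).smulRight u₀) with hN
  have hNx : ∀ x, N *ᵥ x = P u₀ x • e - P e x • u₀ := by
    intro x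
    rw [hN, ← Matrix.toLin'_apply, Matrix.toLin'_toMatrix']
    simp only [LinearMap.sub_apply, LinearMap.smulRight_apply, fr_apply]
  refine ⟨N, ?_, ?_, ?_⟩
  · intro h0
    have h1 := hNx f
    rw [h0, Matrix.zero_mulVec, huf, hef, zero_smul, one_smul, zero_sub] at h1
    exact hu0 (neg_eq_zero.1 h1.symm)
  · apply Matrix.toLin'.injective
    apply LinearMap.ext
    intro x
    rw [Matrix.toLin'_apply, ← Matrix.mulVec_mulVec, hNx x, Matrix.mulVec_sub, Matrix.mulVec_smul,
      Matrix.mulVec_smul, hNx e, hNx u₀, hue, hee, huu, heu]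
    simp
  · intro c
    have h1 : P u₀ (c • e) = 0 := by rw [QuadraticMap.polar_smul_right, hue, smul_zero]
    refine ⟨_, sg_mem_omegaGL Q hQ hn u₀ (c • e) hQu h1, ?_⟩
    apply Matrix.toLin'.injective
    apply LinearMap.ext
    intro x
    rw [Matrix.toLin'_apply, Matrix.toLin'_apply]
    have h2 := sg_act Q u₀ (c • e) hQu h1 x
    unfold act at h2
    rw [h2, Matrix.add_mulVec, Matrix.one_mulVec, Matrix.smul_mulVec, hNx x, QuadraticMap.map_smul,
      hQe, QuadraticMap.polar_smul_left]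
    simp only [smul_eq_mul, mul_zero, zero_mul, zero_smul, sub_zero, smul_sub, smul_smul]
    rw [mul_comm c (P u₀ x)]
    abel

end fin

section gen

variable {F : Type*} [Field F] [Fintype F] {ι : Type} [Fintype ι] [DecidableEq ι]

open Cfsg.Agent.Lib.H29.Orth in
/-- **irreducibility** of `Ω(Q)`: it stabilises no proper non-zero subspace (all characteristics) -/
theorem omegaGL_irreducible (Q : (ι → F) → F) (hQ : IsNondegenerateQuadraticForm Q)
    (hn : 7 ≤ Fintype.card ι) (W : Submodule F (ι → F)) (h : omegaGL Q ≤ subspaceStabilizer W) :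
    W = ⊥ ∨ W = ⊤ := by
  obtain ⟨e, -⟩ : ∃ e : ι ≃ Fin (Fintype.card ι), True := ⟨Fintype.equivFin ι, trivial⟩
  have hsurj : Function.Surjective ⇑(H11.IsoReindex.glReindex (F := F) e).toMonoidHom := (H11.IsoReindex.glReindex (F := F) e).surjective
  have h1 : omegaGL (tr e Q) ≤ subspaceStabilizer (trW e W) := by
    rw [← Subgroup.comap_le_comap_of_surjective hsurj, comap_omegaGL, comap_subspaceStabilizer]
    exact h
  have h2 := irr_fin (trQF e (toQF Q hQ)) (nondeg_trQF e _ (toQF_nondegenerate Q hQ)) hn (trW e W)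
    (by rw [coe_trQF, coe_toQF]; exact h1)
  rcases h2 with h2 | h2
  · left; by_contra hne; exact trW_ne_bot e W hne h2
  · right
    rw [eq_top_iff]
    intro w _
    have h3 : w ∘ e.symm ∈ trW e W := by rw [h2]; exact Submodule.mem_top
    rw [mem_trW] at h3
    have h4 : (w ∘ e.symm) ∘ e = w := by funext i; simp
    rwa [h4] at h3

/-- `Ω(Q)` lies in the stabiliser of no proper non-zero subspace whatsoever (covers the totally singular, the
non-degenerate and the non-singular-vector members of class 1). -/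
theorem not_omegaGL_le_subspaceStabilizer (Q : (ι → F) → F) (hQ : IsNondegenerateQuadraticForm Q)
    (hn : 7 ≤ Fintype.card ι) (W : Submodule F (ι → F)) (hW0 : W ≠ ⊥) (hW1 : W ≠ ⊤) :
    ¬ omegaGL Q ≤ subspaceStabilizer W := fun h =>
  (omegaGL_irreducible Q hQ hn W h).elim hW0 hW1

open Cfsg.Agent.Lib.H29.Orth in
/-- a **root family** in `Ω(Q)` -/
theorem exists_root_family (Q : (ι → F) → F) (hQ : IsNondegenerateQuadraticForm Q)
    (hn : 7 ≤ Fintype.card ι) :
    ∃ N : Matrix ι ι F, N ≠ 0 ∧ N * N = 0 ∧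
      ∀ c : F, ∃ g ∈ omegaGL Q, (g : Matrix ι ι F) = 1 + c • N := by
  obtain ⟨e, -⟩ : ∃ e : ι ≃ Fin (Fintype.card ι), True := ⟨Fintype.equivFin ι, trivial⟩
  obtain ⟨N', hN0, hNN, hfam⟩ := exists_root_family_fin (trQF e (toQF Q hQ))
    (nondeg_trQF e _ (toQF_nondegenerate Q hQ)) hn
  refine ⟨N'.submatrix e e, ?_, ?_, ?_⟩
  · intro h0
    apply hN0
    ext i j
    have := congrFun (congrFun h0 (e.symm i)) (e.symm j)
    simpa using this
  · rw [Matrix.submatrix_mul_equiv, hNN]
    rfl
  · intro c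
    obtain ⟨g', hg', hg'e⟩ := hfam c
    rw [coe_trQF, coe_toQF] at hg'
    refine ⟨(H11.IsoReindex.glReindex (F := F) e).symm g', ?_, ?_⟩
    · rw [← comap_omegaGL e Q, Subgroup.mem_comap]
      show H11.IsoReindex.glReindex e ((H11.IsoReindex.glReindex (F := F) e).symm g') ∈ _
      rw [MulEquiv.apply_symm_apply]
      exact hg'
    · have h1 : ((H11.IsoReindex.glReindex e ((H11.IsoReindex.glReindex (F := F) e).symm g') : GL _ F) : Matrix _ _ F) =
          Matrix.reindex e e (((H11.IsoReindex.glReindex (F := F) e).symm g' : GL ι F) : Matrix ι ι F) :=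
        H11.IsoReindex.glReindex_val e _
      rw [MulEquiv.apply_symm_apply, hg'e] at h1
      ext i j
      have := congrFun (congrFun h1 (e i)) (e j)
      simp only [Matrix.reindex_apply, Matrix.submatrix_apply, Equiv.symm_apply_apply] at this
      rw [← this]
      simp [Matrix.add_apply, Matrix.one_apply, Matrix.smul_apply]

open Cfsg.Agent.Lib.H29.Orth in
/-- **Schur's lemma** for `Ω(Q)`: a matrix commuting with `Ω(Q)` is scalar (all characteristics) -/
theorem schur_mat_gen (Q : (ι → F) → F) (hQ : IsNondegenerateQuadraticForm Q)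
    (hn : 7 ≤ Fintype.card ι) (A : Matrix ι ι F)
    (hA : ∀ g ∈ omegaGL Q, A * (g : Matrix ι ι F) = (g : Matrix ι ι F) * A) :
    ∃ l : F, A = l • (1 : Matrix ι ι F) := by
  obtain ⟨e, -⟩ : ∃ e : ι ≃ Fin (Fintype.card ι), True := ⟨Fintype.equivFin ι, trivial⟩
  have key := schur_fin_all (trQF e (toQF Q hQ)) (nondeg_trQF e _ (toQF_nondegenerate Q hQ)) hn
    (Matrix.reindex e e A) (by
      intro g' hg'
      rw [coe_trQF, coe_toQF] at hg'
      have hmem : (H11.IsoReindex.glReindex (F := F) e).symm g' ∈ omegaGL Q := by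
        rw [← comap_omegaGL e Q, Subgroup.mem_comap]
        show H11.IsoReindex.glReindex e ((H11.IsoReindex.glReindex (F := F) e).symm g') ∈ _
        rw [MulEquiv.apply_symm_apply]
        exact hg'
      have h1 := hA _ hmem
      have h2 : ((H11.IsoReindex.glReindex e ((H11.IsoReindex.glReindex (F := F) e).symm g') : GL _ F) : Matrix _ _ F) =
          Matrix.reindex e e (((H11.IsoReindex.glReindex (F := F) e).symm g' : GL ι F) : Matrix ι ι F) :=
        H11.IsoReindex.glReindex_val e _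
      rw [MulEquiv.apply_symm_apply] at h2
      rw [h2, Matrix.reindex_apply, Matrix.reindex_apply, Matrix.submatrix_mul_equiv,
        Matrix.submatrix_mul_equiv, h1])
  obtain ⟨l, hl⟩ := key
  refine ⟨l, ?_⟩
  ext i j
  have := congrFun (congrFun hl (e i)) (e j)
  simp only [Matrix.reindex_apply, Matrix.submatrix_apply, Equiv.symm_apply_apply,
    Matrix.smul_apply, Matrix.one_apply, EmbeddingLike.apply_eq_iff_eq] at this
  rw [this, Matrix.smul_apply, Matrix.one_apply]

end gen

end Cfsg.Agent.Lib.H13.EOP2
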