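/-
EO generic layer (2): `Ω(Q)` (any non-degenerate `Q` on `ι → F`, `7 ≤ |ι|`, ALL characteristics) normalises no field
subalgebra of degree `≥ 2` and lies in no subfield group.
-/
import Mathlib
import Cfsg.Agent.Lib.H13.AschEOGen
import Cfsg.Agent.Lib.H25.AschSP2B5

set_option autoImplicit false
set_option linter.unusedSimpArgs false
set_option linter.unusedSectionVars false
set_option linter.unusedVariables false

namespace Cfsg.Agent.Lib.H13.EOP2

open Cfsg Cfsg.Geo
open Matrix Module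
open scoped MatrixGroups

variable {F : Type*} [Field F] {ι : Type} [Fintype ι] [DecidableEq ι]

/-- the subgroup of `GL` commuting with a given matrix -/
def commSub (X : Matrix ι ι F) : Subgroup (GL ι F) where
  carrier := {g | (g : Matrix ι ι F) * X = X * (g : Matrix ι ι F)}
  mul_mem' {a b} ha hb := by
    change _ = _ at ha hb ⊢
    rw [Units.val_mul, Matrix.mul_assoc, hb, ← Matrix.mul_assoc, ha, Matrix.mul_assoc]
  one_mem' := by simp
  inv_mem' {a} ha := by
    change _ = _ at ha ⊢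
    have h1 : ((a⁻¹ : GL ι F) : Matrix ι ι F) * (a : Matrix ι ι F) = 1 := by
      rw [← Units.val_mul, inv_mul_cancel, Units.val_one]
    have h2 : (a : Matrix ι ι F) * ((a⁻¹ : GL ι F) : Matrix ι ι F) = 1 := by
      rw [← Units.val_mul, mul_inv_cancel, Units.val_one]
    calc ((a⁻¹ : GL ι F) : Matrix ι ι F) * X
        = ((a⁻¹ : GL ι F) : Matrix ι ι F) * X * ((a : Matrix ι ι F) * ((a⁻¹ : GL ι F) : Matrix ι ι F)) := by
          rw [h2, Matrix.mul_one]
      _ = ((a⁻¹ : GL ι F) : Matrix ι ι F) * (X * (a : Matrix ι ι F)) * ((a⁻¹ : GL ι F) : Matrix ι ι F) := by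
          simp only [Matrix.mul_assoc]
      _ = ((a⁻¹ : GL ι F) : Matrix ι ι F) * ((a : Matrix ι ι F) * X) * ((a⁻¹ : GL ι F) : Matrix ι ι F) := by
          rw [ha]
      _ = (((a⁻¹ : GL ι F) : Matrix ι ι F) * (a : Matrix ι ι F)) * X * ((a⁻¹ : GL ι F) : Matrix ι ι F) := by
          simp only [Matrix.mul_assoc]
      _ = X * ((a⁻¹ : GL ι F) : Matrix ι ι F) := by rw [h1, Matrix.one_mul]

theorem mem_commSub (X : Matrix ι ι F) (g : GL ι F) :
    g ∈ commSub X ↔ (g : Matrix ι ι F) * X = X * (g : Matrix ι ι F) := Iff.rfl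

variable [Fintype F]

/-- **EO-B4 (all characteristics)**: `Ω(Q)` normalises no field subalgebra of degree `r ≥ 2`. -/
theorem not_omegaGL_le_subalgebraNormalizer (Q : (ι → F) → F) (hQ : IsNondegenerateQuadraticForm Q)
    (hn : 7 ≤ Fintype.card ι) (r : ℕ) (hr : 2 ≤ r) (K : Subalgebra F (Matrix ι ι F))
    (hK : IsFieldSubalgebra r K) : ¬ omegaGL Q ≤ subalgebraNormalizer K := by
  intro hle
  obtain ⟨X, hXK, hXns⟩ := Cfsg.Agent.Lib.H5.OP2.exists_not_scalar_any r K hr hK
  apply hXns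
  apply schur_mat_gen Q hQ hn X
  have hcent : omegaGL Q ≤ commSub X := by
    apply Cfsg.Agent.Lib.H5.OP2.omegaGL_le_of_gens_any Q hQ hn
    intro t ht ⟨u, v, huv⟩
    rw [mem_commSub]
    have hfin : Module.finrank F (Submodule.span F ({u, v} : Set (ι → F))) ≤ 2 := by
      classical
      refine (finrank_span_le_card ({u, v} : Set (ι → F))).trans ?_
      rw [Set.toFinset_insert, Set.toFinset_singleton]
      exact Finset.card_insert_le _ _ |>.trans (by simp)
    exact Cfsg.Agent.Lib.H5.OP2.commute_of_small_rank r K hK t (hle ht) _ huv (by omega) X hXK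
  intro g hg
  exact ((mem_commSub X g).1 (hcent hg)).symm

/-- generic: a subgroup of `GL` containing a root family `1 + c N` (`N ≠ 0`, `N² = 0`, all `c`) lies in no
subfield group of prime degree. -/
theorem not_le_subfieldSubgroup_of_root_family (G : Subgroup (GL ι F)) (N : Matrix ι ι F) (hN0 : N ≠ 0)
    (hNN : N * N = 0) (hfam : ∀ c : F, ∃ g ∈ G, (g : Matrix ι ι F) = 1 + c • N)
    (F₀ : Subfield F) (r : ℕ) (hr : r.Prime) (hcard : Fintype.card F = Nat.card F₀ ^ r) (P : GL ι F) :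
    ¬ G ≤ subfieldSubgroup F₀ P := by
  classical
  intro hle
  have hF₀2 : 2 ≤ Nat.card F₀ := by
    have : Fintype F₀ := Fintype.ofFinite F₀
    rw [Nat.card_eq_fintype_card]
    exact Fintype.one_lt_card
  have hr2 := hr.two_le
  have h3 : 2 < Fintype.card F := by
    rw [hcard]
    calc 2 < 2 ^ 2 := by norm_num
      _ ≤ Nat.card F₀ ^ 2 := Nat.pow_le_pow_left hF₀2 2
      _ ≤ Nat.card F₀ ^ r := Nat.pow_le_pow_right (by omega) hr2
  set Pm : Matrix ι ι F := (P : Matrix ι ι F) with hPm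
  set Pi' : Matrix ι ι F := ((P⁻¹ : GL ι F) : Matrix ι ι F) with hPi
  have hPP : Pi' * Pm = 1 := by rw [hPi, hPm, ← Units.val_mul, inv_mul_cancel, Units.val_one]
  have hPP' : Pm * Pi' = 1 := by rw [hPi, hPm, ← Units.val_mul, mul_inv_cancel, Units.val_one]
  set N' : Matrix ι ι F := Pi' * N * Pm with hN'
  have hN'N' : N' * N' = 0 := by
    calc N' * N' = Pi' * N * (Pm * Pi') * N * Pm := by rw [hN']; simp only [Matrix.mul_assoc]
      _ = Pi' * (N * N) * Pm := by rw [hPP', Matrix.mul_one]; simp only [Matrix.mul_assoc]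
      _ = 0 := by rw [hNN, Matrix.mul_zero, Matrix.zero_mul]
  have hN'0 : N' ≠ 0 := by
    intro h0
    apply hN0
    calc N = (Pm * Pi') * N * (Pm * Pi') := by rw [hPP', Matrix.one_mul, Matrix.mul_one]
      _ = Pm * N' * Pi' := by rw [hN']; simp only [Matrix.mul_assoc]
      _ = 0 := by rw [h0, Matrix.mul_zero, Matrix.zero_mul]
  have hfam' : ∀ c : F, ∃ (g₀ : Matrix ι ι F₀) (l : F), ∀ a b,
      (1 + c • N') a b = ((g₀ a b : F₀) : F) * l := by
    intro c
    obtain ⟨g, hgG, hg⟩ := hfam c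
    have hmem := hle hgG
    unfold subfieldSubgroup at hmem
    obtain ⟨x, hx, hxe⟩ := Subgroup.mem_map.mp hmem
    have hxτ : x = P⁻¹ * g * P := by
      have : P * x * P⁻¹ = g := hxe
      rw [← this]
      group
    obtain ⟨y, hy, z, hz, hyz⟩ := Subgroup.mem_sup_of_normal_right.mp hx
    obtain ⟨g0, rfl⟩ := hy
    obtain ⟨l, hl⟩ := (mem_scalars_iff z).mp hz
    refine ⟨(g0 : Matrix ι ι F₀), (l : F), ?_⟩
    have hmat : (1 + c • N' : Matrix ι ι F) =
        ((Matrix.GeneralLinearGroup.map (F₀.subtype : F₀ →+* F) g0 : GL ι F) : Matrix ι ι F) *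
            ((l : F) • (1 : Matrix ι ι F)) := by
      rw [← hl, ← Units.val_mul, hyz, hxτ, Units.val_mul, Units.val_mul, hg, ← hPi, ← hPm, hN',
        Matrix.mul_add, Matrix.add_mul, Matrix.mul_one, hPP, Matrix.mul_smul, Matrix.smul_mul]
    intro a b
    rw [hmat, Matrix.mul_smul, Matrix.mul_one, Matrix.smul_apply, smul_eq_mul, mul_comm]
    rfl
  have htop : F₀ = ⊤ :=
    Cfsg.Agent.Lib.H25.AschSP2.subfield_eq_top_of_unipotent_family h3 F₀ N' hN'0 hN'N' hfam'
  have hcardF₀ : Nat.card F₀ = Fintype.card F := by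
    rw [htop, ← Nat.card_eq_fintype_card]
    exact Nat.card_congr (Subfield.topEquiv (K := F)).toEquiv
  rw [hcardF₀] at hcard
  have h2 : 2 ≤ Fintype.card F := Fintype.one_lt_card
  have : Fintype.card F ^ 1 < Fintype.card F ^ r := Nat.pow_lt_pow_right h2 hr2
  rw [pow_one] at this
  omega

/-- **EO-B5 (all characteristics)**: `Ω(Q)` lies in no subfield group. -/
theorem not_omegaGL_le_subfieldSubgroup (Q : (ι → F) → F) (hQ : IsNondegenerateQuadraticForm Q)
    (hn : 7 ≤ Fintype.card ι) (F₀ : Subfield F) (r : ℕ) (hr : r.Prime)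
    (hcard : Fintype.card F = Nat.card F₀ ^ r) (P : GL ι F) :
    ¬ omegaGL Q ≤ subfieldSubgroup F₀ P := by
  obtain ⟨N, hN0, hNN, hfam⟩ := exists_root_family Q hQ hn
  exact not_le_subfieldSubgroup_of_root_family (omegaGL Q) N hN0 hNN hfam F₀ r hr hcard P

end Cfsg.Agent.Lib.H13.EOP2
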