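import Mathlib

set_option autoImplicit false

namespace Cfsg.Agent.Lib.H13.CycFactor

open Polynomial Module UniqueFactorizationMonoid

variable {F : Type*} [Field F] [Fintype F] [DecidableEq F]

/-- the irreducible monic factors of the `r`-th cyclotomic polynomial -/
abbrev S (r : ℕ) (F : Type*) [Field F] [DecidableEq F] :=
  {P : F[X] // P ∈ (normalizedFactors (cyclotomic r F)).toFinset}

/-- the factors of `X ^ r - 1` -/
noncomputable def fJ (r : ℕ) : Option (S r F) → F[X] := fun j => j.elim (X - 1) (fun s => s.1)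

variable {p q : ℕ} [Fact p.Prime] [CharP F p] {r : ℕ}

theorem natCast_ne_zero (hr : r.Prime) (hrp : r ≠ p) : (r : F) ≠ 0 := by
  intro h
  rw [CharP.cast_eq_zero_iff F p r] at h
  exact hrp ((Nat.prime_dvd_prime_iff_eq (Fact.out : p.Prime) hr).mp h).symm

theorem mem_S (s : S r F) : s.1 ∈ normalizedFactors (cyclotomic r F) :=
  Multiset.mem_toFinset.mp s.2

theorem irreducible_S (s : S r F) : Irreducible s.1 :=
  irreducible_of_normalized_factor _ (mem_S s)

theorem monic_S (s : S r F) : s.1.Monic := by
  have h := normalize_normalized_factor _ (mem_S s)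
  rw [← h]
  exact monic_normalize (irreducible_S s).ne_zero

theorem dvd_S (s : S r F) : s.1 ∣ cyclotomic r F := dvd_of_mem_normalizedFactors (mem_S s)

theorem natDegree_S (hF : Fintype.card F = q) (hr : r.Prime) (hrp : r ≠ p) (s : S r F) :
    s.1.natDegree = orderOf (q : ZMod r) := by
  obtain ⟨f, -, hf⟩ := FiniteField.card F p
  have hcop : p.Coprime r := (Nat.coprime_primes Fact.out hr).mpr hrp.symm
  rw [natDegree_of_mem_normalizedFactors_cyclotomic hf hcop (mem_S s), ← orderOf_units,
    ZMod.coe_unitOfCoprime, ← hf, hF]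

theorem orderOf_pos (hF : Fintype.card F = q) (hr : r.Prime) (hrp : r ≠ p) :
    0 < orderOf (q : ZMod r) := by
  obtain ⟨f, -, hf⟩ := FiniteField.card F p
  have hcop : p.Coprime r := (Nat.coprime_primes Fact.out hr).mpr hrp.symm
  haveI : NeZero r := ⟨hr.pos.ne'⟩
  have : (q : ZMod r) = ((ZMod.unitOfCoprime (p ^ (f : ℕ)) (hcop.pow_left f) : (ZMod r)ˣ) : ZMod r) := by
    rw [ZMod.coe_unitOfCoprime, ← hf, hF]
  rw [this, orderOf_units]
  exact _root_.orderOf_pos _

theorem nodup_factors (hr : r.Prime) (hrp : r ≠ p) :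
    (normalizedFactors (cyclotomic r F)).Nodup := by
  haveI : NeZero (r : F) := ⟨natCast_ne_zero hr hrp⟩
  rw [← squarefree_iff_nodup_normalizedFactors (cyclotomic_ne_zero r F)]
  exact (separable_cyclotomic r F).squarefree

theorem prod_S (hr : r.Prime) (hrp : r ≠ p) : ∏ s : S r F, s.1 = cyclotomic r F := by
  rw [Finset.prod_coe_sort (normalizedFactors (cyclotomic r F)).toFinset (fun P => P)]
  have h1 : ∏ P ∈ (normalizedFactors (cyclotomic r F)).toFinset, P =
      (normalizedFactors (cyclotomic r F)).prod := by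
    rw [Finset.prod, Multiset.toFinset_val, Multiset.dedup_eq_self.mpr (nodup_factors hr hrp),
      Multiset.map_id']
  have hmonic : (∏ P ∈ (normalizedFactors (cyclotomic r F)).toFinset, P).Monic :=
    monic_prod_of_monic _ _ (fun P hP => monic_S ⟨P, hP⟩)
  have hassoc : Associated (∏ P ∈ (normalizedFactors (cyclotomic r F)).toFinset, P)
      (cyclotomic r F) := by
    rw [h1]
    exact prod_normalizedFactors (cyclotomic_ne_zero r F)
  exact eq_of_monic_of_associated hmonic (cyclotomic.monic r F) hassoc

theorem card_S (hF : Fintype.card F = q) (hr : r.Prime) (hrp : r ≠ p) :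
    Fintype.card (S r F) * orderOf (q : ZMod r) = r - 1 := by
  have h1 := congrArg natDegree (prod_S (F := F) hr hrp)
  rw [natDegree_cyclotomic, Nat.totient_prime hr,
    natDegree_prod_of_monic _ _ (fun s _ => monic_S s),
    Finset.sum_congr rfl (fun s _ => natDegree_S hF hr hrp s), Finset.sum_const,
    Finset.card_univ, smul_eq_mul] at h1
  exact h1

theorem not_dvd_S (hr : r.Prime) (hrp : r ≠ p) (s : S r F) : ¬ (X - 1 : F[X]) ∣ s.1 := by
  haveI : Fact r.Prime := ⟨hr⟩
  intro h
  have h1 : (X - C 1 : F[X]) ∣ cyclotomic r F := by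
    rw [C_1]
    exact h.trans (dvd_S s)
  rw [dvd_iff_isRoot, IsRoot.def, eval_one_cyclotomic_prime] at h1
  exact natCast_ne_zero hr hrp h1

theorem irreducible_fJ (j : Option (S r F)) : Irreducible (fJ r j) := by
  cases j with
  | none =>
    show Irreducible (X - 1 : F[X])
    rw [← C_1]
    exact irreducible_X_sub_C 1
  | some s => exact irreducible_S s

theorem natDegree_fJ_none : (fJ (F := F) r none).natDegree = 1 := by
  show (X - 1 : F[X]).natDegree = 1
  rw [← C_1]
  exact natDegree_X_sub_C 1

theorem natDegree_fJ_some (hF : Fintype.card F = q) (hr : r.Prime) (hrp : r ≠ p) (s : S r F) :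
    (fJ r (some s)).natDegree = orderOf (q : ZMod r) := natDegree_S hF hr hrp s

theorem coprime_fJ (hr : r.Prime) (hrp : r ≠ p) (i j : Option (S r F)) (h : i ≠ j) :
    IsCoprime (fJ r i) (fJ r j) := by
  have key : ∀ s : S r F, IsCoprime (X - 1 : F[X]) s.1 := by
    intro s
    have : Irreducible (X - 1 : F[X]) := irreducible_fJ (r := r) none
    rw [this.coprime_iff_not_dvd]
    exact not_dvd_S hr hrp s
  cases i with
  | none =>
    cases j with
    | none => exact absurd rfl h
    | some s => exact key s
  | some s =>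
    cases j with
    | none => exact (key s).symm
    | some s' =>
      show IsCoprime s.1 s'.1
      rw [(irreducible_S s).coprime_iff_not_dvd]
      intro hd
      apply h
      have hassoc : Associated s.1 s'.1 := (irreducible_S s).associated_of_dvd (irreducible_S s') hd
      have := eq_of_monic_of_associated (monic_S s) (monic_S s') hassoc
      rw [Subtype.ext this]

theorem prod_fJ (hr : r.Prime) (hrp : r ≠ p) : ∏ j, fJ (F := F) r j = X ^ r - 1 := by
  haveI : Fact r.Prime := ⟨hr⟩
  rw [Fintype.prod_option]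
  show (X - 1) * ∏ s : S r F, s.1 = X ^ r - 1
  rw [prod_S hr hrp, mul_comm, cyclotomic_prime_mul_X_sub_one]

end Cfsg.Agent.Lib.H13.CycFactor
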