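import Mathlib
import Cfsg.Agent.Lib.H13.AutPSU2

/-!
Automorphisms of `PSU_n(q)`, part 3: conjugate transpose, polar frames and block matrices `R`, existence of frames,
semilinear unitary maps and the automorphisms `cU` they induce.
-/

set_option autoImplicit false
set_option linter.unusedSectionVars false
set_option linter.unusedVariables false
set_option linter.unusedSimpArgs false
set_option linter.deprecated false

namespace Cfsg.Agent.Lib.H13.AutPSU

section

open Matrix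

variable {F : Type*} [Field F] {n q : ℕ} (D : UF F q)

/-- conjugate transpose -/
def ct {m l : Type*} (X : Matrix m l F) : Matrix l m F := (X.map D.τ)ᵀ

theorem ct_apply {m l : Type*} (X : Matrix m l F) (i : l) (j : m) : ct D X i j = D.τ (X j i) := rfl

theorem ct_mul {m l o : Type*} [Fintype l] (X : Matrix m l F) (Y : Matrix l o F) :
    ct D (X * Y) = ct D Y * ct D X := by
  ext i j
  simp only [ct_apply, Matrix.mul_apply, map_sum, map_mul]
  exact Finset.sum_congr rfl fun x _ => mul_comm _ _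

theorem ct_ct {m l : Type*} (X : Matrix m l F) : ct D (ct D X) = X := by
  ext i j
  simp only [ct_apply, D.hτ2]

theorem ct_one {m : Type*} [DecidableEq m] : ct D (1 : Matrix m m F) = 1 := by
  ext i j
  simp only [ct_apply, Matrix.one_apply]
  by_cases h : i = j
  · subst h; simp
  · rw [if_neg h, if_neg (Ne.symm h), map_zero]

theorem ct_zero {m l : Type*} : ct D (0 : Matrix m l F) = 0 := by
  ext i j
  simp [ct_apply]

theorem ct_add {m l : Type*} (X Y : Matrix m l F) : ct D (X + Y) = ct D X + ct D Y := by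
  ext i j
  simp [ct_apply]

theorem ct_sub {m l : Type*} (X Y : Matrix m l F) : ct D (X - Y) = ct D X - ct D Y := by
  ext i j
  simp [ct_apply]

theorem ct_neg {m l : Type*} (X : Matrix m l F) : ct D (-X) = -ct D X := by
  ext i j
  simp [ct_apply]

theorem ct_smul {m l : Type*} (c : F) (X : Matrix m l F) : ct D (c • X) = D.τ c • ct D X := by
  ext i j
  simp [ct_apply]

theorem ct_injective {m l : Type*} : Function.Injective (ct D : Matrix m l F → Matrix l m F) := by
  intro X Y h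
  rw [← ct_ct D X, h, ct_ct]

/-- adjointness -/
theorem H_mulVec_ct {k : ℕ} (M : Matrix (Fin n) (Fin k) F) (u : Fin k → F) (v : Fin n → F) :
    H D (M *ᵥ u) v = H D u (ct D M *ᵥ v) := by
  unfold H
  rw [dotProduct_comm, dotProduct_mulVec, dotProduct_comm]
  congr 1
  ext i
  simp only [cj, ct_apply, mulVec, dotProduct, vecMul, map_sum, map_mul, D.hτ2]
  exact Finset.sum_congr rfl fun x _ => mul_comm _ _

theorem H_ct_mulVec {k : ℕ} (M : Matrix (Fin n) (Fin k) F) (u : Fin n → F) (v : Fin k → F) :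
    H D u (M *ᵥ v) = H D (ct D M *ᵥ u) v := by
  have := H_mulVec_ct D (ct D M) u v
  rw [ct_ct] at this
  exact this.symm

/-- the form in matrix terms -/
theorem H_eq_one_iff_ct (M : Matrix (Fin n) (Fin n) F) :
    (∀ u v, H D (M *ᵥ u) (M *ᵥ v) = H D u v) ↔ ct D M * M = 1 := by
  constructor
  · intro h
    have h1 : ∀ v, (ct D M * M) *ᵥ v = v := by
      intro v
      have h2 : (ct D M * M) *ᵥ v - v = 0 := by
        apply H_nondeg_right D
        intro u
        rw [H_sub_right, ← mulVec_mulVec, ← H_mulVec_ct, h, sub_self]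
      exact sub_eq_zero.1 h2
    apply Matrix.toLin'.injective
    apply LinearMap.ext
    intro v
    rw [Matrix.toLin'_apply, h1, Matrix.toLin'_one, LinearMap.id_apply]
  · intro h u v
    rw [H_mulVec_ct, mulVec_mulVec, h, one_mulVec]

end

section

open Matrix

variable {F : Type*} [Field F] {n q : ℕ} (D : UF F q)

/-- a polar frame: `k` hyperbolic pairs and `r` orthonormal vectors, spanning -/
structure Frame (n k r : ℕ) where
  e : Fin k → Fin n → F
  f : Fin k → Fin n → F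
  w : Fin r → Fin n → F
  ee : ∀ i j, H D (e i) (e j) = 0
  ff : ∀ i j, H D (f i) (f j) = 0
  ef : ∀ i j, H D (e i) (f j) = if i = j then 1 else 0
  we : ∀ i j, H D (w i) (e j) = 0
  wf : ∀ i j, H D (w i) (f j) = 0
  ww : ∀ i j, H D (w i) (w j) = if i = j then 1 else 0
  complete : ∀ x, x = ∑ i, H D x (f i) • e i + ∑ i, H D x (e i) • f i + ∑ i, H D x (w i) • w i

variable {D}
variable {k r : ℕ}

namespace Frame

variable (b : Frame D n k r)

theorem fe (i j : Fin k) : H D (b.f i) (b.e j) = if i = j then 1 else 0 := by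
  rw [← H_symm, b.ef j i]
  by_cases h : i = j
  · subst h; simp
  · rw [if_neg h, if_neg (Ne.symm h), map_zero]

theorem ew (i : Fin k) (j : Fin r) : H D (b.e i) (b.w j) = 0 := H_eq_zero_symm D (b.we j i)

theorem fw (i : Fin k) (j : Fin r) : H D (b.f i) (b.w j) = 0 := H_eq_zero_symm D (b.wf j i)

/-- matrix with columns `e i` -/
def Be : Matrix (Fin n) (Fin k) F := Matrix.of fun l i => b.e i l
/-- matrix with columns `f i` -/
def Bf : Matrix (Fin n) (Fin k) F := Matrix.of fun l i => b.f i l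
/-- matrix with columns `w i` -/
def Bw : Matrix (Fin n) (Fin r) F := Matrix.of fun l i => b.w i l

theorem Be_mulVec (a : Fin k → F) : b.Be *ᵥ a = ∑ i, a i • b.e i := by
  ext l
  simp [Be, mulVec, dotProduct, mul_comm]

theorem Bf_mulVec (a : Fin k → F) : b.Bf *ᵥ a = ∑ i, a i • b.f i := by
  ext l
  simp [Bf, mulVec, dotProduct, mul_comm]

theorem Bw_mulVec (a : Fin r → F) : b.Bw *ᵥ a = ∑ i, a i • b.w i := by
  ext l
  simp [Bw, mulVec, dotProduct, mul_comm]

theorem Be_single (i : Fin k) : b.Be *ᵥ Pi.single i 1 = b.e i := by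
  ext l; simp [Be]

theorem Bf_single (i : Fin k) : b.Bf *ᵥ Pi.single i 1 = b.f i := by
  ext l; simp [Bf]

theorem Bw_single (i : Fin r) : b.Bw *ᵥ Pi.single i 1 = b.w i := by
  ext l; simp [Bw]

theorem ctBe_mulVec (x : Fin n → F) : ct D b.Be *ᵥ x = fun i => H D x (b.e i) := by
  ext i
  simp [Be, ct_apply, mulVec, dotProduct, H, cj, mul_comm]

theorem ctBf_mulVec (x : Fin n → F) : ct D b.Bf *ᵥ x = fun i => H D x (b.f i) := by
  ext i
  simp [Bf, ct_apply, mulVec, dotProduct, H, cj, mul_comm]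

theorem ctBw_mulVec (x : Fin n → F) : ct D b.Bw *ᵥ x = fun i => H D x (b.w i) := by
  ext i
  simp [Bw, ct_apply, mulVec, dotProduct, H, cj, mul_comm]

theorem ctBe_Be : ct D b.Be * b.Be = 0 := by
  ext i j
  have := b.ee j i
  simp only [H, cj, dotProduct] at this
  simp only [Matrix.mul_apply, ct_apply, Be, Matrix.of_apply, Matrix.zero_apply]
  rw [← this]
  exact Finset.sum_congr rfl fun x _ => mul_comm _ _

theorem ctBf_Bf : ct D b.Bf * b.Bf = 0 := by
  ext i j
  have := b.ff j i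
  simp only [H, cj, dotProduct] at this
  simp only [Matrix.mul_apply, ct_apply, Bf, Matrix.of_apply, Matrix.zero_apply]
  rw [← this]
  exact Finset.sum_congr rfl fun x _ => mul_comm _ _

theorem ctBf_Be : ct D b.Bf * b.Be = 1 := by
  ext i j
  have := b.ef j i
  simp only [H, cj, dotProduct] at this
  simp only [Matrix.mul_apply, ct_apply, Be, Bf, Matrix.of_apply, Matrix.one_apply]
  have h2 : (if i = j then (1 : F) else 0) = if j = i then 1 else 0 := by simp only [eq_comm]
  rw [h2, ← this]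
  exact Finset.sum_congr rfl fun x _ => mul_comm _ _

theorem ctBe_Bf : ct D b.Be * b.Bf = 1 := by
  ext i j
  have := b.fe j i
  simp only [H, cj, dotProduct] at this
  simp only [Matrix.mul_apply, ct_apply, Be, Bf, Matrix.of_apply, Matrix.one_apply]
  have h2 : (if i = j then (1 : F) else 0) = if j = i then 1 else 0 := by simp only [eq_comm]
  rw [h2, ← this]
  exact Finset.sum_congr rfl fun x _ => mul_comm _ _

theorem ctBw_Be : ct D b.Bw * b.Be = 0 := by
  ext i j
  have := b.ew j i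
  simp only [H, cj, dotProduct] at this
  simp only [Matrix.mul_apply, ct_apply, Be, Bw, Matrix.of_apply, Matrix.zero_apply]
  rw [← this]
  exact Finset.sum_congr rfl fun x _ => mul_comm _ _

theorem ctBw_Bf : ct D b.Bw * b.Bf = 0 := by
  ext i j
  have := b.fw j i
  simp only [H, cj, dotProduct] at this
  simp only [Matrix.mul_apply, ct_apply, Bf, Bw, Matrix.of_apply, Matrix.zero_apply]
  rw [← this]
  exact Finset.sum_congr rfl fun x _ => mul_comm _ _

theorem ctBe_Bw : ct D b.Be * b.Bw = 0 := by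
  ext i j
  have := b.we j i
  simp only [H, cj, dotProduct] at this
  simp only [Matrix.mul_apply, ct_apply, Be, Bw, Matrix.of_apply, Matrix.zero_apply]
  rw [← this]
  exact Finset.sum_congr rfl fun x _ => mul_comm _ _

theorem ctBf_Bw : ct D b.Bf * b.Bw = 0 := by
  ext i j
  have := b.wf j i
  simp only [H, cj, dotProduct] at this
  simp only [Matrix.mul_apply, ct_apply, Bf, Bw, Matrix.of_apply, Matrix.zero_apply]
  rw [← this]
  exact Finset.sum_congr rfl fun x _ => mul_comm _ _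

theorem ctBw_Bw : ct D b.Bw * b.Bw = 1 := by
  ext i j
  have := b.ww j i
  simp only [H, cj, dotProduct] at this
  simp only [Matrix.mul_apply, ct_apply, Bw, Matrix.of_apply, Matrix.one_apply]
  have h2 : (if i = j then (1 : F) else 0) = if j = i then 1 else 0 := by simp only [eq_comm]
  rw [h2, ← this]
  exact Finset.sum_congr rfl fun x _ => mul_comm _ _

theorem complete_mat : b.Be * ct D b.Bf + b.Bf * ct D b.Be + b.Bw * ct D b.Bw = 1 := by
  apply Matrix.toLin'.injective
  apply LinearMap.ext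
  intro x
  rw [Matrix.toLin'_apply, Matrix.toLin'_one, LinearMap.id_apply, add_mulVec, add_mulVec,
    ← mulVec_mulVec, ← mulVec_mulVec, ← mulVec_mulVec, ctBf_mulVec, ctBe_mulVec, ctBw_mulVec,
    Be_mulVec, Bf_mulVec, Bw_mulVec]
  exact (b.complete x).symm

end Frame

/-- the matrix sending the frame `b'` to the frame `b`, twisted by `g, g', h` -/
def R (b b' : Frame D n k r) (g g' : Matrix (Fin k) (Fin k) F) (h : Matrix (Fin r) (Fin r) F) :
    Matrix (Fin n) (Fin n) F :=
  b.Be * g * ct D b'.Bf + b.Bf * g' * ct D b'.Be + b.Bw * h * ct D b'.Bw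

theorem R_mul (b b' b'' : Frame D n k r) (g g' g₂ g₂' : Matrix (Fin k) (Fin k) F)
    (h h₂ : Matrix (Fin r) (Fin r) F) :
    R b b' g g' h * R b' b'' g₂ g₂' h₂ = R b b'' (g * g₂) (g' * g₂') (h * h₂) := by
  unfold R
  simp only [Matrix.mul_add, Matrix.add_mul]
  have a1 : b.Be * g * ct D b'.Bf * (b'.Be * g₂ * ct D b''.Bf) = b.Be * (g * g₂) * ct D b''.Bf := by
    have : b.Be * g * ct D b'.Bf * (b'.Be * g₂ * ct D b''.Bf) =
        b.Be * g * (ct D b'.Bf * b'.Be) * g₂ * ct D b''.Bf := by simp only [Matrix.mul_assoc]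
    rw [this, b'.ctBf_Be, Matrix.mul_one, Matrix.mul_assoc b.Be]
  have a2 : b.Be * g * ct D b'.Bf * (b'.Bf * g₂' * ct D b''.Be) = 0 := by
    have : b.Be * g * ct D b'.Bf * (b'.Bf * g₂' * ct D b''.Be) =
        b.Be * g * (ct D b'.Bf * b'.Bf) * g₂' * ct D b''.Be := by simp only [Matrix.mul_assoc]
    rw [this, b'.ctBf_Bf, Matrix.mul_zero, Matrix.zero_mul, Matrix.zero_mul]
  have a3 : b.Be * g * ct D b'.Bf * (b'.Bw * h₂ * ct D b''.Bw) = 0 := by
    have : b.Be * g * ct D b'.Bf * (b'.Bw * h₂ * ct D b''.Bw) =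
        b.Be * g * (ct D b'.Bf * b'.Bw) * h₂ * ct D b''.Bw := by simp only [Matrix.mul_assoc]
    rw [this, b'.ctBf_Bw, Matrix.mul_zero, Matrix.zero_mul, Matrix.zero_mul]
  have b1 : b.Bf * g' * ct D b'.Be * (b'.Be * g₂ * ct D b''.Bf) = 0 := by
    have : b.Bf * g' * ct D b'.Be * (b'.Be * g₂ * ct D b''.Bf) =
        b.Bf * g' * (ct D b'.Be * b'.Be) * g₂ * ct D b''.Bf := by simp only [Matrix.mul_assoc]
    rw [this, b'.ctBe_Be, Matrix.mul_zero, Matrix.zero_mul, Matrix.zero_mul]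
  have b2 : b.Bf * g' * ct D b'.Be * (b'.Bf * g₂' * ct D b''.Be) =
      b.Bf * (g' * g₂') * ct D b''.Be := by
    have : b.Bf * g' * ct D b'.Be * (b'.Bf * g₂' * ct D b''.Be) =
        b.Bf * g' * (ct D b'.Be * b'.Bf) * g₂' * ct D b''.Be := by simp only [Matrix.mul_assoc]
    rw [this, b'.ctBe_Bf, Matrix.mul_one, Matrix.mul_assoc b.Bf]
  have b3 : b.Bf * g' * ct D b'.Be * (b'.Bw * h₂ * ct D b''.Bw) = 0 := by
    have : b.Bf * g' * ct D b'.Be * (b'.Bw * h₂ * ct D b''.Bw) =
        b.Bf * g' * (ct D b'.Be * b'.Bw) * h₂ * ct D b''.Bw := by simp only [Matrix.mul_assoc]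
    rw [this, b'.ctBe_Bw, Matrix.mul_zero, Matrix.zero_mul, Matrix.zero_mul]
  have c1 : b.Bw * h * ct D b'.Bw * (b'.Be * g₂ * ct D b''.Bf) = 0 := by
    have : b.Bw * h * ct D b'.Bw * (b'.Be * g₂ * ct D b''.Bf) =
        b.Bw * h * (ct D b'.Bw * b'.Be) * g₂ * ct D b''.Bf := by simp only [Matrix.mul_assoc]
    rw [this, b'.ctBw_Be, Matrix.mul_zero, Matrix.zero_mul, Matrix.zero_mul]
  have c2 : b.Bw * h * ct D b'.Bw * (b'.Bf * g₂' * ct D b''.Be) = 0 := by
    have : b.Bw * h * ct D b'.Bw * (b'.Bf * g₂' * ct D b''.Be) =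
        b.Bw * h * (ct D b'.Bw * b'.Bf) * g₂' * ct D b''.Be := by simp only [Matrix.mul_assoc]
    rw [this, b'.ctBw_Bf, Matrix.mul_zero, Matrix.zero_mul, Matrix.zero_mul]
  have c3 : b.Bw * h * ct D b'.Bw * (b'.Bw * h₂ * ct D b''.Bw) =
      b.Bw * (h * h₂) * ct D b''.Bw := by
    have : b.Bw * h * ct D b'.Bw * (b'.Bw * h₂ * ct D b''.Bw) =
        b.Bw * h * (ct D b'.Bw * b'.Bw) * h₂ * ct D b''.Bw := by simp only [Matrix.mul_assoc]
    rw [this, b'.ctBw_Bw, Matrix.mul_one, Matrix.mul_assoc b.Bw]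
  rw [a1, a2, a3, b1, b2, b3, c1, c2, c3]
  simp only [add_zero, zero_add]

theorem R_one (b : Frame D n k r) : R b b 1 1 1 = 1 := by
  unfold R
  simp only [Matrix.mul_one]
  exact b.complete_mat

theorem ct_R (b b' : Frame D n k r) (g g' : Matrix (Fin k) (Fin k) F)
    (h : Matrix (Fin r) (Fin r) F) :
    ct D (R b b' g g' h) = R b' b (ct D g') (ct D g) (ct D h) := by
  unfold R
  simp only [ct_add, ct_mul, ct_ct, Matrix.mul_assoc]
  abel

/-- unitarity criterion -/
theorem R_unitary (b b' : Frame D n k r) {g g' : Matrix (Fin k) (Fin k) F}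
    {h : Matrix (Fin r) (Fin r) F} (hg : ct D g' * g = 1) (hh : ct D h * h = 1) :
    ct D (R b b' g g' h) * R b b' g g' h = 1 := by
  have hg' : ct D g * g' = 1 := by
    have := congrArg (ct D) hg
    rw [ct_mul, ct_ct, ct_one] at this
    exact this
  rw [ct_R, R_mul, hg, hg', hh, R_one]

theorem R_mulVec (b b' : Frame D n k r) (g g' : Matrix (Fin k) (Fin k) F)
    (h : Matrix (Fin r) (Fin r) F) (x : Fin n → F) :
    R b b' g g' h *ᵥ x = ∑ i, (g *ᵥ fun j => H D x (b'.f j)) i • b.e i +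
      ∑ i, (g' *ᵥ fun j => H D x (b'.e j)) i • b.f i +
      ∑ i, (h *ᵥ fun j => H D x (b'.w j)) i • b.w i := by
  unfold R
  rw [add_mulVec, add_mulVec, ← mulVec_mulVec, ← mulVec_mulVec, ← mulVec_mulVec, ← mulVec_mulVec,
    ← mulVec_mulVec, ← mulVec_mulVec, b'.ctBf_mulVec, b'.ctBe_mulVec, b'.ctBw_mulVec,
    b.Be_mulVec, b.Bf_mulVec, b.Bw_mulVec]

end

section

open Matrix

variable {F : Type*} [Field F] {n q : ℕ} (D : UF F q)

/-- a family of `k` mutually orthogonal hyperbolic pairs -/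
structure PFrame (n k : ℕ) where
  e : Fin k → Fin n → F
  f : Fin k → Fin n → F
  ee : ∀ i j, H D (e i) (e j) = 0
  ff : ∀ i j, H D (f i) (f j) = 0
  ef : ∀ i j, H D (e i) (f j) = if i = j then 1 else 0

variable {D}
variable {k : ℕ}

namespace PFrame

variable (b : PFrame D n k)

theorem fe (i j : Fin k) : H D (b.f i) (b.e j) = if i = j then 1 else 0 := by
  rw [← H_symm, b.ef j i]
  by_cases h : i = j
  · subst h; simp
  · rw [if_neg h, if_neg (Ne.symm h), map_zero]

/-- the projection onto the orthogonal complement -/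
def proj (x : Fin n → F) : Fin n → F :=
  x - ∑ i, H D x (b.f i) • b.e i - ∑ i, H D x (b.e i) • b.f i

theorem H_sum_left {ι : Type*} (s : Finset ι) (v : ι → Fin n → F) (y : Fin n → F) :
    H D (∑ i ∈ s, v i) y = ∑ i ∈ s, H D (v i) y := by
  classical
  induction s using Finset.induction_on with
  | empty => simp [H_zero_left]
  | insert a s ha ih => rw [Finset.sum_insert ha, Finset.sum_insert ha, H_add_left, ih]

theorem H_sum_right {ι : Type*} (s : Finset ι) (v : ι → Fin n → F) (y : Fin n → F) :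
    H D y (∑ i ∈ s, v i) = ∑ i ∈ s, H D y (v i) := by
  classical
  induction s using Finset.induction_on with
  | empty => simp [H_zero_right]
  | insert a s ha ih => rw [Finset.sum_insert ha, Finset.sum_insert ha, H_add_right, ih]

theorem proj_e (x : Fin n → F) (j : Fin k) : H D (b.proj x) (b.e j) = 0 := by
  unfold proj
  rw [H_sub_left, H_sub_left, H_sum_left, H_sum_left]
  simp only [H_smul_left, b.ee, b.fe, mul_zero, Finset.sum_const_zero, sub_zero, mul_ite, mul_one,
    Finset.sum_ite_eq', Finset.mem_univ, if_true, sub_self]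

theorem proj_f (x : Fin n → F) (j : Fin k) : H D (b.proj x) (b.f j) = 0 := by
  unfold proj
  rw [H_sub_left, H_sub_left, H_sum_left, H_sum_left]
  simp only [H_smul_left, b.ff, b.ef, mul_zero, Finset.sum_const_zero, sub_zero, mul_ite, mul_one,
    Finset.sum_ite_eq', Finset.mem_univ, if_true, sub_self]

theorem proj_of_perp {x : Fin n → F} (he : ∀ i, H D x (b.e i) = 0) (hf : ∀ i, H D x (b.f i) = 0) :
    b.proj x = x := by
  unfold proj
  simp [he, hf]

theorem H_proj_of_perp (x : Fin n → F) {y : Fin n → F} (he : ∀ i, H D (b.e i) y = 0)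
    (hf : ∀ i, H D (b.f i) y = 0) : H D (b.proj x) y = H D x y := by
  unfold proj
  rw [H_sub_left, H_sub_left, H_sum_left, H_sum_left]
  simp [H_smul_left, he, hf]

/-- the orthogonal complement of the pairs -/
def Perp (x : Fin n → F) : Prop := (∀ i, H D x (b.e i) = 0) ∧ (∀ i, H D x (b.f i) = 0)

theorem perp_proj (x : Fin n → F) : b.Perp (b.proj x) := ⟨b.proj_e x, b.proj_f x⟩

theorem Perp.smul {x : Fin n → F} (h : b.Perp x) (c : F) : b.Perp (c • x) := by
  constructor
  · intro i; rw [H_smul_left, h.1, mul_zero]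
  · intro i; rw [H_smul_left, h.2, mul_zero]

theorem Perp.add {x y : Fin n → F} (h : b.Perp x) (h' : b.Perp y) : b.Perp (x + y) := by
  constructor
  · intro i; rw [H_add_left, h.1, h'.1, add_zero]
  · intro i; rw [H_add_left, h.2, h'.2, add_zero]

theorem Perp.sub {x y : Fin n → F} (h : b.Perp x) (h' : b.Perp y) : b.Perp (x - y) := by
  constructor
  · intro i; rw [H_sub_left, h.1, h'.1, sub_zero]
  · intro i; rw [H_sub_left, h.2, h'.2, sub_zero]

/-- if the complement is anisotropic, it is spanned by at most one unit vector -/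
theorem exists_unit (haniso : ∀ x, b.Perp x → H D x x = 0 → x = 0) :
    ∃ (r : ℕ) (w : Fin r → Fin n → F), r ≤ 1 ∧ (∀ i, b.Perp (w i)) ∧
      (∀ i j, H D (w i) (w j) = if i = j then 1 else 0) ∧
      ∀ x, b.Perp x → x = ∑ i, H D x (w i) • w i := by
  by_cases h0 : ∀ x, b.Perp x → x = 0
  · refine ⟨0, Fin.elim0, by omega, fun i => i.elim0, fun i => i.elim0, ?_⟩
    intro x hx
    rw [h0 x hx]
    simp
  · push Not at h0
    obtain ⟨x0, hx0, hx0n⟩ := h0
    have hc : H D x0 x0 ≠ 0 := fun h => hx0n (haniso x0 hx0 h)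
    obtain ⟨μ, hμ⟩ := D.nm_surj (H D x0 x0)⁻¹ (by rw [map_inv₀, H_self_fixed]) (inv_ne_zero hc)
    obtain ⟨w0, hw0⟩ : ∃ w0 : Fin n → F, w0 = μ • x0 := ⟨_, rfl⟩
    have hw0p : b.Perp w0 := hw0 ▸ hx0.smul b μ
    have hww : H D w0 w0 = 1 := by
      rw [hw0, H_smul_left, H_smul_right, ← mul_assoc, hμ, inv_mul_cancel₀ hc]
    refine ⟨1, fun _ => w0, le_refl 1, fun _ => hw0p, ?_, ?_⟩
    · intro i j
      rw [Subsingleton.elim i j, if_pos rfl, hww]
    · intro x hx
      rw [Fin.sum_univ_one]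
      by_contra hne
      obtain ⟨y, hy⟩ : ∃ y : Fin n → F, y = x - H D x w0 • w0 := ⟨_, rfl⟩
      have hy0 : y ≠ 0 := fun h => hne (sub_eq_zero.1 (hy ▸ h))
      have hyp : b.Perp y := hy ▸ hx.sub b (hw0p.smul b _)
      have hyw : H D y w0 = 0 := by
        rw [hy, H_sub_left, H_smul_left, hww, mul_one, sub_self]
      have hwy : H D w0 y = 0 := H_eq_zero_symm D hyw
      have hd : H D y y ≠ 0 := fun h => hy0 (haniso y hyp h)
      obtain ⟨ν, hν⟩ := D.nm_surj (-(H D y y)⁻¹) (by rw [map_neg, map_inv₀, H_self_fixed])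
        (neg_ne_zero.2 (inv_ne_zero hd))
      have hz : H D (w0 + ν • y) (w0 + ν • y) = 0 := by
        simp only [H_add_left, H_add_right, H_smul_left, H_smul_right, hww, hyw, hwy, mul_zero,
          add_zero, zero_add]
        rw [← mul_assoc, mul_comm (D.τ ν) ν, hν, neg_mul, inv_mul_cancel₀ hd, add_neg_cancel]
      have hz0 := haniso _ (hw0p.add b (hyp.smul b ν)) hz
      have : H D (w0 + ν • y) w0 = 0 := by rw [hz0, H_zero_left]
      rw [H_add_left, H_smul_left, hww, hyw, mul_zero, add_zero] at this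
      exact one_ne_zero this

/-- completion of a family of hyperbolic pairs with anisotropic complement to a frame -/
theorem exists_frame_of_aniso (haniso : ∀ x, b.Perp x → H D x x = 0 → x = 0) :
    ∃ (r : ℕ) (B : Frame D n k r), r ≤ 1 ∧ B.e = b.e ∧ B.f = b.f := by
  obtain ⟨r, w, hr, hwp, hww, hsp⟩ := b.exists_unit haniso
  refine ⟨r, ⟨b.e, b.f, w, b.ee, b.ff, b.ef, fun i j => (hwp i).1 j, fun i j => (hwp i).2 j, hww,
    ?_⟩, hr, rfl, rfl⟩
  intro x
  have h1 := hsp (b.proj x) (b.perp_proj x)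
  have h2 : ∀ i, H D (b.proj x) (w i) = H D x (w i) := by
    intro i
    apply b.H_proj_of_perp
    · intro j; exact H_eq_zero_symm D ((hwp i).1 j)
    · intro j; exact H_eq_zero_symm D ((hwp i).2 j)
  simp only [h2] at h1
  rw [← h1]
  unfold proj
  abel

end PFrame

end

section

open Matrix

variable {F : Type*} [Field F] {n q : ℕ} {D : UF F q} {k : ℕ}

namespace PFrame

variable (b : PFrame D n k)

/-- the empty family -/
def empty : PFrame D n 0 where
  e := Fin.elim0
  f := Fin.elim0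
  ee i := i.elim0
  ff i := i.elim0
  ef i := i.elim0

/-- extension by a new hyperbolic pair in the complement -/
theorem exists_extend {z : Fin n → F} (hz0 : z ≠ 0) (hzp : b.Perp z) (hz : H D z z = 0) :
    ∃ b' : PFrame D n (k + 1), (∀ i : Fin k, b'.e i.castSucc = b.e i) ∧
      (∀ i : Fin k, b'.f i.castSucc = b.f i) ∧ b'.e (Fin.last k) = z := by
  obtain ⟨g, hgg, hgz, hzg⟩ := exists_partner D hz0 hz
  obtain ⟨g1, hg1⟩ : ∃ g1 : Fin n → F, g1 = b.proj g := ⟨_, rfl⟩
  have hg1p : b.Perp g1 := hg1 ▸ b.perp_proj g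
  have hg1z : H D g1 z = 1 := by
    rw [hg1, b.H_proj_of_perp g (fun i => H_eq_zero_symm D (hzp.1 i))
      (fun i => H_eq_zero_symm D (hzp.2 i)), hgz]
  have hzg1 : H D z g1 = 1 := by
    rw [← H_symm, hg1z, map_one]
  obtain ⟨a, ha⟩ := D.tr_surj (-(H D g1 g1)) (by rw [map_neg, H_self_fixed])
  obtain ⟨z', hz'⟩ : ∃ z' : Fin n → F, z' = g1 + a • z := ⟨_, rfl⟩
  have hz'p : b.Perp z' := hz' ▸ hg1p.add b (hzp.smul b a)
  have hz'z' : H D z' z' = 0 := by
    rw [hz']
    simp only [H_add_left, H_add_right, H_smul_left, H_smul_right, hz, hg1z, hzg1, mul_zero,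
      mul_one, add_zero]
    linear_combination ha
  have hzz' : H D z z' = 1 := by
    rw [hz', H_add_right, H_smul_right, hz, hzg1, mul_zero, add_zero]
  refine ⟨⟨Fin.snoc (α := fun _ => Fin n → F) b.e z, Fin.snoc (α := fun _ => Fin n → F) b.f z',
    ?_, ?_, ?_⟩, ?_, ?_, ?_⟩
  · intro i j
    refine Fin.lastCases ?_ (fun i => ?_) i <;> refine Fin.lastCases ?_ (fun j => ?_) j
    · simp only [Fin.snoc_last]; exact hz
    · simp only [Fin.snoc_last, Fin.snoc_castSucc]; exact hzp.1 j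
    · simp only [Fin.snoc_last, Fin.snoc_castSucc]; exact H_eq_zero_symm D (hzp.1 i)
    · simp only [Fin.snoc_castSucc]; exact b.ee i j
  · intro i j
    refine Fin.lastCases ?_ (fun i => ?_) i <;> refine Fin.lastCases ?_ (fun j => ?_) j
    · simp only [Fin.snoc_last]; exact hz'z'
    · simp only [Fin.snoc_last, Fin.snoc_castSucc]; exact hz'p.2 j
    · simp only [Fin.snoc_last, Fin.snoc_castSucc]; exact H_eq_zero_symm D (hz'p.2 i)
    · simp only [Fin.snoc_castSucc]; exact b.ff i j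
  · intro i j
    refine Fin.lastCases ?_ (fun i => ?_) i <;> refine Fin.lastCases ?_ (fun j => ?_) j
    · simp only [Fin.snoc_last, if_true]; exact hzz'
    · simp only [Fin.snoc_last, Fin.snoc_castSucc]
      rw [if_neg (Fin.castSucc_lt_last j).ne']
      exact hzp.2 j
    · simp only [Fin.snoc_last, Fin.snoc_castSucc]
      rw [if_neg (Fin.castSucc_lt_last i).ne]
      exact H_eq_zero_symm D (hz'p.1 i)
    · simp only [Fin.snoc_castSucc, Fin.castSucc_inj]; exact b.ef i j
  · intro i; simp only [Fin.snoc_castSucc]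
  · intro i; simp only [Fin.snoc_castSucc]
  · simp only [Fin.snoc_last]

/-- the `e i` are linearly independent -/
theorem linearIndependent_e : LinearIndependent F b.e := by
  rw [linearIndependent_iff']
  intro s g hg i hi
  have h1 := congrArg (fun x => H D x (b.f i)) hg
  simp only [H_sum_left, H_smul_left, b.ef, mul_ite, mul_one, mul_zero, H_zero_left] at h1
  rw [Finset.sum_ite_eq' s i g, if_pos hi] at h1
  exact h1

include b in
theorem le_dim : k ≤ n := by
  have := (linearIndependent_e b).fintype_card_le_finrank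
  simpa using this

end PFrame

/-- existence of a frame -/
theorem exists_frame (D : UF F q) (n : ℕ) :
    ∃ (k r : ℕ) (B : Frame D n k r), r ≤ 1 := by
  classical
  -- maximal k with a partial frame
  have hex : ∃ k, Nonempty (PFrame D n k) := ⟨0, ⟨PFrame.empty⟩⟩
  have hbd : ∀ k, Nonempty (PFrame D n k) → k ≤ n := fun k ⟨b⟩ => b.le_dim
  obtain ⟨k, ⟨b⟩, hmax⟩ : ∃ k, Nonempty (PFrame D n k) ∧ ∀ k', Nonempty (PFrame D n k') → k' ≤ k := by
    refine ⟨Nat.findGreatest (fun k => Nonempty (PFrame D n k)) n, ?_, ?_⟩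
    · exact Nat.findGreatest_spec (P := fun k => Nonempty (PFrame D n k)) (Nat.zero_le n)
        ⟨PFrame.empty⟩
    · intro k' hk'
      exact Nat.le_findGreatest (hbd k' hk') hk'
  have haniso : ∀ x, b.Perp x → H D x x = 0 → x = 0 := by
    intro x hxp hx
    by_contra hx0
    obtain ⟨b', -⟩ := b.exists_extend hx0 hxp hx
    have := hmax (k + 1) ⟨b'⟩
    omega
  obtain ⟨r, B, hr, -, -⟩ := b.exists_frame_of_aniso haniso
  exact ⟨k, r, B, hr⟩

namespace Frame

variable {r : ℕ} (b : Frame D n k r)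

include b in
/-- the dimension formula -/
theorem dim_eq : n = 2 * k + r := by
  let B : Matrix (Fin n) ((Fin k ⊕ Fin k) ⊕ Fin r) F := fromCols (fromCols b.Be b.Bf) b.Bw
  let B' : Matrix ((Fin k ⊕ Fin k) ⊕ Fin r) (Fin n) F :=
    fromRows (fromRows (ct D b.Bf) (ct D b.Be)) (ct D b.Bw)
  have h1 : B * B' = 1 := by
    change fromCols (fromCols b.Be b.Bf) b.Bw * fromRows (fromRows (ct D b.Bf) (ct D b.Be)) (ct D b.Bw) = 1
    rw [fromCols_mul_fromRows, fromCols_mul_fromRows]
    exact b.complete_mat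
  have h2 : B' * B = 1 := by
    change fromRows (fromRows (ct D b.Bf) (ct D b.Be)) (ct D b.Bw) * fromCols (fromCols b.Be b.Bf) b.Bw = 1
    rw [fromRows_mul_fromCols, fromRows_mul_fromCols, fromRows_mul, mul_fromCols,
      b.ctBf_Be, b.ctBf_Bf, b.ctBe_Be, b.ctBe_Bf, b.ctBf_Bw, b.ctBe_Bw, b.ctBw_Be, b.ctBw_Bf,
      b.ctBw_Bw, fromRows_zero, fromCols_zero, fromBlocks_one, fromBlocks_one]
  have e : (((Fin k ⊕ Fin k) ⊕ Fin r) → F) ≃ₗ[F] (Fin n → F) :=
    LinearEquiv.ofLinearMap (Matrix.toLin' B) (Matrix.toLin' B')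
      (by rw [← Matrix.toLin'_mul, h1, Matrix.toLin'_one])
      (by rw [← Matrix.toLin'_mul, h2, Matrix.toLin'_one])
  have h3 := e.finrank_eq
  simp only [Module.finrank_fintype_fun_eq_card, Fintype.card_sum, Fintype.card_fin] at h3
  omega

end Frame

end

section

open Matrix

variable {F : Type*} [Field F] {n q : ℕ}

/-- the semilinear map `x ↦ g σ(x)` -/
def smv (g : Matrix (Fin n) (Fin n) F) (σ : F ≃+* F) (x : Fin n → F) : Fin n → F :=
  g *ᵥ (fun i => σ (x i))

theorem smv_add (g : Matrix (Fin n) (Fin n) F) (σ : F ≃+* F) (x y : Fin n → F) :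
    smv g σ (x + y) = smv g σ x + smv g σ y := by
  unfold smv
  rw [← mulVec_add]
  congr 1
  ext i
  simp

theorem smv_smul (g : Matrix (Fin n) (Fin n) F) (σ : F ≃+* F) (c : F) (x : Fin n → F) :
    smv g σ (c • x) = σ c • smv g σ x := by
  unfold smv
  rw [← mulVec_smul]
  congr 1
  ext i
  simp

theorem smv_zero (g : Matrix (Fin n) (Fin n) F) (σ : F ≃+* F) : smv g σ 0 = 0 := by
  unfold smv
  have : (fun i => σ ((0 : Fin n → F) i)) = 0 := by ext i; simp
  rw [this, mulVec_zero]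

theorem smv_neg (g : Matrix (Fin n) (Fin n) F) (σ : F ≃+* F) (x : Fin n → F) :
    smv g σ (-x) = -smv g σ x := by
  have := smv_smul g σ (-1) x
  simpa using this

theorem smv_sub (g : Matrix (Fin n) (Fin n) F) (σ : F ≃+* F) (x y : Fin n → F) :
    smv g σ (x - y) = smv g σ x - smv g σ y := by
  rw [sub_eq_add_neg, smv_add, smv_neg, ← sub_eq_add_neg]

theorem map_mulVec_sig (σ : F ≃+* F) (M : Matrix (Fin n) (Fin n) F) (x : Fin n → F) :
    (fun i => σ ((M *ᵥ x) i)) = (M.map σ) *ᵥ (fun i => σ (x i)) := by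
  ext i
  simp [mulVec, dotProduct, map_sum]

theorem smv_surjective (g : GL (Fin n) F) (σ : F ≃+* F) :
    Function.Surjective (smv (g : Matrix (Fin n) (Fin n) F) σ) := by
  intro x
  refine ⟨fun i => σ.symm ((((g⁻¹ : GL (Fin n) F) : Matrix (Fin n) (Fin n) F) *ᵥ x) i), ?_⟩
  unfold smv
  simp only [RingEquiv.apply_symm_apply]
  rw [mulVec_mulVec, ← Units.val_mul, mul_inv_cancel, Units.val_one, one_mulVec]

theorem smv_injective (g : GL (Fin n) F) (σ : F ≃+* F) :
    Function.Injective (smv (g : Matrix (Fin n) (Fin n) F) σ) := by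
  intro x y h
  unfold smv at h
  have h1 := congrArg (fun v => ((g⁻¹ : GL (Fin n) F) : Matrix (Fin n) (Fin n) F) *ᵥ v) h
  simp only [mulVec_mulVec, ← Units.val_mul, inv_mul_cancel, Units.val_one, one_mulVec] at h1
  ext i
  exact σ.injective (congrFun h1 i)

theorem hermForm_sig (σ : F ≃+* F) (x y : Fin n → F) :
    Cfsg.hermForm n F q (fun i => σ (x i)) (fun i => σ (y i)) = σ (Cfsg.hermForm n F q x y) := by
  simp [Cfsg.hermForm, map_sum]

theorem hermForm_smv {g : GL (Fin n) F} (hg : g ∈ Cfsg.GU n F q) (σ : F ≃+* F) (x y : Fin n → F) :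
    Cfsg.hermForm n F q (smv (g : Matrix (Fin n) (Fin n) F) σ x) (smv (g : Matrix (Fin n) (Fin n) F) σ y) =
      σ (Cfsg.hermForm n F q x y) := by
  unfold smv
  have := hg (fun i => σ (x i)) (fun i => σ (y i))
  rw [← hermForm_sig]
  exact this

/-- the automorphism `s ↦ g σ(s) g⁻¹` of `SL` -/
def semiSL (g : GL (Fin n) F) (σ : F ≃+* F) :
    SpecialLinearGroup (Fin n) F ≃* SpecialLinearGroup (Fin n) F :=
  (AutPSL.fieldAut σ).trans (AutPSL.conjGL g)

theorem semiSL_coe (g : GL (Fin n) F) (σ : F ≃+* F) (s : SpecialLinearGroup (Fin n) F) :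
    ((semiSL g σ s : SpecialLinearGroup (Fin n) F) : Matrix (Fin n) (Fin n) F) =
      (g : Matrix (Fin n) (Fin n) F) * (s : Matrix (Fin n) (Fin n) F).map σ *
        ((g⁻¹ : GL (Fin n) F) : Matrix (Fin n) (Fin n) F) := rfl

theorem semiSL_mulVec (g : GL (Fin n) F) (σ : F ≃+* F) (s : SpecialLinearGroup (Fin n) F)
    (x : Fin n → F) :
    ((semiSL g σ s : SpecialLinearGroup (Fin n) F) : Matrix (Fin n) (Fin n) F) *ᵥ
      smv (g : Matrix (Fin n) (Fin n) F) σ x =
      smv (g : Matrix (Fin n) (Fin n) F) σ ((s : Matrix (Fin n) (Fin n) F) *ᵥ x) := by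
  rw [semiSL_coe]
  unfold smv
  rw [mulVec_mulVec, Matrix.mul_assoc, Matrix.mul_assoc,
    ← Units.val_mul, inv_mul_cancel, Units.val_one, Matrix.mul_one, ← mulVec_mulVec, map_mulVec_sig]

theorem semiSL_mem_iff {g : GL (Fin n) F} (hg : g ∈ Cfsg.GU n F q) (σ : F ≃+* F)
    (s : SpecialLinearGroup (Fin n) F) : semiSL g σ s ∈ Cfsg.SU n F q ↔ s ∈ Cfsg.SU n F q := by
  constructor
  · intro h u v
    apply σ.injective
    have h1 := h (smv (g : Matrix (Fin n) (Fin n) F) σ u) (smv (g : Matrix (Fin n) (Fin n) F) σ v)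
    change Cfsg.hermForm n F q
      (((semiSL g σ s : SpecialLinearGroup (Fin n) F) : Matrix (Fin n) (Fin n) F) *ᵥ _)
      (((semiSL g σ s : SpecialLinearGroup (Fin n) F) : Matrix (Fin n) (Fin n) F) *ᵥ _) = _ at h1
    rw [semiSL_mulVec, semiSL_mulVec, hermForm_smv hg, hermForm_smv hg] at h1
    exact h1
  · intro h u v
    obtain ⟨u, rfl⟩ := smv_surjective g σ u
    obtain ⟨v, rfl⟩ := smv_surjective g σ v
    change Cfsg.hermForm n F q
      (((semiSL g σ s : SpecialLinearGroup (Fin n) F) : Matrix (Fin n) (Fin n) F) *ᵥ _)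
      (((semiSL g σ s : SpecialLinearGroup (Fin n) F) : Matrix (Fin n) (Fin n) F) *ᵥ _) = _
    rw [semiSL_mulVec, semiSL_mulVec, hermForm_smv hg, hermForm_smv hg]
    congr 1
    exact h u v

/-- restriction of an automorphism of `SL` preserving `SU` -/
def restrictSU (e : SpecialLinearGroup (Fin n) F ≃* SpecialLinearGroup (Fin n) F)
    (h : ∀ s, e s ∈ Cfsg.SU n F q ↔ s ∈ Cfsg.SU n F q) :
    ↥(Cfsg.SU n F q) ≃* ↥(Cfsg.SU n F q) where
  toFun s := ⟨e s.1, (h s.1).2 s.2⟩
  invFun s := ⟨e.symm s.1, (h _).1 (by rw [e.apply_symm_apply]; exact s.2)⟩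
  left_inv s := Subtype.ext (e.symm_apply_apply _)
  right_inv s := Subtype.ext (e.apply_symm_apply _)
  map_mul' s t := Subtype.ext (map_mul e _ _)

/-- the automorphism `s ↦ g σ(s) g⁻¹` of `SU` -/
def semiSU {g : GL (Fin n) F} (hg : g ∈ Cfsg.GU n F q) (σ : F ≃+* F) :
    ↥(Cfsg.SU n F q) ≃* ↥(Cfsg.SU n F q) :=
  restrictSU (semiSL g σ) (semiSL_mem_iff hg σ)

theorem mat_semiSU {g : GL (Fin n) F} (hg : g ∈ Cfsg.GU n F q) (σ : F ≃+* F)
    (s : ↥(Cfsg.SU n F q)) :
    mat (semiSU hg σ s) = (g : Matrix (Fin n) (Fin n) F) * (mat s).map σ *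
        ((g⁻¹ : GL (Fin n) F) : Matrix (Fin n) (Fin n) F) := rfl

theorem sv_semiSU {g : GL (Fin n) F} (hg : g ∈ Cfsg.GU n F q) (σ : F ≃+* F)
    (s : ↥(Cfsg.SU n F q)) (x : Fin n → F) :
    sv (semiSU hg σ s) (smv (g : Matrix (Fin n) (Fin n) F) σ x) =
      smv (g : Matrix (Fin n) (Fin n) F) σ (sv s x) :=
  semiSL_mulVec g σ s.1 x

/-- descend an automorphism of `SU` to `PSU` -/
noncomputable def descU (e : ↥(Cfsg.SU n F q) ≃* ↥(Cfsg.SU n F q)) :
    Cfsg.PSU n F q ≃* Cfsg.PSU n F q :=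
  QuotientGroup.congr _ _ e (AutPSL.map_center_eq e)

theorem descU_pr (e : ↥(Cfsg.SU n F q) ≃* ↥(Cfsg.SU n F q)) (s : ↥(Cfsg.SU n F q)) :
    descU e (pr s) = pr (e s) := by
  unfold descU pr
  rw [QuotientGroup.mk'_apply, QuotientGroup.congr_mk]
  rfl

/-- the automorphism of `PSU` induced by `x ↦ g σ(x)` -/
noncomputable def cU {g : GL (Fin n) F} (hg : g ∈ Cfsg.GU n F q) (σ : F ≃+* F) :
    Cfsg.PSU n F q ≃* Cfsg.PSU n F q := descU (semiSU hg σ)

theorem cU_pr {g : GL (Fin n) F} (hg : g ∈ Cfsg.GU n F q) (σ : F ≃+* F) (s : ↥(Cfsg.SU n F q)) :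
    cU hg σ (pr s) = pr (semiSU hg σ s) := descU_pr _ s

theorem isInduced_cU {g : GL (Fin n) F} (hg : g ∈ Cfsg.GU n F q) (σ : F ≃+* F) :
    Cfsg.IsInducedBySemilinearPSU g σ (cU hg σ) := by
  intro s s' h
  have : s' = semiSU hg σ s := by
    apply Subtype.ext
    apply Subtype.ext
    rw [h]
    rfl
  rw [this]
  exact cU_pr hg σ s

end

section

open Matrix

variable {F : Type*} [Field F] {n q : ℕ} (D : UF F q)

theorem tau_sig (σ : F ≃+* F) (a : F) : D.τ (σ a) = σ (D.τ a) := by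
  rw [D.hτ, D.hτ, map_pow]

theorem Skew.sig {a : F} (ha : Skew D a) (σ : F ≃+* F) : Skew D (σ a) := by
  have ha' : D.τ a = -a := ha
  change D.τ (σ a) = -σ a
  rw [tau_sig, ha', map_neg]

theorem H_smv {g : GL (Fin n) F} (hg : g ∈ Cfsg.GU n F q) (σ : F ≃+* F) (x y : Fin n → F) :
    H D (smv (g : Matrix (Fin n) (Fin n) F) σ x) (smv (g : Matrix (Fin n) (Fin n) F) σ y) =
      σ (H D x y) := by
  rw [H_eq_hermForm, H_eq_hermForm, hermForm_smv hg]

theorem ELOK.smv {e w : Fin n → F} {b : F} (h : ELOK D e w b) {g : GL (Fin n) F}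
    (hg : g ∈ Cfsg.GU n F q) (σ : F ≃+* F) :
    ELOK D (smv (g : Matrix (Fin n) (Fin n) F) σ e) (smv (g : Matrix (Fin n) (Fin n) F) σ w) (σ b) := by
  obtain ⟨h1, h2, h3⟩ := h
  refine ⟨?_, ?_, ?_⟩
  · rw [H_smv D hg, h1, map_zero]
  · rw [H_smv D hg, h2, map_zero]
  · rw [H_smv D hg, tau_sig, ← map_add, ← map_add, h3, map_zero]

theorem semiSU_EL {e w : Fin n → F} {b : F} (h : ELOK D e w b) {g : GL (Fin n) F}
    (hg : g ∈ Cfsg.GU n F q) (σ : F ≃+* F) :
    semiSU hg σ (EL D e w b) =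
      EL D (smv (g : Matrix (Fin n) (Fin n) F) σ e) (smv (g : Matrix (Fin n) (Fin n) F) σ w) (σ b) := by
  apply ext_sv
  intro y
  obtain ⟨x, rfl⟩ := smv_surjective g σ y
  rw [sv_semiSU, sv_EL D h, sv_EL D (h.smv D hg σ)]
  simp only [smv_add, smv_sub, smv_smul, H_smv D hg, map_mul]

theorem semiSU_tr {e : Fin n → F} {a : F} (he : H D e e = 0) (ha : Skew D a) {g : GL (Fin n) F}
    (hg : g ∈ Cfsg.GU n F q) (σ : F ≃+* F) :
    semiSU hg σ (EL D e 0 a) = EL D (smv (g : Matrix (Fin n) (Fin n) F) σ e) 0 (σ a) := by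
  rw [semiSU_EL D ((ELOK_zero_iff D).2 ⟨he, ha⟩) hg σ, smv_zero]

/-- the image of a transvection subgroup under a semilinear automorphism -/
theorem map_cU_Tb {e : Fin n → F} (he : H D e e = 0) {g : GL (Fin n) F}
    (hg : g ∈ Cfsg.GU n F q) (σ : F ≃+* F) :
    (Tb D e).map (cU hg σ).toMonoidHom = Tb D (smv (g : Matrix (Fin n) (Fin n) F) σ e) := by
  have he' : H D (smv (g : Matrix (Fin n) (Fin n) F) σ e) (smv (g : Matrix (Fin n) (Fin n) F) σ e) = 0 := by
    rw [H_smv D hg, he, map_zero]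
  ext y
  rw [Subgroup.mem_map]
  constructor
  · rintro ⟨x, hx, rfl⟩
    obtain ⟨a, ha, rfl⟩ := (mem_Tb D he).1 hx
    change cU hg σ (pr (EL D e 0 a)) ∈ _
    rw [cU_pr, semiSU_tr D he ha]
    exact (mem_Tb D he').2 ⟨σ a, ha.sig D σ, rfl⟩
  · intro hy
    obtain ⟨a, ha, rfl⟩ := (mem_Tb D he').1 hy
    refine ⟨pr (EL D e 0 (σ.symm a)), (mem_Tb D he).2 ⟨σ.symm a, ?_, rfl⟩, ?_⟩
    · have := ha.sig D σ.symm
      exact this
    · change cU hg σ (pr (EL D e 0 (σ.symm a))) = _
      have h1 : Skew D (σ.symm a) := ha.sig D σ.symm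
      rw [cU_pr, semiSU_tr D he h1, RingEquiv.apply_symm_apply]

end

end Cfsg.Agent.Lib.H13.AutPSU
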