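import Mathlib
import Cfsg.Agent.Lib.H13.AutPSU3
import Cfsg.Agent.Lib.H13.AutPSLGraphField

/-!
Automorphisms of `PSU_n(q)`, part 4: unitary block matrices, images of points, normalising a frame, the Levi subgroup `SL_k(q^2)`.
-/

set_option autoImplicit false
set_option linter.unusedSectionVars false
set_option linter.unusedVariables false
set_option linter.unusedSimpArgs false
set_option linter.deprecated false

namespace Cfsg.Agent.Lib.H13.AutPSU

section

open Matrix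

variable {F : Type*} [Field F] {n q : ℕ} {D : UF F q} {k r : ℕ}

/-- membership in `GU` in terms of the conjugate transpose -/
theorem mem_GU_iff_ct (g : GL (Fin n) F) :
    g ∈ Cfsg.GU n F q ↔ ct D (g : Matrix (Fin n) (Fin n) F) * (g : Matrix (Fin n) (Fin n) F) = 1 := by
  rw [AutPSL.mem_GU_iff_mat D.τ D.hτ]
  constructor
  · intro h
    have := congrArg Matrix.transpose h
    rw [Matrix.transpose_mul, Matrix.transpose_transpose, Matrix.transpose_one] at this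
    exact this
  · intro h
    have := congrArg Matrix.transpose h
    rw [Matrix.transpose_mul, Matrix.transpose_one] at this
    unfold ct at this
    rw [Matrix.transpose_transpose] at this
    exact this

/-- an invertible matrix from a two-sided inverse -/
def mkGL (M M' : Matrix (Fin n) (Fin n) F) (h : M * M' = 1) (h' : M' * M = 1) : GL (Fin n) F :=
  ⟨M, M', h, h'⟩

@[simp] theorem mkGL_coe (M M' : Matrix (Fin n) (Fin n) F) (h : M * M' = 1) (h' : M' * M = 1) :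
    ((mkGL M M' h h' : GL (Fin n) F) : Matrix (Fin n) (Fin n) F) = M := rfl

/-- the unitary matrix sending the frame `b'` to `b`, twisted by `g` on `E` and `h` on `W` -/
def RU (b b' : Frame D n k r) (g gi : Matrix (Fin k) (Fin k) F) (h hi : Matrix (Fin r) (Fin r) F)
    (hg : g * gi = 1) (hg' : gi * g = 1) (hh : h * hi = 1) (hh' : hi * h = 1) : GL (Fin n) F :=
  mkGL (R b b' g (ct D gi) h) (R b' b gi (ct D g) hi)
    (by rw [R_mul, hg, ← ct_mul, hg, hh, ct_one, R_one])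
    (by rw [R_mul, hg', ← ct_mul, hg', hh', ct_one, R_one])

theorem RU_coe (b b' : Frame D n k r) (g gi : Matrix (Fin k) (Fin k) F) (h hi : Matrix (Fin r) (Fin r) F)
    (hg : g * gi = 1) (hg' : gi * g = 1) (hh : h * hi = 1) (hh' : hi * h = 1) :
    ((RU b b' g gi h hi hg hg' hh hh' : GL (Fin n) F) : Matrix (Fin n) (Fin n) F) =
      R b b' g (ct D gi) h := rfl

theorem RU_mem (b b' : Frame D n k r) (g gi : Matrix (Fin k) (Fin k) F) (h hi : Matrix (Fin r) (Fin r) F)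
    (hg : g * gi = 1) (hg' : gi * g = 1) (hh : h * hi = 1) (hh' : hi * h = 1)
    (hu : ct D h * h = 1) :
    RU b b' g gi h hi hg hg' hh hh' ∈ Cfsg.GU n F q := by
  rw [mem_GU_iff_ct (D := D), RU_coe]
  apply R_unitary
  · rw [ct_ct, hg']
  · exact hu

/-- action of `R` on the frame vectors -/
theorem R_mulVec_e (b b' : Frame D n k r) (g g' : Matrix (Fin k) (Fin k) F)
    (h : Matrix (Fin r) (Fin r) F) (a : Fin k → F) :
    R b b' g g' h *ᵥ (b'.Be *ᵥ a) = b.Be *ᵥ (g *ᵥ a) := by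
  unfold R
  rw [add_mulVec, add_mulVec, mulVec_mulVec, mulVec_mulVec, mulVec_mulVec]
  have h1 : b.Be * g * ct D b'.Bf * b'.Be = b.Be * g := by
    rw [Matrix.mul_assoc, b'.ctBf_Be, Matrix.mul_one]
  have h2 : b.Bf * g' * ct D b'.Be * b'.Be = 0 := by
    rw [Matrix.mul_assoc, b'.ctBe_Be, Matrix.mul_zero]
  have h3 : b.Bw * h * ct D b'.Bw * b'.Be = 0 := by
    rw [Matrix.mul_assoc, b'.ctBw_Be, Matrix.mul_zero]
  rw [h1, h2, h3, zero_mulVec, add_zero, add_zero, mulVec_mulVec]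

theorem R_mulVec_f (b b' : Frame D n k r) (g g' : Matrix (Fin k) (Fin k) F)
    (h : Matrix (Fin r) (Fin r) F) (a : Fin k → F) :
    R b b' g g' h *ᵥ (b'.Bf *ᵥ a) = b.Bf *ᵥ (g' *ᵥ a) := by
  unfold R
  rw [add_mulVec, add_mulVec, mulVec_mulVec, mulVec_mulVec, mulVec_mulVec]
  have h1 : b.Be * g * ct D b'.Bf * b'.Bf = 0 := by
    rw [Matrix.mul_assoc, b'.ctBf_Bf, Matrix.mul_zero]
  have h2 : b.Bf * g' * ct D b'.Be * b'.Bf = b.Bf * g' := by
    rw [Matrix.mul_assoc, b'.ctBe_Bf, Matrix.mul_one]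
  have h3 : b.Bw * h * ct D b'.Bw * b'.Bf = 0 := by
    rw [Matrix.mul_assoc, b'.ctBw_Bf, Matrix.mul_zero]
  rw [h1, h2, h3, zero_mulVec, add_zero, zero_add, mulVec_mulVec]

theorem R_mulVec_w (b b' : Frame D n k r) (g g' : Matrix (Fin k) (Fin k) F)
    (h : Matrix (Fin r) (Fin r) F) (a : Fin r → F) :
    R b b' g g' h *ᵥ (b'.Bw *ᵥ a) = b.Bw *ᵥ (h *ᵥ a) := by
  unfold R
  rw [add_mulVec, add_mulVec, mulVec_mulVec, mulVec_mulVec, mulVec_mulVec]
  have h1 : b.Be * g * ct D b'.Bf * b'.Bw = 0 := by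
    rw [Matrix.mul_assoc, b'.ctBf_Bw, Matrix.mul_zero]
  have h2 : b.Bf * g' * ct D b'.Be * b'.Bw = 0 := by
    rw [Matrix.mul_assoc, b'.ctBe_Bw, Matrix.mul_zero]
  have h3 : b.Bw * h * ct D b'.Bw * b'.Bw = b.Bw * h := by
    rw [Matrix.mul_assoc, b'.ctBw_Bw, Matrix.mul_one]
  rw [h1, h2, h3, zero_mulVec, zero_add, zero_add, mulVec_mulVec]

theorem R_mulVec_e_single (b b' : Frame D n k r) (g g' : Matrix (Fin k) (Fin k) F)
    (h : Matrix (Fin r) (Fin r) F) (i : Fin k) :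
    R b b' g g' h *ᵥ (b'.e i) = b.Be *ᵥ (g *ᵥ Pi.single i 1) := by
  rw [← b'.Be_single, R_mulVec_e]

theorem R_mulVec_f_single (b b' : Frame D n k r) (g g' : Matrix (Fin k) (Fin k) F)
    (h : Matrix (Fin r) (Fin r) F) (i : Fin k) :
    R b b' g g' h *ᵥ (b'.f i) = b.Bf *ᵥ (g' *ᵥ Pi.single i 1) := by
  rw [← b'.Bf_single, R_mulVec_f]

theorem R_mulVec_w_single (b b' : Frame D n k r) (g g' : Matrix (Fin k) (Fin k) F)
    (h : Matrix (Fin r) (Fin r) F) (i : Fin r) :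
    R b b' g g' h *ᵥ (b'.w i) = b.Bw *ᵥ (h *ᵥ Pi.single i 1) := by
  rw [← b'.Bw_single, R_mulVec_w]

/-- recovering the blocks -/
theorem ctBf_R_Be (b : Frame D n k r) (g g' : Matrix (Fin k) (Fin k) F)
    (h : Matrix (Fin r) (Fin r) F) : ct D b.Bf * R b b g g' h * b.Be = g := by
  unfold R
  simp only [Matrix.mul_add, Matrix.add_mul]
  have h1 : ct D b.Bf * (b.Be * g * ct D b.Bf) * b.Be = g := by
    have : ct D b.Bf * (b.Be * g * ct D b.Bf) * b.Be =
        (ct D b.Bf * b.Be) * g * (ct D b.Bf * b.Be) := by simp only [Matrix.mul_assoc]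
    rw [this, b.ctBf_Be, Matrix.one_mul, Matrix.mul_one]
  have h2 : ct D b.Bf * (b.Bf * g' * ct D b.Be) * b.Be = 0 := by
    have : ct D b.Bf * (b.Bf * g' * ct D b.Be) * b.Be =
        (ct D b.Bf * b.Bf) * g' * (ct D b.Be * b.Be) := by simp only [Matrix.mul_assoc]
    rw [this, b.ctBf_Bf, Matrix.zero_mul, Matrix.zero_mul]
  have h3 : ct D b.Bf * (b.Bw * h * ct D b.Bw) * b.Be = 0 := by
    have : ct D b.Bf * (b.Bw * h * ct D b.Bw) * b.Be =
        (ct D b.Bf * b.Bw) * h * (ct D b.Bw * b.Be) := by simp only [Matrix.mul_assoc]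
    rw [this, b.ctBf_Bw, Matrix.zero_mul, Matrix.zero_mul]
  rw [h1, h2, h3, add_zero, add_zero]

theorem ctBe_R_Bf (b : Frame D n k r) (g g' : Matrix (Fin k) (Fin k) F)
    (h : Matrix (Fin r) (Fin r) F) : ct D b.Be * R b b g g' h * b.Bf = g' := by
  unfold R
  simp only [Matrix.mul_add, Matrix.add_mul]
  have h1 : ct D b.Be * (b.Be * g * ct D b.Bf) * b.Bf = 0 := by
    have : ct D b.Be * (b.Be * g * ct D b.Bf) * b.Bf =
        (ct D b.Be * b.Be) * g * (ct D b.Bf * b.Bf) := by simp only [Matrix.mul_assoc]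
    rw [this, b.ctBe_Be, Matrix.zero_mul, Matrix.zero_mul]
  have h2 : ct D b.Be * (b.Bf * g' * ct D b.Be) * b.Bf = g' := by
    have : ct D b.Be * (b.Bf * g' * ct D b.Be) * b.Bf =
        (ct D b.Be * b.Bf) * g' * (ct D b.Be * b.Bf) := by simp only [Matrix.mul_assoc]
    rw [this, b.ctBe_Bf, Matrix.one_mul, Matrix.mul_one]
  have h3 : ct D b.Be * (b.Bw * h * ct D b.Bw) * b.Bf = 0 := by
    have : ct D b.Be * (b.Bw * h * ct D b.Bw) * b.Bf =
        (ct D b.Be * b.Bw) * h * (ct D b.Bw * b.Bf) := by simp only [Matrix.mul_assoc]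
    rw [this, b.ctBe_Bw, Matrix.zero_mul, Matrix.zero_mul]
  rw [h1, h2, h3, add_zero, zero_add]

theorem ctBw_R_Bw (b : Frame D n k r) (g g' : Matrix (Fin k) (Fin k) F)
    (h : Matrix (Fin r) (Fin r) F) : ct D b.Bw * R b b g g' h * b.Bw = h := by
  unfold R
  simp only [Matrix.mul_add, Matrix.add_mul]
  have h1 : ct D b.Bw * (b.Be * g * ct D b.Bf) * b.Bw = 0 := by
    have : ct D b.Bw * (b.Be * g * ct D b.Bf) * b.Bw =
        (ct D b.Bw * b.Be) * g * (ct D b.Bf * b.Bw) := by simp only [Matrix.mul_assoc]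
    rw [this, b.ctBw_Be, Matrix.zero_mul, Matrix.zero_mul]
  have h2 : ct D b.Bw * (b.Bf * g' * ct D b.Be) * b.Bw = 0 := by
    have : ct D b.Bw * (b.Bf * g' * ct D b.Be) * b.Bw =
        (ct D b.Bw * b.Bf) * g' * (ct D b.Be * b.Bw) := by simp only [Matrix.mul_assoc]
    rw [this, b.ctBw_Bf, Matrix.zero_mul, Matrix.zero_mul]
  have h3 : ct D b.Bw * (b.Bw * h * ct D b.Bw) * b.Bw = h := by
    have : ct D b.Bw * (b.Bw * h * ct D b.Bw) * b.Bw =
        (ct D b.Bw * b.Bw) * h * (ct D b.Bw * b.Bw) := by simp only [Matrix.mul_assoc]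
    rw [this, b.ctBw_Bw, Matrix.one_mul, Matrix.mul_one]
  rw [h1, h2, h3, zero_add, zero_add]

/-- the determinant of a block matrix in a frame -/
theorem det_R (b : Frame D n k r) (g g' : Matrix (Fin k) (Fin k) F)
    (h : Matrix (Fin r) (Fin r) F) : (R b b g g' h).det = g.det * g'.det * h.det := by
  let B : Matrix (Fin n) ((Fin k ⊕ Fin k) ⊕ Fin r) F := fromCols (fromCols b.Be b.Bf) b.Bw
  let B' : Matrix ((Fin k ⊕ Fin k) ⊕ Fin r) (Fin n) F :=
    fromRows (fromRows (ct D b.Bf) (ct D b.Be)) (ct D b.Bw)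
  have h1 : B * B' = 1 := by
    change fromCols (fromCols b.Be b.Bf) b.Bw * fromRows (fromRows (ct D b.Bf) (ct D b.Be)) (ct D b.Bw) = 1
    rw [fromCols_mul_fromRows, fromCols_mul_fromRows]
    exact b.complete_mat
  have h2 : B' * B = 1 := by
    change fromRows (fromRows (ct D b.Bf) (ct D b.Be)) (ct D b.Bw) * fromCols (fromCols b.Be b.Bf) b.Bw = 1
    rw [fromRows_mul_fromCols, fromRows_mul_fromCols, fromRows_mul, mul_fromCols,
      b.ctBf_Be, b.ctBf_Bf, b.ctBe_Be, b.ctBe_Bf, b.ctBf_Bw, b.ctBe_Bw, b.ctBw_Be, b.ctBw_Bf,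
      b.ctBw_Bw, fromRows_zero, fromCols_zero, fromBlocks_one, fromBlocks_one]
  have h3 : R b b g g' h = B * fromBlocks (fromBlocks g 0 0 g') 0 0 h * B' := by
    change _ = fromCols (fromCols b.Be b.Bf) b.Bw * fromBlocks (fromBlocks g 0 0 g') 0 0 h *
      fromRows (fromRows (ct D b.Bf) (ct D b.Be)) (ct D b.Bw)
    rw [fromCols_mul_fromBlocks, fromCols_mul_fromBlocks, fromCols_mul_fromRows]
    simp only [Matrix.mul_zero, add_zero, zero_add]
    rw [fromCols_mul_fromRows]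
    rfl
  rw [h3, det_conj_of_mul_eq_one h1 h2, det_fromBlocks_zero₂₁, det_fromBlocks_zero₂₁]

end

section

open Matrix

variable {F : Type*} [Field F] {n q : ℕ} (D : UF F q)

/-- `θ` sends the transvection group with centre `e` to that with centre `e'` -/
def Img (θ : Cfsg.PSU n F q ≃* Cfsg.PSU n F q) (e e' : Fin n → F) : Prop :=
  (Tb D e).map θ.toMonoidHom = Tb D e'

variable {D}

theorem Img.symm {θ : Cfsg.PSU n F q ≃* Cfsg.PSU n F q} {e e' : Fin n → F} (h : Img D θ e e') :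
    Img D θ.symm e' e := by
  unfold Img at h ⊢
  rw [← h]
  ext x
  simp only [Subgroup.mem_map]
  constructor
  · rintro ⟨y, ⟨z, hz, rfl⟩, rfl⟩
    have : θ.symm.toMonoidHom (θ.toMonoidHom z) = z := θ.symm_apply_apply z
    rw [this]; exact hz
  · intro hx
    exact ⟨θ x, ⟨x, hx, rfl⟩, θ.symm_apply_apply x⟩

theorem Img.trans {θ θ' : Cfsg.PSU n F q ≃* Cfsg.PSU n F q} {e e' e'' : Fin n → F}
    (h : Img D θ e e') (h' : Img D θ' e' e'') : Img D (θ.trans θ') e e'' := by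
  unfold Img at h h' ⊢
  rw [← h', ← h, Subgroup.map_map]
  rfl

theorem Img.refl (e : Fin n → F) : Img D (MulEquiv.refl _) e e := by
  unfold Img
  exact Subgroup.map_id _

theorem img_cU {e : Fin n → F} (he : H D e e = 0) {g : GL (Fin n) F}
    (hg : g ∈ Cfsg.GU n F q) (σ : F ≃+* F) :
    Img D (cU hg σ) e (smv (g : Matrix (Fin n) (Fin n) F) σ e) := map_cU_Tb D he hg σ

theorem Img.par_right {θ : Cfsg.PSU n F q ≃* Cfsg.PSU n F q} {e e' e'' : Fin n → F}
    (h : Img D θ e e') (he' : H D e' e' = 0) (hp : Par e' e'') : Img D θ e e'' := by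
  unfold Img at h ⊢
  rw [h, Tb_par D he' hp]

theorem Img.par_left {θ : Cfsg.PSU n F q ≃* Cfsg.PSU n F q} {e e' e'' : Fin n → F}
    (h : Img D θ e e') (he : H D e e = 0) (hp : Par e e'') : Img D θ e'' e' := by
  unfold Img at h ⊢
  rw [Tb_par D he hp, h]

theorem Img.unique (hn : 3 ≤ n) {θ : Cfsg.PSU n F q ≃* Cfsg.PSU n F q} {e e' e'' : Fin n → F}
    (h : Img D θ e e') (h' : Img D θ e e'') (he0' : e' ≠ 0) (he' : H D e' e' = 0)
    (he0'' : e'' ≠ 0) (he'' : H D e'' e'' = 0) : Par e' e'' := by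
  unfold Img at h h'
  rw [← Tb_eq_iff D hn he0' he' he0'' he'', ← h, ← h']

/-- equivariance of the point map -/
theorem img_sv {θ : Cfsg.PSU n F q ≃* Cfsg.PSU n F q} {e e' : Fin n → F}
    (h : Img D θ e e') (he : H D e e = 0) (he' : H D e' e' = 0)
    {s t : ↥(Cfsg.SU n F q)} (hst : θ (pr s) = pr t) : Img D θ (sv s e) (sv t e') := by
  unfold Img at h ⊢
  rw [← conj_Tb D he s, ← conj_Tb D he' t, ← h]
  ext y
  simp only [Subgroup.mem_map]
  constructor
  · rintro ⟨x, ⟨z, hz, rfl⟩, rfl⟩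
    refine ⟨θ z, ⟨z, hz, rfl⟩, ?_⟩
    change pr t * θ z * (pr t)⁻¹ = θ (pr s * z * (pr s)⁻¹)
    rw [map_mul, map_mul, map_inv, hst]
  · rintro ⟨x, ⟨z, hz, rfl⟩, rfl⟩
    refine ⟨pr s * z * (pr s)⁻¹, ⟨z, hz, rfl⟩, ?_⟩
    change θ (pr s * z * (pr s)⁻¹) = pr t * θ z * (pr t)⁻¹
    rw [map_mul, map_mul, map_inv, hst]

variable [Fintype F] (p : ℕ) [Fact p.Prime] [CharP F p]

include p in
theorem exists_img (hn : 3 ≤ n) (θ : Cfsg.PSU n F q ≃* Cfsg.PSU n F q) {e : Fin n → F}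
    (he0 : e ≠ 0) (he : H D e e = 0) :
    ∃ e' : Fin n → F, e' ≠ 0 ∧ H D e' e' = 0 ∧ Img D θ e e' := image_Tb D p hn θ he0 he

include p in
theorem Img.perp (hn : 3 ≤ n) {θ : Cfsg.PSU n F q ≃* Cfsg.PSU n F q} {e e' e1 e1' : Fin n → F}
    (h : Img D θ e e1) (h' : Img D θ e' e1')
    (he0 : e ≠ 0) (he : H D e e = 0) (he0' : e' ≠ 0) (he' : H D e' e' = 0)
    (he01 : e1 ≠ 0) (he1 : H D e1 e1 = 0) (he01' : e1' ≠ 0) (he1' : H D e1' e1' = 0) :
    H D e e' = 0 ↔ H D e1 e1' = 0 :=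
  perp_image D p hn θ he0 he he0' he' he01 he1 he01' he1' h h'

/-- an automorphism fixing all points is the identity -/
theorem eq_refl_of_img (hn : 3 ≤ n) (θ : Cfsg.PSU n F q ≃* Cfsg.PSU n F q)
    (h : ∀ e : Fin n → F, e ≠ 0 → H D e e = 0 → Img D θ e e) : θ = MulEquiv.refl _ :=
  eq_refl_of_fix D hn θ h

end

section

open Matrix

variable {F : Type*} [Field F] {n q : ℕ} {D : UF F q} {k r : ℕ}

theorem smv_refl (g : Matrix (Fin n) (Fin n) F) (x : Fin n → F) :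
    smv g (RingEquiv.refl F) x = g *ᵥ x := rfl

namespace Frame

variable (b : Frame D n k r)

theorem H_expand (x y : Fin n → F) :
    H D x y = ∑ i, H D x (b.f i) * H D (b.e i) y + ∑ i, H D x (b.e i) * H D (b.f i) y +
      ∑ j, H D x (b.w j) * H D (b.w j) y := by
  conv_lhs => rw [b.complete x]
  rw [H_add_left, H_add_left, PFrame.H_sum_left, PFrame.H_sum_left, PFrame.H_sum_left]
  simp only [H_smul_left]

theorem e_ne_zero (i : Fin k) : b.e i ≠ 0 := by
  intro h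
  have := b.ef i i
  rw [h, H_zero_left, if_pos rfl] at this
  exact zero_ne_one this

theorem f_ne_zero (i : Fin k) : b.f i ≠ 0 := by
  intro h
  have := b.ef i i
  rw [h, H_zero_right, if_pos rfl] at this
  exact zero_ne_one this

/-- an isotropic vector orthogonal to all `e i` has no `w`-component -/
theorem w_comp_of_perp_e (hr : r ≤ 1) {x : Fin n → F} (hx : H D x x = 0)
    (he : ∀ i, H D x (b.e i) = 0) (j : Fin r) : H D x (b.w j) = 0 := by
  have h1 := b.H_expand x x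
  have he' : ∀ i, H D (b.e i) x = 0 := fun i => H_eq_zero_symm D (he i)
  simp only [he, he', mul_zero, zero_mul, Finset.sum_const_zero, zero_add, hx] at h1
  have hr1 : r = 1 := by
    have := j.isLt
    omega
  subst hr1
  rw [Fin.sum_univ_one] at h1
  have hj : j = 0 := Subsingleton.elim _ _
  subst hj
  have h2 : H D x (b.w 0) * D.τ (H D x (b.w 0)) = 0 := by
    rw [H_symm]; exact h1.symm
  rcases mul_eq_zero.1 h2 with h3 | h3
  · exact h3
  · have := congrArg D.τ h3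
    rw [D.hτ2, map_zero] at this
    exact this

theorem w_comp_of_perp_f (hr : r ≤ 1) {x : Fin n → F} (hx : H D x x = 0)
    (hf : ∀ i, H D x (b.f i) = 0) (j : Fin r) : H D x (b.w j) = 0 := by
  have h1 := b.H_expand x x
  have hf' : ∀ i, H D (b.f i) x = 0 := fun i => H_eq_zero_symm D (hf i)
  simp only [hf, hf', mul_zero, zero_mul, Finset.sum_const_zero, zero_add, hx] at h1
  have hr1 : r = 1 := by
    have := j.isLt
    omega
  subst hr1
  rw [Fin.sum_univ_one] at h1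
  have hj : j = 0 := Subsingleton.elim _ _
  subst hj
  have h2 : H D x (b.w 0) * D.τ (H D x (b.w 0)) = 0 := by
    rw [H_symm]; exact h1.symm
  rcases mul_eq_zero.1 h2 with h3 | h3
  · exact h3
  · have := congrArg D.τ h3
    rw [D.hτ2, map_zero] at this
    exact this

/-- an isotropic vector orthogonal to all pairs is zero -/
theorem eq_zero_of_perp (hr : r ≤ 1) {x : Fin n → F} (hx : H D x x = 0)
    (he : ∀ i, H D x (b.e i) = 0) (hf : ∀ i, H D x (b.f i) = 0) : x = 0 := by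
  rw [b.complete x]
  simp only [he, hf, b.w_comp_of_perp_e hr hx he, zero_smul, Finset.sum_const_zero, add_zero]

/-- the underlying partial frame -/
def toPFrame : PFrame D n k := ⟨b.e, b.f, b.ee, b.ff, b.ef⟩

end Frame

variable [Fintype F] (p : ℕ) [Fact p.Prime] [CharP F p]

include p in
/-- an automorphism can be moved by an element of `GU` to fix the points of a frame -/
theorem exists_frame_fix (hn : 3 ≤ n) (B : Frame D n k r) (hr : r ≤ 1)
    (θ : Cfsg.PSU n F q ≃* Cfsg.PSU n F q) :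
    ∃ (g : GL (Fin n) F) (hg : g ∈ Cfsg.GU n F q),
      (∀ i, Img D (θ.trans (cU hg (RingEquiv.refl F)).symm) (B.e i) (B.e i)) ∧
      (∀ i, Img D (θ.trans (cU hg (RingEquiv.refl F)).symm) (B.f i) (B.f i)) := by
  classical
  have hE := fun i => exists_img (D := D) p hn θ (B.e_ne_zero i) (B.ee i i)
  have hF := fun i => exists_img (D := D) p hn θ (B.f_ne_zero i) (B.ff i i)
  choose e' he0' he' hie using hE
  choose f0 hf00 hf0 hif0 using hF
  -- nonorthogonality of the images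
  have hne : ∀ i, H D (f0 i) (e' i) ≠ 0 := by
    intro i h
    have := (Img.perp p hn (hif0 i) (hie i) (B.f_ne_zero i) (B.ff i i) (B.e_ne_zero i) (B.ee i i)
      (hf00 i) (hf0 i) (he0' i) (he' i)).2 h
    rw [B.fe i i, if_pos rfl] at this
    exact one_ne_zero this
  -- rescale
  obtain ⟨f', hf'⟩ : ∃ f' : Fin k → Fin n → F, f' = fun i => (H D (f0 i) (e' i))⁻¹ • f0 i := ⟨_, rfl⟩
  have hpar : ∀ i, Par (f0 i) (f' i) := fun i => ⟨_, inv_ne_zero (hne i), by rw [hf']⟩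
  have hif : ∀ i, Img D θ (B.f i) (f' i) := fun i => (hif0 i).par_right (hf0 i) (hpar i)
  have hf0' : ∀ i, f' i ≠ 0 := fun i => (hpar i).ne_zero (hf00 i)
  have hff' : ∀ i, H D (f' i) (f' i) = 0 := by
    intro i
    rw [hf']
    simp only [H_smul_left, H_smul_right, hf0 i, mul_zero]
  have hfe1 : ∀ i, H D (f' i) (e' i) = 1 := by
    intro i
    rw [hf']
    simp only [H_smul_left]
    exact inv_mul_cancel₀ (hne i)
  -- the partial frame of images
  let b' : PFrame D n k :=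
    { e := e'
      f := f'
      ee := fun i j => (Img.perp p hn (hie i) (hie j) (B.e_ne_zero i) (B.ee i i) (B.e_ne_zero j)
        (B.ee j j) (he0' i) (he' i) (he0' j) (he' j)).1 (B.ee i j)
      ff := fun i j => (Img.perp p hn (hif i) (hif j) (B.f_ne_zero i) (B.ff i i) (B.f_ne_zero j)
        (B.ff j j) (hf0' i) (hff' i) (hf0' j) (hff' j)).1 (B.ff i j)
      ef := by
        intro i j
        by_cases hij : i = j
        · subst hij
          rw [if_pos rfl, ← H_symm, hfe1, map_one]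
        · rw [if_neg hij]
          refine (Img.perp p hn (hie i) (hif j) (B.e_ne_zero i) (B.ee i i) (B.f_ne_zero j)
            (B.ff j j) (he0' i) (he' i) (hf0' j) (hff' j)).1 ?_
          rw [B.ef i j, if_neg hij] }
  have haniso : ∀ x, b'.Perp x → H D x x = 0 → x = 0 := by
    intro x hxp hx
    by_contra hx0
    obtain ⟨z, hz0, hz, hiz⟩ := exists_img (D := D) p hn θ.symm hx0 hx
    apply hz0
    apply B.eq_zero_of_perp hr hz
    · intro i
      exact (Img.perp p hn hiz (hie i).symm hx0 hx (he0' i) (he' i) hz0 hz (B.e_ne_zero i)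
        (B.ee i i)).1 (hxp.1 i)
    · intro i
      exact (Img.perp p hn hiz (hif i).symm hx0 hx (hf0' i) (hff' i) hz0 hz (B.f_ne_zero i)
        (B.ff i i)).1 (hxp.2 i)
  obtain ⟨r', B', hr', hB'e, hB'f⟩ := b'.exists_frame_of_aniso haniso
  have hrr : r' = r := by
    have h1 := B.dim_eq
    have h2 := B'.dim_eq
    omega
  subst hrr
  let g : GL (Fin n) F := RU B' B 1 1 1 1 (Matrix.mul_one 1) (Matrix.mul_one 1) (Matrix.mul_one 1)
    (Matrix.mul_one 1)
  have hg : g ∈ Cfsg.GU n F q := RU_mem B' B 1 1 1 1 _ _ _ _ (by rw [ct_one, Matrix.one_mul])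
  have hge : ∀ i, (g : Matrix (Fin n) (Fin n) F) *ᵥ B.e i = e' i := by
    intro i
    change R B' B 1 (ct D 1) 1 *ᵥ B.e i = e' i
    rw [R_mulVec_e_single, Matrix.one_mulVec, B'.Be_single, hB'e]
  have hgf : ∀ i, (g : Matrix (Fin n) (Fin n) F) *ᵥ B.f i = f' i := by
    intro i
    change R B' B 1 (ct D 1) 1 *ᵥ B.f i = f' i
    rw [R_mulVec_f_single, ct_one, Matrix.one_mulVec, B'.Bf_single, hB'f]
  refine ⟨g, hg, ?_, ?_⟩
  · intro i
    have h1 := img_cU (D := D) (B.ee i i) hg (RingEquiv.refl F)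
    rw [smv_refl, hge] at h1
    exact (hie i).trans h1.symm
  · intro i
    have h1 := img_cU (D := D) (B.ff i i) hg (RingEquiv.refl F)
    rw [smv_refl, hgf] at h1
    exact (hif i).trans h1.symm

end

section

open Matrix

variable {F : Type*} [Field F] {n q : ℕ} {D : UF F q} {k r : ℕ}

namespace Frame

variable (b : Frame D n k r)

/-- membership in the totally isotropic subspace `E` spanned by the `e i` -/
def InE (x : Fin n → F) : Prop := ∃ a : Fin k → F, x = b.Be *ᵥ a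
/-- membership in the totally isotropic subspace `E'` spanned by the `f i` -/
def InE' (x : Fin n → F) : Prop := ∃ a : Fin k → F, x = b.Bf *ᵥ a

theorem H_Be_Be (a a' : Fin k → F) : H D (b.Be *ᵥ a) (b.Be *ᵥ a') = 0 := by
  rw [H_mulVec_ct, mulVec_mulVec, b.ctBe_Be, zero_mulVec, H_zero_right]

theorem H_Bf_Bf (a a' : Fin k → F) : H D (b.Bf *ᵥ a) (b.Bf *ᵥ a') = 0 := by
  rw [H_mulVec_ct, mulVec_mulVec, b.ctBf_Bf, zero_mulVec, H_zero_right]

theorem H_Be_Bf (a a' : Fin k → F) : H D (b.Be *ᵥ a) (b.Bf *ᵥ a') = H D a a' := by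
  rw [H_mulVec_ct, mulVec_mulVec, b.ctBe_Bf, one_mulVec]

theorem H_Bf_Be (a a' : Fin k → F) : H D (b.Bf *ᵥ a) (b.Be *ᵥ a') = H D a a' := by
  rw [H_mulVec_ct, mulVec_mulVec, b.ctBf_Be, one_mulVec]

theorem H_Be_Bw (a : Fin k → F) (c : Fin r → F) : H D (b.Be *ᵥ a) (b.Bw *ᵥ c) = 0 := by
  rw [H_mulVec_ct, mulVec_mulVec, b.ctBe_Bw, zero_mulVec, H_zero_right]

theorem H_Bf_Bw (a : Fin k → F) (c : Fin r → F) : H D (b.Bf *ᵥ a) (b.Bw *ᵥ c) = 0 := by
  rw [H_mulVec_ct, mulVec_mulVec, b.ctBf_Bw, zero_mulVec, H_zero_right]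

theorem H_Bw_Be (c : Fin r → F) (a : Fin k → F) : H D (b.Bw *ᵥ c) (b.Be *ᵥ a) = 0 :=
  H_eq_zero_symm D (b.H_Be_Bw a c)

theorem H_Bw_Bf (c : Fin r → F) (a : Fin k → F) : H D (b.Bw *ᵥ c) (b.Bf *ᵥ a) = 0 :=
  H_eq_zero_symm D (b.H_Bf_Bw a c)

theorem H_Bw_Bw (c c' : Fin r → F) : H D (b.Bw *ᵥ c) (b.Bw *ᵥ c') = H D c c' := by
  rw [H_mulVec_ct, mulVec_mulVec, b.ctBw_Bw, one_mulVec]

theorem H_Be_e (a : Fin k → F) (i : Fin k) : H D (b.Be *ᵥ a) (b.e i) = 0 := by
  rw [← b.Be_single, H_Be_Be]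

theorem H_Be_f (a : Fin k → F) (i : Fin k) : H D (b.Be *ᵥ a) (b.f i) = a i := by
  rw [← b.Bf_single, H_Be_Bf, H_single_right]

theorem H_Bf_e (a : Fin k → F) (i : Fin k) : H D (b.Bf *ᵥ a) (b.e i) = a i := by
  rw [← b.Be_single, H_Bf_Be, H_single_right]

theorem H_Bf_f (a : Fin k → F) (i : Fin k) : H D (b.Bf *ᵥ a) (b.f i) = 0 := by
  rw [← b.Bf_single, H_Bf_Bf]

theorem H_Be_w (a : Fin k → F) (j : Fin r) : H D (b.Be *ᵥ a) (b.w j) = 0 := by
  rw [← b.Bw_single, H_Be_Bw]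

theorem H_Bf_w (a : Fin k → F) (j : Fin r) : H D (b.Bf *ᵥ a) (b.w j) = 0 := by
  rw [← b.Bw_single, H_Bf_Bw]

theorem Be_injective : Function.Injective (fun a : Fin k → F => b.Be *ᵥ a) := by
  intro a a' h
  have := congrArg (fun x => ct D b.Bf *ᵥ x) h
  simp only [mulVec_mulVec, b.ctBf_Be, one_mulVec] at this
  exact this

theorem Bf_injective : Function.Injective (fun a : Fin k → F => b.Bf *ᵥ a) := by
  intro a a' h
  have := congrArg (fun x => ct D b.Be *ᵥ x) h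
  simp only [mulVec_mulVec, b.ctBe_Bf, one_mulVec] at this
  exact this

theorem Be_eq_zero {a : Fin k → F} : b.Be *ᵥ a = 0 ↔ a = 0 := by
  constructor
  · intro h
    apply b.Be_injective
    simp only [h, mulVec_zero]
  · rintro rfl; exact mulVec_zero _

theorem Bf_eq_zero {a : Fin k → F} : b.Bf *ᵥ a = 0 ↔ a = 0 := by
  constructor
  · intro h
    apply b.Bf_injective
    simp only [h, mulVec_zero]
  · rintro rfl; exact mulVec_zero _

theorem inE_iff {x : Fin n → F} :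
    b.InE x ↔ (∀ i, H D x (b.e i) = 0) ∧ ∀ j, H D x (b.w j) = 0 := by
  constructor
  · rintro ⟨a, rfl⟩
    exact ⟨fun i => b.H_Be_e a i, fun j => b.H_Be_w a j⟩
  · rintro ⟨h1, h2⟩
    refine ⟨fun i => H D x (b.f i), ?_⟩
    rw [b.Be_mulVec]
    conv_lhs => rw [b.complete x]
    simp only [h1, h2, zero_smul, Finset.sum_const_zero, add_zero]

theorem inE'_iff {x : Fin n → F} :
    b.InE' x ↔ (∀ i, H D x (b.f i) = 0) ∧ ∀ j, H D x (b.w j) = 0 := by
  constructor
  · rintro ⟨a, rfl⟩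
    exact ⟨fun i => b.H_Bf_f a i, fun j => b.H_Bf_w a j⟩
  · rintro ⟨h1, h2⟩
    refine ⟨fun i => H D x (b.e i), ?_⟩
    rw [b.Bf_mulVec]
    conv_lhs => rw [b.complete x]
    simp only [h1, h2, zero_smul, Finset.sum_const_zero, add_zero, zero_add]

theorem inE_of_iso (hr : r ≤ 1) {x : Fin n → F} (hx : H D x x = 0)
    (he : ∀ i, H D x (b.e i) = 0) : b.InE x :=
  b.inE_iff.2 ⟨he, b.w_comp_of_perp_e hr hx he⟩

theorem inE'_of_iso (hr : r ≤ 1) {x : Fin n → F} (hx : H D x x = 0)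
    (hf : ∀ i, H D x (b.f i) = 0) : b.InE' x :=
  b.inE'_iff.2 ⟨hf, b.w_comp_of_perp_f hr hx hf⟩

theorem InE.smul {x : Fin n → F} (h : b.InE x) (c : F) : b.InE (c • x) := by
  obtain ⟨a, rfl⟩ := h
  exact ⟨c • a, by rw [mulVec_smul]⟩

theorem InE'.smul {x : Fin n → F} (h : b.InE' x) (c : F) : b.InE' (c • x) := by
  obtain ⟨a, rfl⟩ := h
  exact ⟨c • a, by rw [mulVec_smul]⟩

theorem InE.par {x y : Fin n → F} (h : b.InE x) (hp : Par x y) : b.InE y := by
  obtain ⟨c, -, rfl⟩ := hp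
  exact h.smul b c

theorem InE'.par {x y : Fin n → F} (h : b.InE' x) (hp : Par x y) : b.InE' y := by
  obtain ⟨c, -, rfl⟩ := hp
  exact h.smul b c

end Frame

variable [Fintype F] (p : ℕ) [Fact p.Prime] [CharP F p]

/-- the automorphism fixes the points of the frame -/
def FixFr (B : Frame D n k r) (θ : Cfsg.PSU n F q ≃* Cfsg.PSU n F q) : Prop :=
  (∀ i, Img D θ (B.e i) (B.e i)) ∧ ∀ i, Img D θ (B.f i) (B.f i)

theorem FixFr.symm {B : Frame D n k r} {θ : Cfsg.PSU n F q ≃* Cfsg.PSU n F q}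
    (h : FixFr B θ) : FixFr B θ.symm := ⟨fun i => (h.1 i).symm, fun i => (h.2 i).symm⟩

theorem FixFr.trans {B : Frame D n k r} {θ θ' : Cfsg.PSU n F q ≃* Cfsg.PSU n F q}
    (h : FixFr B θ) (h' : FixFr B θ') : FixFr B (θ.trans θ') :=
  ⟨fun i => (h.1 i).trans (h'.1 i), fun i => (h.2 i).trans (h'.2 i)⟩

include p in
/-- the point map preserves `P(E)` -/
theorem FixFr.inE (hn : 3 ≤ n) {B : Frame D n k r} (hr : r ≤ 1)
    {θ : Cfsg.PSU n F q ≃* Cfsg.PSU n F q} (h : FixFr B θ) {x x' : Fin n → F}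
    (hx0 : x ≠ 0) (hxE : B.InE x) (hx0' : x' ≠ 0) (hx' : H D x' x' = 0) (hi : Img D θ x x') :
    B.InE x' := by
  obtain ⟨a, rfl⟩ := hxE
  apply B.inE_of_iso hr hx'
  intro i
  exact (Img.perp p hn hi (h.1 i) hx0 (B.H_Be_Be a a) (B.e_ne_zero i) (B.ee i i) hx0' hx'
    (B.e_ne_zero i) (B.ee i i)).1 (B.H_Be_e a i)

include p in
/-- the point map preserves `P(E')` -/
theorem FixFr.inE' (hn : 3 ≤ n) {B : Frame D n k r} (hr : r ≤ 1)
    {θ : Cfsg.PSU n F q ≃* Cfsg.PSU n F q} (h : FixFr B θ) {x x' : Fin n → F}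
    (hx0 : x ≠ 0) (hxE : B.InE' x) (hx0' : x' ≠ 0) (hx' : H D x' x' = 0) (hi : Img D θ x x') :
    B.InE' x' := by
  obtain ⟨a, rfl⟩ := hxE
  apply B.inE'_of_iso hr hx'
  intro i
  exact (Img.perp p hn hi (h.2 i) hx0 (B.H_Bf_Bf a a) (B.f_ne_zero i) (B.ff i i) hx0' hx'
    (B.f_ne_zero i) (B.ff i i)).1 (B.H_Bf_f a i)

end

section

open Matrix

variable {F : Type*} [Field F] {n q : ℕ} {D : UF F q} {k r : ℕ}

theorem det_ct (X : Matrix (Fin k) (Fin k) F) : (ct D X).det = D.τ X.det := by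
  unfold ct
  rw [det_transpose]
  exact (RingHom.map_det (D.τ : F →+* F) X).symm

theorem sl_mul_inv (g : SpecialLinearGroup (Fin k) F) :
    (g : Matrix (Fin k) (Fin k) F) * ((g⁻¹ : SpecialLinearGroup (Fin k) F) : Matrix (Fin k) (Fin k) F) = 1 := by
  exact congrArg Subtype.val (mul_inv_cancel g)

theorem sl_inv_mul (g : SpecialLinearGroup (Fin k) F) :
    ((g⁻¹ : SpecialLinearGroup (Fin k) F) : Matrix (Fin k) (Fin k) F) * (g : Matrix (Fin k) (Fin k) F) = 1 := by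
  exact congrArg Subtype.val (inv_mul_cancel g)

theorem sl_coe_mul (g h : SpecialLinearGroup (Fin k) F) :
    ((g * h : SpecialLinearGroup (Fin k) F) : Matrix (Fin k) (Fin k) F) =
      (g : Matrix (Fin k) (Fin k) F) * (h : Matrix (Fin k) (Fin k) F) := rfl

theorem sl_coe_one : ((1 : SpecialLinearGroup (Fin k) F) : Matrix (Fin k) (Fin k) F) = 1 := rfl

/-- the Levi matrix of `g ∈ SL_k` -/
def lamMat (B : Frame D n k r) (g : SpecialLinearGroup (Fin k) F) : Matrix (Fin n) (Fin n) F :=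
  R B B (g : Matrix (Fin k) (Fin k) F)
    (ct D ((g⁻¹ : SpecialLinearGroup (Fin k) F) : Matrix (Fin k) (Fin k) F)) 1

theorem lamMat_det (B : Frame D n k r) (g : SpecialLinearGroup (Fin k) F) :
    (lamMat B g).det = 1 := by
  unfold lamMat
  rw [det_R, det_ct, g.2, (g⁻¹).2, map_one, det_one, mul_one, mul_one]

theorem lamMat_pres (B : Frame D n k r) (g : SpecialLinearGroup (Fin k) F) (u v : Fin n → F) :
    H D (lamMat B g *ᵥ u) (lamMat B g *ᵥ v) = H D u v := by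
  refine (H_eq_one_iff_ct D (lamMat B g)).2 ?_ u v
  unfold lamMat
  apply R_unitary
  · rw [ct_ct, sl_inv_mul]
  · rw [ct_one, Matrix.one_mul]

theorem lamMat_mul (B : Frame D n k r) (g h : SpecialLinearGroup (Fin k) F) :
    lamMat B (g * h) = lamMat B g * lamMat B h := by
  unfold lamMat
  rw [R_mul, ← ct_mul, ← sl_coe_mul, ← sl_coe_mul, _root_.mul_inv_rev, Matrix.one_mul]

theorem lamMat_one (B : Frame D n k r) : lamMat B 1 = 1 := by
  unfold lamMat
  rw [inv_one, sl_coe_one, ct_one, R_one]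

/-- the Levi embedding `SL_k → SU_n` -/
def Lam (B : Frame D n k r) : SpecialLinearGroup (Fin k) F →* ↥(Cfsg.SU n F q) where
  toFun g := mkSU D (lamMat B g) (lamMat_det B g) (lamMat_pres B g)
  map_one' := by
    apply mat_injective
    rw [mat_mkSU, lamMat_one]
    rfl
  map_mul' g h := by
    apply mat_injective
    rw [mat_mkSU, lamMat_mul]
    rfl

theorem mat_Lam (B : Frame D n k r) (g : SpecialLinearGroup (Fin k) F) :
    mat (Lam B g) = lamMat B g := rfl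

theorem sv_Lam_e (B : Frame D n k r) (g : SpecialLinearGroup (Fin k) F) (a : Fin k → F) :
    sv (Lam B g) (B.Be *ᵥ a) = B.Be *ᵥ ((g : Matrix (Fin k) (Fin k) F) *ᵥ a) := by
  change lamMat B g *ᵥ _ = _
  unfold lamMat
  rw [R_mulVec_e]

theorem sv_Lam_f (B : Frame D n k r) (g : SpecialLinearGroup (Fin k) F) (a : Fin k → F) :
    sv (Lam B g) (B.Bf *ᵥ a) =
      B.Bf *ᵥ (ct D ((g⁻¹ : SpecialLinearGroup (Fin k) F) : Matrix (Fin k) (Fin k) F) *ᵥ a) := by
  change lamMat B g *ᵥ _ = _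
  unfold lamMat
  rw [R_mulVec_f]

theorem sv_Lam_w (B : Frame D n k r) (g : SpecialLinearGroup (Fin k) F) (a : Fin r → F) :
    sv (Lam B g) (B.Bw *ᵥ a) = B.Bw *ᵥ a := by
  change lamMat B g *ᵥ _ = _
  unfold lamMat
  rw [R_mulVec_w, one_mulVec]

/-- the Levi subgroup: stabiliser of `E` and `E'` -/
def InL (B : Frame D n k r) (s : ↥(Cfsg.SU n F q)) : Prop :=
  (∀ x, B.InE x → B.InE (sv s x)) ∧ (∀ x, B.InE' x → B.InE' (sv s x)) ∧
  (∀ x, B.InE x → B.InE (sv s⁻¹ x)) ∧ (∀ x, B.InE' x → B.InE' (sv s⁻¹ x))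

theorem InL.inv {B : Frame D n k r} {s : ↥(Cfsg.SU n F q)} (h : InL B s) : InL B s⁻¹ := by
  obtain ⟨h1, h2, h3, h4⟩ := h
  refine ⟨h3, h4, ?_, ?_⟩
  · rw [inv_inv]; exact h1
  · rw [inv_inv]; exact h2

theorem inL_Lam (B : Frame D n k r) (g : SpecialLinearGroup (Fin k) F) : InL B (Lam B g) := by
  refine ⟨?_, ?_, ?_, ?_⟩
  · rintro x ⟨a, rfl⟩
    exact ⟨_, sv_Lam_e B g a⟩
  · rintro x ⟨a, rfl⟩
    exact ⟨_, sv_Lam_f B g a⟩
  · rintro x ⟨a, rfl⟩
    rw [← map_inv]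
    exact ⟨_, sv_Lam_e B g⁻¹ a⟩
  · rintro x ⟨a, rfl⟩
    rw [← map_inv]
    exact ⟨_, sv_Lam_f B g⁻¹ a⟩

theorem mat_eq_zero_of_mulVec {m l : ℕ} {M : Matrix (Fin m) (Fin l) F} (h : ∀ a, M *ᵥ a = 0) :
    M = 0 := by
  ext i j
  have := congrFun (h (Pi.single j 1)) i
  simpa using this

/-- block decomposition of an element of the Levi subgroup -/
theorem InL.decomp {B : Frame D n k r} {s : ↥(Cfsg.SU n F q)} (h : InL B s) :
    mat s = R B B (ct D B.Bf * mat s * B.Be) (ct D B.Be * mat s * B.Bf)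
      (ct D B.Bw * mat s * B.Bw) := by
  obtain ⟨h1, h2, h3, h4⟩ := h
  have z1 : ct D B.Bf * mat s * B.Bf = 0 := by
    apply mat_eq_zero_of_mulVec
    intro a
    rw [← mulVec_mulVec, ← mulVec_mulVec, B.ctBf_mulVec]
    obtain ⟨a', ha'⟩ := h2 _ ⟨a, rfl⟩
    change (fun i => H D (sv s (B.Bf *ᵥ a)) (B.f i)) = 0
    rw [ha']
    ext i
    exact B.H_Bf_f a' i
  have z2 : ct D B.Bf * mat s * B.Bw = 0 := by
    apply mat_eq_zero_of_mulVec
    intro a
    rw [← mulVec_mulVec, ← mulVec_mulVec, B.ctBf_mulVec]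
    change (fun i => H D (sv s (B.Bw *ᵥ a)) (B.f i)) = 0
    ext i
    rw [H_sv_left]
    obtain ⟨a', ha'⟩ := h4 _ ⟨Pi.single i 1, (B.Bf_single i).symm⟩
    rw [ha']
    exact B.H_Bw_Bf a a'
  have z3 : ct D B.Be * mat s * B.Be = 0 := by
    apply mat_eq_zero_of_mulVec
    intro a
    rw [← mulVec_mulVec, ← mulVec_mulVec, B.ctBe_mulVec]
    obtain ⟨a', ha'⟩ := h1 _ ⟨a, rfl⟩
    change (fun i => H D (sv s (B.Be *ᵥ a)) (B.e i)) = 0
    rw [ha']
    ext i
    exact B.H_Be_e a' i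
  have z4 : ct D B.Be * mat s * B.Bw = 0 := by
    apply mat_eq_zero_of_mulVec
    intro a
    rw [← mulVec_mulVec, ← mulVec_mulVec, B.ctBe_mulVec]
    change (fun i => H D (sv s (B.Bw *ᵥ a)) (B.e i)) = 0
    ext i
    rw [H_sv_left]
    obtain ⟨a', ha'⟩ := h3 _ ⟨Pi.single i 1, (B.Be_single i).symm⟩
    rw [ha']
    exact B.H_Bw_Be a a'
  have z5 : ct D B.Bw * mat s * B.Be = 0 := by
    apply mat_eq_zero_of_mulVec
    intro a
    rw [← mulVec_mulVec, ← mulVec_mulVec, B.ctBw_mulVec]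
    obtain ⟨a', ha'⟩ := h1 _ ⟨a, rfl⟩
    change (fun i => H D (sv s (B.Be *ᵥ a)) (B.w i)) = 0
    rw [ha']
    ext i
    exact B.H_Be_w a' i
  have z6 : ct D B.Bw * mat s * B.Bf = 0 := by
    apply mat_eq_zero_of_mulVec
    intro a
    rw [← mulVec_mulVec, ← mulVec_mulVec, B.ctBw_mulVec]
    obtain ⟨a', ha'⟩ := h2 _ ⟨a, rfl⟩
    change (fun i => H D (sv s (B.Bf *ᵥ a)) (B.w i)) = 0
    rw [ha']
    ext i
    exact B.H_Bf_w a' i
  have hc := B.complete_mat
  have key : mat s = (B.Be * ct D B.Bf + B.Bf * ct D B.Be + B.Bw * ct D B.Bw) * mat s *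
      (B.Be * ct D B.Bf + B.Bf * ct D B.Be + B.Bw * ct D B.Bw) := by
    rw [hc, Matrix.one_mul, Matrix.mul_one]
  have e1 : ∀ (X : Matrix (Fin n) (Fin k) F) (Y : Matrix (Fin n) (Fin k) F)
      (X' : Matrix (Fin n) (Fin k) F) (Y' : Matrix (Fin n) (Fin k) F),
      X * ct D Y * mat s * (X' * ct D Y') = X * (ct D Y * mat s * X') * ct D Y' := by
    intro X Y X' Y'
    simp only [Matrix.mul_assoc]
  have e2 : ∀ (X : Matrix (Fin n) (Fin k) F) (Y : Matrix (Fin n) (Fin k) F)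
      (X' : Matrix (Fin n) (Fin r) F) (Y' : Matrix (Fin n) (Fin r) F),
      X * ct D Y * mat s * (X' * ct D Y') = X * (ct D Y * mat s * X') * ct D Y' := by
    intro X Y X' Y'
    simp only [Matrix.mul_assoc]
  have e3 : ∀ (X : Matrix (Fin n) (Fin r) F) (Y : Matrix (Fin n) (Fin r) F)
      (X' : Matrix (Fin n) (Fin k) F) (Y' : Matrix (Fin n) (Fin k) F),
      X * ct D Y * mat s * (X' * ct D Y') = X * (ct D Y * mat s * X') * ct D Y' := by
    intro X Y X' Y'
    simp only [Matrix.mul_assoc]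
  have e4 : ∀ (X : Matrix (Fin n) (Fin r) F) (Y : Matrix (Fin n) (Fin r) F)
      (X' : Matrix (Fin n) (Fin r) F) (Y' : Matrix (Fin n) (Fin r) F),
      X * ct D Y * mat s * (X' * ct D Y') = X * (ct D Y * mat s * X') * ct D Y' := by
    intro X Y X' Y'
    simp only [Matrix.mul_assoc]
  conv_lhs => rw [key]
  simp only [Matrix.add_mul, Matrix.mul_add, e1, e2, e3, e4, z1, z2, z3, z4, z5, z6,
    Matrix.mul_zero, Matrix.zero_mul, add_zero, zero_add]
  rfl

end

section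

open Matrix

variable {F : Type*} [Field F] {n q : ℕ} {D : UF F q} {k r : ℕ}

theorem mat_pow (s : ↥(Cfsg.SU n F q)) (m : ℕ) : mat (s ^ m) = mat s ^ m := by
  induction m with
  | zero => simp
  | succ m ih => rw [pow_succ, pow_succ, mat_mul, ih]

theorem R_pow (B : Frame D n k r) (g g' : Matrix (Fin k) (Fin k) F) (h : Matrix (Fin r) (Fin r) F)
    (m : ℕ) : R B B g g' h ^ m = R B B (g ^ m) (g' ^ m) (h ^ m) := by
  induction m with
  | zero => simp only [pow_zero]; exact (R_one B).symm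
  | succ m ih => rw [pow_succ, ih, R_mul, ← pow_succ, ← pow_succ, ← pow_succ]

theorem R_injective (B : Frame D n k r) {g g' g₂ g₂' : Matrix (Fin k) (Fin k) F}
    {h h₂ : Matrix (Fin r) (Fin r) F} (e : R B B g g' h = R B B g₂ g₂' h₂) :
    g = g₂ ∧ g' = g₂' ∧ h = h₂ := by
  refine ⟨?_, ?_, ?_⟩
  · rw [← ctBf_R_Be B g g' h, e, ctBf_R_Be]
  · rw [← ctBe_R_Bf B g g' h, e, ctBe_R_Bf]
  · rw [← ctBw_R_Bw B g g' h, e, ctBw_R_Bw]

variable (p : ℕ) [Fact p.Prime] [CharP F p]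

include p in
theorem eq_one_of_pow_p {x : F} {m : ℕ} (h : x ^ (p ^ m) = 1) : x = 1 := by
  have h2 : (x - 1) ^ (p ^ m) = 0 := by
    rw [sub_pow_char_pow, h, one_pow, sub_self]
  exact sub_eq_zero.1 (pow_eq_zero_iff (pow_ne_zero m (Fact.out : p.Prime).ne_zero) |>.1 h2)

include p in
/-- a `p`-element of the Levi subgroup lies in the image of `SL_k` -/
theorem exists_Lam_of_pow (B : Frame D n k r) (hr : r ≤ 1) {s : ↥(Cfsg.SU n F q)} (hs : InL B s)
    {m : ℕ} (hm : s ^ (p ^ m) = 1) : ∃ γ : SpecialLinearGroup (Fin k) F, s = Lam B γ := by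
  obtain ⟨g, hg⟩ : ∃ g, g = ct D B.Bf * mat s * B.Be := ⟨_, rfl⟩
  obtain ⟨g', hg'⟩ : ∃ g', g' = ct D B.Be * mat s * B.Bf := ⟨_, rfl⟩
  obtain ⟨h, hh⟩ : ∃ h, h = ct D B.Bw * mat s * B.Bw := ⟨_, rfl⟩
  have hdec : mat s = R B B g g' h := by rw [hg, hg', hh]; exact hs.decomp
  have hpow : R B B (g ^ (p ^ m)) (g' ^ (p ^ m)) (h ^ (p ^ m)) = R B B 1 1 1 := by
    rw [← R_pow, ← hdec, ← mat_pow, hm, mat_one, R_one]
  obtain ⟨hg1, -, hh1⟩ := R_injective B hpow
  have hdet : g.det = 1 := by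
    apply eq_one_of_pow_p p (m := m)
    rw [← det_pow, hg1, det_one]
  have hh' : h = 1 := by
    rcases Nat.lt_or_ge r 1 with hr0 | hr1
    · have : r = 0 := by omega
      subst this
      exact Subsingleton.elim _ _
    · have : r = 1 := by omega
      subst this
      have h1 : h = (h 0 0) • (1 : Matrix (Fin 1) (Fin 1) F) := by
        ext i j
        rw [Subsingleton.elim i 0, Subsingleton.elim j 0]
        simp
      have h2 : (h 0 0) ^ (p ^ m) = 1 := by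
        have := congrFun (congrFun hh1 0) 0
        rw [h1, smul_pow, one_pow, Matrix.smul_apply, Matrix.one_apply_eq, smul_eq_mul, mul_one] at this
        exact this
      rw [h1, eq_one_of_pow_p p h2, one_smul]
  -- unitarity
  have hu : ct D (mat s) * mat s = 1 := (H_eq_one_iff_ct D (mat s)).1 (fun u v => H_sv D s u v)
  rw [hdec, ct_R, R_mul, ← R_one B] at hu
  obtain ⟨hu1, -, -⟩ := R_injective B hu
  let γ : SpecialLinearGroup (Fin k) F := ⟨g, hdet⟩
  have hγ : ((γ⁻¹ : SpecialLinearGroup (Fin k) F) : Matrix (Fin k) (Fin k) F) = ct D g' := by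
    have h1 : ct D g' * (γ : Matrix (Fin k) (Fin k) F) = 1 := hu1
    have h2 := congrArg (fun X => X * ((γ⁻¹ : SpecialLinearGroup (Fin k) F) : Matrix (Fin k) (Fin k) F)) h1
    simp only [Matrix.mul_assoc, sl_mul_inv, Matrix.mul_one, Matrix.one_mul] at h2
    exact h2.symm
  refine ⟨γ, ?_⟩
  apply mat_injective
  rw [mat_Lam, hdec]
  unfold lamMat
  rw [hγ, ct_ct, hh']

end

end Cfsg.Agent.Lib.H13.AutPSU
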