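import Cfsg.Agent.Lib.H13.Char2Omega
import Cfsg.Agent.Lib.H11.OmegaGen
import Cfsg.Agent.Lib.H11.IndexTwo
import Cfsg.Agent.S0788

set_option autoImplicit false

namespace Cfsg.Agent.Lib.H13.SOIndexTwo

open Matrix
open scoped MatrixGroups
open Cfsg.Agent.Lib.H13.HypPairs Cfsg.Agent.Lib.H13.Char2Omega Cfsg.Agent.Lib.H13.Dickson

variable {F : Type*} [Field F] {n : ℕ} (Q : QuadraticForm F (Fin n → F))

theorem mem_SO_iff (g : ↥(Cfsg.isometryGroup F ⇑Q)) :
    g ∈ Cfsg.specialIsometryGroup F ⇑Q ↔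
      ((g : GL (Fin n) F) : Matrix (Fin n) (Fin n) F).det = 1 := by
  unfold Cfsg.specialIsometryGroup
  rw [MonoidHom.mem_ker]
  constructor
  · intro h
    have := congrArg Units.val h
    simpa using this
  · intro h
    apply Units.ext
    simpa using h

theorem det_reflG (v : Fin n → F) (hv : Q v ≠ 0) :
    (((reflG Q v hv : ↥(Cfsg.isometryGroup F ⇑Q)) : GL (Fin n) F) : Matrix (Fin n) (Fin n) F).det
      = -1 := by
  rw [reflG_val]
  exact (Cfsg.Agent.S0784.result Q v hv).2.2.2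

theorem det_mul' (g h : ↥(Cfsg.isometryGroup F ⇑Q)) :
    (((g * h : ↥(Cfsg.isometryGroup F ⇑Q)) : GL (Fin n) F) : Matrix (Fin n) (Fin n) F).det =
      ((g : GL (Fin n) F) : Matrix (Fin n) (Fin n) F).det *
      ((h : GL (Fin n) F) : Matrix (Fin n) (Fin n) F).det := by
  rw [Subgroup.coe_mul, Units.val_mul, Matrix.det_mul]

/-- the subgroup generated by the squares of elements of `SO` -/
def M : Subgroup ↥(Cfsg.isometryGroup F ⇑Q) :=
  Subgroup.closure {y | ∃ x ∈ Cfsg.specialIsometryGroup F ⇑Q, y = x * x}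

theorem M_normal : (M Q).Normal := by
  constructor
  intro x hx g
  unfold M at hx ⊢
  induction hx using Subgroup.closure_induction with
  | mem y hy =>
    obtain ⟨x, hx, rfl⟩ := hy
    apply Subgroup.subset_closure
    refine ⟨g * x * g⁻¹, ?_, by group⟩
    have hn : (Cfsg.specialIsometryGroup F ⇑Q).Normal := by
      unfold Cfsg.specialIsometryGroup
      infer_instance
    exact hn.conj_mem x hx g
  | one =>
    rw [mul_one, mul_inv_cancel]
    exact Subgroup.one_mem _
  | mul x y _ _ ihx ihy =>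
    have : g * (x * y) * g⁻¹ = (g * x * g⁻¹) * (g * y * g⁻¹) := by group
    rw [this]
    exact Subgroup.mul_mem _ ihx ihy
  | inv x _ ihx =>
    have : g * x⁻¹ * g⁻¹ = (g * x * g⁻¹)⁻¹ := by group
    rw [this]
    exact Subgroup.inv_mem _ ihx

theorem M_le_SO : M Q ≤ Cfsg.specialIsometryGroup F ⇑Q := by
  unfold M
  rw [Subgroup.closure_le]
  rintro y ⟨x, hx, rfl⟩
  exact Subgroup.mul_mem _ hx hx

theorem reflG_mul_self0 (v : Fin n → F) (hv : Q v ≠ 0) : reflG Q v hv * reflG Q v hv = 1 := by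
  apply Subtype.ext
  apply Units.ext
  exact refl_mul_self Q v hv

theorem reflG_inv0 (v : Fin n → F) (hv : Q v ≠ 0) : (reflG Q v hv)⁻¹ = reflG Q v hv :=
  inv_eq_of_mul_eq_one_left (reflG_mul_self0 Q v hv)

theorem Q_add_sub (u w : Fin n → F) : Q (u + w) + Q (u - w) = 2 * Q u + 2 * Q w := by
  rw [sub_eq_add_neg, QuadraticMap.map_add (⇑Q), QuadraticMap.map_add (⇑Q) u (-w),
    QuadraticMap.map_neg, QuadraticMap.polar_neg_right]
  ring

/-- `r_u r_w` is a square in `SO` when `Q u = Q w` -/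
theorem pair_sq (h2 : (2 : F) ≠ 0) (u w : Fin n → F) (hu : Q u ≠ 0) (hw : Q w ≠ 0)
    (huw : Q u = Q w) : reflG Q u hu * reflG Q w hw ∈ M Q := by
  have key : ∀ z : Fin n → F, ∀ hz : Q z ≠ 0, ∀ l : F, l ≠ 0 →
      Cfsg.reflectionMatrix (⇑Q) z *ᵥ u = l • w →
      reflG Q u hu * reflG Q w hw ∈ M Q := by
    intro z hz l hl hzu
    have hne : Q (((reflG Q z hz : ↥(Cfsg.isometryGroup F ⇑Q)) : GL (Fin n) F).1 *ᵥ u) ≠ 0 := by
      rw [(Cfsg.Agent.Lib.H11.IsoReindex.mem_iso_iff' _ _).mp (reflG Q z hz).2]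
      exact hu
    have h1 := conj_reflG Q (reflG Q z hz) u hu hne
    have h3 : reflG Q (((reflG Q z hz : ↥(Cfsg.isometryGroup F ⇑Q)) : GL (Fin n) F).1 *ᵥ u) hne =
        reflG Q w hw := by
      apply Subtype.ext
      apply Units.ext
      rw [reflG_val, reflG_val]
      show Cfsg.reflectionMatrix (⇑Q) (Cfsg.reflectionMatrix (⇑Q) z *ᵥ u) = _
      rw [hzu, reflectionMatrix_smul Q l hl]
      rfl
    rw [h3, reflG_inv0] at h1
    rw [← h1]
    apply Subgroup.subset_closure
    refine ⟨reflG Q u hu * reflG Q z hz, ?_, by group⟩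
    rw [mem_SO_iff, det_mul', det_reflG, det_reflG]
    ring
  by_cases hp : Q (u - w) ≠ 0
  · apply key (u - w) hp 1 one_ne_zero
    rw [Cfsg.Agent.Lib.H4.reflectionMatrix_mulVec, one_smul]
    have e : QuadraticMap.polar (⇑Q) (u - w) u = Q (u - w) := by
      rw [QuadraticMap.polar_sub_left, Cfsg.Agent.Lib.H4.polar_self, sub_eq_add_neg u w,
        QuadraticMap.map_add (⇑Q) u (-w), QuadraticMap.map_neg, QuadraticMap.polar_neg_right, ← huw,
        QuadraticMap.polar_comm (⇑Q) w u]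
      ring
    rw [e, inv_mul_cancel₀ hp, one_smul]
    abel
  · push Not at hp
    have hq : Q (u + w) ≠ 0 := by
      intro h0
      have := Q_add_sub Q u w
      rw [h0, hp, ← huw] at this
      have h4 : (2 : F) * 2 * Q u = 0 := by linear_combination -this
      rcases mul_eq_zero.mp h4 with h5 | h5
      · rcases mul_eq_zero.mp h5 with h6 | h6 <;> exact h2 h6
      · exact hu h5
    apply key (u + w) hq (-1) (neg_ne_zero.mpr one_ne_zero)
    rw [Cfsg.Agent.Lib.H4.reflectionMatrix_mulVec]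
    have e : QuadraticMap.polar (⇑Q) (u + w) u = Q (u + w) := by
      rw [QuadraticMap.polar_add_left, Cfsg.Agent.Lib.H4.polar_self,
        QuadraticMap.map_add (⇑Q) u w, ← huw, QuadraticMap.polar_comm (⇑Q) w u]
      ring
    rw [e, inv_mul_cancel₀ hq, one_smul, neg_one_smul]
    abel

/-- `r_u r_w ∈ M` when `Q u * Q w` is a square -/
theorem pair_sq' (h2 : (2 : F) ≠ 0) (u w : Fin n → F) (hu : Q u ≠ 0) (hw : Q w ≠ 0)
    (huw : IsSquare (Q u * Q w)) : reflG Q u hu * reflG Q w hw ∈ M Q := by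
  obtain ⟨c, hc⟩ := huw
  have hc0 : c ≠ 0 := by
    rintro rfl
    rw [mul_zero] at hc
    exact mul_ne_zero hu hw hc
  have hl0 : Q u / c ≠ 0 := div_ne_zero hu hc0
  have hQ' : Q ((Q u / c) • w) = Q u := by
    rw [QuadraticMap.map_smul, smul_eq_mul]
    have : Q u / c * (Q u / c) * Q w = Q u * (Q u * Q w) / (c * c) := by
      field_simp
    rw [this, hc]
    field_simp
  have hne : Q ((Q u / c) • w) ≠ 0 := by rw [hQ']; exact hu
  have h1 := pair_sq Q h2 u ((Q u / c) • w) hu hne hQ'.symm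
  have h3 : reflG Q ((Q u / c) • w) hne = reflG Q w hw := by
    apply Subtype.ext
    apply Units.ext
    rw [reflG_val, reflG_val, reflectionMatrix_smul Q _ hl0]
  rwa [h3] at h1

theorem isSquare_mul_of_not [Fintype F] (x y : F) (hx0 : x ≠ 0) (hy0 : y ≠ 0)
    (hx : ¬IsSquare x) (hy : ¬IsSquare y) : IsSquare (x * y) := by
  classical
  rw [← quadraticChar_one_iff_isSquare (mul_ne_zero hx0 hy0), map_mul,
    quadraticChar_neg_one_iff_not_isSquare.mpr hx, quadraticChar_neg_one_iff_not_isSquare.mpr hy]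
  norm_num

/-- the multiplication table of two commuting involutions -/
theorem table {A : Type*} [Group A] (α β : A) (hα : α * α = 1) (hβ : β * β = 1)
    (hαβ : α * β * (α * β) = 1) :
    β * α = α * β ∧ (∀ x, α * (α * x) = x) ∧ (∀ x, β * (β * x) = x) ∧
      (∀ x, β * (α * x) = α * (β * x)) := by
  have hc : β * α = α * β := by
    calc β * α = (α * α) * (β * α) * (β * β) := by rw [hα, hβ, one_mul, mul_one]
      _ = α * (α * β * (α * β)) * β := by simp only [mul_assoc]
      _ = α * β := by rw [hαβ, mul_one]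
  refine ⟨hc, fun x => by rw [← mul_assoc, hα, one_mul], fun x => by rw [← mul_assoc, hβ, one_mul],
    fun x => by rw [← mul_assoc, hc, mul_assoc]⟩

variable [Fintype F]

/-- modulo the squares of `SO`, the isometry group is covered by `1, α, β, αβ` -/
theorem cover (hQ : (QuadraticMap.polarBilin Q).Nondegenerate) (h2 : (2 : F) ≠ 0)
    (a : Fin n → F) (ha : Q a ≠ 0) :
    ∃ c ∈ Cfsg.specialIsometryGroup F ⇑Q, ∀ g ∈ Cfsg.specialIsometryGroup F ⇑Q,
      g ∈ M Q ∨ c⁻¹ * g ∈ M Q := by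
  haveI := M_normal Q
  -- choose `b`
  obtain ⟨b, hb, hbsq⟩ : ∃ b : Fin n → F, Q b ≠ 0 ∧
      ∀ v, Q v ≠ 0 → ¬IsSquare (Q a * Q v) → IsSquare (Q b * Q v) := by
    by_cases hex : ∃ b : Fin n → F, Q b ≠ 0 ∧ ¬IsSquare (Q a * Q b)
    · obtain ⟨b, hb, hab⟩ := hex
      refine ⟨b, hb, fun v hv hav => ?_⟩
      have h1 := isSquare_mul_of_not (Q a * Q b) (Q a * Q v) (mul_ne_zero ha hb)
        (mul_ne_zero ha hv) hab hav
      obtain ⟨c, hc⟩ := h1
      refine ⟨c / Q a, ?_⟩
      field_simp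
      linear_combination hc
    · push Not at hex
      exact ⟨a, ha, fun v hv hav => absurd (hex v hv) hav⟩
  set π : ↥(Cfsg.isometryGroup F ⇑Q) →* ↥(Cfsg.isometryGroup F ⇑Q) ⧸ M Q := QuotientGroup.mk' (M Q)
    with hπ
  have hπ1 : ∀ x, π x = 1 ↔ x ∈ M Q := fun x => QuotientGroup.eq_one_iff x
  set α := π (reflG Q a ha) with hαd
  set β := π (reflG Q b hb) with hβd
  have hα : α * α = 1 := by rw [hαd, ← map_mul, reflG_mul_self0, map_one]
  have hβ : β * β = 1 := by rw [hβd, ← map_mul, reflG_mul_self0, map_one]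
  have hcSO : reflG Q a ha * reflG Q b hb ∈ Cfsg.specialIsometryGroup F ⇑Q := by
    rw [mem_SO_iff, det_mul', det_reflG, det_reflG]
    ring
  have hαβ : α * β * (α * β) = 1 := by
    rw [hαd, hβd, ← map_mul, ← map_mul, hπ1]
    exact Subgroup.subset_closure ⟨_, hcSO, rfl⟩
  obtain ⟨t1, t2, t3, t4⟩ := table α β hα hβ hαβ
  have hrefl : ∀ v (hv : Q v ≠ 0), π (reflG Q v hv) = α ∨ π (reflG Q v hv) = β := by
    intro v hv
    have aux : ∀ w (hw : Q w ≠ 0), IsSquare (Q w * Q v) → π (reflG Q v hv) = π (reflG Q w hw) := by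
      intro w hw hsq
      have := pair_sq' Q h2 w v hw hv hsq
      rw [← hπ1, map_mul] at this
      have h5 : π (reflG Q w hw) * π (reflG Q w hw) = 1 := by
        rw [← map_mul, reflG_mul_self0, map_one]
      calc π (reflG Q v hv) = (π (reflG Q w hw) * π (reflG Q w hw)) * π (reflG Q v hv) := by
            rw [h5, one_mul]
        _ = π (reflG Q w hw) * (π (reflG Q w hw) * π (reflG Q v hv)) := mul_assoc _ _ _
        _ = π (reflG Q w hw) := by rw [this, mul_one]
    by_cases hsq : IsSquare (Q a * Q v)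
    · left; exact aux a ha hsq
    · right; exact aux b hb (hbsq v hv hsq)
  -- the main induction
  have main : ∀ g : ↥(Cfsg.isometryGroup F ⇑Q),
      (((g : GL (Fin n) F) : Matrix (Fin n) (Fin n) F).det = 1 ∧ (π g = 1 ∨ π g = α * β)) ∨
      (((g : GL (Fin n) F) : Matrix (Fin n) (Fin n) F).det = -1 ∧ (π g = α ∨ π g = β)) := by
    intro g
    have hg := Cfsg.Agent.Lib.H11.CD.cartan_dieudonne Q hQ h2 g
    induction hg using Subgroup.closure_induction with
    | mem x hx =>
      obtain ⟨v, hv, hxv⟩ := hx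
      have : x = reflG Q v hv := by
        apply Subtype.ext
        apply Units.ext
        rw [hxv, reflG_val]
      right
      rw [this]
      exact ⟨det_reflG Q v hv, hrefl v hv⟩
    | one =>
      left
      refine ⟨by simp, Or.inl (map_one π)⟩
    | mul x y _ _ ihx ihy =>
      rw [det_mul', map_mul]
      rcases ihx with ⟨dx, hx | hx⟩ | ⟨dx, hx | hx⟩ <;>
        rcases ihy with ⟨dy, hy | hy⟩ | ⟨dy, hy | hy⟩ <;>
        rw [dx, dy, hx, hy] <;>
        simp only [mul_assoc, one_mul, mul_one, t1, t2, t3, t4, hα, hβ, mul_neg, neg_neg, true_and,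
          true_or, or_true, neg_mul, and_self, eq_self_iff_true] <;> simp
    | inv x _ ihx =>
      have hdet : (((x⁻¹ : ↥(Cfsg.isometryGroup F ⇑Q)) : GL (Fin n) F) :
          Matrix (Fin n) (Fin n) F).det =
          (((x : GL (Fin n) F) : Matrix (Fin n) (Fin n) F).det)⁻¹ := by
        have h1 := det_mul' Q x x⁻¹
        rw [mul_inv_cancel] at h1
        have h3 : (((1 : ↥(Cfsg.isometryGroup F ⇑Q)) : GL (Fin n) F) :
            Matrix (Fin n) (Fin n) F).det = 1 := by simp
        rw [h3] at h1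
        exact eq_inv_of_mul_eq_one_right h1.symm
      rw [hdet, map_inv]
      have hαi : α⁻¹ = α := inv_eq_of_mul_eq_one_left hα
      have hβi : β⁻¹ = β := inv_eq_of_mul_eq_one_left hβ
      rcases ihx with ⟨dx, hx | hx⟩ | ⟨dx, hx | hx⟩
      · left; rw [dx, hx]; simp
      · left; rw [dx, hx, _root_.mul_inv_rev, hαi, hβi, t1]; simp
      · right; rw [dx, hx, hαi]; simp
      · right; rw [dx, hx, hβi]; simp
  refine ⟨reflG Q a ha * reflG Q b hb, hcSO, ?_⟩
  intro g hg
  rw [mem_SO_iff] at hg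
  rcases main g with ⟨-, h1 | h1⟩ | ⟨h1, -⟩
  · left; exact (hπ1 g).mp h1
  · right
    rw [← hπ1, map_mul, map_inv, map_mul, h1]
    exact inv_mul_cancel _
  · exfalso
    rw [hg] at h1
    have : (2 : F) = 0 := by linear_combination h1
    exact h2 this

theorem Omega_le_SO : Cfsg.Omega F ⇑Q ≤ Cfsg.specialIsometryGroup F ⇑Q := by
  unfold Cfsg.specialIsometryGroup
  exact Abelianization.commutator_subset_ker _

/-- an index-two subgroup of `SO` is the subgroup of squares (odd characteristic) -/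
theorem eq_M_of_index_two (hQ : (QuadraticMap.polarBilin Q).Nondegenerate) (h2 : (2 : F) ≠ 0)
    (a : Fin n → F) (ha : Q a ≠ 0) (H : Subgroup ↥(Cfsg.specialIsometryGroup F ⇑Q))
    (hH : H.index = 2) : H = (M Q).subgroupOf (Cfsg.specialIsometryGroup F ⇑Q) := by
  obtain ⟨c, hc, hcov⟩ := cover Q hQ h2 a ha
  have hM : (M Q).subgroupOf (Cfsg.specialIsometryGroup F ⇑Q) ≤ H := by
    have h1 : M Q ≤ H.map (Cfsg.specialIsometryGroup F ⇑Q).subtype := by
      unfold M
      rw [Subgroup.closure_le]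
      rintro y ⟨z, hz, rfl⟩
      exact ⟨⟨z, hz⟩ * ⟨z, hz⟩, Subgroup.mul_self_mem_of_index_two hH _, rfl⟩
    intro x hx
    rw [Subgroup.mem_subgroupOf] at hx
    obtain ⟨x', hx', hxx⟩ := h1 hx
    have : x' = x := Subtype.ext hxx
    rwa [this] at hx'
  have hcov' : ∀ g : ↥(Cfsg.specialIsometryGroup F ⇑Q),
      g ∈ (M Q).subgroupOf (Cfsg.specialIsometryGroup F ⇑Q) ∨
      (⟨c, hc⟩ : ↥(Cfsg.specialIsometryGroup F ⇑Q))⁻¹ * g ∈
        (M Q).subgroupOf (Cfsg.specialIsometryGroup F ⇑Q) := by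
    intro g
    rcases hcov g.1 g.2 with h1 | h1
    · left; exact h1
    · right; exact h1
  have hcH : (⟨c, hc⟩ : ↥(Cfsg.specialIsometryGroup F ⇑Q)) ∉ H := by
    intro hcH
    have : H = ⊤ := by
      rw [eq_top_iff]
      intro g _
      rcases hcov' g with h1 | h1
      · exact hM h1
      · have := Subgroup.mul_mem _ hcH (hM h1)
        rwa [mul_inv_cancel_left] at this
    rw [this, Subgroup.index_top] at hH
    omega
  apply le_antisymm _ hM
  intro g hg
  rcases hcov' g with h1 | h1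
  · exact h1
  · exfalso
    have h3 := Subgroup.mul_mem _ (hM h1) (Subgroup.inv_mem _ hg)
    rw [mul_inv_cancel_right] at h3
    exact hcH (by simpa using Subgroup.inv_mem _ h3)

/-- `SO` has exactly one subgroup of index two -/
theorem unique_index_two (hn : 2 ≤ n) (hQ : (QuadraticMap.polarBilin Q).Nondegenerate)
    (h : Fintype.card F ≠ 2 ∨ n ≠ 4) :
    ∃! H : Subgroup ↥(Cfsg.specialIsometryGroup F ⇑Q), H.index = 2 := by
  haveI : Nonempty (Fin n) := ⟨⟨0, by omega⟩⟩
  obtain ⟨a, ha⟩ := exists_Q_ne_zero' Q hQ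
  by_cases h2 : (2 : F) = 0
  · haveI : CharP F 2 := CharTwo.of_one_ne_zero_of_two_eq_zero one_ne_zero h2
    have hcard : Nat.card F ≠ 2 ∨ Fintype.card (Fin n) ≠ 4 := by
      rw [Nat.card_eq_fintype_card, Fintype.card_fin]; exact h
    have hΩ := index_Omega Q hQ hcard
    have hSO : Cfsg.specialIsometryGroup F ⇑Q = ⊤ := by
      rw [eq_top_iff]
      intro g _
      rw [mem_SO_iff]
      rcases (Cfsg.Agent.S0785.result Q hQ).1 g with h1 | h1
      · exact h1
      · rw [h1, CharTwo.neg_eq]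
    refine ⟨(Cfsg.Omega F ⇑Q).subgroupOf (Cfsg.specialIsometryGroup F ⇑Q), ?_, ?_⟩
    · show (Cfsg.Omega F ⇑Q).relIndex (Cfsg.specialIsometryGroup F ⇑Q) = 2
      rw [hSO, Subgroup.relIndex_top_right]
      exact hΩ
    · intro H hH
      have h1 : (H.map (Cfsg.specialIsometryGroup F ⇑Q).subtype).index = 2 := by
        rw [Subgroup.index_map_subtype, hH, hSO, Subgroup.index_top]
      have h3 := Cfsg.Agent.Lib.H11.IndexTwo.commutator_le_of_index_two _ h1
      have h4 := Subgroup.relIndex_mul_index h3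
      rw [h1] at h4
      have h5 : (commutator ↥(Cfsg.isometryGroup F ⇑Q)).index = 2 := hΩ
      rw [h5] at h4
      have h6 : (commutator ↥(Cfsg.isometryGroup F ⇑Q)).relIndex
          (H.map (Cfsg.specialIsometryGroup F ⇑Q).subtype) = 1 := by omega
      rw [Subgroup.relIndex_eq_one] at h6
      have h7 : H.map (Cfsg.specialIsometryGroup F ⇑Q).subtype = Cfsg.Omega F ⇑Q :=
        le_antisymm h6 h3
      ext x
      rw [Subgroup.mem_subgroupOf, ← h7]
      constructor
      · intro hx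
        exact ⟨x, hx, rfl⟩
      · rintro ⟨x', hx', hxx⟩
        have : x' = x := Subtype.ext hxx
        rwa [this] at hx'
  · have hΩ : (Cfsg.Omega F ⇑Q).index = 4 := Cfsg.Agent.S0788.result h2 hn Q hQ
    have hSO : (Cfsg.specialIsometryGroup F ⇑Q).index = 2 := by
      rw [Subgroup.index_eq_two_iff]
      refine ⟨reflG Q a ha, ?_⟩
      intro b
      rw [mem_SO_iff, mem_SO_iff, det_mul', det_reflG]
      rcases (Cfsg.Agent.S0785.result Q hQ).1 b with h1 | h1
      · right
        rw [h1]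
        refine ⟨rfl, ?_⟩
        intro h3
        apply h2
        linear_combination -h3
      · left
        rw [h1]
        refine ⟨by ring, ?_⟩
        intro h3
        apply h2
        linear_combination -h3
    have hex : ((Cfsg.Omega F ⇑Q).subgroupOf (Cfsg.specialIsometryGroup F ⇑Q)).index = 2 := by
      show (Cfsg.Omega F ⇑Q).relIndex (Cfsg.specialIsometryGroup F ⇑Q) = 2
      have := Subgroup.relIndex_mul_index (Omega_le_SO Q)
      rw [hSO, hΩ] at this
      omega
    refine ⟨_, hex, ?_⟩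
    intro H hH
    rw [eq_M_of_index_two Q hQ h2 a ha H hH, eq_M_of_index_two Q hQ h2 a ha _ hex]

end Cfsg.Agent.Lib.H13.SOIndexTwo
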