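import Mathlib

set_option autoImplicit false

namespace Cfsg.Agent.Lib.H13.InvolLines

open Module

section split
variable {F V : Type*} [Field F] [AddCommGroup V] [Module F V]

/-- an invariant complement of the plane spanned by `v` and `t v` -/
def cmpl (t : V →ₗ[F] V) (φ : V →ₗ[F] F) : Submodule F V :=
  LinearMap.ker φ ⊓ LinearMap.ker (φ ∘ₗ t)

theorem mem_cmpl (t : V →ₗ[F] V) (φ : V →ₗ[F] F) (w : V) :
    w ∈ cmpl t φ ↔ φ w = 0 ∧ φ (t w) = 0 := by
  unfold cmpl
  rw [Submodule.mem_inf, LinearMap.mem_ker, LinearMap.mem_ker, LinearMap.comp_apply]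

/-- splitting off the plane spanned by `v` and `t v` -/
noncomputable def splitL (t : V →ₗ[F] V) (z : F) (ht : ∀ v, t (t v) = z • v) (φ : V →ₗ[F] F)
    (v : V) (h0 : φ v = 0) (h1 : φ (t v) = 1) : V ≃ₗ[F] F × F × cmpl t φ where
  toFun y := (φ (t y), φ y, ⟨y - φ (t y) • v - φ y • t v, by
    rw [mem_cmpl]
    simp only [map_sub, map_smul, ht, h0, h1, smul_eq_mul]
    constructor <;> ring⟩)
  map_add' y w := by
    refine Prod.ext ?_ (Prod.ext ?_ (Subtype.ext ?_))
    · simp only [map_add]; rfl
    · simp only [map_add]; rfl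
    · show y + w - φ (t (y + w)) • v - φ (y + w) • t v =
        (y - φ (t y) • v - φ y • t v) + (w - φ (t w) • v - φ w • t v)
      rw [map_add, map_add, map_add, add_smul, add_smul]
      abel
  map_smul' c y := by
    refine Prod.ext ?_ (Prod.ext ?_ (Subtype.ext ?_))
    · simp only [map_smul, smul_eq_mul, RingHom.id_apply, Prod.smul_fst]
    · simp only [map_smul, smul_eq_mul, RingHom.id_apply, Prod.smul_fst, Prod.smul_snd]
    · show c • y - φ (t (c • y)) • v - φ (c • y) • t v =
        c • (y - φ (t y) • v - φ y • t v)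
      rw [map_smul, map_smul, map_smul, smul_eq_mul, smul_eq_mul, smul_sub, smul_sub,
        mul_smul, mul_smul]
  invFun p := p.1 • v + p.2.1 • t v + (p.2.2 : V)
  left_inv y := by
    simp only
    abel
  right_inv p := by
    obtain ⟨a, c, w, hw⟩ := p
    rw [mem_cmpl] at hw
    apply Prod.ext
    · simp [map_add, map_smul, ht, h0, h1, hw.2]
    · apply Prod.ext
      · simp [map_add, map_smul, h0, h1, hw.1]
      · apply Subtype.ext
        show a • v + c • t v + w - φ (t (a • v + c • t v + w)) • v -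
          φ (a • v + c • t v + w) • t v = w
        simp only [map_add, map_smul, ht, h0, h1, hw.1, hw.2, smul_eq_mul, mul_one, mul_zero,
          add_zero, zero_add]
        abel

theorem splitL_symm_apply (t : V →ₗ[F] V) (z : F) (ht : ∀ v, t (t v) = z • v) (φ : V →ₗ[F] F)
    (v : V) (h0 : φ v = 0) (h1 : φ (t v) = 1) (p : F × F × cmpl t φ) :
    (splitL t z ht φ v h0 h1).symm p = p.1 • v + p.2.1 • t v + (p.2.2 : V) := rfl

theorem finrank_cmpl [FiniteDimensional F V] (t : V →ₗ[F] V) (z : F) (ht : ∀ v, t (t v) = z • v)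
    (φ : V →ₗ[F] F) (v : V) (h0 : φ v = 0) (h1 : φ (t v) = 1) :
    finrank F V = finrank F (cmpl t φ) + 2 := by
  have := (splitL t z ht φ v h0 h1).finrank_eq
  rw [Module.finrank_prod, Module.finrank_prod, Module.finrank_self] at this
  omega

theorem map_cmpl (t : V →ₗ[F] V) (z : F) (ht : ∀ v, t (t v) = z • v) (φ : V →ₗ[F] F) :
    ∀ w ∈ cmpl t φ, t w ∈ cmpl t φ := by
  intro w hw
  rw [mem_cmpl] at hw ⊢
  refine ⟨hw.2, ?_⟩
  rw [ht, map_smul, hw.1, smul_zero]

end split

section main
variable {F : Type*} [Field F]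

theorem lines_aux (z : F) (n : ℕ) : ∀ {V : Type*} [AddCommGroup V] [Module F V]
    [FiniteDimensional F V] (t : V →ₗ[F] V), (∀ v, t (t v) = z • v) → finrank F V = n →
    ∃ (ι : Type) (_ : Fintype ι) (_ : DecidableEq ι) (b : Basis ι F V) (π : ι → ι),
      Function.Involutive π ∧ ∀ i, ∃ c : F, t (b i) = c • b (π i) := by
  induction n using Nat.strong_induction_on with
  | _ n ih =>
    intro V _ _ _ t ht hn
    by_cases hsc : ∀ v, t v ∈ Submodule.span F {v}
    · refine ⟨Fin (finrank F V), inferInstance, inferInstance, Module.finBasis F V, id,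
        fun _ => rfl, fun i => ?_⟩
      exact Submodule.mem_span_singleton.mp (hsc _) |>.imp fun c hc => hc.symm
    · push Not at hsc
      obtain ⟨v, hv⟩ := hsc
      obtain ⟨φ₀, hφ₀, hle⟩ := Submodule.exists_le_ker_of_notMem hv
      set φ : V →ₗ[F] F := (φ₀ (t v))⁻¹ • φ₀ with hφ
      have h0 : φ v = 0 := by
        have : φ₀ v = 0 := hle (Submodule.mem_span_singleton_self v)
        rw [hφ, LinearMap.smul_apply, this, smul_zero]
      have h1 : φ (t v) = 1 := by
        rw [hφ, LinearMap.smul_apply, smul_eq_mul, inv_mul_cancel₀ hφ₀]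
      have hfr := finrank_cmpl t z ht φ v h0 h1
      let tW : cmpl t φ →ₗ[F] cmpl t φ := t.restrict (map_cmpl t z ht φ)
      have htW : ∀ w : cmpl t φ, ((tW w : cmpl t φ) : V) = t (w : V) := fun w => rfl
      obtain ⟨ι, hι, hdec, b', π', hπ', hb'⟩ := ih (n - 2) (by omega) tW
        (fun w => Subtype.ext (by rw [htW, htW, ht]; rfl)) (by omega)
      let b : Basis (Unit ⊕ (Unit ⊕ ι)) F V :=
        ((Basis.singleton Unit F).prod ((Basis.singleton Unit F).prod b')).map
          (splitL t z ht φ v h0 h1).symm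
      have hb1 : b (.inl ()) = v := by
        simp [b, splitL_symm_apply]
      have hb2 : b (.inr (.inl ())) = t v := by
        simp [b, splitL_symm_apply]
      have hb3 : ∀ i, b (.inr (.inr i)) = (b' i : V) := by
        intro i
        simp [b, splitL_symm_apply]
      let π : Unit ⊕ (Unit ⊕ ι) → Unit ⊕ (Unit ⊕ ι) := fun x =>
        match x with
        | .inl () => .inr (.inl ())
        | .inr (.inl ()) => .inl ()
        | .inr (.inr i) => .inr (.inr (π' i))
      refine ⟨Unit ⊕ (Unit ⊕ ι), inferInstance, inferInstance, b, π, ?_, ?_⟩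
      · rintro (⟨⟩ | ⟨⟩ | i)
        · rfl
        · rfl
        · show Sum.inr (Sum.inr (π' (π' i))) = _
          rw [hπ' i]
      · rintro (⟨⟩ | ⟨⟩ | i)
        · refine ⟨1, ?_⟩
          show t (b (.inl ())) = (1 : F) • b (.inr (.inl ()))
          rw [hb1, hb2, one_smul]
        · refine ⟨z, ?_⟩
          show t (b (.inr (.inl ()))) = z • b (.inl ())
          rw [hb1, hb2, ht]
        · obtain ⟨c, hc⟩ := hb' i
          refine ⟨c, ?_⟩
          show t (b (.inr (.inr i))) = c • b (.inr (.inr (π' i)))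
          rw [hb3, hb3, ← htW, hc]
          rfl

/-- a linear map with scalar square permutes the lines of some basis -/
theorem lines {V : Type*} [AddCommGroup V] [Module F V] [FiniteDimensional F V] (z : F)
    (t : V →ₗ[F] V) (ht : ∀ v, t (t v) = z • v) :
    ∃ (ι : Type) (_ : Fintype ι) (_ : DecidableEq ι) (b : Basis ι F V) (π : ι → ι),
      Function.Involutive π ∧ ∀ i, ∃ c : F, t (b i) = c • b (π i) :=
  lines_aux z _ t ht rfl

end main

end Cfsg.Agent.Lib.H13.InvolLines
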