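import Cfsg.Agent.Lib.H13.InvolLines

set_option autoImplicit false

namespace Cfsg.Agent.Lib.H13.InvolConjLin

open Module Cfsg.Agent.Lib.H13.InvolLines

section invol
variable {F V : Type*} [Field F] [AddCommGroup V] [Module F V]

theorem isCompl_eigen (h2 : (2 : F) ≠ 0) (t : V →ₗ[F] V) (ht : ∀ v, t (t v) = v) :
    IsCompl (LinearMap.ker (t - LinearMap.id)) (LinearMap.ker (t + LinearMap.id)) := by
  constructor
  · rw [Submodule.disjoint_def]
    intro v h1 h3
    rw [LinearMap.mem_ker, LinearMap.sub_apply, LinearMap.id_apply, sub_eq_zero] at h1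
    rw [LinearMap.mem_ker, LinearMap.add_apply, LinearMap.id_apply, h1] at h3
    have : (2 : F) • v = 0 := by rw [two_smul]; exact h3
    rcases smul_eq_zero.mp this with h | h
    · exact absurd h h2
    · exact h
  · rw [codisjoint_iff, eq_top_iff]
    intro v _
    have hv : v = (2 : F)⁻¹ • (v + t v) + (2 : F)⁻¹ • (v - t v) := by
      rw [← smul_add]
      have : v + t v + (v - t v) = (2 : F) • v := by rw [two_smul]; abel
      rw [this, smul_smul, inv_mul_cancel₀ h2, one_smul]
    rw [hv]
    apply Submodule.add_mem_sup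
    · apply Submodule.smul_mem
      rw [LinearMap.mem_ker, LinearMap.sub_apply, LinearMap.id_apply, map_add, ht]
      abel
    · apply Submodule.smul_mem
      rw [LinearMap.mem_ker, LinearMap.add_apply, LinearMap.id_apply, map_sub, ht]
      abel

/-- involutions with eigenspaces of the same dimensions are conjugate -/
theorem conj_of_finrank [FiniteDimensional F V] (h2 : (2 : F) ≠ 0) (t t' : V →ₗ[F] V)
    (ht : ∀ v, t (t v) = v) (ht' : ∀ v, t' (t' v) = v)
    (h : finrank F (LinearMap.ker (t + LinearMap.id)) = finrank F (LinearMap.ker (t' + LinearMap.id))) :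
    ∃ g : V ≃ₗ[F] V, ∀ v, g (t v) = t' (g v) := by
  have hc := isCompl_eigen h2 t ht
  have hc' := isCompl_eigen h2 t' ht'
  have hsum := Submodule.finrank_add_eq_of_isCompl hc
  have hsum' := Submodule.finrank_add_eq_of_isCompl hc'
  have h' : finrank F (LinearMap.ker (t - LinearMap.id)) =
      finrank F (LinearMap.ker (t' - LinearMap.id)) := by omega
  let α := LinearEquiv.ofFinrankEq _ _ h'
  let β := LinearEquiv.ofFinrankEq _ _ h
  let e := Submodule.prodEquivOfIsCompl _ _ hc
  let e' := Submodule.prodEquivOfIsCompl _ _ hc'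
  refine ⟨e.symm.trans ((α.prodCongr β).trans e'), ?_⟩
  intro v
  obtain ⟨⟨a, b⟩, rfl⟩ := e.surjective v
  have ha : t (a : V) = a := by
    have := a.2
    rw [LinearMap.mem_ker, LinearMap.sub_apply, LinearMap.id_apply, sub_eq_zero] at this
    exact this
  have hb : t (b : V) = -b := by
    have := b.2
    rw [LinearMap.mem_ker, LinearMap.add_apply, LinearMap.id_apply] at this
    exact eq_neg_of_add_eq_zero_left this
  have hαa : t' (α a : V) = α a := by
    have := (α a).2
    rw [LinearMap.mem_ker, LinearMap.sub_apply, LinearMap.id_apply, sub_eq_zero] at this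
    exact this
  have hβb : t' (β b : V) = -(β b : V) := by
    have := (β b).2
    rw [LinearMap.mem_ker, LinearMap.add_apply, LinearMap.id_apply] at this
    exact eq_neg_of_add_eq_zero_left this
  have h1 : t (e (a, b)) = e (a, -b) := by
    rw [Submodule.coe_prodEquivOfIsCompl', Submodule.coe_prodEquivOfIsCompl', map_add, ha, hb]
    rfl
  rw [h1]
  simp only [LinearEquiv.trans_apply, LinearEquiv.symm_apply_apply, LinearEquiv.prodCongr_apply,
    Prod.map_apply]
  rw [Submodule.coe_prodEquivOfIsCompl', Submodule.coe_prodEquivOfIsCompl', map_add, hαa, hβb,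
    map_neg]
  rfl

end invol

section nonsq
variable {F : Type*} [Field F]

/-- normal form of a map with scalar square and no eigenvectors -/
theorem pairs_aux (z : F) (n : ℕ) : ∀ {V : Type*} [AddCommGroup V] [Module F V]
    [FiniteDimensional F V] (t : V →ₗ[F] V), (∀ v, t (t v) = z • v) →
    (∀ v, v ≠ 0 → t v ∉ Submodule.span F {v}) → finrank F V = n →
    ∃ (J : Type) (_ : Fintype J) (_ : DecidableEq J) (b : Basis (J ⊕ J) F V),
      ∀ j, t (b (.inl j)) = b (.inr j) ∧ t (b (.inr j)) = z • b (.inl j) := by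
  induction n using Nat.strong_induction_on with
  | _ n ih =>
    intro V _ _ _ t ht hne hn
    by_cases h0 : n = 0
    · subst h0
      haveI : Subsingleton V := by
        rw [Module.finrank_zero_iff] at hn
        exact hn
      exact ⟨Empty, inferInstance, inferInstance, Basis.empty V, fun j => j.elim⟩
    · have hpos : 0 < finrank F V := by omega
      obtain ⟨v, hv0⟩ := Module.finrank_pos_iff_exists_ne_zero.mp hpos
      have hv := hne v hv0
      obtain ⟨φ₀, hφ₀, hle⟩ := Submodule.exists_le_ker_of_notMem hv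
      set φ : V →ₗ[F] F := (φ₀ (t v))⁻¹ • φ₀ with hφ
      have h0' : φ v = 0 := by
        have : φ₀ v = 0 := hle (Submodule.mem_span_singleton_self v)
        rw [hφ, LinearMap.smul_apply, this, smul_zero]
      have h1 : φ (t v) = 1 := by
        rw [hφ, LinearMap.smul_apply, smul_eq_mul, inv_mul_cancel₀ hφ₀]
      have hfr := finrank_cmpl t z ht φ v h0' h1
      let tW : cmpl t φ →ₗ[F] cmpl t φ := t.restrict (map_cmpl t z ht φ)
      have htW : ∀ w : cmpl t φ, ((tW w : cmpl t φ) : V) = t (w : V) := fun w => rfl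
      obtain ⟨J, hJ, hdec, b', hb'⟩ := ih (n - 2) (by omega) tW
        (fun w => Subtype.ext (by rw [htW, htW, ht]; rfl))
        (by
          intro w hw0 hmem
          obtain ⟨c, hc⟩ := Submodule.mem_span_singleton.mp hmem
          apply hne (w : V) (fun h => hw0 (Subtype.ext h))
          rw [← htW, ← hc]
          exact Submodule.smul_mem _ _ (Submodule.mem_span_singleton_self _)) (by omega)
      let b₀ : Basis (Unit ⊕ (Unit ⊕ (J ⊕ J))) F V :=
        ((Basis.singleton Unit F).prod ((Basis.singleton Unit F).prod b')).map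
          (splitL t z ht φ v h0' h1).symm
      let ε : (Unit ⊕ (Unit ⊕ (J ⊕ J))) ≃ ((Unit ⊕ J) ⊕ (Unit ⊕ J)) :=
        { toFun := fun x => match x with
            | .inl () => .inl (.inl ())
            | .inr (.inl ()) => .inr (.inl ())
            | .inr (.inr (.inl j)) => .inl (.inr j)
            | .inr (.inr (.inr j)) => .inr (.inr j)
          invFun := fun x => match x with
            | .inl (.inl ()) => .inl ()
            | .inr (.inl ()) => .inr (.inl ())
            | .inl (.inr j) => .inr (.inr (.inl j))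
            | .inr (.inr j) => .inr (.inr (.inr j))
          left_inv := by rintro (⟨⟩ | ⟨⟩ | j | j) <;> rfl
          right_inv := by rintro ((⟨⟩ | j) | (⟨⟩ | j)) <;> rfl }
      let b := b₀.reindex ε
      have hb1 : b (.inl (.inl ())) = v := by
        simp [b, b₀, ε, splitL_symm_apply]
      have hb2 : b (.inr (.inl ())) = t v := by
        simp [b, b₀, ε, splitL_symm_apply]
      have hb3 : ∀ j, b (.inl (.inr j)) = (b' (.inl j) : V) := by
        intro j
        simp [b, b₀, ε, splitL_symm_apply]
      have hb4 : ∀ j, b (.inr (.inr j)) = (b' (.inr j) : V) := by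
        intro j
        simp [b, b₀, ε, splitL_symm_apply]
      refine ⟨Unit ⊕ J, inferInstance, inferInstance, b, ?_⟩
      rintro (⟨⟩ | j)
      · rw [hb1, hb2, ht]
        exact ⟨rfl, rfl⟩
      · rw [hb3, hb4, ← htW, ← htW, (hb' j).1, (hb' j).2]
        exact ⟨rfl, rfl⟩

/-- two maps with the same non-square scalar square are conjugate -/
theorem conj_of_no_eigen {V : Type*} [AddCommGroup V] [Module F V] [FiniteDimensional F V]
    (z : F) (t t' : V →ₗ[F] V) (ht : ∀ v, t (t v) = z • v) (ht' : ∀ v, t' (t' v) = z • v)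
    (hne : ∀ v, v ≠ 0 → t v ∉ Submodule.span F {v})
    (hne' : ∀ v, v ≠ 0 → t' v ∉ Submodule.span F {v}) :
    ∃ g : V ≃ₗ[F] V, ∀ v, g (t v) = t' (g v) := by
  classical
  obtain ⟨J, hJ, hdec, b, hb⟩ := pairs_aux z _ t ht hne rfl
  obtain ⟨J', hJ', hdec', b', hb'⟩ := pairs_aux z _ t' ht' hne' rfl
  have hcard : Fintype.card J = Fintype.card J' := by
    have h1 := Module.finrank_eq_card_basis b
    have h2 := Module.finrank_eq_card_basis b'
    rw [Fintype.card_sum] at h1 h2
    omega
  let σ : J ≃ J' := Fintype.equivOfCardEq hcard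
  let g := b.equiv b' (σ.sumCongr σ)
  refine ⟨g, ?_⟩
  have hg : ∀ k, g (b k) = b' ((σ.sumCongr σ) k) := fun k => Basis.equiv_apply _ _ _ _
  have : (g : V →ₗ[F] V) ∘ₗ t = t' ∘ₗ (g : V →ₗ[F] V) := by
    apply b.ext
    rintro (j | j)
    · simp only [LinearMap.comp_apply, LinearEquiv.coe_coe]
      rw [(hb j).1, hg, hg]
      simp only [Equiv.sumCongr_apply, Sum.map_inl, Sum.map_inr]
      rw [(hb' (σ j)).1]
    · simp only [LinearMap.comp_apply, LinearEquiv.coe_coe]
      rw [(hb j).2, map_smul, hg, hg]
      simp only [Equiv.sumCongr_apply, Sum.map_inl, Sum.map_inr]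
      rw [(hb' (σ j)).2]
  intro v
  exact LinearMap.congr_fun this v

theorem even_of_no_eigen {V : Type*} [AddCommGroup V] [Module F V] [FiniteDimensional F V]
    (z : F) (t : V →ₗ[F] V) (ht : ∀ v, t (t v) = z • v)
    (hne : ∀ v, v ≠ 0 → t v ∉ Submodule.span F {v}) : Even (finrank F V) := by
  obtain ⟨J, hJ, hdec, b, hb⟩ := pairs_aux z _ t ht hne rfl
  rw [Module.finrank_eq_card_basis b, Fintype.card_sum]
  exact ⟨_, rfl⟩

end nonsq

end Cfsg.Agent.Lib.H13.InvolConjLin
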