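import Cfsg.Agent.Lib.H13.PGLPrime

set_option autoImplicit false

namespace Cfsg.Agent.Lib.H13.GLPrime

open Polynomial Module Matrix

variable {F : Type*} [Field F] {n r : ℕ} {J : Type*}

/-- multiplicities (as `F`-dimensions of the primary components) -/
noncomputable def mu (f : J → F[X]) (x : Matrix (Fin n) (Fin n) F) (j : J) : ℕ :=
  finrank F (LinearMap.ker (aeval (Matrix.toLin' x) (f j)))

theorem aeval_of_pow (x : Matrix (Fin n) (Fin n) F) (hx : x ^ r = 1) :
    aeval (Matrix.toLin' x) (X ^ r - 1 : F[X]) = 0 := by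
  have := PGLPrime.aeval_pow_sub x 1 (by rw [one_smul]; exact hx)
  rwa [C_1] at this

theorem pow_of_aeval (x : Matrix (Fin n) (Fin n) F)
    (hx : aeval (Matrix.toLin' x) (X ^ r - 1 : F[X]) = 0) : x ^ r = 1 := by
  have := PGLPrime.pow_of_aeval x 1 (by rw [C_1]; exact hx)
  rwa [one_smul] at this

theorem dvd_mu (f : J → F[X]) (hirr : ∀ j, Irreducible (f j)) (x : Matrix (Fin n) (Fin n) F)
    (j : J) : (f j).natDegree ∣ mu f x j :=
  SSClass.natDegree_dvd_finrank (f j) (hirr j) _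
    (SSClass.aeval_restrict_eq_zero (Matrix.toLin' x) (f j))

theorem mu_conj (f : J → F[X]) (P x : GL (Fin n) F) (j : J) :
    mu f ((P * x * P⁻¹ : GL (Fin n) F) : Matrix (Fin n) (Fin n) F) j =
      mu f (x : Matrix (Fin n) (Fin n) F) j := by
  unfold mu
  symm
  apply SSClass.finrank_ker_eq_of_equiv _ _ (PGLPrime.glEquiv P)
  intro v
  rw [PGLPrime.glEquiv_apply, PGLPrime.glEquiv_apply, ← LinearMap.comp_apply,
    ← LinearMap.comp_apply, ← Matrix.toLin'_mul, ← Matrix.toLin'_mul, ← Units.val_mul,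
    ← Units.val_mul, inv_mul_cancel_right]

theorem mu_eq_of_isConj (f : J → F[X]) (x y : GL (Fin n) F) (h : IsConj x y) (j : J) :
    mu f (x : Matrix (Fin n) (Fin n) F) j = mu f (y : Matrix (Fin n) (Fin n) F) j := by
  rw [isConj_iff] at h
  obtain ⟨P, rfl⟩ := h
  exact (mu_conj f P x j).symm

variable [Fintype J] [DecidableEq J]

theorem sum_mu (f : J → F[X]) (hcop : ∀ i j, i ≠ j → IsCoprime (f i) (f j))
    (hprod : ∏ j, f j = X ^ r - 1) (x : Matrix (Fin n) (Fin n) F) (hx : x ^ r = 1) :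
    ∑ j, mu f x j = n := by
  have h := SSClass.finrank_eq_sum (SSClass.isInternal f hcop
    (Matrix.toLin' x) (by rw [hprod]; exact aeval_of_pow x hx))
  rw [Module.finrank_fintype_fun_eq_card, Fintype.card_fin] at h
  exact h.symm

theorem conj_of_mu_eq (f : J → F[X]) (hirr : ∀ j, Irreducible (f j))
    (hcop : ∀ i j, i ≠ j → IsCoprime (f i) (f j)) (hprod : ∏ j, f j = X ^ r - 1)
    (x y : GL (Fin n) F)
    (hx : (x : Matrix (Fin n) (Fin n) F) ^ r = 1) (hy : (y : Matrix (Fin n) (Fin n) F) ^ r = 1)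
    (h : ∀ j, mu f (x : Matrix (Fin n) (Fin n) F) j = mu f (y : Matrix (Fin n) (Fin n) F) j) :
    IsConj x y := by
  obtain ⟨g, hg⟩ := SSClass.exists_equiv f hirr hcop
    (Matrix.toLin' (x : Matrix (Fin n) (Fin n) F)) (Matrix.toLin' (y : Matrix (Fin n) (Fin n) F))
    (by rw [hprod]; exact aeval_of_pow _ hx) (by rw [hprod]; exact aeval_of_pow _ hy) h
  exact PGLInvol.isConj_of_lin x y g hg

theorem exists_of_mu (f : J → F[X]) (hirr : ∀ j, Irreducible (f j))
    (hcop : ∀ i j, i ≠ j → IsCoprime (f i) (f j)) (hprod : ∏ j, f j = X ^ r - 1) (hr : 0 < r)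
    (m : J → ℕ) (hm : ∑ j, m j * (f j).natDegree = n) :
    ∃ x : GL (Fin n) F, (x : Matrix (Fin n) (Fin n) F) ^ r = 1 ∧
      ∀ j, mu f (x : Matrix (Fin n) (Fin n) F) j = m j * (f j).natDegree := by
  obtain ⟨φ, hφ, hmφ⟩ := SSClass.exists_end (V := Fin n → F) f hirr hcop m (by
      rw [Module.finrank_fintype_fun_eq_card, Fintype.card_fin, hm])
  have h1 : (LinearMap.toMatrix' φ) ^ r = 1 := by
    apply pow_of_aeval
    rw [Matrix.toLin'_toMatrix', ← hprod]
    exact hφ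
  refine ⟨PGLPrime.glOfPow (LinearMap.toMatrix' φ) 1 one_ne_zero hr (by rw [h1, one_smul]),
    h1, fun j => ?_⟩
  rw [PGLPrime.glOfPow_val, mu, Matrix.toLin'_toMatrix', hmφ j]

end Cfsg.Agent.Lib.H13.GLPrime
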