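import Cfsg.Agent.Lib.H13.TraceForm
import Cfsg.Agent.Lib.H13.Singer
import Cfsg.Agent.Lib.H11.IsoReindex
import Cfsg.Agent.Lib.H13.SpInvolCount
import Cfsg.Agent.Lib.H13.StdForm
import Cfsg.Agent.Lib.H2.SpOrder
import Cfsg.Agent.Lib.H2.SpExt
import Cfsg.Agent.S0270
import Cfsg.Agent.S0287
import Cfsg.Agent.S0288
import Cfsg.Prelude.Def_GeometricClasses

set_option autoImplicit false

namespace Cfsg.Agent.Lib.H13.SpQuadIndex

open Module Matrix QuadraticMap
open scoped MatrixGroups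
open Cfsg.Agent.Lib.H13 Cfsg.Agent.Lib.H13.SpInvolCount Cfsg.Agent.Lib.H13.TraceForm

abbrev KK (d : ℕ) : Type := Fin d ⊕ Fin d

section Basics

variable {F : Type*} [Field F]

/-- the natural representation of an isometry group -/
def natRep {ι : Type} [Fintype ι] [DecidableEq ι] (Q : (ι → F) → F) :
    ↥(Cfsg.isometryGroup F Q) →* Module.End F (ι → F) where
  toFun g := Matrix.toLin' ((g : GL ι F) : Matrix ι ι F)
  map_one' := by
    apply LinearMap.ext
    intro v
    simp
  map_mul' g h := by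
    apply LinearMap.ext
    intro v
    simp [Matrix.toLin'_mul]

theorem natRep_apply {ι : Type} [Fintype ι] [DecidableEq ι] (Q : (ι → F) → F)
    (g : ↥(Cfsg.isometryGroup F Q)) (v : ι → F) :
    natRep Q g v = ((g : GL ι F) : Matrix ι ι F) *ᵥ v := by
  show Matrix.toLin' ((g : GL ι F) : Matrix ι ι F) v = _
  rw [Matrix.toLin'_apply]

theorem natRep_pres {ι : Type} [Fintype ι] [DecidableEq ι] (Q : (ι → F) → F)
    (g : ↥(Cfsg.isometryGroup F Q)) (v : ι → F) : Q (natRep Q g v) = Q v := by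
  rw [natRep_apply]
  exact (Cfsg.Agent.Lib.H11.IsoReindex.mem_iso_iff' _ _).mp g.2 v

/-- isometric forms have isometry groups of the same order -/
theorem card_iso_eq [Finite F] {ι ι₀ : Type} [Fintype ι] [DecidableEq ι] [Fintype ι₀] [DecidableEq ι₀]
    (Q : (ι → F) → F) (Q₀ : (ι₀ → F) → F) (θ : (ι → F) ≃ₗ[F] (ι₀ → F))
    (hθ : ∀ v, Q v = Q₀ (θ v)) :
    Nat.card ↥(Cfsg.isometryGroup F Q) = Nat.card ↥(Cfsg.isometryGroup F Q₀) := by
  obtain ⟨φ, hφ⟩ := exists_hom_isometryGroup θ Q₀ Q hθ (natRep Q) (natRep_pres Q)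
  have hθ' : ∀ v, Q₀ v = Q (θ.symm v) := by
    intro v
    rw [hθ, LinearEquiv.apply_symm_apply]
  obtain ⟨φ', hφ'⟩ := exists_hom_isometryGroup θ.symm Q Q₀ hθ' (natRep Q₀) (natRep_pres Q₀)
  have hinj : Function.Injective φ := by
    intro a b hab
    apply Subtype.ext
    apply Singer.gl_ext
    intro v
    have h1 := hφ a v
    have h2 := hφ b v
    rw [hab, h2, natRep_apply, natRep_apply] at h1
    exact (θ.injective h1).symm
  have hinj' : Function.Injective φ' := by
    intro a b hab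
    apply Subtype.ext
    apply Singer.gl_ext
    intro v
    have h1 := hφ' a v
    have h2 := hφ' b v
    rw [hab, h2, natRep_apply, natRep_apply] at h1
    exact (θ.symm.injective h1).symm
  exact le_antisymm (Nat.card_le_card_of_injective φ hinj) (Nat.card_le_card_of_injective φ' hinj')

end Basics

section Symp

variable {F : Type*} [Field F] (d : ℕ)

/-- a function with the quadratic-form laws and polar form `sympForm` as a `QuadraticForm` -/
noncomputable def mkQF (Q : (KK d → F) → F) (hs : ∀ (c : F) (v : KK d → F), Q (c • v) = c ^ 2 * Q v)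
    (hQf : ∀ u v, QuadraticMap.polar Q u v = Cfsg.sympForm d F u v) :
    QuadraticForm F (KK d → F) where
  toFun := Q
  toFun_smul a x := by rw [hs, smul_eq_mul, pow_two]
  exists_companion' := ⟨sympB d, fun x y => by
    rw [sympB_apply, ← hQf]
    unfold QuadraticMap.polar
    ring⟩

theorem coe_mkQF (Q : (KK d → F) → F) (hs : ∀ (c : F) (v : KK d → F), Q (c • v) = c ^ 2 * Q v)
    (hQf : ∀ u v, QuadraticMap.polar Q u v = Cfsg.sympForm d F u v) :
    ⇑(mkQF d Q hs hQf) = Q := rfl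

theorem nondeg_mkQF (Q : (KK d → F) → F) (hs : ∀ (c : F) (v : KK d → F), Q (c • v) = c ^ 2 * Q v)
    (hQf : ∀ u v, QuadraticMap.polar Q u v = Cfsg.sympForm d F u v) :
    (polarBilin (mkQF d Q hs hQf)).Nondegenerate := by
  have : polarBilin (mkQF d Q hs hQf) = sympB d := by
    apply LinearMap.ext₂
    intro x y
    rw [polarBilin_apply_apply, coe_mkQF, hQf, sympB_apply]
  rw [this]
  exact sympB_nondeg d

theorem polar_plus_eq_symp [CharP F 2] (u v : KK d → F) :
    QuadraticMap.polar (Cfsg.quadFormPlus d F) u v = Cfsg.sympForm d F u v := by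
  rw [polar_quadFormPlus_formula, Cfsg.Agent.Lib.H2.Sp.sympForm_eq]
  apply Finset.sum_congr rfl
  intro i _
  rw [Char2Gen.sub_eq_add' F]
  ring

/-- the similarity group of `Q` meets `Sp` in the isometry group -/
theorem quadSim_inf_sp (hd : 1 ≤ d) (Q : (KK d → F) → F)
    (hQf : ∀ u v, QuadraticMap.polar Q u v = Cfsg.sympForm d F u v) :
    Cfsg.Geo.quadSimilarityGroup Q ⊓ Cfsg.spGL d F = Cfsg.isometryGroup F Q := by
  ext g
  rw [Subgroup.mem_inf, Cfsg.Agent.Lib.H11.IsoReindex.mem_iso_iff']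
  constructor
  · rintro ⟨⟨c, hc⟩, hsp⟩
    have hpol : ∀ u v, QuadraticMap.polar Q ((g : Matrix (KK d) (KK d) F) *ᵥ u)
        ((g : Matrix (KK d) (KK d) F) *ᵥ v) = (c : F) * QuadraticMap.polar Q u v := by
      intro u v
      unfold QuadraticMap.polar
      rw [← Matrix.mulVec_add, hc, hc, hc]
      ring
    obtain ⟨z, hz⟩ := Cfsg.Agent.Lib.H2.Sp.exists_sympForm_ne_zero d
      (Pi.single (Sum.inl ⟨0, hd⟩) 1 : KK d → F) (by
        intro h
        have := congrFun h (Sum.inl ⟨0, hd⟩)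
        simp at this)
    have h1 := hpol (Pi.single (Sum.inl ⟨0, hd⟩) 1) z
    rw [hQf, hQf] at h1
    have h2 : Cfsg.sympForm d F ((g : Matrix (KK d) (KK d) F) *ᵥ (Pi.single (Sum.inl ⟨0, hd⟩) 1))
        ((g : Matrix (KK d) (KK d) F) *ᵥ z) = Cfsg.sympForm d F (Pi.single (Sum.inl ⟨0, hd⟩) 1) z :=
      hsp _ _
    rw [h2] at h1
    have hc1 : (c : F) = 1 := by
      have : ((c : F) - 1) * Cfsg.sympForm d F (Pi.single (Sum.inl ⟨0, hd⟩) 1) z = 0 := by
        rw [sub_mul, ← h1, one_mul, sub_self]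
      rcases mul_eq_zero.1 this with h | h
      · exact sub_eq_zero.1 h
      · exact absurd h hz
    intro x
    rw [hc x, hc1, one_mul]
  · intro h
    refine ⟨⟨1, fun v => by rw [h v]; simp⟩, ?_⟩
    intro u v
    show Cfsg.sympForm d F ((g : Matrix (KK d) (KK d) F) *ᵥ u)
      ((g : Matrix (KK d) (KK d) F) *ᵥ v) = Cfsg.sympForm d F u v
    rw [← hQf, ← hQf]
    unfold QuadraticMap.polar
    rw [← Matrix.mulVec_add, h, h, h]

theorem card_spGL [Fintype F] : Nat.card ↥(Cfsg.spGL d F) =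
    Fintype.card F ^ (d ^ 2) * ∏ i ∈ Finset.range d, (Fintype.card F ^ (2 * (i + 1)) - 1) := by
  rw [← Cfsg.Agent.Lib.H2.Sp.card_Sp d]
  symm
  apply Nat.card_congr
  refine Equiv.ofBijective (Cfsg.Agent.S0270.toSpGL (F := F) (m := d)) ⟨?_, Cfsg.Agent.S0270.toSpGL_surj⟩
  intro a b hab
  apply Subtype.ext
  have := congrArg (fun x : ↥(Cfsg.spGL d F) => ((x : GL (KK d) F) : Matrix (KK d) (KK d) F)) hab
  exact this

/-- index times the order of `O(Q)` is the order of `Sp` -/
theorem relIndex_mul_card [Finite F] (hd : 1 ≤ d) (Q : (KK d → F) → F)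
    (hQf : ∀ u v, QuadraticMap.polar Q u v = Cfsg.sympForm d F u v) :
    (Cfsg.Geo.quadSimilarityGroup Q).relIndex (Cfsg.spGL d F) *
      Nat.card ↥(Cfsg.isometryGroup F Q) = Nat.card ↥(Cfsg.spGL d F) := by
  rw [← Subgroup.inf_relIndex_right, quadSim_inf_sp d hd Q hQf]
  have hle : Cfsg.isometryGroup F Q ≤ Cfsg.spGL d F := by
    rw [← quadSim_inf_sp d hd Q hQf]
    exact inf_le_right
  rw [Subgroup.relIndex, ← Nat.card_congr (Subgroup.subgroupOfEquivOfLe hle).toEquiv]
  exact Subgroup.index_mul_card _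

end Symp

end Cfsg.Agent.Lib.H13.SpQuadIndex
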