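import Mathlib
import Cfsg.Prelude.Def_Classical
import Cfsg.Agent.Lib.H13.Witt
import Cfsg.Agent.Lib.H13.Char2Gen

set_option autoImplicit false

namespace Cfsg.Agent.Lib.H13.TraceForm

open Module QuadraticMap
open Cfsg.Agent.Lib.H13

section Tr

variable {F K : Type*} [Field F] [Field K] [Algebra F K]
  {M : Type*} [AddCommGroup M] [Module K M] [Module F M] [IsScalarTower F K M]

/-- the transfer `Tr_{K/F} ∘ Q` of a quadratic form over `K` -/
noncomputable def trQF (Q : QuadraticForm K M) : QuadraticForm F M :=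
  (Algebra.trace F K).compQuadraticMap' Q

theorem trQF_apply (Q : QuadraticForm K M) (v : M) :
    trQF (F := F) Q v = Algebra.trace F K (Q v) := rfl

theorem polar_trQF (Q : QuadraticForm K M) (x y : M) :
    polar (trQF (F := F) Q) x y = Algebra.trace F K (polar Q x y) :=
  LinearMap.compQuadraticMap_polar _ Q x y

theorem nondeg_trQF [Finite F] [Finite K] (Q : QuadraticForm K M)
    (hQ : (polarBilin Q).Nondegenerate) : (polarBilin (trQF (F := F) Q)).Nondegenerate := by
  haveI : FiniteDimensional F K := Module.Finite.of_finite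
  rw [nondegenerate_polar_iff]
  intro x hx
  apply hQ.1 x
  intro y
  by_contra hne
  have hne' : polar (⇑Q) x y ≠ 0 := hne
  obtain ⟨c, hc⟩ := Algebra.trace_surjective F K (1 : F)
  have := hx ((c / polar (⇑Q) x y) • y)
  rw [polar_trQF, polar_smul_right, smul_eq_mul, div_mul_cancel₀ _ hne', hc] at this
  exact one_ne_zero this

end Tr

section Plane

variable {K : Type*} [Field K] [CharP K 2] {M : Type*} [AddCommGroup M] [Module K M]
  [FiniteDimensional K M]

/-- an isometry of odd order of an anisotropic plane in characteristic two fixes no nonzero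
vector -/
theorem no_fixed_of_odd (Q : QuadraticForm K M)
    (hQ : (polarBilin Q).Nondegenerate) (h2 : finrank K M = 2) (t : M →ₗ[K] M)
    (ht : ∀ x, Q (t x) = Q x) (k : ℕ) (htr : ∀ v, (⇑t)^[2 * k + 1] v = v)
    (ht1 : ∃ v, t v ≠ v) : ∀ v, t v = v → v = 0 := by
  intro v hv
  by_contra hv0
  have hpol : ∀ x y, polar (⇑Q) (t x) (t y) = polar (⇑Q) x y := by
    intro x y
    unfold polar
    rw [← map_add, ht, ht, ht]
  have horth := LinearMap.BilinForm.finrank_orthogonal hQ (Submodule.span K {v})
  rw [finrank_span_singleton hv0, h2] at horth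
  have hle : Submodule.span K {v} ≤ LinearMap.BilinForm.orthogonal (polarBilin Q)
      (Submodule.span K {v}) := by
    rw [Submodule.span_singleton_le_iff_mem, LinearMap.BilinForm.mem_orthogonal_iff]
    intro w hw
    obtain ⟨c, rfl⟩ := Submodule.mem_span_singleton.1 hw
    show polar (⇑Q) (c • v) v = 0
    rw [polar_smul_left, Char2Gen.polar_self_zero, smul_zero]
  have heq : Submodule.span K {v} = LinearMap.BilinForm.orthogonal (polarBilin Q)
      (Submodule.span K {v}) :=
    Submodule.eq_of_le_of_finrank_eq hle (by rw [finrank_span_singleton hv0, horth])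
  have hstep : ∀ u, ∃ c : K, t u = u + c • v := by
    intro u
    have hmem : t u - u ∈ LinearMap.BilinForm.orthogonal (polarBilin Q)
        (Submodule.span K {v}) := by
      rw [LinearMap.BilinForm.mem_orthogonal_iff]
      intro w hw
      obtain ⟨c, rfl⟩ := Submodule.mem_span_singleton.1 hw
      show polar (⇑Q) (c • v) (t u - u) = 0
      rw [polar_smul_left, polar_sub_right]
      have := hpol v u
      rw [hv] at this
      rw [this, sub_self, smul_zero]
    rw [← heq] at hmem
    obtain ⟨c, hc⟩ := Submodule.mem_span_singleton.1 hmem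
    exact ⟨c, by rw [hc]; abel⟩
  have hsq : ∀ u, t (t u) = u := by
    intro u
    obtain ⟨c, hc⟩ := hstep u
    rw [hc, map_add, map_smul, hv, hc, add_assoc, ← add_smul, Char2Gen.add_self_zero K c, zero_smul,
      add_zero]
  have hit : ∀ (j : ℕ) (u : M), (⇑t)^[2 * j] u = u := by
    intro j
    induction j with
    | zero => intro u; rfl
    | succ j ih =>
      intro u
      rw [Nat.mul_succ, Function.iterate_add_apply, ih, Function.iterate_succ_apply,
        Function.iterate_succ_apply, Function.iterate_zero_apply, hsq]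
  obtain ⟨u, hu⟩ := ht1
  apply hu
  have := htr u
  rw [Function.iterate_succ_apply', hit] at this
  exact this

end Plane

section Count

variable {F : Type*} [Field F] {V : Type*} [AddCommGroup V] [Module F V] [Finite V]

/-- a fixed-point-free isometry of prime order `r`: `r` divides the number of nonzero singular
vectors -/
theorem dvd_card_singular {G : Type*} [Group G] (ρ : G →* Module.End F V) (Q : QuadraticForm F V)
    (hpres : ∀ g v, Q (ρ g v) = Q v) (y : G) (r : ℕ) [Fact r.Prime] (hy : y ^ r = 1)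
    (hfix : ∀ v, ρ y v = v → v = 0) : r ∣ Nat.card {v : V // v ≠ 0 ∧ Q v = 0} := by
  classical
  haveI : Fintype {v : V // v ≠ 0 ∧ Q v = 0} := Fintype.ofFinite _
  have hinv : ∀ (g : G) (v : V), ρ g⁻¹ (ρ g v) = v := by
    intro g v
    have : (ρ g⁻¹ * ρ g) v = v := by rw [← map_mul, inv_mul_cancel, map_one]; rfl
    exact this
  have hne : ∀ (g : G) (v : V), v ≠ 0 → ρ g v ≠ 0 := by
    intro g v hv h0
    apply hv
    rw [← hinv g v, h0, map_zero]
  let Ψ : G →* Equiv.Perm {v : V // v ≠ 0 ∧ Q v = 0} := MonoidHom.mk'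
    (fun g => ⟨fun v => ⟨ρ g v.1, hne g v.1 v.2.1, by rw [hpres]; exact v.2.2⟩,
      fun v => ⟨ρ g⁻¹ v.1, hne g⁻¹ v.1 v.2.1, by rw [hpres]; exact v.2.2⟩,
      fun v => Subtype.ext (hinv g v.1),
      fun v => Subtype.ext (by
        have := hinv g⁻¹ v.1
        rw [inv_inv] at this
        exact this)⟩)
    (by
      intro a b
      ext v
      show ρ (a * b) v.1 = ρ a (ρ b v.1)
      rw [map_mul]
      rfl)
  have hΨ : ∀ g v, ((Ψ g v : {v : V // v ≠ 0 ∧ Q v = 0}) : V) = ρ g v.1 := fun g v => rfl
  have hσ : (Ψ y) ^ r ^ 1 = 1 := by rw [pow_one, ← map_pow, hy, map_one]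
  have hmod := Equiv.Perm.card_compl_support_modEq hσ
  have hsupp : (Ψ y).supportᶜ = ∅ := by
    rw [Finset.eq_empty_iff_forall_notMem]
    intro v hv
    rw [Finset.mem_compl, Equiv.Perm.notMem_support] at hv
    have h1 := congrArg Subtype.val hv
    rw [hΨ] at h1
    exact v.2.1 (hfix v.1 h1)
  rw [hsupp, Finset.card_empty] at hmod
  rw [Nat.card_eq_fintype_card]
  exact (Nat.modEq_zero_iff_dvd.1 hmod.symm)

end Count

section Hom

variable {F : Type*} [Field F]

/-- a representation preserving a function which in some basis is `Q₀` maps into the isometry group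
of `Q₀`, compatibly with coordinates -/
theorem exists_hom_isometryGroup {G : Type*} [Group G] {V : Type*} [AddCommGroup V]
    [Module F V] {ι : Type} [Fintype ι] [DecidableEq ι] (Θ : V ≃ₗ[F] (ι → F)) (Q₀ : (ι → F) → F)
    (Qf : V → F) (hb : ∀ v, Qf v = Q₀ (Θ v))
    (ρ : G →* Module.End F V) (hpres : ∀ g v, Qf (ρ g v) = Qf v) :
    ∃ φ : G →* ↥(Cfsg.isometryGroup F Q₀), ∀ g v,
      (((φ g : ↥(Cfsg.isometryGroup F Q₀)) : Matrix.GeneralLinearGroup ι F) :
        Matrix ι ι F).mulVec (Θ v) = Θ (ρ g v) := by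
  classical
  let M : G →* Matrix ι ι F :=
    { toFun := fun g => LinearMap.toMatrix' ((Θ : V →ₗ[F] (ι → F)) ∘ₗ ρ g ∘ₗ
        (Θ.symm : (ι → F) →ₗ[F] V))
      map_one' := by
        rw [map_one]
        have : (Θ : V →ₗ[F] (ι → F)) ∘ₗ (1 : Module.End F V) ∘ₗ (Θ.symm : (ι → F) →ₗ[F] V) =
            LinearMap.id := by
          apply LinearMap.ext
          intro v
          simp
        rw [this, LinearMap.toMatrix'_id]
      map_mul' := by
        intro a b
        rw [← LinearMap.toMatrix'_comp, map_mul]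
        congr 1
        apply LinearMap.ext
        intro v
        simp }
  have hM : ∀ g v, (M g).mulVec (Θ v) = Θ (ρ g v) := by
    intro g v
    show (LinearMap.toMatrix' ((Θ : V →ₗ[F] (ι → F)) ∘ₗ ρ g ∘ₗ
        (Θ.symm : (ι → F) →ₗ[F] V))).mulVec (Θ v) = Θ (ρ g v)
    rw [LinearMap.toMatrix'_mulVec]
    simp
  let MU : G →* Matrix.GeneralLinearGroup ι F := M.toHomUnits
  have hMU : ∀ g, ((MU g : Matrix.GeneralLinearGroup ι F) : Matrix ι ι F) = M g := fun g => rfl
  have hmem : ∀ g, MU g ∈ Cfsg.isometryGroup F Q₀ := by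
    intro g x y
    show Q₀ (((MU g : Matrix.GeneralLinearGroup ι F) : Matrix ι ι F).mulVec x) = Q₀ x
    obtain ⟨v, rfl⟩ := Θ.surjective x
    rw [hMU, hM, ← hb, ← hb, hpres]
  refine ⟨MU.codRestrict (Cfsg.isometryGroup F Q₀) hmem, ?_⟩
  intro g v
  exact hM g v

end Hom

end Cfsg.Agent.Lib.H13.TraceForm
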