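import Cfsg.Agent.Lib.H4.Orth
import Cfsg.Agent.Lib.H11.IsoReindex

set_option autoImplicit false

namespace Cfsg.Agent.Lib.H13.OrthSum

open Matrix
open scoped MatrixGroups

variable {F : Type*} [Field F] {ι₁ ι₂ : Type} [Fintype ι₁] [DecidableEq ι₁] [Fintype ι₂]
  [DecidableEq ι₂]

/-- the orthogonal sum of two quadratic forms -/
noncomputable def sumQF (Q₁ : QuadraticForm F (ι₁ → F)) (Q₂ : QuadraticForm F (ι₂ → F)) :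
    QuadraticForm F (ι₁ ⊕ ι₂ → F) :=
  Q₁.comp (LinearMap.funLeft F F Sum.inl) + Q₂.comp (LinearMap.funLeft F F Sum.inr)

theorem coe_sumQF (Q₁ : QuadraticForm F (ι₁ → F)) (Q₂ : QuadraticForm F (ι₂ → F)) :
    ⇑(sumQF Q₁ Q₂) = fun v : ι₁ ⊕ ι₂ → F => Q₁ (v ∘ Sum.inl) + Q₂ (v ∘ Sum.inr) := rfl

theorem sumQF_apply (Q₁ : QuadraticForm F (ι₁ → F)) (Q₂ : QuadraticForm F (ι₂ → F))
    (v : ι₁ ⊕ ι₂ → F) : sumQF Q₁ Q₂ v = Q₁ (v ∘ Sum.inl) + Q₂ (v ∘ Sum.inr) := rfl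

theorem polar_sumQF (Q₁ : QuadraticForm F (ι₁ → F)) (Q₂ : QuadraticForm F (ι₂ → F))
    (u v : ι₁ ⊕ ι₂ → F) : QuadraticMap.polar (⇑(sumQF Q₁ Q₂)) u v =
      QuadraticMap.polar (⇑Q₁) (u ∘ Sum.inl) (v ∘ Sum.inl) +
      QuadraticMap.polar (⇑Q₂) (u ∘ Sum.inr) (v ∘ Sum.inr) := by
  unfold QuadraticMap.polar
  rw [sumQF_apply, sumQF_apply, sumQF_apply]
  have e1 : (u + v) ∘ Sum.inl = u ∘ Sum.inl + v ∘ (Sum.inl : ι₁ → ι₁ ⊕ ι₂) := rfl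
  have e2 : (u + v) ∘ Sum.inr = u ∘ Sum.inr + v ∘ (Sum.inr : ι₂ → ι₁ ⊕ ι₂) := rfl
  rw [e1, e2]
  ring

theorem nondeg_sumQF (Q₁ : QuadraticForm F (ι₁ → F)) (Q₂ : QuadraticForm F (ι₂ → F))
    (h₁ : (QuadraticMap.polarBilin Q₁).Nondegenerate)
    (h₂ : (QuadraticMap.polarBilin Q₂).Nondegenerate) :
    (QuadraticMap.polarBilin (sumQF Q₁ Q₂)).Nondegenerate := by
  have key : ∀ x : ι₁ ⊕ ι₂ → F, (∀ y, QuadraticMap.polar (⇑(sumQF Q₁ Q₂)) x y = 0) → x = 0 := by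
    intro x hx
    have hx1 : x ∘ Sum.inl = 0 := by
      apply h₁.1
      intro y
      have := hx (Sum.elim y 0)
      rw [polar_sumQF] at this
      have e1 : (Sum.elim y (0 : ι₂ → F)) ∘ Sum.inl = y := rfl
      have e2 : (Sum.elim y (0 : ι₂ → F)) ∘ Sum.inr = 0 := rfl
      rw [e1, e2, QuadraticMap.polar_zero_right, add_zero] at this
      exact this
    have hx2 : x ∘ Sum.inr = 0 := by
      apply h₂.1
      intro y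
      have := hx (Sum.elim 0 y)
      rw [polar_sumQF] at this
      have e1 : (Sum.elim (0 : ι₁ → F) y) ∘ Sum.inl = 0 := rfl
      have e2 : (Sum.elim (0 : ι₁ → F) y) ∘ Sum.inr = y := rfl
      rw [e1, e2, QuadraticMap.polar_zero_right, zero_add] at this
      exact this
    funext s
    rcases s with i | i
    · exact congrFun hx1 i
    · exact congrFun hx2 i
  constructor
  · intro x hx
    exact key x hx
  · intro y hy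
    apply key y
    intro x
    have := hy x
    rw [QuadraticMap.polarBilin_apply_apply] at this
    rw [QuadraticMap.polar_comm]
    exact this


/-- block diagonal embedding of matrices as a monoid hom -/
def blkM (ι₁ ι₂ : Type) [Fintype ι₁] [DecidableEq ι₁] [Fintype ι₂] [DecidableEq ι₂]
    (F : Type*) [Field F] :
    Matrix ι₁ ι₁ F × Matrix ι₂ ι₂ F →* Matrix (ι₁ ⊕ ι₂) (ι₁ ⊕ ι₂) F where
  toFun p := Matrix.fromBlocks p.1 0 0 p.2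
  map_one' := Matrix.fromBlocks_one
  map_mul' p q := by
    simp [Matrix.fromBlocks_multiply]

def blkGL (ι₁ ι₂ : Type) [Fintype ι₁] [DecidableEq ι₁] [Fintype ι₂] [DecidableEq ι₂]
    (F : Type*) [Field F] :
    GL ι₁ F × GL ι₂ F →* GL (ι₁ ⊕ ι₂) F :=
  (Units.map (blkM ι₁ ι₂ F)).comp MulEquiv.prodUnits.symm.toMonoidHom

theorem blkGL_coe (p : GL ι₁ F × GL ι₂ F) :
    ((blkGL ι₁ ι₂ F p : GL (ι₁ ⊕ ι₂) F) : Matrix (ι₁ ⊕ ι₂) (ι₁ ⊕ ι₂) F) =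
      Matrix.fromBlocks (p.1 : Matrix ι₁ ι₁ F) 0 0 (p.2 : Matrix ι₂ ι₂ F) := rfl

theorem fromBlocks_diag_mulVec (A : Matrix ι₁ ι₁ F) (D : Matrix ι₂ ι₂ F) (u : ι₁ ⊕ ι₂ → F) :
    Matrix.fromBlocks A 0 0 D *ᵥ u = Sum.elim (A *ᵥ (u ∘ Sum.inl)) (D *ᵥ (u ∘ Sum.inr)) := by
  rw [Matrix.fromBlocks_mulVec]
  simp only [Matrix.zero_mulVec, add_zero, zero_add]

variable (Q₁ : QuadraticForm F (ι₁ → F)) (Q₂ : QuadraticForm F (ι₂ → F))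

theorem blk_mem (p : ↥(Cfsg.isometryGroup F ⇑Q₁) × ↥(Cfsg.isometryGroup F ⇑Q₂)) :
    blkGL ι₁ ι₂ F (p.1.1, p.2.1) ∈ Cfsg.isometryGroup F ⇑(sumQF Q₁ Q₂) := by
  rw [Cfsg.Agent.Lib.H11.IsoReindex.mem_iso_iff']
  intro u
  rw [blkGL_coe, fromBlocks_diag_mulVec, sumQF_apply, sumQF_apply]
  have e1 : (Sum.elim ((p.1.1 : Matrix ι₁ ι₁ F) *ᵥ (u ∘ Sum.inl))
      ((p.2.1 : Matrix ι₂ ι₂ F) *ᵥ (u ∘ Sum.inr))) ∘ Sum.inl
        = (p.1.1 : Matrix ι₁ ι₁ F) *ᵥ (u ∘ Sum.inl) := rfl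
  have e2 : (Sum.elim ((p.1.1 : Matrix ι₁ ι₁ F) *ᵥ (u ∘ Sum.inl))
      ((p.2.1 : Matrix ι₂ ι₂ F) *ᵥ (u ∘ Sum.inr))) ∘ Sum.inr
        = (p.2.1 : Matrix ι₂ ι₂ F) *ᵥ (u ∘ Sum.inr) := rfl
  rw [e1, e2, (Cfsg.Agent.Lib.H11.IsoReindex.mem_iso_iff' _ _).mp p.1.2,
    (Cfsg.Agent.Lib.H11.IsoReindex.mem_iso_iff' _ _).mp p.2.2]

/-- the block embedding `O(Q₁) × O(Q₂) → O(Q₁ ⊥ Q₂)` -/
noncomputable def blkIso :
    ↥(Cfsg.isometryGroup F ⇑Q₁) × ↥(Cfsg.isometryGroup F ⇑Q₂) →*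
      ↥(Cfsg.isometryGroup F ⇑(sumQF Q₁ Q₂)) :=
  MonoidHom.codRestrict ((blkGL ι₁ ι₂ F).comp
    (MonoidHom.prodMap (Cfsg.isometryGroup F ⇑Q₁).subtype (Cfsg.isometryGroup F ⇑Q₂).subtype))
    (Cfsg.isometryGroup F ⇑(sumQF Q₁ Q₂)) (blk_mem Q₁ Q₂)

theorem blkIso_val (p : ↥(Cfsg.isometryGroup F ⇑Q₁) × ↥(Cfsg.isometryGroup F ⇑Q₂)) :
    (((blkIso Q₁ Q₂ p : ↥(Cfsg.isometryGroup F ⇑(sumQF Q₁ Q₂))) : GL (ι₁ ⊕ ι₂) F) :
      Matrix (ι₁ ⊕ ι₂) (ι₁ ⊕ ι₂) F) =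
      Matrix.fromBlocks ((p.1 : GL ι₁ F) : Matrix ι₁ ι₁ F) 0 0 ((p.2 : GL ι₂ F) : Matrix ι₂ ι₂ F) :=
  rfl

open Cfsg.Agent.Lib.H4 in
theorem refl_inl (v : ι₁ → F) :
    Cfsg.reflectionMatrix (⇑(sumQF Q₁ Q₂)) (Sum.elim v 0) =
      Matrix.fromBlocks (Cfsg.reflectionMatrix (⇑Q₁) v) 0 0 1 := by
  apply Matrix.ext_iff_mulVec.mpr
  intro x
  rw [reflectionMatrix_mulVec, fromBlocks_diag_mulVec, reflectionMatrix_mulVec, polar_sumQF,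
    sumQF_apply, Matrix.one_mulVec]
  have e1 : (Sum.elim v (0 : ι₂ → F)) ∘ Sum.inl = v := rfl
  have e2 : (Sum.elim v (0 : ι₂ → F)) ∘ Sum.inr = 0 := rfl
  rw [e1, e2, QuadraticMap.polar_zero_left, map_zero, add_zero, add_zero]
  funext s
  rcases s with i | i
  · simp
  · simp

open Cfsg.Agent.Lib.H4 in
theorem refl_inr (v : ι₂ → F) :
    Cfsg.reflectionMatrix (⇑(sumQF Q₁ Q₂)) (Sum.elim 0 v) =
      Matrix.fromBlocks 1 0 0 (Cfsg.reflectionMatrix (⇑Q₂) v) := by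
  apply Matrix.ext_iff_mulVec.mpr
  intro x
  rw [reflectionMatrix_mulVec, fromBlocks_diag_mulVec, reflectionMatrix_mulVec, polar_sumQF,
    sumQF_apply, Matrix.one_mulVec]
  have e1 : (Sum.elim (0 : ι₁ → F) v) ∘ Sum.inl = 0 := rfl
  have e2 : (Sum.elim (0 : ι₁ → F) v) ∘ Sum.inr = v := rfl
  rw [e1, e2, QuadraticMap.polar_zero_left, map_zero, zero_add, zero_add]
  funext s
  rcases s with i | i
  · simp
  · simp

end Cfsg.Agent.Lib.H13.OrthSum
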