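import Mathlib
import Cfsg.Agent.Lib.H13.Char2Gen

set_option autoImplicit false

namespace Cfsg.Agent.Lib.H13.FixNonsing

open Module Matrix

variable {F : Type*} [Field F] [CharP F 2] {V : Type*} [AddCommGroup V] [Module F V]

/-- in characteristic two, an isometry stabilising a nonsingular point fixes its vectors -/
theorem fixes_vector_of_fixes_point (Q : QuadraticForm F V) (t : V →ₗ[F] V)
    (ht : ∀ x, Q (t x) = Q x) (W : Submodule F V) (hW : finrank F ↥W = 1) (v : V) (hv : v ∈ W)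
    (hQv : Q v ≠ 0) (hmap : W.map t ≤ W) : t v = v := by
  have hv0 : (⟨v, hv⟩ : ↥W) ≠ 0 := by
    intro h
    have : v = 0 := congrArg Subtype.val h
    rw [this, map_zero] at hQv
    exact hQv rfl
  have htv : t v ∈ W := hmap ⟨v, hv, rfl⟩
  obtain ⟨c, hc⟩ := (finrank_eq_one_iff_of_nonzero' (⟨v, hv⟩ : ↥W) hv0).1 hW ⟨t v, htv⟩
  have hc' : c • v = t v := congrArg Subtype.val hc
  have h1 := ht v
  rw [← hc', QuadraticMap.map_smul, smul_eq_mul] at h1
  have h2 : c * c = 1 := by
    have : (c * c - 1) * Q v = 0 := by rw [sub_mul, h1, one_mul, sub_self]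
    rcases mul_eq_zero.1 this with h | h
    · exact sub_eq_zero.1 h
    · exact absurd h hQv
  have h3 : (c + 1) * (c + 1) = 0 := by
    have : (c + 1) * (c + 1) = c * c + 1 + (c + c) := by ring
    rw [this, h2, Char2Gen.add_self_zero F c, Char2Gen.add_self_zero F 1, add_zero]
  have h4 : c + 1 = 0 := by
    rcases mul_eq_zero.1 h3 with h | h <;> exact h
  have h5 : c = 1 := by
    have : c = c + (1 + 1) := by rw [Char2Gen.add_self_zero F 1, add_zero]
    rw [this, ← add_assoc, h4, zero_add]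
  rw [← hc', h5, one_smul]

/-- a fixed nonsingular vector spans a stabilised nonsingular point -/
theorem point_of_vector (Q : QuadraticForm F V) (t : V →ₗ[F] V) (v : V) (hQv : Q v ≠ 0)
    (htv : t v = v) :
    ∃ W : Submodule F V, (finrank F ↥W = 1 ∧ ∃ v ∈ W, Q v ≠ 0) ∧ W.map t ≤ W := by
  have hv0 : v ≠ 0 := by
    rintro rfl
    rw [map_zero] at hQv
    exact hQv rfl
  refine ⟨Submodule.span F {v}, ⟨finrank_span_singleton hv0, v, Submodule.mem_span_singleton_self v,
    hQv⟩, ?_⟩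
  rintro _ ⟨w, hw, rfl⟩
  obtain ⟨c, rfl⟩ := Submodule.mem_span_singleton.1 hw
  rw [map_smul, htv]
  exact Submodule.smul_mem _ _ (Submodule.mem_span_singleton_self v)

variable [Fintype F] [Finite V]

/-- the number of nonsingular vectors is `q - 1` times the number of nonsingular points -/
theorem card_nonsingular (Q : QuadraticForm F V) :
    Nat.card {v : V // Q v ≠ 0} = (Fintype.card F - 1) *
      Nat.card {W : Submodule F V // finrank F ↥W = 1 ∧ ∃ v ∈ W, Q v ≠ 0} := by
  classical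
  haveI : Module.Finite F V := Module.Finite.of_finite
  have hfib : ∀ W : {W : Submodule F V // finrank F ↥W = 1 ∧ ∃ v ∈ W, Q v ≠ 0},
      Nat.card {v : V // v ∈ W.1 ∧ v ≠ 0} = Fintype.card F - 1 := by
    intro W
    have e : {v : V // v ∈ W.1 ∧ v ≠ 0} ≃ {w : ↥W.1 // w ≠ 0} :=
      ⟨fun v => ⟨⟨v.1, v.2.1⟩, fun h => v.2.2 (congrArg Subtype.val h)⟩,
        fun w => ⟨w.1.1, w.1.2, fun h => w.2 (Subtype.ext h)⟩,
        fun v => rfl, fun w => rfl⟩
    rw [Nat.card_congr e]
    haveI : Fintype ↥W.1 := Fintype.ofFinite _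
    rw [Nat.card_eq_fintype_card, Fintype.card_subtype_compl, Fintype.card_subtype_eq,
      ← Nat.card_eq_fintype_card, Module.natCard_eq_pow_finrank (K := F) (V := ↥W.1), W.2.1, pow_one,
      Nat.card_eq_fintype_card]
  have hne : ∀ (W : {W : Submodule F V // finrank F ↥W = 1 ∧ ∃ v ∈ W, Q v ≠ 0})
      (v : V), v ∈ W.1 → v ≠ 0 → Q v ≠ 0 := by
    intro W v hvW hv0
    obtain ⟨v₀, hv₀W, hQv₀⟩ := W.2.2
    have hv00 : (⟨v₀, hv₀W⟩ : ↥W.1) ≠ 0 := by
      intro h
      have : v₀ = 0 := congrArg Subtype.val h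
      rw [this, map_zero] at hQv₀
      exact hQv₀ rfl
    obtain ⟨c, hc⟩ := (finrank_eq_one_iff_of_nonzero' (⟨v₀, hv₀W⟩ : ↥W.1) hv00).1 W.2.1 ⟨v, hvW⟩
    have hc' : c • v₀ = v := congrArg Subtype.val hc
    rw [← hc', QuadraticMap.map_smul, smul_eq_mul]
    have hc0 : c ≠ 0 := by
      rintro rfl
      rw [zero_smul] at hc'
      exact hv0 hc'.symm
    exact mul_ne_zero (mul_ne_zero hc0 hc0) hQv₀
  have hspan : ∀ (W : {W : Submodule F V // finrank F ↥W = 1 ∧ ∃ v ∈ W, Q v ≠ 0})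
      (v : V), v ∈ W.1 → v ≠ 0 → Submodule.span F {v} = W.1 := by
    intro W v hvW hv0
    apply Submodule.eq_of_le_of_finrank_eq
    · rw [Submodule.span_singleton_le_iff_mem]; exact hvW
    · rw [finrank_span_singleton hv0, W.2.1]
  let g : (Σ W : {W : Submodule F V // finrank F ↥W = 1 ∧ ∃ v ∈ W, Q v ≠ 0},
      {v : V // v ∈ W.1 ∧ v ≠ 0}) → {v : V // Q v ≠ 0} :=
    fun x => ⟨x.2.1, hne x.1 x.2.1 x.2.2.1 x.2.2.2⟩
  have hg : Function.Bijective g := by
    constructor
    · rintro ⟨W, v, hvW, hv0⟩ ⟨W', v', hvW', hv0'⟩ h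
      have hvv : v = v' := congrArg Subtype.val h
      subst hvv
      have hWW : W = W' := by
        apply Subtype.ext
        rw [← hspan W v hvW hv0, ← hspan W' v hvW' hv0']
      subst hWW
      rfl
    · rintro ⟨v, hv⟩
      have hv0 : v ≠ 0 := by
        rintro rfl
        rw [map_zero] at hv
        exact hv rfl
      exact ⟨⟨⟨Submodule.span F {v}, finrank_span_singleton hv0, v,
        Submodule.mem_span_singleton_self v, hv⟩, ⟨v, Submodule.mem_span_singleton_self v, hv0⟩⟩,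
        rfl⟩
  haveI : Fintype {W : Submodule F V // finrank F ↥W = 1 ∧ ∃ v ∈ W, Q v ≠ 0} := Fintype.ofFinite _
  rw [← Nat.card_eq_of_bijective g hg, Nat.card_sigma]
  simp_rw [hfib]
  rw [Finset.sum_const, smul_eq_mul, Finset.card_univ, mul_comm, Nat.card_eq_fintype_card]

end Cfsg.Agent.Lib.H13.FixNonsing
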