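import Cfsg.Agent.Lib.H13.InvolOmega
import Cfsg.Agent.Lib.H13.PlusTS
import Cfsg.Agent.Lib.H13.RankParity
import Cfsg.Agent.S0287

set_option autoImplicit false

namespace Cfsg.Agent.Lib.H13.PlusSplit

open Matrix Module QuadraticMap
open Cfsg.Agent.Lib.H13 Cfsg.Agent.Lib.H13.HypPairs Cfsg.Agent.Lib.H13.PlusTS Cfsg.Agent.Lib.H13.PlusLevi
  Cfsg.Agent.Lib.H13.MaxTS

section gen

variable {F : Type*} [Field F] {ι : Type} [Fintype ι] [DecidableEq ι] (Q : (ι → F) → F)

theorem map_mul' (U : Submodule F (ι → F)) (a b : ↥(Cfsg.isometryGroup F Q)) :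
    U.map (Matrix.mulVecLin (((a * b : ↥(Cfsg.isometryGroup F Q)) : GL ι F) : Matrix ι ι F)) =
      (U.map (Matrix.mulVecLin ((b : GL ι F) : Matrix ι ι F))).map
        (Matrix.mulVecLin ((a : GL ι F) : Matrix ι ι F)) := by
  rw [← Submodule.map_comp, ← Matrix.mulVecLin_mul]
  rfl

theorem map_one' (U : Submodule F (ι → F)) :
    U.map (Matrix.mulVecLin (((1 : ↥(Cfsg.isometryGroup F Q)) : GL ι F) : Matrix ι ι F)) = U := by
  show U.map (Matrix.mulVecLin (1 : Matrix ι ι F)) = U
  rw [Matrix.mulVecLin_one, Submodule.map_id]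

theorem mulVecLin_injective (a : ↥(Cfsg.isometryGroup F Q)) :
    Function.Injective (Matrix.mulVecLin ((a : GL ι F) : Matrix ι ι F)) := by
  intro x y hxy
  rw [Matrix.mulVecLin_apply, Matrix.mulVecLin_apply] at hxy
  have := congrArg (fun z => (((a⁻¹ : ↥(Cfsg.isometryGroup F Q)) : GL ι F) : Matrix ι ι F) *ᵥ z) hxy
  simp only [Matrix.mulVec_mulVec] at this
  have h1 : (((a⁻¹ : ↥(Cfsg.isometryGroup F Q)) : GL ι F) : Matrix ι ι F) *
      ((a : GL ι F) : Matrix ι ι F) = 1 := by
    rw [← Units.val_mul, ← Subgroup.coe_mul, inv_mul_cancel]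
    rfl
  rwa [h1, Matrix.one_mulVec, Matrix.one_mulVec] at this

theorem finrank_map' (U : Submodule F (ι → F)) (a : ↥(Cfsg.isometryGroup F Q)) :
    finrank F ↥(U.map (Matrix.mulVecLin ((a : GL ι F) : Matrix ι ι F))) = finrank F U := by
  rw [← toEquiv_coe (a : GL ι F)]
  exact LinearEquiv.finrank_map_eq _ U

/-- the image of `s - 1` for a conjugate `s = g t g⁻¹` -/
theorem range_conj (t s g : ↥(Cfsg.isometryGroup F Q)) (hg : g * t * g⁻¹ = s) :
    LinearMap.range (Matrix.toLin' (((s : GL ι F) : Matrix ι ι F) - 1)) =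
      (LinearMap.range (Matrix.toLin' (((t : GL ι F) : Matrix ι ι F) - 1))).map
        (Matrix.mulVecLin ((g : GL ι F) : Matrix ι ι F)) := by
  have hinv : ((g : GL ι F) : Matrix ι ι F) * (((g⁻¹ : ↥(Cfsg.isometryGroup F Q)) : GL ι F) : Matrix ι ι F) = 1 := by
    rw [← Units.val_mul, ← Subgroup.coe_mul, mul_inv_cancel]
    rfl
  have h1 : ((s : GL ι F) : Matrix ι ι F) - 1 = ((g : GL ι F) : Matrix ι ι F) *
      (((t : GL ι F) : Matrix ι ι F) - 1) *
      (((g⁻¹ : ↥(Cfsg.isometryGroup F Q)) : GL ι F) : Matrix ι ι F) := by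
    rw [mul_sub, sub_mul, mul_one, hinv, ← hg]
    rfl
  rw [h1, Matrix.toLin'_mul, Matrix.toLin'_mul, Matrix.toLin'_apply', Matrix.toLin'_apply',
    Matrix.toLin'_apply']
  have hsurj : LinearMap.range (Matrix.mulVecLin
      ((((g⁻¹ : ↥(Cfsg.isometryGroup F Q)) : GL ι F) : Matrix ι ι F))) = ⊤ := by
    rw [LinearMap.range_eq_top]
    intro x
    refine ⟨((g : GL ι F) : Matrix ι ι F) *ᵥ x, ?_⟩
    rw [Matrix.mulVecLin_apply, Matrix.mulVec_mulVec]
    have : (((g⁻¹ : ↥(Cfsg.isometryGroup F Q)) : GL ι F) : Matrix ι ι F) *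
        ((g : GL ι F) : Matrix ι ι F) = 1 := by
      rw [← Units.val_mul, ← Subgroup.coe_mul, inv_mul_cancel]
      rfl
    rw [this, Matrix.one_mulVec]
  rw [LinearMap.range_comp_of_range_eq_top _ hsurj, LinearMap.range_comp]

end gen

section plus

variable {F : Type*} [Field F] [Fintype F] [CharP F 2] {m : ℕ}

theorem even_iff_mem_Omega_plusQF (h : Fintype.card F ≠ 2 ∨ m ≠ 2)
    (g : ↥(Cfsg.isometryGroup F ⇑(plusQF F m))) :
    Even (m - finrank F ↥(U0 F m ⊓ (U0 F m).map
        (Matrix.mulVecLin ((g : GL (K m) F) : Matrix (K m) (K m) F)))) ↔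
      g ∈ Cfsg.Omega F ⇑(plusQF F m) := by
  have key := PlusTS.even_iff_mem_Omega (F := F) (m := m) h
  rw [← Cfsg.Agent.S0287.coe_plusQF] at key
  exact key g

/-- the class of `g W` relative to a maximal totally singular `W` detects `Ω` -/
theorem even_iff_mem_Omega_ts (h : Fintype.card F ≠ 2 ∨ m ≠ 2) (W : Submodule F (K m → F))
    (hW : finrank F W = m) (hW0 : ∀ w ∈ W, plusQF F m w = 0)
    (g : ↥(Cfsg.isometryGroup F ⇑(plusQF F m))) :
    Even (m - finrank F ↥(W ⊓ W.map
        (Matrix.mulVecLin ((g : GL (K m) F) : Matrix (K m) (K m) F)))) ↔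
      g ∈ Cfsg.Omega F ⇑(plusQF F m) := by
  obtain ⟨vs, hvs, -, hmap⟩ := exists_refl_list (plusQF F m) (U0 F m) U0_ts
    (fun x hx => U0_perp x hx) _ W hW0 (by rw [hW, finrank_U0]) rfl
  have hvs' : ∀ v ∈ vs, plusQF F m v ≠ 0 := fun v hv => by rw [hvs v hv]; exact one_ne_zero
  obtain ⟨a, ha⟩ := exists_of_list (plusQF F m) vs hvs'
  rw [← ha] at hmap
  -- `a W = U0`
  have hn : (Cfsg.Omega F ⇑(plusQF F m)).Normal := inferInstance
  have h1 : (U0 F m).map (Matrix.mulVecLin (((a * g * a⁻¹ :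
      ↥(Cfsg.isometryGroup F ⇑(plusQF F m))) : GL (K m) F) : Matrix (K m) (K m) F)) =
      (W.map (Matrix.mulVecLin ((g : GL (K m) F) : Matrix (K m) (K m) F))).map
        (Matrix.mulVecLin ((a : GL (K m) F) : Matrix (K m) (K m) F)) := by
    rw [map_mul', map_mul']
    congr 2
    rw [← hmap, ← map_mul', inv_mul_cancel, map_one']
  have h2 : U0 F m ⊓ (U0 F m).map (Matrix.mulVecLin (((a * g * a⁻¹ :
      ↥(Cfsg.isometryGroup F ⇑(plusQF F m))) : GL (K m) F) : Matrix (K m) (K m) F)) =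
      (W ⊓ W.map (Matrix.mulVecLin ((g : GL (K m) F) : Matrix (K m) (K m) F))).map
        (Matrix.mulVecLin ((a : GL (K m) F) : Matrix (K m) (K m) F)) := by
    rw [h1, Submodule.map_inf _ (mulVecLin_injective _ a), hmap]
  have h3 := even_iff_mem_Omega_plusQF h (a * g * a⁻¹)
  rw [h2, finrank_map'] at h3
  rw [h3]
  constructor
  · intro hmem
    have := hn.conj_mem _ hmem a⁻¹
    simpa [mul_assoc] using this
  · intro hmem
    exact hn.conj_mem _ hmem a

/-- S2172 for `plusQF` -/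
theorem plus_split (hm : 3 ≤ m) (t s : ↥(Cfsg.isometryGroup F ⇑(plusQF F m)))
    (ht : orderOf t = 2) (htO : t ∈ Cfsg.Omega F ⇑(plusQF F m)) (hconj : IsConj t s) :
    (¬ ((((t : GL (K m) F) : Matrix (K m) (K m) F) - 1).rank = m ∧
        ∀ v : K m → F, plusQF F m (v + ((t : GL (K m) F) : Matrix (K m) (K m) F) *ᵥ v) = 0) →
      ∃ g ∈ Cfsg.Omega F ⇑(plusQF F m), g * t * g⁻¹ = s) ∧
    (((((t : GL (K m) F) : Matrix (K m) (K m) F) - 1).rank = m ∧
        ∀ v : K m → F, plusQF F m (v + ((t : GL (K m) F) : Matrix (K m) (K m) F) *ᵥ v) = 0) →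
      ((∃ g ∈ Cfsg.Omega F ⇑(plusQF F m), g * t * g⁻¹ = s) ↔
        Even (finrank F ↥(LinearMap.range (Matrix.toLin' (((t : GL (K m) F) :
          Matrix (K m) (K m) F) - 1)) ⊓ LinearMap.range (Matrix.toLin' (((s : GL (K m) F) :
          Matrix (K m) (K m) F) - 1)))))) := by
  classical
  have hnd := Cfsg.Agent.S0287.nondeg (F := F) m
  have hcardK : Fintype.card (K m) = 2 * m := by
    rw [Fintype.card_sum, Fintype.card_fin]; ring
  have hcard : Nat.card F ≠ 2 ∨ Fintype.card (K m) ≠ 4 := by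
    right; rw [hcardK]; omega
  have hh : Fintype.card F ≠ 2 ∨ m ≠ 2 := Or.inr (by omega)
  have htt : t * t = 1 := by
    have := pow_orderOf_eq_one t
    rw [ht, _root_.sq] at this
    exact this
  have hA : ((t : GL (K m) F) : Matrix (K m) (K m) F) * ((t : GL (K m) F) : Matrix (K m) (K m) F) = 1 := by
    have := congrArg (fun x : ↥(Cfsg.isometryGroup F ⇑(plusQF F m)) =>
      ((x : GL (K m) F) : Matrix (K m) (K m) F)) htt
    simpa using this
  obtain ⟨N, hNdef⟩ : ∃ N : Matrix (K m) (K m) F, N = ((t : GL (K m) F) : Matrix (K m) (K m) F) - 1 :=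
    ⟨_, rfl⟩
  rw [← hNdef]
  have hNv : ∀ v : K m → F, v + ((t : GL (K m) F) : Matrix (K m) (K m) F) *ᵥ v = N *ᵥ v := by
    intro v
    rw [hNdef, Matrix.sub_mulVec, Matrix.one_mulVec, sub_eq_add_neg, Char2Gen.neg_eq_self F, add_comm]
  have hker := InvolOmega.finrank_ker_ge ((t : GL (K m) F) : Matrix (K m) (K m) F) hA
  rw [← hNdef, hcardK] at hker
  have hsum := LinearMap.finrank_range_add_finrank_ker (Matrix.mulVecLin N)
  rw [Module.finrank_fintype_fun_eq_card, hcardK] at hsum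
  have hNN : N * N = 0 := by
    rw [hNdef, sub_mul, mul_sub, mul_sub, hA, mul_one, one_mul, mul_one]
    have h2 : (1 - ((t : GL (K m) F) : Matrix (K m) (K m) F)) +
        (1 - ((t : GL (K m) F) : Matrix (K m) (K m) F)) = 0 := by
      rw [← two_smul F (1 - ((t : GL (K m) F) : Matrix (K m) (K m) F)), CharTwo.two_eq_zero,
        zero_smul]
    have : (1 : Matrix (K m) (K m) F) - ((t : GL (K m) F) : Matrix (K m) (K m) F) -
        (((t : GL (K m) F) : Matrix (K m) (K m) F) - 1) =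
        (1 - ((t : GL (K m) F) : Matrix (K m) (K m) F)) +
        (1 - ((t : GL (K m) F) : Matrix (K m) (K m) F)) := by abel
    rw [this, h2]
  have hle : LinearMap.range (Matrix.mulVecLin N) ≤ LinearMap.ker (Matrix.mulVecLin N) := by
    rw [LinearMap.range_le_ker_iff, ← Matrix.mulVecLin_mul, hNN]
    ext; simp
  have hrank : N.rank = finrank F ↥(LinearMap.range (Matrix.mulVecLin N)) := rfl
  constructor
  · intro hC
    obtain ⟨g, hg⟩ := isConj_iff.mp hconj
    have : ∃ v ∈ LinearMap.ker (Matrix.mulVecLin N), plusQF F m v ≠ 0 := by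
      by_contra hcon
      push Not at hcon
      apply hC
      have hle2 : LinearMap.ker (Matrix.mulVecLin N) ≤ LinearMap.BilinForm.orthogonal
          (QuadraticMap.polarBilin (plusQF F m)) (LinearMap.ker (Matrix.mulVecLin N)) := by
        intro x hx
        rw [LinearMap.BilinForm.mem_orthogonal_iff]
        intro w hw
        show QuadraticMap.polar (⇑(plusQF F m)) w x = 0
        exact polar_eq_zero_of_ts (plusQF F m) _ hcon w x hw hx
      have hfr := LinearMap.BilinForm.finrank_orthogonal hnd (LinearMap.ker (Matrix.mulVecLin N))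
      rw [Module.finrank_fintype_fun_eq_card, hcardK] at hfr
      have hfr' : finrank F ↥(LinearMap.BilinForm.orthogonal
          (QuadraticMap.polarBilin (plusQF F m)) (LinearMap.ker (Matrix.mulVecLin N))) =
          2 * m - finrank F ↥(LinearMap.ker (Matrix.mulVecLin N)) := hfr
      have h5 : finrank F ↥(LinearMap.ker (Matrix.mulVecLin N)) ≤
          finrank F ↥(LinearMap.BilinForm.orthogonal
          (QuadraticMap.polarBilin (plusQF F m)) (LinearMap.ker (Matrix.mulVecLin N))) :=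
        Submodule.finrank_mono hle2
      have hkm : finrank F ↥(LinearMap.ker (Matrix.mulVecLin N)) = m := by omega
      have hrm : finrank F ↥(LinearMap.range (Matrix.mulVecLin N)) = m := by omega
      have heq : LinearMap.range (Matrix.mulVecLin N) = LinearMap.ker (Matrix.mulVecLin N) :=
        Submodule.eq_of_le_of_finrank_eq hle (by rw [hkm, hrm])
      refine ⟨by rw [hrank, hrm], ?_⟩
      intro v
      rw [hNv]
      apply hcon
      rw [← heq]
      exact ⟨v, rfl⟩
    obtain ⟨v, hvker, hv⟩ := this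
    refine InvolOmega.conj_of_fixed (plusQF F m) hnd hcard t s g hg v hv ?_
    rw [LinearMap.mem_ker, Matrix.mulVecLin_apply, hNdef, Matrix.sub_mulVec, Matrix.one_mulVec,
      sub_eq_zero] at hvker
    exact hvker
  · rintro ⟨hr, hQ0⟩
    rw [hrank] at hr
    obtain ⟨W, hWdef⟩ : ∃ W : Submodule F (K m → F), W = LinearMap.range (Matrix.toLin' N) := ⟨_, rfl⟩
    have hW : finrank F W = m := by
      rw [hWdef, Matrix.toLin'_apply']; exact hr
    have hW0 : ∀ w ∈ W, plusQF F m w = 0 := by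
      intro w hw
      rw [hWdef] at hw
      obtain ⟨v, rfl⟩ := hw
      rw [Matrix.toLin'_apply, ← hNv]
      exact hQ0 v
    have hmeven : Even m := by
      have := (RankParity.mem_Omega_iff_even_rank (plusQF F m) hnd hcard t).mp htO
      rw [← hNdef, hrank, hr] at this
      exact this
    have hkey : ∀ g : ↥(Cfsg.isometryGroup F ⇑(plusQF F m)), g * t * g⁻¹ = s →
        (g ∈ Cfsg.Omega F ⇑(plusQF F m) ↔
          Even (finrank F ↥(W ⊓ LinearMap.range (Matrix.toLin' (((s : GL (K m) F) :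
            Matrix (K m) (K m) F) - 1))))) := by
      intro g hg
      rw [range_conj _ t s g hg, ← hNdef, ← hWdef, ← even_iff_mem_Omega_ts hh W hW hW0 g]
      have hle3 : finrank F ↥(W ⊓ W.map (Matrix.mulVecLin ((g : GL (K m) F) :
          Matrix (K m) (K m) F))) ≤ m := by
        exact le_trans (Submodule.finrank_mono inf_le_left) hW.le
      rw [Nat.even_sub hle3]
      exact ⟨fun h => h.mp hmeven, fun h => ⟨fun _ => h, fun _ => hmeven⟩⟩
    rw [← hWdef]
    constructor
    · rintro ⟨g, hgO, hg⟩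
      exact (hkey g hg).mp hgO
    · intro he
      obtain ⟨g, hg⟩ := isConj_iff.mp hconj
      exact ⟨g, (hkey g hg).mpr he, hg⟩

end plus

end Cfsg.Agent.Lib.H13.PlusSplit
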