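import Cfsg.Agent.Lib.H13.OInvol
import Cfsg.Agent.Lib.H13.RankParity
import Cfsg.Agent.Lib.H13.PlusSplit

set_option autoImplicit false

namespace Cfsg.Agent.Lib.H13.OmegaInvol

open Module Matrix QuadraticMap
open Cfsg.Agent.Lib.H13 Cfsg.Agent.Lib.H13.SpInvol Cfsg.Agent.Lib.H13.SpInvolCount
  Cfsg.Agent.Lib.H13.OInvol Cfsg.Agent.Lib.H13.HypPairs

variable {F : Type*} [Field F] [Fintype F] [CharP F 2] {ι : Type} [Fintype ι] [DecidableEq ι]
  (Q : QuadraticForm F (ι → F))

set_option quotPrecheck false in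
local notation "OO" => ↥(Cfsg.isometryGroup F ⇑Q)

set_option quotPrecheck false in
local notation "MM" => Matrix ι ι F

/-- an involution of `O(Q)` (dimension `2m`) has a nonsingular fixed vector unless
`rank (t - 1) = m` and `f(v, t v) = 0` for all `v` -/
theorem exists_fixed_nonsingular (hQ : (polarBilin Q).Nondegenerate) {m : ℕ}
    (hcard : Fintype.card ι = 2 * m) (t : OO) (ht : t * t = 1)
    (hne : ¬ ((((t : GL ι F) : MM) - 1).rank = m ∧
      ∀ v, polar (⇑Q) v (((t : GL ι F) : MM) *ᵥ v) = 0)) :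
    ∃ v, ((t : GL ι F) : MM) *ᵥ v = v ∧ Q v ≠ 0 := by
  obtain ⟨N, hNdef⟩ : ∃ N : MM, N = ((t : GL ι F) : MM) - 1 := ⟨_, rfl⟩
  have hA := val_mul_self Q t ht
  have hker := InvolOmega.finrank_ker_ge ((t : GL ι F) : MM) hA
  rw [← hNdef, hcard] at hker
  have hsum := LinearMap.finrank_range_add_finrank_ker (Matrix.mulVecLin N)
  rw [Module.finrank_fintype_fun_eq_card, hcard] at hsum
  have hNN : N * N = 0 := by
    rw [hNdef, sub_mul, mul_sub, mul_sub, hA, mul_one, one_mul, mul_one]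
    have h2 : (1 - ((t : GL ι F) : MM)) + (1 - ((t : GL ι F) : MM)) = 0 :=
      Char2Gen.add_self_zero F _
    have : (1 : MM) - ((t : GL ι F) : MM) - (((t : GL ι F) : MM) - 1) =
        (1 - ((t : GL ι F) : MM)) + (1 - ((t : GL ι F) : MM)) := by abel
    rw [this, h2]
  have hle : LinearMap.range (Matrix.mulVecLin N) ≤ LinearMap.ker (Matrix.mulVecLin N) := by
    rw [LinearMap.range_le_ker_iff, ← Matrix.mulVecLin_mul, hNN]
    ext; simp
  have hrank : N.rank = finrank F ↥(LinearMap.range (Matrix.mulVecLin N)) := rfl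
  by_contra hcon
  push Not at hcon
  have hcon' : ∀ v ∈ LinearMap.ker (Matrix.mulVecLin N), Q v = 0 := by
    intro v hv
    apply hcon v
    rw [LinearMap.mem_ker, Matrix.mulVecLin_apply, hNdef, Matrix.sub_mulVec, Matrix.one_mulVec,
      sub_eq_zero] at hv
    exact hv
  apply hne
  have hle2 : LinearMap.ker (Matrix.mulVecLin N) ≤ LinearMap.BilinForm.orthogonal
      (QuadraticMap.polarBilin Q) (LinearMap.ker (Matrix.mulVecLin N)) := by
    intro x hx
    rw [LinearMap.BilinForm.mem_orthogonal_iff]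
    intro w hw
    show QuadraticMap.polar (⇑Q) w x = 0
    exact MaxTS.polar_eq_zero_of_ts Q _ hcon' w x hw hx
  have hfr := LinearMap.BilinForm.finrank_orthogonal hQ (LinearMap.ker (Matrix.mulVecLin N))
  rw [Module.finrank_fintype_fun_eq_card, hcard] at hfr
  have hfr' : finrank F ↥(LinearMap.BilinForm.orthogonal
      (QuadraticMap.polarBilin Q) (LinearMap.ker (Matrix.mulVecLin N))) =
      2 * m - finrank F ↥(LinearMap.ker (Matrix.mulVecLin N)) := hfr
  have h5 : finrank F ↥(LinearMap.ker (Matrix.mulVecLin N)) ≤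
      finrank F ↥(LinearMap.BilinForm.orthogonal
      (QuadraticMap.polarBilin Q) (LinearMap.ker (Matrix.mulVecLin N))) :=
    Submodule.finrank_mono hle2
  have hkm : finrank F ↥(LinearMap.ker (Matrix.mulVecLin N)) = m := by omega
  have hrm : finrank F ↥(LinearMap.range (Matrix.mulVecLin N)) = m := by omega
  have heq : LinearMap.range (Matrix.mulVecLin N) = LinearMap.ker (Matrix.mulVecLin N) :=
    Submodule.eq_of_le_of_finrank_eq hle (by rw [hkm, hrm])
  refine ⟨by rw [← hNdef, hrank, hrm], ?_⟩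
  intro v
  have h1 := Q_sub_eq Q (Matrix.toLin' ((t : GL ι F) : MM))
    (fun y => by rw [Matrix.toLin'_apply]; exact iso_apply Q t y) v
  rw [Matrix.toLin'_apply] at h1
  rw [← h1]
  apply hcon'
  rw [← heq]
  refine ⟨v, ?_⟩
  rw [Matrix.mulVecLin_apply, hNdef, Matrix.sub_mulVec, Matrix.one_mulVec]

/-- an involution fixing a nonsingular vector: `O`-conjugacy implies `Ω`-conjugacy, from the
index-two property of `Ω` -/
theorem conj_of_fixed_of
    (hAbel : ∀ (u : ι → F) (hu : Q u ≠ 0) (c : OO),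
      c ∈ Cfsg.Omega F ⇑Q ∨ reflG Q u hu * c ∈ Cfsg.Omega F ⇑Q)
    (t s g : OO) (hg : g * t * g⁻¹ = s) (v : ι → F) (hv : Q v ≠ 0)
    (htv : ((t : GL ι F) : MM) *ᵥ v = v) :
    ∃ g' ∈ Cfsg.Omega F ⇑Q, g' * t * g'⁻¹ = s := by
  rcases hAbel v hv g⁻¹ with h1 | h1
  · exact ⟨g, by simpa using (Cfsg.Omega F ⇑Q).inv_mem h1, hg⟩
  · refine ⟨g * reflG Q v hv, ?_, ?_⟩
    · have := (Cfsg.Omega F ⇑Q).inv_mem h1
      rwa [_root_.mul_inv_rev, inv_inv, Char2Omega.reflG_inv] at this
    · have hcomm : t * reflG Q v hv * t⁻¹ = reflG Q v hv := by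
        have hv' : Q (((t : GL ι F) : MM) *ᵥ v) ≠ 0 := by rw [htv]; exact hv
        rw [Dickson.conj_reflG Q t v hv hv']
        congr 1
      rw [_root_.mul_inv_rev, Char2Omega.reflG_inv, ← hg]
      have : reflG Q v hv * t = t * reflG Q v hv := by
        have h3 := congrArg (fun x => x * t) hcomm
        simp only [inv_mul_cancel_right] at h3
        exact h3.symm
      calc g * reflG Q v hv * t * (reflG Q v hv * g⁻¹)
          = g * (reflG Q v hv * t) * reflG Q v hv * g⁻¹ := by group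
        _ = g * (t * reflG Q v hv) * reflG Q v hv * g⁻¹ := by rw [this]
        _ = g * t * (reflG Q v hv * reflG Q v hv) * g⁻¹ := by group
        _ = g * t * g⁻¹ := by rw [Char2Omega.reflG_mul_self', mul_one]

/-- `O`-conjugacy implies `Ω`-conjugacy outside the exceptional class -/
theorem conj_Omega_of_not_exc_of (hQ : (polarBilin Q).Nondegenerate)
    (hAbel : ∀ (u : ι → F) (hu : Q u ≠ 0) (c : OO),
      c ∈ Cfsg.Omega F ⇑Q ∨ reflG Q u hu * c ∈ Cfsg.Omega F ⇑Q) {m : ℕ}
    (hcard : Fintype.card ι = 2 * m) (t s : OO) (ht : t * t = 1) (hconj : IsConj t s)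
    (hne : ¬ ((((t : GL ι F) : MM) - 1).rank = m ∧
      ∀ v, polar (⇑Q) v (((t : GL ι F) : MM) *ᵥ v) = 0)) :
    ∃ c ∈ Cfsg.Omega F ⇑Q, c * t * c⁻¹ = s := by
  obtain ⟨c, hc⟩ := isConj_iff.mp hconj
  obtain ⟨v, hv1, hv2⟩ := exists_fixed_nonsingular Q hQ hcard t ht hne
  exact conj_of_fixed_of Q hAbel t s c hc v hv2 hv1

/-- `O`-conjugacy implies `Ω`-conjugacy outside the exceptional class -/
theorem conj_Omega_of_not_exc (hQ : (polarBilin Q).Nondegenerate)
    (h : Nat.card F ≠ 2 ∨ Fintype.card ι ≠ 4) {m : ℕ}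
    (hcard : Fintype.card ι = 2 * m) (t s : OO) (ht : t * t = 1) (hconj : IsConj t s)
    (hne : ¬ ((((t : GL ι F) : MM) - 1).rank = m ∧
      ∀ v, polar (⇑Q) v (((t : GL ι F) : MM) *ᵥ v) = 0)) :
    ∃ c ∈ Cfsg.Omega F ⇑Q, c * t * c⁻¹ = s :=
  conj_Omega_of_not_exc_of Q hQ (fun u hu c => Char2Omega.abel_cases Q hQ h u hu c) hcard t s ht
    hconj hne

theorem orderOf_two_iff_coe (g : ↥(Cfsg.Omega F ⇑Q)) :
    orderOf g = 2 ↔ (g : OO) * (g : OO) = 1 ∧ (g : OO) ≠ 1 := by
  rw [orderOf_two_iff]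
  constructor
  · rintro ⟨h1, h2⟩
    refine ⟨?_, fun h => h2 (Subtype.ext h)⟩
    have := congrArg Subtype.val h1
    exact this
  · rintro ⟨h1, h2⟩
    exact ⟨Subtype.ext h1, fun h => h2 (congrArg Subtype.val h)⟩

theorem isConj_coe {a b : ↥(Cfsg.Omega F ⇑Q)} (h : IsConj a b) : IsConj (a : OO) (b : OO) := by
  obtain ⟨c, hc⟩ := isConj_iff.mp h
  rw [isConj_iff]
  refine ⟨(c : OO), ?_⟩
  have := congrArg Subtype.val hc
  exact this

theorem isConj_of_exists {a b : ↥(Cfsg.Omega F ⇑Q)}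
    (h : ∃ c ∈ Cfsg.Omega F ⇑Q, c * (a : OO) * c⁻¹ = (b : OO)) : IsConj a b := by
  obtain ⟨c, hc, hcab⟩ := h
  rw [isConj_iff]
  exact ⟨⟨c, hc⟩, Subtype.ext hcab⟩

set_option maxHeartbeats 800000 in
/-- generic count of the classes of involutions of `Ω` -/
theorem card_involution_classes_Omega_of [Nonempty ι] (hQ : (polarBilin Q).Nondegenerate)
    (hEven : ∀ T : OO, T ∈ Cfsg.Omega F ⇑Q ↔ Even (((T : GL ι F) : MM) - 1).rank)
    (hAbel : ∀ (u : ι → F) (hu : Q u ≠ 0) (c : OO),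
      c ∈ Cfsg.Omega F ⇑Q ∨ reflG Q u hu * c ∈ Cfsg.Omega F ⇑Q)
    {m : ℕ} (hcard : Fintype.card ι = 2 * m)
    (A B : ℕ)
    (h1 : ∀ t : OO, t * t = 1 → t ≠ 1 → (((t : GL ι F) : MM) - 1).rank ≤ 2 * A + 1)
    (h2 : ∀ t : OO, t * t = 1 → t ≠ 1 →
      (∀ v, polar (⇑Q) v (((t : GL ι F) : MM) *ᵥ v) = 0) →
      (((t : GL ι F) : MM) - 1).rank ≤ 2 * B)
    (rep_id : ∀ r, 1 ≤ r → r ≤ A → ∃ T : OO, T * T = 1 ∧
      (((T : GL ι F) : MM) - 1).rank = 2 * r ∧
      ¬ ∀ v, polar (⇑Q) v (((T : GL ι F) : MM) *ᵥ v) = 0)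
    (rep_swap : ∀ r, 1 ≤ r → r ≤ B → ∃ T : OO, T * T = 1 ∧
      (((T : GL ι F) : MM) - 1).rank = 2 * r ∧
      ∀ v, polar (⇑Q) v (((T : GL ι F) : MM) *ᵥ v) = 0)
    (hC : ∀ t c : OO, t * t = 1 → (((t : GL ι F) : MM) - 1).rank = m →
      (∀ v, polar (⇑Q) v (((t : GL ι F) : MM) *ᵥ v) = 0) → c * t = t * c →
      c ∈ Cfsg.Omega F ⇑Q) :
    Nat.card {C : ConjClasses ↥(Cfsg.Omega F ⇑Q) //
      ∃ g : ↥(Cfsg.Omega F ⇑Q), ConjClasses.mk g = C ∧ orderOf g = 2} =
      A + B + (if 2 * B = m then 1 else 0) := by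
  classical
  have hn : (Cfsg.Omega F ⇑Q).Normal := inferInstance
  have hm1 : 1 ≤ m := by
    have : 0 < Fintype.card ι := Fintype.card_pos
    omega
  obtain ⟨u, hu⟩ := Char2Omega.exists_Q_ne_zero' Q hQ
  -- representatives in `O`
  let repI : ℕ → OO := fun r =>
    if hr : 1 ≤ r ∧ r ≤ A then Classical.choose (rep_id r hr.1 hr.2) else 1
  let repS : ℕ → OO := fun r =>
    if hr : 1 ≤ r ∧ r ≤ B then Classical.choose (rep_swap r hr.1 hr.2) else 1
  have hrepI : ∀ r, 1 ≤ r → r ≤ A → repI r * repI r = 1 ∧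
      (((repI r : GL ι F) : MM) - 1).rank = 2 * r ∧
      ¬ ∀ v, polar (⇑Q) v (((repI r : GL ι F) : MM) *ᵥ v) = 0 := by
    intro r hr1 hr2
    have : repI r = Classical.choose (rep_id r hr1 hr2) := dif_pos ⟨hr1, hr2⟩
    rw [this]
    exact Classical.choose_spec (rep_id r hr1 hr2)
  have hrepS : ∀ r, 1 ≤ r → r ≤ B → repS r * repS r = 1 ∧
      (((repS r : GL ι F) : MM) - 1).rank = 2 * r ∧
      ∀ v, polar (⇑Q) v (((repS r : GL ι F) : MM) *ᵥ v) = 0 := by
    intro r hr1 hr2
    have : repS r = Classical.choose (rep_swap r hr1 hr2) := dif_pos ⟨hr1, hr2⟩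
    rw [this]
    exact Classical.choose_spec (rep_swap r hr1 hr2)
  let repO : Fin A ⊕ (Fin B ⊕ PLift (2 * B = m)) → OO := fun τ =>
    match τ with
    | .inl i => repI ((i : ℕ) + 1)
    | .inr (.inl j) => repS ((j : ℕ) + 1)
    | .inr (.inr _) => reflG Q u hu * repS B * (reflG Q u hu)⁻¹
  have hmemΩ : ∀ T : OO, Even (((T : GL ι F) : MM) - 1).rank → T ∈ Cfsg.Omega F ⇑Q :=
    fun T hT => (hEven T).mpr hT
  have hB1 : ∀ x : PLift (2 * B = m), 2 * B = m ∧ 1 ≤ B := by
    intro x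
    exact ⟨x.down, by have := x.down; omega⟩
  have hmem : ∀ τ, repO τ ∈ Cfsg.Omega F ⇑Q := by
    intro τ
    rcases τ with i | j | x
    · apply hmemΩ
      rw [(hrepI _ (by omega) (by have := i.2; omega)).2.1]
      exact ⟨_, two_mul _⟩
    · apply hmemΩ
      rw [(hrepS _ (by omega) (by have := j.2; omega)).2.1]
      exact ⟨_, two_mul _⟩
    · apply hn.conj_mem
      apply hmemΩ
      rw [(hrepS _ (hB1 x).2 le_rfl).2.1]
      exact ⟨_, two_mul _⟩
  have hne1 : ∀ T : OO, 1 ≤ (((T : GL ι F) : MM) - 1).rank → T ≠ 1 := by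
    intro T hT h1
    rw [h1] at hT
    have : ((((1 : OO) : GL ι F) : MM) - 1) = 0 := by
      show (1 : MM) - 1 = 0
      exact sub_self _
    rw [this, Matrix.rank_zero] at hT
    omega
  have key := card_classes (G := ↥(Cfsg.Omega F ⇑Q)) (fun g => orderOf g = 2)
    (fun τ => ⟨repO τ, hmem τ⟩) ?_ ?_ ?_
  · rw [key, Nat.card_sum, Nat.card_sum, Nat.card_fin, Nat.card_fin, add_assoc]
    congr 2
    by_cases hBm : 2 * B = m
    · rw [if_pos hBm]
      haveI : Unique (PLift (2 * B = m)) := ⟨⟨⟨hBm⟩⟩, fun x => by cases x; rfl⟩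
      exact Nat.card_unique
    · rw [if_neg hBm]
      haveI : IsEmpty (PLift (2 * B = m)) := ⟨fun x => hBm x.down⟩
      exact Nat.card_of_isEmpty
  · -- representatives are involutions
    intro τ
    rw [orderOf_two_iff_coe]
    show repO τ * repO τ = 1 ∧ repO τ ≠ 1
    rcases τ with i | j | x
    · have := hrepI ((i : ℕ) + 1) (by omega) (by have := i.2; omega)
      exact ⟨this.1, hne1 _ (by rw [this.2.1]; omega)⟩
    · have := hrepS ((j : ℕ) + 1) (by omega) (by have := j.2; omega)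
      exact ⟨this.1, hne1 _ (by rw [this.2.1]; omega)⟩
    · have := hrepS B (hB1 x).2 le_rfl
      constructor
      · show reflG Q u hu * repS B * (reflG Q u hu)⁻¹ *
          (reflG Q u hu * repS B * (reflG Q u hu)⁻¹) = 1
        have h3 : reflG Q u hu * repS B * (reflG Q u hu)⁻¹ *
            (reflG Q u hu * repS B * (reflG Q u hu)⁻¹) =
            reflG Q u hu * (repS B * repS B) * (reflG Q u hu)⁻¹ := by group
        rw [h3, this.1, mul_one, mul_inv_cancel]
      · show reflG Q u hu * repS B * (reflG Q u hu)⁻¹ ≠ 1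
        intro h4
        have h5 : repS B = 1 := by
          have := congrArg (fun x => (reflG Q u hu)⁻¹ * x * reflG Q u hu) h4
          simp only [mul_one, inv_mul_cancel] at this
          rw [← this]
          group
        exact hne1 _ (by rw [this.2.1]; have := (hB1 x).2; omega) h5
  · -- injectivity
    intro τ τ' hconj
    have hconj' := isConj_coe Q hconj
    change IsConj (repO τ) (repO τ') at hconj'
    obtain ⟨hr, ha⟩ := invariants_of_isConj Q _ _ hconj'
    have hextra : ∀ x : PLift (2 * B = m),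
        (((repO (.inr (.inr x)) : GL ι F) : MM) - 1).rank = 2 * B ∧
        ∀ v, polar (⇑Q) v (((repO (.inr (.inr x)) : GL ι F) : MM) *ᵥ v) = 0 := by
      intro x
      have hc : IsConj (repS B) (repO (.inr (.inr x))) := by
        rw [isConj_iff]
        exact ⟨reflG Q u hu, rfl⟩
      obtain ⟨hr', ha'⟩ := invariants_of_isConj Q _ _ hc
      have := hrepS B (hB1 x).2 le_rfl
      exact ⟨by rw [← hr', this.2.1], ha'.mp this.2.2⟩
    rcases τ with i | j | x <;> rcases τ' with i' | j' | x'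
    · have e1 := (hrepI ((i : ℕ) + 1) (by omega) (by have := i.2; omega)).2.1
      have e2 := (hrepI ((i' : ℕ) + 1) (by omega) (by have := i'.2; omega)).2.1
      change (((repI ((i : ℕ) + 1) : GL ι F) : MM) - 1).rank =
        (((repI ((i' : ℕ) + 1) : GL ι F) : MM) - 1).rank at hr
      rw [e1, e2] at hr
      congr 1
      apply Fin.ext
      omega
    · exfalso
      exact (hrepI ((i : ℕ) + 1) (by omega) (by have := i.2; omega)).2.2
        (ha.mpr (hrepS ((j' : ℕ) + 1) (by omega) (by have := j'.2; omega)).2.2)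
    · exfalso
      exact (hrepI ((i : ℕ) + 1) (by omega) (by have := i.2; omega)).2.2
        (ha.mpr (hextra x').2)
    · exfalso
      exact (hrepI ((i' : ℕ) + 1) (by omega) (by have := i'.2; omega)).2.2
        (ha.mp (hrepS ((j : ℕ) + 1) (by omega) (by have := j.2; omega)).2.2)
    · have e1 := (hrepS ((j : ℕ) + 1) (by omega) (by have := j.2; omega)).2.1
      have e2 := (hrepS ((j' : ℕ) + 1) (by omega) (by have := j'.2; omega)).2.1
      change (((repS ((j : ℕ) + 1) : GL ι F) : MM) - 1).rank =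
        (((repS ((j' : ℕ) + 1) : GL ι F) : MM) - 1).rank at hr
      rw [e1, e2] at hr
      congr 2
      apply Fin.ext
      omega
    · -- `repS (j+1)` against the extra class
      exfalso
      have e1 := (hrepS ((j : ℕ) + 1) (by omega) (by have := j.2; omega)).2.1
      change (((repS ((j : ℕ) + 1) : GL ι F) : MM) - 1).rank = _ at hr
      rw [e1, (hextra x').1] at hr
      have hjB : (j : ℕ) + 1 = B := by omega
      obtain ⟨c, hc⟩ := isConj_iff.mp hconj
      have hc' : (c : OO) * repS ((j : ℕ) + 1) * (c : OO)⁻¹ =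
          reflG Q u hu * repS B * (reflG Q u hu)⁻¹ := congrArg Subtype.val hc
      rw [hjB] at hc'
      have hcomm : ((reflG Q u hu)⁻¹ * (c : OO)) * repS B = repS B * ((reflG Q u hu)⁻¹ * (c : OO)) := by
        have h6 : (c : OO) * repS B = reflG Q u hu * repS B * (reflG Q u hu)⁻¹ * (c : OO) := by
          rw [← hc']; group
        calc (reflG Q u hu)⁻¹ * (c : OO) * repS B = (reflG Q u hu)⁻¹ * ((c : OO) * repS B) := by group
          _ = (reflG Q u hu)⁻¹ * (reflG Q u hu * repS B * (reflG Q u hu)⁻¹ * (c : OO)) := by rw [h6]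
          _ = repS B * ((reflG Q u hu)⁻¹ * (c : OO)) := by group
      have hS := hrepS B (hB1 x').2 le_rfl
      have hmemc := hC (repS B) _ hS.1 (by rw [hS.2.1]; exact (hB1 x').1) hS.2.2 hcomm
      have : reflG Q u hu ∈ Cfsg.Omega F ⇑Q := by
        have h7 := (Cfsg.Omega F ⇑Q).mul_mem c.2 ((Cfsg.Omega F ⇑Q).inv_mem hmemc)
        have h8 : (c : OO) * ((reflG Q u hu)⁻¹ * (c : OO))⁻¹ = reflG Q u hu := by group
        rwa [h8] at h7
      exact Char2Omega.refl_not_mem Q hQ u hu this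
    · exfalso
      exact (hrepI ((i' : ℕ) + 1) (by omega) (by have := i'.2; omega)).2.2
        (ha.mp (hextra x).2)
    · exfalso
      have e2 := (hrepS ((j' : ℕ) + 1) (by omega) (by have := j'.2; omega)).2.1
      change _ = (((repS ((j' : ℕ) + 1) : GL ι F) : MM) - 1).rank at hr
      rw [e2, (hextra x).1] at hr
      have hjB : (j' : ℕ) + 1 = B := by omega
      obtain ⟨c, hc⟩ := isConj_iff.mp hconj.symm
      have hc' : (c : OO) * repS ((j' : ℕ) + 1) * (c : OO)⁻¹ =
          reflG Q u hu * repS B * (reflG Q u hu)⁻¹ := congrArg Subtype.val hc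
      rw [hjB] at hc'
      have hcomm : ((reflG Q u hu)⁻¹ * (c : OO)) * repS B = repS B * ((reflG Q u hu)⁻¹ * (c : OO)) := by
        have h6 : (c : OO) * repS B = reflG Q u hu * repS B * (reflG Q u hu)⁻¹ * (c : OO) := by
          rw [← hc']; group
        calc (reflG Q u hu)⁻¹ * (c : OO) * repS B = (reflG Q u hu)⁻¹ * ((c : OO) * repS B) := by group
          _ = (reflG Q u hu)⁻¹ * (reflG Q u hu * repS B * (reflG Q u hu)⁻¹ * (c : OO)) := by rw [h6]
          _ = repS B * ((reflG Q u hu)⁻¹ * (c : OO)) := by group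
      have hS := hrepS B (hB1 x).2 le_rfl
      have hmemc := hC (repS B) _ hS.1 (by rw [hS.2.1]; exact (hB1 x).1) hS.2.2 hcomm
      have : reflG Q u hu ∈ Cfsg.Omega F ⇑Q := by
        have h7 := (Cfsg.Omega F ⇑Q).mul_mem c.2 ((Cfsg.Omega F ⇑Q).inv_mem hmemc)
        have h8 : (c : OO) * ((reflG Q u hu)⁻¹ * (c : OO))⁻¹ = reflG Q u hu := by group
        rwa [h8] at h7
      exact Char2Omega.refl_not_mem Q hQ u hu this
    · cases x; cases x'; rfl
  · -- surjectivity
    intro g hg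
    rw [orderOf_two_iff_coe] at hg
    obtain ⟨hg2, hg1⟩ := hg
    obtain ⟨hr1, hr2, hr3⟩ := OInvol.invariants_range Q hQ (g : OO) hg2 hg1
    obtain ⟨r, hr⟩ := (hEven (g : OO)).mp g.2
    rw [hcard] at hr2
    have hr1' : 1 ≤ r := by omega
    by_cases halt : ∀ v, polar (⇑Q) v ((((g : OO) : GL ι F) : MM) *ᵥ v) = 0
    · have hle := h2 (g : OO) hg2 hg1 halt
      by_cases hexc : ((((g : OO) : GL ι F) : MM) - 1).rank = m
      · have hB1' : 1 ≤ B := by omega
        have hS := hrepS B hB1' le_rfl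
        have hBm : 2 * B = m := by
          have := (OInvol.invariants_range Q hQ (repS B) hS.1
            (hne1 _ (by rw [hS.2.1]; omega))).2.1
          rw [hS.2.1, hcard] at this
          omega
        have hco : IsConj (g : OO) (repS B) := by
          apply OInvol.isConj_of_invariants Q hQ (g : OO) _ hg2 hS.1
          · rw [hS.2.1]; omega
          · exact ⟨fun _ => hS.2.2, fun _ => halt⟩
        obtain ⟨c, hc⟩ := isConj_iff.mp hco
        rcases hAbel u hu c with hcΩ | hcΩ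
        · have hBB : B - 1 < B := by omega
          refine ⟨.inr (.inl ⟨B - 1, hBB⟩), ?_⟩
          apply isConj_of_exists
          refine ⟨c, hcΩ, ?_⟩
          show c * (g : OO) * c⁻¹ = repS (B - 1 + 1)
          have e : B - 1 + 1 = B := by omega
          rw [e]
          exact hc
        · refine ⟨.inr (.inr ⟨hBm⟩), ?_⟩
          apply isConj_of_exists
          refine ⟨reflG Q u hu * c, hcΩ, ?_⟩
          show reflG Q u hu * c * (g : OO) * (reflG Q u hu * c)⁻¹ =
            reflG Q u hu * repS B * (reflG Q u hu)⁻¹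
          rw [← hc]
          group
      · have hrB : r - 1 < B := by omega
        refine ⟨.inr (.inl ⟨r - 1, hrB⟩), ?_⟩
        apply isConj_of_exists
        have hS := hrepS (r - 1 + 1) (by omega) (by omega)
        apply conj_Omega_of_not_exc_of Q hQ hAbel hcard (g : OO) _ hg2 ?_ (fun hh => hexc hh.1)
        apply OInvol.isConj_of_invariants Q hQ (g : OO) _ hg2 hS.1
        · rw [hS.2.1]; omega
        · exact ⟨fun _ => hS.2.2, fun _ => halt⟩
    · have hle := h1 (g : OO) hg2 hg1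
      have hrA : r - 1 < A := by omega
      refine ⟨.inl ⟨r - 1, hrA⟩, ?_⟩
      apply isConj_of_exists
      have hI := hrepI (r - 1 + 1) (by omega) (by omega)
      apply conj_Omega_of_not_exc_of Q hQ hAbel hcard (g : OO) _ hg2 ?_ (fun hh => halt hh.2)
      apply OInvol.isConj_of_invariants Q hQ (g : OO) _ hg2 hI.1
      · rw [hI.2.1]; omega
      · exact ⟨fun hh => absurd hh halt, fun hh => absurd hh hI.2.2⟩

/-- generic count of the classes of involutions of `Ω` -/
theorem card_involution_classes_Omega [Nonempty ι] (hQ : (polarBilin Q).Nondegenerate)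
    (h : Nat.card F ≠ 2 ∨ Fintype.card ι ≠ 4) {m : ℕ} (hcard : Fintype.card ι = 2 * m)
    (A B : ℕ)
    (h1 : ∀ t : OO, t * t = 1 → t ≠ 1 → (((t : GL ι F) : MM) - 1).rank ≤ 2 * A + 1)
    (h2 : ∀ t : OO, t * t = 1 → t ≠ 1 →
      (∀ v, polar (⇑Q) v (((t : GL ι F) : MM) *ᵥ v) = 0) →
      (((t : GL ι F) : MM) - 1).rank ≤ 2 * B)
    (rep_id : ∀ r, 1 ≤ r → r ≤ A → ∃ T : OO, T * T = 1 ∧
      (((T : GL ι F) : MM) - 1).rank = 2 * r ∧
      ¬ ∀ v, polar (⇑Q) v (((T : GL ι F) : MM) *ᵥ v) = 0)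
    (rep_swap : ∀ r, 1 ≤ r → r ≤ B → ∃ T : OO, T * T = 1 ∧
      (((T : GL ι F) : MM) - 1).rank = 2 * r ∧
      ∀ v, polar (⇑Q) v (((T : GL ι F) : MM) *ᵥ v) = 0)
    (hC : ∀ t c : OO, t * t = 1 → (((t : GL ι F) : MM) - 1).rank = m →
      (∀ v, polar (⇑Q) v (((t : GL ι F) : MM) *ᵥ v) = 0) → c * t = t * c →
      c ∈ Cfsg.Omega F ⇑Q) :
    Nat.card {C : ConjClasses ↥(Cfsg.Omega F ⇑Q) //
      ∃ g : ↥(Cfsg.Omega F ⇑Q), ConjClasses.mk g = C ∧ orderOf g = 2} =
      A + B + (if 2 * B = m then 1 else 0) :=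
  card_involution_classes_Omega_of Q hQ
    (fun T => RankParity.mem_Omega_iff_even_rank Q hQ h T)
    (fun u hu c => Char2Omega.abel_cases Q hQ h u hu c) hcard A B h1 h2 rep_id rep_swap hC

end Cfsg.Agent.Lib.H13.OmegaInvol
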