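import Cfsg.Agent.Lib.H13.PlusLevi

set_option autoImplicit false

namespace Cfsg.Agent.Lib.H13.Dickson

open Matrix
open scoped MatrixGroups
open Cfsg.Agent.Lib.H13.PlusLevi

variable {F : Type*} [Field F] {m : ℕ}

/-- quadratic-alternating matrices: `uᵀ N u = 0` for all `u` -/
def QAlt (N : Matrix (Fin m) (Fin m) F) : Prop := ∀ u : Fin m → F, u ⬝ᵥ (N *ᵥ u) = 0

theorem bil_single (N : Matrix (Fin m) (Fin m) F) (i j : Fin m) :
    (Pi.single i (1 : F) : Fin m → F) ⬝ᵥ (N *ᵥ Pi.single j 1) = N i j := by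
  rw [single_one_dotProduct, mulVec_single_one]
  rfl

theorem QAlt.diag {N : Matrix (Fin m) (Fin m) F} (h : QAlt N) (i : Fin m) : N i i = 0 := by
  have := h (Pi.single i 1)
  rwa [bil_single] at this

theorem QAlt.symm' {N : Matrix (Fin m) (Fin m) F} (h : QAlt N) (i j : Fin m) :
    N i j + N j i = 0 := by
  have := h (Pi.single i 1 + Pi.single j 1)
  rw [Matrix.mulVec_add, add_dotProduct, dotProduct_add, dotProduct_add, bil_single, bil_single,
    bil_single, bil_single, h.diag, h.diag] at this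
  linear_combination this

theorem QAlt.transpose {N : Matrix (Fin m) (Fin m) F} (h : QAlt N) : QAlt Nᵀ := by
  intro u
  rw [Matrix.mulVec_transpose, dotProduct_comm, ← dotProduct_mulVec]
  exact h u

theorem QAlt.add_transpose {N : Matrix (Fin m) (Fin m) F} (h : QAlt N) : N + Nᵀ = 0 := by
  ext i j
  exact h.symm' i j

theorem trace_mul_of_QAlt [CharP F 2] {N₁ N₂ : Matrix (Fin m) (Fin m) F} (h₁ : QAlt N₁)
    (h₂ : QAlt N₂) : Matrix.trace (N₁ * N₂) = 0 := by
  have h : Matrix.trace (N₁ * N₂) = ∑ p : Fin m × Fin m, N₁ p.1 p.2 * N₂ p.2 p.1 := by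
    rw [Matrix.trace, Fintype.sum_prod_type]
    rfl
  rw [h]
  apply Finset.sum_involution (fun p _ => Prod.swap p)
  · intro p _
    simp only [Prod.fst_swap, Prod.snd_swap]
    have e1 := h₁.symm' p.1 p.2
    have e2 := h₂.symm' p.1 p.2
    have e1' : N₁ p.2 p.1 = N₁ p.1 p.2 := by
      have : N₁ p.2 p.1 = - N₁ p.1 p.2 := by linear_combination e1
      rw [this, CharTwo.neg_eq]
    have e2' : N₂ p.1 p.2 = N₂ p.2 p.1 := by
      have : N₂ p.1 p.2 = - N₂ p.2 p.1 := by linear_combination e2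
      rw [this, CharTwo.neg_eq]
    rw [e1', e2']
    exact CharTwo.add_self_eq_zero _
  · intro p _ hp hswap
    apply hp
    have : p.1 = p.2 := by
      have := congrArg Prod.fst hswap
      simpa using this.symm
    rw [this, h₁.diag, zero_mul]
  · intro p _
    exact Finset.mem_univ _
  · intro p _
    exact Prod.swap_swap p

/-- isometries of the hyperbolic form, as matrices -/
def IsIso (M : Matrix (K m) (K m) F) : Prop :=
  ∀ x : K m → F, Cfsg.quadFormPlus m F (M *ᵥ x) = Cfsg.quadFormPlus m F x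

/-- the column relations -/
structure ColRel (A B C D : Matrix (Fin m) (Fin m) F) : Prop where
  ac : QAlt (Aᵀ * C)
  bd : QAlt (Bᵀ * D)
  ad : Aᵀ * D + Cᵀ * B = 1

theorem dot_mulVec_mulVec (A C : Matrix (Fin m) (Fin m) F) (u w : Fin m → F) :
    (A *ᵥ u) ⬝ᵥ (C *ᵥ w) = u ⬝ᵥ ((Aᵀ * C) *ᵥ w) := by
  rw [← Matrix.mulVec_mulVec, dotProduct_mulVec u, Matrix.vecMul_transpose]

theorem quadFormPlus_fromBlocks (A B C D : Matrix (Fin m) (Fin m) F) (u w : Fin m → F) :
    Cfsg.quadFormPlus m F (fromBlocks A B C D *ᵥ Sum.elim u w) =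
      u ⬝ᵥ ((Aᵀ * C) *ᵥ u) + u ⬝ᵥ ((Aᵀ * D + Cᵀ * B) *ᵥ w) + w ⬝ᵥ ((Bᵀ * D) *ᵥ w) := by
  rw [quadFormPlus_eq_dot, fromBlocks_mulVec]
  have h1 : (Sum.elim (A *ᵥ Sum.elim u w ∘ Sum.inl + B *ᵥ Sum.elim u w ∘ Sum.inr)
      (C *ᵥ Sum.elim u w ∘ Sum.inl + D *ᵥ Sum.elim u w ∘ Sum.inr)) ∘ Sum.inl =
      A *ᵥ u + B *ᵥ w := rfl
  have h2 : (Sum.elim (A *ᵥ Sum.elim u w ∘ Sum.inl + B *ᵥ Sum.elim u w ∘ Sum.inr)
      (C *ᵥ Sum.elim u w ∘ Sum.inl + D *ᵥ Sum.elim u w ∘ Sum.inr)) ∘ Sum.inr =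
      C *ᵥ u + D *ᵥ w := rfl
  rw [h1, h2, add_dotProduct, dotProduct_add, dotProduct_add, dot_mulVec_mulVec, dot_mulVec_mulVec,
    dot_mulVec_mulVec, dot_mulVec_mulVec, Matrix.add_mulVec, dotProduct_add]
  have h3 : w ⬝ᵥ ((Bᵀ * C) *ᵥ u) = u ⬝ᵥ ((Cᵀ * B) *ᵥ w) := by
    rw [← dot_mulVec_mulVec, ← dot_mulVec_mulVec, dotProduct_comm]
  rw [h3]
  ring

theorem colRel_of_isIso {A B C D : Matrix (Fin m) (Fin m) F} (h : IsIso (fromBlocks A B C D)) :
    ColRel A B C D := by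
  have hac : QAlt (Aᵀ * C) := by
    intro u
    have := h (Sum.elim u 0)
    rw [quadFormPlus_fromBlocks, quadFormPlus_eq_dot] at this
    simpa using this
  have hbd : QAlt (Bᵀ * D) := by
    intro w
    have := h (Sum.elim 0 w)
    rw [quadFormPlus_fromBlocks, quadFormPlus_eq_dot] at this
    simpa using this
  refine ⟨hac, hbd, ?_⟩
  ext i j
  have := h (Sum.elim (Pi.single i 1) (Pi.single j 1))
  rw [quadFormPlus_fromBlocks, quadFormPlus_eq_dot, hac, hbd, bil_single] at this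
  have h5 : (Sum.elim (Pi.single i (1 : F)) (Pi.single j (1 : F)) ∘ Sum.inl : Fin m → F) =
      Pi.single i 1 := rfl
  have h6 : (Sum.elim (Pi.single i (1 : F)) (Pi.single j (1 : F)) ∘ Sum.inr : Fin m → F) =
      Pi.single j 1 := rfl
  rw [h5, h6, single_one_dotProduct] at this
  rw [Matrix.one_apply]
  simp only [zero_add, add_zero] at this
  rw [this, Pi.single_apply]

theorem IsIso.mul {M N : Matrix (K m) (K m) F} (hM : IsIso M) (hN : IsIso N) : IsIso (M * N) := by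
  intro x
  rw [← Matrix.mulVec_mulVec, hM, hN]

/-- the swap matrix -/
def J0 : Matrix (K m) (K m) F := fromBlocks 0 1 1 0

theorem J0_mul_self : (J0 : Matrix (K m) (K m) F) * J0 = 1 := by
  unfold J0
  rw [fromBlocks_multiply]
  simp [fromBlocks_one]

theorem J0_isIso : IsIso (J0 : Matrix (K m) (K m) F) := by
  intro x
  rw [quadFormPlus_eq_dot, quadFormPlus_eq_dot, J0, fromBlocks_mulVec]
  simp only [Matrix.zero_mulVec, Matrix.one_mulVec, zero_add, add_zero]
  exact dotProduct_comm _ _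

theorem transpose_J0_mul {A B C D : Matrix (Fin m) (Fin m) F} (h : ColRel A B C D) :
    (fromBlocks A B C D)ᵀ * J0 * fromBlocks A B C D = J0 := by
  unfold J0
  rw [fromBlocks_transpose, fromBlocks_multiply, fromBlocks_multiply]
  simp only [Matrix.mul_zero, Matrix.mul_one, zero_add, add_zero]
  have h1 : Cᵀ * A + Aᵀ * C = 0 := by
    have := h.ac.add_transpose
    rw [Matrix.transpose_mul, Matrix.transpose_transpose] at this
    rw [add_comm]
    exact this
  have h2 : Dᵀ * B + Bᵀ * D = 0 := by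
    have := h.bd.add_transpose
    rw [Matrix.transpose_mul, Matrix.transpose_transpose] at this
    rw [add_comm]
    exact this
  have h3 : Cᵀ * B + Aᵀ * D = 1 := by
    rw [add_comm]
    exact h.ad
  have h4 : Dᵀ * A + Bᵀ * C = 1 := by
    have := congrArg Matrix.transpose h.ad
    rw [Matrix.transpose_add, Matrix.transpose_mul, Matrix.transpose_mul, Matrix.transpose_transpose,
      Matrix.transpose_transpose, Matrix.transpose_one] at this
    exact this
  rw [h1, h2, h3, h4]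

theorem IsIso.transpose {M : Matrix (K m) (K m) F} (hM : IsIso M) : IsIso Mᵀ := by
  have hcr : ColRel M.toBlocks₁₁ M.toBlocks₁₂ M.toBlocks₂₁ M.toBlocks₂₂ :=
    colRel_of_isIso (by rw [fromBlocks_toBlocks]; exact hM)
  have h1 := transpose_J0_mul hcr
  rw [fromBlocks_toBlocks] at h1
  -- `(J0 Mᵀ J0) M = 1`
  have h2 : (J0 * Mᵀ * J0) * M = 1 := by
    rw [Matrix.mul_assoc, Matrix.mul_assoc, ← Matrix.mul_assoc Mᵀ, h1, J0_mul_self]
  have h3 : M * (J0 * Mᵀ * J0) = 1 := mul_eq_one_comm.mp h2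
  have hinv : IsIso (J0 * Mᵀ * J0) := by
    intro x
    have := hM ((J0 * Mᵀ * J0) *ᵥ x)
    rw [Matrix.mulVec_mulVec, h3, Matrix.one_mulVec] at this
    exact this.symm
  have h4 : Mᵀ = J0 * (J0 * Mᵀ * J0) * J0 := by
    rw [Matrix.mul_assoc J0 Mᵀ, ← Matrix.mul_assoc J0 J0, J0_mul_self, Matrix.one_mul, Matrix.mul_assoc,
      J0_mul_self, Matrix.mul_one]
  rw [h4]
  exact (J0_isIso.mul hinv).mul J0_isIso

/-- the row relations -/
theorem rowRel_of_isIso {A B C D : Matrix (Fin m) (Fin m) F} (h : IsIso (fromBlocks A B C D)) :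
    QAlt (A * Bᵀ) ∧ QAlt (C * Dᵀ) ∧ A * Dᵀ + B * Cᵀ = 1 := by
  have ht := h.transpose
  rw [fromBlocks_transpose] at ht
  have := colRel_of_isIso ht
  refine ⟨?_, ?_, ?_⟩
  · simpa using this.ac
  · simpa using this.bd
  · simpa using this.ad

/-- the Dickson (pseudo-determinant) functional `tr(B Cᵀ)` -/
def dk (M : Matrix (K m) (K m) F) : F := Matrix.trace (M.toBlocks₁₂ * M.toBlocks₂₁ᵀ)

theorem dk_fromBlocks (A B C D : Matrix (Fin m) (Fin m) F) :
    dk (fromBlocks A B C D) = Matrix.trace (B * Cᵀ) := by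
  rw [dk, toBlocks_fromBlocks₁₂, toBlocks_fromBlocks₂₁]

theorem dk_mul_blocks [CharP F 2] {A B C D A' B' C' D' : Matrix (Fin m) (Fin m) F}
    (h : IsIso (fromBlocks A B C D)) (h' : IsIso (fromBlocks A' B' C' D')) :
    dk (fromBlocks A B C D * fromBlocks A' B' C' D') =
      dk (fromBlocks A B C D) + dk (fromBlocks A' B' C' D') := by
  have hc := colRel_of_isIso h
  obtain ⟨r1, r2, r3⟩ := rowRel_of_isIso h'
  rw [fromBlocks_multiply, dk_fromBlocks, dk_fromBlocks, dk_fromBlocks]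
  rw [Matrix.transpose_add, Matrix.transpose_mul, Matrix.transpose_mul, Matrix.add_mul,
    Matrix.mul_add, Matrix.mul_add, Matrix.trace_add, Matrix.trace_add, Matrix.trace_add]
  -- the four terms
  have T1 : Matrix.trace (A * B' * (A'ᵀ * Cᵀ)) = 0 := by
    have e : A * B' * (A'ᵀ * Cᵀ) = A * (B' * A'ᵀ) * Cᵀ := by
      simp only [Matrix.mul_assoc]
    rw [e, Matrix.trace_mul_cycle, ← Matrix.mul_assoc]
    have q1 : QAlt (Cᵀ * A) := by
      have := hc.ac.transpose
      rwa [Matrix.transpose_mul, Matrix.transpose_transpose] at this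
    have q2 : QAlt (B' * A'ᵀ) := by
      have := r1.transpose
      rwa [Matrix.transpose_mul, Matrix.transpose_transpose] at this
    rw [Matrix.mul_assoc]
    exact trace_mul_of_QAlt q1 q2
  have T4 : Matrix.trace (B * D' * (C'ᵀ * Dᵀ)) = 0 := by
    have e : B * D' * (C'ᵀ * Dᵀ) = B * (D' * C'ᵀ) * Dᵀ := by
      simp only [Matrix.mul_assoc]
    rw [e, Matrix.trace_mul_cycle, ← Matrix.mul_assoc]
    have q1 : QAlt (Dᵀ * B) := by
      have := hc.bd.transpose
      rwa [Matrix.transpose_mul, Matrix.transpose_transpose] at this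
    have q2 : QAlt (D' * C'ᵀ) := by
      have := r2.transpose
      rwa [Matrix.transpose_mul, Matrix.transpose_transpose] at this
    rw [Matrix.mul_assoc]
    exact trace_mul_of_QAlt q1 q2
  have hDA : Dᵀ * A = 1 - Bᵀ * C := by
    have := congrArg Matrix.transpose hc.ad
    rw [Matrix.transpose_add, Matrix.transpose_mul, Matrix.transpose_mul, Matrix.transpose_transpose,
      Matrix.transpose_transpose, Matrix.transpose_one] at this
    rw [← this]
    abel
  have hDA' : D' * A'ᵀ = 1 - C' * B'ᵀ := by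
    have := congrArg Matrix.transpose r3
    rw [Matrix.transpose_add, Matrix.transpose_mul, Matrix.transpose_mul, Matrix.transpose_transpose,
      Matrix.transpose_transpose, Matrix.transpose_one] at this
    rw [← this]
    abel
  have T2 : Matrix.trace (A * B' * (C'ᵀ * Dᵀ)) =
      Matrix.trace (B' * C'ᵀ) - Matrix.trace (Bᵀ * C * (B' * C'ᵀ)) := by
    have e : A * B' * (C'ᵀ * Dᵀ) = A * (B' * C'ᵀ) * Dᵀ := by
      simp only [Matrix.mul_assoc]
    have e2 : Matrix.trace (A * (B' * C'ᵀ) * Dᵀ) = Matrix.trace (Dᵀ * A * (B' * C'ᵀ)) :=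
      Matrix.trace_mul_cycle A (B' * C'ᵀ) Dᵀ
    rw [e, e2, hDA, Matrix.sub_mul, Matrix.one_mul, Matrix.trace_sub]
  have T3 : Matrix.trace (B * D' * (A'ᵀ * Cᵀ)) =
      Matrix.trace (B * Cᵀ) - Matrix.trace (Bᵀ * C * (B' * C'ᵀ)) := by
    have e : B * D' * (A'ᵀ * Cᵀ) = B * (D' * A'ᵀ) * Cᵀ := by
      simp only [Matrix.mul_assoc]
    have e3 : Matrix.trace (B * (C' * B'ᵀ) * Cᵀ) = Matrix.trace (Bᵀ * C * (B' * C'ᵀ)) := by
      have t1 : (B * (C' * B'ᵀ) * Cᵀ)ᵀ = C * ((B' * C'ᵀ) * Bᵀ) := by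
        rw [Matrix.transpose_mul, Matrix.transpose_mul, Matrix.transpose_mul,
          Matrix.transpose_transpose, Matrix.transpose_transpose, Matrix.mul_assoc]
      rw [← Matrix.trace_transpose (B * (C' * B'ᵀ) * Cᵀ), t1, Matrix.trace_mul_comm,
        Matrix.mul_assoc (B' * C'ᵀ), Matrix.trace_mul_comm, Matrix.mul_assoc]
    rw [e, hDA', Matrix.mul_sub, Matrix.mul_one, Matrix.sub_mul, Matrix.trace_sub, e3]
  rw [T1, T4, T2, T3]
  have h2 : Matrix.trace (Bᵀ * C * (B' * C'ᵀ)) + Matrix.trace (Bᵀ * C * (B' * C'ᵀ)) = 0 :=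
    CharTwo.add_self_eq_zero _
  linear_combination -h2

theorem dk_mul [CharP F 2] {M N : Matrix (K m) (K m) F} (hM : IsIso M) (hN : IsIso N) :
    dk (M * N) = dk M + dk N := by
  rw [← fromBlocks_toBlocks M] at hM
  rw [← fromBlocks_toBlocks N] at hN
  have := dk_mul_blocks hM hN
  rwa [fromBlocks_toBlocks, fromBlocks_toBlocks] at this

theorem dk_one : dk (1 : Matrix (K m) (K m) F) = 0 := by
  rw [← fromBlocks_one, dk_fromBlocks]
  simp

theorem isIso_of_mem (g : ↥(Cfsg.isometryGroup F (Cfsg.quadFormPlus m F))) :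
    IsIso ((g : GL (K m) F) : Matrix (K m) (K m) F) :=
  (Cfsg.Agent.Lib.H11.IsoReindex.mem_iso_iff' _ _).mp g.2

/-- the Dickson homomorphism `O⁺_{2m}(F) → (F, +)` in characteristic two -/
noncomputable def dkHom [CharP F 2] :
    ↥(Cfsg.isometryGroup F (Cfsg.quadFormPlus m F)) →* Multiplicative F where
  toFun g := Multiplicative.ofAdd (dk ((g : GL (K m) F) : Matrix (K m) (K m) F))
  map_one' := by
    show Multiplicative.ofAdd (dk (1 : Matrix (K m) (K m) F)) = 1
    rw [dk_one]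
    rfl
  map_mul' g h := by
    show Multiplicative.ofAdd (dk (((g : GL (K m) F) : Matrix (K m) (K m) F) *
      ((h : GL (K m) F) : Matrix (K m) (K m) F))) = _
    rw [dk_mul (isIso_of_mem g) (isIso_of_mem h)]
    rfl

theorem dk_eq_zero_of_mem_Omega [CharP F 2] (g : ↥(Cfsg.isometryGroup F (Cfsg.quadFormPlus m F)))
    (hg : g ∈ Cfsg.Omega F (Cfsg.quadFormPlus m F)) :
    dk ((g : GL (K m) F) : Matrix (K m) (K m) F) = 0 := by
  have := Abelianization.commutator_subset_ker (dkHom (F := F) (m := m)) hg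
  rw [MonoidHom.mem_ker] at this
  exact this

/-- the determinant is trivial on `Ω` -/
theorem det_eq_one_of_mem_Omega {ι : Type} [Fintype ι] [DecidableEq ι] (Q : (ι → F) → F)
    (g : ↥(Cfsg.isometryGroup F Q)) (hg : g ∈ Cfsg.Omega F Q) :
    ((g : GL ι F) : Matrix ι ι F).det = 1 := by
  have := Abelianization.commutator_subset_ker
    (Matrix.GeneralLinearGroup.det.comp (Cfsg.isometryGroup F Q).subtype) hg
  rw [MonoidHom.mem_ker] at this
  have h2 := congrArg Units.val this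
  simpa using h2

theorem det_J0 : (J0 : Matrix (K m) (K m) F).det = (-1) ^ m := by
  have h1 : (fromBlocks (1 : Matrix (Fin m) (Fin m) F) 1 0 1) * J0 = fromBlocks 1 1 1 0 := by
    unfold J0
    rw [fromBlocks_multiply]
    simp
  have h2 := congrArg Matrix.det h1
  rw [Matrix.det_mul, Matrix.det_fromBlocks_zero₂₁, Matrix.det_one, one_mul, one_mul,
    Matrix.det_fromBlocks_one₁₁] at h2
  rw [h2]
  simp [Matrix.det_neg]

section conj

variable {ι : Type} [Fintype ι] [DecidableEq ι] (Q : QuadraticForm F (ι → F))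

open Cfsg.Agent.Lib.H13.HypPairs Cfsg.Agent.Lib.H4 in
theorem conj_reflG (g : ↥(Cfsg.isometryGroup F ⇑Q)) (v : ι → F) (hv : Q v ≠ 0)
    (hgv : Q (((g : GL ι F) : Matrix ι ι F) *ᵥ v) ≠ 0) :
    g * reflG Q v hv * g⁻¹ = reflG Q (((g : GL ι F) : Matrix ι ι F) *ᵥ v) hgv := by
  rw [mul_inv_eq_iff_eq_mul]
  apply Subtype.ext
  apply Units.ext
  show ((g : GL ι F) : Matrix ι ι F) * Cfsg.reflectionMatrix ⇑Q v =
    Cfsg.reflectionMatrix ⇑Q (((g : GL ι F) : Matrix ι ι F) *ᵥ v) * ((g : GL ι F) : Matrix ι ι F)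
  have hg : ∀ x, Q (((g : GL ι F) : Matrix ι ι F) *ᵥ x) = Q x :=
    (Cfsg.Agent.Lib.H11.IsoReindex.mem_iso_iff' _ _).mp g.2
  have hpol : ∀ x y, QuadraticMap.polar (⇑Q) (((g : GL ι F) : Matrix ι ι F) *ᵥ x)
      (((g : GL ι F) : Matrix ι ι F) *ᵥ y) = QuadraticMap.polar (⇑Q) x y := by
    intro x y
    unfold QuadraticMap.polar
    rw [← Matrix.mulVec_add, hg, hg, hg]
  apply Matrix.ext_iff_mulVec.mpr
  intro x
  rw [← Matrix.mulVec_mulVec, ← Matrix.mulVec_mulVec, reflectionMatrix_mulVec, reflectionMatrix_mulVec,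
    hpol, hg, Matrix.mulVec_sub, Matrix.mulVec_smul]

end conj

end Cfsg.Agent.Lib.H13.Dickson
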