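import Cfsg.Agent.Lib.H13.Char2Omega
import Cfsg.Agent.Lib.H13.StdForm
import Cfsg.Agent.Lib.H13.Dickson
import Cfsg.Agent.S0750
import Cfsg.Agent.S0288

set_option autoImplicit false

namespace Cfsg.Agent.Lib.H13.InvolOmega

open Matrix Module QuadraticMap
open Cfsg.Agent.Lib.H13 Cfsg.Agent.Lib.H13.HypPairs

section abstract

variable {F V : Type*} [Field F] [Finite F] [AddCommGroup V] [Module F V] [FiniteDimensional F V]
  (Q : QuadraticForm F V)

/-- a totally singular subspace `E` such that every singular vector of `E^⊥` lies in `E`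
bounds the dimension of all totally singular subspaces (Witt) -/
theorem finrank_le_of_ts (hQ : (polarBilin Q).Nondegenerate) (E U : Submodule F V)
    (hE : ∀ e ∈ E, Q e = 0)
    (hEmax : ∀ u, (∀ e ∈ E, polar (⇑Q) u e = 0) → Q u = 0 → u ∈ E)
    (hU : ∀ u ∈ U, Q u = 0) : finrank F U ≤ finrank F E := by
  by_contra hlt
  push Not at hlt
  obtain ⟨f, hf⟩ := (finrank_le_iff_exists_linearMap (R := F) (M := E) (M' := U)).mp hlt.le
  let f' : E →ₗ[F] V := U.subtype ∘ₗ f
  have hf' : Function.Injective f' := by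
    intro a b hab
    apply hf
    exact Subtype.ext hab
  let φ : E ≃ₗ[F] LinearMap.range f' := LinearEquiv.ofInjective f' hf'
  have hφ' : ∀ x : E, (φ x : V) = (f x : V) := fun x => rfl
  have hφ : ∀ x : E, Q (φ x : V) = Q (x : V) := by
    intro x
    rw [hE x x.2, hφ']
    exact hU _ (f x).2
  obtain ⟨g, hgQ, hg⟩ := Cfsg.Agent.S0750.result Q hQ E (LinearMap.range f') φ hφ
  have hEU : E ≤ U.comap (g : V →ₗ[F] V) := by
    intro e he
    rw [Submodule.mem_comap]
    have := hg ⟨e, he⟩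
    simp only at this
    show g e ∈ U
    rw [this, hφ']
    exact (f ⟨e, he⟩).2
  have hfr : finrank F ↥(U.comap (g : V →ₗ[F] V)) = finrank F U := by
    rw [Submodule.comap_equiv_eq_map_symm]
    exact LinearEquiv.finrank_map_eq g.symm U
  have hnle : ¬ U.comap (g : V →ₗ[F] V) ≤ E := by
    intro hle
    have := Submodule.finrank_mono hle
    omega
  obtain ⟨u, hu, huE⟩ := SetLike.not_le_iff_exists.mp hnle
  apply huE
  have hts : ∀ w ∈ U.comap (g : V →ₗ[F] V), Q w = 0 := by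
    intro w hw
    rw [← hgQ w]
    exact hU _ hw
  apply hEmax u
  · intro e he
    unfold polar
    rw [hts _ (Submodule.add_mem _ hu (hEU he)), hts _ hu, hE e he]
    simp
  · exact hts u hu

end abstract

section conj

variable {F : Type*} [Field F] [Finite F] [CharP F 2] {ι : Type} [Fintype ι] [DecidableEq ι]
  (Q : QuadraticForm F (ι → F))

/-- an involution fixing a nonsingular vector: `O`-conjugacy implies `Ω`-conjugacy -/
theorem conj_of_fixed (hQ : (polarBilin Q).Nondegenerate)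
    (h : Nat.card F ≠ 2 ∨ Fintype.card ι ≠ 4) (t s g : ↥(Cfsg.isometryGroup F ⇑Q))
    (hg : g * t * g⁻¹ = s) (v : ι → F) (hv : Q v ≠ 0)
    (htv : ((t : GL ι F) : Matrix ι ι F) *ᵥ v = v) :
    ∃ g' ∈ Cfsg.Omega F ⇑Q, g' * t * g'⁻¹ = s := by
  have hn : (Cfsg.Omega F ⇑Q).Normal := inferInstance
  rcases Char2Omega.abel_cases Q hQ h v hv g⁻¹ with h1 | h1
  · exact ⟨g, by simpa using (Cfsg.Omega F ⇑Q).inv_mem h1, hg⟩
  · refine ⟨g * reflG Q v hv, ?_, ?_⟩
    · have := (Cfsg.Omega F ⇑Q).inv_mem h1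
      rwa [_root_.mul_inv_rev, inv_inv, Char2Omega.reflG_inv] at this
    · have hcomm : t * reflG Q v hv * t⁻¹ = reflG Q v hv := by
        have hv' : Q (((t : GL ι F) : Matrix ι ι F) *ᵥ v) ≠ 0 := by rw [htv]; exact hv
        rw [Dickson.conj_reflG Q t v hv hv']
        congr 1
      rw [_root_.mul_inv_rev, Char2Omega.reflG_inv, ← hg]
      have : reflG Q v hv * t = t * reflG Q v hv := by
        have h3 := congrArg (fun x => x * t) hcomm
        simp only [inv_mul_cancel_right] at h3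
        exact h3.symm
      calc g * reflG Q v hv * t * (reflG Q v hv * g⁻¹)
          = g * (reflG Q v hv * t) * reflG Q v hv * g⁻¹ := by group
        _ = g * (t * reflG Q v hv) * reflG Q v hv * g⁻¹ := by rw [this]
        _ = g * t * (reflG Q v hv * reflG Q v hv) * g⁻¹ := by group
        _ = g * t * g⁻¹ := by rw [Char2Omega.reflG_mul_self', mul_one]

/-- the fixed space of an involution has at least half the dimension (characteristic two) -/
theorem finrank_ker_ge (A : Matrix ι ι F) (hA : A * A = 1) :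
    Fintype.card ι ≤ 2 * finrank F ↥(LinearMap.ker (Matrix.mulVecLin (A - 1))) := by
  have hN : (A - 1) * (A - 1) = 0 := by
    rw [sub_mul, mul_sub, mul_sub, hA, mul_one, one_mul, mul_one]
    have h2 : (1 - A : Matrix ι ι F) + (1 - A) = 0 := by
      rw [← two_smul F (1 - A : Matrix ι ι F), CharTwo.two_eq_zero, zero_smul]
    have : (1 : Matrix ι ι F) - A - (A - 1) = (1 - A) + (1 - A) := by
      abel
    rw [this, h2]
  have hle : LinearMap.range (Matrix.mulVecLin (A - 1)) ≤ LinearMap.ker (Matrix.mulVecLin (A - 1)) := by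
    rw [LinearMap.range_le_ker_iff, ← Matrix.mulVecLin_mul, hN]
    ext; simp
  have h1 := LinearMap.finrank_range_add_finrank_ker (Matrix.mulVecLin (A - 1))
  have h2 := Submodule.finrank_mono hle
  rw [Module.finrank_fintype_fun_eq_card] at h1
  omega

theorem exists_conj_Omega (hQ : (polarBilin Q).Nondegenerate)
    (h : Nat.card F ≠ 2 ∨ Fintype.card ι ≠ 4)
    (E : Submodule F (ι → F)) (hE : ∀ e ∈ E, Q e = 0)
    (hEmax : ∀ u, (∀ e ∈ E, polar (⇑Q) u e = 0) → Q u = 0 → u ∈ E)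
    (hdim : 2 * finrank F E < Fintype.card ι)
    (t s : ↥(Cfsg.isometryGroup F ⇑Q)) (ht : t * t = 1) (hconj : IsConj t s) :
    ∃ g ∈ Cfsg.Omega F ⇑Q, g * t * g⁻¹ = s := by
  obtain ⟨g, hg⟩ := isConj_iff.mp hconj
  have hA : ((t : GL ι F) : Matrix ι ι F) * ((t : GL ι F) : Matrix ι ι F) = 1 := by
    have := congrArg (fun x : ↥(Cfsg.isometryGroup F ⇑Q) => ((x : GL ι F) : Matrix ι ι F)) ht
    simpa using this
  have hker := finrank_ker_ge ((t : GL ι F) : Matrix ι ι F) hA
  have : ∃ v ∈ LinearMap.ker (Matrix.mulVecLin (((t : GL ι F) : Matrix ι ι F) - 1)), Q v ≠ 0 := by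
    by_contra hcon
    push Not at hcon
    have := finrank_le_of_ts Q hQ E _ hE hEmax hcon
    omega
  obtain ⟨v, hvker, hv⟩ := this
  refine conj_of_fixed Q hQ h t s g hg v hv ?_
  rw [LinearMap.mem_ker, Matrix.mulVecLin_apply, Matrix.sub_mulVec, Matrix.one_mulVec,
    sub_eq_zero] at hvker
  exact hvker

end conj

section minus

variable {F : Type*} [Field F] (k : ℕ) (c d : F)

/-- the standard totally singular subspace of the minus form -/
def Em : Submodule F ((Fin k ⊕ Fin k) ⊕ Fin 2 → F) where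
  carrier := {v | (∀ i, v (.inl (.inr i)) = 0) ∧ ∀ j, v (.inr j) = 0}
  zero_mem' := ⟨fun _ => rfl, fun _ => rfl⟩
  add_mem' := by
    rintro a b ⟨ha1, ha2⟩ ⟨hb1, hb2⟩
    exact ⟨fun i => by rw [Pi.add_apply, ha1, hb1, add_zero],
      fun j => by rw [Pi.add_apply, ha2, hb2, add_zero]⟩
  smul_mem' := by
    rintro l a ⟨ha1, ha2⟩
    exact ⟨fun i => by rw [Pi.smul_apply, ha1, smul_zero],
      fun j => by rw [Pi.smul_apply, ha2, smul_zero]⟩

theorem mem_Em_iff (v : (Fin k ⊕ Fin k) ⊕ Fin 2 → F) :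
    v ∈ Em (F := F) k ↔ (∀ i, v (.inl (.inr i)) = 0) ∧ ∀ j, v (.inr j) = 0 := Iff.rfl

theorem Em_ts (e : (Fin k ⊕ Fin k) ⊕ Fin 2 → F) (he : e ∈ Em (F := F) k) :
    minusQF F k c d e = 0 := by
  rw [minusQF_apply]
  unfold Cfsg.quadFormMinus
  rw [he.2 0, he.2 1]
  simp [he.1]

theorem Em_max (hcd : ∀ z₁ z₂ : F, z₁ ^ 2 + c * z₁ * z₂ + d * z₂ ^ 2 = 0 → z₁ = 0 ∧ z₂ = 0)
    (u : (Fin k ⊕ Fin k) ⊕ Fin 2 → F)
    (hperp : ∀ e ∈ Em (F := F) k, polar (⇑(minusQF F k c d)) u e = 0)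
    (hu : minusQF F k c d u = 0) : u ∈ Em (F := F) k := by
  classical
  have h1 : ∀ i, u (.inl (.inr i)) = 0 := by
    intro i
    have hmem : (Pi.single (Sum.inl (Sum.inl i)) 1 : (Fin k ⊕ Fin k) ⊕ Fin 2 → F) ∈ Em (F := F) k := by
      constructor
      · intro j; simp
      · intro j; simp
    have := hperp _ hmem
    rw [Cfsg.Agent.S0288.coe_minusQF, polar_quadFormMinus_formula] at this
    simpa [Pi.single_apply, Finset.sum_ite_eq'] using this
  refine ⟨h1, ?_⟩
  rw [minusQF_apply] at hu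
  unfold Cfsg.quadFormMinus at hu
  simp only [h1, mul_zero, Finset.sum_const_zero, zero_add] at hu
  obtain ⟨h0, h1'⟩ := hcd _ _ hu
  intro j
  fin_cases j
  · exact h0
  · exact h1'

theorem finrank_Em_le : finrank F ↥(Em (F := F) k) ≤ k := by
  let π : ↥(Em (F := F) k) →ₗ[F] (Fin k → F) :=
    (LinearMap.funLeft F F (fun i : Fin k => (Sum.inl (Sum.inl i) : (Fin k ⊕ Fin k) ⊕ Fin 2))) ∘ₗ
      (Em (F := F) k).subtype
  have hπ : Function.Injective π := by
    intro a b hab
    apply Subtype.ext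
    funext x
    rcases x with (i | i) | j
    · exact congrFun hab i
    · rw [a.2.1 i, b.2.1 i]
    · rw [a.2.2 j, b.2.2 j]
  have := LinearMap.finrank_le_finrank_of_injective hπ
  rwa [Module.finrank_fintype_fun_eq_card, Fintype.card_fin] at this

/-- S2173 for `minusQF` -/
theorem minus_conj [Fintype F] [CharP F 2]
    (hcd : ∀ z₁ z₂ : F, z₁ ^ 2 + c * z₁ * z₂ + d * z₂ ^ 2 = 0 → z₁ = 0 ∧ z₂ = 0)
    (hk : 2 ≤ k)
    (t s : ↥(Cfsg.isometryGroup F ⇑(minusQF F k c d))) (ht : orderOf t = 2) (hconj : IsConj t s) :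
    ∃ g ∈ Cfsg.Omega F ⇑(minusQF F k c d), g * t * g⁻¹ = s := by
  have hcard : Fintype.card ((Fin k ⊕ Fin k) ⊕ Fin 2) = 2 * k + 2 := by
    simp; ring
  have h4 : Fintype.card ((Fin k ⊕ Fin k) ⊕ Fin 2) ≠ 4 := by
    rw [hcard]; omega
  refine exists_conj_Omega (minusQF F k c d) (Cfsg.Agent.S0288.nondeg c d hcd k)
    (Or.inr h4) (Em (F := F) k) (Em_ts k c d) (Em_max k c d hcd) ?_ t s ?_ hconj
  · rw [hcard]
    have := finrank_Em_le (F := F) k
    omega
  · have := pow_orderOf_eq_one t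
    rw [ht, _root_.sq] at this
    exact this

end minus

end Cfsg.Agent.Lib.H13.InvolOmega
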