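import Cfsg.Agent.Lib.H13.Char2Omega
import Cfsg.Agent.Lib.H13.RankParity
import Cfsg.Agent.Lib.H13.InvolOmega

set_option autoImplicit false

namespace Cfsg.Agent.Lib.H13.Char2OmegaA

open Matrix Module QuadraticMap
open scoped MatrixGroups
open Cfsg.Agent.Lib.H13.HypPairs Cfsg.Agent.Lib.H13.Char2Gen Cfsg.Agent.Lib.H13.Char2Mat
  Cfsg.Agent.Lib.H13.DicksonGen Cfsg.Agent.Lib.H13.Dickson Cfsg.Agent.Lib.H13.Char2Omega

section abstract

variable {F : Type*} [Field F] {V : Type*} [AddCommGroup V] [Module F V] (Q : QuadraticForm F V)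

/-- **Lemma A** as a hypothesis: the reflections act transitively on vectors of a given
non-zero norm -/
def LemmaA : Prop := ∀ u v : V, Q u = Q v → Q u ≠ 0 → ∃ ρ ∈ RG Q, ρ u = v

variable [CharP F 2]

theorem lemmaA_of_card [Finite F] [FiniteDimensional F V] (hnd : (polarBilin Q).Nondegenerate)
    (hcard : Nat.card F ≠ 2 ∨ finrank F V ≠ 4) : LemmaA Q :=
  fun u v hQ hu => exists_mem_RG_map Q hnd hcard u v hQ hu

/-- generation by reflections from Lemma A -/
theorem mem_RG_of_lemmaA [Finite F] [FiniteDimensional F V] (hnd : (polarBilin Q).Nondegenerate)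
    (hA : LemmaA Q) (g : V ≃ₗ[F] V) (hg : ∀ x, Q (g x) = Q x) : g ∈ RG Q := by
  by_cases hex : ∃ u, Q u ≠ 0
  · obtain ⟨u, hu⟩ := hex
    obtain ⟨ρ, hρ, hρu⟩ := hA (g u) u (hg u) (by rw [hg]; exact hu)
    have h1 : ρ * g ∈ RG Q := by
      apply mem_RG_of_fix Q u hnd hu
      · intro x
        show Q (ρ (g x)) = Q x
        rw [isom_of_mem_RG Q ρ hρ, hg]
      · exact hρu
    have : g = ρ⁻¹ * (ρ * g) := by rw [inv_mul_cancel_left]
    rw [this]
    exact mul_mem (inv_mem hρ) h1
  · push Not at hex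
    have hall : ∀ x : V, x = 0 := by
      intro x
      apply hnd.1
      intro y
      rw [polarBilin_apply_apply]
      unfold polar
      rw [hex, hex, hex]
      simp
    have : g = 1 := by
      apply LinearEquiv.ext
      intro x
      rw [hall (g x), hall ((1 : V ≃ₗ[F] V) x)]
    rw [this]
    exact Subgroup.one_mem _

/-- Lemma A over the field of two elements when orthogonal singular vectors are proportional
(Witt index at most one) -/
theorem lemmaA_of_witt_index_one [Finite F] (hF : Nat.card F = 2)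
    (hnd : (polarBilin Q).Nondegenerate)
    (hts : ∀ a b : V, Q a = 0 → Q b = 0 → polar (⇑Q) a b = 0 → a ≠ 0 → ∃ l : F, b = l • a) :
    LemmaA Q := by
  classical
  have hone : ∀ x : F, x ≠ 0 → x = 1 := by
    intro x hx
    by_contra hx1
    haveI := Fintype.ofFinite F
    have h3 : 3 ≤ Fintype.card F := by
      have : ({0, 1, x} : Finset F).card = 3 := by
        rw [Finset.card_insert_of_notMem, Finset.card_insert_of_notMem, Finset.card_singleton]
        · simp only [Finset.mem_singleton]; exact fun h => hx1 h.symm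
        · simp only [Finset.mem_insert, Finset.mem_singleton, not_or]
          exact ⟨zero_ne_one, fun h => hx h.symm⟩
      rw [← this]
      exact Finset.card_le_univ _
    rw [Nat.card_eq_fintype_card] at hF
    omega
  intro u v hQ hu
  by_cases h : polar (⇑Q) u v ≠ 0
  · exact exists_step Q u v hQ h
  push Not at h
  by_cases hne : u = v
  · exact ⟨1, Subgroup.one_mem _, by rw [hne]; rfl⟩
  have hu0 : u ≠ 0 := by
    rintro rfl
    rw [map_zero] at hu
    exact hu rfl
  have hv0 : v ≠ 0 := by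
    rintro rfl
    rw [map_zero] at hQ
    exact hu hQ
  obtain ⟨y, hy1, hy2⟩ := exists_both_ne Q hnd u v hu0 hv0
  have hy3 : Q y ≠ 0 := by
    intro hQy
    have e1 := hone _ hy1
    have e2 := hone _ hy2
    have ha : Q (u + v) = 0 := by
      rw [Q_add', ← hQ, h, add_zero]
      exact Char2Gen.add_self_zero F _
    have ha0 : u + v ≠ 0 := by
      intro h0
      apply hne
      have : u = -v := eq_neg_of_add_eq_zero_left h0
      rw [this, Char2Gen.neg_eq_self F]
    have hay : polar (⇑Q) (u + v) y = 0 := by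
      rw [polar_add_left, e1, e2]
      exact Char2Gen.add_self_zero F _
    obtain ⟨l, hl⟩ := hts (u + v) y ha hQy hay ha0
    apply hy1
    rw [hl, polar_smul_right, polar_add_right, polar_self_zero, h, add_zero, smul_zero]
  obtain ⟨l, hl⟩ := exists_sqrt (Q u / Q y)
  have hl0 : l ≠ 0 := by
    rintro rfl
    rw [mul_zero] at hl
    exact (div_ne_zero hu hy3) hl.symm
  set w := l • y with hw
  have hQw : Q w = Q u := by
    rw [hw, QuadraticMap.map_smul, smul_eq_mul, hl]
    field_simp
  have h1 : polar (⇑Q) u w ≠ 0 := by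
    rw [hw, polar_smul_right, smul_eq_mul]
    exact mul_ne_zero hl0 hy1
  have h2 : polar (⇑Q) w v ≠ 0 := by
    rw [hw, polar_smul_left, smul_eq_mul, polar_comm]
    exact mul_ne_zero hl0 hy2
  obtain ⟨ρ₁, hρ₁, e₁⟩ := exists_step Q u w hQw.symm h1
  obtain ⟨ρ₂, hρ₂, e₂⟩ := exists_step Q w v (hQw.trans hQ) h2
  refine ⟨ρ₂ * ρ₁, mul_mem hρ₂ hρ₁, ?_⟩
  show ρ₂ (ρ₁ u) = v
  rw [e₁, e₂]

end abstract

section matrix

variable {F : Type*} [Field F] [Finite F] [CharP F 2] {ι : Type} [Fintype ι] [DecidableEq ι]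
  (Q : QuadraticForm F (ι → F))

theorem closure_reflSet_eq_top_A (hQ : (polarBilin Q).Nondegenerate) (hA : LemmaA Q) :
    Subgroup.closure (reflSet Q) = ⊤ := by
  rw [eq_top_iff]
  intro g _
  have hg : ∀ x, Q (toEquiv (g : GL ι F) x) = Q x := by
    intro x
    rw [toEquiv_apply]
    exact (Cfsg.Agent.Lib.H11.IsoReindex.mem_iso_iff' _ _).mp g.2 x
  have hmem := mem_RG_of_lemmaA Q hQ hA (toEquiv (g : GL ι F)) hg
  obtain ⟨g', hg', e⟩ := exists_of_mem_RG Q _ hmem
  have : g = g' := by
    apply Subtype.ext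
    apply Units.ext
    apply Matrix.ext_iff_mulVec.mpr
    intro x
    rw [e, toEquiv_apply]
  rw [this]
  exact hg'

theorem exists_conj_A (hA : LemmaA Q) (u v : ι → F) (hu : Q u ≠ 0) (hv : Q v ≠ 0) :
    ∃ g : ↥(Cfsg.isometryGroup F ⇑Q), g * reflG Q u hu * g⁻¹ = reflG Q v hv := by
  obtain ⟨l, hl⟩ := exists_sqrt (Q u / Q v)
  have hl0 : l ≠ 0 := by
    rintro rfl
    rw [mul_zero] at hl
    exact div_ne_zero hu hv hl.symm
  have hQv' : Q (l • v) = Q u := by
    rw [QuadraticMap.map_smul, hl, smul_eq_mul]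
    field_simp
  obtain ⟨ρ, hρ, hρu⟩ := hA u (l • v) hQv'.symm hu
  obtain ⟨g, -, hg⟩ := exists_of_mem_RG Q ρ hρ
  refine ⟨g, ?_⟩
  have hgu : ((g : GL ι F) : Matrix ι ι F) *ᵥ u = l • v := by rw [hg, hρu]
  have hne : Q (((g : GL ι F) : Matrix ι ι F) *ᵥ u) ≠ 0 := by
    rw [hgu, hQv']; exact hu
  rw [conj_reflG Q g u hu hne]
  apply Subtype.ext
  apply Units.ext
  rw [reflG_val, reflG_val, hgu, reflectionMatrix_smul Q l hl0]

open scoped commutatorElement in
theorem refl_mul_refl_mem_A (hA : LemmaA Q) (u v : ι → F) (hu : Q u ≠ 0) (hv : Q v ≠ 0) :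
    reflG Q u hu * reflG Q v hv ∈ Cfsg.Omega F ⇑Q := by
  obtain ⟨g, hg⟩ := exists_conj_A Q hA u v hu hv
  have : reflG Q u hu * reflG Q v hv = ⁅reflG Q u hu, g⁆ := by
    rw [commutatorElement_def, reflG_inv, ← hg]
    group
  rw [this]
  exact Subgroup.commutator_mem_commutator (Subgroup.mem_top _) (Subgroup.mem_top _)

theorem abel_cases_A (hQ : (polarBilin Q).Nondegenerate) (hA : LemmaA Q) (u : ι → F)
    (hu : Q u ≠ 0) (g : ↥(Cfsg.isometryGroup F ⇑Q)) :
    g ∈ Cfsg.Omega F ⇑Q ∨ reflG Q u hu * g ∈ Cfsg.Omega F ⇑Q := by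
  have hg : g ∈ Subgroup.closure (reflSet Q) := by
    rw [closure_reflSet_eq_top_A Q hQ hA]; exact Subgroup.mem_top _
  have hcomm : ∀ a b : ↥(Cfsg.isometryGroup F ⇑Q), a * b ∈ Cfsg.Omega F ⇑Q →
      b * a ∈ Cfsg.Omega F ⇑Q := by
    intro a b hab
    have : b * a = a⁻¹ * (a * b) * a := by group
    rw [this]
    have hn : (Cfsg.Omega F ⇑Q).Normal := inferInstance
    have := hn.conj_mem (a * b) hab a⁻¹
    rwa [inv_inv] at this
  induction hg using Subgroup.closure_induction with
  | mem x hx =>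
    obtain ⟨v, hv, hxv⟩ := hx
    right
    have : x = reflG Q v hv := by
      apply Subtype.ext
      apply Units.ext
      rw [hxv, reflG_val]
    rw [this]
    exact refl_mul_refl_mem_A Q hA u v hu hv
  | one => left; exact Subgroup.one_mem _
  | mul x y _ _ ihx ihy =>
    rcases ihx with hx | hx <;> rcases ihy with hy | hy
    · left; exact Subgroup.mul_mem _ hx hy
    · right
      have : reflG Q u hu * (x * y) = (reflG Q u hu * x * (reflG Q u hu)⁻¹) * (reflG Q u hu * y) := by
        group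
      rw [this]
      have hn : (Cfsg.Omega F ⇑Q).Normal := inferInstance
      exact Subgroup.mul_mem _ (hn.conj_mem x hx _) hy
    · right
      rw [← mul_assoc]
      exact Subgroup.mul_mem _ hx hy
    · left
      have h1 : (reflG Q u hu * x) * (y * reflG Q u hu) ∈ Cfsg.Omega F ⇑Q :=
        Subgroup.mul_mem _ hx (hcomm _ _ hy)
      have h2 := hcomm _ _ h1
      have e : y * reflG Q u hu * (reflG Q u hu * x) = y * x := by
        rw [mul_assoc, ← mul_assoc (reflG Q u hu), reflG_mul_self', one_mul]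
      rw [e] at h2
      exact hcomm _ _ h2
  | inv x _ ihx =>
    rcases ihx with hx | hx
    · left; exact Subgroup.inv_mem _ hx
    · right
      have h1 := Subgroup.inv_mem _ hx
      rw [_root_.mul_inv_rev, reflG_inv] at h1
      exact hcomm _ _ h1

theorem mem_Omega_iff_dkQ_A (hQ : (polarBilin Q).Nondegenerate) (hA : LemmaA Q)
    (g : ↥(Cfsg.isometryGroup F ⇑Q)) :
    g ∈ Cfsg.Omega F ⇑Q ↔ dkQ Q hQ g = 1 := by
  constructor
  · intro hg
    have := Abelianization.commutator_subset_ker (dkQ Q hQ) hg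
    rwa [MonoidHom.mem_ker] at this
  · intro hg
    by_cases hne : Nonempty ι
    · obtain ⟨u, hu⟩ := exists_Q_ne_zero' Q hQ
      rcases abel_cases_A Q hQ hA u hu g with h1 | h1
      · exact h1
      · exfalso
        have h3 := Abelianization.commutator_subset_ker (dkQ Q hQ) h1
        rw [MonoidHom.mem_ker, map_mul, hg, mul_one, dkQ_refl] at h3
        have h4 : (1 : F) = 0 := h3
        exact one_ne_zero h4
    · haveI : IsEmpty ι := not_nonempty_iff.mp hne
      have : g = 1 := by
        apply Subtype.ext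
        apply Units.ext
        exact Subsingleton.elim _ _
      rw [this]
      exact Subgroup.one_mem _

end matrix

section rank

variable {F : Type*} [Field F] [Fintype F] [CharP F 2] {ι : Type} [Fintype ι] [DecidableEq ι]
  (Q : QuadraticForm F (ι → F))

theorem mem_Omega_iff_even_rank_A (hQ : (polarBilin Q).Nondegenerate) (hA : LemmaA Q)
    (g : ↥(Cfsg.isometryGroup F ⇑Q)) :
    g ∈ Cfsg.Omega F ⇑Q ↔ Even (((g : GL ι F) : Matrix ι ι F) - 1).rank := by
  rw [mem_Omega_iff_dkQ_A Q hQ hA]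
  have h1 : dkQ Q hQ g = Multiplicative.ofAdd (dk (T (Classical.choose (exists_matrix Q))
    ((g : GL ι F) : Matrix ι ι F))) := rfl
  rw [h1, RankParity.dk_T_eq_rank Q hQ _ (Classical.choose_spec (exists_matrix Q)) g]
  have : (Multiplicative.ofAdd ((((((g : GL ι F) : Matrix ι ι F) - 1).rank : ℕ) : F)) = 1) ↔
      (((((g : GL ι F) : Matrix ι ι F) - 1).rank : ℕ) : F) = 0 := by
    constructor
    · intro h1; exact h1
    · intro h1; exact h1
  rw [this, CharP.cast_eq_zero_iff F 2, even_iff_two_dvd]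

end rank

end Cfsg.Agent.Lib.H13.Char2OmegaA
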