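import Cfsg.Agent.Lib.H13.OInvol
import Cfsg.Agent.S0287
import Cfsg.Agent.S0288

set_option autoImplicit false

namespace Cfsg.Agent.Lib.H13.OInvolStd

open Module Matrix QuadraticMap
open Cfsg.Agent.Lib.H13 Cfsg.Agent.Lib.H13.SpInvol Cfsg.Agent.Lib.H13.SpInvolCount
  Cfsg.Agent.Lib.H13.OInvol Cfsg.Agent.Lib.H13.PlusLevi

theorem single_indep {F : Type*} [Field F] {ι' κ : Type*} [Fintype ι'] [DecidableEq ι']
    (ψ : κ → ι') (hψ : Function.Injective ψ) :
    LinearIndependent F (fun i => (Pi.single (ψ i) 1 : ι' → F)) := by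
  have := (Pi.basisFun F ι').linearIndependent.comp ψ hψ
  convert this using 1
  funext i
  simp

section plus

variable {F : Type*} [Field F] [Finite F] [CharP F 2] (m : ℕ)

/-- the nonsingular vector `e_a + f_a` -/
def vP (a : Fin m) : K m → F := Pi.single (Sum.inl a) 1 + Pi.single (Sum.inr a) 1

/-- the singular vector `e_a` -/
def eP (a : Fin m) : K m → F := Pi.single (Sum.inl a) 1

theorem Q_vP (a : Fin m) : plusQF F m (vP m a) = 1 := by
  rw [plusQF_apply]
  unfold Cfsg.quadFormPlus vP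
  simp [Pi.single_apply]

theorem Q_eP (a : Fin m) : plusQF F m (eP m a) = 0 := by
  rw [plusQF_apply]
  unfold Cfsg.quadFormPlus eP
  simp [Pi.single_apply]

theorem polar_vP (a b : Fin m) : polar (⇑(plusQF F m)) (vP m a) (vP m b) = 0 := by
  rw [Cfsg.Agent.S0287.coe_plusQF, polar_quadFormPlus_formula]
  unfold vP
  simp only [Pi.add_apply, Pi.single_apply, Sum.inl.injEq, Sum.inr.injEq, reduceCtorEq, if_false,
    add_zero, zero_add]
  by_cases hab : a = b
  · subst hab
    simp only [mul_ite, mul_one, mul_zero, Finset.sum_add_distrib, Finset.sum_ite_eq',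
      Finset.mem_univ, if_true]
    exact Char2Gen.add_self_zero F (1 : F)
  · apply Finset.sum_eq_zero
    intro i _
    by_cases hia : i = a
    · subst hia
      simp [hab]
    · simp [hia]

theorem polar_eP (a b : Fin m) : polar (⇑(plusQF F m)) (eP m a) (eP m b) = 0 := by
  rw [Cfsg.Agent.S0287.coe_plusQF, polar_quadFormPlus_formula]
  unfold eP
  simp [Pi.single_apply]

theorem indep_vP {κ : Type*} (φ : κ → Fin m) (hφ : Function.Injective φ) :
    LinearIndependent F (fun i => vP (F := F) m (φ i)) := by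
  apply LinearIndependent.of_comp (LinearMap.funLeft F F (Sum.inl : Fin m → K m))
  have := single_indep (F := F) φ hφ
  convert this using 1
  funext i
  funext j
  simp [vP, LinearMap.funLeft, Pi.single_apply]

set_option quotPrecheck false in
local notation "OP" => ↥(Cfsg.isometryGroup F ⇑(plusQF F m))

theorem rep_id_plus (s : ℕ) (hs1 : 1 ≤ s) (hsm : s ≤ m) :
    ∃ T : OP, T * T = 1 ∧ (((T : GL (K m) F) : Matrix (K m) (K m) F) - 1).rank = s ∧
      ¬ ∀ v, polar (⇑(plusQF F m)) v (((T : GL (K m) F) : Matrix (K m) (K m) F) *ᵥ v) = 0 := by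
  have hnd := Cfsg.Agent.S0287.nondeg (F := F) m
  have hind := indep_vP (F := F) m (Fin.castLE hsm) (Fin.castLE_injective hsm)
  have hiso : ∀ i j : Fin s, polar (⇑(plusQF F m)) (vP (F := F) m (Fin.castLE hsm i))
      (vP m (Fin.castLE hsm j)) = 0 := fun i j => polar_vP m _ _
  obtain ⟨T, hT2, hTr, hnf⟩ := exists_of_isNF (plusQF F m) hnd (id : Fin s → Fin s)
    (fun _ => rfl) (fun i => vP (F := F) m (Fin.castLE hsm i)) hind hiso
    (Q_nf_id (plusQF F m) (fun i => Q_vP m _)
      (nfMap_isNF _ _ hind (fun i j => by rw [polarBilin_apply_apply]; exact hiso i j)))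
  refine ⟨T, hT2, by rw [hTr, Fintype.card_fin], ?_⟩
  have : Nonempty (Fin s) := ⟨⟨0, hs1⟩⟩
  obtain ⟨y, hy⟩ := hnf.not_alt_id hnd (polarBilin_alt _)
  intro h
  apply hy
  rw [polarBilin_apply_apply, Matrix.toLin'_apply]
  exact h y

theorem rep_swap_plus (r : ℕ) (h2r : 2 * r ≤ m) :
    ∃ T : OP, T * T = 1 ∧ (((T : GL (K m) F) : Matrix (K m) (K m) F) - 1).rank = 2 * r ∧
      ∀ v, polar (⇑(plusQF F m)) v (((T : GL (K m) F) : Matrix (K m) (K m) F) *ᵥ v) = 0 := by
  have hnd := Cfsg.Agent.S0287.nondeg (F := F) m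
  have hrr : r + r ≤ m := by omega
  have hind : LinearIndependent F (fun i : Fin r ⊕ Fin r =>
      eP (F := F) m (Fin.castLE hrr (finSumFinEquiv i))) :=
    single_indep (fun i : Fin r ⊕ Fin r => (Sum.inl (Fin.castLE hrr (finSumFinEquiv i)) : K m))
      (Sum.inl_injective.comp ((Fin.castLE_injective hrr).comp finSumFinEquiv.injective))
  have hiso : ∀ i j : Fin r ⊕ Fin r, polar (⇑(plusQF F m))
      (eP (F := F) m (Fin.castLE hrr (finSumFinEquiv i)))
      (eP m (Fin.castLE hrr (finSumFinEquiv j))) = 0 := fun i j => polar_eP m _ _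
  obtain ⟨T, hT2, hTr, hnf⟩ := exists_of_isNF (plusQF F m) hnd
    (Sum.swap : Fin r ⊕ Fin r → Fin r ⊕ Fin r) Sum.swap_swap
    (fun i => eP (F := F) m (Fin.castLE hrr (finSumFinEquiv i))) hind hiso
    (Q_nf_swap (plusQF F m) (fun i => Q_eP m _)
      (nfMap_isNF _ _ hind (fun i j => by rw [polarBilin_apply_apply]; exact hiso i j)))
  refine ⟨T, hT2, by rw [hTr, Fintype.card_sum, Fintype.card_fin]; ring, ?_⟩
  intro y
  have := hnf.alt_swap (polarBilin_alt _) y
  rw [polarBilin_apply_apply, Matrix.toLin'_apply] at this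
  exact this

/-- S2595 for `plusQF` -/
theorem card_involution_classes_plus :
    Nat.card {C : ConjClasses OP // ∃ g : OP, ConjClasses.mk g = C ∧ orderOf g = 2} =
      m + m / 2 := by
  have hnd := Cfsg.Agent.S0287.nondeg (F := F) m
  have hcard : Fintype.card (K m) = 2 * m := by
    rw [Fintype.card_sum, Fintype.card_fin]; ring
  apply card_involution_classes (plusQF F m) hnd m (m / 2)
  · intro t ht ht1
    have := (invariants_range (plusQF F m) hnd t ht ht1).2.1
    rw [hcard] at this
    omega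
  · intro t ht ht1 halt
    obtain ⟨-, h2, h3⟩ := invariants_range (plusQF F m) hnd t ht ht1
    obtain ⟨r, hr⟩ := (h3 halt).1
    rw [hcard] at h2
    omega
  · intro s hs1 hsm
    exact rep_id_plus m s hs1 hsm
  · intro r _ hr
    exact rep_swap_plus m r (by omega)

end plus

section minus

variable {F : Type*} [Field F] [Finite F] [CharP F 2] (k : ℕ) (c d : F)

set_option quotPrecheck false in
local notation "IM" => (Fin k ⊕ Fin k) ⊕ Fin 2

/-- nonsingular mutually orthogonal vectors of the minus form -/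
def vM : Fin k ⊕ Fin 1 → (IM → F)
  | .inl a => Pi.single (Sum.inl (Sum.inl a)) 1 + Pi.single (Sum.inl (Sum.inr a)) 1
  | .inr _ => Pi.single (Sum.inr 0) 1

/-- singular vectors -/
def eM (a : Fin k) : IM → F := Pi.single (Sum.inl (Sum.inl a)) 1

theorem Q_vM (x : Fin k ⊕ Fin 1) : minusQF F k c d (vM k x) = 1 := by
  rw [minusQF_apply]
  unfold Cfsg.quadFormMinus
  rcases x with a | a
  · simp [vM, Pi.single_apply]
  · simp [vM, Pi.single_apply]

theorem Q_eM (a : Fin k) : minusQF F k c d (eM k a) = 0 := by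
  rw [minusQF_apply]
  unfold Cfsg.quadFormMinus eM
  simp [Pi.single_apply]

theorem polar_vM (x y : Fin k ⊕ Fin 1) : polar (⇑(minusQF F k c d)) (vM k x) (vM k y) = 0 := by
  rw [Cfsg.Agent.S0288.coe_minusQF, polar_quadFormMinus_formula]
  have h2 : (2 : F) = 0 := CharTwo.two_eq_zero
  rcases x with a | a <;> rcases y with b | b
  · simp only [vM, Pi.add_apply, Pi.single_apply, Sum.inl.injEq, Sum.inr.injEq, reduceCtorEq,
      if_false, add_zero, zero_add, mul_zero]
    by_cases hab : a = b
    · subst hab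
      simp only [mul_ite, mul_one, mul_zero, Finset.sum_add_distrib, Finset.sum_ite_eq',
        Finset.mem_univ, if_true]
      exact Char2Gen.add_self_zero F (1 : F)
    · apply Finset.sum_eq_zero
      intro i _
      by_cases hia : i = a
      · subst hia
        simp [hab]
      · simp [hia]
  · simp [vM, Pi.single_apply]
  · simp [vM, Pi.single_apply]
  · simp [vM, Pi.single_apply, h2]

theorem polar_eM (a b : Fin k) : polar (⇑(minusQF F k c d)) (eM k a) (eM k b) = 0 := by
  rw [Cfsg.Agent.S0288.coe_minusQF, polar_quadFormMinus_formula]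
  unfold eM
  simp [Pi.single_apply]

theorem indep_vM {κ : Type*} (φ : κ → Fin k ⊕ Fin 1) (hφ : Function.Injective φ) :
    LinearIndependent F (fun i => vM (F := F) k (φ i)) := by
  apply LinearIndependent.of_comp (LinearMap.funLeft F F
    (Sum.elim (fun a => Sum.inl (Sum.inl a)) (fun _ => Sum.inr 0) : Fin k ⊕ Fin 1 → IM))
  have := single_indep (F := F) φ hφ
  convert this using 1
  funext i
  funext j
  rcases hi : φ i with a | a <;> rcases j with b | b
  · simp [vM, hi, LinearMap.funLeft, Pi.single_apply]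
  · simp [vM, hi, LinearMap.funLeft, Pi.single_apply]
  · simp [vM, hi, LinearMap.funLeft, Pi.single_apply]
  · simp [vM, hi, LinearMap.funLeft, Pi.single_apply]
    have : a = b := Subsingleton.elim _ _
    simp [this]

set_option quotPrecheck false in
local notation "OM" => ↥(Cfsg.isometryGroup F ⇑(minusQF F k c d))

variable (hcd : ∀ z₁ z₂ : F, z₁ ^ 2 + c * z₁ * z₂ + d * z₂ ^ 2 = 0 → z₁ = 0 ∧ z₂ = 0)

include hcd in
theorem rep_id_minus (s : ℕ) (hs1 : 1 ≤ s) (hsm : s ≤ k + 1) :
    ∃ T : OM, T * T = 1 ∧ (((T : GL IM F) : Matrix IM IM F) - 1).rank = s ∧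
      ¬ ∀ v, polar (⇑(minusQF F k c d)) v (((T : GL IM F) : Matrix IM IM F) *ᵥ v) = 0 := by
  have hnd := Cfsg.Agent.S0288.nondeg c d hcd k
  let φ : Fin s → Fin k ⊕ Fin 1 := fun i => finSumFinEquiv.symm (Fin.castLE hsm i)
  have hφ : Function.Injective φ := finSumFinEquiv.symm.injective.comp (Fin.castLE_injective hsm)
  have hind := indep_vM (F := F) k φ hφ
  have hiso : ∀ i j : Fin s, polar (⇑(minusQF F k c d)) (vM (F := F) k (φ i))
      (vM k (φ j)) = 0 := fun i j => polar_vM k c d _ _
  obtain ⟨T, hT2, hTr, hnf⟩ := exists_of_isNF (minusQF F k c d) hnd (id : Fin s → Fin s)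
    (fun _ => rfl) (fun i => vM (F := F) k (φ i)) hind hiso
    (Q_nf_id (minusQF F k c d) (fun i => Q_vM k c d _)
      (nfMap_isNF _ _ hind (fun i j => by rw [polarBilin_apply_apply]; exact hiso i j)))
  refine ⟨T, hT2, by rw [hTr, Fintype.card_fin], ?_⟩
  have : Nonempty (Fin s) := ⟨⟨0, hs1⟩⟩
  obtain ⟨y, hy⟩ := hnf.not_alt_id hnd (polarBilin_alt _)
  intro h
  apply hy
  rw [polarBilin_apply_apply, Matrix.toLin'_apply]
  exact h y

include hcd in
theorem rep_swap_minus (r : ℕ) (h2r : 2 * r ≤ k) :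
    ∃ T : OM, T * T = 1 ∧ (((T : GL IM F) : Matrix IM IM F) - 1).rank = 2 * r ∧
      ∀ v, polar (⇑(minusQF F k c d)) v (((T : GL IM F) : Matrix IM IM F) *ᵥ v) = 0 := by
  have hnd := Cfsg.Agent.S0288.nondeg c d hcd k
  have hrr : r + r ≤ k := by omega
  have hind : LinearIndependent F (fun i : Fin r ⊕ Fin r =>
      eM (F := F) k (Fin.castLE hrr (finSumFinEquiv i))) :=
    single_indep (fun i : Fin r ⊕ Fin r =>
      (Sum.inl (Sum.inl (Fin.castLE hrr (finSumFinEquiv i))) : IM))
      (Sum.inl_injective.comp (Sum.inl_injective.comp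
        ((Fin.castLE_injective hrr).comp finSumFinEquiv.injective)))
  have hiso : ∀ i j : Fin r ⊕ Fin r, polar (⇑(minusQF F k c d))
      (eM (F := F) k (Fin.castLE hrr (finSumFinEquiv i)))
      (eM k (Fin.castLE hrr (finSumFinEquiv j))) = 0 := fun i j => polar_eM k c d _ _
  obtain ⟨T, hT2, hTr, hnf⟩ := exists_of_isNF (minusQF F k c d) hnd
    (Sum.swap : Fin r ⊕ Fin r → Fin r ⊕ Fin r) Sum.swap_swap
    (fun i => eM (F := F) k (Fin.castLE hrr (finSumFinEquiv i))) hind hiso
    (Q_nf_swap (minusQF F k c d) (fun i => Q_eM k c d _)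
      (nfMap_isNF _ _ hind (fun i j => by rw [polarBilin_apply_apply]; exact hiso i j)))
  refine ⟨T, hT2, by rw [hTr, Fintype.card_sum, Fintype.card_fin]; ring, ?_⟩
  intro y
  have := hnf.alt_swap (polarBilin_alt _) y
  rw [polarBilin_apply_apply, Matrix.toLin'_apply] at this
  exact this

include hcd in
/-- S2596 for `minusQF` -/
theorem card_involution_classes_minus :
    Nat.card {C : ConjClasses OM // ∃ g : OM, ConjClasses.mk g = C ∧ orderOf g = 2} =
      (k + 1) + k / 2 := by
  have hnd := Cfsg.Agent.S0288.nondeg c d hcd k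
  have hcard : Fintype.card IM = 2 * k + 2 := by
    simp; ring
  apply card_involution_classes (minusQF F k c d) hnd (k + 1) (k / 2)
  · intro t ht ht1
    have := (invariants_range (minusQF F k c d) hnd t ht ht1).2.1
    rw [hcard] at this
    omega
  · intro t ht ht1 halt
    obtain ⟨-, -, h3⟩ := invariants_range (minusQF F k c d) hnd t ht ht1
    obtain ⟨⟨r, hr⟩, hts⟩ := h3 halt
    have h4 := InvolOmega.finrank_le_of_ts (minusQF F k c d) hnd (InvolOmega.Em k) _
      (InvolOmega.Em_ts k c d) (InvolOmega.Em_max k c d hcd) hts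
    have h5 := InvolOmega.finrank_Em_le (F := F) k
    have h6 : (((t : GL IM F) : Matrix IM IM F) - 1).rank =
        finrank F ↥(LinearMap.range (Matrix.mulVecLin (((t : GL IM F) : Matrix IM IM F) - 1))) := rfl
    omega
  · intro s hs1 hsm
    exact rep_id_minus k c d hcd s hs1 hsm
  · intro r _ hr
    exact rep_swap_minus k c d hcd r (by omega)

end minus

end Cfsg.Agent.Lib.H13.OInvolStd
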