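import Cfsg.Agent.Lib.H13.OmegaInvol
import Cfsg.Agent.Lib.H13.OInvolStd
import Cfsg.Agent.Lib.H13.Char2OmegaA

set_option autoImplicit false

namespace Cfsg.Agent.Lib.H13.OmegaInvolStd

open Module Matrix QuadraticMap
open Cfsg.Agent.Lib.H13 Cfsg.Agent.Lib.H13.SpInvol Cfsg.Agent.Lib.H13.SpInvolCount
  Cfsg.Agent.Lib.H13.OInvol Cfsg.Agent.Lib.H13.OInvolStd Cfsg.Agent.Lib.H13.PlusLevi
  Cfsg.Agent.Lib.H13.OmegaInvol

section plus

variable {F : Type*} [Field F] [Fintype F] [CharP F 2] (m : ℕ)

set_option quotPrecheck false in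
local notation "OP" => ↥(Cfsg.isometryGroup F ⇑(plusQF F m))

/-- S2597 for `plusQF` -/
theorem card_involution_classes_Omega_plus (hm : 1 ≤ m) (h : Fintype.card F ≠ 2 ∨ m ≠ 2) :
    Nat.card {C : ConjClasses ↥(Cfsg.Omega F ⇑(plusQF F m)) //
      ∃ g : ↥(Cfsg.Omega F ⇑(plusQF F m)), ConjClasses.mk g = C ∧ orderOf g = 2} =
      2 * (m / 2) + (if Even m then 1 else 0) := by
  have hnd := Cfsg.Agent.S0287.nondeg (F := F) m
  have hcard : Fintype.card (K m) = 2 * m := by
    rw [Fintype.card_sum, Fintype.card_fin]; ring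
  have hh : Nat.card F ≠ 2 ∨ Fintype.card (K m) ≠ 4 := by
    rw [Nat.card_eq_fintype_card, hcard]
    rcases h with h | h
    · exact Or.inl h
    · right; omega
  haveI : Nonempty (K m) := ⟨Sum.inl ⟨0, hm⟩⟩
  have key := card_involution_classes_Omega (plusQF F m) hnd hh hcard (m / 2) (m / 2)
    ?_ ?_ ?_ ?_ ?_
  · rw [key]
    by_cases he : Even m
    · rw [if_pos he, if_pos (by obtain ⟨r, hr⟩ := he; omega)]
      ring
    · rw [if_neg he, if_neg (by intro h2; exact he ⟨m / 2, by omega⟩)]
      ring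
  · intro t ht ht1
    have := (OInvol.invariants_range (plusQF F m) hnd t ht ht1).2.1
    rw [hcard] at this
    omega
  · intro t ht ht1 halt
    obtain ⟨-, h2, h3⟩ := OInvol.invariants_range (plusQF F m) hnd t ht ht1
    obtain ⟨r, hr⟩ := (h3 halt).1
    rw [hcard] at h2
    omega
  · intro r hr1 hr
    exact rep_id_plus m (2 * r) (by omega) (by omega)
  · intro r _ hr
    exact rep_swap_plus m r (by omega)
  · intro t c ht hrank halt hcomm
    have ht1 : t ≠ 1 := by
      intro h1
      rw [h1] at hrank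
      have : ((((1 : OP) : GL (K m) F) : Matrix (K m) (K m) F) - 1) = 0 := by
        show (1 : Matrix (K m) (K m) F) - 1 = 0
        exact sub_self _
      rw [this, Matrix.rank_zero] at hrank
      omega
    obtain ⟨-, -, h3⟩ := OInvol.invariants_range (plusQF F m) hnd t ht ht1
    have hts := (h3 halt).2
    obtain ⟨W, hWdef⟩ : ∃ W : Submodule F (K m → F), W = LinearMap.range
      (Matrix.toLin' (((t : GL (K m) F) : Matrix (K m) (K m) F) - 1)) := ⟨_, rfl⟩
    have hW : finrank F W = m := by
      rw [hWdef, Matrix.toLin'_apply']; exact hrank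
    have hW0 : ∀ w ∈ W, plusQF F m w = 0 := by
      intro w hw
      rw [hWdef, Matrix.toLin'_apply'] at hw
      exact hts w hw
    have hmap : W.map (Matrix.mulVecLin ((c : GL (K m) F) : Matrix (K m) (K m) F)) = W := by
      have := PlusSplit.range_conj (⇑(plusQF F m)) t t c (by rw [hcomm]; group)
      rw [← hWdef] at this
      exact this.symm
    rw [← PlusSplit.even_iff_mem_Omega_ts h W hW hW0 c, hmap, inf_idem, hW, Nat.sub_self]
    exact ⟨0, rfl⟩

end plus

section minus

variable {F : Type*} [Field F] [Fintype F] [CharP F 2] (k : ℕ) (c d : F)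

set_option quotPrecheck false in
local notation "IM" => (Fin k ⊕ Fin k) ⊕ Fin 2

set_option quotPrecheck false in
local notation "OM" => ↥(Cfsg.isometryGroup F ⇑(minusQF F k c d))

variable (hcd : ∀ z₁ z₂ : F, z₁ ^ 2 + c * z₁ * z₂ + d * z₂ ^ 2 = 0 → z₁ = 0 ∧ z₂ = 0)

include hcd in
theorem rank_le_of_alt (t : OM) (ht : t * t = 1) (ht1 : t ≠ 1)
    (halt : ∀ v, polar (⇑(minusQF F k c d)) v (((t : GL IM F) : Matrix IM IM F) *ᵥ v) = 0) :
    (((t : GL IM F) : Matrix IM IM F) - 1).rank ≤ k := by
  have hnd := Cfsg.Agent.S0288.nondeg c d hcd k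
  obtain ⟨-, -, h3⟩ := OInvol.invariants_range (minusQF F k c d) hnd t ht ht1
  obtain ⟨-, hts⟩ := h3 halt
  have h4 := InvolOmega.finrank_le_of_ts (minusQF F k c d) hnd (InvolOmega.Em k) _
    (InvolOmega.Em_ts k c d) (InvolOmega.Em_max k c d hcd) hts
  have h5 := InvolOmega.finrank_Em_le (F := F) k
  have h6 : (((t : GL IM F) : Matrix IM IM F) - 1).rank =
      finrank F ↥(LinearMap.range (Matrix.mulVecLin (((t : GL IM F) : Matrix IM IM F) - 1))) := rfl
  omega

include hcd in
/-- orthogonal singular vectors are proportional when the Witt index is one -/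
theorem proportional_of_singular (hk : k = 1) (a b : IM → F) (ha : minusQF F k c d a = 0)
    (hb : minusQF F k c d b = 0) (hab : polar (⇑(minusQF F k c d)) a b = 0) (ha0 : a ≠ 0) :
    ∃ l : F, b = l • a := by
  have hnd := Cfsg.Agent.S0288.nondeg c d hcd k
  obtain ⟨U, hUdef⟩ : ∃ U : Submodule F (IM → F), U = Submodule.span F {a, b} := ⟨_, rfl⟩
  have hts : ∀ x ∈ U, minusQF F k c d x = 0 := by
    intro x hx
    rw [hUdef, Submodule.mem_span_pair] at hx
    obtain ⟨α, β, rfl⟩ := hx
    rw [Char2Gen.Q_add', QuadraticMap.map_smul, QuadraticMap.map_smul, polar_smul_left,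
      polar_smul_right, ha, hb, hab]
    simp
  have h4 := InvolOmega.finrank_le_of_ts (minusQF F k c d) hnd (InvolOmega.Em k) U
    (InvolOmega.Em_ts k c d) (InvolOmega.Em_max k c d hcd) hts
  have h5 := InvolOmega.finrank_Em_le (F := F) k
  have h6 : finrank F U ≤ 1 := by omega
  obtain ⟨v₀, hv₀⟩ := finrank_le_one_iff.mp h6
  have haU : a ∈ U := by rw [hUdef]; exact Submodule.subset_span (by simp)
  have hbU : b ∈ U := by rw [hUdef]; exact Submodule.subset_span (by simp)
  obtain ⟨c₁, hc₁⟩ := hv₀ ⟨a, haU⟩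
  obtain ⟨c₂, hc₂⟩ := hv₀ ⟨b, hbU⟩
  have hc₁' : c₁ • (v₀ : IM → F) = a := congrArg Subtype.val hc₁
  have hc₂' : c₂ • (v₀ : IM → F) = b := congrArg Subtype.val hc₂
  have hc10 : c₁ ≠ 0 := by
    rintro rfl
    rw [zero_smul] at hc₁'
    exact ha0 hc₁'.symm
  refine ⟨c₂ * c₁⁻¹, ?_⟩
  rw [← hc₂', ← hc₁', smul_smul, mul_assoc, inv_mul_cancel₀ hc10, mul_one]

include hcd in
/-- Lemma A holds for the minus form in every dimension and over every finite field of
characteristic two -/
theorem lemmaA_minus : Char2OmegaA.LemmaA (minusQF F k c d) := by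
  have hnd := Cfsg.Agent.S0288.nondeg c d hcd k
  have hcard : Fintype.card IM = 2 * (k + 1) := by
    simp; ring
  by_cases h : Nat.card F ≠ 2 ∨ k ≠ 1
  · apply Char2OmegaA.lemmaA_of_card _ hnd
    rcases h with h | h
    · exact Or.inl h
    · right
      rw [Module.finrank_fintype_fun_eq_card, hcard]
      omega
  · push Not at h
    exact Char2OmegaA.lemmaA_of_witt_index_one _ h.1 hnd
      (proportional_of_singular k c d hcd h.2)

include hcd in
/-- S2598 for `minusQF` -/
theorem card_involution_classes_Omega_minus' :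
    Nat.card {C : ConjClasses ↥(Cfsg.Omega F ⇑(minusQF F k c d)) //
      ∃ g : ↥(Cfsg.Omega F ⇑(minusQF F k c d)), ConjClasses.mk g = C ∧ orderOf g = 2} =
      (k + 1) / 2 + k / 2 := by
  have hnd := Cfsg.Agent.S0288.nondeg c d hcd k
  have hA := lemmaA_minus k c d hcd
  have hcard : Fintype.card IM = 2 * (k + 1) := by
    simp; ring
  haveI : Nonempty IM := ⟨Sum.inr 0⟩
  have key := card_involution_classes_Omega_of (minusQF F k c d) hnd
    (fun T => Char2OmegaA.mem_Omega_iff_even_rank_A _ hnd hA T)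
    (fun u hu g => Char2OmegaA.abel_cases_A _ hnd hA u hu g)
    hcard ((k + 1) / 2) (k / 2) ?_ ?_ ?_ ?_ ?_
  · rw [key, if_neg (by omega), add_zero]
  · intro t ht ht1
    have := (OInvol.invariants_range (minusQF F k c d) hnd t ht ht1).2.1
    rw [hcard] at this
    omega
  · intro t ht ht1 halt
    obtain ⟨-, -, h3⟩ := OInvol.invariants_range (minusQF F k c d) hnd t ht ht1
    obtain ⟨r, hr⟩ := (h3 halt).1
    have := rank_le_of_alt k c d hcd t ht ht1 halt
    omega
  · intro r hr1 hr
    exact rep_id_minus k c d hcd (2 * r) (by omega) (by omega)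
  · intro r _ hr
    exact rep_swap_minus k c d hcd r (by omega)
  · intro t c' ht hrank halt hcomm
    exfalso
    have ht1 : t ≠ 1 := by
      intro h1
      rw [h1] at hrank
      have : ((((1 : OM) : GL IM F) : Matrix IM IM F) - 1) = 0 := by
        show (1 : Matrix IM IM F) - 1 = 0
        exact sub_self _
      rw [this, Matrix.rank_zero] at hrank
      omega
    have := rank_le_of_alt k c d hcd t ht ht1 halt
    omega

include hcd in
/-- S2598 for `minusQF`, outside the case `(q, m) = (2, 2)` -/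
theorem card_involution_classes_Omega_minus (h : Fintype.card F ≠ 2 ∨ k ≠ 1) :
    Nat.card {C : ConjClasses ↥(Cfsg.Omega F ⇑(minusQF F k c d)) //
      ∃ g : ↥(Cfsg.Omega F ⇑(minusQF F k c d)), ConjClasses.mk g = C ∧ orderOf g = 2} =
      (k + 1) / 2 + k / 2 := by
  have hnd := Cfsg.Agent.S0288.nondeg c d hcd k
  have hcard : Fintype.card IM = 2 * (k + 1) := by
    simp; ring
  have hh : Nat.card F ≠ 2 ∨ Fintype.card IM ≠ 4 := by
    rw [Nat.card_eq_fintype_card, hcard]
    rcases h with h | h
    · exact Or.inl h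
    · right; omega
  haveI : Nonempty IM := ⟨Sum.inr 0⟩
  have key := card_involution_classes_Omega (minusQF F k c d) hnd hh hcard ((k + 1) / 2) (k / 2)
    ?_ ?_ ?_ ?_ ?_
  · rw [key, if_neg (by omega), add_zero]
  · intro t ht ht1
    have := (OInvol.invariants_range (minusQF F k c d) hnd t ht ht1).2.1
    rw [hcard] at this
    omega
  · intro t ht ht1 halt
    obtain ⟨-, -, h3⟩ := OInvol.invariants_range (minusQF F k c d) hnd t ht ht1
    obtain ⟨r, hr⟩ := (h3 halt).1
    have := rank_le_of_alt k c d hcd t ht ht1 halt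
    omega
  · intro r hr1 hr
    exact rep_id_minus k c d hcd (2 * r) (by omega) (by omega)
  · intro r _ hr
    exact rep_swap_minus k c d hcd r (by omega)
  · intro t c' ht hrank halt hcomm
    exfalso
    have ht1 : t ≠ 1 := by
      intro h1
      rw [h1] at hrank
      have : ((((1 : OM) : GL IM F) : Matrix IM IM F) - 1) = 0 := by
        show (1 : Matrix IM IM F) - 1 = 0
        exact sub_self _
      rw [this, Matrix.rank_zero] at hrank
      omega
    have := rank_le_of_alt k c d hcd t ht ht1 halt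
    omega

end minus

end Cfsg.Agent.Lib.H13.OmegaInvolStd
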