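import Cfsg.Agent.Lib.H13.Singer
import Cfsg.Agent.Lib.H13.FixNonsing
import Cfsg.Agent.Lib.H13.TraceForm
import Cfsg.Agent.Lib.H13.MinusClass
import Cfsg.Agent.Lib.H13.OmegaInvol
import Cfsg.Agent.Lib.H13.OmegaInvolStd
import Cfsg.Agent.S0288
import Cfsg.Agent.S0289
import Cfsg.Agent.S0290
import Cfsg.Prelude.Def_GeometricClasses

set_option autoImplicit false

namespace Cfsg.Agent.Lib.H13.MinusFix

open Module Matrix QuadraticMap
open scoped MatrixGroups
open Cfsg.Agent.Lib.H13 Cfsg.Agent.Lib.H13.OInvol Cfsg.Agent.Lib.H13.MinusClass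
  Cfsg.Agent.Lib.H13.TraceForm

/-- arithmetic: the number of nonsingular points of the minus form -/
theorem arith_minus (q k r j N : ℕ) (hq : q = 2 ^ j) (hj : 1 ≤ j) (hr : r.Prime) (hr2 : r ≠ 2)
    (hX : q ^ (2 * (k + 1)) - (q ^ (2 * (k + 1) - 1) + q ^ k - q ^ (k + 1)) = (q - 1) * N)
    (h : r ∣ N) : r ∣ q ^ (k + 1) + 1 := by
  have hq2 : 2 ≤ q := by
    rw [hq]
    calc 2 = 2 ^ 1 := rfl
      _ ≤ 2 ^ j := Nat.pow_le_pow_right (by omega) hj
  obtain ⟨s, rfl⟩ : ∃ s, q = s + 1 := ⟨q - 1, by omega⟩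
  set B := (s + 1) ^ k with hB
  set C := (s + 1) ^ (k + 1) with hC
  have hCB : C = (s + 1) * B := by rw [hC, hB, pow_succ, mul_comm]
  have h1 : (s + 1) ^ (2 * (k + 1)) = C * C := by rw [two_mul, pow_add]
  have h2 : (s + 1) ^ (2 * (k + 1) - 1) = C * B := by
    have : 2 * (k + 1) - 1 = (k + 1) + k := by omega
    rw [this, pow_add]
  have hBC : B ≤ C := by rw [hCB]; nlinarith
  have hB1 : 1 ≤ B := Nat.one_le_pow _ _ (by omega)
  have hCle : C ≤ C * B + B := by
    calc C = C * 1 := (mul_one C).symm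
      _ ≤ C * B := Nat.mul_le_mul_left C hB1
      _ ≤ C * B + B := Nat.le_add_right _ _
  have h4 : C * C - (C * B + B - C) = s * (B * (C + 1)) := by
    have e1 : C * C = s * (B * (C + 1)) + (C * B + B - C) := by
      have : C * B + B - C + C = C * B + B := Nat.sub_add_cancel hCle
      have h5 : C * C + C = s * (B * (C + 1)) + (C * B + B) := by
        rw [hCB]; ring
      omega
    omega
  rw [h1, h2, h4, Nat.add_sub_cancel] at hX
  have hN : N = B * (C + 1) := by
    have hs : 0 < s := by omega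
    exact (Nat.eq_of_mul_eq_mul_left hs hX).symm
  rw [hN] at h
  rcases (Nat.Prime.dvd_mul hr).1 h with h6 | h6
  · exfalso
    rw [hB, hq] at h6
    have h7 := hr.dvd_of_dvd_pow h6
    have h8 := hr.dvd_of_dvd_pow h7
    exact hr2 ((Nat.prime_dvd_prime_iff_eq hr Nat.prime_two).1 h8)
  · exact h6

/-- arithmetic: an odd prime dividing `q ^ d + 1` does not divide the number of nonzero singular
vectors of the plus form -/
theorem arith_plus (q k r : ℕ) (hq : 1 ≤ q) (hr : r.Prime) (hr2 : r ≠ 2)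
    (h1 : r ∣ q ^ (k + 1) + 1)
    (h2 : r ∣ q ^ (2 * (k + 1) - 1) + q ^ (k + 1) - q ^ (k + 1 - 1) - 1) : False := by
  obtain ⟨s, rfl⟩ : ∃ s, q = s + 1 := ⟨q - 1, by omega⟩
  set B := (s + 1) ^ k with hB
  set C := (s + 1) ^ (k + 1) with hC
  have hCB : C = (s + 1) * B := by rw [hC, hB, pow_succ, mul_comm]
  have hB1 : 1 ≤ B := Nat.one_le_pow _ _ (by omega)
  have hC1 : 1 ≤ C := Nat.one_le_pow _ _ (by omega)
  have h3 : (s + 1) ^ (2 * (k + 1) - 1) = C * B := by
    have : 2 * (k + 1) - 1 = (k + 1) + k := by omega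
    rw [this, pow_add]
  have h4 : C * B + C - B - 1 = (C - 1) * (B + 1) := by
    obtain ⟨c, hc⟩ : ∃ c, C = c + 1 := ⟨C - 1, by omega⟩
    rw [hc, Nat.add_sub_cancel]
    have : (c + 1) * B + (c + 1) = c * (B + 1) + B + 1 := by ring
    omega
  rw [Nat.add_sub_cancel, ← hB, h3, h4] at h2
  have hcase : r ∣ C - 1 → False := by
    intro h5
    have h6 : r ∣ (C + 1) - (C - 1) := Nat.dvd_sub h1 h5
    have : (C + 1) - (C - 1) = 2 := by omega
    rw [this] at h6
    exact hr2 ((Nat.prime_dvd_prime_iff_eq hr Nat.prime_two).1 h6)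
  rcases (Nat.Prime.dvd_mul hr).1 h2 with h5 | h5
  · exact hcase h5
  · apply hcase
    have h6 : r ∣ (s + 1) * (B + 1) := Dvd.dvd.mul_left h5 _
    have h7 : (s + 1) * (B + 1) = (C + 1) + s := by rw [hCB]; ring
    rw [h7] at h6
    have h8 : r ∣ s := (Nat.dvd_add_right h1).1 h6
    have h9 := Nat.sub_dvd_pow_sub_pow (s + 1) 1 (k + 1)
    rw [one_pow, Nat.add_sub_cancel] at h9
    exact h8.trans h9

section

variable {F : Type*} [Field F] [Fintype F] [CharP F 2]

theorem card_singular_plus (d : ℕ) (hd : 1 ≤ d) :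
    Nat.card {v : Fin d ⊕ Fin d → F // v ≠ 0 ∧ Cfsg.quadFormPlus d F v = 0} =
      Fintype.card F ^ (2 * d - 1) + Fintype.card F ^ d - Fintype.card F ^ (d - 1) - 1 := by
  classical
  have hZ := Cfsg.Agent.S0289.result (F := F) rfl d hd
  rw [← hZ]
  have h0 : Cfsg.quadFormPlus d F 0 = 0 := by
    unfold Cfsg.quadFormPlus
    simp
  have e : {v : Fin d ⊕ Fin d → F // v ≠ 0 ∧ Cfsg.quadFormPlus d F v = 0} ≃
      {w : {v : Fin d ⊕ Fin d → F // Cfsg.quadFormPlus d F v = 0} // w ≠ ⟨0, h0⟩} :=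
    ⟨fun v => ⟨⟨v.1, v.2.2⟩, fun h => v.2.1 (congrArg Subtype.val h)⟩,
      fun w => ⟨w.1.1, fun h => w.2 (Subtype.ext h), w.1.2⟩,
      fun v => rfl, fun w => rfl⟩
  rw [Nat.card_congr e, Nat.card_eq_fintype_card, Nat.card_eq_fintype_card,
    Fintype.card_subtype_compl, Fintype.card_subtype_eq]

/-- existence of an irreducible Artin–Schreier polynomial -/
theorem exists_irred (K : Type*) [Field K] [Finite K] [CharP K 2] :
    ∃ ζ : K, ∀ t : K, t ^ 2 + t + ζ ≠ 0 := by
  by_contra h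
  push Not at h
  have h2 : (2 : K) = 0 := CharTwo.two_eq_zero
  have htop : (asHom K).range = ⊤ := by
    rw [eq_top_iff]
    intro z _
    obtain ⟨t, ht⟩ := h z
    exact ⟨t, by rw [asHom_apply]; linear_combination ht - z * h2⟩
  have h3 := index_range_asHom (F := K)
  rw [htop, AddSubgroup.index_top] at h3
  omega

theorem aniso_of_irred {K : Type*} [Field K] (ζ : K) (hζ : ∀ t : K, t ^ 2 + t + ζ ≠ 0) :
    ∀ z₁ z₂ : K, z₁ ^ 2 + 1 * z₁ * z₂ + ζ * z₂ ^ 2 = 0 → z₁ = 0 ∧ z₂ = 0 := by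
  intro z₁ z₂ h
  by_cases hz : z₂ = 0
  · subst hz
    have : z₁ ^ 2 = 0 := by linear_combination h
    exact ⟨pow_eq_zero_iff (two_ne_zero) |>.1 this, rfl⟩
  · exfalso
    apply hζ (z₁ / z₂)
    field_simp
    linear_combination h

/-- an isometry of the minus form of odd prime order `r ∣ q ^ d + 1` without nonzero fixed
vectors -/
theorem exists_fpf_minus (k : ℕ) (a b : F)
    (hab : ∀ z₁ z₂ : F, z₁ ^ 2 + a * z₁ * z₂ + b * z₂ ^ 2 = 0 → z₁ = 0 ∧ z₂ = 0)
    (r : ℕ) [Fact r.Prime] (hr2 : r ≠ 2) (hr : r ∣ Fintype.card F ^ (k + 1) + 1) :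
    ∃ x : ↥(Cfsg.isometryGroup F ⇑(minusQF F k a b)), x ^ r = 1 ∧
      ∀ v : IM k → F, ((x : GL (IM k) F) : Matrix (IM k) (IM k) F) *ᵥ v = v → v = 0 := by
  classical
  obtain ⟨K, _, _, _, hK⟩ := Singer.exists_ext F 2 (k + 1) (by omega)
  haveI : Fintype K := Fintype.ofFinite K
  haveI : CharP K 2 := charP_of_injective_algebraMap (algebraMap F K).injective 2
  haveI : Module.Finite F K := Module.Finite.of_finite
  have hcardK : Fintype.card K = Fintype.card F ^ (k + 1) := by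
    rw [← Nat.card_eq_fintype_card, Module.natCard_eq_pow_finrank (K := F) (V := K), hK,
      Nat.card_eq_fintype_card]
  obtain ⟨ζ, hζ⟩ := exists_irred K
  have hab' := aniso_of_irred ζ hζ
  have hord := Cfsg.Agent.S0288.main_k (F := K) 1 ζ hab' 0
  rw [← Cfsg.Agent.S0288.coe_minusQF] at hord
  simp only [zero_add, mul_zero, pow_zero, mul_one, pow_one, Finset.range_zero,
    Finset.prod_empty] at hord
  have hdvd : r ∣ Nat.card ↥(Cfsg.isometryGroup K ⇑(minusQF K 0 1 ζ)) := by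
    rw [hord, hcardK]
    exact Dvd.dvd.mul_left hr 2
  obtain ⟨y, hy⟩ := exists_prime_orderOf_dvd_card' r hdvd
  have hyr : y ^ r = 1 := by rw [← hy]; exact pow_orderOf_eq_one y
  have hy1 : y ≠ 1 := by
    rintro rfl
    rw [orderOf_one] at hy
    exact (Fact.out : r.Prime).one_lt.ne hy
  have hnd := Cfsg.Agent.S0288.nondeg (F := K) 1 ζ hab' 0
  obtain ⟨j, hj⟩ : ∃ j, r = 2 * j + 1 := by
    rcases (Fact.out : r.Prime).eq_two_or_odd' with h | h
    · exact absurd h hr2
    · obtain ⟨j, hj⟩ := h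
      exact ⟨j, hj⟩
  have hcardI : Fintype.card (IM 0) = 2 := by
    simp [Fintype.card_sum]
  have hnofix : ∀ v : IM 0 → K,
      ((y : GL (IM 0) K) : Matrix (IM 0) (IM 0) K) *ᵥ v = v → v = 0 := by
    have h1 := no_fixed_of_odd (minusQF K 0 1 ζ) hnd
      (by rw [Module.finrank_fintype_fun_eq_card, hcardI])
      (Matrix.toLin' ((y : GL (IM 0) K) : Matrix (IM 0) (IM 0) K))
      (fun x => by rw [Matrix.toLin'_apply]; exact iso_apply (minusQF K 0 1 ζ) y x) j
      (by
        intro v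
        have h2 := Singer.pow_mulVec (y : GL (IM 0) K) r v
        rw [← SubmonoidClass.coe_pow, hyr] at h2
        rw [← hj]
        have h3 : (⇑(Matrix.toLin' ((y : GL (IM 0) K) : Matrix (IM 0) (IM 0) K))) =
            fun u => ((y : GL (IM 0) K) : Matrix (IM 0) (IM 0) K) *ᵥ u := by
          funext u
          rw [Matrix.toLin'_apply]
        rw [h3, ← h2]
        simp)
      (by
        by_contra hall
        push Not at hall
        apply hy1
        apply Subtype.ext
        apply Singer.gl_ext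
        intro v
        have := hall v
        rw [Matrix.toLin'_apply] at this
        rw [this]
        simp)
    intro v hv
    exact h1 v (by rw [Matrix.toLin'_apply]; exact hv)
  let ρ : ↥(Cfsg.isometryGroup K ⇑(minusQF K 0 1 ζ)) →* Module.End F (IM 0 → K) :=
    { toFun := fun g =>
        (Matrix.toLin' ((g : GL (IM 0) K) : Matrix (IM 0) (IM 0) K)).restrictScalars F
      map_one' := by
        apply LinearMap.ext
        intro v
        simp
      map_mul' := fun g h => by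
        apply LinearMap.ext
        intro v
        simp [Matrix.toLin'_mul] }
  have hρ : ∀ g v, ρ g v = ((g : GL (IM 0) K) : Matrix (IM 0) (IM 0) K) *ᵥ v := fun g v => by
    show Matrix.toLin' ((g : GL (IM 0) K) : Matrix (IM 0) (IM 0) K) v = _
    rw [Matrix.toLin'_apply]
  obtain ⟨Q', hQ'def⟩ : ∃ Q' : QuadraticForm F (IM 0 → K),
    Q' = trQF (F := F) (minusQF K 0 1 ζ) := ⟨_, rfl⟩
  have hQ'nd : (polarBilin Q').Nondegenerate := by
    rw [hQ'def]; exact nondeg_trQF _ hnd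
  have hpres : ∀ g v, Q' (ρ g v) = Q' v := by
    intro g v
    rw [hQ'def, trQF_apply, trQF_apply, hρ, iso_apply (minusQF K 0 1 ζ) g v]
  have hdim : finrank F (IM 0 → K) = 2 * (k + 1) := by
    rw [← Module.finrank_mul_finrank F K (IM 0 → K), hK, Module.finrank_fintype_fun_eq_card,
      hcardI, mul_comm]
  have hfix : ∀ v, ρ y v = v → v = 0 := by
    intro v hv
    rw [hρ] at hv
    exact hnofix v hv
  rcases classify Q' hQ'nd (d := k + 1) (by omega) hdim with ⟨Φ, hΦ⟩ | ⟨ζ₂, hζ₂, Φ, hΦ⟩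
  · exfalso
    have h1 := dvd_card_singular ρ Q' hpres y r hyr hfix
    have e : {v : IM 0 → K // v ≠ 0 ∧ Q' v = 0} ≃
        {w : Fin (k + 1) ⊕ Fin (k + 1) → F // w ≠ 0 ∧ Cfsg.quadFormPlus (k + 1) F w = 0} :=
      Φ.toEquiv.subtypeEquiv (fun v => by
        rw [hΦ v]
        simp)
    rw [Nat.card_congr e, card_singular_plus (k + 1) (by omega)] at h1
    exact arith_plus (Fintype.card F) k r Fintype.card_pos Fact.out hr2 hr h1
  · obtain ⟨φ, hφ⟩ := minus_equiv k a b ζ₂ hab hζ₂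
    have hb : ∀ v, Q' v = Cfsg.quadFormMinus k F a b ((Φ.trans φ.symm) v) := by
      intro v
      rw [← hφ, LinearEquiv.trans_apply, LinearEquiv.apply_symm_apply]
      exact hΦ v
    have hb' : ∀ v, Q' v = (⇑(minusQF F k a b)) ((Φ.trans φ.symm) v) := by
      intro v
      rw [Cfsg.Agent.S0288.coe_minusQF]
      exact hb v
    obtain ⟨ψ, hψ⟩ := exists_hom_isometryGroup (Φ.trans φ.symm) (⇑(minusQF F k a b))
      (⇑Q') hb' ρ hpres
    refine ⟨ψ y, by rw [← map_pow, hyr, map_one], ?_⟩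
    intro w hw
    obtain ⟨v, rfl⟩ := (Φ.trans φ.symm).surjective w
    have h1 := hψ y v
    rw [hw] at h1
    have h2 := (Φ.trans φ.symm).injective h1
    rw [hfix v h2.symm, map_zero]

theorem scalar_eq_one_minus (k : ℕ) (a b : F) (g : ↥(Cfsg.isometryGroup F ⇑(minusQF F k a b)))
    (z : F) (hz : ((g : GL (IM k) F) : Matrix (IM k) (IM k) F) = z • (1 : Matrix (IM k) (IM k) F)) :
    z = 1 := by
  have h1 := iso_apply (minusQF F k a b) g (OInvolStd.vM k (Sum.inr 0))
  rw [hz, Matrix.smul_mulVec, Matrix.one_mulVec, QuadraticMap.map_smul, OInvolStd.Q_vM, smul_eq_mul,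
    mul_one] at h1
  have h3 : (z + 1) * (z + 1) = 0 := by
    have : (z + 1) * (z + 1) = z * z + 1 + (z + z) := by ring
    rw [this, h1, Char2Gen.add_self_zero F z, Char2Gen.add_self_zero F 1, add_zero]
  have h4 : z + 1 = 0 := by
    rcases mul_eq_zero.1 h3 with h | h <;> exact h
  have : z = z + (1 + 1) := by rw [Char2Gen.add_self_zero F 1, add_zero]
  rw [this, ← add_assoc, h4, zero_add]

theorem card_nonsing_minus (k : ℕ) (a b : F)
    (hab : ∀ z₁ z₂ : F, z₁ ^ 2 + a * z₁ * z₂ + b * z₂ ^ 2 = 0 → z₁ = 0 ∧ z₂ = 0) :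
    Nat.card {v : IM k → F // (⇑(minusQF F k a b)) v ≠ 0} = Fintype.card F ^ (2 * (k + 1)) -
      (Fintype.card F ^ (2 * (k + 1) - 1) + Fintype.card F ^ k - Fintype.card F ^ (k + 1)) := by
  classical
  have hZ : Nat.card {v : IM k → F // Cfsg.quadFormMinus k F a b v = 0} =
      Fintype.card F ^ (2 * (k + 1) - 1) + Fintype.card F ^ k - Fintype.card F ^ (k + 1) :=
    Cfsg.Agent.S0290.result (F := F) rfl (k + 1) (by omega) a b hab
  rw [← Cfsg.Agent.S0288.coe_minusQF] at hZ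
  rw [← hZ, Nat.card_eq_fintype_card, Nat.card_eq_fintype_card, Fintype.card_subtype_compl,
    Fintype.card_fun]
  congr 2
  simp [Fintype.card_sum]
  ring

theorem main (k : ℕ) (hk : 3 ≤ k) (a b : F)
    (hab : ∀ z₁ z₂ : F, z₁ ^ 2 + a * z₁ * z₂ + b * z₂ ^ 2 = 0 → z₁ = 0 ∧ z₂ = 0)
    (r : ℕ) [Fact r.Prime]
    (hrΩ : r ∣ Nat.card {W : Submodule F (IM k → F) //
      finrank F ↥W = 1 ∧ ∃ v ∈ W, (⇑(minusQF F k a b)) v ≠ 0}) :
    (∀ x : GL (IM k) F, x ∈ Cfsg.Geo.omegaGL (⇑(minusQF F k a b)) →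
      (∃ z : F, ((x ^ r : GL (IM k) F) : Matrix (IM k) (IM k) F) =
        z • (1 : Matrix (IM k) (IM k) F)) →
      (∀ z : F, (x : Matrix (IM k) (IM k) F) ≠ z • (1 : Matrix (IM k) (IM k) F)) →
      ∃ W : Submodule F (IM k → F), (finrank F ↥W = 1 ∧ ∃ v ∈ W, (⇑(minusQF F k a b)) v ≠ 0) ∧
        W.map (Matrix.toLin' (x : Matrix (IM k) (IM k) F)) ≤ W) ↔ r = 2 := by
  have hnd := Cfsg.Agent.S0288.nondeg (F := F) a b hab k
  have hcardK : Fintype.card (IM k) = 2 * (k + 1) := by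
    simp [Fintype.card_sum]
    ring
  have hh : Nat.card F ≠ 2 ∨ Fintype.card (IM k) ≠ 4 := Or.inr (by rw [hcardK]; omega)
  constructor
  · intro H
    by_contra hr2
    have hcount := FixNonsing.card_nonsingular (minusQF F k a b)
    rw [card_nonsing_minus k a b hab] at hcount
    obtain ⟨j, hj⟩ := FiniteField.card F 2
    have hdiv := arith_minus (Fintype.card F) k r j _ hj.2 j.2 Fact.out hr2 hcount hrΩ
    obtain ⟨x, hxr, hx⟩ := exists_fpf_minus k a b hab r hr2 hdiv
    have hinj : Function.Injective (Matrix.mulVecLin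
        (((x : GL (IM k) F) : Matrix (IM k) (IM k) F) - 1)) := by
      rw [← LinearMap.ker_eq_bot, LinearMap.ker_eq_bot']
      intro v hv
      apply hx
      rw [Matrix.mulVecLin_apply, Matrix.sub_mulVec, Matrix.one_mulVec, sub_eq_zero] at hv
      exact hv
    have hrank : (((x : GL (IM k) F) : Matrix (IM k) (IM k) F) - 1).rank = 2 * (k + 1) := by
      have h1 := LinearMap.finrank_range_of_inj hinj
      rw [Module.finrank_fintype_fun_eq_card, hcardK] at h1
      exact h1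
    have hmem : x ∈ Cfsg.Omega F ⇑(minusQF F k a b) := by
      rw [RankParity.mem_Omega_iff_even_rank (minusQF F k a b) hnd hh x, hrank]
      exact even_two_mul _
    obtain ⟨W, ⟨hW1, v, hvW, hQv⟩, hmap⟩ := H (x : GL (IM k) F) ⟨x, hmem, rfl⟩
      ⟨1, by rw [← SubmonoidClass.coe_pow, hxr]; simp⟩
      (by
        intro z hz
        have hz1 := scalar_eq_one_minus k a b x z hz
        rw [hz1, one_smul] at hz
        have h0 := hx (Pi.single (Sum.inr 0) 1) (by rw [hz, Matrix.one_mulVec])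
        have := congrFun h0 (Sum.inr 0)
        simp at this)
    have hfix := FixNonsing.fixes_vector_of_fixes_point (minusQF F k a b)
      (Matrix.toLin' ((x : GL (IM k) F) : Matrix (IM k) (IM k) F))
      (fun y => by rw [Matrix.toLin'_apply]; exact iso_apply (minusQF F k a b) x y)
      W hW1 v hvW hQv hmap
    rw [Matrix.toLin'_apply] at hfix
    apply hQv
    rw [hx v hfix, map_zero]
  · rintro rfl x ⟨g, hg, rfl⟩ ⟨z, hz⟩ hns
    have hz' : (((g ^ 2 : ↥(Cfsg.isometryGroup F ⇑(minusQF F k a b))) : GL (IM k) F) :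
        Matrix (IM k) (IM k) F) = z • (1 : Matrix (IM k) (IM k) F) := hz
    have hz1 := scalar_eq_one_minus k a b (g ^ 2) z hz'
    rw [hz1, one_smul] at hz'
    have hgg : g * g = 1 := by
      rw [← pow_two]
      apply Subtype.ext
      apply Units.ext
      exact hz'
    have hg1 : g ≠ 1 := by
      rintro rfl
      exact hns 1 (by rw [one_smul]; rfl)
    obtain ⟨v, hv, hQv⟩ := OmegaInvol.exists_fixed_nonsingular (minusQF F k a b) hnd hcardK g hgg (by
      rintro ⟨h1, h2⟩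
      have := OmegaInvolStd.rank_le_of_alt k a b hab g hgg hg1 h2
      omega)
    exact FixNonsing.point_of_vector (minusQF F k a b) _ v hQv (by rw [Matrix.toLin'_apply]; exact hv)

end

end Cfsg.Agent.Lib.H13.MinusFix
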