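import Cfsg.Agent.Lib.H13.HypPairs
import Cfsg.Agent.Lib.H2.GLComm
import Cfsg.Agent.S0287

set_option autoImplicit false

namespace Cfsg.Agent.Lib.H13.PlusLevi

open Matrix
open scoped MatrixGroups commutatorElement
open Cfsg.Agent.Lib.H4 Cfsg.Agent.Lib.H11.IsoReindex Cfsg.Agent.Lib.H13.OmegaCrit
  Cfsg.Agent.Lib.H13.HypPairs Cfsg.Agent.Lib.H13

variable {F : Type*} [Field F] {m : ℕ}

abbrev K (m : ℕ) : Type := Fin m ⊕ Fin m

theorem quadFormPlus_eq_dot (x : K m → F) :
    Cfsg.quadFormPlus m F x = (x ∘ Sum.inl) ⬝ᵥ (x ∘ Sum.inr) := rfl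

/-- the Levi matrix `diag(A, A⁻ᵀ)` -/
def leviM (A : GL (Fin m) F) : Matrix (K m) (K m) F :=
  fromBlocks (A : Matrix (Fin m) (Fin m) F) 0 0 ((A⁻¹ : GL (Fin m) F) : Matrix (Fin m) (Fin m) F)ᵀ

theorem leviM_mul (A B : GL (Fin m) F) : leviM (A * B) = leviM A * leviM B := by
  unfold leviM
  rw [fromBlocks_multiply]
  simp [Matrix.transpose_mul]

theorem leviM_one : leviM (1 : GL (Fin m) F) = 1 := by
  unfold leviM
  simp [fromBlocks_one]

theorem leviM_isometry (A : GL (Fin m) F) (x : K m → F) :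
    Cfsg.quadFormPlus m F (leviM A *ᵥ x) = Cfsg.quadFormPlus m F x := by
  rw [quadFormPlus_eq_dot, quadFormPlus_eq_dot, leviM, fromBlocks_mulVec]
  simp only [Matrix.zero_mulVec, add_zero, zero_add]
  have h1 : (Sum.elim ((A : Matrix (Fin m) (Fin m) F) *ᵥ x ∘ Sum.inl)
      (((A⁻¹ : GL (Fin m) F) : Matrix (Fin m) (Fin m) F)ᵀ *ᵥ x ∘ Sum.inr)) ∘ Sum.inl =
      (A : Matrix (Fin m) (Fin m) F) *ᵥ x ∘ Sum.inl := rfl
  have h2 : (Sum.elim ((A : Matrix (Fin m) (Fin m) F) *ᵥ x ∘ Sum.inl)
      (((A⁻¹ : GL (Fin m) F) : Matrix (Fin m) (Fin m) F)ᵀ *ᵥ x ∘ Sum.inr)) ∘ Sum.inr =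
      ((A⁻¹ : GL (Fin m) F) : Matrix (Fin m) (Fin m) F)ᵀ *ᵥ x ∘ Sum.inr := rfl
  rw [h1, h2, dotProduct_mulVec, vecMul_transpose, Matrix.mulVec_mulVec]
  have : ((A⁻¹ : GL (Fin m) F) : Matrix (Fin m) (Fin m) F) * (A : Matrix (Fin m) (Fin m) F) = 1 := by
    rw [← Units.val_mul, inv_mul_cancel, Units.val_one]
  rw [this, Matrix.one_mulVec]

/-- the Levi embedding `GL_m → O⁺_{2m}` -/
noncomputable def levi : GL (Fin m) F →* ↥(Cfsg.isometryGroup F ⇑(plusQF F m)) where
  toFun A := ⟨⟨leviM A, leviM A⁻¹, by rw [← leviM_mul, mul_inv_cancel, leviM_one],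
    by rw [← leviM_mul, inv_mul_cancel, leviM_one]⟩,
    (mem_iso_iff' _ _).mpr (fun x => by
      rw [plusQF_apply, plusQF_apply]; exact leviM_isometry A x)⟩
  map_one' := by
    apply Subtype.ext
    apply Units.ext
    exact leviM_one
  map_mul' A B := by
    apply Subtype.ext
    apply Units.ext
    exact leviM_mul A B

theorem levi_val (A : GL (Fin m) F) :
    (((levi A : ↥(Cfsg.isometryGroup F ⇑(plusQF F m))) : GL (K m) F) : Matrix (K m) (K m) F) =
      leviM A := rfl

theorem levi_mem_of_comm (A : GL (Fin m) F) (hA : A ∈ commutator (GL (Fin m) F)) :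
    levi A ∈ Cfsg.Omega F ⇑(plusQF F m) := by
  have h2 := Subgroup.mem_map_of_mem (levi : GL (Fin m) F →* _) hA
  rw [commutator_def, Subgroup.map_commutator] at h2
  show levi A ∈ commutator _
  rw [commutator_def]
  exact Subgroup.commutator_mono le_top le_top h2

theorem levi_mem_of_det_one [Fintype F] (hm : 1 ≤ m) (h : Fintype.card F ≠ 2 ∨ m ≠ 2)
    (S : GL (Fin m) F) (hS : Matrix.GeneralLinearGroup.det S = 1) :
    levi S ∈ Cfsg.Omega F ⇑(plusQF F m) := by
  classical
  by_cases h3 : 3 ≤ m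
  · apply levi_mem_of_comm
    rw [Cfsg.Agent.Lib.H2.commutator_GL_eq_ker_det_of_three_le (by simpa using h3)]
    exact hS
  · by_cases h1 : m = 1
    · subst h1
      have : S = 1 := by
        apply Units.ext
        ext i j
        have hi : i = 0 := Subsingleton.elim _ _
        have hj : j = 0 := Subsingleton.elim _ _
        subst hi hj
        have := congrArg Units.val hS
        rw [Matrix.GeneralLinearGroup.val_det_apply, Matrix.det_fin_one] at this
        simpa using this
      rw [this, map_one]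
      exact one_mem _
    · have hm2 : m = 2 := by omega
      subst hm2
      have hq : Fintype.card F ≠ 2 := by
        rcases h with h | h
        · exact h
        · exact absurd rfl h
      have hq3 : 2 < Fintype.card F := by
        have := Fintype.one_lt_card (α := F)
        omega
      obtain ⟨a, ha⟩ : ∃ a : F, a ∉ ({0, 1} : Finset F) := by
        by_contra hcon
        push Not at hcon
        have : Fintype.card F ≤ ({0, 1} : Finset F).card := by
          rw [← Finset.card_univ]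
          exact Finset.card_le_card (fun x _ => hcon x)
        have h2 : ({0, 1} : Finset F).card ≤ 2 := Finset.card_le_two
        omega
      simp only [Finset.mem_insert, Finset.mem_singleton, not_or] at ha
      apply levi_mem_of_comm
      rw [Cfsg.Agent.Lib.H2.commutator_GL_eq_ker_det_of_exists a ha.1 ha.2]
      exact hS

section hyp

variable {ι : Type} [Fintype ι] [DecidableEq ι] {Q : QuadraticForm F (ι → F)}

theorem single_eq_smul (b : ι) (c : F) : (Pi.single b c : ι → F) = c • Pi.single b 1 := by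
  funext k
  simp [Pi.single_apply]

theorem hyp_Q_minus_c {a b : ι} (h : IsHypPair Q a b) (c : F) :
    Q (Pi.single a 1 - Pi.single b c) = -c := by
  rw [single_eq_smul b c, sub_eq_add_neg, ← neg_smul, QuadraticMap.map_add (⇑Q),
    QuadraticMap.map_smul, h.Qa, h.Qb, QuadraticMap.polar_smul_right, h.pa]
  simp

theorem hyp_polar_minus_c {a b : ι} (h : IsHypPair Q a b) (c : F) (x : ι → F) :
    QuadraticMap.polar (⇑Q) (Pi.single a 1 - Pi.single b c) x = x b - c * x a := by
  rw [single_eq_smul b c, QuadraticMap.polar_sub_left, QuadraticMap.polar_smul_left, h.pa, h.pb,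
    smul_eq_mul]

theorem hyp_refl_mul_c {a b : ι} (h : IsHypPair Q a b) (c : F) (hc : c ≠ 0) :
    Cfsg.reflectionMatrix ⇑Q (Pi.single a 1 - Pi.single b 1) *
      Cfsg.reflectionMatrix ⇑Q (Pi.single a 1 - Pi.single b c) =
      Matrix.diagonal (fun k => if k = a then c else if k = b then c⁻¹ else 1) := by
  apply Matrix.ext_iff_mulVec.mpr
  intro x
  rw [← Matrix.mulVec_mulVec, reflectionMatrix_mulVec Q _ x, reflectionMatrix_mulVec,
    h.Q_minus, hyp_Q_minus_c h, h.polar_minus, hyp_polar_minus_c h]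
  funext k
  rw [Matrix.mulVec_diagonal]
  have hab := h.ne
  by_cases hka : k = a
  · subst hka
    simp [hab]
    field_simp
    ring
  · by_cases hkb : k = b
    · subst hkb
      simp [hab, Ne.symm hab]
      field_simp
      ring
    · simp [Pi.single_apply, hka, hkb]

theorem reflG_mul_self (v : ι → F) (hv : Q v ≠ 0) : reflG Q v hv * reflG Q v hv = 1 := by
  apply Subtype.ext
  apply Units.ext
  exact refl_mul_self Q v hv

end hyp

theorem hypPair_plusQF (j : Fin m) :
    IsHypPair (plusQF F m) (Sum.inl j) (Sum.inr j) where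
  ne := by simp
  Qa := by
    rw [plusQF_apply, Cfsg.quadFormPlus]
    simp
  Qb := by
    rw [plusQF_apply, Cfsg.quadFormPlus]
    simp
  pa := by
    intro x
    rw [Cfsg.Agent.S0287.coe_plusQF, polar_quadFormPlus_formula]
    simp [Pi.single_apply, Finset.sum_ite_eq']
  pb := by
    intro x
    rw [Cfsg.Agent.S0287.coe_plusQF, polar_quadFormPlus_formula]
    simp [Pi.single_apply, Finset.sum_ite_eq']

open Cfsg.Agent.Lib.H2 in
theorem leviM_diagOne (i : Fin m) (c : F) (hc : c ≠ 0) :
    leviM (diagOne i c hc) = Matrix.diagonal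
      (fun k : K m => if k = Sum.inl i then c else if k = Sum.inr i then c⁻¹ else 1) := by
  unfold leviM
  have h1 : ((diagOne i c hc : GL (Fin m) F) : Matrix (Fin m) (Fin m) F) =
      diagonal (fun k => if k = i then c else 1) := rfl
  have h2 : (((diagOne i c hc)⁻¹ : GL (Fin m) F) : Matrix (Fin m) (Fin m) F) =
      diagonal (fun k => if k = i then c⁻¹ else 1) := rfl
  rw [h1, h2, Matrix.diagonal_transpose, Matrix.fromBlocks_diagonal]
  congr 1
  funext k
  rcases k with k | k <;> simp

open Cfsg.Agent.Lib.H2 in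
theorem Q_ne_zero_minus_c (i : Fin m) (c : F) (hc : c ≠ 0) :
    plusQF F m (Pi.single (Sum.inl i) 1 - Pi.single (Sum.inr i) c) ≠ 0 := by
  rw [hyp_Q_minus_c (hypPair_plusQF i)]
  exact neg_ne_zero.mpr hc

open Cfsg.Agent.Lib.H2 in
theorem levi_diagOne_eq (i : Fin m) (c : F) (hc : c ≠ 0) :
    levi (diagOne i c hc) =
      reflG (plusQF F m) (Pi.single (Sum.inl i) 1 - Pi.single (Sum.inr i) 1)
        (Q_ne_zero_minus_c i 1 one_ne_zero) *
      reflG (plusQF F m) (Pi.single (Sum.inl i) 1 - Pi.single (Sum.inr i) c)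
        (Q_ne_zero_minus_c i c hc) := by
  apply Subtype.ext
  apply Units.ext
  show leviM (diagOne i c hc) = Cfsg.reflectionMatrix _ _ * Cfsg.reflectionMatrix _ _
  rw [leviM_diagOne, hyp_refl_mul_c (hypPair_plusQF i) c hc]

open Cfsg.Agent.Lib.H2 in
theorem diagOne_mul_self (i : Fin m) (b : F) (hb : b ≠ 0) :
    diagOne i b hb * diagOne i b hb = diagOne i (b * b) (mul_ne_zero hb hb) := by
  apply Units.ext
  show diagonal _ * diagonal _ = diagonal _
  rw [Matrix.diagonal_mul_diagonal]
  congr 1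
  funext k
  by_cases hk : k = i <;> simp [hk]

open Cfsg.Agent.Lib.H2 in
/-- `diag(b², 1, …; b⁻², 1, …)` lies in `Ω` (any characteristic) -/
theorem levi_diagOne_sq_mem (i : Fin m) (b : F) (hb : b ≠ 0) :
    levi (diagOne i (b * b) (mul_ne_zero hb hb)) ∈ Cfsg.Omega F ⇑(plusQF F m) := by
  rw [← diagOne_mul_self i b hb, map_mul, levi_diagOne_eq i b hb]
  set J := reflG (plusQF F m) (Pi.single (Sum.inl i) 1 - Pi.single (Sum.inr i) 1)
    (Q_ne_zero_minus_c i 1 one_ne_zero) with hJ
  set R := reflG (plusQF F m) (Pi.single (Sum.inl i) 1 - Pi.single (Sum.inr i) b)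
    (Q_ne_zero_minus_c i b hb) with hR
  have hJJ : J * J = 1 := reflG_mul_self _ _
  have hRR : R * R = 1 := reflG_mul_self _ _
  have hJi : J⁻¹ = J := inv_eq_of_mul_eq_one_right hJJ
  have hRi : R⁻¹ = R := inv_eq_of_mul_eq_one_right hRR
  have hcomm : J * R * (J * R) = ⁅J, R⁆ := by
    rw [commutatorElement_def, hJi, hRi]
    group
  rw [hcomm]
  exact Subgroup.commutator_mem_commutator (Subgroup.mem_top _) (Subgroup.mem_top _)

open Cfsg.Agent.Lib.H2 in
theorem levi_diagOne_mem_iff [Fintype F] (hm : 1 ≤ m) (i : Fin m) (c : F) (hc : c ≠ 0) :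
    levi (diagOne i c hc) ∈ Cfsg.Omega F ⇑(plusQF F m) ↔ IsSquare c := by
  classical
  constructor
  · intro h
    by_cases h2 : (2 : F) = 0
    · have : CharP F 2 := CharTwo.of_one_ne_zero_of_two_eq_zero one_ne_zero h2
      exact FiniteField.isSquare_of_char_two (ringChar.eq F 2) c
    · have crit := mem_Omega_iff_list (plusQF F m) h2 (by simp; omega) (Cfsg.Agent.S0287.nondeg m)
        (levi (diagOne i c hc))
        [Pi.single (Sum.inl i) 1 - Pi.single (Sum.inr i) 1,
          Pi.single (Sum.inl i) 1 - Pi.single (Sum.inr i) c] ?_ ?_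
      · have := (crit.mp h).2
        simp only [List.map_cons, List.map_nil, List.prod_cons, List.prod_nil, mul_one] at this
        rw [hyp_Q_minus_c (hypPair_plusQF i), hyp_Q_minus_c (hypPair_plusQF i)] at this
        simpa using this
      · intro v hv
        simp only [List.mem_cons, List.not_mem_nil, or_false] at hv
        rcases hv with rfl | rfl
        · exact Q_ne_zero_minus_c i 1 one_ne_zero
        · exact Q_ne_zero_minus_c i c hc
      · rw [levi_val, leviM_diagOne, ← hyp_refl_mul_c (hypPair_plusQF i) c hc]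
        simp
  · rintro ⟨b, rfl⟩
    have hb : b ≠ 0 := by
      rintro rfl
      simp at hc
    exact levi_diagOne_sq_mem i b hb

open Cfsg.Agent.Lib.H2 in
/-- `diag(A, A⁻ᵀ) ∈ Ω⁺_{2m}(q)` iff `det A` is a square -/
theorem levi_mem_iff [Fintype F] (hm : 1 ≤ m) (h : Fintype.card F ≠ 2 ∨ m ≠ 2) (A : GL (Fin m) F) :
    levi A ∈ Cfsg.Omega F ⇑(plusQF F m) ↔ IsSquare (A : Matrix (Fin m) (Fin m) F).det := by
  classical
  set a := (A : Matrix (Fin m) (Fin m) F).det with ha_def
  have ha : a ≠ 0 := by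
    have := A.isUnit
    rw [Matrix.isUnit_iff_isUnit_det] at this
    exact this.ne_zero
  set i₀ : Fin m := ⟨0, hm⟩
  have hdetD : ((diagOne i₀ a ha : GL (Fin m) F) : Matrix (Fin m) (Fin m) F).det = a := by
    show (diagonal (fun k => if k = i₀ then a else 1)).det = a
    rw [Matrix.det_diagonal, Finset.prod_ite_eq' Finset.univ i₀ (fun _ => a)]
    simp
  set S := A * (diagOne i₀ a ha)⁻¹ with hS_def
  have hSdet : Matrix.GeneralLinearGroup.det S = 1 := by
    apply Units.ext
    rw [Matrix.GeneralLinearGroup.val_det_apply, hS_def, Units.val_mul, Matrix.det_mul,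
      Matrix.coe_units_inv, Matrix.det_nonsing_inv, hdetD, Units.val_one, Ring.inverse_eq_inv',
      ← ha_def]
    exact mul_inv_cancel₀ ha
  have hS := levi_mem_of_det_one hm h S hSdet
  have hA : levi A = levi S * levi (diagOne i₀ a ha) := by
    rw [← map_mul, hS_def, inv_mul_cancel_right]
  rw [hA, ← levi_diagOne_mem_iff hm i₀ a ha]
  constructor
  · intro h1
    have := mul_mem (inv_mem hS) h1
    rwa [inv_mul_cancel_left] at this
  · intro h1
    exact mul_mem hS h1

end Cfsg.Agent.Lib.H13.PlusLevi
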