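import Mathlib
import Cfsg.Agent.Lib.H29.Zsigmondy

set_option autoImplicit false

namespace Cfsg.Agent.Lib.H13.SingerConj

open Module

/-- primitive prime divisors of `q ^ n - 1` for a prime power `q` -/
theorem exists_ppd (F : Type*) [Field F] [Fintype F] (n : ℕ) (hn : 2 ≤ n)
    (hex1 : ¬ (n = 6 ∧ Fintype.card F = 2))
    (hex2 : ¬ (n = 2 ∧ (Fintype.card F).Prime ∧ ∃ a : ℕ, Fintype.card F + 1 = 2 ^ a)) :
    ∃ r : ℕ, r.Prime ∧ r ∣ Fintype.card F ^ n - 1 ∧
      ∀ k : ℕ, 0 < k → k < n → ¬ r ∣ Fintype.card F ^ k - 1 := by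
  obtain ⟨p, _, f, hp, hq⟩ := FiniteField.card' F
  have hf : 1 ≤ (f : ℕ) := f.2
  by_cases h6 : p = 2 ∧ (f : ℕ) * n = 6
  · obtain ⟨hp2, hfn⟩ := h6
    have hfdvd : (f : ℕ) ∣ 6 := ⟨n, hfn.symm⟩
    have hf6 : (f : ℕ) ≤ 6 := Nat.le_of_dvd (by omega) hfdvd
    have hcases : ((f : ℕ) = 1 ∧ n = 6) ∨ ((f : ℕ) = 2 ∧ n = 3) ∨ ((f : ℕ) = 3 ∧ n = 2) := by
      interval_cases hfv : (f : ℕ) <;> omega
    rcases hcases with ⟨h1, h2⟩ | ⟨h1, h2⟩ | ⟨h1, h2⟩
    · exfalso
      apply hex1
      refine ⟨h2, ?_⟩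
      rw [hq, hp2, h1]
      rfl
    · refine ⟨7, by norm_num, ?_, ?_⟩
      · rw [hq, hp2, h1, h2]
        norm_num
      · intro k hk0 hkn
        rw [hq, hp2, h1]
        rw [h2] at hkn
        interval_cases k <;> norm_num
    · refine ⟨3, by norm_num, ?_, ?_⟩
      · rw [hq, hp2, h1, h2]
        norm_num
      · intro k hk0 hkn
        rw [hq, hp2, h1]
        rw [h2] at hkn
        interval_cases k <;> norm_num
  · have h2 : ¬ ((f : ℕ) * n = 2 ∧ ∃ m : ℕ, p + 1 = 2 ^ m) := by
      rintro ⟨hfn, m, hm⟩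
      have hn2 : n = 2 := by
        have : n ∣ 2 := ⟨f, by rw [mul_comm]; exact hfn.symm⟩
        have := Nat.le_of_dvd (by omega) this
        omega
      have hf1 : (f : ℕ) = 1 := by
        rw [hn2] at hfn
        omega
      apply hex2
      refine ⟨hn2, ?_, m, ?_⟩
      · rw [hq, hf1, pow_one]
        exact hp
      · rw [hq, hf1, pow_one]
        exact hm
    obtain ⟨r, hr, hrdvd, hrppd⟩ := Cfsg.Agent.Lib.H29.Zsig.zsigmondy p ((f : ℕ) * n) hp.one_lt
      (by nlinarith) h6 h2
    refine ⟨r, hr, ?_, ?_⟩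
    · rw [hq, ← pow_mul]
      exact hrdvd
    · intro k hk0 hkn
      rw [hq, ← pow_mul]
      exact hrppd ((f : ℕ) * k) (by positivity) (by nlinarith)

/-- a fixed-point-free permutation of prime order `r`: `r` divides the cardinality -/
theorem dvd_card_of_fpf {α : Type*} [Fintype α] [DecidableEq α] (σ : Equiv.Perm α) (r : ℕ)
    [Fact r.Prime] (hσ : σ ^ r = 1) (hfix : ∀ a, σ a ≠ a) : r ∣ Fintype.card α := by
  have hσ' : σ ^ r ^ 1 = 1 := by rw [pow_one]; exact hσ
  have hmod := Equiv.Perm.card_compl_support_modEq hσ'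
  have hsupp : σ.supportᶜ = ∅ := by
    rw [Finset.eq_empty_iff_forall_notMem]
    intro a ha
    rw [Finset.mem_compl, Equiv.Perm.notMem_support] at ha
    exact hfix a ha
  rw [hsupp, Finset.card_empty] at hmod
  exact (Nat.modEq_zero_iff_dvd.1 hmod.symm)

section Field

variable {F K : Type*} [Field F] [Fintype F] [Field K] [Fintype K] [Algebra F K]

/-- an element of primitive prime order generates the field -/
theorem adjoin_eq_top (n : ℕ) (hdim : finrank F K = n) (r : ℕ) [Fact r.Prime]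
    (hppd : ∀ k : ℕ, 0 < k → k < n → ¬ r ∣ Fintype.card F ^ k - 1)
    (μ : K) (hμr : μ ^ r = 1) (hμ1 : μ ≠ 1) : Algebra.adjoin F {μ} = ⊤ := by
  classical
  obtain ⟨A, hA⟩ : ∃ A : Subalgebra F K, A = Algebra.adjoin F {μ} := ⟨_, rfl⟩
  rw [← hA]
  have hμA : μ ∈ A := by rw [hA]; exact Algebra.subset_adjoin (Set.mem_singleton μ)
  have hcardA : Nat.card A = Fintype.card F ^ finrank F A := by
    rw [Module.natCard_eq_pow_finrank (K := F) (V := A), Nat.card_eq_fintype_card]
  have hjn : finrank F A ≤ n := by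
    rw [← hdim]
    exact Submodule.finrank_le (Subalgebra.toSubmodule A)
  have hj1 : 0 < finrank F A := by
    apply Module.finrank_pos_iff_exists_ne_zero.2
    exact ⟨1, one_ne_zero⟩
  let μ' : A := ⟨μ, hμA⟩
  have hμ'r : μ' ^ r = 1 := Subtype.ext hμr
  have hr1 : 1 ≤ r := (Fact.out : r.Prime).one_lt.le
  have hμ'inv : μ' ^ (r - 1) * μ' = 1 := by
    rw [← pow_succ, Nat.sub_add_cancel hr1, hμ'r]
  have hμ'inv' : μ' * μ' ^ (r - 1) = 1 := by rw [mul_comm]; exact hμ'inv
  have hne : ∀ (c : A), c ≠ 0 → ∀ x : A, x ≠ 0 → c * x ≠ 0 := by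
    intro c hc x hx
    exact mul_ne_zero hc hx
  have hμ'0 : μ' ≠ 0 := by
    intro h
    rw [h, zero_pow (by omega)] at hμ'r
    exact zero_ne_one hμ'r
  let σ : Equiv.Perm {x : A // x ≠ 0} :=
    ⟨fun x => ⟨μ' * x.1, hne μ' hμ'0 x.1 x.2⟩,
      fun x => ⟨μ' ^ (r - 1) * x.1, hne _ (pow_ne_zero _ hμ'0) x.1 x.2⟩,
      fun x => Subtype.ext (by
        show μ' ^ (r - 1) * (μ' * x.1) = x.1
        rw [← mul_assoc, hμ'inv, one_mul]),
      fun x => Subtype.ext (by
        show μ' * (μ' ^ (r - 1) * x.1) = x.1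
        rw [← mul_assoc, hμ'inv', one_mul])⟩
  have hσpow : ∀ (k : ℕ) (x : {x : A // x ≠ 0}), ((σ ^ k) x : A) = μ' ^ k * x.1 := by
    intro k
    induction k with
    | zero => intro x; simp
    | succ k ih =>
      intro x
      rw [pow_succ', Equiv.Perm.mul_apply]
      show μ' * ((σ ^ k) x : A) = _
      rw [ih, ← mul_assoc, ← pow_succ']
  have hσr : σ ^ r = 1 := by
    ext x
    rw [hσpow, hμ'r, one_mul]
    rfl
  have hfix : ∀ a, σ a ≠ a := by
    intro a h
    have h1 : μ' * a.1 = a.1 := congrArg Subtype.val h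
    have h2 : (μ' - 1) * a.1 = 0 := by rw [sub_mul, h1, one_mul, sub_self]
    rcases mul_eq_zero.1 h2 with h3 | h3
    · apply hμ1
      have := congrArg Subtype.val (sub_eq_zero.1 h3)
      exact this
    · exact a.2 h3
  have hdvd := dvd_card_of_fpf σ r hσr hfix
  rw [Fintype.card_subtype_compl, Fintype.card_subtype_eq, ← Nat.card_eq_fintype_card, hcardA]
    at hdvd
  have hj : finrank F A = n := by
    by_contra hne'
    exact hppd (finrank F A) hj1 (by omega) hdvd
  apply Algebra.toSubmodule_eq_top.1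
  apply Submodule.eq_top_of_finrank_eq
  rw [hdim]
  exact hj

/-- the centraliser of multiplication by a generating element consists of multiplications -/
theorem centralizer_lmul (μ : K) (hμ : Algebra.adjoin F {μ} = ⊤) (w : Module.End F K)
    (hw : ∀ y, w (μ * y) = μ * w y) : ∀ y, w y = w 1 * y := by
  have key : ∀ x : K, ∀ y, w (x * y) = x * w y := by
    intro x
    have hx : x ∈ Algebra.adjoin F {μ} := by rw [hμ]; exact Algebra.mem_top
    induction hx using Algebra.adjoin_induction with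
    | mem x hx =>
      rw [Set.mem_singleton_iff] at hx
      subst hx
      exact hw
    | algebraMap c =>
      intro y
      rw [← Algebra.smul_def, ← Algebra.smul_def, map_smul]
    | add x y _ _ hx hy =>
      intro z
      rw [add_mul, map_add, hx, hy, add_mul]
    | mul x y _ _ hx hy =>
      intro z
      rw [mul_assoc, hx, hy, mul_assoc]
  intro y
  have := key y 1
  rw [mul_one] at this
  rw [this, mul_comm]

/-- the order of `GL_F(K)` -/
theorem card_units_end (n : ℕ) (hdim : finrank F K = n) :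
    Nat.card (Module.End F K)ˣ = ∏ i : Fin n, (Fintype.card F ^ n - Fintype.card F ^ (i : ℕ)) := by
  classical
  let b : Basis (Fin n) F K := Module.finBasisOfFinrankEq F K hdim
  let e : Module.End F K ≃* Matrix (Fin n) (Fin n) F := (LinearMap.toMatrixAlgEquiv b).toMulEquiv
  rw [Nat.card_congr (Units.mapEquiv e).toEquiv]
  exact Matrix.card_GL_field n

/-- the `r`-part of the order of `GL_F(K)` for a primitive prime divisor `r` -/
theorem factorization_card (n : ℕ) (hn : 1 ≤ n) (hdim : finrank F K = n) (r : ℕ) (hr : r.Prime)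
    (hrdvd : r ∣ Fintype.card F ^ n - 1)
    (hppd : ∀ k : ℕ, 0 < k → k < n → ¬ r ∣ Fintype.card F ^ k - 1) :
    (Nat.card (Module.End F K)ˣ).factorization r = (Fintype.card F ^ n - 1).factorization r := by
  rw [card_units_end n hdim]
  obtain ⟨m, rfl⟩ : ∃ m, n = m + 1 := ⟨n - 1, by omega⟩
  have hq2 : 2 ≤ Fintype.card F := Fintype.one_lt_card
  have hqn : 2 ≤ Fintype.card F ^ (m + 1) := by
    calc 2 ≤ Fintype.card F := hq2
      _ = Fintype.card F ^ 1 := (pow_one _).symm
      _ ≤ Fintype.card F ^ (m + 1) := Nat.pow_le_pow_right (by omega) (by omega)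
  have hrq : ¬ r ∣ Fintype.card F := by
    intro h
    have h1 : r ∣ Fintype.card F ^ (m + 1) := Dvd.dvd.mul_left h _
    have h2 : r ∣ Fintype.card F ^ (m + 1) - (Fintype.card F ^ (m + 1) - 1) := Nat.dvd_sub h1 hrdvd
    have h3 : Fintype.card F ^ (m + 1) - (Fintype.card F ^ (m + 1) - 1) = 1 := by omega
    rw [h3] at h2
    exact hr.one_lt.ne' (Nat.dvd_one.1 h2)
  rw [Fin.prod_univ_succ]
  simp only [Fin.val_zero, pow_zero, Fin.val_succ]
  have hrest : ¬ r ∣ ∏ i : Fin m, (Fintype.card F ^ (m + 1) - Fintype.card F ^ ((i : ℕ) + 1)) := by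
    intro h
    rw [Prime.dvd_finsetProd_iff (Nat.prime_iff.1 hr)] at h
    obtain ⟨i, -, hi⟩ := h
    have him : (i : ℕ) < m := i.2
    have hfac : Fintype.card F ^ (m + 1) - Fintype.card F ^ ((i : ℕ) + 1) =
        Fintype.card F ^ ((i : ℕ) + 1) * (Fintype.card F ^ (m - (i : ℕ)) - 1) := by
      rw [Nat.mul_sub, mul_one, ← pow_add]
      congr 2
      omega
    rw [hfac] at hi
    rcases (Nat.Prime.dvd_mul hr).1 hi with h1 | h1
    · exact hrq (hr.dvd_of_dvd_pow h1)
    · exact hppd (m - (i : ℕ)) (by omega) (by omega) h1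
  have hne1 : Fintype.card F ^ (m + 1) - 1 ≠ 0 := by omega
  have hne2 : (∏ i : Fin m, (Fintype.card F ^ (m + 1) - Fintype.card F ^ ((i : ℕ) + 1))) ≠ 0 := by
    intro h
    apply hrest
    rw [h]
    exact dvd_zero r
  rw [Nat.factorization_mul hne1 hne2, Finsupp.add_apply,
    Nat.factorization_eq_zero_of_not_dvd hrest, add_zero]

/-- **S5947**: abelian subgroups of Singer order are conjugate to the Singer group -/
theorem singer_conj (n : ℕ) (hn : 2 ≤ n) (hdim : finrank F K = n)
    (hex1 : ¬ (n = 6 ∧ Fintype.card F = 2))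
    (hex2 : ¬ (n = 2 ∧ (Fintype.card F).Prime ∧ ∃ a : ℕ, Fintype.card F + 1 = 2 ^ a))
    (U : Subgroup (Module.End F K)ˣ) (hU : IsMulCommutative U)
    (hcard : Nat.card U = Fintype.card K - 1) :
    ∃ g : (Module.End F K)ˣ, U.map (MulAut.conj g).toMonoidHom =
      (Units.map ((Algebra.lmul F K : K →ₐ[F] Module.End F K) : K →* Module.End F K)).range := by
  classical
  obtain ⟨r, hr, hrdvd, hppd⟩ := exists_ppd F n hn hex1 hex2
  haveI : Fact r.Prime := ⟨hr⟩
  obtain ⟨φ, hφdef⟩ : ∃ φ : Kˣ →* (Module.End F K)ˣ,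
    φ = Units.map ((Algebra.lmul F K : K →ₐ[F] Module.End F K) : K →* Module.End F K) := ⟨_, rfl⟩
  rw [← hφdef]
  have hφ : ∀ (c : Kˣ) (y : K), ((φ c : (Module.End F K)ˣ) : Module.End F K) y = (c : K) * y := by
    intro c y
    rw [hφdef]
    rfl
  have hcardK : Fintype.card K = Fintype.card F ^ n := by
    rw [← Nat.card_eq_fintype_card, Module.natCard_eq_pow_finrank (K := F) (V := K), hdim,
      Nat.card_eq_fintype_card]
  have hφinj : Function.Injective φ := by
    intro a b hab
    apply Units.ext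
    have := congrArg (fun g : (Module.End F K)ˣ => (g : Module.End F K) 1) hab
    simpa [hφ] using this
  have hcardM : Nat.card φ.range = Fintype.card F ^ n - 1 := by
    rw [← Nat.card_congr (MonoidHom.ofInjective hφinj).toEquiv, Nat.card_units,
      Nat.card_eq_fintype_card, hcardK]
  haveI : Finite (Module.End F K)ˣ := by
    apply Nat.finite_of_card_ne_zero
    rw [card_units_end n hdim]
    apply Finset.prod_ne_zero_iff.2
    intro i _
    have hq2 : 2 ≤ Fintype.card F := Fintype.one_lt_card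
    have : Fintype.card F ^ (i : ℕ) < Fintype.card F ^ n :=
      Nat.pow_lt_pow_right (by omega) i.2
    omega
  -- a Sylow subgroup inside the Singer group
  obtain ⟨P⟩ : Nonempty (Sylow r ↥φ.range) := inferInstance
  obtain ⟨S, hSdef⟩ : ∃ S : Subgroup (Module.End F K)ˣ,
    S = (P : Subgroup ↥φ.range).map φ.range.subtype := ⟨_, rfl⟩
  have hSle : S ≤ φ.range := by
    rw [hSdef]
    rintro _ ⟨y, -, rfl⟩
    exact y.2
  have hS : Nat.card S = r ^ (Nat.card (Module.End F K)ˣ).factorization r := by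
    rw [hSdef, ← Nat.card_congr ((P : Subgroup ↥φ.range).equivMapOfInjective φ.range.subtype
      φ.range.subtype_injective).toEquiv, P.card_eq_multiplicity, hcardM,
      factorization_card n (by omega) hdim r hr hrdvd hppd]
  -- an element of order `r` in `U`
  have hrU : r ∣ Nat.card U := by
    rw [hcard, hcardK]
    exact hrdvd
  obtain ⟨u, hu⟩ := exists_prime_orderOf_dvd_card' r hrU
  have hpg : IsPGroup r (Subgroup.zpowers (u : (Module.End F K)ˣ)) := by
    apply IsPGroup.of_card (n := 1)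
    rw [Nat.card_zpowers, Subgroup.orderOf_coe, hu, pow_one]
  obtain ⟨Q, hQ⟩ := hpg.exists_le_sylow
  obtain ⟨g, hg⟩ := MulAction.exists_smul_eq (Module.End F K)ˣ Q (Sylow.ofCard S hS)
  have hgu : g * (u : (Module.End F K)ˣ) * g⁻¹ ∈ φ.range := by
    apply hSle
    have h1 : (u : (Module.End F K)ˣ) ∈ (Q : Subgroup (Module.End F K)ˣ) :=
      hQ (Subgroup.mem_zpowers _)
    have h2 : g * (u : (Module.End F K)ˣ) * g⁻¹ ∈
        ((g • Q : Sylow r (Module.End F K)ˣ) : Subgroup (Module.End F K)ˣ) := by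
      rw [Sylow.coe_subgroup_smul]
      exact Subgroup.smul_mem_pointwise_smul _ (MulAut.conj g) _ h1
    rw [hg] at h2
    exact h2
  obtain ⟨μ, hμ⟩ := hgu
  have hord : orderOf (g * (u : (Module.End F K)ˣ) * g⁻¹) = r := by
    have := orderOf_injective (MulAut.conj g).toMonoidHom (MulAut.conj g).injective
      (u : (Module.End F K)ˣ)
    rw [Subgroup.orderOf_coe, hu] at this
    exact this
  have hμord : orderOf μ = r := by
    rw [← hord, ← hμ]
    exact (orderOf_injective φ hφinj μ).symm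
  have hμr : (μ : K) ^ r = 1 := by
    rw [← Units.val_pow_eq_pow_val, ← hμord, pow_orderOf_eq_one, Units.val_one]
  have hμ1 : (μ : K) ≠ 1 := by
    intro h
    have : μ = 1 := Units.ext h
    rw [this, orderOf_one] at hμord
    exact hr.one_lt.ne hμord
  have hadj := adjoin_eq_top n hdim r hppd (μ : K) hμr hμ1
  refine ⟨g, ?_⟩
  have hle : U.map (MulAut.conj g).toMonoidHom ≤ φ.range := by
    rintro _ ⟨w, hw, rfl⟩
    show g * w * g⁻¹ ∈ φ.range
    have hwu : w * (u : (Module.End F K)ˣ) = (u : (Module.End F K)ˣ) * w := by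
      have := hU.is_comm.comm (⟨w, hw⟩ : ↥U) u
      exact congrArg Subtype.val this
    have hcomm : (g * w * g⁻¹) * φ μ = φ μ * (g * w * g⁻¹) := by
      rw [hμ]
      calc g * w * g⁻¹ * (g * ↑u * g⁻¹) = g * (w * ↑u) * g⁻¹ := by group
        _ = g * (↑u * w) * g⁻¹ := by rw [hwu]
        _ = g * ↑u * g⁻¹ * (g * w * g⁻¹) := by group
    have hw'μ : ∀ y, ((g * w * g⁻¹ : (Module.End F K)ˣ) : Module.End F K) ((μ : K) * y) =
        (μ : K) * ((g * w * g⁻¹ : (Module.End F K)ˣ) : Module.End F K) y := by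
      intro y
      have := congrArg (fun a : (Module.End F K)ˣ => (a : Module.End F K) y) hcomm
      simp only [Units.val_mul, Module.End.mul_apply, hφ] at this
      simp only [Units.val_mul, Module.End.mul_apply]
      exact this
    have hform := centralizer_lmul (μ : K) hadj
      ((g * w * g⁻¹ : (Module.End F K)ˣ) : Module.End F K) hw'μ
    have hc : ((g * w * g⁻¹ : (Module.End F K)ˣ) : Module.End F K) 1 ≠ 0 := by
      intro h0
      have h1 : (((g * w * g⁻¹)⁻¹ : (Module.End F K)ˣ) : Module.End F K)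
          (((g * w * g⁻¹ : (Module.End F K)ˣ) : Module.End F K) 1) = 1 := by
        rw [← Module.End.mul_apply, ← Units.val_mul, inv_mul_cancel]
        rfl
      rw [h0, map_zero] at h1
      exact zero_ne_one h1
    refine ⟨Units.mk0 _ hc, ?_⟩
    apply Units.ext
    apply LinearMap.ext
    intro y
    rw [hφ, Units.val_mk0, ← hform]
  apply Subgroup.eq_of_le_of_card_ge hle
  rw [hcardM, ← Nat.card_congr (U.equivMapOfInjective (MulAut.conj g).toMonoidHom
    (MulAut.conj g).injective).toEquiv, hcard, hcardK]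

end Field

end Cfsg.Agent.Lib.H13.SingerConj
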