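import Cfsg.Agent.Lib.H13.SpInvolCount
import Cfsg.Agent.Lib.H13.SympBasis
import Cfsg.Agent.Lib.H13.PlusLevi
import Cfsg.Agent.Lib.H2.SpOrder
import Cfsg.Agent.S0263
import Cfsg.Agent.Lib.H13.SingerConj

set_option autoImplicit false

namespace Cfsg.Agent.Lib.H13.SpPairs

open Module Matrix
open Cfsg.Agent.Lib.H13.SpInvolCount

/-- counting the points of a transitive action through one stabiliser -/
theorem card_of_transitive {G X : Type*} [Group G] (Ψ : G → X) (hsurj : Function.Surjective Ψ)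
    (L : Subgroup G) (hL : ∀ g h, Ψ g = Ψ h ↔ g⁻¹ * h ∈ L) :
    Nat.card X * Nat.card L = Nat.card G := by
  rw [Subgroup.card_eq_card_quotient_mul_card_subgroup L]
  congr 1
  symm
  apply Nat.card_congr
  refine Equiv.ofBijective (Quotient.lift Ψ (fun a b hab =>
    (hL a b).mpr (QuotientGroup.leftRel_apply.mp hab))) ⟨?_, ?_⟩
  · intro a b
    induction a using Quotient.inductionOn with | _ a => ?_
    induction b using Quotient.inductionOn with | _ b => ?_
    intro h
    exact Quotient.sound (QuotientGroup.leftRel_apply.mpr ((hL _ _).mp h))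
  · intro x
    obtain ⟨g, rfl⟩ := hsurj x
    exact ⟨Quotient.mk _ g, rfl⟩

section std
variable (d : ℕ) (F : Type*) [Field F]

abbrev KK (d : ℕ) : Type := Fin d ⊕ Fin d

/-- the standard pair -/
def U0 : Submodule F (KK d → F) where
  carrier := {v | ∀ i, v (.inr i) = 0}
  add_mem' := by
    intro a b ha hb i
    rw [Pi.add_apply, ha i, hb i, add_zero]
  zero_mem' := fun i => rfl
  smul_mem' := by
    intro c a ha i
    rw [Pi.smul_apply, ha i, smul_zero]

def W0 : Submodule F (KK d → F) where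
  carrier := {v | ∀ i, v (.inl i) = 0}
  add_mem' := by
    intro a b ha hb i
    rw [Pi.add_apply, ha i, hb i, add_zero]
  zero_mem' := fun i => rfl
  smul_mem' := by
    intro c a ha i
    rw [Pi.smul_apply, ha i, smul_zero]

variable {d F}

theorem mem_U0 (v : KK d → F) : v ∈ U0 d F ↔ ∀ i, v (.inr i) = 0 := Iff.rfl

theorem mem_W0 (v : KK d → F) : v ∈ W0 d F ↔ ∀ i, v (.inl i) = 0 := Iff.rfl

theorem U0_eq_span : U0 d F = Submodule.span F (Set.range (fun i : Fin d =>
    (Pi.single (Sum.inl i) 1 : KK d → F))) := by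
  apply le_antisymm
  · intro v hv
    have h1 : v = ∑ i : Fin d, v (.inl i) • (Pi.single (Sum.inl i) 1 : KK d → F) := by
      funext k
      rw [Finset.sum_apply]
      rcases k with k | k
      · simp [Pi.single_apply]
      · simp [Pi.single_apply, hv k]
    rw [h1]
    exact Submodule.sum_mem _ (fun i _ => Submodule.smul_mem _ _
      (Submodule.subset_span ⟨i, rfl⟩))
  · rw [Submodule.span_le]
    rintro _ ⟨i, rfl⟩ j
    simp

theorem W0_eq_span : W0 d F = Submodule.span F (Set.range (fun i : Fin d =>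
    (Pi.single (Sum.inr i) 1 : KK d → F))) := by
  apply le_antisymm
  · intro v hv
    have h1 : v = ∑ i : Fin d, v (.inr i) • (Pi.single (Sum.inr i) 1 : KK d → F) := by
      funext k
      rw [Finset.sum_apply]
      rcases k with k | k
      · simp [Pi.single_apply, hv k]
      · simp [Pi.single_apply]
    rw [h1]
    exact Submodule.sum_mem _ (fun i _ => Submodule.smul_mem _ _
      (Submodule.subset_span ⟨i, rfl⟩))
  · rw [Submodule.span_le]
    rintro _ ⟨i, rfl⟩ j
    simp

/-- action of a matrix on subspaces -/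
def act (g : Matrix (KK d) (KK d) F) (S : Submodule F (KK d → F)) : Submodule F (KK d → F) :=
  S.map (Matrix.toLin' g)

theorem act_one (S : Submodule F (KK d → F)) : act (1 : Matrix (KK d) (KK d) F) S = S := by
  unfold act
  rw [Matrix.toLin'_one, Submodule.map_id]

theorem act_mul (g h : Matrix (KK d) (KK d) F) (S : Submodule F (KK d → F)) :
    act (g * h) S = act g (act h S) := by
  unfold act
  rw [Matrix.toLin'_mul, Submodule.map_comp]

/-- the stabiliser of the standard pair -/
def stab (d : ℕ) (F : Type*) [Field F] : Subgroup ↥(Matrix.symplecticGroup (Fin d) F) where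
  carrier := {g | act g.1 (U0 d F) = U0 d F ∧ act g.1 (W0 d F) = W0 d F}
  mul_mem' := by
    intro a b ha hb
    refine ⟨?_, ?_⟩
    · show act (a.1 * b.1) _ = _
      rw [act_mul, hb.1, ha.1]
    · show act (a.1 * b.1) _ = _
      rw [act_mul, hb.2, ha.2]
  one_mem' := ⟨act_one _, act_one _⟩
  inv_mem' := by
    intro a ha
    have h1 : (a⁻¹).1 * a.1 = 1 := by
      have : (a⁻¹ * a).1 = 1 := by rw [inv_mul_cancel]; rfl
      exact this
    refine ⟨?_, ?_⟩
    · conv_lhs => rw [← ha.1]
      rw [← act_mul, h1, act_one]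
    · conv_lhs => rw [← ha.2]
      rw [← act_mul, h1, act_one]

theorem mem_stab (g : ↥(Matrix.symplecticGroup (Fin d) F)) :
    g ∈ stab d F ↔ act g.1 (U0 d F) = U0 d F ∧ act g.1 (W0 d F) = W0 d F := Iff.rfl

end std

section levi
variable {d : ℕ} {F : Type*} [Field F]

open PlusLevi

theorem leviM_mem (A : GL (Fin d) F) : leviM A ∈ Matrix.symplecticGroup (Fin d) F := by
  rw [SymplecticGroup.mem_iff]
  unfold leviM Matrix.J
  rw [Matrix.fromBlocks_transpose, Matrix.fromBlocks_multiply, Matrix.fromBlocks_multiply]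
  simp only [Matrix.mul_zero, Matrix.zero_mul, add_zero, zero_add, Matrix.transpose_zero,
    Matrix.transpose_transpose, Matrix.mul_one, Matrix.mul_neg, Matrix.neg_mul]
  rw [← Units.val_mul, mul_inv_cancel, Units.val_one, ← Matrix.transpose_mul, ← Units.val_mul,
    mul_inv_cancel, Units.val_one, Matrix.transpose_one, neg_zero]

/-- the Levi subgroup `GL_d` of `Sp_{2d}` -/
def levSp : GL (Fin d) F →* ↥(Matrix.symplecticGroup (Fin d) F) where
  toFun A := ⟨leviM A, leviM_mem A⟩
  map_one' := Subtype.ext leviM_one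
  map_mul' A B := Subtype.ext (leviM_mul A B)

theorem levSp_injective : Function.Injective (levSp (d := d) (F := F)) := by
  intro A B h
  have h1 : leviM A = leviM B := congrArg Subtype.val h
  apply Units.ext
  have := congrArg Matrix.toBlocks₁₁ h1
  simpa [leviM] using this

theorem leviM_act_le (A : GL (Fin d) F) :
    act (leviM A) (U0 d F) ≤ U0 d F ∧ act (leviM A) (W0 d F) ≤ W0 d F := by
  constructor
  · rintro _ ⟨v, hv, rfl⟩ i
    rw [Matrix.toLin'_apply, leviM, Matrix.fromBlocks_mulVec]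
    simp only [Sum.elim_inr, Matrix.zero_mulVec, zero_add, Pi.add_apply, Pi.zero_apply]
    have : (v ∘ Sum.inr : Fin d → F) = 0 := funext (fun j => hv j)
    rw [this, Matrix.mulVec_zero, Pi.zero_apply]
  · rintro _ ⟨v, hv, rfl⟩ i
    rw [Matrix.toLin'_apply, leviM, Matrix.fromBlocks_mulVec]
    simp only [Sum.elim_inl, Matrix.zero_mulVec, add_zero, Pi.add_apply, Pi.zero_apply]
    have : (v ∘ Sum.inl : Fin d → F) = 0 := funext (fun j => hv j)
    rw [this, Matrix.mulVec_zero, Pi.zero_apply]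

theorem act_eq_of_le (g h : Matrix (KK d) (KK d) F) (hgh : h * g = 1) (S : Submodule F (KK d → F))
    (h1 : act g S ≤ S) (h2 : act h S ≤ S) : act g S = S := by
  apply le_antisymm h1
  have h3 : act g (act h S) ≤ act g S := Submodule.map_mono h2
  have hgh' : g * h = 1 := mul_eq_one_comm.mp hgh
  rwa [← act_mul, hgh', act_one] at h3

theorem levSp_mem_stab (A : GL (Fin d) F) : levSp A ∈ stab d F := by
  rw [mem_stab]
  have hAA : leviM A⁻¹ * leviM A = 1 := by rw [← leviM_mul, inv_mul_cancel, leviM_one]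
  exact ⟨act_eq_of_le _ _ hAA _ (leviM_act_le A).1 (leviM_act_le A⁻¹).1,
    act_eq_of_le _ _ hAA _ (leviM_act_le A).2 (leviM_act_le A⁻¹).2⟩

theorem card_GL_dvd_card_stab [Fintype F] :
    Nat.card (GL (Fin d) F) ∣ Nat.card (stab d F) := by
  let φ : GL (Fin d) F →* ↥(stab d F) := levSp.codRestrict (stab d F) levSp_mem_stab
  apply Subgroup.card_dvd_of_injective φ
  intro A B h
  apply levSp_injective
  exact congrArg Subtype.val h

end levi

section trans
variable {d : ℕ} {F : Type*} [Field F]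

theorem span_coe_basis {V : Type*} [AddCommGroup V] [Module F V] (U : Submodule F V) {ι : Type*}
    (u : Basis ι F U) : Submodule.span F (Set.range (fun i => (u i : V))) = U := by
  have h1 : (fun i => (u i : V)) = U.subtype ∘ u := rfl
  rw [h1, Set.range_comp, ← Submodule.map_span, u.span_eq, Submodule.map_subtype_top]

theorem equivFun_symm_single {V : Type*} [AddCommGroup V] [Module F V] {ι : Type*} [Fintype ι]
    [DecidableEq ι] (b : Basis ι F V) (k : ι) : b.equivFun.symm (Pi.single k 1) = b k := by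
  rw [LinearEquiv.symm_apply_eq]
  funext j
  rw [Basis.equivFun_self, Pi.single_apply]
  simp only [eq_comm]

theorem transitive (U W : Submodule F (KK d → F)) (hc : IsCompl U W)
    (hU : ∀ u ∈ U, ∀ v ∈ U, Cfsg.sympForm d F u v = 0)
    (hW : ∀ u ∈ W, ∀ v ∈ W, Cfsg.sympForm d F u v = 0) :
    ∃ g : ↥(Matrix.symplecticGroup (Fin d) F),
      act g.1 (U0 d F) = U ∧ act g.1 (W0 d F) = W := by
  classical
  obtain ⟨B, hBdef⟩ : ∃ B : LinearMap.BilinForm F (KK d → F), B = sympB (F := F) d := ⟨_, rfl⟩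
  have hBs : ∀ u v, B u v = Cfsg.sympForm d F u v := fun u v => by rw [hBdef, sympB_apply]
  have hBU : ∀ u ∈ U, ∀ v ∈ U, B u v = 0 := fun u hu v hv => by rw [hBs]; exact hU u hu v hv
  have hBW : ∀ u ∈ W, ∀ v ∈ W, B u v = 0 := fun u hu v hv => by rw [hBs]; exact hW u hu v hv
  have hnd : ∀ x, (∀ y, B x y = 0) → x = 0 := by
    rw [hBdef]; exact (sympB_nondeg (F := F) d).1
  have halt : ∀ v, B v v = 0 := by
    rw [hBdef]; exact sympB_alt d
  have hskew : ∀ u v, B u v = - B v u := fun u v => alt_skew B halt u v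
  have hdecomp : ∀ v : KK d → F, ∃ u ∈ U, ∃ w ∈ W, v = u + w := by
    intro v
    have : v ∈ U ⊔ W := by rw [hc.sup_eq_top]; trivial
    obtain ⟨u, hu, w, hw, rfl⟩ := Submodule.mem_sup.mp this
    exact ⟨u, hu, w, hw, rfl⟩
  -- the pairing maps
  let τW : W →ₗ[F] Dual F U := B.domRestrict₁₂ W U
  let τU : U →ₗ[F] Dual F W := B.domRestrict₁₂ U W
  have hτW_apply : ∀ (w : W) (u : U), τW w u = B (w : KK d → F) (u : KK d → F) := fun w u => rfl
  have hτU_apply : ∀ (u : U) (w : W), τU u w = B (u : KK d → F) (w : KK d → F) := fun u w => rfl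
  have hτW : Function.Injective τW := by
    rw [injective_iff_map_eq_zero]
    intro w hw
    apply Subtype.ext
    apply hnd
    intro v
    obtain ⟨u, hu, w', hw', rfl⟩ := hdecomp v
    rw [map_add, hBW _ w.2 _ hw', add_zero]
    have := LinearMap.congr_fun hw ⟨u, hu⟩
    rwa [hτW_apply] at this
  have hτU : Function.Injective τU := by
    rw [injective_iff_map_eq_zero]
    intro u hu
    apply Subtype.ext
    apply hnd
    intro v
    obtain ⟨u', hu', w, hw, rfl⟩ := hdecomp v
    rw [map_add, hBU _ u.2 _ hu', zero_add]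
    have := LinearMap.congr_fun hu ⟨w, hw⟩
    rwa [hτU_apply] at this
  have h1 : finrank F W ≤ finrank F U := by
    have := LinearMap.finrank_le_finrank_of_injective hτW
    rwa [Subspace.dual_finrank_eq] at this
  have h2 : finrank F U ≤ finrank F W := by
    have := LinearMap.finrank_le_finrank_of_injective hτU
    rwa [Subspace.dual_finrank_eq] at this
  have hsum : finrank F U + finrank F W = 2 * d := by
    rw [Submodule.finrank_add_eq_of_isCompl hc, Module.finrank_fintype_fun_eq_card,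
      Fintype.card_sum, Fintype.card_fin]
    ring
  have hUd : finrank F U = d := by omega
  have hWd : finrank F W = d := by omega
  let τ : W ≃ₗ[F] Dual F U := LinearEquiv.ofBijective τW ⟨hτW,
    (LinearMap.injective_iff_surjective_of_finrank_eq_finrank
      (by rw [Subspace.dual_finrank_eq]; omega)).mp hτW⟩
  have hτ : ∀ w, τ w = τW w := fun w => rfl
  let u : Basis (Fin d) F U := Module.finBasisOfFinrankEq F U hUd
  let wB : Basis (Fin d) F W := u.dualBasis.map τ.symm
  have hpair : ∀ i j, B (wB i : KK d → F) (u j : KK d → F) = if i = j then 1 else 0 := by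
    intro i j
    rw [← hτW_apply, ← hτ]
    have : τ (wB i) = u.dualBasis i := by
      simp only [wB, Basis.map_apply, LinearEquiv.apply_symm_apply]
    rw [this, Basis.dualBasis_apply_self]
    simp only [eq_comm]
  let b : Basis (KK d) F (KK d → F) :=
    (wB.prod u).map (Submodule.prodEquivOfIsCompl W U hc.symm)
  have hbl : ∀ i, b (.inl i) = (wB i : KK d → F) := by
    intro i
    simp [b, Submodule.coe_prodEquivOfIsCompl']
  have hbr : ∀ i, b (.inr i) = (u i : KK d → F) := by
    intro i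
    simp [b, Submodule.coe_prodEquivOfIsCompl']
  have hsymp : IsSymp B b := by
    constructor
    · intro i j
      rw [hbl, hbr, hpair]
    · intro i j
      rw [hbl, hbl]
      exact hBW _ (wB i).2 _ (wB j).2
    · intro i j
      rw [hbr, hbr]
      exact hBU _ (u i).2 _ (u j).2
  have hB := sympForm_of_isSymp B halt b hsymp
  set b' := b.reindex (Equiv.sumComm (Fin d) (Fin d)) with hb'
  have hb'l : ∀ i, b' (.inl i) = (u i : KK d → F) := by
    intro i
    rw [hb', Basis.reindex_apply]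
    exact hbr i
  have hb'r : ∀ i, b' (.inr i) = (wB i : KK d → F) := by
    intro i
    rw [hb', Basis.reindex_apply]
    exact hbl i
  let e' : (KK d → F) ≃ₗ[F] (KK d → F) := b'.equivFun.symm
  have hg : LinearMap.toMatrix' (e' : (KK d → F) →ₗ[F] (KK d → F)) ∈
      Matrix.symplecticGroup (Fin d) F := by
    rw [mem_symplecticGroup_iff_sympForm']
    intro x y
    rw [LinearMap.toMatrix'_mulVec, LinearMap.toMatrix'_mulVec, ← hBs, hB]
    show Cfsg.sympForm d F (b'.equivFun (b'.equivFun.symm x)) (b'.equivFun (b'.equivFun.symm y)) = _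
    rw [LinearEquiv.apply_symm_apply, LinearEquiv.apply_symm_apply]
  refine ⟨⟨_, hg⟩, ?_, ?_⟩
  · unfold act
    rw [Matrix.toLin'_toMatrix', U0_eq_span, Submodule.map_span, ← Set.range_comp]
    have : ((e' : (KK d → F) →ₗ[F] (KK d → F)) ∘ fun i : Fin d =>
        (Pi.single (Sum.inl i) 1 : KK d → F)) = fun i => (u i : KK d → F) := by
      funext i
      show b'.equivFun.symm (Pi.single (Sum.inl i) 1) = _
      rw [equivFun_symm_single, hb'l]
    rw [this, span_coe_basis]
  · unfold act
    rw [Matrix.toLin'_toMatrix', W0_eq_span, Submodule.map_span, ← Set.range_comp]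
    have : ((e' : (KK d → F) →ₗ[F] (KK d → F)) ∘ fun i : Fin d =>
        (Pi.single (Sum.inr i) 1 : KK d → F)) = fun i => (wB i : KK d → F) := by
      funext i
      show b'.equivFun.symm (Pi.single (Sum.inr i) 1) = _
      rw [equivFun_symm_single, hb'r]
    rw [this, span_coe_basis]

end trans

section count
variable {d : ℕ} {F : Type*} [Field F]

theorem sympForm_eq_sum (u v : KK d → F) :
    Cfsg.sympForm d F u v = -(∑ i, u (.inl i) * v (.inr i)) + ∑ i, u (.inr i) * v (.inl i) := by
  unfold Cfsg.sympForm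
  simp only [Matrix.J, dotProduct, Fintype.sum_sum_type, Matrix.mulVec, Matrix.fromBlocks_apply₁₁,
    Matrix.fromBlocks_apply₁₂, Matrix.fromBlocks_apply₂₁, Matrix.fromBlocks_apply₂₂,
    Matrix.zero_apply, zero_mul, Finset.sum_const_zero, zero_add, add_zero, Matrix.neg_apply,
    Matrix.one_apply, neg_mul, ite_mul, one_mul, Finset.sum_neg_distrib, Finset.sum_ite_eq,
    Finset.mem_univ, if_true, mul_neg]

theorem iso_U0 : ∀ u ∈ U0 d F, ∀ v ∈ U0 d F, Cfsg.sympForm d F u v = 0 := by
  intro u hu v hv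
  rw [sympForm_eq_sum]
  simp only [(mem_U0 u).mp hu, (mem_U0 v).mp hv, mul_zero, zero_mul, Finset.sum_const_zero,
    neg_zero, add_zero]

theorem iso_W0 : ∀ u ∈ W0 d F, ∀ v ∈ W0 d F, Cfsg.sympForm d F u v = 0 := by
  intro u hu v hv
  rw [sympForm_eq_sum]
  simp only [(mem_W0 u).mp hu, (mem_W0 v).mp hv, mul_zero, zero_mul, Finset.sum_const_zero,
    neg_zero, add_zero]

theorem isCompl_std : IsCompl (U0 d F) (W0 d F) := by
  constructor
  · rw [Submodule.disjoint_def]
    intro v hU hW
    funext k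
    rcases k with k | k
    · exact hW k
    · exact hU k
  · rw [codisjoint_iff, eq_top_iff]
    intro v _
    have : v = (fun k => Sum.elim (fun i => v (.inl i)) (fun _ => 0) k) +
        (fun k => Sum.elim (fun _ => 0) (fun i => v (.inr i)) k) := by
      funext k
      rcases k with k | k <;> simp
    rw [this]
    exact Submodule.add_mem_sup (fun i => rfl) (fun i => rfl)

/-- the linear automorphism of a symplectic matrix -/
def linEquiv (g : ↥(Matrix.symplecticGroup (Fin d) F)) : (KK d → F) ≃ₗ[F] (KK d → F) :=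
  LinearEquiv.ofLinearMap (Matrix.toLin' g.1) (Matrix.toLin' (g⁻¹).1)
    (by
      rw [← Matrix.toLin'_mul, ← Matrix.toLin'_one]
      congr 1
      have : (g * g⁻¹).1 = 1 := by rw [mul_inv_cancel]; rfl
      exact this)
    (by
      rw [← Matrix.toLin'_mul, ← Matrix.toLin'_one]
      congr 1
      have : (g⁻¹ * g).1 = 1 := by rw [inv_mul_cancel]; rfl
      exact this)

theorem act_eq_map_linEquiv (g : ↥(Matrix.symplecticGroup (Fin d) F))
    (S : Submodule F (KK d → F)) : act g.1 S = S.map (linEquiv g : (KK d → F) →ₗ[F] (KK d → F)) :=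
  rfl

theorem isCompl_act (g : ↥(Matrix.symplecticGroup (Fin d) F)) {U W : Submodule F (KK d → F)}
    (h : IsCompl U W) : IsCompl (act g.1 U) (act g.1 W) := by
  rw [act_eq_map_linEquiv, act_eq_map_linEquiv]
  exact h.map (Submodule.orderIsoMapComap (linEquiv g))

theorem iso_act (g : ↥(Matrix.symplecticGroup (Fin d) F)) {U : Submodule F (KK d → F)}
    (h : ∀ u ∈ U, ∀ v ∈ U, Cfsg.sympForm d F u v = 0) :
    ∀ u ∈ act g.1 U, ∀ v ∈ act g.1 U, Cfsg.sympForm d F u v = 0 := by
  rintro _ ⟨a, ha, rfl⟩ _ ⟨b, hb, rfl⟩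
  rw [Matrix.toLin'_apply, Matrix.toLin'_apply,
    (Cfsg.Agent.Lib.H4.mem_symplecticGroup_iff_sympForm d _).mp g.2]
  exact h a ha b hb

/-- the set of polar pairs -/
abbrev Pairs (d : ℕ) (F : Type*) [Field F] : Type _ :=
  {P : Submodule F (Fin d ⊕ Fin d → F) × Submodule F (Fin d ⊕ Fin d → F) //
    IsCompl P.1 P.2 ∧ (∀ u ∈ P.1, ∀ v ∈ P.1, Cfsg.sympForm d F u v = 0) ∧
      (∀ u ∈ P.2, ∀ v ∈ P.2, Cfsg.sympForm d F u v = 0)}

theorem card_pairs_mul [Fintype F] :
    Nat.card (Pairs d F) * Nat.card (stab d F) =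
      Nat.card ↥(Matrix.symplecticGroup (Fin d) F) := by
  let Ψ : ↥(Matrix.symplecticGroup (Fin d) F) → Pairs d F := fun g =>
    ⟨(act g.1 (U0 d F), act g.1 (W0 d F)), isCompl_act g isCompl_std, iso_act g iso_U0,
      iso_act g iso_W0⟩
  apply card_of_transitive Ψ
  · rintro ⟨⟨U, W⟩, hc, hU, hW⟩
    obtain ⟨g, h1, h2⟩ := transitive U W hc hU hW
    refine ⟨g, Subtype.ext ?_⟩
    show (act g.1 (U0 d F), act g.1 (W0 d F)) = (U, W)
    rw [h1, h2]
  · intro g h
    have hg : (g⁻¹).1 * g.1 = 1 := by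
      have : (g⁻¹ * g).1 = 1 := by rw [inv_mul_cancel]; rfl
      exact this
    have hg' : g.1 * (g⁻¹).1 = 1 := by
      have : (g * g⁻¹).1 = 1 := by rw [mul_inv_cancel]; rfl
      exact this
    have key : ∀ S : Submodule F (KK d → F), act g.1 S = act h.1 S ↔ act (g⁻¹ * h).1 S = S := by
      intro S
      have hm : (g⁻¹ * h).1 = (g⁻¹).1 * h.1 := rfl
      constructor
      · intro e
        rw [hm, act_mul, ← e, ← act_mul, hg, act_one]
      · intro e
        rw [hm, act_mul] at e
        have h3 := congrArg (act g.1) e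
        rw [← act_mul, hg', act_one] at h3
        exact h3.symm
    rw [mem_stab, ← key, ← key]
    constructor
    · intro e
      have := congrArg Subtype.val e
      exact ⟨congrArg Prod.fst this, congrArg Prod.snd this⟩
    · rintro ⟨e1, e2⟩
      apply Subtype.ext
      show (act g.1 (U0 d F), act g.1 (W0 d F)) = (act h.1 (U0 d F), act h.1 (W0 d F))
      rw [e1, e2]

end count

section arith
variable {d : ℕ} {F : Type*} [Field F] [Fintype F]

theorem even_card_pairs (hd : 1 ≤ d) : 2 ∣ Nat.card (Pairs d F) := by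
  classical
  haveI : Fintype (Pairs d F) := Fintype.ofFinite _
  rw [Nat.card_eq_fintype_card]
  let σ : Equiv.Perm (Pairs d F) :=
    { toFun := fun P => ⟨(P.1.2, P.1.1), P.2.1.symm, P.2.2.2, P.2.2.1⟩
      invFun := fun P => ⟨(P.1.2, P.1.1), P.2.1.symm, P.2.2.2, P.2.2.1⟩
      left_inv := fun P => rfl
      right_inv := fun P => rfl }
  haveI : Fact (Nat.Prime 2) := ⟨Nat.prime_two⟩
  apply SingerConj.dvd_card_of_fpf σ 2
  · apply Equiv.ext
    intro P
    rw [sq, Equiv.Perm.mul_apply]
    rfl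
  · rintro ⟨⟨U, W⟩, hc, hU, hW⟩ h
    have h1 : W = U := congrArg (fun P : Pairs d F => P.1.1) h
    subst h1
    have htop : (⊤ : Submodule F (KK d → F)) = ⊥ := by
      rw [← hc.sup_eq_top, ← hc.inf_eq_bot, sup_idem, inf_idem]
    have hmem : (Pi.single (Sum.inl ⟨0, hd⟩) 1 : KK d → F) ∈ (⊥ : Submodule F (KK d → F)) := by
      rw [← htop]; trivial
    rw [Submodule.mem_bot] at hmem
    have := congrFun hmem (Sum.inl ⟨0, hd⟩)
    simp at this

theorem sq_sub_one (a : ℕ) (ha : 1 ≤ a) : a ^ 2 - 1 = (a - 1) * (a + 1) := by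
  obtain ⟨b, rfl⟩ := Nat.exists_eq_add_of_le' ha
  rw [Nat.add_sub_cancel]
  have : (b + 1) ^ 2 = b * (b + 1 + 1) + 1 := by ring
  rw [this, Nat.add_sub_cancel]

theorem card_Sp_eq (q : ℕ) (hq : Fintype.card F = q) :
    Nat.card ↥(Matrix.symplecticGroup (Fin d) F) =
      Nat.card (GL (Fin d) F) * (q ^ (d * (d + 1) / 2) * ∏ i ∈ Finset.range d, (q ^ (i + 1) + 1)) := by
  have hq1 : 1 ≤ q := by rw [← hq]; exact Fintype.card_pos
  rw [Cfsg.Agent.Lib.H2.Sp.card_Sp, Cfsg.Agent.S0263.card_GL_factor, hq]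
  have ha : ∏ i ∈ Finset.range d, (q ^ (d - i) - 1) = ∏ i ∈ Finset.range d, (q ^ (i + 1) - 1) := by
    rw [← Finset.prod_range_reflect (fun j => q ^ (j + 1) - 1) d]
    refine Finset.prod_congr rfl (fun i hi => ?_)
    rw [Finset.mem_range] at hi
    congr 2
    omega
  have hb : ∏ i ∈ Finset.range d, (q ^ (2 * (i + 1)) - 1) =
      (∏ i ∈ Finset.range d, (q ^ (i + 1) - 1)) * ∏ i ∈ Finset.range d, (q ^ (i + 1) + 1) := by
    rw [← Finset.prod_mul_distrib]
    refine Finset.prod_congr rfl (fun i _ => ?_)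
    rw [mul_comm 2, pow_mul, sq_sub_one _ (Nat.one_le_pow _ _ hq1)]
  have hc : d ^ 2 = d * (d - 1) / 2 + d * (d + 1) / 2 := by
    obtain ⟨a, ha⟩ : ∃ a, d * (d - 1) = 2 * a := by
      obtain ⟨a, ha⟩ := Nat.even_mul_pred_self d
      exact ⟨a, by omega⟩
    have h2 : d * (d + 1) = 2 * (a + d) := by
      rcases d with _ | d
      · simp at ha ⊢; omega
      · simp only [Nat.add_sub_cancel] at ha
        have : (d + 1) * (d + 1 + 1) = (d + 1) * d + 2 * (d + 1) := by ring
        rw [this, ha]; ring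
    have h3 : d ^ 2 = 2 * a + d := by
      rcases d with _ | d
      · simp at ha ⊢; omega
      · simp only [Nat.add_sub_cancel] at ha
        have : (d + 1) ^ 2 = (d + 1) * d + (d + 1) := by ring
        rw [this, ha]
    rw [ha, h2, Nat.mul_div_cancel_left _ (by norm_num), Nat.mul_div_cancel_left _ (by norm_num), h3]
    ring
  rw [ha, hb, hc, pow_add]
  ring

theorem exists_dvd (q : ℕ) (hq : Fintype.card F = q) (hd : 1 ≤ d) (r : ℕ) (hr : r.Prime)
    (hrq : ¬ r ∣ q) (hΩ : r ∣ Nat.card (Pairs d F) / 2) :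
    ∃ j, 1 ≤ j ∧ j ≤ d ∧ r ∣ q ^ j + 1 := by
  have h1 : r ∣ Nat.card (Pairs d F) := by
    obtain ⟨c, hc⟩ := even_card_pairs (d := d) (F := F) hd
    rw [hc, Nat.mul_div_cancel_left _ (by norm_num)] at hΩ
    rw [hc]
    exact Dvd.dvd.mul_left hΩ 2
  obtain ⟨m, hm⟩ := card_GL_dvd_card_stab (d := d) (F := F)
  have h2 := card_pairs_mul (d := d) (F := F)
  rw [card_Sp_eq q hq, hm] at h2
  have hGL : 0 < Nat.card (GL (Fin d) F) := Nat.card_pos
  have h3 : Nat.card (Pairs d F) * m =
      q ^ (d * (d + 1) / 2) * ∏ i ∈ Finset.range d, (q ^ (i + 1) + 1) := by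
    apply Nat.eq_of_mul_eq_mul_left hGL
    rw [← h2]
    ring
  have h4 : r ∣ q ^ (d * (d + 1) / 2) * ∏ i ∈ Finset.range d, (q ^ (i + 1) + 1) := by
    rw [← h3]
    exact Dvd.dvd.mul_right h1 m
  rcases (Nat.Prime.dvd_mul hr).mp h4 with h5 | h5
  · exact absurd (hr.dvd_of_dvd_pow h5) hrq
  · rw [Prime.dvd_finsetProd_iff (Nat.prime_iff.mp hr)] at h5
    obtain ⟨i, hi, hdvd⟩ := h5
    rw [Finset.mem_range] at hi
    exact ⟨i + 1, by omega, by omega, hdvd⟩

end arith

end Cfsg.Agent.Lib.H13.SpPairs
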