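import Mathlib
import Cfsg.Agent.Lib.H3.DF0

/-!
# S4316 pieces D2 `isPlane_sup_zpowers`, D3 `exists_compl_plane`, D3' `isEpp_of_isPlane` (helper13)

Planes of an elementary abelian group `A` of order `q ^ 3` (ambient form).
-/

set_option autoImplicit false

universe u

namespace Cfsg.Agent.Lib.H13.DF

open Subgroup Cfsg.Agent.Lib.H3.DF
open scoped commutatorElement

variable {Γ : Type u} [Group Γ] [Finite Γ]

omit [Finite Γ] in
/-- `|N| |K : N| = |K|` for `N ≤ K`. -/
theorem card_mul_relIndex_aux {N K : Subgroup Γ} (h : N ≤ K) :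
    Nat.card N * N.relIndex K = Nat.card K := by
  have h1 := Subgroup.card_mul_index (N.subgroupOf K)
  rw [Nat.card_congr (Subgroup.subgroupOfEquivOfLe h).toEquiv] at h1
  exact h1

omit [Finite Γ] in
/-- The product formula for `H ⊔ N` when `H` normalizes `N`. -/
theorem card_sup_mul_card_inf_aux {H N : Subgroup Γ}
    (h : H ≤ normalizer (N : Set Γ)) :
    Nat.card (H ⊔ N : Subgroup Γ) * Nat.card (H ⊓ N : Subgroup Γ) = Nat.card H * Nat.card N := by
  have := Subgroup.normal_subgroupOf_of_le_normalizer h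
  have := Subgroup.normal_subgroupOf_sup_of_le_normalizer h
  have h0 : N.relIndex (H ⊔ N) = N.relIndex H := by
    unfold Subgroup.relIndex Subgroup.index
    exact (Nat.card_congr (QuotientGroup.quotientInfEquivProdNormalizerQuotient H N h).toEquiv).symm
  have h1 : Nat.card N * N.relIndex (H ⊔ N) = Nat.card (H ⊔ N : Subgroup Γ) :=
    card_mul_relIndex_aux le_sup_right
  have h2 : Nat.card (H ⊓ N : Subgroup Γ) * (H ⊓ N).relIndex H = Nat.card H :=
    card_mul_relIndex_aux inf_le_left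
  have h3 : (H ⊓ N).relIndex H = N.relIndex H := by
    rw [inf_comm]; exact Subgroup.inf_relIndex_right N H
  rw [← h1, ← h2, h0, h3]
  ring

omit [Finite Γ] in
/-- A nontrivial element of `A` generates a subgroup of order `q`. -/
theorem card_zpowers_of_mem {q : ℕ} [Fact q.Prime] {A : Subgroup Γ} (hA : IsE3 q A) {c : Γ}
    (hc : c ∈ A) (hc1 : c ≠ 1) : Nat.card (zpowers c) = q := by
  rw [Nat.card_zpowers]
  exact orderOf_eq_prime (hA.exp c hc) hc1

/-- If `b ≠ 1` lies in `⟨c⟩` (both in `A`) then `⟨b⟩ = ⟨c⟩`. -/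
theorem zpowers_eq_of_mem {q : ℕ} [Fact q.Prime] {A : Subgroup Γ} (hA : IsE3 q A) {b c : Γ}
    (hb : b ∈ A) (hc : c ∈ A) (hb1 : b ≠ 1) (hbc : b ∈ zpowers c) : zpowers b = zpowers c := by
  have hc1 : c ≠ 1 := by
    rintro rfl
    apply hb1
    rw [zpowers_one_eq_bot, mem_bot] at hbc
    exact hbc
  apply Subgroup.eq_of_le_of_card_ge (zpowers_le.mpr hbc)
  rw [card_zpowers_of_mem hA hb hb1, card_zpowers_of_mem hA hc hc1]

/-- D2. `⟨b, c⟩` is a plane when `c ≠ 1` and `b ∉ ⟨c⟩`. -/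
theorem isPlane_sup_zpowers {q : ℕ} [Fact q.Prime] {A : Subgroup Γ} (hA : IsE3 q A) {b c : Γ}
    (hb : b ∈ A) (hc : c ∈ A) (hc1 : c ≠ 1) (hbc : b ∉ zpowers c) :
    IsPlane q A (zpowers b ⊔ zpowers c) := by
  have hq : q.Prime := Fact.out
  refine ⟨sup_le (zpowers_le.mpr hb) (zpowers_le.mpr hc), ?_⟩
  have hb1 : b ≠ 1 := by
    rintro rfl
    exact hbc (one_mem _)
  have hcb : Nat.card (zpowers b) = q := card_zpowers_of_mem hA hb hb1
  have hcc : Nat.card (zpowers c) = q := card_zpowers_of_mem hA hc hc1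
  -- the intersection is trivial
  have hI : Nat.card (zpowers b ⊓ zpowers c : Subgroup Γ) = 1 := by
    have hdvd : Nat.card (zpowers b ⊓ zpowers c : Subgroup Γ) ∣ q := by
      rw [← hcc]; exact Subgroup.card_dvd_of_le inf_le_right
    rcases (Nat.dvd_prime hq).mp hdvd with h1 | h1
    · exact h1
    · exfalso
      have e1 : (zpowers b ⊓ zpowers c : Subgroup Γ) = zpowers c :=
        Subgroup.eq_of_le_of_card_ge inf_le_right (by rw [h1, hcc])
      have e2 : (zpowers b ⊓ zpowers c : Subgroup Γ) = zpowers b :=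
        Subgroup.eq_of_le_of_card_ge inf_le_left (by rw [h1, hcb])
      apply hbc
      rw [← e1, e2]
      exact mem_zpowers b
  -- `⟨b⟩` normalizes `⟨c⟩`
  have hcomm : Commute b c := hA.comm b hb c hc
  have hnorm : zpowers b ≤ normalizer ((zpowers c : Subgroup Γ) : Set Γ) := by
    have h1 : zpowers b ≤ centralizer ((zpowers c : Subgroup Γ) : Set Γ) := by
      rw [zpowers_le, mem_centralizer_iff]
      intro k hk
      obtain ⟨n, rfl⟩ := mem_zpowers_iff.mp hk
      exact ((hcomm.zpow_right n).symm).eq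
    exact h1.trans (Subgroup.centralizer_le_normalizer _)
  have := card_sup_mul_card_inf_aux hnorm
  rw [hI, hcb, hcc, mul_one] at this
  rw [this, sq]

set_option linter.unusedSectionVars false in
/-- D3'. A plane is an `IsEpp` group. (`[Finite Γ]` kept: exact sig.) -/
theorem isEpp_of_isPlane {q : ℕ} {A B : Subgroup Γ} (hA : IsE3 q A) (hB : IsPlane q A B) :
    Cfsg.Agent.Lib.H16.IsEpp q B :=
  ⟨fun a ha b hb => hA.comm a (hB.1 ha) b (hB.1 hb), fun a ha => hA.exp a (hB.1 ha), hB.2⟩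

/-- a subgroup of `A` of smaller order misses some element of `A`. -/
theorem exists_mem_not_mem_of_card_lt {A S : Subgroup Γ} (h : Nat.card S < Nat.card A) :
    ∃ x ∈ A, x ∉ S := by
  by_contra hcon
  push Not at hcon
  have : A ≤ S := hcon
  exact absurd (Subgroup.card_le_of_le this) (not_le.mpr h)

/-- D3. A plane of `A` avoiding `⟨c⟩`, with generators. -/
theorem exists_compl_plane {q : ℕ} [Fact q.Prime] {A : Subgroup Γ} (hA : IsE3 q A) {c : Γ}
    (hc : c ∈ A) (hc1 : c ≠ 1) :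
    ∃ x ∈ A, ∃ y ∈ A, x ≠ 1 ∧ y ∉ zpowers x ∧ IsPlane q A (zpowers x ⊔ zpowers y) ∧
      ∀ b ∈ zpowers x ⊔ zpowers y, b ≠ 1 → b ∉ zpowers c := by
  have hq : q.Prime := Fact.out
  have hq1 : 1 < q := hq.one_lt
  -- `x ∈ A ∖ ⟨c⟩`
  obtain ⟨x, hxA, hxc⟩ : ∃ x ∈ A, x ∉ zpowers c := by
    apply exists_mem_not_mem_of_card_lt
    rw [card_zpowers_of_mem hA hc hc1, hA.card]
    calc q = q ^ 1 := (pow_one q).symm
      _ < q ^ 3 := Nat.pow_lt_pow_right hq1 (by norm_num)
  have hx1 : x ≠ 1 := by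
    rintro rfl
    exact hxc (one_mem _)
  have hC1 : IsPlane q A (zpowers x ⊔ zpowers c) := isPlane_sup_zpowers hA hxA hc hc1 hxc
  -- `y ∈ A ∖ ⟨x, c⟩`
  obtain ⟨y, hyA, hyC⟩ : ∃ y ∈ A, y ∉ zpowers x ⊔ zpowers c := by
    apply exists_mem_not_mem_of_card_lt
    rw [hC1.2, hA.card]
    exact Nat.pow_lt_pow_right hq1 (by norm_num)
  have hy1 : y ≠ 1 := by
    rintro rfl
    exact hyC (one_mem _)
  have hyx : y ∉ zpowers x := fun hy => hyC ((le_sup_left : zpowers x ≤ _) hy)
  have hxy : x ∉ zpowers y := by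
    intro hx
    have := zpowers_eq_of_mem hA hxA hyA hx1 hx
    apply hyx
    rw [this]
    exact mem_zpowers y
  have hB1 : IsPlane q A (zpowers x ⊔ zpowers y) := isPlane_sup_zpowers hA hxA hyA hy1 hxy
  refine ⟨x, hxA, y, hyA, hx1, hyx, hB1, ?_⟩
  intro b hb hb1 hbc
  have hbA : b ∈ A := hB1.1 hb
  have hzz : zpowers b = zpowers c := zpowers_eq_of_mem hA hbA hc hb1 hbc
  have hcB : c ∈ zpowers x ⊔ zpowers y := by
    have : zpowers c ≤ zpowers x ⊔ zpowers y := by
      rw [← hzz, zpowers_le]; exact hb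
    exact this (mem_zpowers c)
  have hle : zpowers x ⊔ zpowers c ≤ zpowers x ⊔ zpowers y :=
    sup_le le_sup_left (zpowers_le.mpr hcB)
  have heq : zpowers x ⊔ zpowers c = zpowers x ⊔ zpowers y :=
    Subgroup.eq_of_le_of_card_ge hle (by rw [hC1.2, hB1.2])
  apply hyC
  rw [heq]
  exact (le_sup_right : zpowers y ≤ _) (mem_zpowers y)

end Cfsg.Agent.Lib.H13.DF
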