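import Mathlib
import Cfsg.Agent.Lib.H3.DF0
import Cfsg.Agent.Lib.H9.CoprimeGeneration
import Cfsg.Agent.Lib.H13.DFD2

/-!
# S4316 pieces D4a `le_of_inf_HB_le` and D4b `le_of_HB_le` (helper13; twin)

Generation by centralizers of planes (coprime action of a noncyclic group), on
`Cfsg.Agent.Lib.H9.le_of_centralizers_le` and the plane lemmas D2/D3.
-/

set_option autoImplicit false

universe u

namespace Cfsg.Agent.Lib.H13.DF

open Subgroup Cfsg.Agent.Lib.H3.DF
open scoped commutatorElement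

variable {Γ : Type u} [Group Γ] [Finite Γ]

omit [Finite Γ] in
/-- `A` normalizes `C_G(c)` for `c ∈ A`. -/
theorem le_normalizer_Gc {q m : ℕ} {G A : Subgroup Γ} (h : DHyp q m G A) {c : Γ} (hc : c ∈ A) :
    A ≤ normalizer (Gc G c : Set Γ) := by
  intro a ha
  rw [mem_normalizer_iff]
  intro g
  have hac : Commute a c := h.e3.comm a ha c hc
  have hG : g ∈ G ↔ a * g * a⁻¹ ∈ G := mem_normalizer_iff.mp (h.norm ha) g
  unfold Gc
  rw [mem_inf, mem_inf, mem_centralizer_singleton_iff, mem_centralizer_singleton_iff, ← hG]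
  constructor
  · rintro ⟨h1, h2⟩
    refine ⟨h1, ?_⟩
    have h2' : Commute g c := h2
    exact ((hac.mul_left h2').mul_left hac.inv_left).eq
  · rintro ⟨h1, h2⟩
    refine ⟨h1, ?_⟩
    have h2' : Commute (a * g * a⁻¹) c := h2
    have e1 : g = a⁻¹ * (a * g * a⁻¹) * a := by group
    have : Commute (a⁻¹ * (a * g * a⁻¹) * a) c := (hac.inv_left.mul_left h2').mul_left hac
    rw [← e1] at this
    exact this.eq

omit [Finite Γ] in
/-- an element centralizing `b` and `c` centralizes `⟨b⟩ ⊔ ⟨c⟩`. -/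
theorem mem_centralizer_sup_zpowers {g b c : Γ} (hb : g * b = b * g) (hc : g * c = c * g) :
    g ∈ centralizer ((zpowers b ⊔ zpowers c : Subgroup Γ) : Set Γ) := by
  rw [mem_centralizer_iff]
  intro k hk
  have hle : zpowers b ⊔ zpowers c ≤ centralizer ({g} : Set Γ) := by
    apply sup_le
    · rw [zpowers_le, mem_centralizer_singleton_iff]; exact hb.symm
    · rw [zpowers_le, mem_centralizer_singleton_iff]; exact hc.symm
  have := hle hk
  rw [mem_centralizer_singleton_iff] at this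
  exact this

/-- D4a. An `A`-invariant subgroup `X` of `C_G(c)` is generated by the `X ∩ C_G(B)`, `B` a plane
through `c`. -/
theorem le_of_inf_HB_le {q m : ℕ} [Fact q.Prime] {G A : Subgroup Γ} (h : DHyp q m G A) {c : Γ}
    (hc : c ∈ A) (hc1 : c ≠ 1) (X W : Subgroup Γ) (hX : X ≤ Gc G c)
    (hAX : A ≤ normalizer (X : Set Γ))
    (hW : ∀ B, IsPlane q A B → c ∈ B → X ⊓ HB G B ≤ W) : X ≤ W := by
  have hq : q.Prime := Fact.out
  obtain ⟨x, hxA, y, hyA, hx1, hyx, _, hav⟩ := exists_compl_plane h.e3 hc hc1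
  have hXG : X ≤ G := hX.trans inf_le_left
  have hqX : ¬ q ∣ Nat.card X := fun hd => h.cop (hd.trans (Subgroup.card_dvd_of_le hXG))
  have hcopX : (Nat.card X).Coprime q := (Nat.Coprime.symm ((Nat.Prime.coprime_iff_not_dvd hq).mpr hqX))
  have hsolv : Group.IsSolvable ↥A := by
    apply Group.isSolvable_of_comm
    intro a b
    apply Subtype.ext
    exact h.e3.comm a a.2 b b.2
  have hact : Cfsg.Agent.Lib.H1.CoprimeAction A X :=
    ⟨hAX, by rw [h.e3.card]; exact (Nat.Coprime.pow_left 3 hcopX.symm), Or.inl hsolv⟩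
  -- the key: for `b ∈ ⟨x,y⟩`, `b ≠ 1`: `X ∩ C(b) ≤ W`
  have key : ∀ b ∈ zpowers x ⊔ zpowers y, b ≠ 1 → X ⊓ centralizer {b} ≤ W := by
    intro b hb hb1
    have hbA : b ∈ A := (sup_le (zpowers_le.mpr hxA) (zpowers_le.mpr hyA)) hb
    have hbc : b ∉ zpowers c := hav b hb hb1
    have hpl : IsPlane q A (zpowers b ⊔ zpowers c) := isPlane_sup_zpowers h.e3 hbA hc hc1 hbc
    have hcB : c ∈ zpowers b ⊔ zpowers c := (le_sup_right : zpowers c ≤ _) (mem_zpowers c)
    refine le_trans ?_ (hW _ hpl hcB)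
    intro g hg
    rw [mem_inf] at hg
    have hgc : g ∈ Gc G c := hX hg.1
    unfold Gc at hgc
    rw [mem_inf, mem_centralizer_singleton_iff] at hgc
    have hgb := hg.2
    rw [mem_centralizer_singleton_iff] at hgb
    refine mem_inf.mpr ⟨hg.1, ?_⟩
    unfold HB
    exact mem_inf.mpr ⟨hgc.1, mem_centralizer_sup_zpowers hgb hgc.2⟩
  refine Cfsg.Agent.Lib.H9.le_of_centralizers_le hact hcopX hxA hyA (h.e3.comm x hxA y hyA)
    (h.e3.exp x hxA) (h.e3.exp y hyA) ?_ ?_
  · exact key x ((le_sup_left : zpowers x ≤ _) (mem_zpowers x)) hx1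
  · intro i
    apply key
    · exact mul_mem ((le_sup_left : zpowers x ≤ _) (pow_mem (mem_zpowers x) i))
        ((le_sup_right : zpowers y ≤ _) (mem_zpowers y))
    · intro h1
      apply hyx
      have : y = (x ^ i)⁻¹ := by
        have := congrArg (fun t => (x ^ i)⁻¹ * t) h1
        simpa using this
      rw [this]
      exact inv_mem (pow_mem (mem_zpowers x) i)

/-- D4b. `G` is generated by the `C_G(B)`, `B` a plane. -/
theorem le_of_HB_le {q m : ℕ} [Fact q.Prime] {G A : Subgroup Γ} (h : DHyp q m G A) (W : Subgroup Γ)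
    (hW : ∀ B, IsPlane q A B → HB G B ≤ W) : G ≤ W := by
  have hq : q.Prime := Fact.out
  -- some `c ≠ 1` in `A`
  have hcardA : 1 < Nat.card A := by
    rw [h.e3.card]; exact Nat.one_lt_pow (by norm_num) hq.one_lt
  obtain ⟨c, hc, hc1⟩ : ∃ c ∈ A, c ≠ 1 := by
    by_contra hcon
    push Not at hcon
    have : A = ⊥ := (Subgroup.eq_bot_iff_forall A).mpr hcon
    rw [this, Subgroup.card_bot] at hcardA
    exact lt_irrefl _ hcardA
  obtain ⟨x, hxA, y, hyA, hx1, hyx, _, _⟩ := exists_compl_plane h.e3 hc hc1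
  have hqG : ¬ q ∣ Nat.card G := h.cop
  have hcopG : (Nat.card G).Coprime q := (Nat.Coprime.symm ((Nat.Prime.coprime_iff_not_dvd hq).mpr hqG))
  have hsolv : Group.IsSolvable ↥A := by
    apply Group.isSolvable_of_comm
    intro a b
    apply Subtype.ext
    exact h.e3.comm a a.2 b b.2
  have hact : Cfsg.Agent.Lib.H1.CoprimeAction A G :=
    ⟨h.norm, by rw [h.e3.card]; exact (Nat.Coprime.pow_left 3 hcopG.symm), Or.inl hsolv⟩
  have key : ∀ b ∈ A, b ≠ 1 → G ⊓ centralizer {b} ≤ W := by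
    intro b hbA hb1
    exact le_of_inf_HB_le h hbA hb1 (Gc G b) W le_rfl (le_normalizer_Gc h hbA)
      (fun B hB _ => inf_le_right.trans (hW B hB))
  refine Cfsg.Agent.Lib.H9.le_of_centralizers_le hact hcopG hxA hyA (h.e3.comm x hxA y hyA)
    (h.e3.exp x hxA) (h.e3.exp y hyA) ?_ ?_
  · exact key x hxA hx1
  · intro i
    apply key
    · exact mul_mem (pow_mem hxA i) hyA
    · intro h1
      apply hyx
      have : y = (x ^ i)⁻¹ := by
        have := congrArg (fun t => (x ^ i)⁻¹ * t) h1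
        simpa using this
      rw [this]
      exact inv_mem (pow_mem (mem_zpowers x) i)

end Cfsg.Agent.Lib.H13.DF
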