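import Mathlib
import Cfsg.Agent.Lib.H11.SpinSign
import Cfsg.Agent.Lib.H11.IsoReindex
import Cfsg.Prelude.Def_TwoFusion

set_option autoImplicit false
set_option linter.unreachableTactic false
set_option linter.dupNamespace false
set_option linter.unusedTactic false

/-!
# Signed permutation matrices in the orthogonal group of `-(x₀² + ⋯ + x₆²)` (helper13, S2647)

Definitions for the proof that the 2-fusion system of `Ω₇(q)`, `q ≡ ±3 (mod 8)`, is simple.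

* `Qn F`: the quadratic form `-(x₀² + ⋯ + x₆²)` on `Fin 7 → F`; `O7 F` its isometry group.
* `mono ε σ : O7 F`: the signed permutation matrix `e_j ↦ ε_{σ j} e_{σ j}`;
  `mono ε σ * mono η τ = mono (ε * η ∘ σ⁻¹) (σ * τ)`.
* `dg ε = mono ε 1`, `pm σ = mono 1 σ` (homomorphisms).
* `D8`: a Sylow 2-subgroup of `A₇`, as an explicit subgroup of `Perm (Fin 7)`.
* `MS K`: the group of all `mono ε σ` with `∏ ε = 1` and `σ ∈ K`;
  `Esub = MS ⊥`, `S0 = MS D8`.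
-/

namespace Cfsg.Agent.Lib.H13.O7

open Matrix Equiv

variable {F : Type*} [Field F]

/-- the quadratic form `-(x₀² + ⋯ + x₆²)` -/
def Qn (F : Type*) [Field F] : QuadraticForm F (Fin 7 → F) :=
  QuadraticMap.weightedSumSquares F (fun _ : Fin 7 => (-1 : F))

theorem Qn_apply (x : Fin 7 → F) : Qn F x = - ∑ i, x i * x i := by
  simp [Qn, QuadraticMap.weightedSumSquares_apply]

/-- the orthogonal group of `Qn` -/
abbrev O7 (F : Type*) [Field F] : Type _ := ↥(Cfsg.isometryGroup F ⇑(Qn F))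

/-- a sign as a field element -/
def sg (u : ℤˣ) : F := ((u : ℤ) : F)

theorem sg_one : sg (F := F) 1 = 1 := by simp [sg]

theorem sg_neg_one : sg (F := F) (-1) = -1 := by simp [sg]

theorem sg_mul (u v : ℤˣ) : sg (F := F) (u * v) = sg u * sg v := by simp [sg]

theorem sg_mul_self (u : ℤˣ) : sg (F := F) u * sg u = 1 := by
  rw [← sg_mul, Int.units_mul_self, sg_one]

theorem sg_injective (h2 : (2 : F) ≠ 0) : Function.Injective (sg (F := F)) := by
  intro u v h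
  rcases Int.units_eq_one_or u with rfl | rfl <;> rcases Int.units_eq_one_or v with rfl | rfl
  · rfl
  · exfalso
    rw [sg_one, sg_neg_one] at h
    apply h2
    linear_combination h
  · exfalso
    rw [sg_one, sg_neg_one] at h
    apply h2
    linear_combination -h
  · rfl

/-- the signed permutation matrix `e_j ↦ ε_{σ j} e_{σ j}` -/
def smat (ε : Fin 7 → ℤˣ) (σ : Perm (Fin 7)) : Matrix (Fin 7) (Fin 7) F :=
  Matrix.of fun i j => if i = σ j then sg (ε i) else 0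

theorem smat_apply (ε : Fin 7 → ℤˣ) (σ : Perm (Fin 7)) (i j : Fin 7) :
    smat (F := F) ε σ i j = if i = σ j then sg (ε i) else 0 := rfl

theorem smat_mulVec (ε : Fin 7 → ℤˣ) (σ : Perm (Fin 7)) (x : Fin 7 → F) :
    smat ε σ *ᵥ x = fun i => sg (ε i) * x (σ⁻¹ i) := by
  funext i
  rw [Matrix.mulVec, dotProduct, Finset.sum_eq_single (σ⁻¹ i)]
  · rw [smat_apply, if_pos (by simp)]
  · intro j _ hj
    rw [smat_apply, if_neg, zero_mul]
    intro h
    apply hj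
    rw [h]
    simp
  · intro h
    exact absurd (Finset.mem_univ _) h

theorem smat_mul (ε η : Fin 7 → ℤˣ) (σ τ : Perm (Fin 7)) :
    smat (F := F) ε σ * smat η τ = smat (ε * η ∘ ⇑σ⁻¹) (σ * τ) := by
  rw [Matrix.ext_iff_mulVec]
  intro x
  rw [← Matrix.mulVec_mulVec, smat_mulVec, smat_mulVec, smat_mulVec]
  funext i
  simp only [Pi.mul_apply, Function.comp_apply, sg_mul, _root_.mul_inv_rev, Perm.mul_apply]
  ring

theorem smat_one : smat (F := F) 1 1 = 1 := by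
  rw [Matrix.ext_iff_mulVec]
  intro x
  rw [smat_mulVec, Matrix.one_mulVec]
  funext i
  simp [sg_one]

/-- the signed permutation matrix as an invertible matrix -/
def monoGL (ε : Fin 7 → ℤˣ) (σ : Perm (Fin 7)) : GL (Fin 7) F where
  val := smat ε σ
  inv := smat (ε ∘ ⇑σ) σ⁻¹
  val_inv := by
    rw [smat_mul, mul_inv_cancel]
    convert smat_one (F := F)
    funext i
    simp
  inv_val := by
    rw [smat_mul, inv_mul_cancel]
    convert smat_one (F := F)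
    funext i
    simp

theorem monoGL_val (ε : Fin 7 → ℤˣ) (σ : Perm (Fin 7)) :
    ((monoGL ε σ : GL (Fin 7) F) : Matrix (Fin 7) (Fin 7) F) = smat ε σ := rfl

theorem monoGL_mem (ε : Fin 7 → ℤˣ) (σ : Perm (Fin 7)) :
    monoGL (F := F) ε σ ∈ Cfsg.isometryGroup F ⇑(Qn F) := by
  rw [Cfsg.Agent.Lib.H11.IsoReindex.mem_iso_iff']
  intro x
  rw [monoGL_val, smat_mulVec, Qn_apply, Qn_apply]
  congr 1
  rw [← Equiv.sum_comp σ (fun i => sg (ε i) * x (σ⁻¹ i) * (sg (ε i) * x (σ⁻¹ i)))]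
  apply Finset.sum_congr rfl
  intro i _
  have := sg_mul_self (F := F) (ε (σ i))
  have h1 : σ⁻¹ (σ i) = i := by simp
  simp only [h1]
  linear_combination (x i * x i) * this

/-- the signed permutation matrix as an element of the orthogonal group -/
def mono (ε : Fin 7 → ℤˣ) (σ : Perm (Fin 7)) : O7 F := ⟨monoGL ε σ, monoGL_mem ε σ⟩

theorem mono_val (ε : Fin 7 → ℤˣ) (σ : Perm (Fin 7)) :
    (((mono ε σ : O7 F) : GL (Fin 7) F) : Matrix (Fin 7) (Fin 7) F) = smat ε σ := rfl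

theorem O7_ext {g h : O7 F}
    (H : ((g : GL (Fin 7) F) : Matrix (Fin 7) (Fin 7) F) = ((h : GL (Fin 7) F) : Matrix (Fin 7) (Fin 7) F)) :
    g = h := Subtype.ext (Units.ext H)

theorem mono_mul (ε η : Fin 7 → ℤˣ) (σ τ : Perm (Fin 7)) :
    mono (F := F) ε σ * mono η τ = mono (ε * η ∘ ⇑σ⁻¹) (σ * τ) := by
  apply O7_ext
  rw [Subgroup.coe_mul, Units.val_mul, mono_val, mono_val, mono_val, smat_mul]

theorem mono_one : mono (F := F) 1 1 = 1 := by
  apply O7_ext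
  rw [mono_val, smat_one]
  rfl

theorem mono_inv (ε : Fin 7 → ℤˣ) (σ : Perm (Fin 7)) :
    (mono (F := F) ε σ)⁻¹ = mono (ε ∘ ⇑σ) σ⁻¹ := by
  apply inv_eq_of_mul_eq_one_right
  rw [mono_mul, mul_inv_cancel]
  convert mono_one (F := F)
  funext i
  simp

theorem mono_injective (h2 : (2 : F) ≠ 0) {ε η : Fin 7 → ℤˣ} {σ τ : Perm (Fin 7)}
    (h : mono (F := F) ε σ = mono η τ) : ε = η ∧ σ = τ := by
  have hm : smat (F := F) ε σ = smat η τ := by
    rw [← mono_val, ← mono_val, h]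
  have hσ : σ = τ := by
    ext j
    have h1 := congrFun (congrFun hm (σ j)) j
    rw [smat_apply, smat_apply, if_pos rfl] at h1
    by_cases hj : σ j = τ j
    · rw [hj]
    · rw [if_neg hj] at h1
      exfalso
      have := sg_mul_self (F := F) (ε (σ j))
      rw [h1, mul_zero] at this
      exact zero_ne_one this
  subst hσ
  refine ⟨?_, rfl⟩
  funext i
  have h1 := congrFun (congrFun hm i) (σ⁻¹ i)
  rw [smat_apply, smat_apply, if_pos (by simp), if_pos (by simp)] at h1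
  exact sg_injective h2 h1

/-- sign changes -/
def dg : (Fin 7 → ℤˣ) →* O7 F where
  toFun ε := mono ε 1
  map_one' := mono_one
  map_mul' ε η := by
    rw [mono_mul, mul_one]
    rfl

/-- permutation matrices -/
def pm : Perm (Fin 7) →* O7 F where
  toFun σ := mono 1 σ
  map_one' := mono_one
  map_mul' σ τ := by
    rw [mono_mul]
    rfl

theorem dg_apply (ε : Fin 7 → ℤˣ) : dg (F := F) ε = mono ε 1 := rfl

theorem pm_apply (σ : Perm (Fin 7)) : pm (F := F) σ = mono 1 σ := rfl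

theorem mono_eq (ε : Fin 7 → ℤˣ) (σ : Perm (Fin 7)) : mono (F := F) ε σ = dg ε * pm σ := by
  rw [dg_apply, pm_apply, mono_mul, one_mul]
  congr 1
  funext i
  simp

theorem pm_conj_dg (σ : Perm (Fin 7)) (ε : Fin 7 → ℤˣ) :
    pm (F := F) σ * dg ε * (pm σ)⁻¹ = dg (ε ∘ ⇑σ⁻¹) := by
  rw [pm_apply, dg_apply, mono_inv, mono_mul, mono_mul, dg_apply, mul_one, mul_inv_cancel]
  congr 1
  funext i
  simp

/-! ### The dihedral group `D8 ≤ A₇` -/

/-- a permutation of `Fin 7` from a table and its inverse table -/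
def tab (f g : Fin 7 → Fin 7) (h1 : ∀ i, g (f i) = i) (h2 : ∀ i, f (g i) = i) : Perm (Fin 7) :=
  ⟨f, g, h1, h2⟩

/-- `(0 1 2 3)(4 5)` -/
def pr : Perm (Fin 7) := tab ![1, 2, 3, 0, 5, 4, 6] ![3, 0, 1, 2, 5, 4, 6] (by decide) (by decide)
/-- `(0 2)(1 3)` -/
def pr2 : Perm (Fin 7) := tab ![2, 3, 0, 1, 4, 5, 6] ![2, 3, 0, 1, 4, 5, 6] (by decide) (by decide)
/-- `(0 3 2 1)(4 5)` -/
def pr3 : Perm (Fin 7) := tab ![3, 0, 1, 2, 5, 4, 6] ![1, 2, 3, 0, 5, 4, 6] (by decide) (by decide)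
/-- `(0 2)(4 5)` -/
def ps : Perm (Fin 7) := tab ![2, 1, 0, 3, 5, 4, 6] ![2, 1, 0, 3, 5, 4, 6] (by decide) (by decide)
/-- `(0 1)(2 3)` -/
def psr : Perm (Fin 7) := tab ![1, 0, 3, 2, 4, 5, 6] ![1, 0, 3, 2, 4, 5, 6] (by decide) (by decide)
/-- `(1 3)(4 5)` -/
def psr2 : Perm (Fin 7) := tab ![0, 3, 2, 1, 5, 4, 6] ![0, 3, 2, 1, 5, 4, 6] (by decide) (by decide)
/-- `(0 3)(1 2)` -/
def psr3 : Perm (Fin 7) := tab ![3, 2, 1, 0, 4, 5, 6] ![3, 2, 1, 0, 4, 5, 6] (by decide) (by decide)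

theorem mul_pr_pr : pr * pr = pr2 := Equiv.ext (by decide)
theorem mul_pr_pr2 : pr * pr2 = pr3 := Equiv.ext (by decide)
theorem mul_pr_pr3 : pr * pr3 = 1 := Equiv.ext (by decide)
theorem mul_pr_ps : pr * ps = psr3 := Equiv.ext (by decide)
theorem mul_pr_psr : pr * psr = ps := Equiv.ext (by decide)
theorem mul_pr_psr2 : pr * psr2 = psr := Equiv.ext (by decide)
theorem mul_pr_psr3 : pr * psr3 = psr2 := Equiv.ext (by decide)
theorem mul_pr2_pr : pr2 * pr = pr3 := Equiv.ext (by decide)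
theorem mul_pr2_pr2 : pr2 * pr2 = 1 := Equiv.ext (by decide)
theorem mul_pr2_pr3 : pr2 * pr3 = pr := Equiv.ext (by decide)
theorem mul_pr2_ps : pr2 * ps = psr2 := Equiv.ext (by decide)
theorem mul_pr2_psr : pr2 * psr = psr3 := Equiv.ext (by decide)
theorem mul_pr2_psr2 : pr2 * psr2 = ps := Equiv.ext (by decide)
theorem mul_pr2_psr3 : pr2 * psr3 = psr := Equiv.ext (by decide)
theorem mul_pr3_pr : pr3 * pr = 1 := Equiv.ext (by decide)
theorem mul_pr3_pr2 : pr3 * pr2 = pr := Equiv.ext (by decide)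
theorem mul_pr3_pr3 : pr3 * pr3 = pr2 := Equiv.ext (by decide)
theorem mul_pr3_ps : pr3 * ps = psr := Equiv.ext (by decide)
theorem mul_pr3_psr : pr3 * psr = psr2 := Equiv.ext (by decide)
theorem mul_pr3_psr2 : pr3 * psr2 = psr3 := Equiv.ext (by decide)
theorem mul_pr3_psr3 : pr3 * psr3 = ps := Equiv.ext (by decide)
theorem mul_ps_pr : ps * pr = psr := Equiv.ext (by decide)
theorem mul_ps_pr2 : ps * pr2 = psr2 := Equiv.ext (by decide)
theorem mul_ps_pr3 : ps * pr3 = psr3 := Equiv.ext (by decide)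
theorem mul_ps_ps : ps * ps = 1 := Equiv.ext (by decide)
theorem mul_ps_psr : ps * psr = pr := Equiv.ext (by decide)
theorem mul_ps_psr2 : ps * psr2 = pr2 := Equiv.ext (by decide)
theorem mul_ps_psr3 : ps * psr3 = pr3 := Equiv.ext (by decide)
theorem mul_psr_pr : psr * pr = psr2 := Equiv.ext (by decide)
theorem mul_psr_pr2 : psr * pr2 = psr3 := Equiv.ext (by decide)
theorem mul_psr_pr3 : psr * pr3 = ps := Equiv.ext (by decide)
theorem mul_psr_ps : psr * ps = pr3 := Equiv.ext (by decide)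
theorem mul_psr_psr : psr * psr = 1 := Equiv.ext (by decide)
theorem mul_psr_psr2 : psr * psr2 = pr := Equiv.ext (by decide)
theorem mul_psr_psr3 : psr * psr3 = pr2 := Equiv.ext (by decide)
theorem mul_psr2_pr : psr2 * pr = psr3 := Equiv.ext (by decide)
theorem mul_psr2_pr2 : psr2 * pr2 = ps := Equiv.ext (by decide)
theorem mul_psr2_pr3 : psr2 * pr3 = psr := Equiv.ext (by decide)
theorem mul_psr2_ps : psr2 * ps = pr2 := Equiv.ext (by decide)
theorem mul_psr2_psr : psr2 * psr = pr3 := Equiv.ext (by decide)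
theorem mul_psr2_psr2 : psr2 * psr2 = 1 := Equiv.ext (by decide)
theorem mul_psr2_psr3 : psr2 * psr3 = pr := Equiv.ext (by decide)
theorem mul_psr3_pr : psr3 * pr = ps := Equiv.ext (by decide)
theorem mul_psr3_pr2 : psr3 * pr2 = psr := Equiv.ext (by decide)
theorem mul_psr3_pr3 : psr3 * pr3 = psr2 := Equiv.ext (by decide)
theorem mul_psr3_ps : psr3 * ps = pr := Equiv.ext (by decide)
theorem mul_psr3_psr : psr3 * psr = pr2 := Equiv.ext (by decide)
theorem mul_psr3_psr2 : psr3 * psr2 = pr3 := Equiv.ext (by decide)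
theorem mul_psr3_psr3 : psr3 * psr3 = 1 := Equiv.ext (by decide)

/-- membership in the explicit list -/
def InD8 (σ : Perm (Fin 7)) : Prop :=
  σ = 1 ∨ σ = pr ∨ σ = pr2 ∨ σ = pr3 ∨ σ = ps ∨ σ = psr ∨ σ = psr2 ∨ σ = psr3

theorem InD8_mul {a b : Perm (Fin 7)} (ha : InD8 a) (hb : InD8 b) : InD8 (a * b) := by
  rcases ha with rfl | rfl | rfl | rfl | rfl | rfl | rfl | rfl <;>
  rcases hb with rfl | rfl | rfl | rfl | rfl | rfl | rfl | rfl <;>
  simp only [one_mul, mul_one, mul_pr_pr, mul_pr_pr2, mul_pr_pr3, mul_pr_ps, mul_pr_psr, mul_pr_psr2, mul_pr_psr3, mul_pr2_pr, mul_pr2_pr2, mul_pr2_pr3, mul_pr2_ps, mul_pr2_psr, mul_pr2_psr2, mul_pr2_psr3, mul_pr3_pr, mul_pr3_pr2, mul_pr3_pr3, mul_pr3_ps, mul_pr3_psr, mul_pr3_psr2, mul_pr3_psr3, mul_ps_pr, mul_ps_pr2, mul_ps_pr3, mul_ps_ps, mul_ps_psr, mul_ps_psr2, mul_ps_psr3, mul_psr_pr, mul_psr_pr2, mul_psr_pr3, mul_psr_ps, mul_psr_psr, mul_psr_psr2, mul_psr_psr3,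 mul_psr2_pr, mul_psr2_pr2, mul_psr2_pr3, mul_psr2_ps, mul_psr2_psr, mul_psr2_psr2, mul_psr2_psr3, mul_psr3_pr, mul_psr3_pr2, mul_psr3_pr3, mul_psr3_ps, mul_psr3_psr, mul_psr3_psr2, mul_psr3_psr3] <;>
  first | exact Or.inl rfl | exact Or.inr (Or.inl rfl) | exact Or.inr (Or.inr (Or.inl rfl)) | exact Or.inr (Or.inr (Or.inr (Or.inl rfl))) | exact Or.inr (Or.inr (Or.inr (Or.inr (Or.inl rfl)))) | exact Or.inr (Or.inr (Or.inr (Or.inr (Or.inr (Or.inl rfl))))) | exact Or.inr (Or.inr (Or.inr (Or.inr (Or.inr (Or.inr (Or.inl rfl)))))) | exact Or.inr (Or.inr (Or.inr (Or.inr (Or.inr (Or.inr (Or.inr (rfl)))))))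

theorem InD8_inv {a : Perm (Fin 7)} (ha : InD8 a) : InD8 a⁻¹ := by
  rcases ha with rfl | rfl | rfl | rfl | rfl | rfl | rfl | rfl
  · rw [inv_one]; exact Or.inl rfl
  · rw [inv_eq_of_mul_eq_one_right mul_pr_pr3]
    first | exact Or.inl rfl | exact Or.inr (Or.inl rfl) | exact Or.inr (Or.inr (Or.inl rfl)) | exact Or.inr (Or.inr (Or.inr (Or.inl rfl))) | exact Or.inr (Or.inr (Or.inr (Or.inr (Or.inl rfl)))) | exact Or.inr (Or.inr (Or.inr (Or.inr (Or.inr (Or.inl rfl))))) | exact Or.inr (Or.inr (Or.inr (Or.inr (Or.inr (Or.inr (Or.inl rfl)))))) | exact Or.inr (Or.inr (Or.inr (Or.inr (Or.inr (Or.inr (Or.inr (rfl)))))))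
  · rw [inv_eq_of_mul_eq_one_right mul_pr2_pr2]
    first | exact Or.inl rfl | exact Or.inr (Or.inl rfl) | exact Or.inr (Or.inr (Or.inl rfl)) | exact Or.inr (Or.inr (Or.inr (Or.inl rfl))) | exact Or.inr (Or.inr (Or.inr (Or.inr (Or.inl rfl)))) | exact Or.inr (Or.inr (Or.inr (Or.inr (Or.inr (Or.inl rfl))))) | exact Or.inr (Or.inr (Or.inr (Or.inr (Or.inr (Or.inr (Or.inl rfl)))))) | exact Or.inr (Or.inr (Or.inr (Or.inr (Or.inr (Or.inr (Or.inr (rfl)))))))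
  · rw [inv_eq_of_mul_eq_one_right mul_pr3_pr]
    first | exact Or.inl rfl | exact Or.inr (Or.inl rfl) | exact Or.inr (Or.inr (Or.inl rfl)) | exact Or.inr (Or.inr (Or.inr (Or.inl rfl))) | exact Or.inr (Or.inr (Or.inr (Or.inr (Or.inl rfl)))) | exact Or.inr (Or.inr (Or.inr (Or.inr (Or.inr (Or.inl rfl))))) | exact Or.inr (Or.inr (Or.inr (Or.inr (Or.inr (Or.inr (Or.inl rfl)))))) | exact Or.inr (Or.inr (Or.inr (Or.inr (Or.inr (Or.inr (Or.inr (rfl)))))))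
  · rw [inv_eq_of_mul_eq_one_right mul_ps_ps]
    first | exact Or.inl rfl | exact Or.inr (Or.inl rfl) | exact Or.inr (Or.inr (Or.inl rfl)) | exact Or.inr (Or.inr (Or.inr (Or.inl rfl))) | exact Or.inr (Or.inr (Or.inr (Or.inr (Or.inl rfl)))) | exact Or.inr (Or.inr (Or.inr (Or.inr (Or.inr (Or.inl rfl))))) | exact Or.inr (Or.inr (Or.inr (Or.inr (Or.inr (Or.inr (Or.inl rfl)))))) | exact Or.inr (Or.inr (Or.inr (Or.inr (Or.inr (Or.inr (Or.inr (rfl)))))))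
  · rw [inv_eq_of_mul_eq_one_right mul_psr_psr]
    first | exact Or.inl rfl | exact Or.inr (Or.inl rfl) | exact Or.inr (Or.inr (Or.inl rfl)) | exact Or.inr (Or.inr (Or.inr (Or.inl rfl))) | exact Or.inr (Or.inr (Or.inr (Or.inr (Or.inl rfl)))) | exact Or.inr (Or.inr (Or.inr (Or.inr (Or.inr (Or.inl rfl))))) | exact Or.inr (Or.inr (Or.inr (Or.inr (Or.inr (Or.inr (Or.inl rfl)))))) | exact Or.inr (Or.inr (Or.inr (Or.inr (Or.inr (Or.inr (Or.inr (rfl)))))))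
  · rw [inv_eq_of_mul_eq_one_right mul_psr2_psr2]
    first | exact Or.inl rfl | exact Or.inr (Or.inl rfl) | exact Or.inr (Or.inr (Or.inl rfl)) | exact Or.inr (Or.inr (Or.inr (Or.inl rfl))) | exact Or.inr (Or.inr (Or.inr (Or.inr (Or.inl rfl)))) | exact Or.inr (Or.inr (Or.inr (Or.inr (Or.inr (Or.inl rfl))))) | exact Or.inr (Or.inr (Or.inr (Or.inr (Or.inr (Or.inr (Or.inl rfl)))))) | exact Or.inr (Or.inr (Or.inr (Or.inr (Or.inr (Or.inr (Or.inr (rfl)))))))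
  · rw [inv_eq_of_mul_eq_one_right mul_psr3_psr3]
    first | exact Or.inl rfl | exact Or.inr (Or.inl rfl) | exact Or.inr (Or.inr (Or.inl rfl)) | exact Or.inr (Or.inr (Or.inr (Or.inl rfl))) | exact Or.inr (Or.inr (Or.inr (Or.inr (Or.inl rfl)))) | exact Or.inr (Or.inr (Or.inr (Or.inr (Or.inr (Or.inl rfl))))) | exact Or.inr (Or.inr (Or.inr (Or.inr (Or.inr (Or.inr (Or.inl rfl)))))) | exact Or.inr (Or.inr (Or.inr (Or.inr (Or.inr (Or.inr (Or.inr (rfl)))))))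

/-- the dihedral group of order 8 generated by `(0 1 2 3)(4 5)` and `(0 2)(4 5)` -/
def D8 : Subgroup (Perm (Fin 7)) where
  carrier := {σ | InD8 σ}
  mul_mem' ha hb := InD8_mul ha hb
  one_mem' := Or.inl rfl
  inv_mem' ha := InD8_inv ha

theorem mem_D8 (σ : Perm (Fin 7)) : σ ∈ D8 ↔ InD8 σ := Iff.rfl

theorem pr_mem : pr ∈ D8 := Or.inr (Or.inl rfl)
theorem pr2_mem : pr2 ∈ D8 := Or.inr (Or.inr (Or.inl rfl))
theorem pr3_mem : pr3 ∈ D8 := Or.inr (Or.inr (Or.inr (Or.inl rfl)))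
theorem ps_mem : ps ∈ D8 := Or.inr (Or.inr (Or.inr (Or.inr (Or.inl rfl))))
theorem psr_mem : psr ∈ D8 := Or.inr (Or.inr (Or.inr (Or.inr (Or.inr (Or.inl rfl)))))
theorem psr2_mem : psr2 ∈ D8 := Or.inr (Or.inr (Or.inr (Or.inr (Or.inr (Or.inr (Or.inl rfl))))))
theorem psr3_mem : psr3 ∈ D8 := Or.inr (Or.inr (Or.inr (Or.inr (Or.inr (Or.inr (Or.inr rfl))))))

/-! ### Monomial subgroups -/

/-- the signed permutation matrices `mono ε σ` with `∏ ε = 1` and `σ ∈ K` -/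
def MS (F : Type*) [Field F] (K : Subgroup (Perm (Fin 7))) : Subgroup (O7 F) where
  carrier := {g | ∃ ε σ, ∏ i, ε i = 1 ∧ σ ∈ K ∧ g = mono ε σ}
  mul_mem' := by
    rintro _ _ ⟨ε, σ, hε, hσ, rfl⟩ ⟨η, τ, hη, hτ, rfl⟩
    refine ⟨ε * η ∘ ⇑σ⁻¹, σ * τ, ?_, K.mul_mem hσ hτ, mono_mul ε η σ τ⟩
    simp only [Pi.mul_apply, Function.comp_apply]
    rw [Finset.prod_mul_distrib, hε, one_mul, Equiv.prod_comp σ⁻¹ η, hη]
  one_mem' := ⟨1, 1, by simp, K.one_mem, mono_one.symm⟩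
  inv_mem' := by
    rintro _ ⟨ε, σ, hε, hσ, rfl⟩
    refine ⟨ε ∘ ⇑σ, σ⁻¹, ?_, K.inv_mem hσ, mono_inv ε σ⟩
    simp only [Function.comp_apply]
    rw [Equiv.prod_comp σ ε, hε]

theorem mem_MS (K : Subgroup (Perm (Fin 7))) (g : O7 F) :
    g ∈ MS F K ↔ ∃ ε σ, ∏ i, ε i = 1 ∧ σ ∈ K ∧ g = mono ε σ := Iff.rfl

theorem mono_mem_MS (h2 : (2 : F) ≠ 0) (K : Subgroup (Perm (Fin 7))) (ε : Fin 7 → ℤˣ)
    (σ : Perm (Fin 7)) : mono (F := F) ε σ ∈ MS F K ↔ (∏ i, ε i = 1 ∧ σ ∈ K) := by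
  constructor
  · rintro ⟨η, τ, hη, hτ, h⟩
    obtain ⟨rfl, rfl⟩ := mono_injective h2 h
    exact ⟨hη, hτ⟩
  · rintro ⟨hε, hσ⟩
    exact ⟨ε, σ, hε, hσ, rfl⟩

theorem MS_mono {K L : Subgroup (Perm (Fin 7))} (h : K ≤ L) : MS F K ≤ MS F L := by
  rintro _ ⟨ε, σ, hε, hσ, rfl⟩
  exact ⟨ε, σ, hε, h hσ, rfl⟩

/-- the even sign changes, elementary abelian of order `2 ^ 6` -/
abbrev Esub (F : Type*) [Field F] : Subgroup (O7 F) := MS F ⊥

/-- the Sylow 2-subgroup `2 ^ 6 : D8` -/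
abbrev S0 (F : Type*) [Field F] : Subgroup (O7 F) := MS F D8

/-- the monomial group `2 ^ 6 : A₇` -/
abbrev MA (F : Type*) [Field F] : Subgroup (O7 F) := MS F (alternatingGroup (Fin 7))

theorem mem_Esub (g : O7 F) : g ∈ Esub F ↔ ∃ ε : Fin 7 → ℤˣ, ∏ i, ε i = 1 ∧ g = dg ε := by
  constructor
  · rintro ⟨ε, σ, hε, hσ, rfl⟩
    rw [Subgroup.mem_bot] at hσ
    subst hσ
    exact ⟨ε, hε, rfl⟩
  · rintro ⟨ε, hε, rfl⟩
    exact ⟨ε, 1, hε, Subgroup.one_mem _, rfl⟩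

/-- the sign vector with `-1` exactly at `a` and `b` -/
def tv (a b : Fin 7) : Fin 7 → ℤˣ := Pi.mulSingle a (-1) * Pi.mulSingle b (-1)

/-! ### The abstract core of the statement -/

/-- the group-theoretic content of S2647, for an abstract group -/
def Core (G : Type*) [Group G] : Prop :=
  ∃ S₀ : Subgroup G, Nat.card S₀ = 2 ^ 9 ∧ (Nat.card G).factorization 2 = 9 ∧
    Subgroup.normalizer (S₀ : Set G) ≤ S₀ ∧
    ∀ T : Subgroup G, Cfsg.IsStronglyClosed T S₀ → T = ⊥ ∨ T = S₀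

/-- the same, for a subgroup `H` of an ambient group -/
def CoreIn {A : Type*} [Group A] (H : Subgroup A) : Prop :=
  ∃ S₀ : Subgroup A, S₀ ≤ H ∧ Nat.card S₀ = 2 ^ 9 ∧ (Nat.card H).factorization 2 = 9 ∧
    (∀ g ∈ H, (∀ x, x ∈ S₀ ↔ g * x * g⁻¹ ∈ S₀) → g ∈ S₀) ∧
    ∀ T : Subgroup A, T ≤ S₀ →
      (∀ x ∈ T, ∀ g ∈ H, g * x * g⁻¹ ∈ S₀ → g * x * g⁻¹ ∈ T) → T = ⊥ ∨ T = S₀

end Cfsg.Agent.Lib.H13.O7
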