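import Mathlib
import Cfsg.Agent.Lib.H13.O7Defs

set_option autoImplicit false

/-!
# S2647 piece CD: the orders of the monomial subgroups `MS F K` and of `D8` (helper2 for helper13)
-/

namespace Cfsg.Agent.Lib.H13.O7

open Matrix Equiv Cfsg

variable {F : Type*} [Field F]

/-- the product of the signs, as a homomorphism -/
def prodHom : (Fin 7 → ℤˣ) →* ℤˣ where
  toFun ε := ∏ i, ε i
  map_one' := by simp
  map_mul' ε η := by simp [Finset.prod_mul_distrib]

theorem prodHom_apply (ε : Fin 7 → ℤˣ) : prodHom ε = ∏ i, ε i := rfl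

theorem mem_prodHom_ker (ε : Fin 7 → ℤˣ) : ε ∈ prodHom.ker ↔ ∏ i, ε i = 1 := Iff.rfl

theorem prodHom_surjective : Function.Surjective prodHom := by
  intro u
  refine ⟨Pi.mulSingle 0 u, ?_⟩
  rw [prodHom_apply, Finset.prod_eq_single (0 : Fin 7)]
  · simp
  · intro j _ hj
    simp [Pi.mulSingle_eq_of_ne hj]
  · intro h
    exact absurd (Finset.mem_univ _) h

/-- there are `64` even sign vectors -/
theorem card_prodHom_ker : Nat.card prodHom.ker = 64 := by
  have h1 := Subgroup.card_mul_index prodHom.ker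
  rw [Subgroup.index_ker, MonoidHom.range_eq_top.mpr prodHom_surjective, Subgroup.card_top,
    Nat.card_fun, Nat.card_fin, Nat.card_eq_fintype_card (α := ℤˣ), Fintype.card_units_int] at h1
  omega

/-- **CD**: `|MS F K| = 64 |K|`. -/
theorem card_MS (h2 : (2 : F) ≠ 0) (K : Subgroup (Perm (Fin 7))) :
    Nat.card (MS F K) = 64 * Nat.card K := by
  have hbij : Function.Bijective (fun p : prodHom.ker × K =>
      (⟨mono (F := F) p.1.1 p.2.1, ⟨p.1.1, p.2.1, p.1.2, p.2.2, rfl⟩⟩ : MS F K)) := by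
    constructor
    · rintro ⟨⟨ε, hε⟩, ⟨σ, hσ⟩⟩ ⟨⟨η, hη⟩, ⟨τ, hτ⟩⟩ h
      have h1 := mono_injective h2 (congrArg Subtype.val h)
      obtain ⟨rfl, rfl⟩ := h1
      rfl
    · rintro ⟨g, ε, σ, hε, hσ, rfl⟩
      exact ⟨⟨⟨ε, hε⟩, ⟨σ, hσ⟩⟩, rfl⟩
  rw [← Nat.card_eq_of_bijective _ hbij, Nat.card_prod, card_prodHom_ker]

/-- the eight elements of `D8` -/
def d8list : Fin 8 → Perm (Fin 7) := ![1, pr, pr2, pr3, ps, psr, psr2, psr3]

theorem d8list_mem (i : Fin 8) : d8list i ∈ D8 := by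
  fin_cases i
  exacts [D8.one_mem, pr_mem, pr2_mem, pr3_mem, ps_mem, psr_mem, psr2_mem, psr3_mem]

theorem d8list_sig_injective :
    ∀ i j : Fin 8, ((d8list i) 0, (d8list i) 1, (d8list i) 4) = ((d8list j) 0, (d8list j) 1, (d8list j) 4) →
      i = j := by
  decide

/-- **CD**: `|D8| = 8`. -/
theorem card_D8 : Nat.card D8 = 8 := by
  have hbij : Function.Bijective (fun i : Fin 8 => (⟨d8list i, d8list_mem i⟩ : D8)) := by
    constructor
    · intro i j h
      have h1 : d8list i = d8list j := congrArg Subtype.val h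
      apply d8list_sig_injective
      rw [h1]
    · rintro ⟨σ, hσ⟩
      rcases hσ with rfl | rfl | rfl | rfl | rfl | rfl | rfl | rfl
      · exact ⟨0, rfl⟩
      · exact ⟨1, rfl⟩
      · exact ⟨2, rfl⟩
      · exact ⟨3, rfl⟩
      · exact ⟨4, rfl⟩
      · exact ⟨5, rfl⟩
      · exact ⟨6, rfl⟩
      · exact ⟨7, rfl⟩
  rw [← Nat.card_eq_of_bijective _ hbij, Nat.card_fin]

end Cfsg.Agent.Lib.H13.O7
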