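/-
S2345 piece STR-W (architect helper12, blueprint tools/blueprints/S2345.md):
the Weyl element `w = s₁ s₂` of `O⁺_{2n}(F)` lies in `Ω` and conjugates the root element `u(X₀)` to the
transvection `l(A₀)`.
-/
import Mathlib
import Cfsg.Agent.Lib.H12.OPMinDefs

set_option autoImplicit false

namespace Cfsg.Agent.Lib.H13.OPMin

open Matrix Cfsg.Agent.Lib.H12.OPMin

variable {F : Type*} [Field F]

/-- two square matrices with the same action on all vectors are equal -/
theorem strw_ext_mulVec {ι : Type*} [Fintype ι] [DecidableEq ι] {M N : Matrix ι ι F}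
    (h : ∀ v : ι → F, M *ᵥ v = N *ᵥ v) : M = N := by
  ext i j
  have h1 := congrFun (h (Pi.single j 1)) i
  rw [mulVec_single_one, mulVec_single_one] at h1
  exact h1

theorem strw_uMat_mulVec {n : ℕ} (S : Matrix (Fin n) (Fin n) F) (v : Fin n ⊕ Fin n → F) :
    uMat S *ᵥ v = Sum.elim (v ∘ Sum.inl + S *ᵥ (v ∘ Sum.inr)) (v ∘ Sum.inr) := by
  unfold uMat
  rw [fromBlocks_mulVec]
  simp

theorem strw_lMat_mulVec {n : ℕ} (A : GL (Fin n) F) (v : Fin n ⊕ Fin n → F) :
    lMat A *ᵥ v = Sum.elim (A.1 *ᵥ (v ∘ Sum.inl)) (((A⁻¹ : GL (Fin n) F).1)ᵀ *ᵥ (v ∘ Sum.inr)) := by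
  unfold lMat
  rw [fromBlocks_mulVec]
  simp

/-- the permutation matrix of a transposition, as an element of `GL` -/
def strwP {n : ℕ} (a b : Fin n) : GL (Fin n) F :=
  ⟨(Equiv.swap a b).toPEquiv.toMatrix, (Equiv.swap a b).toPEquiv.toMatrix, by
    rw [← PEquiv.toMatrix_trans, ← Equiv.toPEquiv_trans, Equiv.swap_swap, Equiv.toPEquiv_refl,
      PEquiv.toMatrix_refl], by
    rw [← PEquiv.toMatrix_trans, ← Equiv.toPEquiv_trans, Equiv.swap_swap, Equiv.toPEquiv_refl,
      PEquiv.toMatrix_refl]⟩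

theorem strwP_inv {n : ℕ} (a b : Fin n) : (strwP (F := F) a b)⁻¹ = strwP a b := by
  apply Units.ext
  rfl

theorem strw_lMat_P_mulVec {n : ℕ} (a b : Fin n) (v : Fin n ⊕ Fin n → F) :
    lMat (strwP (F := F) a b) *ᵥ v = v ∘ (Equiv.sumCongr (Equiv.swap a b) (Equiv.swap a b)) := by
  rw [strw_lMat_mulVec, strwP_inv]
  have h1 : ((strwP (F := F) a b).1)ᵀ = (Equiv.swap a b).toPEquiv.toMatrix := by
    show ((Equiv.swap a b).toPEquiv.toMatrix : Matrix (Fin n) (Fin n) F)ᵀ = _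
    rw [← PEquiv.toMatrix_symm, ← Equiv.toPEquiv_symm, Equiv.symm_swap]
  rw [h1]
  show Sum.elim ((Equiv.swap a b).toPEquiv.toMatrix *ᵥ (v ∘ Sum.inl))
    ((Equiv.swap a b).toPEquiv.toMatrix *ᵥ (v ∘ Sum.inr)) = _
  rw [PEquiv.toMatrix_toPEquiv_mulVec, PEquiv.toMatrix_toPEquiv_mulVec]
  funext k
  cases k <;> rfl

theorem strw_sO_inv {n : ℕ} (i : Fin n) : (sO (F := F) i)⁻¹ = sO i := by
  rw [inv_eq_iff_mul_eq_one]
  apply OG_ext
  show sMat (F := F) i * sMat i = 1
  exact sMat_mul_self i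

/-- `l(P) s_a l(P)⁻¹ = s_b` for the permutation matrix `P` of `(a b)` -/
theorem strw_conj_sO {n : ℕ} (a b : Fin n) :
    lO (strwP (F := F) a b) * sO a * (lO (strwP (F := F) a b))⁻¹ = sO b := by
  rw [mul_inv_eq_iff_eq_mul]
  apply OG_ext
  show lMat (strwP (F := F) a b) * sMat a = sMat b * lMat (strwP (F := F) a b)
  apply strw_ext_mulVec
  intro v
  rw [← mulVec_mulVec, ← mulVec_mulVec, sMat_mulVec, sMat_mulVec, strw_lMat_P_mulVec, strw_lMat_P_mulVec]
  funext k
  show v (Equiv.swap (Sum.inl a) (Sum.inr a) (Equiv.sumCongr (Equiv.swap a b) (Equiv.swap a b) k)) =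
    v (Equiv.sumCongr (Equiv.swap a b) (Equiv.swap a b) (Equiv.swap (Sum.inl b) (Sum.inr b) k))
  congr 1
  have h := (Equiv.sumCongr (Equiv.swap a b) (Equiv.swap a b)).injective.swap_apply
    (Sum.inl b) (Sum.inr b) k
  rw [← h]
  simp

theorem wO_mem_Omega (m : ℕ) : wO m F ∈ Cfsg.Omega F (Cfsg.quadFormPlus (m + 3) F) := by
  have h : wO m F = sO 1 * lO (strwP (F := F) 1 2) * (sO 1)⁻¹ * (lO (strwP (F := F) 1 2))⁻¹ := by
    unfold wO
    rw [← strw_conj_sO (F := F) 1 2, strw_sO_inv]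
    group
  rw [h]
  show _ ∈ commutator _
  rw [commutator_def]
  exact Subgroup.commutator_mem_commutator (Subgroup.mem_top _) (Subgroup.mem_top _)

theorem strw_A0_mulVec (m : ℕ) (x : Fin (m + 3) → F) :
    (A0 m F).1 *ᵥ x = x + Function.update (0 : Fin (m + 3) → F) 0 (x 1) := by
  show (1 + Matrix.single 0 1 1 : Matrix (Fin (m + 3)) (Fin (m + 3)) F) *ᵥ x = _
  rw [add_mulVec, one_mulVec, single_mulVec, one_mul]

theorem strw_A0inv_mulVec (m : ℕ) (y : Fin (m + 3) → F) :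
    (((A0 m F)⁻¹ : GL (Fin (m + 3)) F).1)ᵀ *ᵥ y = y - Function.update (0 : Fin (m + 3) → F) 1 (y 0) := by
  show ((1 - Matrix.single 0 1 1 : Matrix (Fin (m + 3)) (Fin (m + 3)) F))ᵀ *ᵥ y = _
  rw [transpose_sub, transpose_one, transpose_single, sub_mulVec, one_mulVec, single_mulVec, one_mul]

theorem strw_X0_mulVec (m : ℕ) (y : Fin (m + 3) → F) :
    (X0 m F).1 *ᵥ y = Function.update (0 : Fin (m + 3) → F) 0 (y 1) -
      Function.update (0 : Fin (m + 3) → F) 1 (y 0) := by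
  show (Matrix.single 0 1 1 - (Matrix.single 0 1 (1 : F))ᵀ : Matrix (Fin (m + 3)) (Fin (m + 3)) F) *ᵥ y = _
  rw [transpose_single, sub_mulVec, single_mulVec, single_mulVec, one_mul, one_mul]

theorem lO_A0 (m : ℕ) : lO (A0 m F) = wO m F * uO (X0 m F) * (wO m F)⁻¹ := by
  rw [eq_mul_inv_iff_mul_eq]
  apply OG_ext
  show lMat (A0 m F) * (sMat 1 * sMat 2) = (sMat 1 * sMat 2) * uMat (X0 m F).1
  apply strw_ext_mulVec
  intro v
  rw [← mulVec_mulVec, ← mulVec_mulVec, ← mulVec_mulVec, ← mulVec_mulVec, sMat_mulVec, sMat_mulVec,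
    sMat_mulVec, sMat_mulVec, strw_lMat_mulVec, strw_uMat_mulVec, strw_A0_mulVec, strw_A0inv_mulVec,
    strw_X0_mulVec]
  have h01 : (0 : Fin (m + 3)) ≠ 1 := by simp [Fin.ext_iff]
  have h02 : (0 : Fin (m + 3)) ≠ 2 := by
    intro h
    have h' := congrArg Fin.val h
    rw [Fin.val_two, Fin.val_zero] at h'
    omega
  have h12 : (1 : Fin (m + 3)) ≠ 2 := by
    intro h
    have h' := congrArg Fin.val h
    rw [Fin.val_two, Fin.val_one] at h'
    omega
  funext k
  rcases k with j | j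
  · by_cases hj0 : j = 0
    · subst hj0
      simp [Equiv.swap_apply_def, h01, h02, h12, h01.symm, h02.symm, h12.symm]
    · by_cases hj1 : j = 1
      · subst hj1
        simp [Equiv.swap_apply_def, h01, h02, h12, h01.symm, h02.symm, h12.symm]
      · by_cases hj2 : j = 2
        · subst hj2
          simp [Equiv.swap_apply_def, h01, h02, h12, h01.symm, h02.symm, h12.symm]
        · simp [Equiv.swap_apply_def, hj0, hj1, hj2, h01, h02, h12, h01.symm, h02.symm, h12.symm]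
  · by_cases hj0 : j = 0
    · subst hj0
      simp [Equiv.swap_apply_def, h01, h02, h12, h01.symm, h02.symm, h12.symm]
    · by_cases hj1 : j = 1
      · subst hj1
        simp [Equiv.swap_apply_def, h01, h02, h12, h01.symm, h02.symm, h12.symm, sub_eq_add_neg]
      · by_cases hj2 : j = 2
        · subst hj2
          simp [Equiv.swap_apply_def, h01, h02, h12, h01.symm, h02.symm, h12.symm]
        · simp [Equiv.swap_apply_def, hj0, hj1, hj2, h01, h02, h12, h01.symm, h02.symm, h12.symm]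

end Cfsg.Agent.Lib.H13.OPMin
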