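import Mathlib
import Cfsg.Prelude.Def_ChevStructure
import Cfsg.Agent.Lib.H29.ChevCert13

/-!
# The two involutions `zS`, `zT` of the torus of the Chevalley group of type `E8` (definitions)

`hm s = h_s(-1)`; `zT = h_{α₈}(-1)` (centralizer of type `A₁E₇`), `zS = h_{α₆}(-1) h_{α₈}(-1)` (centralizer of type `D₈`).
The fundamental roots `α₁, …, α₈` (Bourbaki) have the indices `162, 141, 135, 130, 126, 123, 121, 120`.
-/

set_option autoImplicit false

namespace Cfsg.Agent.Lib.H13.E8Odd

open Cfsg.Lie Matrix Cfsg.Agent.Lib.H29.Chev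

variable (F : Type*) [Field F]

/-- `h_s(-1)` -/
noncomputable def hm (s : ℕ) : GL chevE8.Idx F :=
  TdG (hExp chevE8 fdE8 fxE8 s) (-1 : F) (neg_ne_zero.mpr one_ne_zero)

/-- the representative of the involutions with centralizer of type `A₁E₇` -/
noncomputable def zT : GL chevE8.Idx F := hm F 120

/-- the representative of the involutions with centralizer of type `D₈` -/
noncomputable def zS : GL chevE8.Idx F := hm F 123 * hm F 120

theorem hm_mem (s : ℕ) (hs : s < 240) : hm F s ∈ chevE8.diagonalSubgroup F :=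
  cert12_E8.c6.c2.TdG_mem s hs _ _

theorem zT_mem : zT F ∈ chevE8.diagonalSubgroup F := hm_mem F 120 (by norm_num)

theorem zS_mem : zS F ∈ chevE8.diagonalSubgroup F := mul_mem (hm_mem F 123 (by norm_num)) (hm_mem F 120 (by norm_num))

end Cfsg.Agent.Lib.H13.E8Odd
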