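import Mathlib

/-!
# A stabilizer-chain lemma for sums of `q ^ (number of inversions)` over a group of root permutations

`R` is a finite set of "roots" with a positivity predicate `P` and a negation `neg`; `G` is a set of maps `R → R`
closed under composition and inverses, all commuting with `neg`. For a subset `Φ` of the roots,
`inv P Φ σ` counts the positive elements of `Φ` which `σ` makes negative. If `lam : R`, `G₁` is the stabilizer of
`lam` in `G`, `Φ₁ ⊆ Φ₀` are `G₁`-stable, `Φ₁` is closed under `neg`, `G₁` keeps the positive elements of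
`Φ₀ \ Φ₁` positive, and for every `μ` in a finite set `O` containing the orbit of `lam` there is `u μ ∈ G` with
`u μ lam = μ` keeping the positive elements of `Φ₁` positive, then
`∑_{σ ∈ G} q ^ inv Φ₀ σ = (∑_{μ ∈ O} q ^ inv Φ₀ (u μ)) * ∑_{v ∈ G₁} q ^ inv Φ₁ v`.
-/

set_option autoImplicit false
set_option linter.unusedSectionVars false

namespace Cfsg.Agent.Lib.H13.WChain

open Classical

variable {R : Type*} [Fintype R]

/-- the number of positive elements of `Φ` made negative by `σ` -/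
noncomputable def inv (P : R → Prop) (Φ : Set R) (σ : R → R) : ℕ :=
  (Finset.univ.filter fun a : R => a ∈ Φ ∧ P a ∧ ¬ P (σ a)).card

/-- the sum of `q ^ inv` over a set of maps -/
noncomputable def psum (P : R → Prop) (Φ : Set R) (G : Set (R → R)) (q : ℕ) : ℕ :=
  ∑ σ ∈ Finset.univ.filter (fun σ : R → R => σ ∈ G), q ^ inv P Φ σ

/-- closure properties of a set of maps making it a group of permutations -/
structure IsGrp (G : Set (R → R)) : Prop where
  one : id ∈ G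
  mul : ∀ σ ∈ G, ∀ τ ∈ G, σ ∘ τ ∈ G
  inv : ∀ σ ∈ G, ∃ τ ∈ G, τ ∘ σ = id ∧ σ ∘ τ = id

theorem IsGrp.injective {G : Set (R → R)} (hG : IsGrp G) {σ : R → R} (hσ : σ ∈ G) : Function.Injective σ := by
  obtain ⟨τ, _, h1, _⟩ := hG.inv σ hσ
  intro a b hab
  have := congrArg τ hab
  have e1 : τ (σ a) = a := congrFun h1 a
  have e2 : τ (σ b) = b := congrFun h1 b
  rw [e1, e2] at this
  exact this

/-- the stabilizer of a point -/
def stab (G : Set (R → R)) (lam : R) : Set (R → R) := {σ | σ ∈ G ∧ σ lam = lam}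

theorem IsGrp.stab {G : Set (R → R)} (hG : IsGrp G) (lam : R) : IsGrp (stab G lam) := by
  refine ⟨⟨hG.one, rfl⟩, ?_, ?_⟩
  · rintro σ ⟨h1, h2⟩ τ ⟨h3, h4⟩
    exact ⟨hG.mul σ h1 τ h3, by simp only [Function.comp]; rw [h4, h2]⟩
  · rintro σ ⟨h1, h2⟩
    obtain ⟨τ, h3, h4, h5⟩ := hG.inv σ h1
    refine ⟨τ, ⟨h3, ?_⟩, h4, h5⟩
    have := congrFun h4 lam
    simp only [Function.comp, id] at this
    rw [h2] at this
    exact this

theorem psum_singleton_id (P : R → Prop) (Φ : Set R) (G : Set (R → R)) (q : ℕ) (hG : ∀ σ ∈ G, σ = id)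
    (h1 : id ∈ G) : psum P Φ G q = 1 := by
  unfold psum
  have : Finset.univ.filter (fun σ : R → R => σ ∈ G) = {id} := by
    ext σ
    simp only [Finset.mem_filter, Finset.mem_univ, true_and, Finset.mem_singleton]
    exact ⟨hG σ, fun h => h ▸ h1⟩
  rw [this, Finset.sum_singleton]
  have : inv P Φ (id : R → R) = 0 := by
    unfold inv
    rw [Finset.card_eq_zero, Finset.filter_eq_empty_iff]
    intro a _ h
    exact h.2.2 h.2.1
  rw [this, pow_zero]

section step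

variable (P : R → Prop) (neg : R → R) (G : Set (R → R)) (Φ₀ Φ₁ : Set R) (lam : R)

/-- additivity of the inversion count -/
theorem inv_comp (hneg : ∀ a, P (neg a) ↔ ¬ P a)
    (hGneg : ∀ σ ∈ G, ∀ a, σ (neg a) = neg (σ a)) (hG : IsGrp G)
    (hsub : Φ₁ ⊆ Φ₀) (hnegΦ : ∀ a ∈ Φ₁, neg a ∈ Φ₁)
    (h0 : ∀ v ∈ stab G lam, ∀ a, a ∈ Φ₀ → v a ∈ Φ₀)
    (h1 : ∀ v ∈ stab G lam, ∀ a, a ∈ Φ₁ → v a ∈ Φ₁)
    (hpos : ∀ v ∈ stab G lam, ∀ a ∈ Φ₀, a ∉ Φ₁ → P a → P (v a))
    (u : R → R) (hu : u ∈ G) (hupos : ∀ a ∈ Φ₁, P a → P (u a))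
    (v : R → R) (hv : v ∈ stab G lam) :
    inv P Φ₀ (u ∘ v) = inv P Φ₀ u + inv P Φ₁ v := by
  have hG1 := hG.stab lam
  obtain ⟨v', hv', hv'1, hv'2⟩ := hG1.inv v hv
  -- `v` reflects membership too
  have h1' : ∀ a, v a ∈ Φ₁ → a ∈ Φ₁ := by
    intro a ha
    have := h1 v' hv' (v a) ha
    have e : v' (v a) = a := congrFun hv'1 a
    rwa [e] at this
  have h0' : ∀ a, v a ∈ Φ₀ → a ∈ Φ₀ := by
    intro a ha
    have := h0 v' hv' (v a) ha
    have e : v' (v a) = a := congrFun hv'1 a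
    rwa [e] at this
  -- `u` on `Φ₁`: sign-preserving
  have husign : ∀ b ∈ Φ₁, (P (u b) ↔ P b) := by
    intro b hb
    constructor
    · intro h
      by_contra hnb
      have h2 : P (neg b) := (hneg b).mpr hnb
      have h3 := hupos (neg b) (hnegΦ b hb) h2
      rw [hGneg u hu b, hneg] at h3
      exact h3 h
    · exact hupos b hb
  -- split the count
  unfold inv
  have split : ∀ (σ : R → R),
      (Finset.univ.filter fun a : R => a ∈ Φ₀ ∧ P a ∧ ¬ P (σ a)) =
        (Finset.univ.filter fun a : R => a ∈ Φ₁ ∧ P a ∧ ¬ P (σ a)) ∪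
        (Finset.univ.filter fun a : R => (a ∈ Φ₀ ∧ a ∉ Φ₁) ∧ P a ∧ ¬ P (σ a)) := by
    intro σ
    ext a
    simp only [Finset.mem_filter, Finset.mem_univ, true_and, Finset.mem_union]
    constructor
    · rintro ⟨ha, hp⟩
      by_cases h : a ∈ Φ₁
      · exact Or.inl ⟨h, hp⟩
      · exact Or.inr ⟨⟨ha, h⟩, hp⟩
    · rintro (⟨ha, hp⟩ | ⟨⟨ha, _⟩, hp⟩)
      · exact ⟨hsub ha, hp⟩
      · exact ⟨ha, hp⟩
  have disj : ∀ (σ : R → R), Disjoint
        (Finset.univ.filter fun a : R => a ∈ Φ₁ ∧ P a ∧ ¬ P (σ a))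
        (Finset.univ.filter fun a : R => (a ∈ Φ₀ ∧ a ∉ Φ₁) ∧ P a ∧ ¬ P (σ a)) := by
    intro σ
    rw [Finset.disjoint_left]
    intro a ha hb
    simp only [Finset.mem_filter, Finset.mem_univ, true_and] at ha hb
    exact hb.1.2 ha.1
  rw [split (u ∘ v), split u, Finset.card_union_of_disjoint (disj _), Finset.card_union_of_disjoint (disj _)]
  -- the `Φ₁`-part of `u` is empty
  have e1 : (Finset.univ.filter fun a : R => a ∈ Φ₁ ∧ P a ∧ ¬ P (u a)) = ∅ := by
    rw [Finset.filter_eq_empty_iff]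
    intro a _ h
    exact h.2.2 (hupos a h.1 h.2.1)
  -- the `Φ₁`-part of `u ∘ v` is that of `v`
  have e2 : (Finset.univ.filter fun a : R => a ∈ Φ₁ ∧ P a ∧ ¬ P ((u ∘ v) a)) =
      (Finset.univ.filter fun a : R => a ∈ Φ₁ ∧ P a ∧ ¬ P (v a)) := by
    ext a
    simp only [Finset.mem_filter, Finset.mem_univ, true_and, Function.comp]
    constructor
    · rintro ⟨ha, hp, hn⟩
      exact ⟨ha, hp, fun h => hn ((husign (v a) (h1 v hv a ha)).mpr h)⟩
    · rintro ⟨ha, hp, hn⟩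
      exact ⟨ha, hp, fun h => hn ((husign (v a) (h1 v hv a ha)).mp h)⟩
  -- the outer part: `v` permutes the positive elements of `Φ₀ \ Φ₁`
  have e3 : (Finset.univ.filter fun a : R => (a ∈ Φ₀ ∧ a ∉ Φ₁) ∧ P a ∧ ¬ P ((u ∘ v) a)).card =
      (Finset.univ.filter fun a : R => (a ∈ Φ₀ ∧ a ∉ Φ₁) ∧ P a ∧ ¬ P (u a)).card := by
    apply Finset.card_bij (fun a _ => v a)
    · intro a ha
      simp only [Finset.mem_filter, Finset.mem_univ, true_and, Function.comp] at ha ⊢
      obtain ⟨⟨ha0, ha1⟩, hp, hn⟩ := ha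
      exact ⟨⟨h0 v hv a ha0, fun h => ha1 (h1' a h)⟩, hpos v hv a ha0 ha1 hp, hn⟩
    · intro a _ b _ hab
      exact hG1.injective hv hab
    · intro b hb
      simp only [Finset.mem_filter, Finset.mem_univ, true_and] at hb
      obtain ⟨⟨hb0, hb1⟩, hp, hn⟩ := hb
      have e : v (v' b) = b := congrFun hv'2 b
      refine ⟨v' b, ?_, e⟩
      simp only [Finset.mem_filter, Finset.mem_univ, true_and, Function.comp]
      have m0 : v' b ∈ Φ₀ := h0 v' hv' b hb0
      have m1 : v' b ∉ Φ₁ := fun h => hb1 (by have := h1 v hv _ h; rwa [e] at this)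
      refine ⟨⟨m0, m1⟩, hpos v' hv' b hb0 hb1 hp, ?_⟩
      rw [e]
      exact hn
  rw [e1, e2, e3, Finset.card_empty, zero_add, add_comm]

/-- **the chain step** (orbit indexed by a finite type) -/
theorem psum_step {ι : Type*} [Fintype ι] (hneg : ∀ a, P (neg a) ↔ ¬ P a)
    (hGneg : ∀ σ ∈ G, ∀ a, σ (neg a) = neg (σ a)) (hG : IsGrp G)
    (hsub : Φ₁ ⊆ Φ₀) (hnegΦ : ∀ a ∈ Φ₁, neg a ∈ Φ₁)
    (h0 : ∀ v ∈ stab G lam, ∀ a, a ∈ Φ₀ → v a ∈ Φ₀)
    (h1 : ∀ v ∈ stab G lam, ∀ a, a ∈ Φ₁ → v a ∈ Φ₁)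
    (hpos : ∀ v ∈ stab G lam, ∀ a ∈ Φ₀, a ∉ Φ₁ → P a → P (v a))
    (mu : ι → R) (hmu : Function.Injective mu) (u : ι → R → R)
    (hu : ∀ i, u i ∈ G ∧ u i lam = mu i ∧ ∀ a ∈ Φ₁, P a → P (u i a))
    (hO : ∀ σ ∈ G, ∃ i, mu i = σ lam) (q : ℕ) :
    psum P Φ₀ G q = (∑ i : ι, q ^ inv P Φ₀ (u i)) * psum P Φ₁ (stab G lam) q := by
  unfold psum
  rw [Finset.sum_mul_sum, ← Finset.sum_product']
  symm
  apply Finset.sum_bij (fun (x : ι × (R → R)) _ => u x.1 ∘ x.2)
  · rintro ⟨i, v⟩ hx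
    simp only [Finset.mem_product, Finset.mem_filter, Finset.mem_univ, true_and] at hx ⊢
    exact hG.mul _ (hu i).1 _ hx.1
  · rintro ⟨i, v⟩ hx ⟨i', v'⟩ hx' he
    simp only [Finset.mem_product, Finset.mem_filter, Finset.mem_univ, true_and] at hx hx'
    simp only at he
    have e1 := congrFun he lam
    simp only [Function.comp] at e1
    rw [hx.2, hx'.2, (hu i).2.1, (hu i').2.1] at e1
    have e2 := hmu e1
    subst e2
    have : v = v' := by
      funext a
      exact hG.injective (hu i).1 (congrFun he a)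
    rw [this]
  · intro σ hσ
    simp only [Finset.mem_filter, Finset.mem_univ, true_and] at hσ
    obtain ⟨i, hi⟩ := hO σ hσ
    obtain ⟨τ, hτ, hτ1, hτ2⟩ := hG.inv (u i) (hu i).1
    refine ⟨(i, τ ∘ σ), ?_, ?_⟩
    · simp only [Finset.mem_product, Finset.mem_filter, Finset.mem_univ, true_and]
      refine ⟨hG.mul _ hτ _ hσ, ?_⟩
      simp only [Function.comp]
      have := congrFun hτ1 lam
      simp only [Function.comp, id] at this
      rw [(hu i).2.1, hi] at this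
      exact this
    · simp only
      rw [← Function.comp_assoc, hτ2]
      rfl
  · rintro ⟨i, v⟩ hx
    simp only [Finset.mem_product, Finset.mem_filter, Finset.mem_univ, true_and] at hx
    simp only
    rw [inv_comp P neg G Φ₀ Φ₁ lam hneg hGneg hG hsub hnegΦ h0 h1 hpos (u i) (hu i).1 (hu i).2.2 v hx,
      pow_add]

end step

end Cfsg.Agent.Lib.H13.WChain
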