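import Mathlib
import Cfsg.Prelude.Def_ChevStructure
import Cfsg.Agent.Lib.H29.ChevGen39

/-!
# Words in the fundamental reflections: invariance of the pairing and linearity on root coordinates (generic)
-/

set_option autoImplicit false
set_option linter.unusedSectionVars false
set_option linter.unusedSimpArgs false
set_option linter.unusedVariables false

namespace Cfsg.Agent.Lib.H13.WChain

open Cfsg.Lie Matrix Cfsg.Agent.Lib.H29.Chev

variable {D : ChevalleyDatum} {fd : FD} {fx : FX} {fc : FC} {fz : FZ}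

section

variable (C : Cert12 D fd fx fc fz)
include C

/-- a fundamental reflection preserves the pairing `⟨a, b^∨⟩` -/
theorem pr_sw (i a b : ℕ) (hi : i < fd.l) (ha : a < fd.n) (hb : b < fd.n) :
    fd.pr (fd.sw fx i a) (fd.sw fx i b) = fd.pr a b := by
  have hp := C.c6.c2.simple_lt i hi
  have hnn := C.c6.c2.chk.nn
  have hlin := C.c6.c2.chk.lin
  have ha' : fd.nw fx (fd.simples.getD i 0) a < fd.n := (fd.nw_spec hnn _ a hp ha).1
  unfold FD.sw
  rw [fd.pr_lin hlin _ _ ha', C.c6.c2.prs_nw_simple i b hi hb, fd.omr_sub_smul,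
    fd.omr_nw hnn _ _ a hp ha, fd.omr_nw hnn _ _ a hp ha,
    ← fd.pr_lin hlin a b ha, ← fd.pr_lin hlin _ b hp, ← fd.pr_lin hlin a _ ha, ← fd.pr_lin hlin _ _ hp,
    C.c6.c2.pr_self _ hp]
  ring

/-- a word in the fundamental reflections preserves the pairing -/
theorem pr_wordP (w : List ℕ) (hw : IsWd fd.l w) (a b : ℕ) (ha : a < fd.n) (hb : b < fd.n) :
    fd.pr (fd.wordP fx w a) (fd.wordP fx w b) = fd.pr a b := by
  induction w with
  | nil => rfl
  | cons i w ih =>
    obtain ⟨hi, hw'⟩ := hw.of_cons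
    simp only [FD.wordP]
    rw [pr_sw C i _ _ hi (C.wordP_lt w hw' a ha) (C.wordP_lt w hw' b hb), ih hw']

/-- the pairing is odd in the first argument -/
theorem pr_neg_left (a b : ℕ) (ha : a < fd.n) : fd.pr (fd.n - 1 - a) b = - fd.pr a b := by
  have hlin := C.c6.c2.chk.lin
  have ha' : fd.n - 1 - a < fd.n := by omega
  rw [fd.pr_lin hlin _ b ha', fd.pr_lin hlin a b ha, fd.omr_neg C.c6.c2.chk.pref _ a ha]

/-- a functional on a fundamental root is its coefficient -/
theorem omr_simple (a : ℕ → ℤ) (k : ℕ) (hk : k < fd.l) : fd.omr fx a (fd.simples.getD k 0) = a k := by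
  unfold FD.omr
  rw [listsum_eq, Finset.sum_eq_single k]
  · rw [C.rcZ_simple k k hk hk, if_pos rfl, mul_one]
  · intro j hj hjk
    rw [C.rcZ_simple k j hk (Finset.mem_range.mp hj), if_neg (Ne.symm hjk), mul_zero]
  · intro h; exact absurd (Finset.mem_range.mpr hk) h

/-- linearity of a word on the root coordinates, tested against any functional -/
theorem omr_wordP_lin (w : List ℕ) (hw : IsWd fd.l w) (s : ℕ) (hs : s < fd.n) :
    ∀ a : ℕ → ℤ, fd.omr fx a (fd.wordP fx w s) =
      ∑ k ∈ Finset.range fd.l, fd.rcZ fx s k * fd.omr fx a (fd.wordP fx w (fd.simples.getD k 0)) := by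
  induction w with
  | nil =>
    intro a
    simp only [FD.wordP]
    have : ∀ k ∈ Finset.range fd.l, fd.rcZ fx s k * fd.omr fx a (fd.simples.getD k 0) = a k * fd.rcZ fx s k := by
      intro k hk
      rw [omr_simple C a k (Finset.mem_range.mp hk), mul_comm]
    rw [Finset.sum_congr rfl this]
    unfold FD.omr
    rw [listsum_eq]
  | cons i w ih =>
    obtain ⟨hi, hw'⟩ := hw.of_cons
    intro a
    have hp := C.c6.c2.simple_lt i hi
    have hnn := C.c6.c2.chk.nn
    have hlin := C.c6.c2.chk.lin
    simp only [FD.wordP]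
    unfold FD.sw
    have ht := C.wordP_lt w hw' s hs
    -- the functional `a' = a - (a p) ⟨·, p^∨⟩`
    have key : ∀ t < fd.n, fd.omr fx a (fd.nw fx (fd.simples.getD i 0) t) =
        fd.omr fx (fun j => a j - fd.omr fx a (fd.simples.getD i 0) * fd.prs (fd.simples.getD i 0) j) t := by
      intro t ht
      rw [fd.omr_nw hnn a _ t hp ht, fd.omr_sub_smul, ← fd.pr_lin hlin t _ ht]
      ring
    rw [key _ ht, ih hw']
    apply Finset.sum_congr rfl
    intro k hk
    have hk' := Finset.mem_range.mp hk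
    rw [key _ (C.wordP_lt w hw' _ (C.c6.c2.simple_lt k hk'))]

end

end Cfsg.Agent.Lib.H13.WChain
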