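import Mathlib
import Cfsg.Prelude.Def_ChevStructure
import Cfsg.Agent.Lib.H13.WChainA
import Cfsg.Agent.Lib.H13.WChainB
import Cfsg.Agent.Lib.H29.ChevPoly

/-!
# Stabilizer chains in the Weyl group of a Chevalley datum: the groups `GS`, the root sets `PhiS` (generic)

`a : ℕ → ℤ` is a functional on the root lattice; `chiB a r` is the parity of its value on the root `r`.
For a list `L` of roots, `GS a L` is the set of the elements of the Weyl group (as maps on the roots) preserving
`chiB a` and fixing every root of `L`; `PhiS a L` is the set of the roots with `chiB a = false` orthogonal to `L`.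
-/

set_option autoImplicit false
set_option linter.unusedSectionVars false
set_option linter.unusedSimpArgs false
set_option linter.unusedVariables false

namespace Cfsg.Agent.Lib.H13.WChain

open Cfsg.Lie Matrix Cfsg.Agent.Lib.H29.Chev

variable {D : ChevalleyDatum} {fd : FD} {fx : FX} {fc : FC} {fz : FZ}

/-- Boolean test `0 ≤ x` through the constructors -/
def intNonneg : ℤ → Bool
  | Int.ofNat _ => true
  | Int.negSucc _ => false

theorem intNonneg_iff (x : ℤ) : intNonneg x = true ↔ 0 ≤ x := by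
  cases x with
  | ofNat n => simp [intNonneg]
  | negSucc n => simp [intNonneg, Int.negSucc_lt_zero]

/-- Boolean equality of Booleans -/
def beqB : Bool → Bool → Bool
  | true, true => true
  | false, false => true
  | _, _ => false

theorem beqB_iff (x y : Bool) : beqB x y = true ↔ x = y := by
  cases x <;> cases y <;> simp [beqB]

/-- the parity character of the functional `a` (true = odd) -/
def chiB (fd : FD) (fx : FX) (a : ℕ → ℤ) (r : ℕ) : Bool := intBeq (fd.omr fx a r % 2) 1

theorem chiB_iff (a : ℕ → ℤ) (r : ℕ) : chiB fd fx a r = true ↔ Odd (fd.omr fx a r) := by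
  unfold chiB
  rw [intBeq_iff, Int.odd_iff]

theorem chiB_eq_iff (a : ℕ → ℤ) (r s : ℕ) :
    chiB fd fx a r = chiB fd fx a s ↔ Even (fd.omr fx a r - fd.omr fx a s) := by
  rw [Int.even_sub', ← chiB_iff, ← chiB_iff]
  cases chiB fd fx a r <;> cases chiB fd fx a s <;> simp

/-- membership in the root set: `chiB a r = false` and `r` orthogonal to the roots of `L` -/
def inPhiB (fd : FD) (fx : FX) (a : ℕ → ℤ) (L : List ℕ) (r : ℕ) : Bool :=
  !(chiB fd fx a r) && L.all fun lam => intBeq (fd.pr r lam) 0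

theorem inPhiB_iff (a : ℕ → ℤ) (L : List ℕ) (r : ℕ) :
    inPhiB fd fx a L r = true ↔ chiB fd fx a r = false ∧ ∀ lam ∈ L, fd.pr r lam = 0 := by
  unfold inPhiB
  simp only [Bool.and_eq_true, Bool.not_eq_true', List.all_eq_true, intBeq_iff]

theorem inPhiB_cons (a : ℕ → ℤ) (L : List ℕ) (lam r : ℕ) :
    inPhiB fd fx a (lam :: L) r = (inPhiB fd fx a L r && intBeq (fd.pr r lam) 0) := by
  unfold inPhiB
  simp only [List.all_cons]
  cases chiB fd fx a r <;> cases intBeq (fd.pr r lam) 0 <;> simp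

/-- the list of the positive roots of the root set -/
def posPhi (fd : FD) (fx : FX) (a : ℕ → ℤ) (L : List ℕ) : List ℕ :=
  (List.range fd.n).filter fun r => Nat.ble (fd.n / 2) r && inPhiB fd fx a L r

theorem posPhi_cons (a : ℕ → ℤ) (L : List ℕ) (lam : ℕ) :
    posPhi fd fx a (lam :: L) = (posPhi fd fx a L).filter fun r => intBeq (fd.pr r lam) 0 := by
  unfold posPhi
  rw [List.filter_filter]
  apply List.filter_congr
  intro r _
  rw [inPhiB_cons]
  cases Nat.ble (fd.n / 2) r <;> cases inPhiB fd fx a L r <;> cases intBeq (fd.pr r lam) 0 <;> rfl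

theorem mem_posPhi (a : ℕ → ℤ) (L : List ℕ) (r : ℕ) :
    r ∈ posPhi fd fx a L ↔ r < fd.n ∧ fd.n / 2 ≤ r ∧ inPhiB fd fx a L r = true := by
  unfold posPhi
  simp only [List.mem_filter, List.mem_range, Bool.and_eq_true, Nat.ble_eq]

/-- the root set, as a set of indices -/
def PhiS (fd : FD) (fx : FX) (a : ℕ → ℤ) (L : List ℕ) : Set (Fin fd.n) := {r | inPhiB fd fx a L r.val = true}

/-- the elements of the Weyl group preserving the character and fixing the roots of `L` -/
def GS (fd : FD) (fx : FX) (a : ℕ → ℤ) (L : List ℕ) : Set (Fin fd.n → Fin fd.n) :=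
  {σ | σ ∈ Wk fd fx fd.l ∧ (∀ r, chiB fd fx a (σ r).val = chiB fd fx a r.val) ∧
    ∀ lam ∈ L, ∀ h : lam < fd.n, σ ⟨lam, h⟩ = ⟨lam, h⟩}

/-- positivity of a root -/
def Ppos (fd : FD) : Fin fd.n → Prop := fun r => fd.n / 2 ≤ r.val

/-- the negative of a root -/
def negF (fd : FD) : Fin fd.n → Fin fd.n := fun r => ⟨fd.n - 1 - r.val, by have := r.isLt; omega⟩

/-- the map on the roots of a word -/
def wfun (fd : FD) (fx : FX) (w : List ℕ) : Fin fd.n → Fin fd.n :=
  fun r => if h : fd.wordP fx w r.val < fd.n then ⟨fd.wordP fx w r.val, h⟩ else r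

theorem stab_GS (a : ℕ → ℤ) (L : List ℕ) (lam : ℕ) (h : lam < fd.n) :
    stab (GS fd fx a L) ⟨lam, h⟩ = GS fd fx a (lam :: L) := by
  ext σ
  unfold stab GS
  simp only [Set.mem_ofPred_eq, List.mem_cons, forall_eq_or_imp]
  constructor
  · rintro ⟨⟨h1, h2, h3⟩, h4⟩
    exact ⟨h1, h2, fun _ => h4, h3⟩
  · rintro ⟨h1, h2, h4, h3⟩
    exact ⟨⟨h1, h2, h3⟩, h4 h⟩

section

variable (C : Cert12 D fd fx fc fz)
include C

theorem wfun_val (w : List ℕ) (hw : IsWd fd.l w) (r : Fin fd.n) : (wfun fd fx w r).val = fd.wordP fx w r.val := by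
  unfold wfun
  rw [dif_pos (C.wordP_lt w hw r.val r.isLt)]

theorem wfun_mem_Wk (w : List ℕ) (hw : IsWd fd.l w) : wfun fd fx w ∈ Wk fd fx fd.l :=
  ⟨w, hw, fun s => wfun_val C w hw s⟩

theorem eq_wfun {σ : Fin fd.n → Fin fd.n} {w : List ℕ} (hw : IsWd fd.l w)
    (h : ∀ s : Fin fd.n, (σ s).val = fd.wordP fx w s.val) : σ = wfun fd fx w := by
  funext s
  apply Fin.ext
  rw [h s, wfun_val C w hw]

theorem hneg_Ppos (r : Fin fd.n) : Ppos fd (negF fd r) ↔ ¬ Ppos fd r := by
  have hev := C.c6.c2.heven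
  have := r.isLt
  unfold Ppos negF
  simp only
  omega

/-- the character is even -/
theorem chiB_neg (a : ℕ → ℤ) (r : ℕ) (hr : r < fd.n) : chiB fd fx a (fd.n - 1 - r) = chiB fd fx a r := by
  rw [chiB_eq_iff, fd.omr_neg C.c6.c2.chk.pref a r hr]
  exact ⟨- fd.omr fx a r, by ring⟩

/-- a word preserving the character on the fundamental roots preserves it on all roots -/
theorem chiB_wordP (a : ℕ → ℤ) (w : List ℕ) (hw : IsWd fd.l w)
    (h : ∀ k < fd.l, chiB fd fx a (fd.wordP fx w (fd.simples.getD k 0)) = chiB fd fx a (fd.simples.getD k 0))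
    (r : ℕ) (hr : r < fd.n) : chiB fd fx a (fd.wordP fx w r) = chiB fd fx a r := by
  rw [chiB_eq_iff, omr_wordP_lin C w hw r hr a]
  have e : fd.omr fx a r = ∑ k ∈ Finset.range fd.l, fd.rcZ fx r k * fd.omr fx a (fd.simples.getD k 0) := by
    have := omr_wordP_lin C [] (by intro i hi; simp at hi) r hr a
    simpa [FD.wordP] using this
  rw [e, ← Finset.sum_sub_distrib]
  apply Finset.even_sum
  intro k hk
  rw [← mul_sub]
  apply Even.mul_left
  rw [← chiB_eq_iff]
  exact h k (Finset.mem_range.mp hk)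

theorem GS_neg (a : ℕ → ℤ) (L : List ℕ) (σ : Fin fd.n → Fin fd.n) (hσ : σ ∈ GS fd fx a L) (r : Fin fd.n) :
    σ (negF fd r) = negF fd (σ r) := by
  obtain ⟨⟨w, hw, h⟩, _, _⟩ := hσ
  apply Fin.ext
  rw [h]
  unfold negF
  simp only
  rw [C.wordP_neg w hw r.val r.isLt, h]

theorem GS_pr (a : ℕ → ℤ) (L : List ℕ) (σ : Fin fd.n → Fin fd.n) (hσ : σ ∈ GS fd fx a L) (r s : Fin fd.n) :
    fd.pr (σ r).val (σ s).val = fd.pr r.val s.val := by
  obtain ⟨⟨w, hw, h⟩, _, _⟩ := hσ
  rw [h, h, pr_wordP C w hw _ _ r.isLt s.isLt]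

theorem GS_isGrp (a : ℕ → ℤ) (L : List ℕ) : IsGrp (GS fd fx a L) := by
  refine ⟨?_, ?_, ?_⟩
  · refine ⟨⟨[], by intro i hi; simp at hi, fun s => rfl⟩, fun r => rfl, fun lam _ h => rfl⟩
  · rintro σ ⟨⟨w1, hw1, h1⟩, h2, h3⟩ τ ⟨⟨w2, hw2, k1⟩, k2, k3⟩
    refine ⟨⟨w1 ++ w2, hw1.append hw2, fun s => ?_⟩, fun r => ?_, fun lam hl h => ?_⟩
    · simp only [Function.comp]
      rw [fd.wordP_append, h1, k1]
    · simp only [Function.comp]
      rw [h2, k2]
    · simp only [Function.comp]
      rw [k3 lam hl h, h3 lam hl h]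
  · rintro σ ⟨⟨w, hw, h1⟩, h2, h3⟩
    have e1 : wfun fd fx w.reverse ∘ σ = id := by
      funext s
      apply Fin.ext
      simp only [Function.comp, id]
      rw [wfun_val C _ hw.reverse, h1, C.wordP_rev w hw s.val s.isLt]
    have e2 : σ ∘ wfun fd fx w.reverse = id := by
      funext s
      apply Fin.ext
      simp only [Function.comp, id]
      rw [h1, wfun_val C _ hw.reverse, C.wordP_rev' w hw s.val s.isLt]
    refine ⟨wfun fd fx w.reverse, ⟨wfun_mem_Wk C _ hw.reverse, fun r => ?_, fun lam hl h => ?_⟩, e1, e2⟩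
    · have := h2 (wfun fd fx w.reverse r)
      have e : σ (wfun fd fx w.reverse r) = r := congrFun e2 r
      rw [e] at this
      exact this.symm
    · have := congrFun e1 ⟨lam, h⟩
      simp only [Function.comp, id] at this
      rw [h3 lam hl h] at this
      exact this

end

end Cfsg.Agent.Lib.H13.WChain
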