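import Mathlib
import Cfsg.Prelude.Def_ChevStructure
import Cfsg.Agent.Lib.H13.WChainC

/-!
# Stabilizer chains in the Weyl group of a Chevalley datum: the level step from a Boolean certificate (generic)
-/

set_option autoImplicit false
set_option linter.unusedSectionVars false
set_option linter.unusedSimpArgs false
set_option linter.unusedVariables false

namespace Cfsg.Agent.Lib.H13.WChain

open Cfsg.Lie Matrix Cfsg.Agent.Lib.H29.Chev

variable {D : ChevalleyDatum} {fd : FD} {fx : FX} {fc : FC} {fz : FZ}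

/-- a level of a stabilizer chain: the root `lam` and the list of the pairs (root of the orbit, word) -/
structure Lev where
  lam : ℕ
  orb : List (ℕ × List ℕ)

/-- `lam` is dominant for the positive roots `PP` -/
def chkDom (fd : FD) (PP : List ℕ) (lam : ℕ) : Bool := PP.all fun r => intNonneg (fd.pr r lam)

/-- every root with the invariants of `lam` occurs in the orbit list -/
def chkUp (fd : FD) (fx : FX) (a : ℕ → ℤ) (L : List ℕ) (lam : ℕ) (orb : List (ℕ × List ℕ)) : Bool :=
  (List.range fd.n).all fun s =>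
    !(beqB (chiB fd fx a s) (chiB fd fx a lam) && L.all fun lam' => intBeq (fd.pr s lam') (fd.pr lam lam')) ||
      orb.any fun e => Nat.beq e.1 s

/-- the word of an entry is valid, maps `lam` to the root of the entry, fixes `L`, preserves the character on the
fundamental roots and keeps the roots of `PPn` positive -/
def chkEnt (fd : FD) (fx : FX) (a : ℕ → ℤ) (L : List ℕ) (lam : ℕ) (PPn : List ℕ) (e : ℕ × List ℕ) : Bool :=
  e.2.all (fun i => Nat.blt i fd.l) && Nat.beq (fd.wordP fx e.2 lam) e.1 &&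
  L.all (fun lam' => Nat.beq (fd.wordP fx e.2 lam') lam') &&
  (List.range fd.l).all (fun k =>
    beqB (chiB fd fx a (fd.wordP fx e.2 (fd.simples.getD k 0))) (chiB fd fx a (fd.simples.getD k 0))) &&
  PPn.all (fun r => Nat.ble (fd.n / 2) (fd.wordP fx e.2 r))

def chkLev (fd : FD) (fx : FX) (a : ℕ → ℤ) (L : List ℕ) (PP PPn : List ℕ) (lv : Lev) : Bool :=
  Nat.blt lv.lam fd.n && chkDom fd PP lv.lam && chkUp fd fx a L lv.lam lv.orb &&
    lv.orb.all (chkEnt fd fx a L lv.lam PPn)

/-- the number of the roots of `PP` made negative by the word `w` -/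
def lenW (fd : FD) (fx : FX) (PP : List ℕ) (w : List ℕ) : ℕ :=
  (PP.filter fun r => Nat.blt (fd.wordP fx w r) (fd.n / 2)).length

theorem card_filter_fin (n : ℕ) (p : ℕ → Bool) :
    (Finset.univ.filter fun r : Fin n => p r.val = true).card = ((List.range n).filter p).length := by
  rw [← List.toFinset_card_of_nodup (List.Nodup.filter _ List.nodup_range)]
  apply Finset.card_bij (fun r _ => r.val)
  · intro r hr
    simp only [Finset.mem_filter, Finset.mem_univ, true_and] at hr
    simp only [List.mem_toFinset, List.mem_filter, List.mem_range]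
    exact ⟨r.isLt, hr⟩
  · intro r _ s _ h
    exact Fin.ext h
  · intro m hm
    simp only [List.mem_toFinset, List.mem_filter, List.mem_range] at hm
    exact ⟨⟨m, hm.1⟩, by simp only [Finset.mem_filter, Finset.mem_univ, true_and]; exact hm.2, rfl⟩

section

variable (C : Cert12 D fd fx fc fz)
include C

theorem PhiS_neg (a : ℕ → ℤ) (L : List ℕ) (r : Fin fd.n) (hr : r ∈ PhiS fd fx a L) :
    negF fd r ∈ PhiS fd fx a L := by
  unfold PhiS at hr ⊢
  simp only [Set.mem_ofPred_eq] at hr ⊢
  rw [inPhiB_iff] at hr ⊢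
  unfold negF
  simp only
  refine ⟨by rw [chiB_neg C a r.val r.isLt]; exact hr.1, fun lam hl => ?_⟩
  rw [pr_neg_left C r.val lam r.isLt, hr.2 lam hl, neg_zero]

theorem GS_PhiS (a : ℕ → ℤ) (L : List ℕ) (hL : ∀ lam ∈ L, lam < fd.n) (σ : Fin fd.n → Fin fd.n)
    (hσ : σ ∈ GS fd fx a L) (r : Fin fd.n) (hr : r ∈ PhiS fd fx a L) : σ r ∈ PhiS fd fx a L := by
  unfold PhiS at hr ⊢
  simp only [Set.mem_ofPred_eq] at hr ⊢
  rw [inPhiB_iff] at hr ⊢
  refine ⟨by rw [hσ.2.1 r]; exact hr.1, fun lam hl => ?_⟩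
  have h1 := GS_pr C a L σ hσ r ⟨lam, hL lam hl⟩
  rw [hσ.2.2 lam hl (hL lam hl)] at h1
  simp only at h1
  rw [h1, hr.2 lam hl]

theorem inv_eq_lenW (a : ℕ → ℤ) (L : List ℕ) (w : List ℕ) (hw : IsWd fd.l w) :
    inv (Ppos fd) (PhiS fd fx a L) (wfun fd fx w) = lenW fd fx (posPhi fd fx a L) w := by
  unfold inv lenW posPhi
  rw [List.filter_filter, ← card_filter_fin]
  congr 1
  ext r
  simp only [Finset.mem_filter, Finset.mem_univ, true_and, PhiS, Set.mem_ofPred_eq, Ppos, Bool.and_eq_true,
    Nat.ble_eq, natBlt_iff, wfun_val C w hw, not_le]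
  tauto

theorem GS_final (a : ℕ → ℤ) (L : List ℕ) (hL : ∀ lam ∈ L, lam < fd.n)
    (hinj : ((List.range fd.n).map fun r => L.map fun lam => fd.pr r lam).Nodup)
    (σ : Fin fd.n → Fin fd.n) (hσ : σ ∈ GS fd fx a L) : σ = id := by
  funext r
  apply Fin.ext
  simp only [id]
  apply List.inj_on_of_nodup_map hinj (List.mem_range.mpr (σ r).isLt) (List.mem_range.mpr r.isLt)
  apply List.map_congr_left
  intro lam hl
  have h1 := GS_pr C a L σ hσ r ⟨lam, hL lam hl⟩
  rw [hσ.2.2 lam hl (hL lam hl)] at h1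
  exact h1

theorem psum_final (a : ℕ → ℤ) (L : List ℕ) (hL : ∀ lam ∈ L, lam < fd.n)
    (hinj : ((List.range fd.n).map fun r => L.map fun lam => fd.pr r lam).Nodup) (q : ℕ) :
    psum (Ppos fd) (PhiS fd fx a L) (GS fd fx a L) q = 1 :=
  psum_singleton_id _ _ _ q (GS_final C a L hL hinj) (GS_isGrp C a L).one

/-- **the level step** -/
theorem lev_step (a : ℕ → ℤ) (L : List ℕ) (hL : ∀ lam ∈ L, lam < fd.n) (PP PPn : List ℕ) (lv : Lev)
    (hPP : PP = posPhi fd fx a L) (hPPn : PPn = PP.filter fun r => intBeq (fd.pr r lv.lam) 0)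
    (hchk : chkLev fd fx a L PP PPn lv = true) (hnd : (lv.orb.map Prod.fst).Nodup) (q : ℕ) :
    psum (Ppos fd) (PhiS fd fx a L) (GS fd fx a L) q =
      (lv.orb.map fun e => q ^ lenW fd fx PP e.2).sum *
        psum (Ppos fd) (PhiS fd fx a (lv.lam :: L)) (GS fd fx a (lv.lam :: L)) q := by
  unfold chkLev at hchk
  simp only [Bool.and_eq_true, natBlt_iff, List.all_eq_true] at hchk
  obtain ⟨⟨⟨hlam, hdom⟩, hup⟩, hent⟩ := hchk
  have hPPn' : PPn = posPhi fd fx a (lv.lam :: L) := by rw [hPPn, hPP, posPhi_cons]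
  have hL' : ∀ lam ∈ lv.lam :: L, lam < fd.n := by
    intro lam hl
    rcases List.mem_cons.mp hl with rfl | hl
    · exact hlam
    · exact hL lam hl
  -- the entries
  have hentry : ∀ e ∈ lv.orb, IsWd fd.l e.2 ∧ fd.wordP fx e.2 lv.lam = e.1 ∧
      (∀ lam' ∈ L, fd.wordP fx e.2 lam' = lam') ∧
      (∀ k < fd.l, chiB fd fx a (fd.wordP fx e.2 (fd.simples.getD k 0)) = chiB fd fx a (fd.simples.getD k 0)) ∧
      (∀ r ∈ PPn, fd.n / 2 ≤ fd.wordP fx e.2 r) := by
    intro e he
    have := hent e he
    unfold chkEnt at this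
    simp only [Bool.and_eq_true, List.all_eq_true, natBlt_iff, natBeq_iff, beqB_iff, List.mem_range,
      Nat.ble_eq] at this
    obtain ⟨⟨⟨⟨h1, h2⟩, h3⟩, h4⟩, h5⟩ := this
    exact ⟨h1, h2, h3, h4, h5⟩
  have hentlt : ∀ e ∈ lv.orb, e.1 < fd.n := by
    intro e he
    obtain ⟨h1, h2, _⟩ := hentry e he
    rw [← h2]
    exact C.wordP_lt e.2 h1 _ hlam
  have hstep := psum_step (Ppos fd) (negF fd) (GS fd fx a L) (PhiS fd fx a L) (PhiS fd fx a (lv.lam :: L))
    ⟨lv.lam, hlam⟩ (hneg_Ppos C) (GS_neg C a L) (GS_isGrp C a L)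
    (by
      intro r hr
      unfold PhiS at hr ⊢
      simp only [Set.mem_ofPred_eq] at hr ⊢
      rw [inPhiB_cons, Bool.and_eq_true] at hr
      exact hr.1)
    (fun r hr => PhiS_neg C a _ r hr)
    (fun v hv r hr => GS_PhiS C a L hL v hv.1 r hr)
    (fun v hv r hr => by
      rw [stab_GS] at hv
      exact GS_PhiS C a _ hL' v hv r hr)
    (by
      intro v hv r hr0 hr1 hp
      -- the pairing with `lam` is positive
      have hmem : r.val ∈ PP := by
        rw [hPP, mem_posPhi]
        exact ⟨r.isLt, hp, hr0⟩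
      have hx0 : 0 ≤ fd.pr r.val lv.lam := by
        have := hdom
        unfold chkDom at this
        rw [List.all_eq_true] at this
        exact (intNonneg_iff _).mp (this r.val hmem)
      have hx1 : fd.pr r.val lv.lam ≠ 0 := by
        intro h0
        apply hr1
        unfold PhiS
        simp only [Set.mem_ofPred_eq]
        rw [inPhiB_cons, Bool.and_eq_true, intBeq_iff]
        exact ⟨hr0, h0⟩
      have hx2 : fd.pr (v r).val lv.lam = fd.pr r.val lv.lam := by
        have := GS_pr C a L v hv.1 r ⟨lv.lam, hlam⟩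
        rw [hv.2] at this
        exact this
      by_contra hnp
      have hp' : Ppos fd (negF fd (v r)) := (hneg_Ppos C (v r)).mpr hnp
      have hm' : negF fd (v r) ∈ PhiS fd fx a L := PhiS_neg C a L _ (GS_PhiS C a L hL v hv.1 r hr0)
      have hmem' : (negF fd (v r)).val ∈ PP := by
        rw [hPP, mem_posPhi]
        exact ⟨(negF fd (v r)).isLt, hp', hm'⟩
      have hx3 : 0 ≤ fd.pr (negF fd (v r)).val lv.lam := by
        have := hdom
        unfold chkDom at this
        rw [List.all_eq_true] at this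
        exact (intNonneg_iff _).mp (this _ hmem')
      unfold negF at hx3
      simp only at hx3
      rw [pr_neg_left C (v r).val lv.lam (v r).isLt, hx2] at hx3
      omega)
    (fun i : Fin lv.orb.length => (⟨(lv.orb[i.val]).1, hentlt _ (List.getElem_mem i.isLt)⟩ : Fin fd.n))
    (by
      intro i j hij
      have h1 : (lv.orb[i.val]).1 = (lv.orb[j.val]).1 := congrArg Fin.val hij
      have h2 : (lv.orb.map Prod.fst)[i.val]'(by rw [List.length_map]; exact i.isLt) =
          (lv.orb.map Prod.fst)[j.val]'(by rw [List.length_map]; exact j.isLt) := by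
        rw [List.getElem_map, List.getElem_map]
        exact h1
      exact Fin.ext ((List.Nodup.getElem_inj_iff hnd).mp h2))
    (fun i : Fin lv.orb.length => wfun fd fx (lv.orb[i.val]).2)
    (by
      intro i
      obtain ⟨h1, h2, h3, h4, h5⟩ := hentry _ (List.getElem_mem i.isLt)
      refine ⟨⟨wfun_mem_Wk C _ h1, fun r => ?_, fun lam' hl h => ?_⟩, ?_, ?_⟩
      · rw [wfun_val C _ h1]
        exact chiB_wordP C a _ h1 h4 r.val r.isLt
      · apply Fin.ext
        rw [wfun_val C _ h1]
        exact h3 lam' hl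
      · apply Fin.ext
        rw [wfun_val C _ h1]
        exact h2
      · intro r hr hp
        unfold Ppos
        rw [wfun_val C _ h1]
        apply h5
        rw [hPPn', mem_posPhi]
        exact ⟨r.isLt, hp, hr⟩)
    (by
      intro σ hσ
      have hs := (σ ⟨lv.lam, hlam⟩).isLt
      have := hup
      unfold chkUp at this
      rw [List.all_eq_true] at this
      have h1 := this (σ ⟨lv.lam, hlam⟩).val (List.mem_range.mpr hs)
      rw [Bool.or_eq_true, Bool.not_eq_true', List.any_eq_true] at h1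
      rcases h1 with h1 | ⟨e, he, h1⟩
      · exfalso
        rw [Bool.and_eq_false_iff] at h1
        rcases h1 with h1 | h1
        · have : beqB (chiB fd fx a (σ ⟨lv.lam, hlam⟩).val) (chiB fd fx a lv.lam) = true := by
            rw [beqB_iff]
            exact hσ.2.1 ⟨lv.lam, hlam⟩
          rw [this] at h1
          exact Bool.noConfusion h1
        · have : (L.all fun lam' => intBeq (fd.pr (σ ⟨lv.lam, hlam⟩).val lam') (fd.pr lv.lam lam')) = true := by
            rw [List.all_eq_true]
            intro lam' hl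
            rw [intBeq_iff]
            have h2 := GS_pr C a L σ hσ ⟨lv.lam, hlam⟩ ⟨lam', hL lam' hl⟩
            rw [hσ.2.2 lam' hl (hL lam' hl)] at h2
            exact h2
          rw [this] at h1
          exact Bool.noConfusion h1
      · rw [natBeq_iff] at h1
        obtain ⟨i, hi, hie⟩ := List.mem_iff_getElem.mp he
        refine ⟨⟨i, hi⟩, ?_⟩
        apply Fin.ext
        simp only
        rw [hie, h1])
    q
  rw [stab_GS] at hstep
  rw [hstep]
  congr 1
  rw [← Fin.sum_univ_fun_getElem lv.orb (fun e => q ^ lenW fd fx PP e.2)]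
  apply Finset.sum_congr rfl
  intro i _
  obtain ⟨h1, _⟩ := hentry _ (List.getElem_mem i.isLt)
  rw [inv_eq_lenW C a L _ h1, hPP]

end

end Cfsg.Agent.Lib.H13.WChain
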