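import Mathlib
import Cfsg.Prelude.Def_ChevStructure
import Cfsg.Agent.Lib.H13.WChainD
import Cfsg.Agent.Lib.H29.CentDiag3

/-!
# The order of the centraliser of an involution of the torus in terms of the stabilizer-chain sums (generic)

If `z ∈ H` has the root values `(-1)^(a(r))` for a functional `a` and `-1 ≠ 1`, the sum in
`Cert12.card_centralizer_diag` is `psum (Ppos fd) (PhiS a []) (GS a [])`.
-/

set_option autoImplicit false
set_option linter.unusedSectionVars false
set_option linter.unusedSimpArgs false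
set_option linter.unusedVariables false

namespace Cfsg.Agent.Lib.H13.WChain

open Cfsg.Lie Matrix Cfsg.Agent.Lib.H29.Chev

variable {D : ChevalleyDatum} {fd : FD} {fx : FX} {fc : FC} {fz : FZ} {F : Type*} [Field F]

section

variable (C : Cert12 D fd fx fc fz)
include C

/-- the root values of `h_s(c)` -/
theorem dE_TdG_hExp (s r : ℕ) (hr : r < fd.n) (c : F) (hc : c ≠ 0) :
    dE D (TdG (hExp D fd fx s) c hc) r = c ^ fd.pr r s := by
  have hr' : r < D.nroots := by rw [C.c6.c2.nroots_eq]; exact hr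
  unfold dE
  rw [dif_pos hr']
  show Td (hExp D fd fx s) c (Sum.inr ⟨r, hr'⟩) (Sum.inr ⟨r, hr'⟩) = _
  rw [Td_apply, if_pos rfl]
  unfold hExp
  rw [C.om_inr, ← fd.pr_lin C.c6.c2.chk.lin r s hr]

end

/-- `(-1)^k = 1 ↔ k` even, when `-1 ≠ 1` -/
theorem neg_one_zpow_eq_one_iff (h2 : (-1 : F) ≠ 1) (k : ℤ) : (-1 : F) ^ k = 1 ↔ Even k := by
  constructor
  · intro h
    by_contra hk
    rw [Int.not_even_iff_odd] at hk
    rw [hk.neg_one_zpow] at h
    exact h2 h
  · intro h
    exact h.neg_one_zpow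

theorem neg_one_zpow_eq_iff (h2 : (-1 : F) ≠ 1) (k m : ℤ) : (-1 : F) ^ k = (-1 : F) ^ m ↔ Even (k - m) := by
  rw [← neg_one_zpow_eq_one_iff h2, zpow_sub₀ (neg_ne_zero.mpr one_ne_zero)]
  have hne : ((-1 : F) ^ m) ≠ 0 := zpow_ne_zero _ (neg_ne_zero.mpr one_ne_zero)
  rw [div_eq_one_iff_eq hne]

section

variable (C : Cert12 D fd fx fc fz) (a : ℕ → ℤ) (z : GL D.Idx F)
  (hdz : ∀ r < fd.n, dE D z r = (-1 : F) ^ fd.omr fx a r) (h2 : (-1 : F) ≠ 1)
include C hdz h2

theorem dE_eq_one_iff (r : ℕ) (hr : r < fd.n) : dE D z r = 1 ↔ chiB fd fx a r = false := by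
  rw [hdz r hr, neg_one_zpow_eq_one_iff h2, ← Bool.not_eq_true, chiB_iff, Int.not_odd_iff_even]

theorem dE_eq_iff (r s : ℕ) (hr : r < fd.n) (hs : s < fd.n) :
    dE D z r = dE D z s ↔ chiB fd fx a r = chiB fd fx a s := by
  rw [hdz r hr, hdz s hs, neg_one_zpow_eq_iff h2, chiB_eq_iff]

theorem FixZ_iff (σ : Fin fd.n → Fin fd.n) :
    FixZ D fd z σ ↔ ∀ r : Fin fd.n, chiB fd fx a (σ r).val = chiB fd fx a r.val := by
  unfold FixZ
  constructor
  · intro h r
    have := h r.val r.isLt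
    rw [extF_lt _ _ r.isLt] at this
    exact (dE_eq_iff C a z hdz h2 _ _ (σ r).isLt r.isLt).mp this
  · intro h r hr
    rw [extF_lt _ _ hr]
    exact (dE_eq_iff C a z hdz h2 _ _ (σ ⟨r, hr⟩).isLt hr).mpr (h ⟨r, hr⟩)

theorem NzN_eq : NzN D fd z = (posPhi fd fx a []).length := by
  unfold NzN posPhi
  rw [← card_filter_fin, ← Fintype.card_coe, ← Nat.card_eq_fintype_card]
  apply Nat.card_congr
  refine ⟨fun r => ⟨⟨r.val, r.property.1⟩, ?_⟩, fun r => ⟨r.val.val, ?_⟩, fun r => rfl, fun r => rfl⟩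
  · have := r.property
    simp only [Finset.mem_filter, Finset.mem_univ, true_and, Bool.and_eq_true, Nat.ble_eq, inPhiB_iff,
      List.not_mem_nil, false_imp_iff, implies_true, and_true]
    exact ⟨this.2.1, (dE_eq_one_iff C a z hdz h2 _ this.1).mp this.2.2⟩
  · have := r.property
    simp only [Finset.mem_filter, Finset.mem_univ, true_and, Bool.and_eq_true, Nat.ble_eq, inPhiB_iff,
      List.not_mem_nil, false_imp_iff, implies_true, and_true] at this
    exact ⟨r.val.isLt, this.1, (dE_eq_one_iff C a z hdz h2 _ r.val.isLt).mpr this.2⟩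

theorem lzN_eq (σ : Fin fd.n → Fin fd.n) : lzN D fd z σ = inv (Ppos fd) (PhiS fd fx a []) σ := by
  unfold lzN inv
  rw [← Fintype.card_coe, ← Nat.card_eq_fintype_card]
  apply Nat.card_congr
  refine ⟨fun r => ⟨⟨r.val, r.property.1⟩, ?_⟩, fun r => ⟨r.val.val, ?_⟩, fun r => rfl, fun r => rfl⟩
  · have := r.property
    simp only [Finset.mem_filter, Finset.mem_univ, true_and, PhiS, Set.mem_ofPred_eq, Ppos, inPhiB_iff,
      List.not_mem_nil, false_imp_iff, implies_true, and_true, not_le]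
    refine ⟨(dE_eq_one_iff C a z hdz h2 _ this.1).mp this.2.2.2, this.2.1, ?_⟩
    have h3 := this.2.2.1
    rw [extF_lt _ _ this.1] at h3
    exact h3
  · have := r.property
    simp only [Finset.mem_filter, Finset.mem_univ, true_and, PhiS, Set.mem_ofPred_eq, Ppos, inPhiB_iff,
      List.not_mem_nil, false_imp_iff, implies_true, and_true, not_le] at this
    refine ⟨r.val.isLt, this.2.1, ?_, (dE_eq_one_iff C a z hdz h2 _ r.val.isLt).mpr this.1⟩
    rw [extF_lt _ _ r.val.isLt]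
    exact this.2.2

/-- the sum over the stabilizer of `z` as a stabilizer-chain sum -/
theorem finsum_eq_psum (q : ℕ) :
    ∑ᶠ σ : {σ : RealW C F // FixZ D fd z σ.val}, q ^ lzN D fd z σ.val.val =
      psum (Ppos fd) (PhiS fd fx a []) (GS fd fx a []) q := by
  classical
  have i2 : Fintype {σ : RealW C F // FixZ D fd z σ.val} := Fintype.ofFinite _
  rw [finsum_eq_sum_of_fintype]
  have e1 : psum (Ppos fd) (PhiS fd fx a []) (GS fd fx a []) q =
      ∑ σ : {σ : Fin fd.n → Fin fd.n // σ ∈ GS fd fx a []}, q ^ inv (Ppos fd) (PhiS fd fx a []) σ.val := by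
    unfold psum
    exact Finset.sum_subtype _ (fun σ => by simp) _
  rw [e1]
  have hmem : ∀ σ : Fin fd.n → Fin fd.n, σ ∈ GS fd fx a [] ↔ σ ∈ RealW C F ∧ FixZ D fd z σ := by
    intro σ
    unfold GS
    simp only [Set.mem_ofPred_eq, List.not_mem_nil, false_imp_iff, implies_true, and_true]
    rw [C.realW_eq F, FixZ_iff C a z hdz h2]
  refine Fintype.sum_equiv ⟨fun σ => ⟨σ.val.val, (hmem _).mpr ⟨σ.val.property, σ.property⟩⟩,
    fun σ => ⟨⟨σ.val, ((hmem _).mp σ.property).1⟩, ((hmem _).mp σ.property).2⟩, fun σ => rfl, fun σ => rfl⟩ _ _ ?_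
  intro σ
  simp only [Equiv.coe_fn_mk]
  rw [lzN_eq C a z hdz h2]

/-- **the order of the centraliser of `z` from the stabilizer-chain sum** -/
theorem card_centralizer_of_psum [Finite F] (hz : z ∈ D.diagonalSubgroup F) (ds : List ℕ) (N : ℕ)
    (hN : (posPhi fd fx a []).length = N)
    (hH : Nat.card (D.diagonalSubgroup F) = (Nat.card F - 1) ^ ds.length)
    (hps : ∀ q : ℕ, psum (Ppos fd) (PhiS fd fx a []) (GS fd fx a []) q = evalN (polyD ds) q) :
    Nat.card (Subgroup.centralizer ({(⟨z, C.c6.c2.diag_le_group hz⟩ : D.group F)} : Set (D.group F))) =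
      Nat.card F ^ N * (ds.map fun d => Nat.card F ^ d - 1).prod := by
  rw [C.card_centralizer_diag z hz, finsum_eq_psum C a z hdz h2, hps, NzN_eq C a z hdz h2, hN, hH, evalN_polyD,
    ← sub_one_pow_mul_prod ds (Nat.card F) Nat.card_pos]
  ring

end

end Cfsg.Agent.Lib.H13.WChain
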