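import Mathlib
import Cfsg.Agent.Lib.H13.WChainE8D1
import Cfsg.Agent.Lib.H29.ChevCert13

/-! Checks of a stabilizer chain certificate in the Weyl group of type E8 (generated) -/

set_option autoImplicit false
set_option maxRecDepth 1000000
set_option maxHeartbeats 0

namespace Cfsg.Agent.Lib.H13.WChain

open Cfsg.Agent.Lib.H29.Chev

def e8c1PP0 : List ℕ := [120, 123, 126, 127, 130, 131, 132, 135, 136, 137, 138, 141, 142, 143, 144, 147, 148, 149, 152, 153, 156, 161, 162, 163, 164, 165, 166, 169, 170, 171, 174, 175, 178, 183, 184, 185, 188, 193, 194, 199, 202, 203, 204, 209, 212, 213, 216, 217, 218, 221, 222, 223, 224, 225, 228, 229, 230, 231, 232, 233, 234, 235, 236, 237]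
def e8c1PP1 : List ℕ := [123, 126, 127, 130, 131, 132, 135, 136, 137, 138, 141, 142, 143, 144, 147, 148, 149, 152, 153, 156, 162, 163, 164, 165, 166, 169, 170, 171, 174, 175, 178, 184, 185, 188, 194, 204]
def e8c1PP2 : List ℕ := [123, 126, 127, 130, 131, 132, 135, 136, 137, 138, 162, 163, 164, 165, 166]
def e8c1PP3 : List ℕ := [123, 126, 127, 135, 162, 163]
def e8c1PP4 : List ℕ := [126, 135]
def e8c1PP5 : List ℕ := []
def e8c1PP6 : List ℕ := []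
def e8c1PP7 : List ℕ := []
def e8c1PP8 : List ℕ := []

theorem e8c1_PP0 : e8c1PP0 = posPhi fdE8 fxE8 e8c1A [] := by decide +kernel

theorem e8c1_PP1 : e8c1PP1 = e8c1PP0.filter fun r => intBeq (fdE8.pr r e8c1Lev0.lam) 0 := by decide +kernel

theorem e8c1_chk0 : chkLev fdE8 fxE8 e8c1A [] e8c1PP0 e8c1PP1 e8c1Lev0 = true := by decide +kernel

theorem e8c1_nd0 : (e8c1Lev0.orb.map Prod.fst).Nodup := by decide +kernel

theorem e8c1_len0 : e8c1Lev0.orb.map (fun e => lenW fdE8 fxE8 e8c1PP0 e.2) = [28, 27, 27, 26, 26, 25, 25, 24, 24, 23, 23, 22, 22, 21, 23, 22, 22, 21, 21, 20, 21, 20, 20, 19, 19, 18, 20, 19, 19, 18, 18, 17, 17, 16, 16, 15, 19, 18, 18, 17, 17, 16, 16, 15, 15, 14, 15, 14, 14, 13, 13, 12, 12, 11, 11, 10, 18, 17, 17, 16, 16, 15, 15, 14, 14, 13, 14, 13, 13, 12, 12, 11, 11, 10, 10, 9, 13, 12, 12, 11, 11, 10, 10, 9, 9, 8, 10, 9, 9, 8, 8, 7, 8, 7, 7, 6, 6, 5, 7, 6, 6, 5, 5, 4, 4,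 3, 3, 2, 2, 1, 1, 0] := by decide +kernel

theorem e8c1_PP2 : e8c1PP2 = e8c1PP1.filter fun r => intBeq (fdE8.pr r e8c1Lev1.lam) 0 := by decide +kernel

theorem e8c1_chk1 : chkLev fdE8 fxE8 e8c1A [239] e8c1PP1 e8c1PP2 e8c1Lev1 = true := by decide +kernel

theorem e8c1_nd1 : (e8c1Lev1.orb.map Prod.fst).Nodup := by decide +kernel

theorem e8c1_len1 : e8c1Lev1.orb.map (fun e => lenW fdE8 fxE8 e8c1PP1 e.2) = [21, 20, 19, 18, 17, 18, 17, 16, 16, 15, 14, 15, 14, 13, 12, 11, 17, 16, 15, 15, 14, 13, 14, 13, 12, 11, 14, 13, 12, 11, 13, 12, 11, 12, 11, 11, 10, 10, 9, 10, 9, 8, 10, 9, 8, 7, 10, 9, 8, 7, 8, 7, 6, 6, 5, 4, 10, 9, 8, 7, 6, 7, 6, 5, 5, 4, 3, 4, 3, 2, 1, 0] := by decide +kernel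

theorem e8c1_PP3 : e8c1PP3 = e8c1PP2.filter fun r => intBeq (fdE8.pr r e8c1Lev2.lam) 0 := by decide +kernel

theorem e8c1_chk2 : chkLev fdE8 fxE8 e8c1A [204, 239] e8c1PP2 e8c1PP3 e8c1Lev2 = true := by decide +kernel

theorem e8c1_nd2 : (e8c1Lev2.orb.map Prod.fst).Nodup := by decide +kernel

theorem e8c1_len2 : e8c1Lev2.orb.map (fun e => lenW fdE8 fxE8 e8c1PP2 e.2) = [9, 8, 7, 6, 7, 6, 5, 5, 4, 3, 6, 5, 4, 4, 3, 2, 3, 2, 1, 0] := by decide +kernel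

theorem e8c1_PP4 : e8c1PP4 = e8c1PP3.filter fun r => intBeq (fdE8.pr r e8c1Lev3.lam) 0 := by decide +kernel

theorem e8c1_chk3 : chkLev fdE8 fxE8 e8c1A [98, 204, 239] e8c1PP3 e8c1PP4 e8c1Lev3 = true := by decide +kernel

theorem e8c1_nd3 : (e8c1Lev3.orb.map Prod.fst).Nodup := by decide +kernel

theorem e8c1_len3 : e8c1Lev3.orb.map (fun e => lenW fdE8 fxE8 e8c1PP3 e.2) = [4, 3, 2, 3, 2, 1, 2, 1, 0] := by decide +kernel

theorem e8c1_PP5 : e8c1PP5 = e8c1PP4.filter fun r => intBeq (fdE8.pr r e8c1Lev4.lam) 0 := by decide +kernel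

theorem e8c1_chk4 : chkLev fdE8 fxE8 e8c1A [87, 98, 204, 239] e8c1PP4 e8c1PP5 e8c1Lev4 = true := by decide +kernel

theorem e8c1_nd4 : (e8c1Lev4.orb.map Prod.fst).Nodup := by decide +kernel

theorem e8c1_len4 : e8c1Lev4.orb.map (fun e => lenW fdE8 fxE8 e8c1PP4 e.2) = [2, 1, 1, 0] := by decide +kernel

theorem e8c1_PP6 : e8c1PP6 = e8c1PP5.filter fun r => intBeq (fdE8.pr r e8c1Lev5.lam) 0 := by decide +kernel

theorem e8c1_chk5 : chkLev fdE8 fxE8 e8c1A [64, 87, 98, 204, 239] e8c1PP5 e8c1PP6 e8c1Lev5 = true := by decide +kernel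

theorem e8c1_nd5 : (e8c1Lev5.orb.map Prod.fst).Nodup := by decide +kernel

theorem e8c1_len5 : e8c1Lev5.orb.map (fun e => lenW fdE8 fxE8 e8c1PP5 e.2) = [0] := by decide +kernel

theorem e8c1_PP7 : e8c1PP7 = e8c1PP6.filter fun r => intBeq (fdE8.pr r e8c1Lev6.lam) 0 := by decide +kernel

theorem e8c1_chk6 : chkLev fdE8 fxE8 e8c1A [2, 64, 87, 98, 204, 239] e8c1PP6 e8c1PP7 e8c1Lev6 = true := by decide +kernel

theorem e8c1_nd6 : (e8c1Lev6.orb.map Prod.fst).Nodup := by decide +kernel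

theorem e8c1_len6 : e8c1Lev6.orb.map (fun e => lenW fdE8 fxE8 e8c1PP6 e.2) = [0] := by decide +kernel

theorem e8c1_PP8 : e8c1PP8 = e8c1PP7.filter fun r => intBeq (fdE8.pr r e8c1Lev7.lam) 0 := by decide +kernel

theorem e8c1_chk7 : chkLev fdE8 fxE8 e8c1A [3, 2, 64, 87, 98, 204, 239] e8c1PP7 e8c1PP8 e8c1Lev7 = true := by decide +kernel

theorem e8c1_nd7 : (e8c1Lev7.orb.map Prod.fst).Nodup := by decide +kernel

theorem e8c1_len7 : e8c1Lev7.orb.map (fun e => lenW fdE8 fxE8 e8c1PP7 e.2) = [0] := by decide +kernel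

theorem e8c1_inj : ((List.range fdE8.n).map fun r => ([1, 3, 2, 64, 87, 98, 204, 239] : List ℕ).map fun lam => fdE8.pr r lam).Nodup := by decide +kernel

end Cfsg.Agent.Lib.H13.WChain
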