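import Mathlib
import Cfsg.Agent.Lib.H13.WChainD
import Cfsg.Agent.Lib.H29.ChevDataXE8
import Cfsg.Agent.Lib.H29.ChevDataE8

/-! Stabilizer chain certificate in the Weyl group of type E8 (generated) -/

set_option autoImplicit false

namespace Cfsg.Agent.Lib.H13.WChain

def e8c2A (j : ℕ) : ℤ := ([0, 0, 0, 0, -1, 2, -2, 2] : List ℤ).getD j 0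

def e8c2Lev0 : Lev where
  lam := 239
  orb := [(0, [4, 3, 1, 5, 4, 3, 6, 5, 4, 7, 6, 5, 4, 3, 1, 2, 0, 3, 2, 4, 3, 1, 5, 4, 3, 2, 0, 6, 5, 4, 3, 1, 2, 3, 4, 5, 6, 7, 6, 5, 4, 3, 1, 2, 0, 3, 2, 4, 3, 1, 5, 4, 3, 2, 0, 6, 5, 4, 3, 1, 2, 3, 4, 5, 6, 7]), (1, [4, 3, 1, 5, 4, 3, 6, 5, 4, 3, 1, 2, 0, 3, 2, 4, 3, 1, 5, 4, 3, 2, 0, 6, 5, 4, 3, 1, 2, 3, 4, 5, 6, 7, 6, 5, 4, 3, 1, 2, 0, 3, 2, 4, 3, 1, 5, 4, 3, 2, 0, 6, 5, 4, 3, 1, 2, 3, 4, 5, 6, 7, 6, 5, 4]), (2, [4, 3, 1, 5, 4, 3, 1, 2, 0, 3, 2, 4, 3, 1, 5, 4, 3, 2, 0, 6, 5, 4, 3, 1, 2, 0, 3, 2, 4, 3, 5, 6, 7, 6, 5, 4, 3, 1, 2, 0, 3, 2, 4, 3, 1, 5, 4, 3, 2, 0, 6, 5, 4, 3, 1, 2, 3, 4, 5, 6, 7,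 6, 5, 4]), (3, [4, 3, 1, 2, 0, 3, 2, 4, 3, 1, 5, 4, 3, 1, 2, 0, 3, 2, 6, 5, 4, 3, 1, 2, 0, 3, 2, 4, 3, 5, 6, 7, 6, 5, 4, 3, 1, 2, 0, 3, 2, 4, 3, 1, 5, 4, 3, 2, 0, 6, 5, 4, 3, 1, 2, 3, 4, 5, 6, 7, 6, 5, 4]), (10, [0, 2, 3, 1, 5, 4, 3, 1, 2, 0, 3, 4, 6, 5, 4, 3, 1, 2, 0, 3, 2, 4, 3, 5, 6, 7, 6, 5, 4, 3, 1, 2, 0, 3, 2, 4, 3, 1, 5, 4, 3, 2, 0, 6, 5, 4, 3, 1, 2, 3, 4, 5, 6, 7, 6, 5, 4]), (11, [0, 2, 3, 1, 4, 3, 1, 2, 0, 3, 4, 6, 5, 4, 3, 1, 2, 0, 3, 2, 4, 3, 5, 6, 7, 6, 5, 4, 3, 1, 2, 0, 3, 2, 4, 3, 1, 5, 4, 3, 2, 0, 6, 5, 4, 3, 1, 2, 3, 4, 5, 6, 7, 6, 5, 4]), (12, [0, 2, 3, 1, 4, 3, 1, 2, 0, 3, 4, 5, 4, 3, 1, 2, 0, 3, 2, 4, 3, 5, 6, 7, 6,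 5, 4, 3, 1, 2, 0, 3, 2, 4, 3, 1, 5, 4, 3, 2, 0, 6, 5, 4, 3, 1, 2, 3, 4, 5, 6, 7, 6, 5, 4]), (13, [0, 2, 3, 1, 4, 3, 1, 2, 0, 3, 4, 5, 4, 3, 1, 2, 0, 3, 2, 4, 3, 5, 6, 5, 4, 3, 1, 2, 0, 3, 2, 4, 3, 1, 5, 4, 3, 2, 0, 6, 5, 4, 7, 6, 5, 4, 3, 1, 2, 3, 4, 5, 6, 7]), (17, [2, 3, 1, 5, 4, 3, 1, 2, 0, 3, 4, 6, 5, 4, 3, 1, 2, 0, 3, 2, 4, 3, 5, 6, 7, 6, 5, 4, 3, 1, 2, 0, 3, 2, 4, 3, 1, 5, 4, 3, 2, 0, 6, 5, 4, 3, 1, 2, 3, 4, 5, 6, 7, 6, 5, 4]), (18, [2, 3, 1, 4, 3, 1, 2, 0, 3, 4, 6, 5, 4, 3, 1, 2, 0, 3, 2, 4, 3, 5, 6, 7, 6, 5, 4, 3, 1, 2, 0, 3, 2, 4, 3, 1, 5, 4, 3, 2, 0, 6, 5, 4, 3, 1, 2, 3, 4, 5, 6, 7, 6, 5, 4]), (19, [2, 3, 1, 4, 3, 1, 2, 0, 3,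 4, 5, 4, 3, 1, 2, 0, 3, 2, 4, 3, 5, 6, 7, 6, 5, 4, 3, 1, 2, 0, 3, 2, 4, 3, 1, 5, 4, 3, 2, 0, 6, 5, 4, 3, 1, 2, 3, 4, 5, 6, 7, 6, 5, 4]), (20, [2, 3, 1, 4, 3, 1, 2, 0, 3, 4, 5, 4, 3, 1, 2, 0, 3, 2, 4, 3, 5, 6, 5, 4, 3, 1, 2, 0, 3, 2, 4, 3, 1, 5, 4, 3, 2, 0, 6, 5, 4, 7, 6, 5, 4, 3, 1, 2, 3, 4, 5, 6, 7]), (22, [3, 1, 5, 4, 3, 1, 2, 0, 3, 4, 6, 5, 4, 3, 1, 2, 0, 3, 2, 4, 3, 5, 6, 7, 6, 5, 4, 3, 1, 2, 0, 3, 2, 4, 3, 1, 5, 4, 3, 2, 0, 6, 5, 4, 3, 1, 2, 3, 4, 5, 6, 7, 6, 5, 4]), (23, [3, 1, 4, 3, 1, 2, 0, 3, 4, 6, 5, 4, 3, 1, 2, 0, 3, 2, 4, 3, 5, 6, 7, 6, 5, 4, 3, 1, 2, 0, 3, 2, 4, 3, 1, 5, 4, 3, 2, 0, 6, 5, 4, 3, 1, 2, 3, 4, 5, 6, 7, 6, 5,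 4]), (24, [3, 1, 4, 3, 1, 2, 0, 3, 4, 5, 4, 3, 1, 2, 0, 3, 2, 4, 3, 5, 6, 7, 6, 5, 4, 3, 1, 2, 0, 3, 2, 4, 3, 1, 5, 4, 3, 2, 0, 6, 5, 4, 3, 1, 2, 3, 4, 5, 6, 7, 6, 5, 4]), (25, [3, 1, 4, 3, 1, 2, 0, 3, 4, 5, 4, 3, 1, 2, 0, 3, 2, 4, 3, 5, 6, 5, 4, 3, 1, 2, 0, 3, 2, 4, 3, 1, 5, 4, 3, 2, 0, 6, 5, 4, 7, 6, 5, 4, 3, 1, 2, 3, 4, 5, 6, 7]), (26, [1, 5, 4, 3, 1, 2, 0, 3, 4, 6, 5, 4, 3, 1, 2, 0, 3, 2, 4, 3, 5, 6, 7, 6, 5, 4, 3, 1, 2, 0, 3, 2, 4, 3, 1, 5, 4, 3, 2, 0, 6, 5, 4, 3, 1, 2, 3, 4, 5, 6, 7, 6, 5, 4]), (27, [1, 4, 3, 1, 2, 0, 3, 4, 6, 5, 4, 3, 1, 2, 0, 3, 2, 4, 3, 5, 6, 7, 6, 5, 4, 3, 1, 2, 0, 3, 2, 4, 3, 1, 5, 4, 3, 2, 0, 6, 5, 4, 3, 1,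 2, 3, 4, 5, 6, 7, 6, 5, 4]), (28, [1, 4, 3, 1, 2, 0, 3, 4, 5, 4, 3, 1, 2, 0, 3, 2, 4, 3, 5, 6, 7, 6, 5, 4, 3, 1, 2, 0, 3, 2, 4, 3, 1, 5, 4, 3, 2, 0, 6, 5, 4, 3, 1, 2, 3, 4, 5, 6, 7, 6, 5, 4]), (29, [1, 4, 3, 1, 2, 0, 3, 4, 5, 4, 3, 1, 2, 0, 3, 2, 4, 3, 5, 6, 5, 4, 3, 1, 2, 0, 3, 2, 4, 3, 1, 5, 4, 3, 2, 0, 6, 5, 4, 7, 6, 5, 4, 3, 1, 2, 3, 4, 5, 6, 7]), (36, [5, 4, 3, 1, 2, 0, 3, 4, 6, 5, 4, 3, 1, 2, 0, 3, 2, 4, 3, 5, 6, 7, 6, 5, 4, 3, 1, 2, 0, 3, 2, 4, 3, 1, 5, 4, 3, 2, 0, 6, 5, 4, 3, 1, 2, 3, 4, 5, 6, 7, 6, 5, 4]), (37, [4, 3, 1, 2, 0, 3, 4, 6, 5, 4, 3, 1, 2, 0, 3, 2, 4, 3, 5, 6, 7, 6, 5, 4, 3, 1, 2, 0, 3, 2, 4, 3, 1, 5, 4, 3, 2, 0, 6,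 5, 4, 3, 1, 2, 3, 4, 5, 6, 7, 6, 5, 4]), (38, [4, 3, 1, 2, 0, 3, 4, 5, 4, 3, 1, 2, 0, 3, 2, 4, 3, 5, 6, 7, 6, 5, 4, 3, 1, 2, 0, 3, 2, 4, 3, 1, 5, 4, 3, 2, 0, 6, 5, 4, 3, 1, 2, 3, 4, 5, 6, 7, 6, 5, 4]), (39, [4, 3, 1, 2, 0, 3, 4, 5, 4, 3, 1, 2, 0, 3, 2, 4, 3, 5, 6, 5, 4, 3, 1, 2, 0, 3, 2, 4, 3, 1, 5, 4, 3, 2, 0, 6, 5, 4, 7, 6, 5, 4, 3, 1, 2, 3, 4, 5, 6, 7]), (52, [2, 0, 3, 1, 2, 3, 4, 5, 6, 7, 6, 5, 4, 3, 1, 2, 0, 3, 2, 4, 3, 1, 5, 4, 3, 2, 0, 6, 5, 4, 3, 1, 2, 3, 4, 5, 6, 7, 6, 5, 4]), (53, [2, 0, 3, 1, 2, 3, 4, 5, 6, 5, 4, 3, 1, 2, 0, 3, 2, 4, 3, 1, 5, 4, 3, 2, 0, 6, 5, 4, 7, 6, 5, 4, 3, 1, 2, 3, 4, 5, 6, 7]), (54, [2, 0, 3, 1, 2, 3,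 4, 5, 4, 3, 1, 2, 0, 3, 2, 4, 3, 1, 5, 4, 3, 6, 5, 4, 3, 2, 0, 7, 6, 5, 4, 3, 1, 2, 3, 4, 5, 6, 7]), (55, [2, 0, 3, 1, 2, 3, 4, 3, 1, 2, 0, 3, 2, 4, 3, 1, 5, 4, 3, 1, 6, 5, 4, 3, 2, 0, 7, 6, 5, 4, 3, 1, 2, 3, 4, 5, 6, 7]), (62, [0, 3, 1, 2, 3, 4, 5, 6, 7, 6, 5, 4, 3, 1, 2, 0, 3, 2, 4, 3, 1, 5, 4, 3, 2, 0, 6, 5, 4, 3, 1, 2, 3, 4, 5, 6, 7, 6, 5, 4]), (63, [0, 3, 1, 2, 3, 4, 5, 6, 5, 4, 3, 1, 2, 0, 3, 2, 4, 3, 1, 5, 4, 3, 2, 0, 6, 5, 4, 7, 6, 5, 4, 3, 1, 2, 3, 4, 5, 6, 7]), (64, [0, 3, 1, 2, 3, 4, 5, 4, 3, 1, 2, 0, 3, 2, 4, 3, 1, 5, 4, 3, 6, 5, 4, 3, 2, 0, 7, 6, 5, 4, 3, 1, 2, 3, 4, 5, 6, 7]), (65, [0, 3, 1, 2, 3, 4, 3, 1, 2, 0, 3, 2, 4,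 3, 1, 5, 4, 3, 1, 6, 5, 4, 3, 2, 0, 7, 6, 5, 4, 3, 1, 2, 3, 4, 5, 6, 7]), (66, [0, 1, 2, 3, 4, 5, 6, 7, 6, 5, 4, 3, 1, 2, 0, 3, 2, 4, 3, 1, 5, 4, 3, 2, 0, 6, 5, 4, 3, 1, 2, 3, 4, 5, 6, 7, 6, 5, 4]), (67, [0, 1, 2, 3, 4, 5, 6, 5, 4, 3, 1, 2, 0, 3, 2, 4, 3, 1, 5, 4, 3, 2, 0, 6, 5, 4, 7, 6, 5, 4, 3, 1, 2, 3, 4, 5, 6, 7]), (68, [0, 1, 2, 3, 4, 5, 4, 3, 1, 2, 0, 3, 2, 4, 3, 1, 5, 4, 3, 6, 5, 4, 3, 2, 0, 7, 6, 5, 4, 3, 1, 2, 3, 4, 5, 6, 7]), (69, [0, 1, 2, 3, 4, 3, 1, 2, 0, 3, 2, 4, 3, 1, 5, 4, 3, 1, 6, 5, 4, 3, 2, 0, 7, 6, 5, 4, 3, 1, 2, 3, 4, 5, 6, 7]), (71, [0, 2, 3, 4, 5, 6, 7, 6, 5, 4, 3, 1, 2, 0, 3, 2, 4, 3, 1, 5, 4, 3, 2, 0, 6, 5, 4,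 3, 1, 2, 3, 4, 5, 6, 7, 6, 5, 4]), (72, [0, 2, 3, 4, 5, 6, 5, 4, 3, 1, 2, 0, 3, 2, 4, 3, 1, 5, 4, 3, 2, 0, 6, 5, 4, 7, 6, 5, 4, 3, 1, 2, 3, 4, 5, 6, 7]), (73, [0, 2, 3, 4, 5, 4, 3, 1, 2, 0, 3, 2, 4, 3, 1, 5, 4, 3, 6, 5, 4, 3, 2, 0, 7, 6, 5, 4, 3, 1, 2, 3, 4, 5, 6, 7]), (74, [0, 2, 3, 4, 3, 1, 2, 0, 3, 2, 4, 3, 1, 5, 4, 3, 1, 6, 5, 4, 3, 2, 0, 7, 6, 5, 4, 3, 1, 2, 3, 4, 5, 6, 7]), (84, [3, 1, 2, 3, 4, 5, 6, 7, 6, 5, 4, 3, 1, 2, 0, 3, 2, 4, 3, 1, 5, 4, 3, 2, 0, 6, 5, 4, 3, 1, 2, 3, 4, 5, 6, 7, 6, 5, 4]), (85, [3, 1, 2, 3, 4, 5, 6, 5, 4, 3, 1, 2, 0, 3, 2, 4, 3, 1, 5, 4, 3, 2, 0, 6, 5, 4, 7, 6, 5, 4, 3, 1, 2, 3, 4, 5, 6, 7]), (86, [3, 1,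 2, 3, 4, 5, 4, 3, 1, 2, 0, 3, 2, 4, 3, 1, 5, 4, 3, 6, 5, 4, 3, 2, 0, 7, 6, 5, 4, 3, 1, 2, 3, 4, 5, 6, 7]), (87, [3, 1, 2, 3, 4, 3, 1, 2, 0, 3, 2, 4, 3, 1, 5, 4, 3, 1, 6, 5, 4, 3, 2, 0, 7, 6, 5, 4, 3, 1, 2, 3, 4, 5, 6, 7]), (88, [1, 2, 3, 4, 5, 6, 7, 6, 5, 4, 3, 1, 2, 0, 3, 2, 4, 3, 1, 5, 4, 3, 2, 0, 6, 5, 4, 3, 1, 2, 3, 4, 5, 6, 7, 6, 5, 4]), (89, [1, 2, 3, 4, 5, 6, 5, 4, 3, 1, 2, 0, 3, 2, 4, 3, 1, 5, 4, 3, 2, 0, 6, 5, 4, 7, 6, 5, 4, 3, 1, 2, 3, 4, 5, 6, 7]), (90, [1, 2, 3, 4, 5, 4, 3, 1, 2, 0, 3, 2, 4, 3, 1, 5, 4, 3, 6, 5, 4, 3, 2, 0, 7, 6, 5, 4, 3, 1, 2, 3, 4, 5, 6, 7]), (91, [1, 2, 3, 4, 3, 1, 2, 0, 3, 2, 4, 3, 1, 5, 4, 3, 1, 6, 5,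 4, 3, 2, 0, 7, 6, 5, 4, 3, 1, 2, 3, 4, 5, 6, 7]), (93, [1, 3, 4, 5, 6, 7, 6, 5, 4, 3, 1, 2, 0, 3, 2, 4, 3, 1, 5, 4, 3, 2, 0, 6, 5, 4, 3, 1, 2, 3, 4, 5, 6, 7, 6, 5, 4]), (94, [1, 3, 4, 5, 6, 5, 4, 3, 1, 2, 0, 3, 2, 4, 3, 1, 5, 4, 3, 2, 0, 6, 5, 4, 7, 6, 5, 4, 3, 1, 2, 3, 4, 5, 6, 7]), (95, [1, 3, 4, 5, 4, 3, 1, 2, 0, 3, 2, 4, 3, 1, 5, 4, 3, 6, 5, 4, 3, 2, 0, 7, 6, 5, 4, 3, 1, 2, 3, 4, 5, 6, 7]), (96, [1, 3, 4, 3, 1, 2, 0, 3, 2, 4, 3, 1, 5, 4, 3, 1, 6, 5, 4, 3, 2, 0, 7, 6, 5, 4, 3, 1, 2, 3, 4, 5, 6, 7]), (99, [2, 3, 4, 5, 6, 7, 6, 5, 4, 3, 1, 2, 0, 3, 2, 4, 3, 1, 5, 4, 3, 2, 0, 6, 5, 4, 3, 1, 2, 3, 4, 5, 6, 7, 6, 5, 4]), (100, [2, 3, 4,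 5, 6, 5, 4, 3, 1, 2, 0, 3, 2, 4, 3, 1, 5, 4, 3, 2, 0, 6, 5, 4, 7, 6, 5, 4, 3, 1, 2, 3, 4, 5, 6, 7]), (101, [2, 3, 4, 5, 4, 3, 1, 2, 0, 3, 2, 4, 3, 1, 5, 4, 3, 6, 5, 4, 3, 2, 0, 7, 6, 5, 4, 3, 1, 2, 3, 4, 5, 6, 7]), (102, [2, 3, 4, 3, 1, 2, 0, 3, 2, 4, 3, 1, 5, 4, 3, 1, 6, 5, 4, 3, 2, 0, 7, 6, 5, 4, 3, 1, 2, 3, 4, 5, 6, 7]), (105, [3, 4, 5, 6, 7, 6, 5, 4, 3, 1, 2, 0, 3, 2, 4, 3, 1, 5, 4, 3, 2, 0, 6, 5, 4, 3, 1, 2, 3, 4, 5, 6, 7, 6, 5, 4]), (106, [3, 4, 5, 6, 5, 4, 3, 1, 2, 0, 3, 2, 4, 3, 1, 5, 4, 3, 2, 0, 6, 5, 4, 7, 6, 5, 4, 3, 1, 2, 3, 4, 5, 6, 7]), (107, [3, 4, 5, 4, 3, 1, 2, 0, 3, 2, 4, 3, 1, 5, 4, 3, 6, 5, 4, 3, 2, 0, 7, 6, 5, 4,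 3, 1, 2, 3, 4, 5, 6, 7]), (108, [3, 4, 3, 1, 2, 0, 3, 2, 4, 3, 1, 5, 4, 3, 1, 6, 5, 4, 3, 2, 0, 7, 6, 5, 4, 3, 1, 2, 3, 4, 5, 6, 7]), (110, [4, 5, 6, 7, 6, 5, 4, 3, 1, 2, 0, 3, 2, 4, 3, 1, 5, 4, 3, 2, 0, 6, 5, 4, 3, 1, 2, 3, 4, 5, 6, 7, 6, 5, 4]), (111, [4, 5, 6, 5, 4, 3, 1, 2, 0, 3, 2, 4, 3, 1, 5, 4, 3, 2, 0, 6, 5, 4, 7, 6, 5, 4, 3, 1, 2, 3, 4, 5, 6, 7]), (112, [4, 5, 4, 3, 1, 2, 0, 3, 2, 4, 3, 1, 5, 4, 3, 6, 5, 4, 3, 2, 0, 7, 6, 5, 4, 3, 1, 2, 3, 4, 5, 6, 7]), (113, [4, 3, 1, 2, 0, 3, 2, 4, 3, 1, 5, 4, 3, 1, 6, 5, 4, 3, 2, 0, 7, 6, 5, 4, 3, 1, 2, 3, 4, 5, 6, 7]), (126, [3, 1, 2, 0, 3, 2, 5, 4, 3, 1, 2, 0, 3, 2, 4, 3, 6, 5, 4, 3, 2,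 0, 7, 6, 5, 4, 3, 1, 2, 3, 4, 5, 6, 7]), (127, [3, 1, 2, 0, 3, 2, 4, 3, 1, 2, 0, 3, 2, 4, 3, 6, 5, 4, 3, 2, 0, 7, 6, 5, 4, 3, 1, 2, 3, 4, 5, 6, 7]), (128, [3, 1, 2, 0, 3, 2, 4, 3, 1, 2, 0, 3, 2, 4, 3, 5, 4, 3, 2, 0, 7, 6, 5, 4, 3, 1, 2, 3, 4, 5, 6, 7]), (129, [3, 1, 2, 0, 3, 2, 4, 3, 1, 2, 0, 3, 2, 4, 3, 5, 4, 3, 2, 0, 6, 5, 4, 3, 1, 2, 3, 4, 5, 6, 7]), (131, [1, 2, 0, 3, 2, 5, 4, 3, 1, 2, 0, 3, 2, 4, 3, 6, 5, 4, 3, 2, 0, 7, 6, 5, 4, 3, 1, 2, 3, 4, 5, 6, 7]), (132, [1, 2, 0, 3, 2, 4, 3, 1, 2, 0, 3, 2, 4, 3, 6, 5, 4, 3, 2, 0, 7, 6, 5, 4, 3, 1, 2, 3, 4, 5, 6, 7]), (133, [1, 2, 0, 3, 2, 4, 3, 1, 2, 0, 3, 2, 4, 3, 5, 4, 3, 2, 0, 7, 6, 5,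 4, 3, 1, 2, 3, 4, 5, 6, 7]), (134, [1, 2, 0, 3, 2, 4, 3, 1, 2, 0, 3, 2, 4, 3, 5, 4, 3, 2, 0, 6, 5, 4, 3, 1, 2, 3, 4, 5, 6, 7]), (137, [0, 1, 3, 2, 5, 4, 3, 1, 2, 0, 3, 2, 4, 3, 6, 5, 4, 3, 2, 0, 7, 6, 5, 4, 3, 1, 2, 3, 4, 5, 6, 7]), (138, [0, 1, 3, 2, 4, 3, 1, 2, 0, 3, 2, 4, 3, 6, 5, 4, 3, 2, 0, 7, 6, 5, 4, 3, 1, 2, 3, 4, 5, 6, 7]), (139, [0, 1, 3, 2, 4, 3, 1, 2, 0, 3, 2, 4, 3, 5, 4, 3, 2, 0, 7, 6, 5, 4, 3, 1, 2, 3, 4, 5, 6, 7]), (140, [0, 1, 3, 2, 4, 3, 1, 2, 0, 3, 2, 4, 3, 5, 4, 3, 2, 0, 6, 5, 4, 3, 1, 2, 3, 4, 5, 6, 7]), (143, [2, 0, 3, 2, 5, 4, 3, 1, 2, 0, 3, 2, 4, 3, 6, 5, 4, 3, 2, 0, 7, 6, 5, 4, 3, 1, 2, 3, 4, 5, 6, 7]), (144, [2,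 0, 3, 2, 4, 3, 1, 2, 0, 3, 2, 4, 3, 6, 5, 4, 3, 2, 0, 7, 6, 5, 4, 3, 1, 2, 3, 4, 5, 6, 7]), (145, [2, 0, 3, 2, 4, 3, 1, 2, 0, 3, 2, 4, 3, 5, 4, 3, 2, 0, 7, 6, 5, 4, 3, 1, 2, 3, 4, 5, 6, 7]), (146, [2, 0, 3, 2, 4, 3, 1, 2, 0, 3, 2, 4, 3, 5, 4, 3, 2, 0, 6, 5, 4, 3, 1, 2, 3, 4, 5, 6, 7]), (148, [0, 3, 2, 5, 4, 3, 1, 2, 0, 3, 2, 4, 3, 6, 5, 4, 3, 2, 0, 7, 6, 5, 4, 3, 1, 2, 3, 4, 5, 6, 7]), (149, [0, 3, 2, 4, 3, 1, 2, 0, 3, 2, 4, 3, 6, 5, 4, 3, 2, 0, 7, 6, 5, 4, 3, 1, 2, 3, 4, 5, 6, 7]), (150, [0, 3, 2, 4, 3, 1, 2, 0, 3, 2, 4, 3, 5, 4, 3, 2, 0, 7, 6, 5, 4, 3, 1, 2, 3, 4, 5, 6, 7]), (151, [0, 3, 2, 4, 3, 1, 2, 0, 3, 2, 4, 3, 5, 4, 3, 2, 0,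 6, 5, 4, 3, 1, 2, 3, 4, 5, 6, 7]), (152, [0, 2, 5, 4, 3, 1, 2, 0, 3, 2, 4, 3, 6, 5, 4, 3, 2, 0, 7, 6, 5, 4, 3, 1, 2, 3, 4, 5, 6, 7]), (153, [0, 2, 4, 3, 1, 2, 0, 3, 2, 4, 3, 6, 5, 4, 3, 2, 0, 7, 6, 5, 4, 3, 1, 2, 3, 4, 5, 6, 7]), (154, [0, 2, 4, 3, 1, 2, 0, 3, 2, 4, 3, 5, 4, 3, 2, 0, 7, 6, 5, 4, 3, 1, 2, 3, 4, 5, 6, 7]), (155, [0, 2, 4, 3, 1, 2, 0, 3, 2, 4, 3, 5, 4, 3, 2, 0, 6, 5, 4, 3, 1, 2, 3, 4, 5, 6, 7]), (165, [1, 3, 2, 5, 4, 3, 1, 2, 0, 3, 2, 4, 3, 6, 5, 4, 3, 2, 0, 7, 6, 5, 4, 3, 1, 2, 3, 4, 5, 6, 7]), (166, [1, 3, 2, 4, 3, 1, 2, 0, 3, 2, 4, 3, 6, 5, 4, 3, 2, 0, 7, 6, 5, 4, 3, 1, 2, 3, 4, 5, 6, 7]), (167, [1, 3, 2, 4, 3, 1, 2,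 0, 3, 2, 4, 3, 5, 4, 3, 2, 0, 7, 6, 5, 4, 3, 1, 2, 3, 4, 5, 6, 7]), (168, [1, 3, 2, 4, 3, 1, 2, 0, 3, 2, 4, 3, 5, 4, 3, 2, 0, 6, 5, 4, 3, 1, 2, 3, 4, 5, 6, 7]), (170, [3, 2, 5, 4, 3, 1, 2, 0, 3, 2, 4, 3, 6, 5, 4, 3, 2, 0, 7, 6, 5, 4, 3, 1, 2, 3, 4, 5, 6, 7]), (171, [3, 2, 4, 3, 1, 2, 0, 3, 2, 4, 3, 6, 5, 4, 3, 2, 0, 7, 6, 5, 4, 3, 1, 2, 3, 4, 5, 6, 7]), (172, [3, 2, 4, 3, 1, 2, 0, 3, 2, 4, 3, 5, 4, 3, 2, 0, 7, 6, 5, 4, 3, 1, 2, 3, 4, 5, 6, 7]), (173, [3, 2, 4, 3, 1, 2, 0, 3, 2, 4, 3, 5, 4, 3, 2, 0, 6, 5, 4, 3, 1, 2, 3, 4, 5, 6, 7]), (174, [2, 5, 4, 3, 1, 2, 0, 3, 2, 4, 3, 6, 5, 4, 3, 2, 0, 7, 6, 5, 4, 3, 1, 2, 3, 4, 5, 6, 7]), (175, [2,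 4, 3, 1, 2, 0, 3, 2, 4, 3, 6, 5, 4, 3, 2, 0, 7, 6, 5, 4, 3, 1, 2, 3, 4, 5, 6, 7]), (176, [2, 4, 3, 1, 2, 0, 3, 2, 4, 3, 5, 4, 3, 2, 0, 7, 6, 5, 4, 3, 1, 2, 3, 4, 5, 6, 7]), (177, [2, 4, 3, 1, 2, 0, 3, 2, 4, 3, 5, 4, 3, 2, 0, 6, 5, 4, 3, 1, 2, 3, 4, 5, 6, 7]), (184, [5, 4, 3, 1, 2, 0, 3, 2, 4, 3, 6, 5, 4, 3, 2, 0, 7, 6, 5, 4, 3, 1, 2, 3, 4, 5, 6, 7]), (185, [4, 3, 1, 2, 0, 3, 2, 4, 3, 6, 5, 4, 3, 2, 0, 7, 6, 5, 4, 3, 1, 2, 3, 4, 5, 6, 7]), (186, [4, 3, 1, 2, 0, 3, 2, 4, 3, 5, 4, 3, 2, 0, 7, 6, 5, 4, 3, 1, 2, 3, 4, 5, 6, 7]), (187, [4, 3, 1, 2, 0, 3, 2, 4, 3, 5, 4, 3, 2, 0, 6, 5, 4, 3, 1, 2, 3, 4, 5, 6, 7]), (200, [1, 3, 2, 0, 4, 3, 1,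 2, 3, 4, 7, 6, 5, 4, 3, 1, 2, 3, 4, 5, 6, 7]), (201, [1, 3, 2, 0, 4, 3, 1, 2, 3, 4, 6, 5, 4, 3, 1, 2, 3, 4, 5, 6, 7]), (202, [1, 3, 2, 0, 4, 3, 1, 2, 3, 4, 5, 4, 3, 1, 2, 3, 4, 5, 6, 7]), (203, [1, 3, 2, 0, 4, 3, 1, 2, 3, 4, 5, 4, 3, 1, 2, 3, 4, 6, 7]), (210, [3, 2, 0, 4, 3, 1, 2, 3, 4, 7, 6, 5, 4, 3, 1, 2, 3, 4, 5, 6, 7]), (211, [3, 2, 0, 4, 3, 1, 2, 3, 4, 6, 5, 4, 3, 1, 2, 3, 4, 5, 6, 7]), (212, [3, 2, 0, 4, 3, 1, 2, 3, 4, 5, 4, 3, 1, 2, 3, 4, 5, 6, 7]), (213, [3, 2, 0, 4, 3, 1, 2, 3, 4, 5, 4, 3, 1, 2, 3, 4, 6, 7]), (214, [2, 0, 4, 3, 1, 2, 3, 4, 7, 6, 5, 4, 3, 1, 2, 3, 4, 5, 6, 7]), (215, [2, 0, 4, 3, 1, 2, 3, 4, 6, 5, 4, 3, 1, 2,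 3, 4, 5, 6, 7]), (216, [2, 0, 4, 3, 1, 2, 3, 4, 5, 4, 3, 1, 2, 3, 4, 5, 6, 7]), (217, [2, 0, 4, 3, 1, 2, 3, 4, 5, 4, 3, 1, 2, 3, 4, 6, 7]), (219, [0, 4, 3, 1, 2, 3, 4, 7, 6, 5, 4, 3, 1, 2, 3, 4, 5, 6, 7]), (220, [0, 4, 3, 1, 2, 3, 4, 6, 5, 4, 3, 1, 2, 3, 4, 5, 6, 7]), (221, [0, 4, 3, 1, 2, 3, 4, 5, 4, 3, 1, 2, 3, 4, 5, 6, 7]), (222, [0, 4, 3, 1, 2, 3, 4, 5, 4, 3, 1, 2, 3, 4, 6, 7]), (226, [4, 3, 1, 2, 3, 4, 7, 6, 5, 4, 3, 1, 2, 3, 4, 5, 6, 7]), (227, [4, 3, 1, 2, 3, 4, 6, 5, 4, 3, 1, 2, 3, 4, 5, 6, 7]), (228, [4, 3, 1, 2, 3, 4, 5, 4, 3, 1, 2, 3, 4, 5, 6, 7]), (229, [4, 3, 1, 2, 3, 4, 5, 4, 3, 1, 2, 3, 4, 6, 7]), (236, [5, 6, 7]), (237,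 [6, 7]), (238, [7]), (239, [])]

def e8c2Lev1 : Lev where
  lam := 226
  orb := [(13, [0, 2, 3, 1, 4, 3, 1, 2, 0, 3, 2, 5, 4, 3, 1, 2, 0, 3, 2, 4, 3, 5, 6, 5, 4, 3, 1, 2, 0, 3, 2, 4, 3, 1, 5, 4, 3, 2, 0, 6, 5, 4]), (20, [2, 3, 1, 4, 3, 1, 2, 0, 3, 2, 5, 4, 3, 1, 2, 0, 3, 2, 4, 3, 5, 6, 5, 4, 3, 1, 2, 0, 3, 2, 4, 3, 1, 5, 4, 3, 2, 0, 6, 5, 4]), (25, [3, 1, 4, 3, 1, 2, 0, 3, 2, 5, 4, 3, 1, 2, 0, 3, 2, 4, 3, 5, 6, 5, 4, 3, 1, 2, 0, 3, 2, 4, 3, 1, 5, 4, 3, 2, 0, 6, 5, 4]), (29, [1, 4, 3, 1, 2, 0, 3, 2, 5, 4, 3, 1, 2, 0, 3, 2, 4, 3, 5, 6, 5, 4, 3, 1, 2, 0, 3, 2, 4, 3, 1, 5, 4, 3, 2, 0, 6, 5, 4]), (39, [4, 3, 1, 2, 0, 3, 2, 5, 4, 3, 1, 2, 0,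 3, 2, 4, 3, 5, 6, 5, 4, 3, 1, 2, 0, 3, 2, 4, 3, 1, 5, 4, 3, 2, 0, 6, 5, 4]), (53, [2, 0, 3, 1, 2, 3, 4, 3, 1, 5, 4, 3, 6, 5, 4, 3, 1, 2, 0, 3, 2, 4, 3, 1, 5, 4, 3, 2, 0, 6, 5, 4]), (54, [2, 0, 3, 1, 2, 3, 4, 3, 1, 5, 4, 3, 1, 2, 0, 3, 2, 4, 3, 1, 5, 4, 6, 5, 4, 3, 1, 2, 0, 3, 4]), (55, [2, 0, 3, 1, 2, 3, 4, 3, 1, 2, 0, 3, 2, 4, 3, 5, 4, 3, 1, 2, 0, 6, 5, 4, 3, 1, 2, 0, 3, 4]), (63, [0, 3, 1, 2, 3, 4, 3, 1, 5, 4, 3, 6, 5, 4, 3, 1, 2, 0, 3, 2, 4, 3, 1, 5, 4, 3, 2, 0, 6, 5, 4]), (64, [0, 3, 1, 2, 3, 4, 3, 1, 5, 4, 3, 1, 2, 0, 3, 2, 4, 3, 1, 5, 4, 6, 5, 4, 3, 1, 2, 0, 3, 4]), (65, [0, 3, 1, 2, 3, 4, 3, 1, 2, 0, 3, 2, 4, 3, 5, 4, 3, 1, 2,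 0, 6, 5, 4, 3, 1, 2, 0, 3, 4]), (67, [0, 1, 2, 3, 4, 3, 1, 5, 4, 3, 6, 5, 4, 3, 1, 2, 0, 3, 2, 4, 3, 1, 5, 4, 3, 2, 0, 6, 5, 4]), (68, [0, 1, 2, 3, 4, 3, 1, 5, 4, 3, 1, 2, 0, 3, 2, 4, 3, 1, 5, 4, 6, 5, 4, 3, 1, 2, 0, 3, 4]), (69, [0, 1, 2, 3, 4, 3, 1, 2, 0, 3, 2, 4, 3, 5, 4, 3, 1, 2, 0, 6, 5, 4, 3, 1, 2, 0, 3, 4]), (72, [0, 2, 3, 4, 3, 1, 5, 4, 3, 6, 5, 4, 3, 1, 2, 0, 3, 2, 4, 3, 1, 5, 4, 3, 2, 0, 6, 5, 4]), (73, [0, 2, 3, 4, 3, 1, 5, 4, 3, 1, 2, 0, 3, 2, 4, 3, 1, 5, 4, 6, 5, 4, 3, 1, 2, 0, 3, 4]), (74, [0, 2, 3, 4, 3, 1, 2, 0, 3, 2, 4, 3, 5, 4, 3, 1, 2, 0, 6, 5, 4, 3, 1, 2, 0, 3, 4]), (85, [3, 1, 2, 3, 4, 3, 1, 5, 4, 3, 6, 5, 4, 3, 1,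 2, 0, 3, 2, 4, 3, 1, 5, 4, 3, 2, 0, 6, 5, 4]), (86, [3, 1, 2, 3, 4, 3, 1, 5, 4, 3, 1, 2, 0, 3, 2, 4, 3, 1, 5, 4, 6, 5, 4, 3, 1, 2, 0, 3, 4]), (87, [3, 1, 2, 3, 4, 3, 1, 2, 0, 3, 2, 4, 3, 5, 4, 3, 1, 2, 0, 6, 5, 4, 3, 1, 2, 0, 3, 4]), (89, [1, 2, 3, 4, 3, 1, 5, 4, 3, 6, 5, 4, 3, 1, 2, 0, 3, 2, 4, 3, 1, 5, 4, 3, 2, 0, 6, 5, 4]), (90, [1, 2, 3, 4, 3, 1, 5, 4, 3, 1, 2, 0, 3, 2, 4, 3, 1, 5, 4, 6, 5, 4, 3, 1, 2, 0, 3, 4]), (91, [1, 2, 3, 4, 3, 1, 2, 0, 3, 2, 4, 3, 5, 4, 3, 1, 2, 0, 6, 5, 4, 3, 1, 2, 0, 3, 4]), (94, [1, 3, 4, 3, 1, 5, 4, 3, 6, 5, 4, 3, 1, 2, 0, 3, 2, 4, 3, 1, 5, 4, 3, 2, 0, 6, 5, 4]), (95, [1, 3, 4, 3, 1, 5, 4, 3, 1, 2, 0, 3,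 2, 4, 3, 1, 5, 4, 6, 5, 4, 3, 1, 2, 0, 3, 4]), (96, [1, 3, 4, 3, 1, 2, 0, 3, 2, 4, 3, 5, 4, 3, 1, 2, 0, 6, 5, 4, 3, 1, 2, 0, 3, 4]), (100, [2, 3, 4, 3, 1, 5, 4, 3, 6, 5, 4, 3, 1, 2, 0, 3, 2, 4, 3, 1, 5, 4, 3, 2, 0, 6, 5, 4]), (101, [2, 3, 4, 3, 1, 5, 4, 3, 1, 2, 0, 3, 2, 4, 3, 1, 5, 4, 6, 5, 4, 3, 1, 2, 0, 3, 4]), (102, [2, 3, 4, 3, 1, 2, 0, 3, 2, 4, 3, 5, 4, 3, 1, 2, 0, 6, 5, 4, 3, 1, 2, 0, 3, 4]), (106, [3, 4, 3, 1, 5, 4, 3, 6, 5, 4, 3, 1, 2, 0, 3, 2, 4, 3, 1, 5, 4, 3, 2, 0, 6, 5, 4]), (107, [3, 4, 3, 1, 5, 4, 3, 1, 2, 0, 3, 2, 4, 3, 1, 5, 4, 6, 5, 4, 3, 1, 2, 0, 3, 4]), (108, [3, 4, 3, 1, 2, 0, 3, 2, 4, 3, 5, 4, 3, 1, 2, 0, 6, 5, 4,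 3, 1, 2, 0, 3, 4]), (111, [4, 3, 1, 5, 4, 3, 6, 5, 4, 3, 1, 2, 0, 3, 2, 4, 3, 1, 5, 4, 3, 2, 0, 6, 5, 4]), (112, [4, 3, 1, 5, 4, 3, 1, 2, 0, 3, 2, 4, 3, 1, 5, 4, 6, 5, 4, 3, 1, 2, 0, 3, 4]), (113, [4, 3, 1, 2, 0, 3, 2, 4, 3, 5, 4, 3, 1, 2, 0, 6, 5, 4, 3, 1, 2, 0, 3, 4]), (126, [3, 1, 2, 0, 3, 2, 5, 4, 3, 1, 2, 3, 4, 6, 5, 4, 3, 1, 2, 0, 3, 4]), (127, [3, 1, 2, 0, 3, 2, 4, 3, 1, 2, 3, 4, 6, 5, 4, 3, 1, 2, 0, 3, 4]), (128, [3, 1, 2, 0, 3, 2, 4, 3, 1, 2, 3, 4, 5, 4, 3, 1, 2, 0, 3, 4]), (131, [1, 2, 0, 3, 2, 5, 4, 3, 1, 2, 3, 4, 6, 5, 4, 3, 1, 2, 0, 3, 4]), (132, [1, 2, 0, 3, 2, 4, 3, 1, 2, 3, 4, 6, 5, 4, 3, 1, 2, 0, 3, 4]), (133, [1, 2,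 0, 3, 2, 4, 3, 1, 2, 3, 4, 5, 4, 3, 1, 2, 0, 3, 4]), (137, [0, 1, 3, 2, 5, 4, 3, 1, 2, 3, 4, 6, 5, 4, 3, 1, 2, 0, 3, 4]), (138, [0, 1, 3, 2, 4, 3, 1, 2, 3, 4, 6, 5, 4, 3, 1, 2, 0, 3, 4]), (139, [0, 1, 3, 2, 4, 3, 1, 2, 3, 4, 5, 4, 3, 1, 2, 0, 3, 4]), (143, [2, 0, 3, 2, 5, 4, 3, 1, 2, 3, 4, 6, 5, 4, 3, 1, 2, 0, 3, 4]), (144, [2, 0, 3, 2, 4, 3, 1, 2, 3, 4, 6, 5, 4, 3, 1, 2, 0, 3, 4]), (145, [2, 0, 3, 2, 4, 3, 1, 2, 3, 4, 5, 4, 3, 1, 2, 0, 3, 4]), (148, [0, 3, 2, 5, 4, 3, 1, 2, 3, 4, 6, 5, 4, 3, 1, 2, 0, 3, 4]), (149, [0, 3, 2, 4, 3, 1, 2, 3, 4, 6, 5, 4, 3, 1, 2, 0, 3, 4]), (150, [0, 3, 2, 4, 3, 1, 2, 3, 4, 5, 4, 3, 1, 2, 0, 3, 4]), (152,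 [0, 2, 5, 4, 3, 1, 2, 3, 4, 6, 5, 4, 3, 1, 2, 0, 3, 4]), (153, [0, 2, 4, 3, 1, 2, 3, 4, 6, 5, 4, 3, 1, 2, 0, 3, 4]), (154, [0, 2, 4, 3, 1, 2, 3, 4, 5, 4, 3, 1, 2, 0, 3, 4]), (165, [1, 3, 2, 5, 4, 3, 1, 2, 3, 4, 6, 5, 4, 3, 1, 2, 0, 3, 4]), (166, [1, 3, 2, 4, 3, 1, 2, 3, 4, 6, 5, 4, 3, 1, 2, 0, 3, 4]), (167, [1, 3, 2, 4, 3, 1, 2, 3, 4, 5, 4, 3, 1, 2, 0, 3, 4]), (170, [3, 2, 5, 4, 3, 1, 2, 3, 4, 6, 5, 4, 3, 1, 2, 0, 3, 4]), (171, [3, 2, 4, 3, 1, 2, 3, 4, 6, 5, 4, 3, 1, 2, 0, 3, 4]), (172, [3, 2, 4, 3, 1, 2, 3, 4, 5, 4, 3, 1, 2, 0, 3, 4]), (174, [2, 5, 4, 3, 1, 2, 3, 4, 6, 5, 4, 3, 1, 2, 0, 3, 4]), (175, [2, 4, 3, 1, 2, 3, 4, 6, 5, 4, 3,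 1, 2, 0, 3, 4]), (176, [2, 4, 3, 1, 2, 3, 4, 5, 4, 3, 1, 2, 0, 3, 4]), (184, [5, 4, 3, 1, 2, 3, 4, 6, 5, 4, 3, 1, 2, 0, 3, 4]), (185, [4, 3, 1, 2, 3, 4, 6, 5, 4, 3, 1, 2, 0, 3, 4]), (186, [4, 3, 1, 2, 3, 4, 5, 4, 3, 1, 2, 0, 3, 4]), (200, [1, 3, 2, 0]), (210, [3, 2, 0]), (214, [2, 0]), (219, [0]), (226, [])]

def e8c2Lev2 : Lev where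
  lam := 154
  orb := [(85, [3, 1, 2, 3, 4, 3, 1, 2, 3, 4, 6, 5, 4, 3, 1, 2, 3, 4, 5, 6]), (86, [3, 1, 2, 3, 4, 3, 1, 2, 3, 4, 5, 4, 3, 1, 2, 3, 4, 5, 6]), (87, [3, 1, 2, 3, 4, 3, 1, 2, 3, 4, 5, 4, 3, 1, 2, 3, 4, 6]), (89, [1, 2, 3, 4, 3, 1, 2, 3, 4, 6, 5, 4, 3, 1, 2, 3, 4, 5, 6]), (90, [1, 2, 3, 4, 3, 1, 2, 3, 4, 5, 4, 3, 1, 2, 3, 4, 5, 6]), (91, [1, 2, 3, 4, 3, 1, 2, 3, 4, 5, 4, 3, 1, 2, 3, 4, 6]), (94, [1, 3, 4, 3, 1, 2, 3, 4, 6, 5, 4, 3, 1, 2, 3, 4, 5, 6]), (95, [1, 3, 4, 3, 1, 2, 3, 4, 5, 4, 3, 1, 2, 3, 4, 5, 6]), (96, [1, 3, 4, 3, 1, 2, 3, 4, 5, 4, 3, 1, 2, 3, 4, 6]), (100, [2, 3, 4, 3, 1, 2, 3, 4, 6, 5, 4, 3, 1, 2, 3, 4, 5, 6]),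 (101, [2, 3, 4, 3, 1, 2, 3, 4, 5, 4, 3, 1, 2, 3, 4, 5, 6]), (102, [2, 3, 4, 3, 1, 2, 3, 4, 5, 4, 3, 1, 2, 3, 4, 6]), (106, [3, 4, 3, 1, 2, 3, 4, 6, 5, 4, 3, 1, 2, 3, 4, 5, 6]), (107, [3, 4, 3, 1, 2, 3, 4, 5, 4, 3, 1, 2, 3, 4, 5, 6]), (108, [3, 4, 3, 1, 2, 3, 4, 5, 4, 3, 1, 2, 3, 4, 6]), (111, [4, 3, 1, 2, 3, 4, 6, 5, 4, 3, 1, 2, 3, 4, 5, 6]), (112, [4, 3, 1, 2, 3, 4, 5, 4, 3, 1, 2, 3, 4, 5, 6]), (113, [4, 3, 1, 2, 3, 4, 5, 4, 3, 1, 2, 3, 4, 6]), (126, [3, 1, 2, 3, 5, 6]), (127, [3, 1, 2, 3, 6]), (128, [3, 1, 2, 3]), (131, [1, 2, 3, 5, 6]), (132, [1, 2, 3, 6]), (133, [1, 2, 3]), (137, [1, 3, 5, 6]), (138, [1, 3, 6]), (139, [1, 3]), (143,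 [2, 3, 5, 6]), (144, [2, 3, 6]), (145, [2, 3]), (148, [3, 5, 6]), (149, [3, 6]), (150, [3]), (152, [5, 6]), (153, [6]), (154, [])]

def e8c2Lev3 : Lev where
  lam := 8
  orb := [(5, [1, 2]), (6, [1]), (7, [2]), (8, [])]

def e8c2Lev4 : Lev where
  lam := 11
  orb := [(2, [4, 3, 1, 2, 3, 4, 5, 4, 3, 1, 2, 3, 4, 5]), (3, [4, 3, 1, 2, 3, 4, 5, 4, 3, 1, 2, 3, 4]), (10, [5]), (11, [])]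

def e8c2Lev5 : Lev where
  lam := 1
  orb := [(1, [])]

def e8c2Lev6 : Lev where
  lam := 14
  orb := [(14, [])]

def e8c2Lev7 : Lev where
  lam := 3
  orb := [(3, [])]

end Cfsg.Agent.Lib.H13.WChain
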