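import Mathlib
import Cfsg.Agent.Lib.H13.WChainE8D2
import Cfsg.Agent.Lib.H29.ChevCert13

/-! Checks of a stabilizer chain certificate in the Weyl group of type E8 (generated) -/

set_option autoImplicit false
set_option maxRecDepth 1000000
set_option maxHeartbeats 0

namespace Cfsg.Agent.Lib.H13.WChain

open Cfsg.Agent.Lib.H29.Chev

def e8c2PP0 : List ℕ := [120, 121, 122, 123, 124, 125, 130, 135, 136, 141, 142, 147, 156, 157, 158, 159, 160, 161, 162, 163, 164, 169, 178, 179, 180, 181, 182, 183, 188, 189, 190, 191, 192, 193, 194, 195, 196, 197, 198, 199, 204, 205, 206, 207, 208, 209, 218, 223, 224, 225, 230, 231, 232, 233, 234, 235]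
def e8c2PP1 : List ℕ := [121, 123, 124, 130, 135, 136, 141, 142, 147, 156, 157, 159, 162, 163, 164, 169, 178, 179, 181, 188, 189, 191, 194, 195, 197, 204, 205, 207]
def e8c2PP2 : List ℕ := [121, 123, 124, 130, 135, 136, 141, 142, 147, 156, 157, 159]
def e8c2PP3 : List ℕ := [123, 135, 141, 156]
def e8c2PP4 : List ℕ := [123, 156]
def e8c2PP5 : List ℕ := []
def e8c2PP6 : List ℕ := []
def e8c2PP7 : List ℕ := []
def e8c2PP8 : List ℕ := []

theorem e8c2_PP0 : e8c2PP0 = posPhi fdE8 fxE8 e8c2A [] := by decide +kernel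

theorem e8c2_PP1 : e8c2PP1 = e8c2PP0.filter fun r => intBeq (fdE8.pr r e8c2Lev0.lam) 0 := by decide +kernel

theorem e8c2_chk0 : chkLev fdE8 fxE8 e8c2A [] e8c2PP0 e8c2PP1 e8c2Lev0 = true := by decide +kernel

theorem e8c2_nd0 : (e8c2Lev0.orb.map Prod.fst).Nodup := by decide +kernel

theorem e8c2_len0 : e8c2Lev0.orb.map (fun e => lenW fdE8 fxE8 e8c2PP0 e.2) = [28, 27, 26, 25, 25, 24, 23, 22, 24, 23, 22, 21, 23, 22, 21, 20, 22, 21, 20, 19, 21, 20, 19, 18, 21, 20, 19, 18, 20, 19, 18, 17, 19, 18, 17, 16, 18, 17, 16, 15, 19, 18, 17, 16, 18, 17, 16, 15, 17, 16, 15, 14, 17, 16, 15, 14, 16, 15, 14, 13, 15, 14, 13, 12, 16, 15, 14, 13, 15, 14, 13, 12, 14, 13, 12, 11, 14, 13, 12, 11, 13, 12, 11, 10, 12, 11, 10, 9, 13, 12, 11, 10, 12, 11, 10, 9, 11, 10, 9, 8, 10, 9, 8, 7, 10, 9, 8, 7, 9, 8, 7, 6, 8, 7, 6, 5, 7, 6, 5, 4, 6, 5, 4, 3, 3, 2, 1, 0] := by decide +kernel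

theorem e8c2_PP2 : e8c2PP2 = e8c2PP1.filter fun r => intBeq (fdE8.pr r e8c2Lev1.lam) 0 := by decide +kernel

theorem e8c2_chk1 : chkLev fdE8 fxE8 e8c2A [239] e8c2PP1 e8c2PP2 e8c2Lev1 = true := by decide +kernel

theorem e8c2_nd1 : (e8c2Lev1.orb.map Prod.fst).Nodup := by decide +kernel

theorem e8c2_len1 : e8c2Lev1.orb.map (fun e => lenW fdE8 fxE8 e8c2PP1 e.2) = [16, 15, 14, 13, 12, 14, 13, 12, 13, 12, 11, 12, 11, 10, 11, 10, 9, 12, 11, 10, 11, 10, 9, 10, 9, 8, 10, 9, 8, 9, 8, 7, 8, 7, 6, 10, 9, 8, 9, 8, 7, 8, 7, 6, 8, 7, 6, 7, 6, 5, 6, 5, 4, 7, 6, 5, 6, 5, 4, 5, 4, 3, 4, 3, 2, 4, 3, 2, 1, 0] := by decide +kernel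

theorem e8c2_PP3 : e8c2PP3 = e8c2PP2.filter fun r => intBeq (fdE8.pr r e8c2Lev2.lam) 0 := by decide +kernel

theorem e8c2_chk2 : chkLev fdE8 fxE8 e8c2A [226, 239] e8c2PP2 e8c2PP3 e8c2Lev2 = true := by decide +kernel

theorem e8c2_nd2 : (e8c2Lev2.orb.map Prod.fst).Nodup := by decide +kernel

theorem e8c2_len2 : e8c2Lev2.orb.map (fun e => lenW fdE8 fxE8 e8c2PP2 e.2) = [8, 7, 6, 7, 6, 5, 6, 5, 4, 6, 5, 4, 5, 4, 3, 4, 3, 2, 6, 5, 4, 5, 4, 3, 4, 3, 2, 4, 3, 2, 3, 2, 1, 2, 1, 0] := by decide +kernel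

theorem e8c2_PP4 : e8c2PP4 = e8c2PP3.filter fun r => intBeq (fdE8.pr r e8c2Lev3.lam) 0 := by decide +kernel

theorem e8c2_chk3 : chkLev fdE8 fxE8 e8c2A [154, 226, 239] e8c2PP3 e8c2PP4 e8c2Lev3 = true := by decide +kernel

theorem e8c2_nd3 : (e8c2Lev3.orb.map Prod.fst).Nodup := by decide +kernel

theorem e8c2_len3 : e8c2Lev3.orb.map (fun e => lenW fdE8 fxE8 e8c2PP3 e.2) = [2, 1, 1, 0] := by decide +kernel

theorem e8c2_PP5 : e8c2PP5 = e8c2PP4.filter fun r => intBeq (fdE8.pr r e8c2Lev4.lam) 0 := by decide +kernel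

theorem e8c2_chk4 : chkLev fdE8 fxE8 e8c2A [8, 154, 226, 239] e8c2PP4 e8c2PP5 e8c2Lev4 = true := by decide +kernel

theorem e8c2_nd4 : (e8c2Lev4.orb.map Prod.fst).Nodup := by decide +kernel

theorem e8c2_len4 : e8c2Lev4.orb.map (fun e => lenW fdE8 fxE8 e8c2PP4 e.2) = [2, 1, 1, 0] := by decide +kernel

theorem e8c2_PP6 : e8c2PP6 = e8c2PP5.filter fun r => intBeq (fdE8.pr r e8c2Lev5.lam) 0 := by decide +kernel

theorem e8c2_chk5 : chkLev fdE8 fxE8 e8c2A [11, 8, 154, 226, 239] e8c2PP5 e8c2PP6 e8c2Lev5 = true := by decide +kernel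

theorem e8c2_nd5 : (e8c2Lev5.orb.map Prod.fst).Nodup := by decide +kernel

theorem e8c2_len5 : e8c2Lev5.orb.map (fun e => lenW fdE8 fxE8 e8c2PP5 e.2) = [0] := by decide +kernel

theorem e8c2_PP7 : e8c2PP7 = e8c2PP6.filter fun r => intBeq (fdE8.pr r e8c2Lev6.lam) 0 := by decide +kernel

theorem e8c2_chk6 : chkLev fdE8 fxE8 e8c2A [1, 11, 8, 154, 226, 239] e8c2PP6 e8c2PP7 e8c2Lev6 = true := by decide +kernel

theorem e8c2_nd6 : (e8c2Lev6.orb.map Prod.fst).Nodup := by decide +kernel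

theorem e8c2_len6 : e8c2Lev6.orb.map (fun e => lenW fdE8 fxE8 e8c2PP6 e.2) = [0] := by decide +kernel

theorem e8c2_PP8 : e8c2PP8 = e8c2PP7.filter fun r => intBeq (fdE8.pr r e8c2Lev7.lam) 0 := by decide +kernel

theorem e8c2_chk7 : chkLev fdE8 fxE8 e8c2A [14, 1, 11, 8, 154, 226, 239] e8c2PP7 e8c2PP8 e8c2Lev7 = true := by decide +kernel

theorem e8c2_nd7 : (e8c2Lev7.orb.map Prod.fst).Nodup := by decide +kernel

theorem e8c2_len7 : e8c2Lev7.orb.map (fun e => lenW fdE8 fxE8 e8c2PP7 e.2) = [0] := by decide +kernel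

theorem e8c2_inj : ((List.range fdE8.n).map fun r => ([3, 14, 1, 11, 8, 154, 226, 239] : List ℕ).map fun lam => fdE8.pr r lam).Nodup := by decide +kernel

end Cfsg.Agent.Lib.H13.WChain
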