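import Mathlib
import Cfsg.Agent.Lib.H13.WChainE8C1
import Cfsg.Agent.Lib.H13.WChainE8C2
import Cfsg.Agent.Lib.H29.ChevGen43

/-!
# The Poincaré sums of the stabilizers of the two classes of involutions of the torus of `E8`
-/

set_option autoImplicit false
set_option maxRecDepth 1000000
set_option maxHeartbeats 0

namespace Cfsg.Agent.Lib.H13.WChain

open Cfsg.Agent.Lib.H29.Chev

/-- the polynomial `∑_{e ∈ l} x^e` -/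
def histL (l : List ℕ) : List ℕ := l.foldr bumpN []

theorem evalN_histL (l : List ℕ) (q : ℕ) : evalN (histL l) q = (l.map (q ^ ·)).sum := by
  induction l with
  | nil => simp [histL, evalN]
  | cons e l ih =>
    rw [histL, List.foldr_cons, evalN_bumpN, ← histL, ih, List.map_cons, List.sum_cons, add_comm]

theorem e8c1_poly : mulN (histL [28, 27, 27, 26, 26, 25, 25, 24, 24, 23, 23, 22, 22, 21, 23, 22, 22, 21, 21, 20, 21, 20, 20, 19, 19, 18, 20, 19, 19, 18, 18, 17, 17, 16, 16, 15, 19, 18, 18, 17, 17, 16, 16, 15, 15, 14, 15, 14, 14, 13, 13, 12, 12, 11, 11, 10, 18, 17, 17, 16, 16, 15, 15, 14, 14, 13, 14, 13, 13, 12, 12, 11, 11, 10, 10, 9, 13, 12, 12, 11, 11, 10, 10, 9, 9, 8, 10, 9, 9, 8, 8, 7, 8, 7, 7, 6, 6, 5, 7, 6, 6, 5, 5, 4, 4, 3, 3, 2, 2, 1, 1, 0]) (mulN (histL [21, 20, 19, 18, 17, 18, 17, 16, 16, 15, 14, 15,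 14, 13, 12, 11, 17, 16, 15, 15, 14, 13, 14, 13, 12, 11, 14, 13, 12, 11, 13, 12, 11, 12, 11, 11, 10, 10, 9, 10, 9, 8, 10, 9, 8, 7, 10, 9, 8, 7, 8, 7, 6, 6, 5, 4, 10, 9, 8, 7, 6, 7, 6, 5, 5, 4, 3, 4, 3, 2, 1, 0]) (mulN (histL [9, 8, 7, 6, 7, 6, 5, 5, 4, 3, 6, 5, 4, 4, 3, 2, 3, 2, 1, 0]) (mulN (histL [4, 3, 2, 3, 2, 1, 2, 1, 0]) (mulN (histL [2, 1, 1, 0]) (mulN (histL [0]) (mulN (histL [0]) (histL [0]))))))) = polyD [2, 2, 6, 8, 10, 12, 14, 18] := by decide +kernel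

theorem e8c2_poly : mulN (histL [28, 27, 26, 25, 25, 24, 23, 22, 24, 23, 22, 21, 23, 22, 21, 20, 22, 21, 20, 19, 21, 20, 19, 18, 21, 20, 19, 18, 20, 19, 18, 17, 19, 18, 17, 16, 18, 17, 16, 15, 19, 18, 17, 16, 18, 17, 16, 15, 17, 16, 15, 14, 17, 16, 15, 14, 16, 15, 14, 13, 15, 14, 13, 12, 16, 15, 14, 13, 15, 14, 13, 12, 14, 13, 12, 11, 14, 13, 12, 11, 13, 12, 11, 10, 12, 11, 10, 9, 13, 12, 11, 10, 12, 11, 10, 9, 11, 10, 9, 8, 10, 9, 8, 7, 10, 9, 8, 7, 9, 8, 7, 6, 8, 7, 6, 5, 7, 6, 5, 4, 6, 5, 4, 3, 3, 2, 1, 0]) (mulN (histL [16, 15, 14, 13, 12, 14, 13, 12, 13, 12, 11, 12, 11, 10, 11, 10, 9, 12, 11, 10, 11, 10, 9, 10, 9, 8, 10, 9, 8, 9, 8, 7, 8, 7, 6, 10, 9, 8, 9, 8, 7, 8, 7, 6, 8, 7, 6, 7, 6, 5, 6, 5, 4, 7, 6, 5, 6, 5, 4, 5, 4, 3, 4, 3, 2, 4, 3, 2, 1, 0]) (mulN (histL [8, 7, 6, 7, 6, 5, 6, 5, 4, 6, 5, 4, 5, 4,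 3, 4, 3, 2, 6, 5, 4, 5, 4, 3, 4, 3, 2, 4, 3, 2, 3, 2, 1, 2, 1, 0]) (mulN (histL [2, 1, 1, 0]) (mulN (histL [2, 1, 1, 0]) (mulN (histL [0]) (mulN (histL [0]) (histL [0]))))))) = polyD [8, 2, 4, 6, 8, 10, 12, 14] := by decide +kernel

/-- the Poincaré sum of the stabilizer of the character `e8c1A` -/
theorem e8c1_psum (q : ℕ) :
    psum (Ppos fdE8) (PhiS fdE8 fxE8 e8c1A []) (GS fdE8 fxE8 e8c1A []) q =
      evalN (polyD [2, 2, 6, 8, 10, 12, 14, 18]) q := by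
  have hL0 : ∀ lam ∈ ([] : List ℕ), lam < fdE8.n := by decide
  have hL1 : ∀ lam ∈ ([239] : List ℕ), lam < fdE8.n := by decide
  have hL2 : ∀ lam ∈ ([204, 239] : List ℕ), lam < fdE8.n := by decide
  have hL3 : ∀ lam ∈ ([98, 204, 239] : List ℕ), lam < fdE8.n := by decide
  have hL4 : ∀ lam ∈ ([87, 98, 204, 239] : List ℕ), lam < fdE8.n := by decide
  have hL5 : ∀ lam ∈ ([64, 87, 98, 204, 239] : List ℕ), lam < fdE8.n := by decide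
  have hL6 : ∀ lam ∈ ([2, 64, 87, 98, 204, 239] : List ℕ), lam < fdE8.n := by decide
  have hL7 : ∀ lam ∈ ([3, 2, 64, 87, 98, 204, 239] : List ℕ), lam < fdE8.n := by decide
  have hL8 : ∀ lam ∈ ([1, 3, 2, 64, 87, 98, 204, 239] : List ℕ), lam < fdE8.n := by decide
  have t0 := lev_step cert12_E8 e8c1A [] hL0 e8c1PP0 e8c1PP1 e8c1Lev0
    e8c1_PP0 e8c1_PP1 e8c1_chk0 e8c1_nd0 q
  have h1 : e8c1PP1 = posPhi fdE8 fxE8 e8c1A [239] := by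
    rw [e8c1_PP1, e8c1_PP0]; exact (posPhi_cons _ _ _).symm
  have e0 : (e8c1Lev0.orb.map fun e => q ^ lenW fdE8 fxE8 e8c1PP0 e.2).sum = evalN (histL [28, 27, 27, 26, 26, 25, 25, 24, 24, 23, 23, 22, 22, 21, 23, 22, 22, 21, 21, 20, 21, 20, 20, 19, 19, 18, 20, 19, 19, 18, 18, 17, 17, 16, 16, 15, 19, 18, 18, 17, 17, 16, 16, 15, 15, 14, 15, 14, 14, 13, 13, 12, 12, 11, 11, 10, 18, 17, 17, 16, 16, 15, 15, 14, 14, 13, 14, 13, 13, 12, 12, 11, 11, 10, 10, 9, 13, 12, 12, 11, 11, 10, 10, 9, 9, 8, 10, 9, 9, 8, 8, 7, 8, 7, 7, 6, 6, 5, 7, 6, 6, 5, 5, 4, 4, 3, 3, 2, 2, 1, 1, 0]) q := by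
    rw [evalN_histL, ← e8c1_len0, List.map_map]; rfl
  rw [e0] at t0
  have s0 : psum (Ppos fdE8) (PhiS fdE8 fxE8 e8c1A []) (GS fdE8 fxE8 e8c1A []) q =
      evalN (histL [28, 27, 27, 26, 26, 25, 25, 24, 24, 23, 23, 22, 22, 21, 23, 22, 22, 21, 21, 20, 21, 20, 20, 19, 19, 18, 20, 19, 19, 18, 18, 17, 17, 16, 16, 15, 19, 18, 18, 17, 17, 16, 16, 15, 15, 14, 15, 14, 14, 13, 13, 12, 12, 11, 11, 10, 18, 17, 17, 16, 16, 15, 15, 14, 14, 13, 14, 13, 13, 12, 12, 11, 11, 10, 10, 9, 13, 12, 12, 11, 11, 10, 10, 9, 9, 8, 10, 9, 9, 8, 8, 7, 8, 7, 7, 6, 6, 5, 7, 6, 6, 5, 5, 4, 4, 3, 3, 2, 2, 1, 1, 0]) q * psum (Ppos fdE8) (PhiS fdE8 fxE8 e8c1A [239]) (GS fdE8 fxE8 e8c1A [239]) q := t0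
  have t1 := lev_step cert12_E8 e8c1A [239] hL1 e8c1PP1 e8c1PP2 e8c1Lev1
    h1 e8c1_PP2 e8c1_chk1 e8c1_nd1 q
  have h2 : e8c1PP2 = posPhi fdE8 fxE8 e8c1A [204, 239] := by
    rw [e8c1_PP2, h1]; exact (posPhi_cons _ _ _).symm
  have e1 : (e8c1Lev1.orb.map fun e => q ^ lenW fdE8 fxE8 e8c1PP1 e.2).sum = evalN (histL [21, 20, 19, 18, 17, 18, 17, 16, 16, 15, 14, 15, 14, 13, 12, 11, 17, 16, 15, 15, 14, 13, 14, 13, 12, 11, 14, 13, 12, 11, 13, 12, 11, 12, 11, 11, 10, 10, 9, 10, 9, 8, 10, 9, 8, 7, 10, 9, 8, 7, 8, 7, 6, 6, 5, 4, 10, 9, 8, 7, 6, 7, 6, 5, 5, 4, 3, 4, 3, 2, 1, 0]) q := by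
    rw [evalN_histL, ← e8c1_len1, List.map_map]; rfl
  rw [e1] at t1
  have s1 : psum (Ppos fdE8) (PhiS fdE8 fxE8 e8c1A [239]) (GS fdE8 fxE8 e8c1A [239]) q =
      evalN (histL [21, 20, 19, 18, 17, 18, 17, 16, 16, 15, 14, 15, 14, 13, 12, 11, 17, 16, 15, 15, 14, 13, 14, 13, 12, 11, 14, 13, 12, 11, 13, 12, 11, 12, 11, 11, 10, 10, 9, 10, 9, 8, 10, 9, 8, 7, 10, 9, 8, 7, 8, 7, 6, 6, 5, 4, 10, 9, 8, 7, 6, 7, 6, 5, 5, 4, 3, 4, 3, 2, 1, 0]) q * psum (Ppos fdE8) (PhiS fdE8 fxE8 e8c1A [204, 239]) (GS fdE8 fxE8 e8c1A [204, 239]) q := t1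
  have t2 := lev_step cert12_E8 e8c1A [204, 239] hL2 e8c1PP2 e8c1PP3 e8c1Lev2
    h2 e8c1_PP3 e8c1_chk2 e8c1_nd2 q
  have h3 : e8c1PP3 = posPhi fdE8 fxE8 e8c1A [98, 204, 239] := by
    rw [e8c1_PP3, h2]; exact (posPhi_cons _ _ _).symm
  have e2 : (e8c1Lev2.orb.map fun e => q ^ lenW fdE8 fxE8 e8c1PP2 e.2).sum = evalN (histL [9, 8, 7, 6, 7, 6, 5, 5, 4, 3, 6, 5, 4, 4, 3, 2, 3, 2, 1, 0]) q := by
    rw [evalN_histL, ← e8c1_len2, List.map_map]; rfl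
  rw [e2] at t2
  have s2 : psum (Ppos fdE8) (PhiS fdE8 fxE8 e8c1A [204, 239]) (GS fdE8 fxE8 e8c1A [204, 239]) q =
      evalN (histL [9, 8, 7, 6, 7, 6, 5, 5, 4, 3, 6, 5, 4, 4, 3, 2, 3, 2, 1, 0]) q * psum (Ppos fdE8) (PhiS fdE8 fxE8 e8c1A [98, 204, 239]) (GS fdE8 fxE8 e8c1A [98, 204, 239]) q := t2
  have t3 := lev_step cert12_E8 e8c1A [98, 204, 239] hL3 e8c1PP3 e8c1PP4 e8c1Lev3
    h3 e8c1_PP4 e8c1_chk3 e8c1_nd3 q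
  have h4 : e8c1PP4 = posPhi fdE8 fxE8 e8c1A [87, 98, 204, 239] := by
    rw [e8c1_PP4, h3]; exact (posPhi_cons _ _ _).symm
  have e3 : (e8c1Lev3.orb.map fun e => q ^ lenW fdE8 fxE8 e8c1PP3 e.2).sum = evalN (histL [4, 3, 2, 3, 2, 1, 2, 1, 0]) q := by
    rw [evalN_histL, ← e8c1_len3, List.map_map]; rfl
  rw [e3] at t3
  have s3 : psum (Ppos fdE8) (PhiS fdE8 fxE8 e8c1A [98, 204, 239]) (GS fdE8 fxE8 e8c1A [98, 204, 239]) q =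
      evalN (histL [4, 3, 2, 3, 2, 1, 2, 1, 0]) q * psum (Ppos fdE8) (PhiS fdE8 fxE8 e8c1A [87, 98, 204, 239]) (GS fdE8 fxE8 e8c1A [87, 98, 204, 239]) q := t3
  have t4 := lev_step cert12_E8 e8c1A [87, 98, 204, 239] hL4 e8c1PP4 e8c1PP5 e8c1Lev4
    h4 e8c1_PP5 e8c1_chk4 e8c1_nd4 q
  have h5 : e8c1PP5 = posPhi fdE8 fxE8 e8c1A [64, 87, 98, 204, 239] := by
    rw [e8c1_PP5, h4]; exact (posPhi_cons _ _ _).symm
  have e4 : (e8c1Lev4.orb.map fun e => q ^ lenW fdE8 fxE8 e8c1PP4 e.2).sum = evalN (histL [2, 1, 1, 0]) q := by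
    rw [evalN_histL, ← e8c1_len4, List.map_map]; rfl
  rw [e4] at t4
  have s4 : psum (Ppos fdE8) (PhiS fdE8 fxE8 e8c1A [87, 98, 204, 239]) (GS fdE8 fxE8 e8c1A [87, 98, 204, 239]) q =
      evalN (histL [2, 1, 1, 0]) q * psum (Ppos fdE8) (PhiS fdE8 fxE8 e8c1A [64, 87, 98, 204, 239]) (GS fdE8 fxE8 e8c1A [64, 87, 98, 204, 239]) q := t4
  have t5 := lev_step cert12_E8 e8c1A [64, 87, 98, 204, 239] hL5 e8c1PP5 e8c1PP6 e8c1Lev5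
    h5 e8c1_PP6 e8c1_chk5 e8c1_nd5 q
  have h6 : e8c1PP6 = posPhi fdE8 fxE8 e8c1A [2, 64, 87, 98, 204, 239] := by
    rw [e8c1_PP6, h5]; exact (posPhi_cons _ _ _).symm
  have e5 : (e8c1Lev5.orb.map fun e => q ^ lenW fdE8 fxE8 e8c1PP5 e.2).sum = evalN (histL [0]) q := by
    rw [evalN_histL, ← e8c1_len5, List.map_map]; rfl
  rw [e5] at t5
  have s5 : psum (Ppos fdE8) (PhiS fdE8 fxE8 e8c1A [64, 87, 98, 204, 239]) (GS fdE8 fxE8 e8c1A [64, 87, 98, 204, 239]) q =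
      evalN (histL [0]) q * psum (Ppos fdE8) (PhiS fdE8 fxE8 e8c1A [2, 64, 87, 98, 204, 239]) (GS fdE8 fxE8 e8c1A [2, 64, 87, 98, 204, 239]) q := t5
  have t6 := lev_step cert12_E8 e8c1A [2, 64, 87, 98, 204, 239] hL6 e8c1PP6 e8c1PP7 e8c1Lev6
    h6 e8c1_PP7 e8c1_chk6 e8c1_nd6 q
  have h7 : e8c1PP7 = posPhi fdE8 fxE8 e8c1A [3, 2, 64, 87, 98, 204, 239] := by
    rw [e8c1_PP7, h6]; exact (posPhi_cons _ _ _).symm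
  have e6 : (e8c1Lev6.orb.map fun e => q ^ lenW fdE8 fxE8 e8c1PP6 e.2).sum = evalN (histL [0]) q := by
    rw [evalN_histL, ← e8c1_len6, List.map_map]; rfl
  rw [e6] at t6
  have s6 : psum (Ppos fdE8) (PhiS fdE8 fxE8 e8c1A [2, 64, 87, 98, 204, 239]) (GS fdE8 fxE8 e8c1A [2, 64, 87, 98, 204, 239]) q =
      evalN (histL [0]) q * psum (Ppos fdE8) (PhiS fdE8 fxE8 e8c1A [3, 2, 64, 87, 98, 204, 239]) (GS fdE8 fxE8 e8c1A [3, 2, 64, 87, 98, 204, 239]) q := t6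
  have t7 := lev_step cert12_E8 e8c1A [3, 2, 64, 87, 98, 204, 239] hL7 e8c1PP7 e8c1PP8 e8c1Lev7
    h7 e8c1_PP8 e8c1_chk7 e8c1_nd7 q
  have h8 : e8c1PP8 = posPhi fdE8 fxE8 e8c1A [1, 3, 2, 64, 87, 98, 204, 239] := by
    rw [e8c1_PP8, h7]; exact (posPhi_cons _ _ _).symm
  have e7 : (e8c1Lev7.orb.map fun e => q ^ lenW fdE8 fxE8 e8c1PP7 e.2).sum = evalN (histL [0]) q := by
    rw [evalN_histL, ← e8c1_len7, List.map_map]; rfl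
  rw [e7] at t7
  have s7 : psum (Ppos fdE8) (PhiS fdE8 fxE8 e8c1A [3, 2, 64, 87, 98, 204, 239]) (GS fdE8 fxE8 e8c1A [3, 2, 64, 87, 98, 204, 239]) q =
      evalN (histL [0]) q * psum (Ppos fdE8) (PhiS fdE8 fxE8 e8c1A [1, 3, 2, 64, 87, 98, 204, 239]) (GS fdE8 fxE8 e8c1A [1, 3, 2, 64, 87, 98, 204, 239]) q := t7
  have fin := psum_final cert12_E8 e8c1A [1, 3, 2, 64, 87, 98, 204, 239] hL8 e8c1_inj q
  rw [s0, s1, s2, s3, s4, s5, s6, s7, fin, mul_one]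
  simp only [← evalN_mulN]
  exact congrArg (fun p => evalN p q) e8c1_poly

/-- the Poincaré sum of the stabilizer of the character `e8c2A` -/
theorem e8c2_psum (q : ℕ) :
    psum (Ppos fdE8) (PhiS fdE8 fxE8 e8c2A []) (GS fdE8 fxE8 e8c2A []) q =
      evalN (polyD [8, 2, 4, 6, 8, 10, 12, 14]) q := by
  have hL0 : ∀ lam ∈ ([] : List ℕ), lam < fdE8.n := by decide
  have hL1 : ∀ lam ∈ ([239] : List ℕ), lam < fdE8.n := by decide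
  have hL2 : ∀ lam ∈ ([226, 239] : List ℕ), lam < fdE8.n := by decide
  have hL3 : ∀ lam ∈ ([154, 226, 239] : List ℕ), lam < fdE8.n := by decide
  have hL4 : ∀ lam ∈ ([8, 154, 226, 239] : List ℕ), lam < fdE8.n := by decide
  have hL5 : ∀ lam ∈ ([11, 8, 154, 226, 239] : List ℕ), lam < fdE8.n := by decide
  have hL6 : ∀ lam ∈ ([1, 11, 8, 154, 226, 239] : List ℕ), lam < fdE8.n := by decide
  have hL7 : ∀ lam ∈ ([14, 1, 11, 8, 154, 226, 239] : List ℕ), lam < fdE8.n := by decide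
  have hL8 : ∀ lam ∈ ([3, 14, 1, 11, 8, 154, 226, 239] : List ℕ), lam < fdE8.n := by decide
  have t0 := lev_step cert12_E8 e8c2A [] hL0 e8c2PP0 e8c2PP1 e8c2Lev0
    e8c2_PP0 e8c2_PP1 e8c2_chk0 e8c2_nd0 q
  have h1 : e8c2PP1 = posPhi fdE8 fxE8 e8c2A [239] := by
    rw [e8c2_PP1, e8c2_PP0]; exact (posPhi_cons _ _ _).symm
  have e0 : (e8c2Lev0.orb.map fun e => q ^ lenW fdE8 fxE8 e8c2PP0 e.2).sum = evalN (histL [28, 27, 26, 25, 25, 24, 23, 22, 24, 23, 22, 21, 23, 22, 21, 20, 22, 21, 20, 19, 21, 20, 19, 18, 21, 20, 19, 18, 20, 19, 18, 17, 19, 18, 17, 16, 18, 17, 16, 15, 19, 18, 17, 16, 18, 17, 16, 15, 17, 16, 15, 14, 17, 16, 15, 14, 16, 15, 14, 13, 15, 14, 13, 12, 16, 15, 14, 13, 15, 14, 13, 12, 14, 13, 12, 11, 14, 13, 12, 11, 13, 12, 11, 10, 12, 11, 10, 9, 13, 12, 11, 10, 12, 11, 10, 9, 11, 10, 9, 8, 10, 9, 8, 7,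 10, 9, 8, 7, 9, 8, 7, 6, 8, 7, 6, 5, 7, 6, 5, 4, 6, 5, 4, 3, 3, 2, 1, 0]) q := by
    rw [evalN_histL, ← e8c2_len0, List.map_map]; rfl
  rw [e0] at t0
  have s0 : psum (Ppos fdE8) (PhiS fdE8 fxE8 e8c2A []) (GS fdE8 fxE8 e8c2A []) q =
      evalN (histL [28, 27, 26, 25, 25, 24, 23, 22, 24, 23, 22, 21, 23, 22, 21, 20, 22, 21, 20, 19, 21, 20, 19, 18, 21, 20, 19, 18, 20, 19, 18, 17, 19, 18, 17, 16, 18, 17, 16, 15, 19, 18, 17, 16, 18, 17, 16, 15, 17, 16, 15, 14, 17, 16, 15, 14, 16, 15, 14, 13, 15, 14, 13, 12, 16, 15, 14, 13, 15, 14, 13, 12, 14, 13, 12, 11, 14, 13, 12, 11, 13, 12, 11, 10, 12, 11, 10, 9, 13, 12, 11, 10, 12, 11, 10, 9, 11, 10, 9, 8, 10, 9, 8, 7, 10, 9, 8, 7, 9, 8, 7, 6, 8, 7, 6, 5, 7, 6, 5, 4, 6, 5, 4, 3, 3, 2, 1, 0]) q * psum (Ppos fdE8) (PhiS fdE8 fxE8 e8c2A [239]) (GS fdE8 fxE8 e8c2A [239]) q := t0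
  have t1 := lev_step cert12_E8 e8c2A [239] hL1 e8c2PP1 e8c2PP2 e8c2Lev1
    h1 e8c2_PP2 e8c2_chk1 e8c2_nd1 q
  have h2 : e8c2PP2 = posPhi fdE8 fxE8 e8c2A [226, 239] := by
    rw [e8c2_PP2, h1]; exact (posPhi_cons _ _ _).symm
  have e1 : (e8c2Lev1.orb.map fun e => q ^ lenW fdE8 fxE8 e8c2PP1 e.2).sum = evalN (histL [16, 15, 14, 13, 12, 14, 13, 12, 13, 12, 11, 12, 11, 10, 11, 10, 9, 12, 11, 10, 11, 10, 9, 10, 9, 8, 10, 9, 8, 9, 8, 7, 8, 7, 6, 10, 9, 8, 9, 8, 7, 8, 7, 6, 8, 7, 6, 7, 6, 5, 6, 5, 4, 7, 6, 5, 6, 5, 4, 5, 4, 3, 4, 3, 2, 4, 3, 2, 1, 0]) q := by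
    rw [evalN_histL, ← e8c2_len1, List.map_map]; rfl
  rw [e1] at t1
  have s1 : psum (Ppos fdE8) (PhiS fdE8 fxE8 e8c2A [239]) (GS fdE8 fxE8 e8c2A [239]) q =
      evalN (histL [16, 15, 14, 13, 12, 14, 13, 12, 13, 12, 11, 12, 11, 10, 11, 10, 9, 12, 11, 10, 11, 10, 9, 10, 9, 8, 10, 9, 8, 9, 8, 7, 8, 7, 6, 10, 9, 8, 9, 8, 7, 8, 7, 6, 8, 7, 6, 7, 6, 5, 6, 5, 4, 7, 6, 5, 6, 5, 4, 5, 4, 3, 4, 3, 2, 4, 3, 2, 1, 0]) q * psum (Ppos fdE8) (PhiS fdE8 fxE8 e8c2A [226, 239]) (GS fdE8 fxE8 e8c2A [226, 239]) q := t1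
  have t2 := lev_step cert12_E8 e8c2A [226, 239] hL2 e8c2PP2 e8c2PP3 e8c2Lev2
    h2 e8c2_PP3 e8c2_chk2 e8c2_nd2 q
  have h3 : e8c2PP3 = posPhi fdE8 fxE8 e8c2A [154, 226, 239] := by
    rw [e8c2_PP3, h2]; exact (posPhi_cons _ _ _).symm
  have e2 : (e8c2Lev2.orb.map fun e => q ^ lenW fdE8 fxE8 e8c2PP2 e.2).sum = evalN (histL [8, 7, 6, 7, 6, 5, 6, 5, 4, 6, 5, 4, 5, 4, 3, 4, 3, 2, 6, 5, 4, 5, 4, 3, 4, 3, 2, 4, 3, 2, 3, 2, 1, 2, 1, 0]) q := by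
    rw [evalN_histL, ← e8c2_len2, List.map_map]; rfl
  rw [e2] at t2
  have s2 : psum (Ppos fdE8) (PhiS fdE8 fxE8 e8c2A [226, 239]) (GS fdE8 fxE8 e8c2A [226, 239]) q =
      evalN (histL [8, 7, 6, 7, 6, 5, 6, 5, 4, 6, 5, 4, 5, 4, 3, 4, 3, 2, 6, 5, 4, 5, 4, 3, 4, 3, 2, 4, 3, 2, 3, 2, 1, 2, 1, 0]) q * psum (Ppos fdE8) (PhiS fdE8 fxE8 e8c2A [154, 226, 239]) (GS fdE8 fxE8 e8c2A [154, 226, 239]) q := t2
  have t3 := lev_step cert12_E8 e8c2A [154, 226, 239] hL3 e8c2PP3 e8c2PP4 e8c2Lev3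
    h3 e8c2_PP4 e8c2_chk3 e8c2_nd3 q
  have h4 : e8c2PP4 = posPhi fdE8 fxE8 e8c2A [8, 154, 226, 239] := by
    rw [e8c2_PP4, h3]; exact (posPhi_cons _ _ _).symm
  have e3 : (e8c2Lev3.orb.map fun e => q ^ lenW fdE8 fxE8 e8c2PP3 e.2).sum = evalN (histL [2, 1, 1, 0]) q := by
    rw [evalN_histL, ← e8c2_len3, List.map_map]; rfl
  rw [e3] at t3
  have s3 : psum (Ppos fdE8) (PhiS fdE8 fxE8 e8c2A [154, 226, 239]) (GS fdE8 fxE8 e8c2A [154, 226, 239]) q =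
      evalN (histL [2, 1, 1, 0]) q * psum (Ppos fdE8) (PhiS fdE8 fxE8 e8c2A [8, 154, 226, 239]) (GS fdE8 fxE8 e8c2A [8, 154, 226, 239]) q := t3
  have t4 := lev_step cert12_E8 e8c2A [8, 154, 226, 239] hL4 e8c2PP4 e8c2PP5 e8c2Lev4
    h4 e8c2_PP5 e8c2_chk4 e8c2_nd4 q
  have h5 : e8c2PP5 = posPhi fdE8 fxE8 e8c2A [11, 8, 154, 226, 239] := by
    rw [e8c2_PP5, h4]; exact (posPhi_cons _ _ _).symm
  have e4 : (e8c2Lev4.orb.map fun e => q ^ lenW fdE8 fxE8 e8c2PP4 e.2).sum = evalN (histL [2, 1, 1, 0]) q := by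
    rw [evalN_histL, ← e8c2_len4, List.map_map]; rfl
  rw [e4] at t4
  have s4 : psum (Ppos fdE8) (PhiS fdE8 fxE8 e8c2A [8, 154, 226, 239]) (GS fdE8 fxE8 e8c2A [8, 154, 226, 239]) q =
      evalN (histL [2, 1, 1, 0]) q * psum (Ppos fdE8) (PhiS fdE8 fxE8 e8c2A [11, 8, 154, 226, 239]) (GS fdE8 fxE8 e8c2A [11, 8, 154, 226, 239]) q := t4
  have t5 := lev_step cert12_E8 e8c2A [11, 8, 154, 226, 239] hL5 e8c2PP5 e8c2PP6 e8c2Lev5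
    h5 e8c2_PP6 e8c2_chk5 e8c2_nd5 q
  have h6 : e8c2PP6 = posPhi fdE8 fxE8 e8c2A [1, 11, 8, 154, 226, 239] := by
    rw [e8c2_PP6, h5]; exact (posPhi_cons _ _ _).symm
  have e5 : (e8c2Lev5.orb.map fun e => q ^ lenW fdE8 fxE8 e8c2PP5 e.2).sum = evalN (histL [0]) q := by
    rw [evalN_histL, ← e8c2_len5, List.map_map]; rfl
  rw [e5] at t5
  have s5 : psum (Ppos fdE8) (PhiS fdE8 fxE8 e8c2A [11, 8, 154, 226, 239]) (GS fdE8 fxE8 e8c2A [11, 8, 154, 226, 239]) q =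
      evalN (histL [0]) q * psum (Ppos fdE8) (PhiS fdE8 fxE8 e8c2A [1, 11, 8, 154, 226, 239]) (GS fdE8 fxE8 e8c2A [1, 11, 8, 154, 226, 239]) q := t5
  have t6 := lev_step cert12_E8 e8c2A [1, 11, 8, 154, 226, 239] hL6 e8c2PP6 e8c2PP7 e8c2Lev6
    h6 e8c2_PP7 e8c2_chk6 e8c2_nd6 q
  have h7 : e8c2PP7 = posPhi fdE8 fxE8 e8c2A [14, 1, 11, 8, 154, 226, 239] := by
    rw [e8c2_PP7, h6]; exact (posPhi_cons _ _ _).symm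
  have e6 : (e8c2Lev6.orb.map fun e => q ^ lenW fdE8 fxE8 e8c2PP6 e.2).sum = evalN (histL [0]) q := by
    rw [evalN_histL, ← e8c2_len6, List.map_map]; rfl
  rw [e6] at t6
  have s6 : psum (Ppos fdE8) (PhiS fdE8 fxE8 e8c2A [1, 11, 8, 154, 226, 239]) (GS fdE8 fxE8 e8c2A [1, 11, 8, 154, 226, 239]) q =
      evalN (histL [0]) q * psum (Ppos fdE8) (PhiS fdE8 fxE8 e8c2A [14, 1, 11, 8, 154, 226, 239]) (GS fdE8 fxE8 e8c2A [14, 1, 11, 8, 154, 226, 239]) q := t6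
  have t7 := lev_step cert12_E8 e8c2A [14, 1, 11, 8, 154, 226, 239] hL7 e8c2PP7 e8c2PP8 e8c2Lev7
    h7 e8c2_PP8 e8c2_chk7 e8c2_nd7 q
  have h8 : e8c2PP8 = posPhi fdE8 fxE8 e8c2A [3, 14, 1, 11, 8, 154, 226, 239] := by
    rw [e8c2_PP8, h7]; exact (posPhi_cons _ _ _).symm
  have e7 : (e8c2Lev7.orb.map fun e => q ^ lenW fdE8 fxE8 e8c2PP7 e.2).sum = evalN (histL [0]) q := by
    rw [evalN_histL, ← e8c2_len7, List.map_map]; rfl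
  rw [e7] at t7
  have s7 : psum (Ppos fdE8) (PhiS fdE8 fxE8 e8c2A [14, 1, 11, 8, 154, 226, 239]) (GS fdE8 fxE8 e8c2A [14, 1, 11, 8, 154, 226, 239]) q =
      evalN (histL [0]) q * psum (Ppos fdE8) (PhiS fdE8 fxE8 e8c2A [3, 14, 1, 11, 8, 154, 226, 239]) (GS fdE8 fxE8 e8c2A [3, 14, 1, 11, 8, 154, 226, 239]) q := t7
  have fin := psum_final cert12_E8 e8c2A [3, 14, 1, 11, 8, 154, 226, 239] hL8 e8c2_inj q
  rw [s0, s1, s2, s3, s4, s5, s6, s7, fin, mul_one]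
  simp only [← evalN_mulN]
  exact congrArg (fun p => evalN p q) e8c2_poly

end Cfsg.Agent.Lib.H13.WChain
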