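import Mathlib
import Cfsg.Prelude.Def_ChevStructure
import Cfsg.Agent.Lib.H13.E8OddDefs
import Cfsg.Agent.Lib.H13.WChainE
import Cfsg.Agent.Lib.H13.WChainE8S
import Cfsg.Agent.Lib.H29.ChevDiagOrd

/-!
# The orders of the centralisers of the involutions `zS`, `zT` of `E8(q)`, `q` odd
-/

set_option autoImplicit false
set_option linter.unusedSectionVars false
set_option linter.unusedSimpArgs false
set_option linter.unusedVariables false

namespace Cfsg.Agent.Lib.H13.E8Odd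

open Cfsg.Lie Matrix Cfsg.Agent.Lib.H29.Chev Cfsg.Agent.Lib.H13.WChain

variable (F : Type*) [Field F]

theorem dE_hm (s r : ℕ) (hr : r < 240) : dE chevE8 (hm F s) r = (-1 : F) ^ fdE8.pr r s :=
  dE_TdG_hExp cert12_E8 s r hr _ _

/-- a functional only matters through its first `l` coefficients -/
theorem omr_congr (a b : ℕ → ℤ) (h : ∀ j < fdE8.l, a j = b j) (r : ℕ) : fdE8.omr fxE8 a r = fdE8.omr fxE8 b r := by
  unfold FD.omr
  rw [listsum_eq, listsum_eq]
  apply Finset.sum_congr rfl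
  intro j hj
  rw [h j (Finset.mem_range.mp hj)]

theorem e8c1A_eq : ∀ j < fdE8.l, fdE8.prs 120 j = e8c1A j := by decide +kernel

theorem e8c2A_eq : ∀ j < fdE8.l, (fdE8.prs 123 + fdE8.prs 120) j = e8c2A j := by decide +kernel

theorem dE_zT (r : ℕ) (hr : r < fdE8.n) : dE chevE8 (zT F) r = (-1 : F) ^ fdE8.omr fxE8 e8c1A r := by
  unfold zT
  rw [dE_hm F 120 r hr, fdE8.pr_lin cert12_E8.c6.c2.chk.lin r 120 hr, omr_congr _ _ e8c1A_eq]

theorem dE_zS (r : ℕ) (hr : r < fdE8.n) : dE chevE8 (zS F) r = (-1 : F) ^ fdE8.omr fxE8 e8c2A r := by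
  unfold zS
  rw [cert12_E8.dE_mul _ _ (hm_mem F 123 (by norm_num)) (hm_mem F 120 (by norm_num)) r hr,
    dE_hm F 123 r hr, dE_hm F 120 r hr, ← zpow_add₀ (neg_ne_zero.mpr one_ne_zero),
    fdE8.pr_lin cert12_E8.c6.c2.chk.lin r 123 hr, fdE8.pr_lin cert12_E8.c6.c2.chk.lin r 120 hr,
    ← fdE8.omr_add, omr_congr _ _ e8c2A_eq]

theorem e8c1_len0 : (posPhi fdE8 fxE8 e8c1A []).length = 64 := by rw [← e8c1_PP0]; rfl

theorem e8c2_len0 : (posPhi fdE8 fxE8 e8c2A []).length = 56 := by rw [← e8c2_PP0]; rfl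

/-- the order of the centraliser of `zT` (type `A₁E₇`) -/
theorem card_cent_zT [Finite F] (h2 : (-1 : F) ≠ 1) :
    Nat.card (Subgroup.centralizer ({(⟨zT F, cert12_E8.c6.c2.diag_le_group (zT_mem F)⟩ : chevE8.group F)} :
      Set (chevE8.group F))) =
      Nat.card F ^ 64 * (([2, 2, 6, 8, 10, 12, 14, 18] : List ℕ).map fun d => Nat.card F ^ d - 1).prod :=
  card_centralizer_of_psum cert12_E8 e8c1A (zT F) (dE_zT F) h2 (zT_mem F) _ 64 e8c1_len0 card_diag_E8 e8c1_psum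

/-- the order of the centraliser of `zS` (type `D₈`) -/
theorem card_cent_zS [Finite F] (h2 : (-1 : F) ≠ 1) :
    Nat.card (Subgroup.centralizer ({(⟨zS F, cert12_E8.c6.c2.diag_le_group (zS_mem F)⟩ : chevE8.group F)} :
      Set (chevE8.group F))) =
      Nat.card F ^ 56 * (([8, 2, 4, 6, 8, 10, 12, 14] : List ℕ).map fun d => Nat.card F ^ d - 1).prod :=
  card_centralizer_of_psum cert12_E8 e8c2A (zS F) (dE_zS F) h2 (zS_mem F) _ 56 e8c2_len0 card_diag_E8 e8c2_psum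

end Cfsg.Agent.Lib.H13.E8Odd
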