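import Mathlib

set_option autoImplicit false

namespace Cfsg.Agent.Lib.H13

open Module

section general
variable {K V : Type*} [Field K] [AddCommGroup V] [Module K V] [FiniteDimensional K V]

theorem finrank_ker_comp_le (f g : V →ₗ[K] V) :
    finrank K (LinearMap.ker (f ∘ₗ g)) ≤ finrank K (LinearMap.ker g) + finrank K (LinearMap.ker f) := by
  set p := LinearMap.ker (f ∘ₗ g) with hp
  let g' : p →ₗ[K] LinearMap.ker f := LinearMap.codRestrict _ (g.domRestrict p) (fun x => by
    have : (x : V) ∈ LinearMap.ker (f ∘ₗ g) := x.2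
    rw [LinearMap.mem_ker, LinearMap.comp_apply] at this
    rw [LinearMap.mem_ker, LinearMap.domRestrict_apply]
    exact this)
  have h1 := LinearMap.finrank_range_add_finrank_ker g'
  have h2 : finrank K (LinearMap.range g') ≤ finrank K (LinearMap.ker f) := Submodule.finrank_le _
  have h3 : finrank K (LinearMap.ker g') ≤ finrank K (LinearMap.ker g) := by
    let j : LinearMap.ker g' →ₗ[K] LinearMap.ker g :=
      LinearMap.codRestrict _ (p.subtype ∘ₗ (LinearMap.ker g').subtype) (fun x => by
        have hx := x.2
        rw [LinearMap.mem_ker] at hx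
        have : (g' x.1 : V) = 0 := by rw [hx]; rfl
        rw [LinearMap.mem_ker]
        exact this)
    have hj : Function.Injective j := by
      intro x y hxy
      have : ((j x : LinearMap.ker g) : V) = (j y : LinearMap.ker g) := by rw [hxy]
      apply Subtype.ext
      apply Subtype.ext
      exact this
    exact LinearMap.finrank_le_finrank_of_injective hj
  omega

theorem finrank_ker_pow_le (N : Module.End K V) (k : ℕ) :
    finrank K (LinearMap.ker (N ^ k)) ≤ k * finrank K (LinearMap.ker N) := by
  induction k with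
  | zero =>
    simp only [zero_mul, Nat.le_zero]
    have : LinearMap.ker (N ^ 0) = ⊥ := by
      ext x; simp
    rw [this]; simp
  | succ k ih =>
    rw [pow_succ]
    have := finrank_ker_comp_le (N ^ k) N
    have h2 : (N ^ k) * N = (N ^ k) ∘ₗ N := rfl
    rw [h2]
    calc finrank K (LinearMap.ker ((N ^ k) ∘ₗ N)) ≤ finrank K (LinearMap.ker N) + finrank K (LinearMap.ker (N ^ k)) := this
      _ ≤ finrank K (LinearMap.ker N) + k * finrank K (LinearMap.ker N) := by omega
      _ = (k + 1) * finrank K (LinearMap.ker N) := by ring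

/-- For a nilpotent endomorphism with one-dimensional (or zero) kernel the kernels of the powers
have the expected dimensions. -/
theorem finrank_ker_pow_eq (N : Module.End K V) (hker : finrank K (LinearMap.ker N) ≤ 1)
    (hnil : N ^ (finrank K V) = 0) (k : ℕ) (hk : k ≤ finrank K V) :
    finrank K (LinearMap.ker (N ^ k)) = k := by
  set n := finrank K V with hn
  have hle : ∀ j, finrank K (LinearMap.ker (N ^ j)) ≤ j := by
    intro j
    have := finrank_ker_pow_le N j
    calc finrank K (LinearMap.ker (N ^ j)) ≤ j * finrank K (LinearMap.ker N) := this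
      _ ≤ j * 1 := Nat.mul_le_mul_left _ hker
      _ = j := by ring
  apply le_antisymm (hle k)
  have htop : finrank K (LinearMap.ker (N ^ n)) = n := by
    rw [hnil, LinearMap.ker_zero, finrank_top]
  have hsplit : N ^ n = (N ^ (n - k)) ∘ₗ (N ^ k) := by
    have : n = (n - k) + k := by omega
    conv_lhs => rw [this, pow_add]
    rfl
  have := finrank_ker_comp_le (N ^ (n - k)) (N ^ k)
  rw [← hsplit, htop] at this
  have h2 := hle (n - k)
  omega

/-- An invariant subspace of a regular nilpotent endomorphism is the kernel of a power. -/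
theorem invariant_eq_ker_pow (N : Module.End K V) (hker : finrank K (LinearMap.ker N) ≤ 1)
    (hnil : N ^ (finrank K V) = 0) (W : Submodule K V) (hW : ∀ v ∈ W, N v ∈ W) :
    W = LinearMap.ker (N ^ (finrank K W)) := by
  have hle : W ≤ LinearMap.ker (N ^ (finrank K W)) := by
    -- restriction is nilpotent
    set N' : Module.End K W := N.restrict hW with hN'
    have h1 : N' ^ (finrank K V) = 0 := by
      rw [hN', Module.End.pow_restrict]
      ext x
      simp [hnil]
    have h2 : LinearMap.ker (N' ^ (finrank K V)) ≤ LinearMap.ker (N' ^ (finrank K W)) :=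
      Module.End.ker_pow_le_ker_pow_finrank N' _
    rw [h1, LinearMap.ker_zero, top_le_iff] at h2
    intro w hw
    have h3 : (⟨w, hw⟩ : W) ∈ LinearMap.ker (N' ^ (finrank K W)) := by rw [h2]; trivial
    rw [LinearMap.mem_ker, hN', Module.End.pow_restrict] at h3
    rw [LinearMap.mem_ker]
    have := congrArg Subtype.val h3
    simpa using this
  apply Submodule.eq_of_le_of_finrank_eq hle
  rw [finrank_ker_pow_eq N hker hnil _ (Submodule.finrank_le W)]

end general

section matrix
variable {F : Type*} [Field F] {ι : Type*} [Fintype ι] [DecidableEq ι]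

theorem mulVecLin_pow' (M : Matrix ι ι F) (k : ℕ) :
    (Matrix.mulVecLin M : Module.End F (ι → F)) ^ k = Matrix.mulVecLin (M ^ k) := by
  induction k with
  | zero => simp [Module.End.one_eq_id]
  | succ k ih =>
    rw [pow_succ, pow_succ, ih, Matrix.mulVecLin_mul]
    rfl

theorem finrank_ker_of_rank' (M : Matrix ι ι F) (h : M.rank = Fintype.card ι - 1) :
    finrank F (LinearMap.ker (Matrix.mulVecLin M)) ≤ 1 := by
  have h1 := LinearMap.finrank_range_add_finrank_ker (Matrix.mulVecLin M)
  have h2 : finrank F (LinearMap.range (Matrix.mulVecLin M)) = Fintype.card ι - 1 := h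
  have h3 : finrank F (ι → F) = Fintype.card ι := by simp
  omega

/-- invariant subspaces of a regular nilpotent matrix -/
theorem regular_invariant' (M : Matrix ι ι F) (hnil : M ^ (Fintype.card ι) = 0) (hreg : M.rank = Fintype.card ι - 1)
    (W : Submodule F (ι → F)) (hW : ∀ v ∈ W, M.mulVec v ∈ W) :
    W = LinearMap.ker (Matrix.mulVecLin (M ^ finrank F W)) := by
  have h3 : finrank F (ι → F) = Fintype.card ι := by simp
  have := invariant_eq_ker_pow (Matrix.mulVecLin M : Module.End F (ι → F)) (finrank_ker_of_rank' M hreg)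
    (by rw [h3, mulVecLin_pow', hnil]; simp) W (by simpa using hW)
  rw [mulVecLin_pow'] at this
  exact this

theorem regular_finrank_ker_pow' (M : Matrix ι ι F) (hnil : M ^ (Fintype.card ι) = 0) (hreg : M.rank = Fintype.card ι - 1)
    (k : ℕ) (hk : k ≤ Fintype.card ι) :
    finrank F (LinearMap.ker (Matrix.mulVecLin (M ^ k))) = k := by
  have h3 : finrank F (ι → F) = Fintype.card ι := by simp
  have := finrank_ker_pow_eq (Matrix.mulVecLin M : Module.End F (ι → F)) (finrank_ker_of_rank' M hreg)
    (by rw [h3, mulVecLin_pow', hnil]; simp) k (by rw [h3]; exact hk)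
  rw [mulVecLin_pow'] at this
  exact this

/-- for a regular nilpotent matrix, `ker M^k = range M^(n-k)` -/
theorem regular_ker_eq_range (M : Matrix ι ι F) (hnil : M ^ (Fintype.card ι) = 0) (hreg : M.rank = Fintype.card ι - 1)
    (k : ℕ) (hk : k ≤ Fintype.card ι) :
    LinearMap.ker (Matrix.mulVecLin (M ^ k)) = LinearMap.range (Matrix.mulVecLin (M ^ (Fintype.card ι - k))) := by
  symm
  apply Submodule.eq_of_le_of_finrank_eq
  · rintro _ ⟨x, rfl⟩
    rw [LinearMap.mem_ker, Matrix.mulVecLin_apply, Matrix.mulVecLin_apply, Matrix.mulVec_mulVec, ← pow_add]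
    have : k + (Fintype.card ι - k) = Fintype.card ι := by omega
    rw [this, hnil, Matrix.zero_mulVec]
  · have h1 := LinearMap.finrank_range_add_finrank_ker (Matrix.mulVecLin (M ^ (Fintype.card ι - k)))
    rw [regular_finrank_ker_pow' M hnil hreg _ (Nat.sub_le _ _)] at h1
    rw [regular_finrank_ker_pow' M hnil hreg k hk]
    have h3 : finrank F (ι → F) = Fintype.card ι := by simp
    omega

end matrix

section matrixFin
variable {F : Type*} [Field F] {n : ℕ}

theorem regular_invariant (M : Matrix (Fin n) (Fin n) F) (hnil : M ^ n = 0) (hreg : M.rank = n - 1)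
    (W : Submodule F (Fin n → F)) (hW : ∀ v ∈ W, M.mulVec v ∈ W) :
    W = LinearMap.ker (Matrix.mulVecLin (M ^ finrank F W)) :=
  regular_invariant' M (by simpa using hnil) (by simpa using hreg) W hW

theorem regular_finrank_ker_pow (M : Matrix (Fin n) (Fin n) F) (hnil : M ^ n = 0) (hreg : M.rank = n - 1)
    (k : ℕ) (hk : k ≤ n) :
    finrank F (LinearMap.ker (Matrix.mulVecLin (M ^ k))) = k :=
  regular_finrank_ker_pow' M (by simpa using hnil) (by simpa using hreg) k (by simpa using hk)

end matrixFin

end Cfsg.Agent.Lib.H13
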