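import Mathlib
import Cfsg.Agent.Lib.H13.RegUnip

set_option autoImplicit false

/-! Polynomials in a regular nilpotent matrix, over an arbitrary finite index type. -/

namespace Cfsg.Agent.Lib.H13

open Matrix Module

section
variable {F : Type*} [Field F] {ι : Type*} [Fintype ι] [DecidableEq ι] {n : ℕ}

/-- the polynomial `∑ a_i N^i` -/
def phiG (N : Matrix ι ι F) (a : Fin n → F) : Matrix ι ι F :=
  ∑ i : Fin n, a i • N ^ (i : ℕ)

theorem phiG_commute (N : Matrix ι ι F) (a : Fin n → F) (A : Matrix ι ι F)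
    (hA : Commute A N) : Commute A (phiG N a) := by
  unfold phiG
  apply Commute.sum_right
  intro i _
  exact (hA.pow_right _).smul_right _

theorem phiG_commute_phiG (N : Matrix ι ι F) (a b : Fin n → F) :
    Commute (phiG N a) (phiG N b) :=
  phiG_commute N b (phiG N a) (phiG_commute N a N (Commute.refl N)).symm

theorem phiG_add (N : Matrix ι ι F) (a b : Fin n → F) :
    phiG N (a + b) = phiG N a + phiG N b := by
  unfold phiG
  rw [← Finset.sum_add_distrib]
  apply Finset.sum_congr rfl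
  intro i _
  rw [Pi.add_apply, add_smul]

theorem phiG_smul (N : Matrix ι ι F) (c : F) (a : Fin n → F) :
    phiG N (c • a) = c • phiG N a := by
  unfold phiG
  rw [Finset.smul_sum]
  apply Finset.sum_congr rfl
  intro i _
  rw [Pi.smul_apply, smul_eq_mul, mul_smul]

theorem phiG_neg (N : Matrix ι ι F) (a : Fin n → F) :
    phiG N (-a) = -phiG N a := by
  have := phiG_smul N (-1 : F) a
  rwa [neg_one_smul, neg_one_smul] at this

theorem phiG_sub (N : Matrix ι ι F) (a b : Fin n → F) :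
    phiG N (a - b) = phiG N a - phiG N b := by
  rw [sub_eq_add_neg, phiG_add, phiG_neg, sub_eq_add_neg]

theorem phiG_mulVec (N : Matrix ι ι F) (a : Fin n → F) (v : ι → F) :
    phiG N a *ᵥ v = ∑ i : Fin n, a i • (N ^ (i : ℕ) *ᵥ v) := by
  unfold phiG
  rw [Matrix.sum_mulVec]
  apply Finset.sum_congr rfl
  intro i _
  rw [Matrix.smul_mulVec]

theorem phiG_inj_aux (N : Matrix ι ι F) (hnil : N ^ n = 0) (v : ι → F)
    (hv : N ^ (n - 1) *ᵥ v ≠ 0) (a : Fin n → F) (h : phiG N a *ᵥ v = 0) : a = 0 := by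
  by_contra hne
  have hex : ∃ j, a j ≠ 0 := by
    by_contra h'
    push Not at h'
    exact hne (funext h')
  obtain ⟨j, hj, hmin⟩ := wellFounded_lt.has_min {j | a j ≠ 0} hex
  have hmin' : ∀ i < j, a i = 0 := by
    intro i hi
    by_contra h0
    exact hmin i h0 hi
  have h1 : N ^ (n - 1 - (j : ℕ)) *ᵥ (phiG N a *ᵥ v) = a j • (N ^ (n - 1) *ᵥ v) := by
    rw [phiG_mulVec, Matrix.mulVec_sum]
    rw [Finset.sum_eq_single j]
    · rw [Matrix.mulVec_smul, Matrix.mulVec_mulVec, ← pow_add]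
      congr 3
      have := j.2
      omega
    · intro i _ hij
      rw [Matrix.mulVec_smul, Matrix.mulVec_mulVec, ← pow_add]
      rcases lt_or_gt_of_ne hij with hlt | hgt
      · rw [hmin' i hlt, zero_smul]
      · have hge : n ≤ n - 1 - (j : ℕ) + (i : ℕ) := by
          have := j.2
          have : (j : ℕ) < (i : ℕ) := hgt
          omega
        have : N ^ (n - 1 - (j : ℕ) + (i : ℕ)) = 0 := by
          obtain ⟨d, hd⟩ := Nat.exists_eq_add_of_le hge
          rw [hd, pow_add, hnil, zero_mul]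
        rw [this, Matrix.zero_mulVec, smul_zero]
    · intro hj'
      exact absurd (Finset.mem_univ j) hj'
  rw [h, Matrix.mulVec_zero] at h1
  rcases smul_eq_zero.mp h1.symm with h2 | h2
  · exact hj h2
  · exact hv h2

/-- the linear map `a ↦ (∑ a_i N^i) v` -/
def PhiLG (N : Matrix ι ι F) (v : ι → F) : (Fin n → F) →ₗ[F] (ι → F) where
  toFun a := phiG N a *ᵥ v
  map_add' a b := by
    rw [phiG_add, Matrix.add_mulVec]
  map_smul' c a := by
    rw [phiG_smul, Matrix.smul_mulVec, RingHom.id_apply]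

theorem PhiLG_bij (hcard : Fintype.card ι = n) (N : Matrix ι ι F) (hnil : N ^ n = 0) (v : ι → F)
    (hv : N ^ (n - 1) *ᵥ v ≠ 0) : Function.Bijective (PhiLG (n := n) N v) := by
  have hinj : Function.Injective (PhiLG (n := n) N v) := by
    rw [← LinearMap.ker_eq_bot, LinearMap.ker_eq_bot']
    intro a ha
    exact phiG_inj_aux N hnil v hv a ha
  have hfr : finrank F (Fin n → F) = finrank F (ι → F) := by
    rw [Module.finrank_fin_fun, Module.finrank_fintype_fun_eq_card, hcard]
  exact ⟨hinj, (LinearMap.injective_iff_surjective_of_finrank_eq_finrank hfr).mp hinj⟩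

theorem phiG_injective (hcard : Fintype.card ι = n) (N : Matrix ι ι F) (hnil : N ^ n = 0) (v : ι → F)
    (hv : N ^ (n - 1) *ᵥ v ≠ 0) : Function.Injective (phiG (n := n) N) := by
  intro a b hab
  apply (PhiLG_bij hcard N hnil v hv).1
  show phiG N a *ᵥ v = phiG N b *ᵥ v
  rw [hab]

theorem commutantG_eq (hcard : Fintype.card ι = n) (N : Matrix ι ι F) (hnil : N ^ n = 0) (v : ι → F)
    (hv : N ^ (n - 1) *ᵥ v ≠ 0) (A : Matrix ι ι F) (hA : Commute A N) :
    ∃ a : Fin n → F, A = phiG N a := by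
  obtain ⟨a, ha⟩ := (PhiLG_bij hcard N hnil v hv).2 (A *ᵥ v)
  refine ⟨a, ?_⟩
  have ha' : phiG N a *ᵥ v = A *ᵥ v := ha
  apply Matrix.toLin'.injective
  apply LinearMap.ext
  intro w
  obtain ⟨b, hb⟩ := (PhiLG_bij hcard N hnil v hv).2 w
  have hb' : phiG N b *ᵥ v = w := hb
  rw [Matrix.toLin'_apply, Matrix.toLin'_apply, ← hb', Matrix.mulVec_mulVec, Matrix.mulVec_mulVec]
  have c1 : A * phiG N b = phiG N b * A := phiG_commute N b A hA
  have c2 : phiG N a * phiG N b = phiG N b * phiG N a := phiG_commute_phiG N a b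
  rw [c1, c2, ← Matrix.mulVec_mulVec, ← Matrix.mulVec_mulVec, ha']

theorem phiG_split (N : Matrix ι ι F) (hn : 1 ≤ n) (a : Fin n → F) :
    ∃ K, Commute N K ∧ phiG N a = a ⟨0, hn⟩ • 1 + N * K := by
  refine ⟨∑ i : Fin n, if (i : ℕ) = 0 then 0 else a i • N ^ ((i : ℕ) - 1), ?_, ?_⟩
  · apply Commute.sum_right
    intro i _
    split_ifs
    · exact Commute.zero_right _
    · exact ((Commute.refl N).pow_right _).smul_right _
  · unfold phiG
    rw [Finset.mul_sum]
    rw [← Finset.add_sum_erase _ _ (Finset.mem_univ (⟨0, hn⟩ : Fin n))]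
    rw [← Finset.add_sum_erase (f := fun i : Fin n => N * (if (i : ℕ) = 0 then 0 else a i • N ^ ((i : ℕ) - 1)))
      _ (Finset.mem_univ (⟨0, hn⟩ : Fin n))]
    simp only [pow_zero, if_true, mul_zero, zero_add]
    congr 1
    apply Finset.sum_congr rfl
    intro i hi
    have hi0 : (i : ℕ) ≠ 0 := by
      intro h0
      rw [Finset.mem_erase] at hi
      exact hi.1 (Fin.ext h0)
    rw [if_neg hi0, Matrix.mul_smul, ← pow_succ']
    congr 2
    omega

theorem phiG_isUnit_iff [Nonempty ι] (N : Matrix ι ι F) (hnil : N ^ n = 0) (hn : 1 ≤ n)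
    (a : Fin n → F) : IsUnit (phiG N a) ↔ a ⟨0, hn⟩ ≠ 0 := by
  obtain ⟨K, hK, hsplit⟩ := phiG_split N hn a
  have hnilNK : IsNilpotent (N * K) := ⟨n, by rw [hK.mul_pow, hnil, zero_mul]⟩
  constructor
  · intro hu h0
    rw [hsplit, h0, zero_smul, zero_add] at hu
    haveI : Nontrivial (Matrix ι ι F) := inferInstance
    exact hu.not_isNilpotent hnilNK
  · intro h0
    rw [hsplit]
    apply hnilNK.isUnit_add_left_of_commute
    · rw [← Algebra.algebraMap_eq_smul_one]
      exact (algebraMap F (Matrix ι ι F)).isUnit_map (IsUnit.mk0 _ h0)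
    · exact (Commute.one_right _).smul_right _

end

end Cfsg.Agent.Lib.H13
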