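import Mathlib
import Cfsg.Agent.Lib.H13.RegNil

set_option autoImplicit false

namespace Cfsg.Agent.Lib.H13

open Matrix

theorem two_ne_zero_of_odd_card {F : Type*} [Field F] [Fintype F] (hq : Odd (Fintype.card F)) :
    (2 : F) ≠ 0 := by
  intro h
  have hchar : ringChar F = 2 := by
    have hdvd : ringChar F ∣ 2 := by
      have := (ringChar.spec F 2).mp (by exact_mod_cast h)
      exact this
    rcases (Nat.dvd_prime Nat.prime_two).mp hdvd with h1 | h1
    · exfalso
      have := CharP.ringChar_ne_one (R := F)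
      exact this h1
    · exact h1
  have := FiniteField.even_card_of_char_two hchar
  rcases hq with ⟨k, hk⟩
  omega

section sstar
variable {F : Type*} [Field F] {l : Type*} [Fintype l] [DecidableEq l]

/-- the adjoint with respect to the standard symplectic form -/
def sstar (X : Matrix (l ⊕ l) (l ⊕ l) F) : Matrix (l ⊕ l) (l ⊕ l) F := (-J l F) * Xᵀ * J l F

theorem J_mul_negJ : J l F * (-J l F) = 1 := by
  rw [mul_neg, J_squared, neg_neg]

theorem negJ_mul_J : (-J l F) * J l F = 1 := by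
  rw [neg_mul, J_squared, neg_neg]

theorem sstar_mul (X Y : Matrix (l ⊕ l) (l ⊕ l) F) : sstar (X * Y) = sstar Y * sstar X := by
  unfold sstar
  rw [transpose_mul]
  have : (-J l F) * Yᵀ * J l F * ((-J l F) * Xᵀ * J l F)
      = (-J l F) * Yᵀ * (J l F * (-J l F)) * Xᵀ * J l F := by
    simp only [Matrix.mul_assoc]
  rw [this, J_mul_negJ, Matrix.mul_one]
  simp only [Matrix.mul_assoc]

/-- `sstar` as a linear map -/
def sstarL : Matrix (l ⊕ l) (l ⊕ l) F →ₗ[F] Matrix (l ⊕ l) (l ⊕ l) F where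
  toFun := sstar
  map_add' X Y := by
    unfold sstar
    rw [transpose_add, Matrix.mul_add, Matrix.add_mul]
  map_smul' a X := by
    unfold sstar
    rw [transpose_smul, Matrix.mul_smul, Matrix.smul_mul, RingHom.id_apply]

theorem sstarL_apply (X : Matrix (l ⊕ l) (l ⊕ l) F) : sstarL X = sstar X := rfl

theorem sstar_add (X Y : Matrix (l ⊕ l) (l ⊕ l) F) : sstar (X + Y) = sstar X + sstar Y :=
  sstarL.map_add X Y

theorem sstar_sub (X Y : Matrix (l ⊕ l) (l ⊕ l) F) : sstar (X - Y) = sstar X - sstar Y :=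
  sstarL.map_sub X Y

theorem sstar_neg (X : Matrix (l ⊕ l) (l ⊕ l) F) : sstar (-X) = -sstar X :=
  sstarL.map_neg X

theorem sstar_smul (a : F) (X : Matrix (l ⊕ l) (l ⊕ l) F) : sstar (a • X) = a • sstar X :=
  sstarL.map_smul a X

theorem sstar_zero : sstar (0 : Matrix (l ⊕ l) (l ⊕ l) F) = 0 :=
  sstarL.map_zero

theorem sstar_one : sstar (1 : Matrix (l ⊕ l) (l ⊕ l) F) = 1 := by
  unfold sstar
  rw [transpose_one, Matrix.mul_one, negJ_mul_J]

theorem sstar_sstar (X : Matrix (l ⊕ l) (l ⊕ l) F) : sstar (sstar X) = X := by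
  unfold sstar
  rw [transpose_mul, transpose_mul, transpose_transpose, transpose_neg, J_transpose, neg_neg]
  have : (-J l F) * ((-J l F) * (X * J l F)) * J l F
      = ((-J l F) * (-J l F)) * X * (J l F * J l F) := by
    simp only [Matrix.mul_assoc]
  rw [this, neg_mul_neg, J_squared]
  simp

theorem sstar_pow (X : Matrix (l ⊕ l) (l ⊕ l) F) (k : ℕ) : sstar (X ^ k) = (sstar X) ^ k := by
  induction k with
  | zero => rw [pow_zero, pow_zero, sstar_one]
  | succ k ih => rw [pow_succ, sstar_mul, ih, pow_succ']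

theorem sstar_injective : Function.Injective (sstar (F := F) (l := l)) := by
  intro X Y h
  rw [← sstar_sstar X, h, sstar_sstar]

theorem mem_symplectic_iff (g : Matrix (l ⊕ l) (l ⊕ l) F) :
    g ∈ symplecticGroup l F ↔ g * sstar g = 1 := by
  rw [SymplecticGroup.mem_iff]
  unfold sstar
  constructor
  · intro h
    have : g * ((-J l F) * gᵀ * J l F) = -(g * J l F * gᵀ) * J l F := by
      simp only [Matrix.mul_assoc, Matrix.neg_mul, Matrix.mul_neg]
    rw [this, h, negJ_mul_J]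
  · intro h
    have h1 : g * ((-J l F) * gᵀ * J l F) * (-J l F) = g * (-J l F) * gᵀ := by
      have : g * ((-J l F) * gᵀ * J l F) * (-J l F) = g * (-J l F) * gᵀ * (J l F * (-J l F)) := by
        simp only [Matrix.mul_assoc]
      rw [this, J_mul_negJ, Matrix.mul_one]
    rw [h, Matrix.one_mul] at h1
    have h2 : g * J l F * gᵀ = -(g * (-J l F) * gᵀ) := by
      simp only [Matrix.mul_neg, Matrix.neg_mul, neg_neg]
    rw [h2, ← h1, neg_neg]

theorem sstar_mul_self_of_mul_sstar {g : Matrix (l ⊕ l) (l ⊕ l) F} (h : g * sstar g = 1) :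
    sstar g * g = 1 :=
  mul_eq_one_comm.mp h

theorem commute_sstar_of_commute {g u : Matrix (l ⊕ l) (l ⊕ l) F} (hu : u * sstar u = 1)
    (h : Commute g u) : Commute g (sstar u) := by
  have hu' := sstar_mul_self_of_mul_sstar hu
  -- g * u⁻¹ = u⁻¹ * (u * g) * u⁻¹ = u⁻¹ * g * u * u⁻¹
  show g * sstar u = sstar u * g
  calc g * sstar u = (sstar u * u) * g * sstar u := by rw [hu', Matrix.one_mul]
    _ = sstar u * (u * g) * sstar u := by simp only [Matrix.mul_assoc]
    _ = sstar u * (g * u) * sstar u := by rw [h.eq]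
    _ = sstar u * g * (u * sstar u) := by simp only [Matrix.mul_assoc]
    _ = sstar u * g := by rw [hu, Matrix.mul_one]

theorem sstar_commute {X Y : Matrix (l ⊕ l) (l ⊕ l) F} (h : Commute X Y) :
    Commute (sstar X) (sstar Y) := by
  show sstar X * sstar Y = sstar Y * sstar X
  rw [← sstar_mul, ← sstar_mul, h.eq]

end sstar


section skew
variable {F : Type*} [Field F] {l : Type*} [Fintype l] [DecidableEq l]

/-- a skew-adjoint regular nilpotent matrix together with a cyclic vector -/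
structure SkewReg (c : Matrix (l ⊕ l) (l ⊕ l) F) (n : ℕ) (v : l ⊕ l → F) : Prop where
  two_ne : (2 : F) ≠ 0
  card : Fintype.card (l ⊕ l) = n
  pos : 1 ≤ n
  star : sstar c = -c
  nil : c ^ n = 0
  cyc : c ^ (n - 1) *ᵥ v ≠ 0

variable {c : Matrix (l ⊕ l) (l ⊕ l) F} {n : ℕ} {v : l ⊕ l → F}

namespace SkewReg

/-- the socle vector -/
def v0 (_h : SkewReg c n v) : l ⊕ l → F := c ^ (n - 1) *ᵥ v

theorem v0_ne (h : SkewReg c n v) : h.v0 ≠ 0 := h.cyc

theorem c_v0 (h : SkewReg c n v) : c *ᵥ h.v0 = 0 := by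
  unfold v0
  rw [Matrix.mulVec_mulVec, ← pow_succ']
  have : n - 1 + 1 = n := Nat.sub_add_cancel h.pos
  rw [this, h.nil, Matrix.zero_mulVec]

theorem nonempty (h : SkewReg c n v) : Nonempty (l ⊕ l) := by
  rw [← Fintype.card_pos_iff, h.card]; exact h.pos

theorem smul_v0_inj (h : SkewReg c n v) {x y : F} (hxy : x • h.v0 = y • h.v0) : x = y := by
  by_contra hne
  have h1 : (x - y) • h.v0 = 0 := by rw [sub_smul, hxy, sub_self]
  rcases smul_eq_zero.mp h1 with h2 | h2
  · exact hne (sub_eq_zero.mp h2)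
  · exact h.v0_ne h2

theorem exists_coeff (h : SkewReg c n v) {g : Matrix (l ⊕ l) (l ⊕ l) F} (hg : Commute g c) :
    ∃ a : Fin n → F, g = phiG c a :=
  commutantG_eq h.card c h.nil v h.cyc g hg

theorem phiG_inj (h : SkewReg c n v) : Function.Injective (phiG (n := n) c) :=
  phiG_injective h.card c h.nil v h.cyc

theorem phiG_v0 (h : SkewReg c n v) (a : Fin n → F) :
    phiG c a *ᵥ h.v0 = a ⟨0, h.pos⟩ • h.v0 := by
  rw [phiG_mulVec]
  rw [Finset.sum_eq_single ⟨0, h.pos⟩]
  · simp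
  · intro i _ hi
    have : (i : ℕ) ≠ 0 := fun h0 => hi (Fin.ext h0)
    obtain ⟨k, hk⟩ := Nat.exists_eq_succ_of_ne_zero this
    rw [hk, pow_succ, ← Matrix.mulVec_mulVec, h.c_v0, Matrix.mulVec_zero, smul_zero]
  · intro h'; exact absurd (Finset.mem_univ _) h'

theorem exists_eig (h : SkewReg c n v) {g : Matrix (l ⊕ l) (l ⊕ l) F} (hg : Commute g c) :
    ∃ x : F, g *ᵥ h.v0 = x • h.v0 := by
  obtain ⟨a, rfl⟩ := h.exists_coeff hg
  exact ⟨_, h.phiG_v0 a⟩

theorem isUnit_of_eig (h : SkewReg c n v) {g : Matrix (l ⊕ l) (l ⊕ l) F} (hg : Commute g c)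
    {x : F} (hx : x ≠ 0) (hgx : g *ᵥ h.v0 = x • h.v0) : IsUnit g := by
  obtain ⟨a, rfl⟩ := h.exists_coeff hg
  haveI := h.nonempty
  rw [phiG_isUnit_iff c h.nil h.pos]
  rw [h.phiG_v0 a] at hgx
  rw [h.smul_v0_inj hgx]
  exact hx

theorem commute_of_commute (h : SkewReg c n v) {g g' : Matrix (l ⊕ l) (l ⊕ l) F}
    (hg : Commute g c) (hg' : Commute g' c) : Commute g g' := by
  obtain ⟨a, rfl⟩ := h.exists_coeff hg
  obtain ⟨b, rfl⟩ := h.exists_coeff hg'
  exact phiG_commute_phiG c a b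

/-- the involution on coefficient vectors -/
def tau (a : Fin n → F) : Fin n → F := fun i => (-1) ^ (i : ℕ) * a i

theorem sstar_phiG (h : SkewReg c n v) (a : Fin n → F) : sstar (phiG c a) = phiG c (tau a) := by
  unfold phiG
  rw [← sstarL_apply, map_sum]
  apply Finset.sum_congr rfl
  intro i _
  rw [sstarL_apply, sstar_smul, sstar_pow, h.star, tau]
  rcases Nat.even_or_odd (i : ℕ) with he | ho
  · rw [he.neg_pow, he.neg_one_pow, one_mul]
  · rw [ho.neg_pow, ho.neg_one_pow, neg_one_mul, smul_neg, neg_smul]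

theorem sstar_commute_c (h : SkewReg c n v) {g : Matrix (l ⊕ l) (l ⊕ l) F} (hg : Commute g c) :
    Commute (sstar g) c := by
  have := sstar_commute hg
  rw [h.star] at this
  exact (Commute.neg_right_iff).mp this

theorem sstar_v0 (h : SkewReg c n v) {g : Matrix (l ⊕ l) (l ⊕ l) F} (hg : Commute g c) :
    sstar g *ᵥ h.v0 = g *ᵥ h.v0 := by
  obtain ⟨a, rfl⟩ := h.exists_coeff hg
  rw [h.sstar_phiG, h.phiG_v0, h.phiG_v0, tau]
  simp


/-- self-adjoint elements of the commutant with eigenvalue one on the socle -/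
def T1 (h : SkewReg c n v) : Set (Matrix (l ⊕ l) (l ⊕ l) F) :=
  {E | Commute E c ∧ sstar E = E ∧ E *ᵥ h.v0 = h.v0}

theorem sq_mem_T1 (h : SkewReg c n v) {E : Matrix (l ⊕ l) (l ⊕ l) F} (hE : E ∈ h.T1) :
    E * E ∈ h.T1 := by
  obtain ⟨h1, h2, h3⟩ := hE
  refine ⟨h1.mul_left h1, ?_, ?_⟩
  · rw [sstar_mul, h2]
  · rw [← Matrix.mulVec_mulVec, h3, h3]

theorem sq_inj_T1 (h : SkewReg c n v) {E E' : Matrix (l ⊕ l) (l ⊕ l) F} (hE : E ∈ h.T1)
    (hE' : E' ∈ h.T1) (heq : E * E = E' * E') : E = E' := by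
  obtain ⟨h1, h2, h3⟩ := hE
  obtain ⟨h1', h2', h3'⟩ := hE'
  have hcomm : Commute E E' := h.commute_of_commute h1 h1'
  have hprod : (E - E') * (E + E') = 0 := by
    rw [← hcomm.mul_self_sub_mul_self_eq', heq, sub_self]
  have hunit : IsUnit (E + E') := by
    apply h.isUnit_of_eig (h1.add_left h1') h.two_ne
    rw [Matrix.add_mulVec, h3, h3', two_smul]
  obtain ⟨w, hw⟩ := hunit
  have : (E - E') = 0 := by
    have h4 : (E - E') * (E + E') * (↑w⁻¹ : Matrix (l ⊕ l) (l ⊕ l) F) = 0 := by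
      rw [hprod, Matrix.zero_mul]
    rw [Matrix.mul_assoc, ← hw, Units.mul_inv, Matrix.mul_one] at h4
    exact h4
  exact sub_eq_zero.mp this

theorem exists_sqrt [Finite F] (h : SkewReg c n v) {T : Matrix (l ⊕ l) (l ⊕ l) F}
    (hT : T ∈ h.T1) : ∃ E ∈ h.T1, E * E = T := by
  let f : h.T1 → h.T1 := fun E => ⟨E.1 * E.1, h.sq_mem_T1 E.2⟩
  have hinj : Function.Injective f := by
    intro E E' hEE
    apply Subtype.ext
    apply h.sq_inj_T1 E.2 E'.2
    exact congrArg Subtype.val hEE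
  have hsurj : Function.Surjective f := Finite.injective_iff_surjective.mp hinj
  obtain ⟨E, hE⟩ := hsurj ⟨T, hT⟩
  exact ⟨E.1, E.2, congrArg Subtype.val hE⟩

/-- the isometries in the commutant -/
def Sset (c : Matrix (l ⊕ l) (l ⊕ l) F) : Set (Matrix (l ⊕ l) (l ⊕ l) F) :=
  {g | Commute g c ∧ g * sstar g = 1}

/-- isometries in the commutant with eigenvalue one on the socle -/
def Splus (h : SkewReg c n v) : Set (Matrix (l ⊕ l) (l ⊕ l) F) :=
  {g | Commute g c ∧ g * sstar g = 1 ∧ g *ᵥ h.v0 = h.v0}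

/-- skew-adjoint elements of the commutant -/
def Aminus (c : Matrix (l ⊕ l) (l ⊕ l) F) : Set (Matrix (l ⊕ l) (l ⊕ l) F) :=
  {Q | Commute Q c ∧ sstar Q = -Q}

theorem Aminus_v0 (h : SkewReg c n v) {Q : Matrix (l ⊕ l) (l ⊕ l) F} (hQ : Q ∈ Aminus c) :
    Q *ᵥ h.v0 = 0 := by
  obtain ⟨h1, h2⟩ := hQ
  obtain ⟨x, hx⟩ := h.exists_eig h1
  have h3 := h.sstar_v0 h1
  rw [h2, Matrix.neg_mulVec, hx] at h3
  have h4 : (-x) • h.v0 = x • h.v0 := by rw [neg_smul]; exact h3
  have h5 := h.smul_v0_inj h4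
  have h6 : (2 : F) * x = 0 := by linear_combination -h5
  rcases mul_eq_zero.mp h6 with h7 | h7
  · exact absurd h7 h.two_ne
  · rw [hx, h7, zero_smul]

theorem mul_sstar_add (h : SkewReg c n v) {E O : Matrix (l ⊕ l) (l ⊕ l) F}
    (hE : Commute E c) (hO : Commute O c) (hsE : sstar E = E) (hsO : sstar O = -O) :
    (E + O) * sstar (E + O) = E * E - O * O := by
  rw [sstar_add, hsE, hsO]
  have := (h.commute_of_commute hE hO).eq
  rw [Matrix.add_mul, Matrix.mul_add, Matrix.mul_add, Matrix.mul_neg, Matrix.mul_neg, this]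
  abel

theorem Sset_eq (h : SkewReg c n v) : Sset c = h.Splus ∪ (Neg.neg '' h.Splus) := by
  ext g
  constructor
  · rintro ⟨h1, h2⟩
    obtain ⟨x, hx⟩ := h.exists_eig h1
    have h3 := h.sstar_v0 h1
    have h4 : (g * sstar g) *ᵥ h.v0 = (x * x) • h.v0 := by
      rw [← Matrix.mulVec_mulVec, h3, hx, Matrix.mulVec_smul, hx, smul_smul]
    rw [h2, Matrix.one_mulVec] at h4
    have h5 : x * x = 1 := by
      have : (1 : F) • h.v0 = (x * x) • h.v0 := by rw [one_smul]; exact h4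
      exact (h.smul_v0_inj this).symm
    rcases mul_self_eq_one_iff.mp h5 with h6 | h6
    · left
      refine ⟨h1, h2, ?_⟩
      rw [hx, h6, one_smul]
    · right
      refine ⟨-g, ⟨h1.neg_left, ?_, ?_⟩, neg_neg g⟩
      · rw [sstar_neg, Matrix.neg_mul, Matrix.mul_neg, neg_neg, h2]
      · rw [Matrix.neg_mulVec, hx, h6, neg_smul, one_smul, neg_neg]
  · rintro (⟨h1, h2, _⟩ | ⟨g', ⟨h1, h2, _⟩, rfl⟩)
    · exact ⟨h1, h2⟩
    · refine ⟨h1.neg_left, ?_⟩
      rw [sstar_neg, Matrix.neg_mul, Matrix.mul_neg, neg_neg, h2]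

theorem Splus_disjoint (h : SkewReg c n v) : Disjoint h.Splus (Neg.neg '' h.Splus) := by
  rw [Set.disjoint_left]
  rintro g ⟨_, _, h3⟩ ⟨g', ⟨_, _, h3'⟩, rfl⟩
  rw [Matrix.neg_mulVec, h3'] at h3
  have h4 : (2 : F) • h.v0 = 0 := by
    rw [two_smul]
    nth_rewrite 1 [← h3]
    exact neg_add_cancel _
  rcases smul_eq_zero.mp h4 with h5 | h5
  · exact h.two_ne h5
  · exact h.v0_ne h5

theorem half_add_half (h : SkewReg c n v) {M : Type*} [AddCommGroup M] [Module F M] (X : M) :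
    (2⁻¹ : F) • X + (2⁻¹ : F) • X = X := by
  rw [← add_smul, ← two_mul, mul_inv_cancel₀ h.two_ne, one_smul]

theorem Splus_ncard [Finite F] (h : SkewReg c n v) : h.Splus.ncard = (Aminus c).ncard := by
  have key : ∀ g ∈ h.Splus, (2⁻¹ : F) • (g + sstar g) ∈ h.T1 ∧
      (2⁻¹ : F) • (g - sstar g) ∈ Aminus c ∧
      g = (2⁻¹ : F) • (g + sstar g) + (2⁻¹ : F) • (g - sstar g) ∧
      ((2⁻¹ : F) • (g + sstar g)) * ((2⁻¹ : F) • (g + sstar g))
        = 1 + ((2⁻¹ : F) • (g - sstar g)) * ((2⁻¹ : F) • (g - sstar g)) := by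
    rintro g ⟨h1, h2, h3⟩
    have hs := h.sstar_commute_c h1
    have hE : (2⁻¹ : F) • (g + sstar g) ∈ h.T1 := by
      refine ⟨(h1.add_left hs).smul_left _, ?_, ?_⟩
      · rw [sstar_smul, sstar_add, sstar_sstar, add_comm]
      · rw [Matrix.smul_mulVec, Matrix.add_mulVec, h.sstar_v0 h1, h3, smul_add]
        exact h.half_add_half _
    have hO : (2⁻¹ : F) • (g - sstar g) ∈ Aminus c := by
      refine ⟨(h1.sub_left hs).smul_left _, ?_⟩
      rw [sstar_smul, sstar_sub, sstar_sstar, ← smul_neg, neg_sub]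
    have hdec : g = (2⁻¹ : F) • (g + sstar g) + (2⁻¹ : F) • (g - sstar g) := by
      rw [smul_add, smul_sub]
      have := h.half_add_half g
      rw [add_add_sub_cancel, this]
    refine ⟨hE, hO, hdec, ?_⟩
    have h5 := h.mul_sstar_add hE.1 hO.1 hE.2.1 hO.2
    rw [← hdec, h2] at h5
    rw [h5]; abel
  apply Set.ncard_congr (fun g _ => (2⁻¹ : F) • (g - sstar g))
  · intro g hg
    exact (key g hg).2.1
  · intro g g' hg hg' heq
    obtain ⟨hE, hO, hdec, hsq⟩ := key g hg
    obtain ⟨hE', hO', hdec', hsq'⟩ := key g' hg'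
    have heq' : (2⁻¹ : F) • (g - sstar g) = (2⁻¹ : F) • (g' - sstar g') := heq
    have hEE : (2⁻¹ : F) • (g + sstar g) = (2⁻¹ : F) • (g' + sstar g') := by
      apply h.sq_inj_T1 hE hE'
      rw [hsq, hsq', heq']
    rw [hdec, hdec', hEE, heq']
  · intro O hO
    have hOv := h.Aminus_v0 hO
    have hT : 1 + O * O ∈ h.T1 := by
      refine ⟨(Commute.one_left c).add_left (hO.1.mul_left hO.1), ?_, ?_⟩
      · rw [sstar_add, sstar_one, sstar_mul, hO.2, neg_mul_neg]
      · rw [Matrix.add_mulVec, Matrix.one_mulVec, ← Matrix.mulVec_mulVec, hOv, Matrix.mulVec_zero,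
          add_zero]
    obtain ⟨E, hE, hEE⟩ := h.exists_sqrt hT
    have hg : E + O ∈ h.Splus := by
      refine ⟨hE.1.add_left hO.1, ?_, ?_⟩
      · rw [h.mul_sstar_add hE.1 hO.1 hE.2.1 hO.2, hEE]; abel
      · rw [Matrix.add_mulVec, hE.2.2, hOv, add_zero]
    refine ⟨E + O, hg, ?_⟩
    show (2⁻¹ : F) • (E + O - sstar (E + O)) = O
    rw [sstar_add, hE.2.1, hO.2]
    have : E + O - (E + -O) = O + O := by abel
    rw [this, smul_add]
    exact h.half_add_half O


theorem Aminus_eq (h : SkewReg c n v) :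
    Aminus c = phiG c '' {a : Fin n → F | ∀ i : Fin n, Even (i : ℕ) → a i = 0} := by
  ext Q
  constructor
  · rintro ⟨h1, h2⟩
    obtain ⟨a, rfl⟩ := h.exists_coeff h1
    refine ⟨a, ?_, rfl⟩
    rw [h.sstar_phiG, ← phiG_neg] at h2
    have h3 := h.phiG_inj h2
    intro i hi
    have h4 := congrFun h3 i
    rw [tau] at h4
    simp only [hi.neg_one_pow, one_mul, Pi.neg_apply] at h4
    have h5 : (2 : F) * a i = 0 := by linear_combination h4
    rcases mul_eq_zero.mp h5 with h6 | h6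
    · exact absurd h6 h.two_ne
    · exact h6
  · rintro ⟨a, ha, rfl⟩
    refine ⟨(phiG_commute c a c (Commute.refl c)).symm, ?_⟩
    rw [h.sstar_phiG, ← phiG_neg]
    congr 1
    funext i
    rw [tau]
    rcases Nat.even_or_odd (i : ℕ) with he | ho
    · rw [Pi.neg_apply, ha i he]; simp
    · rw [ho.neg_one_pow]; simp

/-- coefficient vectors supported on odd indices -/
def oddEquiv (F : Type*) [Field F] (m : ℕ) :
    (Fin m → F) ≃ {a : Fin (2 * m) → F | ∀ i : Fin (2 * m), Even (i : ℕ) → a i = 0} where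
  toFun b := ⟨fun i => if Even (i : ℕ) then 0 else b ⟨(i : ℕ) / 2, by have := i.2; omega⟩, by
    intro i hi
    simp only [hi, if_true]⟩
  invFun a := fun j => a.1 ⟨2 * (j : ℕ) + 1, by have := j.2; omega⟩
  left_inv b := by
    funext j
    have h1 : ¬ Even (2 * (j : ℕ) + 1) := by
      rw [Nat.not_even_iff_odd]; exact ⟨j, rfl⟩
    simp only [h1, if_false]
    congr 1
    apply Fin.ext
    show (2 * (j : ℕ) + 1) / 2 = j
    omega
  right_inv a := by
    apply Subtype.ext
    funext i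
    show (if Even (i : ℕ) then 0 else a.1 ⟨2 * ((i : ℕ) / 2) + 1, _⟩) = a.1 i
    split_ifs with hi
    · exact (a.2 i hi).symm
    · have hfin : (⟨2 * ((i : ℕ) / 2) + 1, by
          rw [Nat.not_even_iff_odd] at hi
          obtain ⟨k, hk⟩ := hi
          have := i.2
          omega⟩ : Fin (2 * m)) = i := by
        apply Fin.ext
        show 2 * ((i : ℕ) / 2) + 1 = i
        rw [Nat.not_even_iff_odd] at hi
        obtain ⟨k, hk⟩ := hi
        omega
      exact congrArg a.1 hfin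

theorem Aminus_ncard [Finite F] (h : SkewReg c n v) {m : ℕ} (hn : n = 2 * m) :
    (Aminus c).ncard = Nat.card F ^ m := by
  subst hn
  rw [h.Aminus_eq, Set.ncard_image_of_injective _ h.phiG_inj, ← _root_.Nat.card_coe_set_eq,
    ← Nat.card_congr (oddEquiv F m), Nat.card_fun, Nat.card_fin]

theorem Sset_ncard [Finite F] (h : SkewReg c n v) {m : ℕ} (hn : n = 2 * m) :
    (Sset c).ncard = 2 * Nat.card F ^ m := by
  rw [h.Sset_eq, Set.ncard_union_eq h.Splus_disjoint (Set.toFinite _) (Set.toFinite _),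
    Set.ncard_image_of_injective _ neg_injective, h.Splus_ncard, h.Aminus_ncard hn]
  ring

end SkewReg


theorem skewReg_of_regular {u : Matrix (l ⊕ l) (l ⊕ l) F} (h2 : (2 : F) ≠ 0) {n : ℕ}
    (hcard : Fintype.card (l ⊕ l) = n) (hpos : 1 ≤ n) (hu : u * sstar u = 1)
    (hnil : (u - 1) ^ n = 0) (hreg : (u - 1).rank = n - 1) :
    ∃ v, SkewReg (u - sstar u) n v := by
  have hu' : sstar u * u = 1 := sstar_mul_self_of_mul_sstar hu
  have hcu : Commute (sstar u) u := by
    show sstar u * u = u * sstar u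
    rw [hu, hu']
  set N := u - 1 with hN
  set W := sstar u * (u + 1) with hW
  have hNu : Commute N u := (Commute.refl u).sub_left (Commute.one_left u)
  have hNs : Commute N (sstar u) := (hcu.symm).sub_left (Commute.one_left _)
  have hWN : Commute W N := by
    apply Commute.mul_left hNs.symm
    exact (hNu.symm).add_left (Commute.one_left _)
  have hfac : u - sstar u = W * N := by
    rw [hW, hN, Matrix.mul_assoc]
    have : (u + 1) * (u - 1) = u * u - 1 := by
      rw [Matrix.add_mul, Matrix.mul_sub, Matrix.mul_sub, Matrix.mul_one, Matrix.one_mul,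
        Matrix.mul_one]
      abel
    rw [this, Matrix.mul_sub, ← Matrix.mul_assoc, hu', Matrix.one_mul, Matrix.mul_one]
  have hNnil : IsNilpotent N := ⟨n, hnil⟩
  have hu1 : IsUnit (u + 1) := by
    have h3 : u + 1 = (2 : F) • (1 : Matrix (l ⊕ l) (l ⊕ l) F) + N := by
      rw [hN, two_smul]; abel
    rw [h3]
    apply hNnil.isUnit_add_left_of_commute
    · rw [← Algebra.algebraMap_eq_smul_one]
      exact (algebraMap F (Matrix (l ⊕ l) (l ⊕ l) F)).isUnit_map (IsUnit.mk0 _ h2)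
    · exact (Commute.one_right _).smul_right _
  have hsu : IsUnit (sstar u) := ⟨⟨sstar u, u, hu', hu⟩, rfl⟩
  have hWu : IsUnit W := hsu.mul hu1
  have hne : N ^ (n - 1) ≠ 0 := by
    intro h0
    have h4 := regular_finrank_ker_pow' N (by rw [hcard]; exact hnil) (by rw [hcard]; exact hreg)
      (n - 1) (by rw [hcard]; omega)
    rw [h0] at h4
    have h5 : LinearMap.ker (Matrix.mulVecLin (0 : Matrix (l ⊕ l) (l ⊕ l) F)) = ⊤ := by
      rw [Matrix.mulVecLin_zero, LinearMap.ker_zero]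
    rw [h5, finrank_top, Module.finrank_fintype_fun_eq_card, hcard] at h4
    omega
  have hcne : (u - sstar u) ^ (n - 1) ≠ 0 := by
    rw [hfac, hWN.mul_pow]
    intro h0
    obtain ⟨w, hw⟩ := hWu.pow (n - 1)
    have h6 : (↑w⁻¹ : Matrix (l ⊕ l) (l ⊕ l) F) * (W ^ (n - 1) * N ^ (n - 1)) = 0 := by
      rw [h0, Matrix.mul_zero]
    rw [← Matrix.mul_assoc, ← hw, Units.inv_mul, Matrix.one_mul] at h6
    exact hne h6
  have hex : ∃ v, (u - sstar u) ^ (n - 1) *ᵥ v ≠ 0 := by
    by_contra hall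
    push Not at hall
    apply hcne
    rw [Matrix.ext_iff_mulVec]
    intro v
    rw [hall v, Matrix.zero_mulVec]
  obtain ⟨v, hv⟩ := hex
  refine ⟨v, ⟨h2, hcard, hpos, ?_, ?_, hv⟩⟩
  · rw [sstar_sub, sstar_sstar, neg_sub]
  · rw [hfac, hWN.mul_pow, hnil, Matrix.mul_zero]

theorem commute_iff_of_regular {u : Matrix (l ⊕ l) (l ⊕ l) F} (hu : u * sstar u = 1)
    {n : ℕ} {v : l ⊕ l → F} (h : SkewReg (u - sstar u) n v) (g : Matrix (l ⊕ l) (l ⊕ l) F) :
    Commute g u ↔ Commute g (u - sstar u) := by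
  have hu' : sstar u * u = 1 := sstar_mul_self_of_mul_sstar hu
  constructor
  · intro hg
    exact hg.sub_right (commute_sstar_of_commute hu hg)
  · intro hg
    obtain ⟨a, rfl⟩ := h.exists_coeff hg
    apply (phiG_commute _ a u _).symm
    apply Commute.sub_right (Commute.refl u)
    show u * sstar u = sstar u * u
    rw [hu, hu']

end skew

end Cfsg.Agent.Lib.H13
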