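import Mathlib
import Cfsg.Agent.Lib.H13.SpRegUnip
import Cfsg.Agent.Lib.H13.Disc
import Cfsg.Agent.S2578

set_option autoImplicit false

/-! Regular unipotent elements of the symplectic group in odd characteristic: existence,
conjugacy in the general linear group, and the two classes. -/

namespace Cfsg.Agent.Lib.H13


open Matrix Module Cfsg.Agent.S2578

section conjreg
variable {F : Type*} [Field F] {ι : Type*} [Fintype ι] [DecidableEq ι] {k : ℕ}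

theorem mul_phiG_eq (N : Matrix ι ι F) (hnil : N ^ (k + 1) = 0)
    (a : Fin (k + 1) → F) : N * phiG N a = phiG N (shiftL a) := by
  unfold phiG
  rw [Finset.mul_sum, Fin.sum_univ_castSucc,
    Fin.sum_univ_succ (f := fun i : Fin (k + 1) => shiftL a i • N ^ (i : ℕ))]
  simp only [shiftL_zero, zero_smul, zero_add, shiftL_succ, Fin.val_last, Fin.val_castSucc,
    Fin.val_succ]
  rw [Matrix.mul_smul, ← pow_succ', hnil, smul_zero, add_zero]
  apply Finset.sum_congr rfl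
  intro i _
  rw [Matrix.mul_smul, ← pow_succ']

/-- two regular nilpotent matrices are conjugate -/
theorem exists_conj_regular (hcard : Fintype.card ι = k + 1) (N N' : Matrix ι ι F)
    (hnil : N ^ (k + 1) = 0) (v : ι → F) (hv : N ^ (k + 1 - 1) *ᵥ v ≠ 0)
    (hnil' : N' ^ (k + 1) = 0) (v' : ι → F) (hv' : N' ^ (k + 1 - 1) *ᵥ v' ≠ 0) :
    ∃ P : (Matrix ι ι F)ˣ, (P : Matrix ι ι F) * N = N' * P := by
  have hbij := PhiLG_bij hcard N hnil v hv
  have hbij' := PhiLG_bij hcard N' hnil' v' hv'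
  let e := LinearEquiv.ofBijective (PhiLG (n := k + 1) N v) hbij
  let e' := LinearEquiv.ofBijective (PhiLG (n := k + 1) N' v') hbij'
  let h : (ι → F) ≃ₗ[F] (ι → F) := e.symm.trans e'
  have hunit : IsUnit (LinearMap.toMatrix' (h : (ι → F) →ₗ[F] (ι → F))) := by
    have h1 : IsUnit ((h : (ι → F) →ₗ[F] (ι → F)) : Module.End F (ι → F)) :=
      (Module.End.isUnit_iff _).mpr h.bijective
    exact h1.map (LinearMap.toMatrixAlgEquiv' : Module.End F (ι → F) ≃ₐ[F] _)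
  refine ⟨hunit.unit, ?_⟩
  rw [IsUnit.unit_spec]
  apply Matrix.toLin'.injective
  apply LinearMap.ext
  intro x
  obtain ⟨a, rfl⟩ := e.surjective x
  rw [Matrix.toLin'_apply, Matrix.toLin'_apply, ← Matrix.mulVec_mulVec, ← Matrix.mulVec_mulVec,
    ← Matrix.toLin'_apply (LinearMap.toMatrix' (h : (ι → F) →ₗ[F] (ι → F))),
    ← Matrix.toLin'_apply (LinearMap.toMatrix' (h : (ι → F) →ₗ[F] (ι → F))), Matrix.toLin'_toMatrix']
  have h1 : N *ᵥ e a = e (shiftL a) := by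
    show N *ᵥ (phiG N a *ᵥ v) = phiG N (shiftL a) *ᵥ v
    rw [Matrix.mulVec_mulVec, mul_phiG_eq N hnil]
  have h2 : ∀ b, (h : (ι → F) →ₗ[F] (ι → F)) (e b) = e' b := by
    intro b
    show e' (e.symm (e b)) = e' b
    rw [LinearEquiv.symm_apply_apply]
  rw [h1, h2, h2]
  show phiG N' (shiftL a) *ᵥ v' = N' *ᵥ (phiG N' a *ᵥ v')
  rw [Matrix.mulVec_mulVec, mul_phiG_eq N' hnil']

end conjreg




section explicit
variable {F : Type*} [Field F] {k : ℕ}

theorem shiftM_apply (i j : Fin (k + 1)) :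
    shiftM F k i j = if (i : ℕ) = (j : ℕ) + 1 then 1 else 0 := by
  unfold shiftM
  rw [LinearMap.toMatrix'_apply]
  refine Fin.cases ?_ (fun i' => ?_) i
  · rw [shiftL_zero]
    simp
  · rw [shiftL_succ]
    simp only [Fin.val_succ, add_left_inj]
    by_cases h : (i' : ℕ) = j
    · rw [if_pos h]
      have : i'.castSucc = j := by
        apply Fin.ext
        simpa using h
      rw [this, Pi.single_eq_same]
    · rw [if_neg h]
      apply Pi.single_eq_of_ne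
      intro h'
      apply h
      rw [← h']
      simp

/-- the top-left corner matrix unit -/
def cornerM (F : Type*) [Field F] (k : ℕ) : Matrix (Fin (k + 1)) (Fin (k + 1)) F :=
  Matrix.diagonal (fun i => if i = 0 then 1 else 0)

/-- an explicit regular nilpotent element of the symplectic Lie algebra -/
def regNil (F : Type*) [Field F] (k : ℕ) :
    Matrix (Fin (k + 1) ⊕ Fin (k + 1)) (Fin (k + 1) ⊕ Fin (k + 1)) F :=
  Matrix.fromBlocks (shiftM F k) (cornerM F k) 0 (-(shiftM F k)ᵀ)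

theorem sstar_regNil : sstar (regNil F k) = -regNil F k := by
  unfold sstar regNil J cornerM
  rw [Matrix.fromBlocks_transpose, Matrix.fromBlocks_neg, Matrix.fromBlocks_multiply,
    Matrix.fromBlocks_multiply, Matrix.fromBlocks_neg]
  simp


theorem fromBlocks_triangular_pow {l : Type*} [Fintype l] [DecidableEq l]
    (A B D : Matrix l l F) (j : ℕ) :
    ∃ Bj, (Matrix.fromBlocks A B 0 D) ^ j = Matrix.fromBlocks (A ^ j) Bj 0 (D ^ j) := by
  induction j with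
  | zero => exact ⟨0, by rw [pow_zero, pow_zero, pow_zero, Matrix.fromBlocks_one]⟩
  | succ j ih =>
    obtain ⟨Bj, hBj⟩ := ih
    refine ⟨A ^ j * B + Bj * D, ?_⟩
    rw [pow_succ, hBj, Matrix.fromBlocks_multiply]
    simp [pow_succ]

theorem fromBlocks_triangular_nil {l : Type*} [Fintype l] [DecidableEq l]
    (A B D : Matrix l l F) (m : ℕ) (hA : A ^ m = 0) (hD : D ^ m = 0) :
    (Matrix.fromBlocks A B 0 D) ^ (2 * m) = 0 := by
  obtain ⟨Bm, hBm⟩ := fromBlocks_triangular_pow A B D m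
  rw [two_mul, pow_add, hBm, hA, hD, Matrix.fromBlocks_multiply]
  simp

theorem regNil_pow : regNil F k ^ (2 * (k + 1)) = 0 := by
  unfold regNil
  apply fromBlocks_triangular_nil
  · exact shiftM_pow
  · rw [neg_pow, ← Matrix.transpose_pow, shiftM_pow, Matrix.transpose_zero, mul_zero]

theorem regNil_ker (z : Fin (k + 1) ⊕ Fin (k + 1) → F) (hz : regNil F k *ᵥ z = 0) :
    z = z (Sum.inl (Fin.last k)) • Pi.single (Sum.inl (Fin.last k)) 1 := by
  unfold regNil at hz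
  rw [Matrix.fromBlocks_mulVec] at hz
  have h1 : ∀ i, (shiftM F k *ᵥ (z ∘ Sum.inl) + cornerM F k *ᵥ (z ∘ Sum.inr)) i = 0 := by
    intro i
    have := congrFun hz (Sum.inl i)
    simpa using this
  have h2 : ∀ i, ((-(shiftM F k)ᵀ) *ᵥ (z ∘ Sum.inr)) i = 0 := by
    intro i
    have := congrFun hz (Sum.inr i)
    simpa using this
  -- y (succ j) = 0
  have hy : ∀ j : Fin k, z (Sum.inr j.succ) = 0 := by
    intro j
    have h3 := h2 j.castSucc
    rw [Matrix.neg_mulVec, Pi.neg_apply, neg_eq_zero, Matrix.mulVec, dotProduct] at h3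
    rw [Finset.sum_eq_single j.succ] at h3
    · rw [Matrix.transpose_apply, shiftM_apply] at h3
      simpa using h3
    · intro i _ hi
      rw [Matrix.transpose_apply, shiftM_apply, if_neg, zero_mul]
      intro h4
      apply hi
      apply Fin.ext
      simpa using h4
    · intro h'; exact absurd (Finset.mem_univ _) h'
  have hy0 : z (Sum.inr 0) = 0 := by
    have h3 := h1 0
    rw [Pi.add_apply, shiftM_mulVec, shiftL_zero, zero_add, cornerM, Matrix.mulVec_diagonal] at h3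
    simpa using h3
  have hyall : ∀ i, z (Sum.inr i) = 0 := by
    intro i
    refine Fin.cases hy0 hy i
  have hx : ∀ j : Fin k, z (Sum.inl j.castSucc) = 0 := by
    intro j
    have h3 := h1 j.succ
    rw [Pi.add_apply, shiftM_mulVec, shiftL_succ, cornerM, Matrix.mulVec_diagonal] at h3
    simpa [hyall] using h3
  funext i
  rcases i with i | i
  · refine Fin.lastCases ?_ (fun j => ?_) i
    · simp
    · rw [hx j]
      simp [Fin.castSucc_ne_last]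
  · rw [hyall i]
    simp


theorem finrank_ker_pos_of_nilpotent {ι : Type*} [Fintype ι] [DecidableEq ι] [Nonempty ι]
    (N : Matrix ι ι F) (h : IsNilpotent N) :
    1 ≤ finrank F (LinearMap.ker (Matrix.mulVecLin N)) := by
  by_contra hlt
  have h0 : finrank F (LinearMap.ker (Matrix.mulVecLin N)) = 0 := by omega
  rw [Submodule.finrank_eq_zero, LinearMap.ker_eq_bot] at h0
  have h1 : Function.Injective N.mulVec := h0
  rw [Matrix.mulVec_injective_iff_isUnit] at h1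
  exact h1.not_isNilpotent h

theorem regNil_rank : (regNil F k).rank = 2 * (k + 1) - 1 := by
  have h1 := LinearMap.finrank_range_add_finrank_ker (Matrix.mulVecLin (regNil F k))
  rw [Module.finrank_fintype_fun_eq_card, Fintype.card_sum, Fintype.card_fin] at h1
  have h2 : finrank F (LinearMap.ker (Matrix.mulVecLin (regNil F k))) ≤ 1 := by
    have hle : LinearMap.ker (Matrix.mulVecLin (regNil F k)) ≤
        Submodule.span F {(Pi.single (Sum.inl (Fin.last k)) 1 : Fin (k + 1) ⊕ Fin (k + 1) → F)} := by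
      intro z hz
      rw [LinearMap.mem_ker, Matrix.mulVecLin_apply] at hz
      rw [regNil_ker z hz]
      exact Submodule.smul_mem _ _ (Submodule.subset_span rfl)
    have hne : (Pi.single (Sum.inl (Fin.last k)) 1 : Fin (k + 1) ⊕ Fin (k + 1) → F) ≠ 0 := by
      intro h0
      have := congrFun h0 (Sum.inl (Fin.last k))
      simp at this
    calc finrank F (LinearMap.ker (Matrix.mulVecLin (regNil F k)))
        ≤ finrank F (Submodule.span F {(Pi.single (Sum.inl (Fin.last k)) 1 :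
            Fin (k + 1) ⊕ Fin (k + 1) → F)}) := Submodule.finrank_mono hle
      _ = 1 := finrank_span_singleton hne
  have h3 := finrank_ker_pos_of_nilpotent (regNil F k) ⟨_, regNil_pow⟩
  have h4 : (regNil F k).rank = finrank F (LinearMap.range (Matrix.mulVecLin (regNil F k))) := rfl
  omega

end explicit

section cayley
variable {F : Type*} [Field F] {l : Type*} [Fintype l] [DecidableEq l]

theorem exists_unipotent_of_skew (c : Matrix (l ⊕ l) (l ⊕ l) F) (n : ℕ)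
    (hs : sstar c = -c) (hnil : c ^ n = 0) :
    ∃ u : Matrix (l ⊕ l) (l ⊕ l) F, u * sstar u = 1 ∧ (u - 1) ^ n = 0 ∧
      (u - 1).rank = ((2 : F) • c).rank := by
  have hN : IsNilpotent c := ⟨n, hnil⟩
  obtain ⟨w, hw⟩ := hN.isUnit_one_sub
  have hsw : sstar (w : Matrix (l ⊕ l) (l ⊕ l) F) = 1 + c := by
    rw [hw, sstar_sub, sstar_one, hs, sub_neg_eq_add]
  have hsa : sstar (1 + c) = (w : Matrix (l ⊕ l) (l ⊕ l) F) := by
    rw [hw, sstar_add, sstar_one, hs, sub_eq_add_neg]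
  have ha1 : sstar (↑w⁻¹ : Matrix (l ⊕ l) (l ⊕ l) F) * (1 + c) = 1 := by
    rw [← hsw, ← sstar_mul, Units.mul_inv, sstar_one]
  have ha2 : (1 + c) * sstar (↑w⁻¹ : Matrix (l ⊕ l) (l ⊕ l) F) = 1 := by
    rw [← hsw, ← sstar_mul, Units.inv_mul, sstar_one]
  let au : (Matrix (l ⊕ l) (l ⊕ l) F)ˣ := ⟨1 + c, sstar (↑w⁻¹ : Matrix (l ⊕ l) (l ⊕ l) F), ha2, ha1⟩
  have hcw : Commute c (w : Matrix (l ⊕ l) (l ⊕ l) F) := by
    rw [hw]
    exact (Commute.one_right c).sub_right (Commute.refl c)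
  have hcomm : Commute au w := by
    apply Units.ext
    show (1 + c) * (w : Matrix (l ⊕ l) (l ⊕ l) F) = w * (1 + c)
    exact ((Commute.one_left _).add_left hcw).eq
  refine ⟨(1 + c) * (↑w⁻¹ : Matrix (l ⊕ l) (l ⊕ l) F), ?_, ?_, ?_⟩
  · rw [sstar_mul, hsa]
    have h1 : (au * w⁻¹ * (au⁻¹ * w) : (Matrix (l ⊕ l) (l ⊕ l) F)ˣ) = 1 := by
      have h2 : w⁻¹ * au⁻¹ = au⁻¹ * w⁻¹ := (hcomm.inv_inv).symm.eq
      calc au * w⁻¹ * (au⁻¹ * w) = au * (w⁻¹ * au⁻¹) * w := by group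
        _ = au * (au⁻¹ * w⁻¹) * w := by rw [h2]
        _ = 1 := by group
    have h3 := congrArg (fun x : (Matrix (l ⊕ l) (l ⊕ l) F)ˣ => (x : Matrix (l ⊕ l) (l ⊕ l) F)) h1
    exact h3
  all_goals
    have hfac : (1 + c) * (↑w⁻¹ : Matrix (l ⊕ l) (l ⊕ l) F) - 1
        = ((2 : F) • c) * (↑w⁻¹ : Matrix (l ⊕ l) (l ⊕ l) F) := by
      have h4 : (1 : Matrix (l ⊕ l) (l ⊕ l) F) =
          (w : Matrix (l ⊕ l) (l ⊕ l) F) * (↑w⁻¹ : Matrix (l ⊕ l) (l ⊕ l) F) :=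
        (Units.mul_inv w).symm
      nth_rewrite 2 [h4]
      rw [← Matrix.sub_mul, hw, two_smul]
      congr 1
      abel
    rw [hfac]
  · have hcw' : Commute ((2 : F) • c) (↑w⁻¹ : Matrix (l ⊕ l) (l ⊕ l) F) :=
      (hcw.units_inv_right).smul_left _
    rw [hcw'.mul_pow, smul_pow, hnil, smul_zero, Matrix.zero_mul]
  · apply Matrix.rank_mul_eq_left_of_isUnit_det
    exact (Matrix.isUnit_iff_isUnit_det _).mp w⁻¹.isUnit

theorem rank_two_smul (h2 : (2 : F) ≠ 0) (c : Matrix (l ⊕ l) (l ⊕ l) F) :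
    ((2 : F) • c).rank = c.rank := by
  have : (2 : F) • c = c * ((2 : F) • (1 : Matrix (l ⊕ l) (l ⊕ l) F)) := by
    rw [Matrix.mul_smul, Matrix.mul_one]
  rw [this]
  apply Matrix.rank_mul_eq_left_of_isUnit_det
  rw [Matrix.det_smul, Matrix.det_one, mul_one]
  exact (IsUnit.mk0 _ h2).pow _

end cayley




section sim
variable {F : Type*} [Field F] {l : Type*} [Fintype l] [DecidableEq l]

/-- a similitude with multiplier `ε` -/
def simM (l : Type*) [Fintype l] [DecidableEq l] (ε : F) : Matrix (l ⊕ l) (l ⊕ l) F :=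
  Matrix.fromBlocks (ε • (1 : Matrix l l F)) 0 0 1

theorem simM_mul_sstar (ε : F) : simM l ε * sstar (simM l ε) = ε • (1 : Matrix (l ⊕ l) (l ⊕ l) F) := by
  unfold sstar simM J
  rw [Matrix.fromBlocks_transpose, Matrix.fromBlocks_neg, Matrix.fromBlocks_multiply,
    Matrix.fromBlocks_multiply, Matrix.fromBlocks_multiply, ← Matrix.fromBlocks_one,
    Matrix.fromBlocks_smul]
  simp


theorem commute_mul_sstar {u u₀ P : Matrix (l ⊕ l) (l ⊕ l) F} (hu : u * sstar u = 1)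
    (hu₀ : u₀ * sstar u₀ = 1) (hP : P * u = u₀ * P) :
    Commute (P * sstar P) u₀ ∧ sstar (P * sstar P) = P * sstar P := by
  have hu₀' : sstar u₀ * u₀ = 1 := sstar_mul_self_of_mul_sstar hu₀
  have h1 : sstar u * sstar P = sstar P * sstar u₀ := by
    rw [← sstar_mul, ← sstar_mul, hP]
  have h2 : sstar P * u₀ = u * sstar P := by
    calc sstar P * u₀ = (u * sstar u) * sstar P * u₀ := by rw [hu, Matrix.one_mul]
      _ = u * (sstar u * sstar P) * u₀ := by simp only [Matrix.mul_assoc]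
      _ = u * (sstar P * sstar u₀) * u₀ := by rw [h1]
      _ = u * sstar P * (sstar u₀ * u₀) := by simp only [Matrix.mul_assoc]
      _ = u * sstar P := by rw [hu₀', Matrix.mul_one]
  constructor
  · show P * sstar P * u₀ = u₀ * (P * sstar P)
    rw [Matrix.mul_assoc, h2, ← Matrix.mul_assoc, hP, Matrix.mul_assoc]
  · rw [sstar_mul, sstar_sstar]

namespace SkewReg
variable {c : Matrix (l ⊕ l) (l ⊕ l) F} {n : ℕ} {v : l ⊕ l → F}

theorem exists_norm_eq [Finite F] (h : SkewReg c n v) {t : Matrix (l ⊕ l) (l ⊕ l) F}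
    (ht : Commute t c) (hst : sstar t = t) {s : F} (hs : s ≠ 0)
    (hts : t *ᵥ h.v0 = (s * s) • h.v0) :
    ∃ g : (Matrix (l ⊕ l) (l ⊕ l) F)ˣ, Commute (g : Matrix (l ⊕ l) (l ⊕ l) F) c ∧
      (g : Matrix (l ⊕ l) (l ⊕ l) F) * sstar (g : Matrix (l ⊕ l) (l ⊕ l) F) = t := by
  have hss : s * s ≠ 0 := mul_ne_zero hs hs
  have hT : (s * s)⁻¹ • t ∈ h.T1 := by
    refine ⟨ht.smul_left _, ?_, ?_⟩
    · rw [sstar_smul, hst]
    · rw [Matrix.smul_mulVec, hts, smul_smul, inv_mul_cancel₀ hss, one_smul]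
  obtain ⟨E, hE, hEE⟩ := h.exists_sqrt hT
  have hunit : IsUnit (s • E) := by
    apply h.isUnit_of_eig (hE.1.smul_left _) hs
    rw [Matrix.smul_mulVec, hE.2.2]
  refine ⟨hunit.unit, ?_, ?_⟩
  · rw [IsUnit.unit_spec]
    exact hE.1.smul_left _
  · rw [IsUnit.unit_spec, sstar_smul, hE.2.1, Matrix.smul_mul, Matrix.mul_smul, smul_smul, hEE,
      smul_smul, mul_inv_cancel₀ hss, one_smul]

end SkewReg

/-- the eigenvalue on the socle of a unit of the commutant is nonzero -/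
theorem SkewReg.eig_ne_zero {c : Matrix (l ⊕ l) (l ⊕ l) F} {n : ℕ} {v : l ⊕ l → F}
    (h : SkewReg c n v) {t : Matrix (l ⊕ l) (l ⊕ l) F} (htu : IsUnit t) {x : F}
    (hx : t *ᵥ h.v0 = x • h.v0) : x ≠ 0 := by
  rintro rfl
  rw [zero_smul] at hx
  have hinj := Matrix.mulVec_injective_iff_isUnit.mpr htu
  have : h.v0 = 0 := hinj (by rw [hx, Matrix.mulVec_zero])
  exact h.v0_ne this

theorem sstar_units_inv (g : (Matrix (l ⊕ l) (l ⊕ l) F)ˣ) :
    sstar (g : Matrix (l ⊕ l) (l ⊕ l) F) * sstar (↑g⁻¹ : Matrix (l ⊕ l) (l ⊕ l) F) = 1 := by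
  rw [← sstar_mul, Units.inv_mul, sstar_one]

theorem isUnit_sstar {P : Matrix (l ⊕ l) (l ⊕ l) F} (hP : IsUnit P) : IsUnit (sstar P) := by
  obtain ⟨g, rfl⟩ := hP
  exact ⟨⟨sstar ↑g, sstar ↑g⁻¹, sstar_units_inv g, by rw [← sstar_mul, Units.mul_inv, sstar_one]⟩, rfl⟩

/-- every regular unipotent isometry is conjugate under the isometry group to `u₀` or to its
conjugate under a similitude with non-square multiplier -/
theorem classify_regular [Fintype F] [DecidableEq F] {u₀ : Matrix (l ⊕ l) (l ⊕ l) F} {n : ℕ}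
    {v : l ⊕ l → F} (h : SkewReg (u₀ - sstar u₀) n v) (hu₀ : u₀ * sstar u₀ = 1)
    {δ : F} (hδ : ¬ IsSquare δ) (H : (Matrix (l ⊕ l) (l ⊕ l) F)ˣ)
    (hH : (H : Matrix (l ⊕ l) (l ⊕ l) F) * sstar (H : Matrix (l ⊕ l) (l ⊕ l) F)
      = δ • (1 : Matrix (l ⊕ l) (l ⊕ l) F))
    {u : Matrix (l ⊕ l) (l ⊕ l) F} (hu : u * sstar u = 1) (P : (Matrix (l ⊕ l) (l ⊕ l) F)ˣ)
    (hP : (P : Matrix (l ⊕ l) (l ⊕ l) F) * u = u₀ * P) :
    ∃ s : Matrix (l ⊕ l) (l ⊕ l) F, s * sstar s = 1 ∧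
      (s * u = u₀ * s ∨ s * u = ((H : Matrix (l ⊕ l) (l ⊕ l) F) * u₀ *
        (↑H⁻¹ : Matrix (l ⊕ l) (l ⊕ l) F)) * s) := by
  have hδ0 : δ ≠ 0 := by
    rintro rfl
    exact hδ ⟨0, by simp⟩
  obtain ⟨htc, hst⟩ := commute_mul_sstar hu hu₀ hP
  set t := (P : Matrix (l ⊕ l) (l ⊕ l) F) * sstar (P : Matrix (l ⊕ l) (l ⊕ l) F) with ht
  have htc' : Commute t (u₀ - sstar u₀) := (commute_iff_of_regular hu₀ h t).mp htc
  have htu : IsUnit t := P.isUnit.mul (isUnit_sstar P.isUnit)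
  obtain ⟨x, hx⟩ := h.exists_eig htc'
  have hx0 : x ≠ 0 := h.eig_ne_zero htu hx
  by_cases hsq : IsSquare x
  · obtain ⟨s, hs⟩ := hsq
    have hs0 : s ≠ 0 := by
      rintro rfl
      rw [mul_zero] at hs
      exact hx0 hs
    rw [hs] at hx
    obtain ⟨g, hgc, hgt⟩ := h.exists_norm_eq htc' hst hs0 hx
    have hgu₀ : Commute (g : Matrix (l ⊕ l) (l ⊕ l) F) u₀ := (commute_iff_of_regular hu₀ h _).mpr hgc
    refine ⟨(↑g⁻¹ : Matrix (l ⊕ l) (l ⊕ l) F) * P, ?_, Or.inl ?_⟩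
    · rw [sstar_mul]
      calc (↑g⁻¹ : Matrix (l ⊕ l) (l ⊕ l) F) * ↑P * (sstar ↑P * sstar ↑g⁻¹)
          = ↑g⁻¹ * t * sstar ↑g⁻¹ := by rw [ht]; simp only [Matrix.mul_assoc]
        _ = ↑g⁻¹ * (↑g * sstar ↑g) * sstar ↑g⁻¹ := by rw [hgt]
        _ = (↑g⁻¹ * ↑g) * (sstar ↑g * sstar ↑g⁻¹) := by simp only [Matrix.mul_assoc]
        _ = 1 := by rw [Units.inv_mul, sstar_units_inv, Matrix.one_mul]
    · rw [Matrix.mul_assoc, hP, ← Matrix.mul_assoc, ← Matrix.mul_assoc]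
      congr 1
      exact (hgu₀.units_inv_left).eq
  · have hsq' : IsSquare (x * δ) := (isSquare_mul_nonsquare_iff hx0 hδ).mpr hsq
    obtain ⟨s, hs⟩ := hsq'
    have hs0 : s ≠ 0 := by
      rintro rfl
      rw [mul_zero] at hs
      exact (mul_ne_zero hx0 hδ0) hs
    have hx2 : (δ • t) *ᵥ h.v0 = (s * s) • h.v0 := by
      rw [Matrix.smul_mulVec, hx, smul_smul, ← hs, mul_comm]
    have hst2 : sstar (δ • t) = δ • t := by rw [sstar_smul, hst]
    obtain ⟨g, hgc, hgt⟩ := h.exists_norm_eq (htc'.smul_left δ) hst2 hs0 hx2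
    have hgu₀ : Commute (g : Matrix (l ⊕ l) (l ⊕ l) F) u₀ := (commute_iff_of_regular hu₀ h _).mpr hgc
    have ht2 : t = δ⁻¹ • ((g : Matrix (l ⊕ l) (l ⊕ l) F) * sstar (g : Matrix (l ⊕ l) (l ⊕ l) F)) := by
      rw [hgt, smul_smul, inv_mul_cancel₀ hδ0, one_smul]
    refine ⟨(H : Matrix (l ⊕ l) (l ⊕ l) F) * (↑g⁻¹ : Matrix (l ⊕ l) (l ⊕ l) F) * P, ?_, Or.inr ?_⟩
    · rw [sstar_mul, sstar_mul]
      calc (H : Matrix (l ⊕ l) (l ⊕ l) F) * ↑g⁻¹ * ↑P * (sstar ↑P * (sstar ↑g⁻¹ * sstar ↑H))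
          = ↑H * (↑g⁻¹ * t * sstar ↑g⁻¹) * sstar ↑H := by rw [ht]; simp only [Matrix.mul_assoc]
        _ = ↑H * (δ⁻¹ • ((↑g⁻¹ * ↑g) * (sstar ↑g * sstar ↑g⁻¹))) * sstar ↑H := by
            rw [ht2]
            simp only [Matrix.mul_assoc, Matrix.mul_smul, Matrix.smul_mul]
        _ = δ⁻¹ • (↑H * sstar ↑H) := by
            rw [Units.inv_mul, sstar_units_inv, Matrix.one_mul, Matrix.mul_smul, Matrix.smul_mul,
              Matrix.mul_one]
        _ = 1 := by rw [hH, smul_smul, inv_mul_cancel₀ hδ0, one_smul]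
    · have h5 : (↑g⁻¹ : Matrix (l ⊕ l) (l ⊕ l) F) * u₀ = u₀ * (↑g⁻¹ : Matrix (l ⊕ l) (l ⊕ l) F) :=
        (hgu₀.units_inv_left).eq
      calc (H : Matrix (l ⊕ l) (l ⊕ l) F) * ↑g⁻¹ * ↑P * u
          = ↑H * ↑g⁻¹ * (↑P * u) := by simp only [Matrix.mul_assoc]
        _ = ↑H * (↑g⁻¹ * u₀) * ↑P := by rw [hP]; simp only [Matrix.mul_assoc]
        _ = ↑H * u₀ * ((↑H⁻¹ * ↑H) * ↑g⁻¹ * ↑P) := by
            rw [h5, Units.inv_mul, Matrix.one_mul]; simp only [Matrix.mul_assoc]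
        _ = ↑H * u₀ * ↑H⁻¹ * (↑H * ↑g⁻¹ * ↑P) := by simp only [Matrix.mul_assoc]


theorem units_inv_mul_sstar_inv {δ : F} (hδ0 : δ ≠ 0) (H : (Matrix (l ⊕ l) (l ⊕ l) F)ˣ)
    (hH : (H : Matrix (l ⊕ l) (l ⊕ l) F) * sstar (H : Matrix (l ⊕ l) (l ⊕ l) F)
      = δ • (1 : Matrix (l ⊕ l) (l ⊕ l) F)) :
    (↑H⁻¹ : Matrix (l ⊕ l) (l ⊕ l) F) * sstar (↑H⁻¹ : Matrix (l ⊕ l) (l ⊕ l) F)
      = δ⁻¹ • (1 : Matrix (l ⊕ l) (l ⊕ l) F) := by
  have h1 : sstar (H : Matrix (l ⊕ l) (l ⊕ l) F) = δ • (↑H⁻¹ : Matrix (l ⊕ l) (l ⊕ l) F) := by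
    calc sstar (H : Matrix (l ⊕ l) (l ⊕ l) F)
        = (↑H⁻¹ * ↑H) * sstar (H : Matrix (l ⊕ l) (l ⊕ l) F) := by
          rw [Units.inv_mul, Matrix.one_mul]
      _ = ↑H⁻¹ * (↑H * sstar (H : Matrix (l ⊕ l) (l ⊕ l) F)) := by rw [Matrix.mul_assoc]
      _ = δ • (↑H⁻¹ : Matrix (l ⊕ l) (l ⊕ l) F) := by rw [hH, Matrix.mul_smul, Matrix.mul_one]
  have h2 : sstar (↑H⁻¹ : Matrix (l ⊕ l) (l ⊕ l) F) * sstar (H : Matrix (l ⊕ l) (l ⊕ l) F) = 1 := by
    rw [← sstar_mul, Units.mul_inv, sstar_one]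
  rw [h1, Matrix.mul_smul] at h2
  -- δ • (sstar H⁻¹ * H⁻¹) = 1
  have h3 : sstar (↑H⁻¹ : Matrix (l ⊕ l) (l ⊕ l) F) = δ⁻¹ • (H : Matrix (l ⊕ l) (l ⊕ l) F) := by
    calc sstar (↑H⁻¹ : Matrix (l ⊕ l) (l ⊕ l) F)
        = δ⁻¹ • ((δ • (sstar (↑H⁻¹ : Matrix (l ⊕ l) (l ⊕ l) F) * ↑H⁻¹)) * ↑H) := by
          rw [Matrix.smul_mul, smul_smul, inv_mul_cancel₀ hδ0, one_smul, Matrix.mul_assoc,
            Units.inv_mul, Matrix.mul_one]
      _ = δ⁻¹ • (H : Matrix (l ⊕ l) (l ⊕ l) F) := by rw [h2, Matrix.one_mul]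
  rw [h3, Matrix.mul_smul, Units.inv_mul]

theorem not_conj_sim {u₀ : Matrix (l ⊕ l) (l ⊕ l) F} {n : ℕ}
    {v : l ⊕ l → F} (h : SkewReg (u₀ - sstar u₀) n v) (hu₀ : u₀ * sstar u₀ = 1)
    {δ : F} (hδ : ¬ IsSquare δ) (H : (Matrix (l ⊕ l) (l ⊕ l) F)ˣ)
    (hH : (H : Matrix (l ⊕ l) (l ⊕ l) F) * sstar (H : Matrix (l ⊕ l) (l ⊕ l) F)
      = δ • (1 : Matrix (l ⊕ l) (l ⊕ l) F))
    (s : Matrix (l ⊕ l) (l ⊕ l) F) (hs : s * sstar s = 1)
    (hconj : s * u₀ = ((H : Matrix (l ⊕ l) (l ⊕ l) F) * u₀ *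
        (↑H⁻¹ : Matrix (l ⊕ l) (l ⊕ l) F)) * s) : False := by
  have hδ0 : δ ≠ 0 := by
    rintro rfl
    exact hδ ⟨0, by simp⟩
  set g := (↑H⁻¹ : Matrix (l ⊕ l) (l ⊕ l) F) * s with hg
  have hgu : Commute g u₀ := by
    show g * u₀ = u₀ * g
    rw [hg, Matrix.mul_assoc, hconj]
    calc (↑H⁻¹ : Matrix (l ⊕ l) (l ⊕ l) F) * (↑H * u₀ * ↑H⁻¹ * s)
        = (↑H⁻¹ * ↑H) * u₀ * ↑H⁻¹ * s := by simp only [Matrix.mul_assoc]
      _ = u₀ * (↑H⁻¹ * s) := by rw [Units.inv_mul, Matrix.one_mul, Matrix.mul_assoc]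
  have hgc : Commute g (u₀ - sstar u₀) := (commute_iff_of_regular hu₀ h g).mp hgu
  have hgg : g * sstar g = δ⁻¹ • (1 : Matrix (l ⊕ l) (l ⊕ l) F) := by
    rw [hg, sstar_mul]
    calc (↑H⁻¹ : Matrix (l ⊕ l) (l ⊕ l) F) * s * (sstar s * sstar ↑H⁻¹)
        = ↑H⁻¹ * (s * sstar s) * sstar ↑H⁻¹ := by simp only [Matrix.mul_assoc]
      _ = δ⁻¹ • (1 : Matrix (l ⊕ l) (l ⊕ l) F) := by
          rw [hs, Matrix.mul_one, units_inv_mul_sstar_inv hδ0 H hH]
  obtain ⟨y, hy⟩ := h.exists_eig hgc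
  have h3 := h.sstar_v0 hgc
  have h4 : (g * sstar g) *ᵥ h.v0 = (y * y) • h.v0 := by
    rw [← Matrix.mulVec_mulVec, h3, hy, Matrix.mulVec_smul, hy, smul_smul]
  rw [hgg, Matrix.smul_mulVec, Matrix.one_mulVec] at h4
  have h5 : δ⁻¹ = y * y := h.smul_v0_inj h4
  apply hδ
  refine ⟨y⁻¹, ?_⟩
  rw [← mul_inv, ← h5, inv_inv]

theorem exists_cyclic_of_regular {ι : Type*} [Fintype ι] [DecidableEq ι] {n : ℕ}
    (hcard : Fintype.card ι = n) (hpos : 1 ≤ n) (N : Matrix ι ι F) (hnil : N ^ n = 0)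
    (hreg : N.rank = n - 1) : ∃ v, N ^ (n - 1) *ᵥ v ≠ 0 := by
  have hne : N ^ (n - 1) ≠ 0 := by
    intro h0
    have h4 := regular_finrank_ker_pow' N (by rw [hcard]; exact hnil) (by rw [hcard]; exact hreg)
      (n - 1) (by rw [hcard]; omega)
    rw [h0] at h4
    have h5 : LinearMap.ker (Matrix.mulVecLin (0 : Matrix ι ι F)) = ⊤ := by
      rw [Matrix.mulVecLin_zero, LinearMap.ker_zero]
    rw [h5, finrank_top, Module.finrank_fintype_fun_eq_card, hcard] at h4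
    omega
  by_contra hall
  push Not at hall
  apply hne
  rw [Matrix.ext_iff_mulVec]
  intro v
  rw [hall v, Matrix.zero_mulVec]

end sim

end Cfsg.Agent.Lib.H13
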