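import Mathlib
import Cfsg.Agent.Lib.H13.Sp4Graph

/-!
The order of `Aut(PSp_{2m}(q))` (helper13): `card_GSp`, `card_range_cGSp` (the inner-diagonal group has the order of `Sp`), `card_SpG`,
`card_aut_of_all` (the order of the automorphism group when every automorphism is semilinear-induced), `card_aut_psp`.
-/

set_option autoImplicit false
set_option linter.unusedSectionVars false
set_option linter.unusedVariables false
set_option linter.unusedSimpArgs false
set_option linter.deprecated false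

namespace Cfsg.Agent.Lib.H13.Sp4Graph

section

open Matrix Cfsg.Agent.Lib.H13.AutPSp Cfsg.Agent.Lib.H2.Sp Cfsg.Agent.Lib.H4
open Cfsg.Agent.Lib.H13

section count

variable {F : Type*} [Field F] [Fintype F] {m : ℕ}

theorem spGSp_injective : Function.Injective (spGSp : SpG m F →* ↥(Cfsg.GSp m F)) := by
  intro s t h
  apply mat_injective
  have := congrArg (fun g : ↥(Cfsg.GSp m F) => ((g : GL (K m) F) : Matrix (K m) (K m) F)) h
  exact this

theorem scM_injective (hm : 1 ≤ m) : Function.Injective (scM : Fˣ →* ↥(Cfsg.GSp m F)) := by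
  intro l l' h
  have h1 := congrArg (fun g : ↥(Cfsg.GSp m F) => ((g : GL (K m) F) : Matrix (K m) (K m) F)) h
  simp only [scM_coe] at h1
  have h2 := congrFun (congrFun h1 (Sum.inl ⟨0, by omega⟩)) (Sum.inl ⟨0, by omega⟩)
  rw [Matrix.smul_apply, Matrix.smul_apply, Matrix.one_apply_eq, smul_eq_mul, smul_eq_mul, mul_one,
    mul_one] at h2
  exact Units.ext h2

instance : Finite ↥(Cfsg.GSp m F) := inferInstance

theorem ker_mult (hm : 1 ≤ m) : (mult (F := F) hm).ker = (spGSp (m := m) (F := F)).range := by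
  ext g
  rw [MonoidHom.mem_ker]
  constructor
  · intro h
    obtain ⟨s, rfl⟩ := exists_spGSp_of_mult hm h
    exact ⟨s, rfl⟩
  · rintro ⟨s, rfl⟩
    exact mult_spGSp hm s

theorem range_mult (hm : 1 ≤ m) : (mult (F := F) (m := m) hm).range = ⊤ := by
  rw [eq_top_iff]
  intro c _
  exact ⟨dgM c, mult_dgM hm c⟩

theorem card_GSp (hm : 1 ≤ m) :
    Nat.card ↥(Cfsg.GSp m F) = Nat.card (SpG m F) * (Fintype.card F - 1) := by
  have h1 := Subgroup.card_mul_index (mult (F := F) (m := m) hm).ker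
  rw [Subgroup.index_ker, range_mult, Subgroup.card_top, ker_mult,
    Nat.card_congr (MonoidHom.ofInjective spGSp_injective).toEquiv.symm, Nat.card_units] at h1
  rw [← h1, Nat.card_eq_fintype_card (α := F)]

theorem card_range_cGSp (hm : 2 ≤ m) :
    Nat.card ↥(cGSp (m := m) (F := F)).range = Nat.card (SpG m F) := by
  have h1 := Subgroup.card_mul_index (cGSp (m := m) (F := F)).ker
  rw [Subgroup.index_ker, cGSp_ker hm,
    Nat.card_congr (MonoidHom.ofInjective (scM_injective (m := m) (F := F) (by omega))).toEquiv.symm,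
    Nat.card_units, card_GSp (by omega), Nat.card_eq_fintype_card (α := F), mul_comm] at h1
  have hq : 0 < Fintype.card F - 1 := by
    have := Fintype.one_lt_card (α := F)
    omega
  exact Nat.eq_of_mul_eq_mul_right hq h1

theorem card_SpG (hm : 1 ≤ m) :
    Nat.card (SpG m F) = Nat.gcd 2 (Fintype.card F - 1) * Nat.card (Cfsg.PSp m F) := by
  rw [← card_center m hm, mul_comm]
  exact Subgroup.card_eq_card_quotient_mul_card_subgroup _

instance finite_PSp : Finite (Cfsg.PSp m F) := by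
  unfold Cfsg.PSp
  infer_instance

instance finite_aut : Finite (MulAut (Cfsg.PSp m F)) :=
  Finite.of_injective (fun f : MulAut (Cfsg.PSp m F) =>
    (f : Cfsg.PSp m F → Cfsg.PSp m F)) (fun f g h => MulEquiv.ext (congrFun h))

/-- the order of the automorphism group when all automorphisms are semilinear-induced -/
theorem card_aut_of_all {p f : ℕ} [Fact p.Prime] [CharP F p] (hF : Fintype.card F = p ^ f) (hm : 2 ≤ m)
    (hall : ∀ θ : Cfsg.PSp m F ≃* Cfsg.PSp m F,
      ∃ (g : GL (K m) F) (hg : g ∈ Cfsg.GSp m F) (σ : F ≃+* F), θ = cSp hg σ) :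
    Nat.card (MulAut (Cfsg.PSp m F)) = f * Nat.card (SpG m F) := by
  haveI hN : (cGSp (m := m) (F := F)).range.Normal := normal_range_cGSp_of_all hall
  set D := (cGSp (m := m) (F := F)).range with hD
  let φ : (F ≃+* F) →* MulAut (Cfsg.PSp m F) ⧸ D := (QuotientGroup.mk' D).comp fSp
  have hinj : Function.Injective φ := by
    rw [injective_iff_map_eq_one]
    intro σ h
    change QuotientGroup.mk' D (fSp σ) = 1 at h
    rw [QuotientGroup.mk'_apply, QuotientGroup.eq_one_iff] at h
    obtain ⟨g, hg⟩ := h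
    have h1 : cGSp g * fSp (1 : F ≃+* F) = cGSp (1 : ↥(Cfsg.GSp m F)) * fSp σ := by
      rw [map_one, map_one, mul_one, one_mul, hg]
    exact (uniq_sigma hm h1).symm
  have hsurj : Function.Surjective φ := by
    intro x
    obtain ⟨θ, rfl⟩ := QuotientGroup.mk'_surjective D x
    obtain ⟨g, hg, σ, rfl⟩ := hall θ
    refine ⟨σ, ?_⟩
    change QuotientGroup.mk' D (fSp σ) = QuotientGroup.mk' D (cSp hg σ)
    rw [cSp_eq_mul, map_mul]
    have : QuotientGroup.mk' D (cGSp ⟨g, hg⟩) = 1 := by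
      rw [QuotientGroup.mk'_apply, QuotientGroup.eq_one_iff]
      exact ⟨_, rfl⟩
    rw [this, one_mul]
  have h1 : Nat.card (MulAut (Cfsg.PSp m F) ⧸ D) = f := by
    rw [← Nat.card_congr (Equiv.ofBijective φ ⟨hinj, hsurj⟩), AutPSL.card_ringAut p hF]
  rw [Subgroup.card_eq_card_quotient_mul_card_subgroup D, h1, hD, card_range_cGSp hm]

end count

end

section

open Matrix Cfsg.Agent.Lib.H13.AutPSp Cfsg.Agent.Lib.H2.Sp Cfsg.Agent.Lib.H4
open Cfsg.Agent.Lib.H13

/-- **the order of `Aut(PSp_{2m}(q))`** -/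
theorem card_aut_psp {F : Type*} [Field F] [Fintype F] (p f : ℕ) [Fact p.Prime] (hf : 1 ≤ f)
    (hF : Fintype.card F = p ^ f) (m : ℕ) (hm : 2 ≤ m) :
    Nat.card (MulAut (Cfsg.PSp m F)) =
      (if m = 2 ∧ p = 2 then 2 else 1) * Nat.gcd 2 (p ^ f - 1) * f * Nat.card (Cfsg.PSp m F) := by
  haveI : CharP F p := charP_of_card_eq_prime_pow hF
  by_cases h : m = 2 ∧ p = 2
  · obtain ⟨rfl, rfl⟩ := h
    rw [if_pos ⟨rfl, rfl⟩]
    have h1 := Subgroup.card_eq_card_quotient_mul_card_subgroup (Cfsg.Inn (Cfsg.PSp 2 F))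
    have h2 : Nat.card (MulAut (Cfsg.PSp 2 F) ⧸ Cfsg.Inn (Cfsg.PSp 2 F)) = 2 * f :=
      (out_psp4 hf hF).2
    rw [h2, ← range_cGSp_two, card_range_cGSp (by norm_num), card_SpG (by norm_num), hF] at h1
    rw [h1]
    ring
  · rw [if_neg h, one_mul]
    have h4 : m = 2 → p ≠ 2 := fun h1 h2 => h ⟨h1, h2⟩
    rw [card_aut_of_all hF hm (isSemi hm h4), card_SpG (by omega), hF]
    ring

end

end Cfsg.Agent.Lib.H13.Sp4Graph
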