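/-
REE tori project (helper12), second batch, piece REE-E1 (helper13): the normaliser of a cyclic subgroup whose automiser
consists of "Frobenius powers".  Exact signature of `tools/blueprints/Ree2_sigs.lean`.
-/
import Mathlib

set_option autoImplicit false

namespace Cfsg.Agent.Lib.H13.Ree

open Subgroup

section

variable {Γ : Type*} [Group Γ]

/-- the `q`-th power map on a cyclic subgroup `⟨x⟩` with `x ^ (q ^ k) = x`, as an automorphism -/
noncomputable def frobAut (x : Γ) (q k : ℕ) (hk : 0 < k) (hq : x ^ (q ^ k) = x) : MulAut (zpowers x) where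
  toFun y := y ^ q
  invFun y := y ^ (q ^ (k - 1))
  left_inv y := by
    obtain ⟨y, j, rfl⟩ := y
    apply Subtype.ext
    show ((x ^ j) ^ q) ^ (q ^ (k - 1)) = x ^ j
    rw [← pow_mul, ← pow_succ', Nat.sub_add_cancel hk, ← zpow_natCast, ← zpow_mul, mul_comm, zpow_mul, zpow_natCast,
      hq]
  right_inv y := by
    obtain ⟨y, j, rfl⟩ := y
    apply Subtype.ext
    show ((x ^ j) ^ (q ^ (k - 1))) ^ q = x ^ j
    rw [← pow_mul, ← pow_succ, Nat.sub_add_cancel hk, ← zpow_natCast, ← zpow_mul, mul_comm, zpow_mul, zpow_natCast,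
      hq]
  map_mul' y z := by
    have hc : Commute y z := by
      obtain ⟨y, j, rfl⟩ := y
      obtain ⟨z, l, rfl⟩ := z
      apply Subtype.ext
      show x ^ j * x ^ l = x ^ l * x ^ j
      rw [← zpow_add, ← zpow_add, add_comm]
    exact hc.mul_pow q

theorem frobAut_pow_apply (x : Γ) (q k : ℕ) (hk : 0 < k) (hq : x ^ (q ^ k) = x) (i : ℕ) (y : zpowers x) :
    (frobAut x q k hk hq ^ i) y = y ^ (q ^ i) := by
  induction i generalizing y with
  | zero => simp
  | succ i ih =>
    rw [pow_succ, MulAut.mul_apply, ih]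
    show (y ^ q) ^ (q ^ i) = y ^ (q ^ (i + 1))
    rw [← pow_mul, ← pow_succ']

theorem frobAut_pow_eq_one (x : Γ) (q k : ℕ) (hk : 0 < k) (hq : x ^ (q ^ k) = x) :
    frobAut x q k hk hq ^ k = 1 := by
  ext y
  rw [frobAut_pow_apply]
  obtain ⟨y, j, rfl⟩ := y
  show ((x ^ j) ^ (q ^ k) : Γ) = x ^ j
  rw [← zpow_natCast, ← zpow_mul, mul_comm, zpow_mul, zpow_natCast, hq]

end

/-- **REE-E1**. -/
theorem card_normalizer_zpowers {Γ : Type*} [Group Γ] [Finite Γ] (x : Γ) (q k : ℕ) (hk : 0 < k)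
    (hq : x ^ (q ^ k) = x)
    (hconj : ∀ g : Γ, g ∈ Subgroup.normalizer (Subgroup.zpowers x : Set Γ) → ∃ i : ℕ, g * x * g⁻¹ = x ^ (q ^ i)) :
    ∃ c : ℕ, c ∣ k ∧ Nat.card (Subgroup.normalizer (Subgroup.zpowers x : Set Γ)) =
      Nat.card (Subgroup.centralizer ({x} : Set Γ)) * c := by
  set H : Subgroup Γ := zpowers x with hH
  set φ := H.normalizerMonoidHom with hφ
  set σ := frobAut x q k hk hq with hσ
  have hcent : centralizer ((H : Subgroup Γ) : Set Γ) = centralizer ({x} : Set Γ) := by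
    ext g
    rw [mem_centralizer_iff, mem_centralizer_iff]
    constructor
    · intro h y hy
      rw [Set.mem_singleton_iff] at hy
      subst hy
      exact h _ (mem_zpowers _)
    · rintro h _ ⟨j, rfl⟩
      have h1 : x * g = g * x := h x rfl
      exact ((Commute.zpow_left (show Commute x g from h1) j).eq)
  have hCN : centralizer ({x} : Set Γ) ≤ normalizer (H : Set Γ) := by
    rw [← hcent]
    exact centralizer_le_normalizer (H : Set Γ)
  have hker : Nat.card φ.ker = Nat.card (centralizer ({x} : Set Γ)) := by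
    rw [hφ, normalizerMonoidHom_ker, hcent]
    exact Nat.card_congr (Subgroup.subgroupOfEquivOfLe hCN).toEquiv
  have hrange : φ.range ≤ zpowers σ := by
    rintro _ ⟨g, rfl⟩
    obtain ⟨i, hi⟩ := hconj g g.2
    rw [Subgroup.mem_zpowers_iff]
    refine ⟨(i : ℤ), ?_⟩
    rw [zpow_natCast]
    ext y
    rw [frobAut_pow_apply]
    obtain ⟨y, j, rfl⟩ := y
    show ((x ^ j) ^ (q ^ i) : Γ) = (g : Γ) * x ^ j * (g : Γ)⁻¹
    rw [← zpow_natCast, ← zpow_mul, mul_comm, zpow_mul, zpow_natCast, ← hi]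
    simp [conj_zpow]
  have hσk : Nat.card (zpowers σ) ∣ k := by
    rw [Nat.card_zpowers]
    exact orderOf_dvd_of_pow_eq_one (frobAut_pow_eq_one x q k hk hq)
  refine ⟨Nat.card φ.range, (card_dvd_of_le hrange).trans hσk, ?_⟩
  rw [← hker, ← index_ker, card_mul_index]

end Cfsg.Agent.Lib.H13.Ree
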