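/-
REE tori project, fifth batch (helper12 architect), piece **REE-K2** (helper13): the elements of order `2 j`, `j` odd, as pairs
(involution, commuting element of order `j`), in a group without elements of order 4.
-/
import Mathlib
import Cfsg.Agent.Lib.H29.ReeB1

set_option autoImplicit false

namespace Cfsg.Agent.Lib.H13.Ree

/-- the pairs (involution, commuting element of order `j`) -/
def InvPair (Γ : Type*) [Group Γ] (j : ℕ) : Type _ :=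
  {p : Γ × Γ // p.1 ≠ 1 ∧ p.1 * p.1 = 1 ∧ p.1 * p.2 = p.2 * p.1 ∧ orderOf p.2 = j}

theorem orderOf_inv_mul_of_odd {Γ : Type*} [Group Γ] (v w : Γ) (hv1 : v ≠ 1) (hv2 : v * v = 1)
    (hc : v * w = w * v) (hw : Odd (orderOf w)) : orderOf (v * w) = 2 * orderOf w := by
  have : Fact (Nat.Prime 2) := ⟨Nat.prime_two⟩
  have ov : orderOf v = 2 := orderOf_eq_prime (by rw [sq]; exact hv2) hv1
  have hcop : (orderOf v).Coprime (orderOf w) := by
    rw [ov]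
    exact Nat.coprime_two_left.mpr hw
  have hc' : Commute v w := hc
  rw [hc'.orderOf_mul_eq_mul_orderOf_of_coprime hcop, ov]

theorem pow_of_odd_of_sq {Γ : Type*} [Group Γ] (v : Γ) (hv2 : v * v = 1) (j : ℕ) (hj : Odd j) : v ^ j = v := by
  obtain ⟨k, rfl⟩ := hj
  rw [pow_succ, pow_mul, sq, hv2, one_pow, one_mul]

/-- the elements of order `2 j` are the products of the pairs -/
noncomputable def equivInvPair {Γ : Type*} [Group Γ] [Finite Γ] (h4 : ∀ x : Γ, x ^ 4 = 1 → x * x = 1) (j : ℕ)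
    (hj : Odd j) : {y : Γ // orderOf y = 2 * j} ≃ InvPair Γ j where
  toFun y := ⟨(y.1 ^ j, y.1 ^ j * y.1), by
    have hy := y.2
    have hdiv : orderOf y.1 / 2 = j := by rw [hy]; omega
    have hev : Even (orderOf y.1) := by rw [hy]; exact even_two_mul j
    obtain ⟨h1, h2, h3⟩ := Cfsg.Agent.Lib.H29.Ree.even_decomp_exists h4 y.1 hev
    rw [hdiv] at h1 h2 h3
    have hcomm : y.1 ^ j * (y.1 ^ j * y.1) = y.1 ^ j * y.1 * y.1 ^ j := by
      rw [← pow_succ, ← pow_add, ← pow_add]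
      congr 1
      omega
    refine ⟨h1, h2, hcomm, ?_⟩
    have ho := orderOf_inv_mul_of_odd (y.1 ^ j) (y.1 ^ j * y.1) h1 h2 hcomm h3
    rw [← mul_assoc, h2, one_mul, hy] at ho
    show orderOf (y.1 ^ j * y.1) = j
    omega⟩
  invFun p := ⟨p.1.1 * p.1.2, by
    obtain ⟨h1, h2, h3, h4'⟩ := p.2
    rw [orderOf_inv_mul_of_odd p.1.1 p.1.2 h1 h2 h3 (by rw [h4']; exact hj), h4']⟩
  left_inv y := by
    apply Subtype.ext
    show y.1 ^ j * (y.1 ^ j * y.1) = y.1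
    have hy : y.1 ^ (2 * j) = 1 := by
      have := pow_orderOf_eq_one y.1
      rwa [y.2] at this
    rw [← mul_assoc, ← pow_add, ← two_mul, hy, one_mul]
  right_inv p := by
    obtain ⟨⟨v, w⟩, h1, h2, h3, h4'⟩ := p
    apply Subtype.ext
    show ((v * w) ^ j, (v * w) ^ j * (v * w)) = (v, w)
    have hc : Commute v w := h3
    have hwj : w ^ j = 1 := by rw [← h4', pow_orderOf_eq_one]
    have e1 : (v * w) ^ j = v := by
      rw [hc.mul_pow, hwj, mul_one, pow_of_odd_of_sq v h2 j hj]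
    rw [e1, ← mul_assoc, h2, one_mul]

/-- **REE-K2**, second lemma -/
theorem card_order_two_mul_of_const {Γ : Type*} [Group Γ] [Finite Γ] (h4 : ∀ x : Γ, x ^ 4 = 1 → x * x = 1)
    (j c : ℕ) (hj : Odd j)
    (hc : ∀ w : Γ, orderOf w = j → Nat.card {v : Γ // v ≠ 1 ∧ v * v = 1 ∧ v * w = w * v} = c) :
    Nat.card {y : Γ // orderOf y = 2 * j} = c * Nat.card {w : Γ // orderOf w = j} := by
  classical
  haveI : Fintype {w : Γ // orderOf w = j} := Fintype.ofFinite _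
  rw [Nat.card_congr (equivInvPair h4 j hj)]
  have e : InvPair Γ j ≃ Σ w : {w : Γ // orderOf w = j}, {v : Γ // v ≠ 1 ∧ v * v = 1 ∧ v * w.1 = w.1 * v} :=
    { toFun := fun p => ⟨⟨p.1.2, p.2.2.2.2⟩, ⟨p.1.1, p.2.1, p.2.2.1, p.2.2.2.1⟩⟩
      invFun := fun s => ⟨(s.2.1, s.1.1), s.2.2.1, s.2.2.2.1, s.2.2.2.2, s.1.2⟩
      left_inv := fun p => rfl
      right_inv := fun s => rfl }
  rw [Nat.card_congr e, Nat.card_sigma]
  rw [Finset.sum_congr rfl (fun w _ => hc w.1 w.2), Finset.sum_const, Finset.card_univ, smul_eq_mul,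
    Nat.card_eq_fintype_card, mul_comm]

/-- **REE-K2**, first lemma -/
theorem card_order_two_mul {Γ : Type*} [Group Γ] [Finite Γ] (a : Γ) (ha1 : a ≠ 1) (ha2 : a * a = 1)
    (hconj : ∀ v : Γ, v ≠ 1 → v * v = 1 → ∃ g : Γ, g * a * g⁻¹ = v)
    (h4 : ∀ x : Γ, x ^ 4 = 1 → x * x = 1) (j : ℕ) (hj : Odd j) :
    Nat.card {y : Γ // orderOf y = 2 * j} * Nat.card (Subgroup.centralizer ({a} : Set Γ)) =
      Nat.card Γ * Nat.card {w : Γ // w * a = a * w ∧ orderOf w = j} := by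
  classical
  rw [Nat.card_congr (equivInvPair h4 j hj), ← Nat.card_prod, ← Nat.card_prod]
  -- a conjugating element for each involution
  have hch : ∀ p : InvPair Γ j, ∃ g : Γ, g * a * g⁻¹ = p.1.1 := fun p => hconj _ p.2.1 p.2.2.1
  choose c hc using hch
  have hcen : ∀ n : Subgroup.centralizer ({a} : Set Γ), n.1 * a = a * n.1 := fun n =>
    (Subgroup.mem_centralizer_iff.mp n.2 a (Set.mem_singleton a)).symm
  -- the pair attached to `(g, w)`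
  have hP : ∀ (g : Γ) (w : {w : Γ // w * a = a * w ∧ orderOf w = j}),
      g * a * g⁻¹ ≠ 1 ∧ (g * a * g⁻¹) * (g * a * g⁻¹) = 1 ∧
        (g * a * g⁻¹) * (g * w.1 * g⁻¹) = (g * w.1 * g⁻¹) * (g * a * g⁻¹) ∧ orderOf (g * w.1 * g⁻¹) = j := by
    intro g w
    refine ⟨?_, ?_, ?_, ?_⟩
    · intro h
      apply ha1
      have : a = g⁻¹ * (g * a * g⁻¹) * g := by group
      rw [this, h]
      group
    · have : g * a * g⁻¹ * (g * a * g⁻¹) = g * (a * a) * g⁻¹ := by group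
      rw [this, ha2]
      group
    · have e1 : g * a * g⁻¹ * (g * w.1 * g⁻¹) = g * (a * w.1) * g⁻¹ := by group
      have e2 : g * w.1 * g⁻¹ * (g * a * g⁻¹) = g * (w.1 * a) * g⁻¹ := by group
      rw [e1, e2, w.2.1]
    · have : g * w.1 * g⁻¹ = MulAut.conj g w.1 := rfl
      rw [this, MulEquiv.orderOf_eq]
      exact w.2.2
  apply Nat.card_congr
  refine
    { toFun := fun q => (c q.1 * q.2.1, ⟨(c q.1 * q.2.1)⁻¹ * q.1.1.2 * (c q.1 * q.2.1), ?_, ?_⟩)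
      invFun := fun q => (⟨(q.1 * a * q.1⁻¹, q.1 * q.2.1 * q.1⁻¹), hP q.1 q.2⟩,
        ⟨(c ⟨(q.1 * a * q.1⁻¹, q.1 * q.2.1 * q.1⁻¹), hP q.1 q.2⟩)⁻¹ * q.1, ?_⟩)
      left_inv := ?_
      right_inv := ?_ }
  · -- commutes with `a`
    have hv := hc q.1
    have hn := hcen q.2
    have hvw := q.1.2.2.2.1
    have e1 : a = (c q.1 * q.2.1)⁻¹ * q.1.1.1 * (c q.1 * q.2.1) := by
      rw [← hv]
      have : (c q.1 * q.2.1)⁻¹ * (c q.1 * a * (c q.1)⁻¹) * (c q.1 * q.2.1) = (q.2.1)⁻¹ * (a * q.2.1) := by group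
      rw [this, ← hn]
      group
    calc (c q.1 * q.2.1)⁻¹ * q.1.1.2 * (c q.1 * q.2.1) * a
        = (c q.1 * q.2.1)⁻¹ * q.1.1.2 * (c q.1 * q.2.1) * ((c q.1 * q.2.1)⁻¹ * q.1.1.1 * (c q.1 * q.2.1)) := by
          rw [← e1]
      _ = (c q.1 * q.2.1)⁻¹ * (q.1.1.2 * q.1.1.1) * (c q.1 * q.2.1) := by group
      _ = (c q.1 * q.2.1)⁻¹ * (q.1.1.1 * q.1.1.2) * (c q.1 * q.2.1) := by rw [hvw]
      _ = ((c q.1 * q.2.1)⁻¹ * q.1.1.1 * (c q.1 * q.2.1)) * ((c q.1 * q.2.1)⁻¹ * q.1.1.2 * (c q.1 * q.2.1)) := by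
          group
      _ = a * ((c q.1 * q.2.1)⁻¹ * q.1.1.2 * (c q.1 * q.2.1)) := by rw [← e1]
  · have : (c q.1 * q.2.1)⁻¹ * q.1.1.2 * (c q.1 * q.2.1) = MulAut.conj (c q.1 * q.2.1)⁻¹ q.1.1.2 := by
      rw [MulAut.conj_apply, inv_inv]
    rw [this, MulEquiv.orderOf_eq]
    exact q.1.2.2.2.2
  · -- `c⁻¹ g` centralises `a`
    rw [Subgroup.mem_centralizer_iff]
    intro x hx
    rw [Set.mem_singleton_iff] at hx
    subst hx
    have h1 := hc ⟨(q.1 * x * q.1⁻¹, q.1 * q.2.1 * q.1⁻¹), hP q.1 q.2⟩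
    change c ⟨(q.1 * x * q.1⁻¹, q.1 * q.2.1 * q.1⁻¹), hP q.1 q.2⟩ * x *
      (c ⟨(q.1 * x * q.1⁻¹, q.1 * q.2.1 * q.1⁻¹), hP q.1 q.2⟩)⁻¹ = q.1 * x * q.1⁻¹ at h1
    generalize c ⟨(q.1 * x * q.1⁻¹, q.1 * q.2.1 * q.1⁻¹), hP q.1 q.2⟩ = d at h1
    have : x = d⁻¹ * (q.1 * x * q.1⁻¹) * d := by
      rw [← h1]
      group
    calc x * (d⁻¹ * q.1) = d⁻¹ * (q.1 * x * q.1⁻¹) * d * (d⁻¹ * q.1) := by rw [← this]
      _ = d⁻¹ * q.1 * x := by group
  · rintro ⟨p, n⟩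
    have hv := hc p
    have hn := hcen n
    have e0 : (c p * n.1 * a * (c p * n.1)⁻¹, c p * n.1 * ((c p * n.1)⁻¹ * p.1.2 * (c p * n.1)) * (c p * n.1)⁻¹) =
        p.1 := by
      apply Prod.ext
      · show c p * n.1 * a * (c p * n.1)⁻¹ = p.1.1
        have : c p * n.1 * a * (c p * n.1)⁻¹ = c p * (n.1 * a * n.1⁻¹) * (c p)⁻¹ := by group
        rw [this, hn]
        have : c p * (a * n.1 * n.1⁻¹) * (c p)⁻¹ = c p * a * (c p)⁻¹ := by group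
        rw [this, hv]
      · show c p * n.1 * ((c p * n.1)⁻¹ * p.1.2 * (c p * n.1)) * (c p * n.1)⁻¹ = p.1.2
        group
    have e1 : ∀ h, (⟨(c p * n.1 * a * (c p * n.1)⁻¹,
        c p * n.1 * ((c p * n.1)⁻¹ * p.1.2 * (c p * n.1)) * (c p * n.1)⁻¹), h⟩ : InvPair Γ j) = p :=
      fun h => Subtype.ext e0
    apply Prod.ext
    · exact e1 _
    · apply Subtype.ext
      show (c ⟨(c p * n.1 * a * (c p * n.1)⁻¹,
        c p * n.1 * ((c p * n.1)⁻¹ * p.1.2 * (c p * n.1)) * (c p * n.1)⁻¹), _⟩)⁻¹ * (c p * n.1) = n.1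
      rw [e1]
      group
  · rintro ⟨g, w⟩
    apply Prod.ext
    · show c ⟨(g * a * g⁻¹, g * w.1 * g⁻¹), hP g w⟩ * ((c ⟨(g * a * g⁻¹, g * w.1 * g⁻¹), hP g w⟩)⁻¹ * g) = g
      group
    · apply Subtype.ext
      show (c ⟨(g * a * g⁻¹, g * w.1 * g⁻¹), hP g w⟩ * ((c ⟨(g * a * g⁻¹, g * w.1 * g⁻¹), hP g w⟩)⁻¹ * g))⁻¹ *
        (g * w.1 * g⁻¹) *
        (c ⟨(g * a * g⁻¹, g * w.1 * g⁻¹), hP g w⟩ * ((c ⟨(g * a * g⁻¹, g * w.1 * g⁻¹), hP g w⟩)⁻¹ * g)) = w.1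
      generalize c ⟨(g * a * g⁻¹, g * w.1 * g⁻¹), hP g w⟩ = d
      group

end Cfsg.Agent.Lib.H13.Ree
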