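import Mathlib
import Cfsg.Prelude.Def_Blocks
import Cfsg.Agent.Lib.H21.AD.Defs

/-!
S4937 piece (COSET): partition of the `p`-regular elements of `J` into cosets of `N`.
Exact signature of `tools/blueprints/S4937_sigs.lean`.
-/

set_option autoImplicit false
open Cfsg.Agent.Lib.H21.AD

namespace Cfsg.Agent.Lib.H13.AD

variable {G : Type*} [Group G] [Finite G]

/-- (COSET) partition of the `p`-regular elements of `J` into cosets of `N`. PURE. -/
theorem coset_count (p : ℕ) (N J : Subgroup G) (hNJ : N ≤ J) (f : G → ℂ)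
    (h : ∀ y ∈ J, ¬ p ∣ orderOf y → cSum p N f y = sSum p N f) :
    ∃ k : ℕ, 0 < k ∧ sSum p J f = (k : ℂ) * sSum p N f := by
  classical
  letI : Fintype G := Fintype.ofFinite G
  letI : Fintype (G ⧸ N) := Fintype.ofFinite _
  -- rewrite the three kinds of sums as `Fintype` sums
  have hsS : ∀ K : Subgroup G, sSum p K f = ∑ g : G, if g ∈ K ∧ ¬ p ∣ orderOf g then f g else 0 := by
    intro K
    unfold sSum
    rw [finsum_eq_sum_of_fintype]
  have hcS : ∀ y : G, cSum p N f y =
      ∑ n : G, if n ∈ N ∧ ¬ p ∣ orderOf (y * n) then f (y * n) else 0 := by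
    intro y
    unfold cSum
    rw [finsum_eq_sum_of_fintype]
  -- the predicate "the coset contains a `p`-regular element of `J`"
  let P : G ⧸ N → Prop := fun c => ∃ y ∈ J, ¬ p ∣ orderOf y ∧ (QuotientGroup.mk y : G ⧸ N) = c
  -- fibrewise computation
  have hfib : ∀ c : G ⧸ N,
      (∑ g ∈ Finset.univ.filter (fun g : G => (QuotientGroup.mk g : G ⧸ N) = c),
        if g ∈ J ∧ ¬ p ∣ orderOf g then f g else 0) = if P c then sSum p N f else 0 := by
    intro c
    by_cases hPc : P c
    · rw [if_pos hPc]
      obtain ⟨y, hyJ, hyp, rfl⟩ := hPc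
      rw [← h y hyJ hyp, hcS y]
      -- reindex by `n ↦ y * n`
      rw [Finset.sum_filter]
      rw [← Equiv.sum_comp (Equiv.mulLeft y)
        (fun g : G => if (QuotientGroup.mk g : G ⧸ N) = QuotientGroup.mk y then
          (if g ∈ J ∧ ¬ p ∣ orderOf g then f g else 0) else 0)]
      refine Finset.sum_congr rfl (fun n _ => ?_)
      have hq : ((QuotientGroup.mk (y * n) : G ⧸ N) = QuotientGroup.mk y) ↔ n ∈ N := by
        rw [QuotientGroup.eq]
        constructor
        · intro hh
          have : (y * n)⁻¹ * y = n⁻¹ := by group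
          rw [this] at hh
          exact (N.inv_mem_iff).mp hh
        · intro hn
          have : (y * n)⁻¹ * y = n⁻¹ := by group
          rw [this]
          exact N.inv_mem hn
      by_cases hn : n ∈ N
      · have hyn : y * n ∈ J := J.mul_mem hyJ (hNJ hn)
        have hq' := hq.mpr hn
        by_cases hr : p ∣ orderOf (y * n)
        · simp [hq', hn, hr]
        · simp [hq', hn, hr, hyn]
      · have hq' : ¬ ((QuotientGroup.mk (y * n) : G ⧸ N) = QuotientGroup.mk y) :=
          fun hh => hn (hq.mp hh)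
        simp [hq', hn]
    · rw [if_neg hPc]
      apply Finset.sum_eq_zero
      intro g hg
      rw [Finset.mem_filter] at hg
      rw [if_neg]
      rintro ⟨hgJ, hgp⟩
      exact hPc ⟨g, hgJ, hgp, hg.2⟩
  have hJ : sSum p J f = ((Finset.univ.filter P).card : ℂ) * sSum p N f := by
    rw [hsS J, ← Finset.sum_fiberwise Finset.univ (fun g : G => (QuotientGroup.mk g : G ⧸ N))]
    rw [Finset.sum_congr rfl (fun c _ => hfib c), Finset.sum_ite, Finset.sum_const_zero, add_zero,
      Finset.sum_const, nsmul_eq_mul]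
  by_cases hk : 0 < (Finset.univ.filter P).card
  · exact ⟨_, hk, hJ⟩
  · have hk0 : (Finset.univ.filter P).card = 0 := by omega
    have hnoP : ∀ c, ¬ P c := by
      intro c hc
      have : c ∈ Finset.univ.filter P := Finset.mem_filter.mpr ⟨Finset.mem_univ c, hc⟩
      rw [Finset.card_eq_zero.mp hk0] at this
      exact absurd this (Finset.notMem_empty c)
    have hN0 : sSum p N f = 0 := by
      rw [hsS N]
      apply Finset.sum_eq_zero
      intro g _
      rw [if_neg]
      rintro ⟨hgN, hgp⟩
      exact hnoP _ ⟨g, hNJ hgN, hgp, rfl⟩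
    refine ⟨1, Nat.one_pos, ?_⟩
    rw [hJ, hk0, hN0]
    simp

end Cfsg.Agent.Lib.H13.AD
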