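import Mathlib

/-!
# S4150 piece NORM `core_of_normalized` (helper13)

Twin primes `k + 2`, `k + 4`: a `(k+2)`-cycle `x` and a `(k+4)`-cycle `y` on `k + 4` points.
Conjugate `y` to `finRotate`, move the two fixed points of `x` to `0, 1` by an affine map of
`Fin (k+4)` (which normalises `⟨finRotate⟩`), and replace `x` by a power mapping `2` to `3`.
-/

set_option autoImplicit false

namespace Cfsg.Agent.Lib.H13.AG

open Equiv Equiv.Perm Subgroup
open Fin.CommRing

/-- inverses in the field `ZMod n`. -/
theorem exists_mul_eq_one_zmod (n : ℕ) [Fact n.Prime] (d : ZMod n) (hd : d ≠ 0) :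
    ∃ c : ZMod n, c * d = 1 :=
  ⟨d⁻¹, inv_mul_cancel₀ hd⟩

/-- inverses in `Fin (k+4)`, `k + 4` prime. -/
theorem exists_mul_eq_one_fin (k : ℕ) (hn : (k + 4).Prime) (d : Fin (k + 4)) (hd : d ≠ 0) :
    ∃ c : Fin (k + 4), c * d = 1 := by
  have : Fact (k + 4).Prime := ⟨hn⟩
  exact exists_mul_eq_one_zmod (k + 4) d hd

/-- the affine permutation `i ↦ c * (i - a)` of `Fin (k+4)`, with inverse `j ↦ d * j + a`. -/
def aff (k : ℕ) (c d a : Fin (k + 4)) (hcd : c * d = 1) : Perm (Fin (k + 4)) where
  toFun i := c * (i - a)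
  invFun j := d * j + a
  left_inv i := by
    show d * (c * (i - a)) + a = i
    linear_combination (i - a) * hcd
  right_inv j := by
    show c * (d * j + a - a) = j
    linear_combination j * hcd

theorem aff_apply (k : ℕ) (c d a : Fin (k + 4)) (hcd : c * d = 1) (i : Fin (k + 4)) :
    aff k c d a hcd i = c * (i - a) := rfl

theorem aff_symm_apply (k : ℕ) (c d a : Fin (k + 4)) (hcd : c * d = 1) (j : Fin (k + 4)) :
    (aff k c d a hcd)⁻¹ j = d * j + a := rfl

/-- powers of `finRotate` are translations. -/
theorem finRotate_pow_apply (k : ℕ) (m : ℕ) (j : Fin (k + 4)) :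
    (finRotate (k + 4) ^ m) j = j + (m : Fin (k + 4)) := by
  induction m generalizing j with
  | zero => simp
  | succ m ih =>
    rw [pow_succ, Perm.mul_apply, ih, finRotate_apply]
    push_cast
    ring

/-- conjugating `finRotate` by the affine map gives a power of `finRotate`. -/
theorem aff_conj_finRotate (k : ℕ) (c d a : Fin (k + 4)) (hcd : c * d = 1) :
    aff k c d a hcd * finRotate (k + 4) * (aff k c d a hcd)⁻¹ = finRotate (k + 4) ^ (c : ℕ) := by
  ext j
  rw [Perm.mul_apply, Perm.mul_apply, aff_symm_apply, finRotate_apply, aff_apply,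
    finRotate_pow_apply, Fin.cast_val_eq_self]
  congr 1
  linear_combination j * hcd

theorem two_ne_zero_fin (k : ℕ) : (2 : Fin (k + 4)) ≠ 0 := by
  intro h
  have := congrArg Fin.val h
  simp [Nat.mod_eq_of_lt] at this

theorem two_ne_one_fin (k : ℕ) : (2 : Fin (k + 4)) ≠ 1 := by
  intro h
  have := congrArg Fin.val h
  simp [Nat.mod_eq_of_lt] at this

theorem three_ne_zero_fin (k : ℕ) : (3 : Fin (k + 4)) ≠ 0 := by
  intro h
  have := congrArg Fin.val h
  simp [Nat.mod_eq_of_lt] at this

theorem three_ne_one_fin (k : ℕ) : (3 : Fin (k + 4)) ≠ 1 := by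
  intro h
  have := congrArg Fin.val h
  simp [Nat.mod_eq_of_lt] at this

theorem three_ne_two_fin (k : ℕ) : (3 : Fin (k + 4)) ≠ 2 := by
  intro h
  have := congrArg Fin.val h
  simp [Nat.mod_eq_of_lt] at this

theorem zero_ne_one_fin (k : ℕ) : (0 : Fin (k + 4)) ≠ 1 := by
  intro h
  have := congrArg Fin.val h
  simp [Nat.mod_eq_of_lt] at this

/-- a perm of cycle type `{k+2}` on `k+4` points has exactly two fixed points. -/
theorem exists_two_fixed (k : ℕ) (x : Perm (Fin (k + 4))) (hx : x.cycleType = {k + 2}) :
    ∃ a b : Fin (k + 4), a ≠ b ∧ x.supportᶜ = {a, b} := by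
  have hs : x.support.card = k + 2 := by
    rw [← sum_cycleType, hx]; simp
  have hc : x.supportᶜ.card = 2 := by
    rw [Finset.card_compl, hs, Fintype.card_fin]; omega
  exact Finset.card_eq_two.mp hc

/-- sign of a perm with cycle type `{n}`, `n` odd. -/
theorem sign_of_cycleType_singleton {α : Type*} [Fintype α] [DecidableEq α] (x : Perm α) (n : ℕ)
    (hx : x.cycleType = {n}) (hn : Odd n) : Perm.sign x = 1 := by
  rw [sign_of_cycleType, hx]
  simp only [Multiset.sum_singleton, Multiset.card_singleton]
  exact Even.neg_one_pow (Odd.add_one hn)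

/-- (NORM) -/
theorem core_of_normalized (k : ℕ) (hn : (k + 4).Prime) (hp : (k + 2).Prime)
    (H : ∀ x : Perm (Fin (k + 4)), x 0 = 0 → x 1 = 1 → x 2 = 3 → x.cycleType = {k + 2} →
      alternatingGroup (Fin (k + 4)) ≤
        closure ({x, finRotate (k + 4)} : Set (Perm (Fin (k + 4))))) :
    ∀ x y : Perm (Fin (k + 4)), x.cycleType = {k + 2} → y.cycleType = {k + 4} →
      closure ({x, y} : Set (Perm (Fin (k + 4)))) = alternatingGroup (Fin (k + 4)) := by
  intro x y hx hy
  -- parities
  have hk0 : k ≠ 0 := by
    rintro rfl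
    norm_num at hn
  have hodd2 : Odd (k + 2) := by
    rcases hp.eq_two_or_odd' with h | h
    · omega
    · exact h
  have hodd4 : Odd (k + 4) := by
    rcases hn.eq_two_or_odd' with h | h
    · omega
    · exact h
  apply le_antisymm
  · -- signs
    rw [closure_le]
    intro z hz
    rcases hz with rfl | rfl
    · exact mem_alternatingGroup.mpr (sign_of_cycleType_singleton _ _ hx hodd2)
    · exact mem_alternatingGroup.mpr (sign_of_cycleType_singleton _ _ hy hodd4)
  · -- the main inclusion
    set r := finRotate (k + 4) with hr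
    have hrct : r.cycleType = {k + 4} := cycleType_finRotate (n := k + 2)
    -- conjugate `y` to `r`
    obtain ⟨g, hg⟩ : ∃ g : Perm (Fin (k + 4)), g * y * g⁻¹ = r := by
      have : IsConj y r := isConj_iff_cycleType_eq.mpr (by rw [hy, hrct])
      exact isConj_iff.mp this
    set x1 := g * x * g⁻¹ with hx1
    have hx1ct : x1.cycleType = {k + 2} := by rw [hx1, cycleType_conj, hx]
    -- the two fixed points of `x1`
    obtain ⟨a, b, hab, hfix⟩ := exists_two_fixed k x1 hx1ct
    have hxa : x1 a = a := by
      have : a ∈ x1.supportᶜ := by rw [hfix]; simp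
      simpa [Finset.mem_compl, mem_support] using this
    have hxb : x1 b = b := by
      have : b ∈ x1.supportᶜ := by rw [hfix]; simp
      simpa [Finset.mem_compl, mem_support] using this
    -- the affine map
    have hd : b - a ≠ 0 := sub_ne_zero.mpr (Ne.symm hab)
    obtain ⟨c, hc⟩ := exists_mul_eq_one_fin k hn (b - a) hd
    set h := aff k c (b - a) a hc with hh
    set x2 := h * x1 * h⁻¹ with hx2
    have hx2ct : x2.cycleType = {k + 2} := by rw [hx2, cycleType_conj, hx1ct]
    have hx20 : x2 0 = 0 := by
      rw [hx2, Perm.mul_apply, Perm.mul_apply, hh, aff_symm_apply, mul_zero, zero_add, hxa,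
        aff_apply, sub_self, mul_zero]
    have hx21 : x2 1 = 1 := by
      rw [hx2, Perm.mul_apply, Perm.mul_apply, hh, aff_symm_apply, mul_one, sub_add_cancel, hxb,
        aff_apply, hc]
    -- `x2` is a cycle moving `2` and `3`
    have hx2cyc : x2.IsCycle := by
      rw [← card_cycleType_eq_one, hx2ct]; simp
    obtain ⟨a', b', hab', hfix'⟩ := exists_two_fixed k x2 hx2ct
    have h0mem : (0 : Fin (k + 4)) ∈ x2.supportᶜ := by
      simp [Finset.mem_compl, mem_support, hx20]
    have h1mem : (1 : Fin (k + 4)) ∈ x2.supportᶜ := by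
      simp [Finset.mem_compl, mem_support, hx21]
    have hmoved : ∀ i : Fin (k + 4), i ≠ 0 → i ≠ 1 → x2 i ≠ i := by
      intro i hi0 hi1 hfixi
      have himem : i ∈ x2.supportᶜ := by
        simp [Finset.mem_compl, mem_support, hfixi]
      rw [hfix'] at h0mem h1mem himem
      simp only [Finset.mem_insert, Finset.mem_singleton] at h0mem h1mem himem
      have h01 := zero_ne_one_fin k
      rcases h0mem with h0 | h0 <;> rcases h1mem with h1 | h1 <;> rcases himem with h2 | h2
      all_goals first
        | exact h01 (h0.trans h1.symm)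
        | exact hi0 (h2.trans h0.symm)
        | exact hi1 (h2.trans h1.symm)
    have hx22 : x2 2 ≠ 2 := hmoved 2 (two_ne_zero_fin k) (two_ne_one_fin k)
    have hx23 : x2 3 ≠ 3 := hmoved 3 (three_ne_zero_fin k) (three_ne_one_fin k)
    obtain ⟨i, hi⟩ := hx2cyc.exists_pow_eq hx22 hx23
    set x3 := x2 ^ i with hx3
    have hx30 : x3 0 = 0 := pow_apply_eq_self_of_apply_eq_self hx20 i
    have hx31 : x3 1 = 1 := pow_apply_eq_self_of_apply_eq_self hx21 i
    -- cycle type of `x3`
    have hx3ne : x3 ≠ 1 := by
      intro h1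
      rw [h1] at hi
      exact three_ne_two_fin k hi.symm
    have hx2ord : orderOf x2 = k + 2 := by
      rw [← lcm_cycleType, hx2ct]; simp
    have hx3pow : x3 ^ (k + 2) = 1 := by
      rw [hx3, ← pow_mul, mul_comm, pow_mul, ← hx2ord, pow_orderOf_eq_one, one_pow]
    have hx3ord : orderOf x3 = k + 2 := by
      have : Fact (k + 2).Prime := ⟨hp⟩
      exact orderOf_eq_prime hx3pow hx3ne
    have hx3ct : x3.cycleType = {k + 2} := by
      obtain ⟨n, hn'⟩ := cycleType_prime_order (σ := x3) (by rw [hx3ord]; exact hp)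
      rw [hx3ord] at hn'
      have hsum : x3.support.card = (n + 1) * (k + 2) := by
        rw [← sum_cycleType, hn']; simp; ring
      have hle : x3.support.card ≤ x2.support.card := Finset.card_le_card (support_pow_le x2 i)
      have hs2 : x2.support.card = k + 2 := by
        rw [← sum_cycleType, hx2ct]; simp
      have hn0 : n = 0 := by
        rw [hsum, hs2] at hle
        by_contra hne
        have : 2 * (k + 2) ≤ (n + 1) * (k + 2) := Nat.mul_le_mul_right _ (by omega)
        omega
      rw [hn', hn0]
      rfl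
    -- apply the hypothesis
    have hA := H x3 hx30 hx31 hi hx3ct
    -- everything lies in the conjugate of `closure {x, y}`
    set K := closure ({x, y} : Set (Perm (Fin (k + 4)))) with hK
    set u := h * g with hu
    have hxK : x ∈ K := subset_closure (by simp)
    have hyK : y ∈ K := subset_closure (by simp)
    -- `K' = u K u⁻¹`
    have hconj : ∀ z, z ∈ K → u * z * u⁻¹ ∈ K.map (MulAut.conj u).toMonoidHom := by
      intro z hz
      exact ⟨z, hz, by simp [MulAut.conj_apply]⟩
    have hx2K : x2 ∈ K.map (MulAut.conj u).toMonoidHom := by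
      have := hconj x hxK
      have e : u * x * u⁻¹ = x2 := by
        rw [hx2, hx1, hu]; group
      rwa [e] at this
    have hrcK : r ^ (c : ℕ) ∈ K.map (MulAut.conj u).toMonoidHom := by
      have := hconj y hyK
      have e : u * y * u⁻¹ = r ^ (c : ℕ) := by
        have e1 : u * y * u⁻¹ = h * (g * y * g⁻¹) * h⁻¹ := by rw [hu]; group
        rw [e1, hg]
        exact aff_conj_finRotate k c (b - a) a hc
      rwa [e] at this
    -- `r` is a power of `r ^ c`
    have hrord : orderOf r = k + 4 := by
      rw [← lcm_cycleType, hrct]; simp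
    have hc0 : c ≠ 0 := by
      rintro rfl
      rw [zero_mul] at hc
      exact zero_ne_one_fin k hc
    have hcop : (orderOf r).Coprime (c : ℕ) := by
      rw [hrord]
      apply (Nat.Prime.coprime_iff_not_dvd hn).mpr
      intro hdvd
      have hlt : (c : ℕ) < k + 4 := c.isLt
      have hpos : 0 < (c : ℕ) := by
        rcases Nat.eq_zero_or_pos (c : ℕ) with h0 | h0
        · exact absurd (Fin.ext h0) hc0
        · exact h0
      exact absurd (Nat.le_of_dvd hpos hdvd) (not_le.mpr hlt)
    have hzp : zpowers (r ^ (c : ℕ)) = zpowers r := by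
      apply Subgroup.eq_of_le_of_card_ge
      · rw [zpowers_le]; exact pow_mem (mem_zpowers r) _
      · rw [Nat.card_zpowers, Nat.card_zpowers, hcop.orderOf_pow]
    have hrK : r ∈ K.map (MulAut.conj u).toMonoidHom := by
      have hle : zpowers (r ^ (c : ℕ)) ≤ K.map (MulAut.conj u).toMonoidHom :=
        zpowers_le.mpr hrcK
      rw [hzp] at hle
      exact hle (mem_zpowers r)
    have hx3K : x3 ∈ K.map (MulAut.conj u).toMonoidHom := pow_mem hx2K i
    have hcl : closure ({x3, r} : Set (Perm (Fin (k + 4)))) ≤ K.map (MulAut.conj u).toMonoidHom := by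
      rw [closure_le]
      intro z hz
      rcases hz with rfl | rfl
      · exact hx3K
      · exact hrK
    -- conclude by normality of the alternating group
    intro σ hσ
    have hσ' : u * σ * u⁻¹ ∈ alternatingGroup (Fin (k + 4)) :=
      alternatingGroup.normal.conj_mem σ hσ u
    obtain ⟨κ, hκ, hκe⟩ := hcl (hA hσ')
    have : κ = σ := by
      have h1 : u * κ * u⁻¹ = u * σ * u⁻¹ := by simpa [MulAut.conj_apply] using hκe
      have h2 := congrArg (fun t => u⁻¹ * t * u) h1
      simpa [mul_assoc] using h2
    rw [← this]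
    exact hκ

end Cfsg.Agent.Lib.H13.AG
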