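import Mathlib
import Cfsg.Prelude.Def_Blocks
import Cfsg.Prelude.Def_CharExt
import Cfsg.Agent.Lib.H21.AD.Defs
import Cfsg.Agent.Lib.H28.NT.Defs
import Cfsg.Agent.Lib.H21.AP.Defs
import Cfsg.Agent.Lib.H24.CharLinearMul
import Cfsg.Agent.Lib.H4.ADCOSET
import Cfsg.Agent.Lib.H4.ADEND1
import Cfsg.Agent.Lib.H6.ADLC4

/-!
# S4551, piece (EXT) (helper13): a principal extension exists as soon as some extension exists

= the body of `Cfsg/Agent/S4937.lean` in function form.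
Blueprint: `tools/blueprints/S4551.md`; exact signature of `tools/blueprints/S4551_sigs.lean`.
-/

set_option autoImplicit false
open Cfsg.Agent.Lib.H21.AD Cfsg.Agent.Lib.H28.NT Cfsg.Agent.Lib.H21.AP

namespace Cfsg.Agent.Lib.H13.AP

variable {G : Type*} [Group G]

/-- `sSum` only depends on the values on `J` (local copy). -/
theorem sSum_congr_ext (p : ℕ) (J : Subgroup G) (f f' : G → ℂ) (h : ∀ g ∈ J, f g = f' g) :
    sSum p J f = sSum p J f' := by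
  classical
  unfold sSum
  refine finsum_congr (fun g => ?_)
  by_cases hg : g ∈ J ∧ ¬ p ∣ orderOf g
  · rw [if_pos hg, if_pos hg, h g hg.1]
  · rw [if_neg hg, if_neg hg]

variable [Finite G] {p : ℕ} {M : Ideal Cfsg.AlgInt} {N Q : Subgroup G}

/-- (EXT) = the body of `Cfsg/Agent/S4937.lean` in function form: `H6.AD.exists_lam`, `χ := ψ·λ`,
`H4.AD.coset_count` + `H4.AD.coset_const` with `J = ⊤`. -/
theorem exists_principal_ext [N.Normal] (hM : Cfsg.IsPModular p M) (hQN : Q ≤ N) (hQ : ¬ p ∣ Q.relIndex N)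
    (hcov : ∀ g : G, ∃ n ∈ N, ∃ z ∈ Subgroup.centralizer (Q : Set G), g = n * z)
    (ψ : G → ℂ) (hψ : Cfsg.IsIrrCharacter G ψ) (hψN : Cfsg.IsIrrCharacter N (fun n : N => ψ n))
    (hB : sSum p N ψ ≠ 0) :
    ∃ χ : G → ℂ, Cfsg.IsIrrCharacter G χ ∧ (∀ n ∈ N, χ n = ψ n) ∧ sSum p ⊤ χ ≠ 0 := by
  obtain ⟨lam, hlamN, hlam⟩ := Cfsg.Agent.Lib.H6.AD.exists_lam hM N Q hQN hQ hcov ψ hψ hψN hB
  refine ⟨fun g => ψ g * (lam g : ℂ), Cfsg.Agent.Lib.H24.isIrrCharacter_mul_hom ψ hψ lam, ?_, ?_⟩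
  · intro n hn
    show ψ n * (lam n : ℂ) = ψ n
    rw [hlamN n hn]; simp
  · obtain ⟨k, hk, hsum⟩ := Cfsg.Agent.Lib.H4.AD.coset_count p N ⊤ le_top (fun g => ψ g * (lam g : ℂ))
      (fun y _ hyp => Cfsg.Agent.Lib.H4.AD.coset_const hM N Q hQN hQ hcov ψ hψ hψN lam hlamN hlam y hyp)
    rw [hsum]
    have h1 : sSum p N (fun g => ψ g * (lam g : ℂ)) = sSum p N ψ := by
      apply sSum_congr_ext
      intro g hg
      show ψ g * (lam g : ℂ) = _
      rw [hlamN g hg]; simp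
    rw [h1]
    exact mul_ne_zero (Nat.cast_ne_zero.2 hk.ne') hB

end Cfsg.Agent.Lib.H13.AP
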