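import Mathlib
import Cfsg.Prelude.Def_Blocks
import Cfsg.Prelude.Def_CharExt
import Cfsg.Agent.Lib.H21.AD.Defs
import Cfsg.Agent.Lib.H28.NT.Defs
import Cfsg.Agent.Lib.H21.AP.Defs
import Cfsg.Agent.Lib.H21.AP.Copies
import Cfsg.Agent.Lib.L0.CharOps

/-!
# S4551, piece (UNIQT) (helper13): two principal extensions to `G` agree

Blueprint: `tools/blueprints/S4551.md`; exact signature of `tools/blueprints/S4551_sigs.lean`.
-/

set_option autoImplicit false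
open Cfsg.Agent.Lib.H21.AD Cfsg.Agent.Lib.H28.NT Cfsg.Agent.Lib.H21.AP

namespace Cfsg.Agent.Lib.H13.AP

variable {G : Type*} [Group G] [Finite G] {p : ℕ} {M : Ideal Cfsg.AlgInt} {N Q : Subgroup G} {θ : G → ℂ}

omit [Finite G] in
/-- an irreducible character of `G` is irreducible on `⊤` -/
theorem isIrr_top (χ : G → ℂ) (hχ : Cfsg.IsIrrCharacter G χ) :
    Cfsg.IsIrrCharacter (⊤ : Subgroup G) (fun y : (⊤ : Subgroup G) => χ y) :=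
  Cfsg.Agent.Lib.L0.isIrrCharacter_comp_of_surjective
    (Subgroup.topEquiv (G := G)).toMonoidHom (Subgroup.topEquiv (G := G)).surjective hχ

/-- (UNIQT) two principal extensions to `G` agree: both are `GoodA` on `⊤`, `keyF'` with `J₁ = J₂ = ⊤`. -/
theorem principal_ext_unique [N.Normal] (h : HypA p M N Q θ) (hidx : ¬ p ∣ N.index) (χ₁ χ₂ : G → ℂ)
    (h₁ : Cfsg.IsIrrCharacter G χ₁) (h₂ : Cfsg.IsIrrCharacter G χ₂) (h₁N : ∀ n ∈ N, χ₁ n = θ n)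
    (h₂N : ∀ n ∈ N, χ₂ n = θ n) (h₁B : sSum p ⊤ χ₁ ≠ 0) (h₂B : sSum p ⊤ χ₂ ≠ 0) : ∀ g, χ₁ g = χ₂ g := by
  intro g
  have hp2 : ¬ p ∣ N.relIndex ⊤ := by rwa [Subgroup.relIndex_top_right]
  exact keyF' h ⊤ ⊤ le_top le_rfl hp2 χ₁ χ₂ ⟨⟨isIrr_top χ₁ h₁, h₁N⟩, h₁B⟩ ⟨⟨isIrr_top χ₂ h₂, h₂N⟩, h₂B⟩
    g (Subgroup.mem_top g)

end Cfsg.Agent.Lib.H13.AP
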