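/-
EO generic layer (3): `Ω(Q)` is generated by its long root elements `1 + N`, each of which comes with a whole root
family `1 + c N ∈ Ω(Q)` (`N² = 0`, image of `N` in a plane).  Any non-degenerate `Q` on `ι → F`, `7 ≤ |ι|`, all `q`.
-/
import Mathlib
import Cfsg.Agent.Lib.H13.AschEOGen

set_option autoImplicit false
set_option linter.unusedSimpArgs false
set_option linter.unusedSectionVars false
set_option linter.unusedVariables false

namespace Cfsg.Agent.Lib.H13.EOP2

open Cfsg Cfsg.Geo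
open Matrix Module
open Cfsg.Agent.Lib.H28 Cfsg.Agent.Lib.H11.SubspMax
open Cfsg.Agent.Lib.H11.CD Cfsg.Agent.Lib.H11.SiegelGen Cfsg.Agent.Lib.H11.OrMax
open Cfsg.Agent.Lib.H11.OmTs
open scoped MatrixGroups

/-- `N` is the nilpotent part of a root family of `G`: `N² = 0`, the image of `N` lies in a plane, and
`1 + c N ∈ G` for every scalar `c`. -/
def IsRootFam {F : Type*} [Field F] {ι : Type} [Fintype ι] [DecidableEq ι] (G : Subgroup (GL ι F))
    (N : Matrix ι ι F) : Prop :=
  N * N = 0 ∧ (∃ u v : ι → F, ∀ w, N *ᵥ w ∈ Submodule.span F ({u, v} : Set (ι → F))) ∧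
    ∀ c : F, ∃ g ∈ G, (g : Matrix ι ι F) = 1 + c • N

section fin

variable {F : Type*} [Field F] [Fintype F] {n : ℕ} (Q : QuadraticForm F (Fin n → F))

set_option quotPrecheck false in
local notation "P" => QuadraticMap.polar (⇑Q)

/-- the nilpotent part of the Siegel matrices -/
noncomputable def rootMat (u v : Fin n → F) : Matrix (Fin n) (Fin n) F :=
  Matrix.vecMulVec v (Cfsg.polarVec (⇑Q) u) - Matrix.vecMulVec u (Cfsg.polarVec (⇑Q) v)

theorem siegelMatrix_eq (u v : Fin n → F) (c : F) :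
    Cfsg.siegelMatrix (⇑Q) u v c = 1 + c • rootMat Q u v := rfl

theorem rootMat_mulVec (u v w : Fin n → F) :
    rootMat Q u v *ᵥ w = P u w • v - P v w • u := by
  have h := Cfsg.Agent.Lib.H4.siegelMatrix_mulVec Q u v 1 w
  rw [siegelMatrix_eq, one_smul, Matrix.add_mulVec, Matrix.one_mulVec, one_mul, one_mul,
    add_sub_assoc] at h
  exact add_left_cancel h

theorem rootMat_sq (u v : Fin n → F) (hu : Q u = 0) (hv : Q v = 0) (huv : P u v = 0) :
    rootMat Q u v * rootMat Q u v = 0 := by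
  have huu : P u u = 0 := by rw [P_self, hu, mul_zero]
  have hvv : P v v = 0 := by rw [P_self, hv, mul_zero]
  have hvu : P v u = 0 := by rw [P_comm]; exact huv
  apply Matrix.toLin'.injective
  apply LinearMap.ext
  intro x
  rw [Matrix.toLin'_apply, ← Matrix.mulVec_mulVec, rootMat_mulVec Q u v x, Matrix.mulVec_sub,
    Matrix.mulVec_smul, Matrix.mulVec_smul, rootMat_mulVec Q u v v, rootMat_mulVec Q u v u, huv, hvv,
    huu, hvu]
  simp

theorem isRootFam_smul_rootMat (hQ : (QuadraticMap.polarBilin Q).Nondegenerate) (hn : 7 ≤ n)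
    (u v : Fin n → F) (hu : Q u = 0) (hv : Q v = 0) (huv : P u v = 0) (c : F) :
    IsRootFam (omegaGL ⇑Q) (c • rootMat Q u v) := by
  refine ⟨?_, ⟨u, v, fun w => ?_⟩, fun c' => ?_⟩
  · rw [Matrix.smul_mul, Matrix.mul_smul, rootMat_sq Q u v hu hv huv, smul_zero, smul_zero]
  · rw [Matrix.smul_mulVec, rootMat_mulVec]
    have h1 : u ∈ Submodule.span F ({u, v} : Set (Fin n → F)) :=
      Submodule.subset_span (Set.mem_insert _ _)
    have h2 : v ∈ Submodule.span F ({u, v} : Set (Fin n → F)) :=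
      Submodule.subset_span (Set.mem_insert_of_mem _ (Set.mem_singleton _))
    exact Submodule.smul_mem _ _ (Submodule.sub_mem _ (Submodule.smul_mem _ _ h2)
      (Submodule.smul_mem _ _ h1))
  · refine ⟨_, coe_mem_omegaGL Q (siegEl Q u v hu hv huv (c' * c)) ?_, ?_⟩
    · rw [comm_eq_S Q hQ hn]
      exact siegEl_mem Q u v hu hv huv _
    · rw [siegEl_val, siegelMatrix_eq, smul_smul]

/-- `Ω(Q)` is generated by root elements `1 + N` belonging to root families (over `Fin n`). -/
theorem omegaGL_le_of_root_gens_fin (hQ : (QuadraticMap.polarBilin Q).Nondegenerate) (hn : 7 ≤ n)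
    (C : Subgroup (GL (Fin n) F))
    (hC : ∀ N : Matrix (Fin n) (Fin n) F, IsRootFam (omegaGL ⇑Q) N → ∀ g ∈ omegaGL ⇑Q,
      (g : Matrix (Fin n) (Fin n) F) = 1 + N → g ∈ C) :
    omegaGL ⇑Q ≤ C := by
  have hS := comm_eq_S Q hQ hn
  intro t ht
  obtain ⟨s, hs, rfl⟩ := Subgroup.mem_map.1 ht
  have hs' : s ∈ S Q := by rw [← hS]; exact hs
  unfold S at hs'
  induction hs' using Subgroup.closure_induction with
  | mem x hx =>
    obtain ⟨u, v, c, hu, hv, huv, hmat⟩ := hx
    refine hC _ (isRootFam_smul_rootMat Q hQ hn u v hu hv huv c) _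
      (Subgroup.mem_map.2 ⟨x, ?_, rfl⟩) ?_
    · show x ∈ commutator _
      rw [hS]
      exact Subgroup.subset_closure ⟨u, v, c, hu, hv, huv, hmat⟩
    · show ((x : GL (Fin n) F) : Matrix (Fin n) (Fin n) F) = _
      rw [hmat, siegelMatrix_eq]
  | one => exact C.one_mem
  | mul x y hx hy hx' hy' =>
    have hxc : x ∈ commutator _ := by rw [hS]; exact hx
    have hyc : y ∈ commutator _ := by rw [hS]; exact hy
    have := C.mul_mem (hx' hxc (Subgroup.mem_map.2 ⟨x, hxc, rfl⟩))
      (hy' hyc (Subgroup.mem_map.2 ⟨y, hyc, rfl⟩))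
    simpa using this
  | inv x hx hx' =>
    have hxc : x ∈ commutator _ := by rw [hS]; exact hx
    have := C.inv_mem (hx' hxc (Subgroup.mem_map.2 ⟨x, hxc, rfl⟩))
    simpa using this

end fin

section gen

variable {F : Type*} [Field F] [Fintype F] {ι : Type} [Fintype ι] [DecidableEq ι]

theorem symm_mem_omegaGL {κ : Type} [Fintype κ] [DecidableEq κ] (e : ι ≃ κ) (Q : (ι → F) → F)
    (g' : GL κ F) (hg' : g' ∈ omegaGL (H11.IsoReindex.tr e Q)) :
    (H11.IsoReindex.glReindex (F := F) e).symm g' ∈ omegaGL Q := by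
  rw [← comap_omegaGL e Q, Subgroup.mem_comap]
  show H11.IsoReindex.glReindex e ((H11.IsoReindex.glReindex (F := F) e).symm g') ∈ _
  rw [MulEquiv.apply_symm_apply]
  exact hg'

theorem symm_val {κ : Type} [Fintype κ] [DecidableEq κ] (e : ι ≃ κ) (g' : GL κ F) :
    (((H11.IsoReindex.glReindex (F := F) e).symm g' : GL ι F) : Matrix ι ι F) =
      (g' : Matrix κ κ F).submatrix e e := by
  have h1 : ((H11.IsoReindex.glReindex e ((H11.IsoReindex.glReindex (F := F) e).symm g') : GL _ F) :
      Matrix _ _ F) =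
      Matrix.reindex e e (((H11.IsoReindex.glReindex (F := F) e).symm g' : GL ι F) : Matrix ι ι F) :=
    H11.IsoReindex.glReindex_val e _
  rw [MulEquiv.apply_symm_apply] at h1
  ext i j
  have := congrFun (congrFun h1 (e i)) (e j)
  simp only [Matrix.reindex_apply, Matrix.submatrix_apply, Equiv.symm_apply_apply] at this
  rw [← this, Matrix.submatrix_apply]

theorem isRootFam_submatrix {κ : Type} [Fintype κ] [DecidableEq κ] (e : ι ≃ κ) (Q : (ι → F) → F)
    (N' : Matrix κ κ F) (h : IsRootFam (omegaGL (H11.IsoReindex.tr e Q)) N') :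
    IsRootFam (omegaGL Q) (N'.submatrix e e) := by
  obtain ⟨hNN, ⟨u, v, huv⟩, hfam⟩ := h
  refine ⟨?_, ⟨u ∘ e, v ∘ e, fun w => ?_⟩, fun c => ?_⟩
  · rw [Matrix.submatrix_mul_equiv, hNN]
    rfl
  · have h1 := huv (w ∘ e.symm)
    have h2 := Submodule.mem_map_of_mem (f := LinearMap.funLeft F F e) h1
    rw [Submodule.map_span, Set.image_pair] at h2
    have h3 : N'.submatrix e e *ᵥ w = LinearMap.funLeft F F e (N' *ᵥ (w ∘ e.symm)) := by
      funext i
      simp only [LinearMap.funLeft_apply, Matrix.mulVec, dotProduct, Matrix.submatrix_apply,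
        Function.comp_apply]
      rw [← Equiv.sum_comp e]
      simp
    rw [h3]
    exact h2
  · obtain ⟨g', hg', hg'e⟩ := hfam c
    refine ⟨_, symm_mem_omegaGL e Q g' hg', ?_⟩
    rw [symm_val, hg'e]
    ext i j
    simp [Matrix.add_apply, Matrix.one_apply, Matrix.smul_apply]

open Cfsg.Agent.Lib.H29.Orth in
/-- **generation**: `Ω(Q)` lies in every subgroup containing its root elements `1 + N` (`N` a root family). -/
theorem omegaGL_le_of_root_gens (Q : (ι → F) → F) (hQ : IsNondegenerateQuadraticForm Q)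
    (hn : 7 ≤ Fintype.card ι) (C : Subgroup (GL ι F))
    (hC : ∀ N : Matrix ι ι F, IsRootFam (omegaGL Q) N → ∀ g ∈ omegaGL Q,
      (g : Matrix ι ι F) = 1 + N → g ∈ C) :
    omegaGL Q ≤ C := by
  obtain ⟨e, -⟩ : ∃ e : ι ≃ Fin (Fintype.card ι), True := ⟨Fintype.equivFin ι, trivial⟩
  have hcom := comap_omegaGL (F := F) e Q
  have key := omegaGL_le_of_root_gens_fin (H11.IsoReindex.trQF e (toQF Q hQ))
    (H11.IsoReindex.nondeg_trQF e _ (toQF_nondegenerate Q hQ)) hn
    (C.map (H11.IsoReindex.glReindex (F := F) e).toMonoidHom) ?_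
  · rw [H11.IsoReindex.coe_trQF, coe_toQF] at key
    intro w hw
    rw [← hcom, Subgroup.mem_comap] at hw
    obtain ⟨c, hc, hcw⟩ := Subgroup.mem_map.1 (key hw)
    have : c = w := (H11.IsoReindex.glReindex (F := F) e).injective hcw
    rw [← this]; exact hc
  · intro N' hN' t ht htN
    rw [H11.IsoReindex.coe_trQF, coe_toQF] at ht hN'
    have hgt : H11.IsoReindex.glReindex e ((H11.IsoReindex.glReindex (F := F) e).symm t) = t :=
      (H11.IsoReindex.glReindex (F := F) e).apply_symm_apply t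
    refine Subgroup.mem_map.2 ⟨(H11.IsoReindex.glReindex (F := F) e).symm t,
      hC _ (isRootFam_submatrix e Q N' hN') _ (symm_mem_omegaGL e Q t ht) ?_, hgt⟩
    rw [symm_val, htN]
    ext i j
    simp [Matrix.add_apply, Matrix.one_apply]

end gen

end Cfsg.Agent.Lib.H13.EOP2
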