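/-
EO generic layer (4): `Ω(Q)` stabilises no `m`-decomposition (class 2, including pairs of totally singular subspaces):
part A (at least three scalars, any index type) and the case of lines over `F₂`.
-/
import Mathlib
import Cfsg.Agent.Lib.H13.AschEORoot

set_option autoImplicit false
set_option linter.unusedSimpArgs false
set_option linter.unusedSectionVars false
set_option linter.unusedVariables false

namespace Cfsg.Agent.Lib.H13.EOP2

open Cfsg Cfsg.Geo
open Matrix Module
open scoped MatrixGroups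

section decomp

variable {F : Type*} [Field F] {ι : Type} [Fintype ι] [DecidableEq ι]

theorem mem_iSup_ne {t : ℕ} (D : Fin t → Submodule F (ι → F)) {i j : Fin t} (hij : j ≠ i)
    {y : ι → F} (hy : y ∈ D j) : y ∈ ⨆ l, ⨆ (_ : l ≠ i), D l :=
  Submodule.mem_iSup_of_mem j (Submodule.mem_iSup_of_mem hij hy)

theorem eq_zero_of_mem_of_mem_iSup_ne {t m : ℕ} {D : Fin t → Submodule F (ι → F)}
    (hD : IsMDecomposition m D) {i : Fin t} {x : ι → F} (hi : x ∈ D i)
    (hx : x ∈ ⨆ l, ⨆ (_ : l ≠ i), D l) : x = 0 := by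
  have hdisj := hD.indep i
  rw [disjoint_iff] at hdisj
  have : x ∈ D i ⊓ ⨆ l, ⨆ (_ : l ≠ i), D l := ⟨hi, hx⟩
  rwa [hdisj, Submodule.mem_bot] at this

theorem block_ne_bot {t m : ℕ} {D : Fin t → Submodule F (ι → F)} (hD : IsMDecomposition m D)
    (i : Fin t) : D i ≠ ⊥ := by
  intro h
  have := hD.finrank_eq i
  rw [h, finrank_bot] at this
  have := hD.pos
  omega

theorem block_ne_top {t m : ℕ} {D : Fin t → Submodule F (ι → F)} (hD : IsMDecomposition m D)
    (i : Fin t) : D i ≠ ⊤ := by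
  intro h
  have ht := hD.two_le
  obtain ⟨j, hj⟩ : ∃ j : Fin t, j ≠ i := by
    by_cases h0 : i = ⟨0, by omega⟩
    · exact ⟨⟨1, by omega⟩, by rw [h0]; intro h; simpa using congrArg Fin.val h⟩
    · exact ⟨⟨0, by omega⟩, fun h => h0 h.symm⟩
  obtain ⟨y, hy, hy0⟩ := Submodule.exists_mem_ne_zero_of_ne_bot (block_ne_bot hD j)
  apply hy0
  apply eq_zero_of_mem_of_mem_iSup_ne hD (i := i) (by rw [h]; exact Submodule.mem_top)
  exact mem_iSup_ne D hj hy

/-- the action of an element of the decomposition stabiliser on vectors of a block -/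
theorem mulVec_mem_of_mem_decompositionStabilizer {t : ℕ} {D : Fin t → Submodule F (ι → F)}
    {g : GL ι F} {σ : Equiv.Perm (Fin t)}
    (hσ : ∀ i, (D i).map (Matrix.toLin' (g : Matrix ι ι F)) = D (σ i)) {i : Fin t} {x : ι → F}
    (hx : x ∈ D i) : (g : Matrix ι ι F) *ᵥ x ∈ D (σ i) := by
  rw [← hσ i, ← Matrix.toLin'_apply]
  exact Submodule.mem_map_of_mem hx

/-- **A1**: with two distinct non-zero scalars, a root family inside a decomposition stabiliser maps every block into
itself. -/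
theorem rootFam_block {c c' : F} (hc : c ≠ 0) (hc' : c' ≠ 0) (hcc : c ≠ c')
    (G : Subgroup (GL ι F)) {t m : ℕ} {D : Fin t → Submodule F (ι → F)} (hD : IsMDecomposition m D)
    (hle : G ≤ decompositionStabilizer D) (N : Matrix ι ι F)
    (hfam : ∀ c : F, ∃ g ∈ G, (g : Matrix ι ι F) = 1 + c • N) (i : Fin t) (x : ι → F) (hx : x ∈ D i) :
    N *ᵥ x ∈ D i := by
  obtain ⟨g, hgG, hg⟩ := hfam c
  obtain ⟨g', hgG', hg'⟩ := hfam c'
  obtain ⟨σ, hσ⟩ := hle hgG
  obtain ⟨σ', hσ'⟩ := hle hgG'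
  have h1 := mulVec_mem_of_mem_decompositionStabilizer hσ hx
  have h1' := mulVec_mem_of_mem_decompositionStabilizer hσ' hx
  rw [hg, Matrix.add_mulVec, Matrix.one_mulVec, Matrix.smul_mulVec] at h1
  rw [hg', Matrix.add_mulVec, Matrix.one_mulVec, Matrix.smul_mulVec] at h1'
  by_cases hs : σ i = i
  · rw [hs] at h1
    have h2 := (D i).sub_mem h1 hx
    rw [add_sub_cancel_left] at h2
    have h3 := (D i).smul_mem c⁻¹ h2
    rwa [smul_smul, inv_mul_cancel₀ hc, one_smul] at h3
  by_cases hs' : σ' i = i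
  · rw [hs'] at h1'
    have h2 := (D i).sub_mem h1' hx
    rw [add_sub_cancel_left] at h2
    have h3 := (D i).smul_mem c'⁻¹ h2
    rwa [smul_smul, inv_mul_cancel₀ hc', one_smul] at h3
  -- both move the block: `x = 0`
  have h4 : (c' - c) • x ∈ ⨆ l, ⨆ (_ : l ≠ i), D l := by
    have e1 : (c' - c) • x = c' • (x + c • N *ᵥ x) - c • (x + c' • N *ᵥ x) := by
      rw [smul_add, smul_add, smul_smul, smul_smul, mul_comm c' c, sub_smul]
      abel
    rw [e1]
    exact Submodule.sub_mem _ (Submodule.smul_mem _ _ (mem_iSup_ne D hs h1))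
      (Submodule.smul_mem _ _ (mem_iSup_ne D hs' h1'))
  have h5 := eq_zero_of_mem_of_mem_iSup_ne hD ((D i).smul_mem (c' - c) hx) h4
  have h6 : x = 0 := by
    rcases smul_eq_zero.1 h5 with h | h
    · exact absurd (sub_eq_zero.1 h).symm hcc
    · exact h
  rw [h6, Matrix.mulVec_zero]
  exact (D i).zero_mem

/-- **A2**: a unipotent `1 + N`, `N² = 0`, with `N W ⊆ W` lies in the stabiliser of `W`. -/
theorem mem_subspaceStabilizer_of_nil (g : GL ι F) (N : Matrix ι ι F) (hg : (g : Matrix ι ι F) = 1 + N)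
    (hNN : N * N = 0) (W : Submodule F (ι → F)) (hW : ∀ x ∈ W, N *ᵥ x ∈ W) :
    g ∈ subspaceStabilizer W := by
  intro v
  show v ∈ W ↔ (g : Matrix ι ι F) *ᵥ v ∈ W
  rw [hg, Matrix.add_mulVec, Matrix.one_mulVec]
  constructor
  · intro hv
    exact W.add_mem hv (hW v hv)
  · intro hv
    have h1 := hW _ hv
    rw [Matrix.mulVec_add, Matrix.mulVec_mulVec, hNN, Matrix.zero_mulVec, add_zero] at h1
    have := W.sub_mem hv h1
    rwa [add_sub_cancel_right] at this

end decomp

section main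

variable {F : Type*} [Field F] [Fintype F] {ι : Type} [Fintype ι] [DecidableEq ι]

/-- **class 2, at least three scalars**: `Ω(Q)` stabilises no `m`-decomposition. -/
theorem not_omegaGL_le_decompositionStabilizer_of_three (h3 : 3 ≤ Fintype.card F) (Q : (ι → F) → F)
    (hQ : IsNondegenerateQuadraticForm Q) (hn : 7 ≤ Fintype.card ι) {t m : ℕ}
    (D : Fin t → Submodule F (ι → F)) (hD : IsMDecomposition m D) :
    ¬ omegaGL Q ≤ decompositionStabilizer D := by
  intro hle
  obtain ⟨a, b, c, hab, hac, hbc⟩ := Fintype.two_lt_card_iff.1 (by omega : 2 < Fintype.card F)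
  obtain ⟨c₁, c₂, hc₁, hc₂, hcc⟩ : ∃ c₁ c₂ : F, c₁ ≠ 0 ∧ c₂ ≠ 0 ∧ c₁ ≠ c₂ := by
    by_cases ha : a = 0
    · exact ⟨b, c, fun h => hab (ha.trans h.symm), fun h => hac (ha.trans h.symm), hbc⟩
    · by_cases hb : b = 0
      · exact ⟨a, c, ha, fun h => hbc (hb.trans h.symm), hac⟩
      · exact ⟨a, b, ha, hb, hab⟩
  have ht := hD.two_le
  set i₀ : Fin t := ⟨0, by omega⟩ with hi₀
  have key : omegaGL Q ≤ subspaceStabilizer (D i₀) := by
    apply omegaGL_le_of_root_gens Q hQ hn
    intro N hN g hg hgN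
    exact mem_subspaceStabilizer_of_nil g N hgN hN.1 (D i₀)
      (fun x hx => rootFam_block hc₁ hc₂ hcc (omegaGL Q) hD hle N hN.2.2 i₀ x hx)
  exact (omegaGL_irreducible Q hQ hn _ key).elim (block_ne_bot hD i₀) (block_ne_top hD i₀)

end main

end Cfsg.Agent.Lib.H13.EOP2
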