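/-
EO generic layer (5): `Ω(Q)` stabilises no `m`-decomposition (class 2), the field with two elements, and the final
statement for all `q`.
-/
import Mathlib
import Cfsg.Agent.Lib.H13.AschEOB2a
import Cfsg.Agent.Lib.H17.AschSP2F1

set_option autoImplicit false
set_option linter.unusedSimpArgs false
set_option linter.unusedSectionVars false
set_option linter.unusedVariables false

namespace Cfsg.Agent.Lib.H13.EOP2

open Cfsg Cfsg.Geo
open Matrix Module
open Cfsg.Agent.Lib.H28 Cfsg.Agent.Lib.H11.SubspMax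
open Cfsg.Agent.Lib.H11.CD Cfsg.Agent.Lib.H11.SiegelGen Cfsg.Agent.Lib.H11.OrMax
open Cfsg.Agent.Lib.H11.OmTs
open scoped MatrixGroups

theorem eq_zero_or_one_of_card_two {F : Type*} [Field F] [Fintype F] (h2 : Fintype.card F = 2) (c : F) :
    c = 0 ∨ c = 1 := by
  by_contra hcon
  push Not at hcon
  have : 2 < Fintype.card F :=
    Fintype.two_lt_card_iff.2 ⟨0, 1, c, zero_ne_one, fun h => hcon.1 h.symm, fun h => hcon.2 h.symm⟩
  omega

section lines

variable {F : Type*} [Field F] [Fintype F] {ι : Type} [Fintype ι] [DecidableEq ι]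

/-- over `F₂` a group stabilising a decomposition into lines fixes the sum of the generators -/
theorem exists_fixed_of_lines (h2 : Fintype.card F = 2) (G : Subgroup (GL ι F)) {t : ℕ}
    (D : Fin t → Submodule F (ι → F)) (hD : IsMDecomposition 1 D)
    (hle : G ≤ decompositionStabilizer D) :
    ∃ v : ι → F, v ≠ 0 ∧ ∀ g ∈ G, (g : Matrix ι ι F) *ᵥ v = v := by
  have hex : ∀ i, ∃ d : ι → F, d ∈ D i ∧ d ≠ 0 := fun i =>
    Submodule.exists_mem_ne_zero_of_ne_bot (block_ne_bot hD i)
  choose d hdD hd0 using hex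
  have hall : ∀ i, ∀ x ∈ D i, x = 0 ∨ x = d i := by
    intro i x hx
    obtain ⟨c, hc⟩ := exists_smul_eq_of_finrank_eq_one (hD.finrank_eq i)
      (x := (⟨d i, hdD i⟩ : ↥(D i))) (fun h => hd0 i (congrArg Subtype.val h)) ⟨x, hx⟩
    have hc' : c • d i = x := congrArg Subtype.val hc
    rcases eq_zero_or_one_of_card_two h2 c with rfl | rfl
    · left; rw [← hc', zero_smul]
    · right; rw [← hc', one_smul]
  refine ⟨∑ i, d i, ?_, ?_⟩
  · intro h0
    have := (iSupIndep_iff_finsetSum_eq_zero_imp_eq_zero D).1 hD.indep Finset.univ d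
      (fun i _ => hdD i) h0
    have ht := hD.two_le
    exact hd0 ⟨0, by omega⟩ (this _ (Finset.mem_univ _))
  · intro g hg
    obtain ⟨σ, hσ⟩ := hle hg
    have hgd : ∀ i, (g : Matrix ι ι F) *ᵥ d i = d (σ i) := by
      intro i
      rcases hall (σ i) _ (mulVec_mem_of_mem_decompositionStabilizer hσ (hdD i)) with h | h
      · exfalso
        apply hd0 i
        have h1 := congrArg (fun z => ((g⁻¹ : GL ι F) : Matrix ι ι F) *ᵥ z) h
        simp only [Matrix.mulVec_mulVec, Matrix.mulVec_zero] at h1
        rwa [← Units.val_mul, inv_mul_cancel, Units.val_one, Matrix.one_mulVec] at h1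
      · exact h
    rw [Matrix.mulVec_sum]
    simp only [hgd]
    exact Equiv.sum_comp σ d

theorem not_omegaGL_le_decompositionStabilizer_lines_two (h2 : Fintype.card F = 2) (Q : (ι → F) → F)
    (hQ : IsNondegenerateQuadraticForm Q) (hn : 7 ≤ Fintype.card ι) {t : ℕ}
    (D : Fin t → Submodule F (ι → F)) (hD : IsMDecomposition 1 D) :
    ¬ omegaGL Q ≤ decompositionStabilizer D := by
  intro hle
  obtain ⟨v, hv0, hv⟩ := exists_fixed_of_lines h2 (omegaGL Q) D hD hle
  have key : omegaGL Q ≤ subspaceStabilizer (Submodule.span F {v}) := by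
    intro g hg
    apply mem_subspaceStabilizer_of_fix
    intro x hx
    obtain ⟨c, rfl⟩ := Submodule.mem_span_singleton.1 hx
    rw [Matrix.mulVec_smul, hv g hg]
  rcases omegaGL_irreducible Q hQ hn _ key with h | h
  · apply hv0
    have : v ∈ Submodule.span F {v} := Submodule.mem_span_singleton_self v
    rwa [h, Submodule.mem_bot] at this
  · have h1 : finrank F (Submodule.span F {v}) = 1 := finrank_span_singleton hv0
    rw [h, finrank_top, Module.finrank_fintype_fun_eq_card] at h1
    omega

end lines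

section two

variable {F : Type*} [Field F] [Fintype F] {n : ℕ} (Q : QuadraticForm F (Fin n → F))

set_option quotPrecheck false in
local notation "P" => QuadraticMap.polar (⇑Q)

/-- the key step over any field: if `sg u y` moves the block `D i` (which happens as soon as
`y ∉ D i + ⟨u⟩`), then `P y k ≠ 0` for every non-zero `k ∈ D i` orthogonal to `u`. -/
theorem polar_ne_zero_of_not_mem (hQ : (QuadraticMap.polarBilin Q).Nondegenerate) (hn : 7 ≤ n)
    {t m : ℕ} {D : Fin t → Submodule F (Fin n → F)} (hD : IsMDecomposition m D)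
    (hle : omegaGL ⇑Q ≤ decompositionStabilizer D) {u : Fin n → F} (hu : Q u = 0) {i : Fin t}
    {z₀ : Fin n → F} (hz₀ : z₀ ∈ D i) (hz₀u : P u z₀ ≠ 0) {k : Fin n → F} (hk : k ∈ D i) (hk0 : k ≠ 0)
    (hku : P u k = 0) {y : Fin n → F} (huy : P u y = 0) (hy : y ∉ D i ⊔ Submodule.span F {u}) :
    P y k ≠ 0 := by
  intro hyk
  obtain ⟨σ, hσ⟩ := hle (sg_mem_omegaGL Q hQ hn u y hu huy)
  have hact : ∀ x, ((sg Q u y : ↥(Cfsg.isometryGroup F ⇑Q)) : GL (Fin n) F).1 *ᵥ x =
      x + P u x • y - P y x • u - (Q y * P u x) • u := fun x => sg_act Q u y hu huy x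
  have hsi : σ i ≠ i := by
    intro hs
    apply hy
    have h1 := mulVec_mem_of_mem_decompositionStabilizer hσ hz₀
    rw [hs, hact] at h1
    have h2 : P u z₀ • y = (z₀ + P u z₀ • y - P y z₀ • u - (Q y * P u z₀) • u - z₀) +
        (P y z₀ + Q y * P u z₀) • u := by
      rw [add_smul]; abel
    have h3 : P u z₀ • y ∈ D i ⊔ Submodule.span F {u} := by
      rw [h2]
      exact Submodule.add_mem_sup ((D i).sub_mem h1 hz₀)
        (Submodule.smul_mem _ _ (Submodule.mem_span_singleton_self u))
    have h4 := Submodule.smul_mem _ (P u z₀)⁻¹ h3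
    rwa [smul_smul, inv_mul_cancel₀ hz₀u, one_smul] at h4
  have h1 := mulVec_mem_of_mem_decompositionStabilizer hσ hk
  rw [hact, hku, hyk] at h1
  simp only [zero_smul, add_zero, mul_zero, sub_zero] at h1
  exact hk0 (eq_zero_of_mem_of_mem_iSup_ne hD hk (mem_iSup_ne D hsi h1))

/-- **class 2 over `F₂`, blocks of dimension at least two** -/
theorem not_omegaGL_le_decompositionStabilizer_two_fin (h2 : Fintype.card F = 2)
    (hQ : (QuadraticMap.polarBilin Q).Nondegenerate) (hn : 7 ≤ n) {t m : ℕ} (hm : 2 ≤ m)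
    (D : Fin t → Submodule F (Fin n → F)) (hD : IsMDecomposition m D) :
    ¬ omegaGL ⇑Q ≤ decompositionStabilizer D := by
  intro hle
  obtain ⟨u, hu0, hQu, -, -⟩ := exists_sing_perp2 hQ hn (0 : Fin n → F) 0
  -- a block not orthogonal to `u`
  obtain ⟨i, z₀, hz₀, hz₀u⟩ : ∃ i, ∃ z₀ ∈ D i, P u z₀ ≠ 0 := by
    by_contra hcon
    push Not at hcon
    obtain ⟨w, hw⟩ := exists_P_ne Q hQ u hu0
    apply hw
    have hle' : iSup D ≤ LinearMap.ker (fr Q u) := by
      apply iSup_le
      intro i z hz
      rw [LinearMap.mem_ker, fr_apply]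
      exact hcon i z hz
    rw [hD.iSup_eq_top] at hle'
    have := hle' (Submodule.mem_top : w ∈ ⊤)
    rwa [LinearMap.mem_ker, fr_apply] at this
  -- a non-zero vector of the block orthogonal to `u`
  obtain ⟨k, hk, hk0, hku⟩ : ∃ k ∈ D i, k ≠ 0 ∧ P u k = 0 := by
    have hker : LinearMap.ker ((fr Q u).domRestrict (D i)) ≠ ⊥ := by
      apply LinearMap.ker_ne_bot_of_finrank_lt
      rw [hD.finrank_eq i, Module.finrank_self]
      omega
    obtain ⟨k', hk', hk'0⟩ := Submodule.exists_mem_ne_zero_of_ne_bot hker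
    refine ⟨k'.1, k'.2, fun h => hk'0 (Subtype.ext h), ?_⟩
    have := LinearMap.mem_ker.1 hk'
    rwa [LinearMap.domRestrict_apply, fr_apply] at this
  -- dimensions
  have htm : t * m = n := by
    have := Cfsg.Agent.Lib.H17.AschSP2.mul_eq_of_isMDecomposition D hD
    rwa [Fintype.card_fin] at this
  have ht := hD.two_le
  have hmn : m + 4 ≤ n := by nlinarith
  set U : Submodule F (Fin n → F) := LinearMap.ker (LinearMap.pi (fun _ : Fin 1 => fr Q u)) with hU
  have hUmem : ∀ x, x ∈ U ↔ P u x = 0 := by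
    intro x
    rw [hU, mem_ker_pi]
    constructor
    · intro h; exact h 0
    · intro h _; exact h
  have hUfr : n ≤ finrank F U + 1 := finrank_ker_pi (fun _ : Fin 1 => fr Q u)
  set E : Submodule F (Fin n → F) := D i ⊔ Submodule.span F {u} with hE
  have hEfr : finrank F E ≤ m + 1 := by
    refine (Submodule.finrank_add_le_finrank_add_finrank _ _).trans ?_
    rw [hD.finrank_eq i]
    have : finrank F (Submodule.span F {u}) ≤ 1 := by
      rw [finrank_span_singleton hu0]
    omega
  -- first vector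
  obtain ⟨y, hyU, hyE⟩ : ∃ y ∈ U, y ∉ E ⊓ U := by
    by_contra hcon
    push Not at hcon
    have h1 : U ≤ E ⊓ U := fun x hx => hcon x hx
    have h3 := (Submodule.finrank_mono h1).trans (Submodule.finrank_mono (inf_le_left : E ⊓ U ≤ E))
    omega
  -- second vector
  obtain ⟨y', hy'U, hy'E⟩ : ∃ y' ∈ U, y' ∉ (E ⊓ U) ⊔ Submodule.span F {y} := by
    by_contra hcon
    push Not at hcon
    have h1 : U ≤ (E ⊓ U) ⊔ Submodule.span F {y} := fun x hx => hcon x hx
    have h3 := Submodule.finrank_mono h1
    have h4 := Submodule.finrank_add_le_finrank_add_finrank (E ⊓ U) (Submodule.span F {y})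
    have h5 := Submodule.finrank_mono (inf_le_left : E ⊓ U ≤ E)
    have h6 : finrank F (Submodule.span F {y}) ≤ 1 := by
      by_cases hy0 : y = 0
      · rw [hy0, Submodule.span_zero_singleton, finrank_bot]; omega
      · rw [finrank_span_singleton hy0]
    omega
  have hyE' : y ∉ E := fun h => hyE ⟨h, hyU⟩
  have hy'E' : y' ∉ E := fun h => hy'E (Submodule.mem_sup_left ⟨h, hy'U⟩)
  have hsumU : y + y' ∈ U := U.add_mem hyU hy'U
  have hsumE : y + y' ∉ E := by
    intro h
    apply hy'E
    have : y' = (y + y') - y := by abel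
    rw [this]
    exact Submodule.sub_mem _ (Submodule.mem_sup_left ⟨h, hsumU⟩)
      (Submodule.mem_sup_right (Submodule.mem_span_singleton_self y))
  have k1 := polar_ne_zero_of_not_mem Q hQ hn hD hle hQu hz₀ hz₀u hk hk0 hku ((hUmem y).1 hyU) hyE'
  have k2 := polar_ne_zero_of_not_mem Q hQ hn hD hle hQu hz₀ hz₀u hk hk0 hku ((hUmem y').1 hy'U) hy'E'
  have k3 := polar_ne_zero_of_not_mem Q hQ hn hD hle hQu hz₀ hz₀u hk hk0 hku
    ((hUmem (y + y')).1 hsumU) hsumE
  have e1 := (eq_zero_or_one_of_card_two h2 (P y k)).resolve_left k1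
  have e2 := (eq_zero_or_one_of_card_two h2 (P y' k)).resolve_left k2
  apply k3
  rw [QuadraticMap.polar_add_left, e1, e2]
  have h11 := (eq_zero_or_one_of_card_two h2 ((1 : F) + 1))
  rcases h11 with h | h
  · exact h
  · exfalso
    have : (1 : F) = 0 := by
      have := congrArg (fun z : F => z - 1) h
      simp at this
    exact one_ne_zero this

end two

section final

variable {F : Type*} [Field F] [Fintype F] {n : ℕ}

open Cfsg.Agent.Lib.H29.Orth in
/-- **EO class 2 (ALL `q`)**: `Ω(Q)` stabilises no `m`-decomposition (`Q` non-degenerate on `Fin n → F`, `7 ≤ n`;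
covers the orthogonal decompositions and the pairs of totally singular subspaces). -/
theorem not_omegaGL_le_decompositionStabilizer (Q : (Fin n → F) → F) (hQ : IsNondegenerateQuadraticForm Q)
    (hn : 7 ≤ n) {t m : ℕ} (D : Fin t → Submodule F (Fin n → F)) (hD : IsMDecomposition m D) :
    ¬ omegaGL Q ≤ decompositionStabilizer D := by
  have hn' : 7 ≤ Fintype.card (Fin n) := by rw [Fintype.card_fin]; exact hn
  by_cases h3 : 3 ≤ Fintype.card F
  · exact not_omegaGL_le_decompositionStabilizer_of_three h3 Q hQ hn' D hD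
  · have h2 : Fintype.card F = 2 := by
      have : 1 < Fintype.card F := Fintype.one_lt_card
      omega
    by_cases hm : 2 ≤ m
    · have := not_omegaGL_le_decompositionStabilizer_two_fin (toQF Q hQ) h2 (toQF_nondegenerate Q hQ) hn hm D hD
      rwa [coe_toQF] at this
    · have hm1 : m = 1 := by have := hD.pos; omega
      subst hm1
      exact not_omegaGL_le_decompositionStabilizer_lines_two h2 Q hQ hn' D hD

end final

end Cfsg.Agent.Lib.H13.EOP2
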