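/-
EO phase 2 (helper21), tasks EO2-B3a and EO2-B3b with the exact signatures of `tools/blueprints/EO2_sigs.lean`:
both are instances of `not_omegaGL_le_decompositionStabilizer` (Lib/H13/AschEOB2, any `m`-decomposition, all `q`).
-/
import Cfsg.Agent.Lib.H13.AschEOB2

set_option autoImplicit false

namespace Cfsg.Agent.Lib.H13.EOP2

open Cfsg Cfsg.Geo
open scoped MatrixGroups Matrix Kronecker

variable {F : Type*} [Field F] [Fintype F] {n : ℕ}

/-- **EO2-B3a**. -/
theorem not_omegaGL_le_decompositionStabilizer_big (Q : (Fin n → F) → F) (hQ : IsNondegenerateQuadraticForm Q) (hn : 8 ≤ n)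
    {t : ℕ} (k : ℕ) (hk : 3 ≤ k) (D : Fin t → Submodule F (Fin n → F)) (hD : IsMDecomposition k D) :
    ¬ omegaGL Q ≤ decompositionStabilizer D :=
  not_omegaGL_le_decompositionStabilizer Q hQ (by omega) D hD

/-- **EO2-B3b**. -/
theorem not_omegaGL_le_decompositionStabilizer_small (Q : (Fin n → F) → F) (hQ : IsNondegenerateQuadraticForm Q) (hn : 8 ≤ n)
    {t : ℕ} (k : ℕ) (hk : k ≤ 2) (D : Fin t → Submodule F (Fin n → F))
    (hD : IsNondegenerateMDecomposition (QuadraticMap.polar Q) k D) :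
    ¬ omegaGL Q ≤ decompositionStabilizer D :=
  not_omegaGL_le_decompositionStabilizer Q hQ (by omega) D hD.decomp

end Cfsg.Agent.Lib.H13.EOP2
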