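/-
EO phase 2 (helper21's project), row assembly layer of helper13: the unconditional EO-main, the wiring
`H maximal in Ω, H ≤ X, ¬ Ω ≤ X ⟹ H = X ⊓ Ω`, and small facts used by the rows.
-/
import Cfsg.Agent.Lib.H26.AschEMain4
import Cfsg.Agent.Lib.H20.AschEM4
import Cfsg.Agent.Lib.H13.AschEOB45
import Cfsg.Agent.Lib.H13.AschEO2B3

set_option autoImplicit false

namespace Cfsg.Agent.Lib.H13.EOP2

open Cfsg Cfsg.Geo Cfsg.Agent.Lib.H26.AschE
open scoped MatrixGroups Matrix Kronecker

variable {F : Type*} [Field F] [Fintype F] {n : ℕ}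

/-- **EO-main**, unconditional (helper26's `emain_of_em4` + helper20's EM4). -/
theorem emain_all (Q : (Fin n → F) → F) (hQ : IsNondegenerateQuadraticForm Q) (hn : 5 ≤ n)
    (H : Subgroup (GL (Fin n) F)) (hH : H ≤ isometryGroup F Q) :
    ETame Q H ∨ InOrthogonalResidualClass H :=
  emain_of_em4 Q hQ hn H hH (fun N hirr hNH hnorm D habs hd hk =>
    Cfsg.Agent.Lib.H20.AschE.etame_of_homog_tensor Q hQ hn H N hH hirr hNH hnorm D habs hd hk)

theorem omegaGL_le_isometryGroup (Q : (Fin n → F) → F) : omegaGL Q ≤ isometryGroup F Q := by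
  unfold omegaGL
  exact Subgroup.map_subtype_le _

theorem eq_inf_of_isMaximalIn {G : Type*} [Group G] {K H M : Subgroup G} (hH : IsMaximalIn K H) (hHM : H ≤ M)
    (hM : ¬ K ≤ M) : H = M ⊓ K := by
  rcases hH.2 (M ⊓ K) (le_inf hHM hH.1.le) inf_le_right with h | h
  · exact h.symm
  · exact absurd (h ▸ inf_le_left) hM

theorem quad_zero (Q : (Fin n → F) → F) (hQ : IsNondegenerateQuadraticForm Q) : Q 0 = 0 := by
  have := hQ.smul 0 0
  simpa using this

theorem two_eq_zero_of_not_odd (h : ¬ Odd (Fintype.card F)) : (2 : F) = 0 := by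
  have h1 : Fintype.card F % 2 = 0 := by
    rw [Nat.not_odd_iff_even] at h
    exact Nat.even_iff.1 h
  have h2 : ringChar F = 2 := FiniteField.even_card_iff_char_two.2 h1
  have : CharP F 2 := ringChar.of_eq h2
  exact_mod_cast CharP.cast_eq_zero F 2

theorem polar_self (Q : (Fin n → F) → F) (hQ : IsNondegenerateQuadraticForm Q) (v : Fin n → F) :
    QuadraticMap.polar Q v v = 2 * Q v := by
  unfold QuadraticMap.polar
  have h : v + v = (2 : F) • v := by rw [two_smul]
  rw [h, hQ.smul]; ring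

/-- a totally singular subspace is proper -/
theorem ne_top_of_totallySingular (Q : (Fin n → F) → F) (hQ : IsNondegenerateQuadraticForm Q) (hn : 0 < n)
    (W : Submodule F (Fin n → F)) (hts : IsTotallySingularQuad Q W) : W ≠ ⊤ := by
  rintro rfl
  let v : Fin n → F := fun _ => 1
  have hv : v ≠ 0 := by
    intro h
    have := congrFun h ⟨0, hn⟩
    simp [v] at this
  obtain ⟨⟨x, hx⟩, -⟩ := hQ.nondegenerate v hv
  apply hx
  unfold QuadraticMap.polar
  rw [hts _ Submodule.mem_top, hts _ Submodule.mem_top, hts _ Submodule.mem_top]; ring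

theorem span_ne_bot_of_quad_ne_zero (Q : (Fin n → F) → F) (hQ : IsNondegenerateQuadraticForm Q) (v : Fin n → F)
    (hv : Q v ≠ 0) : Submodule.span F {v} ≠ ⊥ := by
  rw [Ne, Submodule.span_singleton_eq_bot]
  rintro rfl
  exact hv (quad_zero Q hQ)

theorem span_ne_top (hn : 2 ≤ n) (v : Fin n → F) : Submodule.span F {v} ≠ ⊤ := by
  intro h
  have h1 : Module.finrank F (Submodule.span F {v}) ≤ 1 := by
    have := finrank_span_le_card (R := F) ({v} : Set (Fin n → F))
    simpa using this
  rw [h, finrank_top, Module.finrank_fintype_fun_eq_card, Fintype.card_fin] at h1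
  omega

/-- the wiring for subspace stabilisers -/
theorem eq_stab_inf (Q : (Fin n → F) → F) (hQ : IsNondegenerateQuadraticForm Q) (hn : 7 ≤ n)
    {H : Subgroup (GL (Fin n) F)} (hH : IsMaximalIn (omegaGL Q) H) (W : Submodule F (Fin n → F))
    (hW0 : W ≠ ⊥) (hW1 : W ≠ ⊤) (hHW : H ≤ subspaceStabilizer W) :
    H = subspaceStabilizer W ⊓ omegaGL Q :=
  eq_inf_of_isMaximalIn hH hHW
    (not_omegaGL_le_subspaceStabilizer Q hQ (by rw [Fintype.card_fin]; exact hn) W hW0 hW1)

theorem finrank_pos_of_ne_bot (W : Submodule F (Fin n → F)) (hW0 : W ≠ ⊥) : 0 < Module.finrank F W :=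
  Module.finrank_pos_iff.2 (Submodule.nontrivial_iff_ne_bot.2 hW0)

theorem finrank_lt_of_ne_top (W : Submodule F (Fin n → F)) (hW1 : W ≠ ⊤) : Module.finrank F W < n := by
  have := Submodule.finrank_lt hW1
  rwa [Module.finrank_fintype_fun_eq_card, Fintype.card_fin] at this

end Cfsg.Agent.Lib.H13.EOP2
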