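import Cfsg.Agent.Lib.H13.MaxTS
import Cfsg.Agent.Lib.H13.OmegaSum
import Cfsg.Agent.Lib.H13.PlusTS

set_option autoImplicit false

namespace Cfsg.Agent.Lib.H13.HypTS

open Matrix Module
open scoped MatrixGroups
open Cfsg.Agent.Lib.H13 Cfsg.Agent.Lib.H13.HypPairs Cfsg.Agent.Lib.H13.MaxTS
  Cfsg.Agent.Lib.H13.DicksonGen

variable {F : Type*} [Field F] {κ : Type} [Fintype κ] [DecidableEq κ]

theorem nondeg_hypQF : (QuadraticMap.polarBilin (hypQF F κ)).Nondegenerate := by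
  have key : ∀ x : κ ⊕ κ → F,
      (∀ y, QuadraticMap.polar (⇑(hypQF F κ)) x y = 0) → x = 0 := by
    intro x hx
    funext s
    rcases s with i | i
    · have := hx (Pi.single (Sum.inr i) 1)
      rw [coe_hypQF, polar_hyp] at this
      have e1 : (Pi.single (Sum.inr i : κ ⊕ κ) (1 : F)) ∘ Sum.inr = (Pi.single i 1 : κ → F) := by
        funext j; simp [Pi.single_apply]
      have e2 : (Pi.single (Sum.inr i : κ ⊕ κ) (1 : F)) ∘ Sum.inl = (0 : κ → F) := by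
        funext j; simp
      rw [e1, e2, zero_dotProduct, add_zero, dotProduct_single_one] at this
      exact this
    · have := hx (Pi.single (Sum.inl i) 1)
      rw [coe_hypQF, polar_hyp] at this
      have e1 : (Pi.single (Sum.inl i : κ ⊕ κ) (1 : F)) ∘ Sum.inr = (0 : κ → F) := by
        funext j; simp
      have e2 : (Pi.single (Sum.inl i : κ ⊕ κ) (1 : F)) ∘ Sum.inl = (Pi.single i 1 : κ → F) := by
        funext j; simp [Pi.single_apply]
      rw [e1, e2, dotProduct_zero, zero_add, single_one_dotProduct] at this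
      exact this
  constructor
  · intro x hx
    exact key x hx
  · intro y hy
    apply key y
    intro x
    have := hy x
    rw [QuadraticMap.polarBilin_apply_apply] at this
    rw [QuadraticMap.polar_comm]
    exact this

/-- the standard maximal totally singular subspace `{y = 0}` -/
def U0 (F : Type*) [Field F] (κ : Type) : Submodule F (κ ⊕ κ → F) :=
  LinearMap.ker (LinearMap.funLeft F F (Sum.inr : κ → κ ⊕ κ))

omit [Fintype κ] [DecidableEq κ] in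
theorem mem_U0_iff (x : κ ⊕ κ → F) : x ∈ U0 F κ ↔ x ∘ Sum.inr = 0 := by
  unfold U0
  rw [LinearMap.mem_ker]
  rfl

theorem U0_ts : ∀ u ∈ U0 F κ, hypQF F κ u = 0 := by
  intro u hu
  rw [mem_U0_iff] at hu
  rw [hypQF_apply, hyp_eq_dot, hu, dotProduct_zero]

theorem U0_perp : ∀ x : κ ⊕ κ → F,
    (∀ u ∈ U0 F κ, QuadraticMap.polar (⇑(hypQF F κ)) u x = 0) → x ∈ U0 F κ := by
  intro x hx
  rw [mem_U0_iff]
  funext i
  have hmem : (Sum.elim (Pi.single i (1 : F)) 0 : κ ⊕ κ → F) ∈ U0 F κ := by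
    rw [mem_U0_iff]; rfl
  have := hx _ hmem
  rw [coe_hypQF, polar_hyp] at this
  have e1 : (Sum.elim (Pi.single i (1 : F)) (0 : κ → F)) ∘ Sum.inl = (Pi.single i 1 : κ → F) := rfl
  have e2 : (Sum.elim (Pi.single i (1 : F)) (0 : κ → F)) ∘ Sum.inr = (0 : κ → F) := rfl
  rw [e1, e2, dotProduct_zero, add_zero, single_one_dotProduct] at this
  exact this

theorem finrank_U0 : finrank F (U0 F κ) = Fintype.card κ := by
  have hsurj : Function.Surjective (LinearMap.funLeft F F (Sum.inr : κ → κ ⊕ κ)) :=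
    LinearMap.funLeft_surjective_of_injective F F _ Sum.inr_injective
  have h1 := LinearMap.finrank_range_add_finrank_ker
    (LinearMap.funLeft F F (Sum.inr : κ → κ ⊕ κ))
  rw [LinearMap.range_eq_top.mpr hsurj, finrank_top, Module.finrank_fintype_fun_eq_card,
    Module.finrank_fintype_fun_eq_card, Fintype.card_sum] at h1
  unfold U0
  exact Nat.add_left_cancel h1

theorem isIso_refl_list (vs : List (κ ⊕ κ → F)) (hvs : ∀ v ∈ vs, hypQF F κ v ≠ 0) :
    IsIso (vs.map (fun v => Cfsg.reflectionMatrix ⇑(hypQF F κ) v)).prod := by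
  induction vs with
  | nil =>
    intro x
    simp
  | cons v vs ih =>
    rw [List.map_cons, List.prod_cons]
    apply IsIso.mul _ (ih (fun w hw => hvs w (List.mem_cons_of_mem _ hw)))
    intro x
    have := refl_isometry (hypQF F κ) v (hvs v List.mem_cons_self) x
    rwa [hypQF_apply, hypQF_apply] at this

/-- an isometry stabilising `U0` is block upper triangular -/
theorem parabolic (M : Matrix (κ ⊕ κ) (κ ⊕ κ) F)
    (hU : ∀ u ∈ U0 F κ, M *ᵥ u ∈ U0 F κ) : M.toBlocks₂₁ = 0 := by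
  apply Matrix.ext_iff_mulVec.mpr
  intro u
  rw [Matrix.zero_mulVec]
  have hmem : (Sum.elim u 0 : κ ⊕ κ → F) ∈ U0 F κ := by
    rw [mem_U0_iff]; rfl
  have := hU _ hmem
  rw [mem_U0_iff, ← fromBlocks_toBlocks M, fromBlocks_mulVec] at this
  have e : (Sum.elim (M.toBlocks₁₁ *ᵥ (Sum.elim u (0 : κ → F)) ∘ Sum.inl +
      M.toBlocks₁₂ *ᵥ (Sum.elim u (0 : κ → F)) ∘ Sum.inr)
      (M.toBlocks₂₁ *ᵥ (Sum.elim u (0 : κ → F)) ∘ Sum.inl +
      M.toBlocks₂₂ *ᵥ (Sum.elim u (0 : κ → F)) ∘ Sum.inr)) ∘ Sum.inr =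
      M.toBlocks₂₁ *ᵥ u + M.toBlocks₂₂ *ᵥ 0 := rfl
  rw [e, Matrix.mulVec_zero, add_zero] at this
  exact this

theorem isIso_of_mem (g : ↥(Cfsg.isometryGroup F (hyp : (κ ⊕ κ → F) → F))) :
    IsIso ((g : GL (κ ⊕ κ) F) : Matrix (κ ⊕ κ) (κ ⊕ κ) F) :=
  (Cfsg.Agent.Lib.H11.IsoReindex.mem_iso_iff' _ _).mp g.2

/-- reduction of an isometry of the hyperbolic form to the parabolic by reflections -/
theorem exists_decomp (g : ↥(Cfsg.isometryGroup F (hyp : (κ ⊕ κ → F) → F))) :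
    ∃ vs : List (κ ⊕ κ → F), (∀ v ∈ vs, hypQF F κ v = 1) ∧
      vs.length = Fintype.card κ - finrank F ↥(U0 F κ ⊓ (U0 F κ).map
        (Matrix.mulVecLin ((g : GL (κ ⊕ κ) F) : Matrix (κ ⊕ κ) (κ ⊕ κ) F))) ∧
      ∀ u ∈ U0 F κ, ((vs.map (fun v => Cfsg.reflectionMatrix ⇑(hypQF F κ) v)).prod *
        ((g : GL (κ ⊕ κ) F) : Matrix (κ ⊕ κ) (κ ⊕ κ) F)) *ᵥ u ∈ U0 F κ := by
  set U₁ := (U0 F κ).map (Matrix.mulVecLin ((g : GL (κ ⊕ κ) F) : Matrix (κ ⊕ κ) (κ ⊕ κ) F))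
    with hU₁
  have hg : ∀ x, hyp (((g : GL (κ ⊕ κ) F) : Matrix (κ ⊕ κ) (κ ⊕ κ) F) *ᵥ x) = hyp x :=
    (Cfsg.Agent.Lib.H11.IsoReindex.mem_iso_iff' _ _).mp g.2
  have hts : ∀ u ∈ U₁, hypQF F κ u = 0 := by
    rintro z ⟨u, hu, rfl⟩
    rw [Matrix.mulVecLin_apply, hypQF_apply, hg, ← hypQF_apply]
    exact U0_ts u hu
  have hfr : finrank F U₁ = finrank F (U0 F κ) := by
    rw [hU₁, ← PlusTS.toEquiv_coe, LinearEquiv.finrank_map_eq]
  obtain ⟨vs, hvs, hlen, hmap⟩ := exists_refl_list (hypQF F κ) (U0 F κ) U0_ts U0_perp _ U₁ hts hfr rfl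
  refine ⟨vs, hvs, ?_, ?_⟩
  · rw [hlen, finrank_U0]
  · intro u hu
    rw [← Matrix.mulVec_mulVec, ← hmap]
    exact ⟨_, ⟨u, hu, rfl⟩, rfl⟩

section char2

variable [Fintype F] [CharP F 2]

theorem dk_refl_list (vs : List (κ ⊕ κ → F)) (hvs : ∀ v ∈ vs, (hyp v : F) ≠ 0) :
    IsIso (vs.map (fun v => Cfsg.reflectionMatrix (hyp : (κ ⊕ κ → F) → F) v)).prod ∧
    dk (vs.map (fun v => Cfsg.reflectionMatrix (hyp : (κ ⊕ κ → F) → F) v)).prod =
      ((vs.length : ℕ) : F) := by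
  induction vs with
  | nil =>
    refine ⟨fun x => by simp, ?_⟩
    simp [dk_one]
  | cons v vs ih =>
    obtain ⟨ih1, ih2⟩ := ih (fun w hw => hvs w (List.mem_cons_of_mem _ hw))
    have hv := hvs v List.mem_cons_self
    have hiso : IsIso (Cfsg.reflectionMatrix (hyp : (κ ⊕ κ → F) → F) v) := by
      intro x
      have := refl_isometry (hypQF F κ) v (by rw [hypQF_apply]; exact hv) x
      rwa [hypQF_apply, hypQF_apply, coe_hypQF] at this
    rw [List.map_cons, List.prod_cons]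
    refine ⟨hiso.mul ih1, ?_⟩
    rw [dk_mul hiso ih1, ih2, dk_refl v hv, List.length_cons]
    push_cast
    ring

/-- in characteristic two, `Ω` of the hyperbolic form is the kernel of the Dickson functional -/
theorem mem_Omega_iff_dk (h : Fintype.card F ≠ 2 ∨ Fintype.card κ ≠ 2)
    (g : ↥(Cfsg.isometryGroup F (hyp : (κ ⊕ κ → F) → F))) :
    g ∈ Cfsg.Omega F (hyp : (κ ⊕ κ → F) → F) ↔
      dk ((g : GL (κ ⊕ κ) F) : Matrix (κ ⊕ κ) (κ ⊕ κ) F) = 0 := by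
  have hcard : Nat.card F ≠ 2 ∨ Fintype.card (κ ⊕ κ) ≠ 4 := by
    rw [Nat.card_eq_fintype_card, Fintype.card_sum]
    rcases h with h | h
    · exact Or.inl h
    · right; omega
  have key1 := PlusTS.exists_list_top (hypQF F κ) nondeg_hypQF hcard
  have key2 := Char2Omega.mem_Omega_iff_list_even (hypQF F κ) nondeg_hypQF hcard
  simp only [hypQF_apply] at key1 key2
  rw [coe_hypQF] at key1 key2
  obtain ⟨vs, hvs, hval⟩ := key1 g
  rw [key2 vs hvs g hval, hval, (dk_refl_list vs hvs).2, CharP.cast_eq_zero_iff F 2,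
    even_iff_two_dvd]

/-- the Dickson functional computes the class of `g U0` -/
theorem dk_eq_cast (g : ↥(Cfsg.isometryGroup F (hyp : (κ ⊕ κ → F) → F))) :
    dk ((g : GL (κ ⊕ κ) F) : Matrix (κ ⊕ κ) (κ ⊕ κ) F) =
      (((Fintype.card κ - finrank F ↥(U0 F κ ⊓ (U0 F κ).map
        (Matrix.mulVecLin ((g : GL (κ ⊕ κ) F) : Matrix (κ ⊕ κ) (κ ⊕ κ) F)))) : ℕ) : F) := by
  obtain ⟨vs, hvs, hlen, hU⟩ := exists_decomp g
  have hvs' : ∀ v ∈ vs, (hyp v : F) ≠ 0 := fun v hv => by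
    rw [← hypQF_apply, hvs v hv]; exact one_ne_zero
  rw [coe_hypQF] at hU
  obtain ⟨hiso, hdk⟩ := dk_refl_list vs hvs'
  have hP := parabolic _ hU
  have h1 : dk ((vs.map (fun v => Cfsg.reflectionMatrix (hyp : (κ ⊕ κ → F) → F) v)).prod *
      ((g : GL (κ ⊕ κ) F) : Matrix (κ ⊕ κ) (κ ⊕ κ) F)) = 0 := by
    unfold dk
    rw [hP]
    simp
  rw [dk_mul hiso (isIso_of_mem g), hdk, hlen] at h1
  have := CharTwo.add_self_eq_zero (dk ((g : GL (κ ⊕ κ) F) : Matrix (κ ⊕ κ) (κ ⊕ κ) F))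
  linear_combination this - h1

/-- the class of `g U0` is detected by `Ω` -/
theorem even_iff_mem_Omega (h : Fintype.card F ≠ 2 ∨ Fintype.card κ ≠ 2)
    (g : ↥(Cfsg.isometryGroup F (hyp : (κ ⊕ κ → F) → F))) :
    Even (Fintype.card κ - finrank F ↥(U0 F κ ⊓ (U0 F κ).map
        (Matrix.mulVecLin ((g : GL (κ ⊕ κ) F) : Matrix (κ ⊕ κ) (κ ⊕ κ) F)))) ↔
      g ∈ Cfsg.Omega F (hyp : (κ ⊕ κ → F) → F) := by
  rw [mem_Omega_iff_dk h, dk_eq_cast g, CharP.cast_eq_zero_iff F 2, even_iff_two_dvd]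

end char2

end Cfsg.Agent.Lib.H13.HypTS
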