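import Cfsg.Agent.S0749
import Cfsg.Agent.S2622
import Cfsg.Agent.Lib.H13.SympBasis
import Cfsg.Agent.Lib.H13.Char2Gen

set_option autoImplicit false

namespace Cfsg.Agent.Lib.H13.SpInvol

open Module

section abstract

variable {F V : Type*} [Field F] [AddCommGroup V] [Module F V] (f : LinearMap.BilinForm F V)

/-- normal form of a symplectic involution: `t y = y + Σ f(y, w (σ i)) w i` with `w` spanning a
totally isotropic subspace -/
structure IsNF {ι : Type*} [Fintype ι] (t : V →ₗ[F] V) (σ : ι → ι) (w : ι → V) : Prop where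
  indep : LinearIndependent F w
  iso : ∀ i j, f (w i) (w j) = 0
  eq : ∀ y, t y = y + ∑ i, f y (w (σ i)) • w i

variable {f}

theorem alt_skew' (halt : f.IsAlt) (x y : V) : f x y = - f y x := by
  rw [← halt.neg_eq]

/-- dual vectors for an independent family -/
theorem exists_dual [FiniteDimensional F V] (hf : f.Nondegenerate) (halt : f.IsAlt)
    {ι : Type*} [Fintype ι] (u : ι → V) (hu : LinearIndependent F u) (c : ι → F) :
    ∃ y, ∀ i, f y (u i) = c i := by
  classical
  let Φ : V →ₗ[F] (ι → F) := LinearMap.pi (fun i => f.flip (u i))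
  have hΦ : ∀ y i, Φ y i = f y (u i) := fun y i => rfl
  have hker : LinearMap.ker Φ = f.orthogonal (Submodule.span F (Set.range u)) := by
    ext y
    rw [LinearMap.mem_ker, LinearMap.BilinForm.mem_orthogonal_iff]
    constructor
    · intro hy n hn
      induction hn using Submodule.span_induction with
      | mem x hx =>
        obtain ⟨i, rfl⟩ := hx
        show f (u i) y = 0
        rw [alt_skew' halt, ← hΦ, hy]
        simp
      | zero => show f 0 y = 0; simp
      | add a b _ _ ha hb =>
        show f (a + b) y = 0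
        rw [map_add, LinearMap.add_apply]
        rw [show f a y = 0 from ha, show f b y = 0 from hb, add_zero]
      | smul l a _ ha =>
        show f (l • a) y = 0
        rw [map_smul, LinearMap.smul_apply, show f a y = 0 from ha, smul_zero]
    · intro hy
      funext i
      rw [hΦ, alt_skew' halt]
      have := hy (u i) (Submodule.subset_span ⟨i, rfl⟩)
      rw [show f (u i) y = 0 from this]
      simp
  have h1 := LinearMap.finrank_range_add_finrank_ker Φ
  rw [hker, LinearMap.BilinForm.finrank_orthogonal hf, finrank_span_eq_card hu] at h1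
  have hle : Fintype.card ι ≤ finrank F V := by
    have := hu.fintype_card_le_finrank
    exact this
  have h2 : finrank F ↥(LinearMap.range Φ) = finrank F (ι → F) := by
    rw [Module.finrank_fintype_fun_eq_card]
    omega
  have h3 : LinearMap.range Φ = ⊤ := Submodule.eq_top_of_finrank_eq h2
  have : c ∈ LinearMap.range Φ := by rw [h3]; exact Submodule.mem_top
  obtain ⟨y, hy⟩ := this
  exact ⟨y, fun i => by rw [← hΦ, hy]⟩

variable {ι : Type*} [Fintype ι] {t t' : V →ₗ[F] V} {σ : ι → ι} {w w' : ι → V}

/-- two involutions with normal forms of the same shape are conjugate (Witt) -/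
theorem IsNF.conj [FiniteDimensional F V] (hf : f.Nondegenerate) (halt : f.IsAlt)
    (h : IsNF f t σ w) (h' : IsNF f t' σ w') :
    ∃ g : V ≃ₗ[F] V, (∀ u v, f (g u) (g v) = f u v) ∧ ∀ y, g (t y) = t' (g y) := by
  classical
  let e := Fintype.equivFin ι
  obtain ⟨g, hg, hgw⟩ := Cfsg.Agent.S0749.witt_family hf halt (Fintype.card ι)
    (w ∘ e.symm) (w' ∘ e.symm) (h.indep.comp _ e.symm.injective)
    (h'.indep.comp _ e.symm.injective) (fun i j => by
      simp only [Function.comp_apply]; rw [h.iso, h'.iso])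
  have hgw' : ∀ i, g (w i) = w' i := by
    intro i
    have := hgw (e i)
    simpa using this
  refine ⟨g, hg, ?_⟩
  intro y
  rw [h.eq, h'.eq, map_add, map_sum]
  congr 1
  apply Finset.sum_congr rfl
  intro i _
  rw [map_smul, hgw', ← hgw' (σ i), hg]

theorem IsNF.sub_apply (h : IsNF f t σ w) (y : V) :
    (t - (LinearMap.id : V →ₗ[F] V)) y = ∑ i, f y (w (σ i)) • w i := by
  rw [LinearMap.sub_apply, h.eq, LinearMap.id_apply, add_sub_cancel_left]

theorem IsNF.range_eq [FiniteDimensional F V] (hf : f.Nondegenerate) (halt : f.IsAlt)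
    (hσ : Function.Involutive σ) (h : IsNF f t σ w) :
    LinearMap.range (t - (LinearMap.id : V →ₗ[F] V)) = Submodule.span F (Set.range w) := by
  classical
  apply le_antisymm
  · rintro _ ⟨y, rfl⟩
    rw [h.sub_apply]
    apply Submodule.sum_mem
    intro i _
    exact Submodule.smul_mem _ _ (Submodule.subset_span ⟨i, rfl⟩)
  · rw [Submodule.span_le]
    rintro _ ⟨j, rfl⟩
    obtain ⟨y, hy⟩ := exists_dual hf halt (w ∘ σ) (h.indep.comp _ hσ.injective)
      (fun i => if i = j then 1 else 0)
    refine ⟨y, ?_⟩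
    rw [h.sub_apply]
    have : ∀ i, f y (w (σ i)) • w i = if i = j then w j else 0 := by
      intro i
      have := hy i
      simp only [Function.comp_apply] at this
      rw [this]
      split_ifs with hij
      · rw [hij, one_smul]
      · rw [zero_smul]
    simp only [this, Finset.sum_ite_eq', Finset.mem_univ, if_true]

theorem IsNF.finrank_range [FiniteDimensional F V] (hf : f.Nondegenerate) (halt : f.IsAlt)
    (hσ : Function.Involutive σ) (h : IsNF f t σ w) :
    finrank F ↥(LinearMap.range (t - (LinearMap.id : V →ₗ[F] V))) = Fintype.card ι := by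
  rw [h.range_eq hf halt hσ, finrank_span_eq_card h.indep]

theorem IsNF.two_mul_card_le [FiniteDimensional F V] (hf : f.Nondegenerate)
    (h : IsNF f t σ w) : 2 * Fintype.card ι ≤ finrank F V := by
  have hle : Submodule.span F (Set.range w) ≤ f.orthogonal (Submodule.span F (Set.range w)) := by
    rw [Submodule.span_le]
    rintro _ ⟨j, rfl⟩
    rw [SetLike.mem_coe, LinearMap.BilinForm.mem_orthogonal_iff]
    intro n hn
    induction hn using Submodule.span_induction with
    | mem x hx =>
      obtain ⟨i, rfl⟩ := hx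
      exact h.iso i j
    | zero => show f 0 (w j) = 0; simp
    | add a b _ _ ha hb =>
      show f (a + b) (w j) = 0
      rw [map_add, LinearMap.add_apply, show f a (w j) = 0 from ha, show f b (w j) = 0 from hb,
        add_zero]
    | smul l a _ ha =>
      show f (l • a) (w j) = 0
      rw [map_smul, LinearMap.smul_apply, show f a (w j) = 0 from ha, smul_zero]
  have h1 := Submodule.finrank_mono hle
  rw [LinearMap.BilinForm.finrank_orthogonal hf, finrank_span_eq_card h.indep] at h1
  have h2 := h.indep.fintype_card_le_finrank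
  omega

theorem IsNF.eq_id_of_isEmpty [IsEmpty ι] (h : IsNF f t σ w) : t = LinearMap.id := by
  apply LinearMap.ext
  intro y
  rw [h.eq, LinearMap.id_apply]
  simp

theorem IsNF.form_apply (halt : f.IsAlt) (h : IsNF f t σ w) (y : V) :
    f y (t y) = ∑ i, f y (w (σ i)) * f y (w i) := by
  rw [h.eq, map_add, halt y, zero_add, map_sum]
  apply Finset.sum_congr rfl
  intro i _
  rw [map_smul, smul_eq_mul]

/-- type `b`/`c`: the form `y ↦ f(y, t y)` does not vanish -/
theorem IsNF.not_alt_id [FiniteDimensional F V] [Nonempty ι] (hf : f.Nondegenerate)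
    (halt : f.IsAlt) (h : IsNF f t id w) : ∃ y, f y (t y) ≠ 0 := by
  classical
  obtain ⟨j⟩ := ‹Nonempty ι›
  obtain ⟨y, hy⟩ := exists_dual hf halt w h.indep (fun i => if i = j then 1 else 0)
  refine ⟨y, ?_⟩
  rw [h.form_apply halt]
  simp only [id_eq, hy]
  simp

/-- type `a`: the form `y ↦ f(y, t y)` vanishes (characteristic two) -/
theorem IsNF.alt_swap [CharP F 2] {κ : Type*} [Fintype κ] {w : κ ⊕ κ → V}
    (halt : f.IsAlt) (h : IsNF f t Sum.swap w) (y : V) : f y (t y) = 0 := by
  rw [h.form_apply halt, Fintype.sum_sum_type]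
  simp only [Sum.swap_inl, Sum.swap_inr]
  rw [← Finset.sum_add_distrib]
  apply Finset.sum_eq_zero
  intro i _
  rw [mul_comm, Char2Gen.add_self_zero F]

/-- realization: an independent totally isotropic family defines an involution -/
theorem IsNF.isometry (halt : f.IsAlt) (hσ : Function.Involutive σ) (h : IsNF f t σ w)
    (x y : V) : f (t x) (t y) = f x y := by
  rw [h.eq, h.eq]
  simp only [map_add, map_sum, map_smul, LinearMap.add_apply, LinearMap.sum_apply,
    LinearMap.smul_apply, smul_eq_mul, h.iso, mul_zero, Finset.sum_const_zero, add_zero]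
  have h1 : ∑ i, f x (w (σ i)) * f (w i) y = - ∑ i, f y (w (σ i)) * f x (w i) := by
    rw [← Finset.sum_neg_distrib, ← hσ.bijective.sum_comp (fun i => -(f y (w (σ i)) * f x (w i)))]
    apply Finset.sum_congr rfl
    intro i _
    rw [hσ i, alt_skew' halt (w i) y]
    ring
  rw [h1]
  ring

theorem IsNF.sq [CharP F 2] (h : IsNF f t σ w) (y : V) : t (t y) = y := by
  have hw : ∀ i, t (w i) = w i := by
    intro i
    rw [h.eq]
    simp [h.iso]
  conv_lhs => rw [h.eq y, map_add, map_sum]
  simp only [map_smul, hw]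
  rw [h.eq y, add_assoc, Char2Gen.add_self_zero F, add_zero]

/-- the linear map with a prescribed normal form -/
def nfMap (f : LinearMap.BilinForm F V) {ι : Type*} [Fintype ι] (σ : ι → ι) (w : ι → V) :
    V →ₗ[F] V :=
  LinearMap.id + ∑ i, (f.flip (w (σ i))).smulRight (w i)

theorem nfMap_isNF (σ : ι → ι) (w : ι → V) (hw : LinearIndependent F w)
    (hiso : ∀ i j, f (w i) (w j) = 0) : IsNF f (nfMap f σ w) σ w where
  indep := hw
  iso := hiso
  eq := by
    intro y
    simp [nfMap, LinearMap.sum_apply, LinearMap.smulRight_apply, LinearMap.BilinForm.flip_apply]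

section exist

variable [Finite F] [CharP F 2] [FiniteDimensional F V]

/-- core of the normal form: from a basis of a complement of `ker (t - 1)` with prescribed Gram
matrix for `β(x, y) = f(x, (t - 1) y)` -/
theorem isNF_of_basis (hf : f.Nondegenerate) (t : V →ₗ[F] V)
    (ht2 : ∀ y, t (t y) = y) (hiso : ∀ x y, f (t x) (t y) = f x y)
    (C : Submodule F V) (hC : IsCompl (LinearMap.ker (t - (LinearMap.id : V →ₗ[F] V))) C)
    {ι : Type*} [Fintype ι] [DecidableEq ι] (σ : ι → ι) (hσ : Function.Involutive σ)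
    (b : Basis ι F C)
    (hb : ∀ i j, f (b i : V) ((t - (LinearMap.id : V →ₗ[F] V)) (b j : V)) =
      if i = σ j then 1 else 0) :
    IsNF f t σ (fun i => (t - (LinearMap.id : V →ₗ[F] V)) (b i : V)) := by
  obtain ⟨N, hN⟩ : ∃ N : V →ₗ[F] V, N = t - (LinearMap.id : V →ₗ[F] V) := ⟨_, rfl⟩
  rw [← hN] at hC hb ⊢
  have hNy : ∀ y, N y = t y - y := by
    intro y; rw [hN, LinearMap.sub_apply, LinearMap.id_apply]
  have hNN : ∀ y, N (N y) = 0 := by
    intro y
    rw [hNy (N y), hNy y, map_sub, ht2]
    have : y - t y - (t y - y) = (y - t y) + (y - t y) := by abel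
    rw [this, Char2Gen.add_self_zero F]
  have hadj : ∀ x y, f (N x) y = f x (N y) := by
    intro x y
    rw [hNy, hNy, map_sub, map_sub, LinearMap.sub_apply]
    congr 1
    rw [← hiso (t x) y, ht2]
  have hNC : LinearMap.ker (N ∘ₗ C.subtype) = ⊥ := by
    rw [LinearMap.ker_eq_bot']
    intro c hc
    have h1 : (c : V) ∈ LinearMap.ker N := hc
    have h2 := Submodule.disjoint_def.mp hC.disjoint (c : V) h1 c.2
    exact Subtype.ext h2
  refine ⟨?_, ?_, ?_⟩
  · have := b.linearIndependent.map' (N ∘ₗ C.subtype) hNC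
    exact this
  · intro i j
    rw [hadj, hNN, map_zero]
  · intro y
    have hgoal : N y = ∑ i, f y (N (b (σ i) : V)) • N (b i : V) := by
      rw [← sub_eq_zero]
      apply hf.1
      intro z
      have hz : z ∈ LinearMap.ker N ⊔ C := by rw [hC.sup_eq_top]; exact Submodule.mem_top
      obtain ⟨k, hk, c, hc, rfl⟩ := Submodule.mem_sup.mp hz
      have hk' : N k = 0 := hk
      rw [map_add]
      have h1 : f (N y - ∑ i, f y (N (b (σ i) : V)) • N (b i : V)) k = 0 := by
        rw [map_sub, LinearMap.sub_apply, hadj, hk', map_zero, map_sum, LinearMap.sum_apply]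
        simp only [map_smul, LinearMap.smul_apply, hadj, hk', map_zero, smul_zero,
          Finset.sum_const_zero, sub_zero]
      have h2 : ∀ c : C, f (N y - ∑ i, f y (N (b (σ i) : V)) • N (b i : V)) (c : V) = 0 := by
        intro c
        have h3 : (f (N y - ∑ i, f y (N (b (σ i) : V)) • N (b i : V))) ∘ₗ C.subtype = 0 := by
          apply b.ext
          intro j
          rw [LinearMap.comp_apply, Submodule.subtype_apply, LinearMap.zero_apply, map_sub,
            LinearMap.sub_apply, hadj, map_sum, LinearMap.sum_apply]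
          simp only [map_smul, LinearMap.smul_apply, hadj, hb, smul_eq_mul, mul_ite, mul_one,
            mul_zero]
          rw [Finset.sum_ite_eq' Finset.univ (σ j), if_pos (Finset.mem_univ _), hσ j, sub_self]
        have := LinearMap.congr_fun h3 c
        exact this
      rw [h1, h2 ⟨c, hc⟩, add_zero]
    rw [← hgoal, hNy]
    abel

/-- existence of the normal form, non-alternating case -/
theorem exists_NF_id (hf : f.Nondegenerate) (halt : f.IsAlt) (t : V →ₗ[F] V)
    (ht2 : ∀ y, t (t y) = y) (hiso : ∀ x y, f (t x) (t y) = f x y)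
    (hna : ∃ y, f y (t y) ≠ 0) :
    ∃ (s : ℕ) (w : Fin s → V), IsNF f t id w := by
  classical
  obtain ⟨N, hN⟩ : ∃ N : V →ₗ[F] V, N = t - (LinearMap.id : V →ₗ[F] V) := ⟨_, rfl⟩
  have hNy : ∀ y, N y = t y - y := by
    intro y; rw [hN, LinearMap.sub_apply, LinearMap.id_apply]
  have hadj : ∀ x y, f (N x) y = f x (N y) := by
    intro x y
    rw [hNy, hNy, map_sub, map_sub, LinearMap.sub_apply]
    congr 1
    rw [← hiso (t x) y, ht2]
  obtain ⟨C, hC⟩ := Submodule.exists_isCompl (LinearMap.ker N)
  let β : LinearMap.BilinForm F V := f.compl₂ N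
  have hβ : ∀ x y, β x y = f x (N y) := fun x y => rfl
  have hsymm : ∀ x y, β x y = β y x := by
    intro x y
    rw [hβ, hβ, ← hadj, alt_skew' halt, Char2Gen.neg_eq_self F]
  have hS : (restrictB β C).IsSymm := ⟨fun x y => hsymm x y⟩
  have hleft : ∀ x : C, (∀ y : C, restrictB β C x y = 0) → x = 0 := by
    intro x hx
    have h1 : N (x : V) = 0 := by
      apply hf.1
      intro z
      have hz : z ∈ LinearMap.ker N ⊔ C := by rw [hC.sup_eq_top]; exact Submodule.mem_top
      obtain ⟨k, hk, c, hc, rfl⟩ := Submodule.mem_sup.mp hz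
      have hk' : N k = 0 := hk
      rw [map_add, hadj, hk', map_zero, zero_add, hadj]
      have := hx ⟨c, hc⟩
      exact this
    have h2 := Submodule.disjoint_def.mp hC.disjoint (x : V) h1 x.2
    exact Subtype.ext h2
  have hB : (restrictB β C).Nondegenerate := by
    refine ⟨hleft, ?_⟩
    intro y hy
    apply hleft
    intro x
    rw [hS.eq]
    exact hy x
  have hna' : ∃ c : C, restrictB β C c c ≠ 0 := by
    obtain ⟨y, hy⟩ := hna
    have hz : y ∈ LinearMap.ker N ⊔ C := by rw [hC.sup_eq_top]; exact Submodule.mem_top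
    obtain ⟨k, hk, c, hc, rfl⟩ := Submodule.mem_sup.mp hz
    have hk' : N k = 0 := hk
    refine ⟨⟨c, hc⟩, ?_⟩
    show f c (N c) ≠ 0
    intro h0
    apply hy
    have h1 : t (k + c) = (k + c) + N c := by
      have := hNy (k + c)
      rw [map_add, hk', zero_add] at this
      rw [this]; abel
    rw [h1, map_add, halt, zero_add, map_add, LinearMap.add_apply, h0, add_zero, ← hadj, hk']
    simp
  obtain ⟨b, hb⟩ := Cfsg.Agent.S2622.result (n := finrank F C) rfl (restrictB β C) hS hB hna'
  refine ⟨finrank F C, _, isNF_of_basis hf t ht2 hiso C (by rw [← hN]; exact hC) id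
    (fun _ => rfl) b ?_⟩
  intro i j
  rw [← hN]
  exact hb i j

/-- existence of the normal form, alternating case -/
theorem exists_NF_swap (hf : f.Nondegenerate) (halt : f.IsAlt) (t : V →ₗ[F] V)
    (ht2 : ∀ y, t (t y) = y) (hiso : ∀ x y, f (t x) (t y) = f x y)
    (ha : ∀ y, f y (t y) = 0) :
    ∃ (r : ℕ) (w : Fin r ⊕ Fin r → V), IsNF f t Sum.swap w := by
  classical
  obtain ⟨N, hN⟩ : ∃ N : V →ₗ[F] V, N = t - (LinearMap.id : V →ₗ[F] V) := ⟨_, rfl⟩
  have hNy : ∀ y, N y = t y - y := by
    intro y; rw [hN, LinearMap.sub_apply, LinearMap.id_apply]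
  have hadj : ∀ x y, f (N x) y = f x (N y) := by
    intro x y
    rw [hNy, hNy, map_sub, map_sub, LinearMap.sub_apply]
    congr 1
    rw [← hiso (t x) y, ht2]
  obtain ⟨C, hC⟩ := Submodule.exists_isCompl (LinearMap.ker N)
  let β : LinearMap.BilinForm F V := f.compl₂ N
  have hβ : ∀ x y, β x y = f x (N y) := fun x y => rfl
  have hsymm : ∀ x y, β x y = β y x := by
    intro x y
    rw [hβ, hβ, ← hadj, alt_skew' halt, Char2Gen.neg_eq_self F]
  have hleft : ∀ x : C, (∀ y : C, restrictB β C x y = 0) → x = 0 := by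
    intro x hx
    have h1 : N (x : V) = 0 := by
      apply hf.1
      intro z
      have hz : z ∈ LinearMap.ker N ⊔ C := by rw [hC.sup_eq_top]; exact Submodule.mem_top
      obtain ⟨k, hk, c, hc, rfl⟩ := Submodule.mem_sup.mp hz
      have hk' : N k = 0 := hk
      rw [map_add, hadj, hk', map_zero, zero_add, hadj]
      have := hx ⟨c, hc⟩
      exact this
    have h2 := Submodule.disjoint_def.mp hC.disjoint (x : V) h1 x.2
    exact Subtype.ext h2
  have halt' : ∀ c : C, restrictB β C c c = 0 := by
    intro c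
    show f c (N c) = 0
    rw [hNy, map_sub, ha, halt, sub_zero]
  obtain ⟨κ, hκ, hdec, b₀, hb₀⟩ := symp_aux (finrank F C) (restrictB β C) halt' hleft rfl
  let e : κ ≃ Fin (Fintype.card κ) := Fintype.equivFin κ
  have hb := IsSymp.reindex (restrictB β C) b₀ hb₀ e
  refine ⟨Fintype.card κ, _, isNF_of_basis hf t ht2 hiso C (by rw [← hN]; exact hC) Sum.swap
    Sum.swap_swap (b₀.reindex (e.sumCongr e)) ?_⟩
  intro i j
  rw [← hN]
  show restrictB β C _ _ = _
  rcases i with i | i <;> rcases j with j | j
  · rw [hb.iso_l]; simp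
  · rw [hb.pair]; simp
  · rw [restrictB_apply, hsymm, ← restrictB_apply, hb.pair]; simp [eq_comm]
  · rw [hb.iso_r]; simp

/-- the possible invariants of an involution -/
theorem invariants_range (hf : f.Nondegenerate) (halt : f.IsAlt) (t : V →ₗ[F] V)
    (ht2 : ∀ y, t (t y) = y) (hiso : ∀ x y, f (t x) (t y) = f x y)
    (ht1 : t ≠ LinearMap.id) :
    1 ≤ finrank F ↥(LinearMap.range (t - (LinearMap.id : V →ₗ[F] V))) ∧
    2 * finrank F ↥(LinearMap.range (t - (LinearMap.id : V →ₗ[F] V))) ≤ finrank F V ∧
    ((∀ y, f y (t y) = 0) →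
      Even (finrank F ↥(LinearMap.range (t - (LinearMap.id : V →ₗ[F] V))))) := by
  by_cases h : ∀ y, f y (t y) = 0
  · obtain ⟨r, w, hw⟩ := exists_NF_swap hf halt t ht2 hiso h
    have h1 := hw.finrank_range hf halt Sum.swap_swap
    have h2 := hw.two_mul_card_le hf
    rw [h1]
    rw [Fintype.card_sum, Fintype.card_fin] at h2 ⊢
    refine ⟨?_, h2, fun _ => ⟨r, rfl⟩⟩
    by_contra hlt
    have hr : r = 0 := by omega
    subst hr
    exact ht1 hw.eq_id_of_isEmpty
  · push Not at h
    obtain ⟨s, w, hw⟩ := exists_NF_id hf halt t ht2 hiso h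
    have h1 := hw.finrank_range hf halt (fun _ => rfl)
    have h2 := hw.two_mul_card_le hf
    rw [h1]
    rw [Fintype.card_fin] at h2 ⊢
    refine ⟨?_, h2, fun hh => ?_⟩
    · by_contra hlt
      have hr : s = 0 := by omega
      subst hr
      exact ht1 hw.eq_id_of_isEmpty
    · obtain ⟨y, hy⟩ := h
      exact absurd (hh y) hy

/-- rank and the alternating property form a complete conjugacy invariant for involutions -/
theorem conj_of_invariants (hf : f.Nondegenerate) (halt : f.IsAlt) (t t' : V →ₗ[F] V)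
    (ht2 : ∀ y, t (t y) = y) (hiso : ∀ x y, f (t x) (t y) = f x y)
    (ht2' : ∀ y, t' (t' y) = y) (hiso' : ∀ x y, f (t' x) (t' y) = f x y)
    (hrank : finrank F ↥(LinearMap.range (t - (LinearMap.id : V →ₗ[F] V))) =
      finrank F ↥(LinearMap.range (t' - (LinearMap.id : V →ₗ[F] V))))
    (ha : (∀ y, f y (t y) = 0) ↔ (∀ y, f y (t' y) = 0)) :
    ∃ g : V ≃ₗ[F] V, (∀ u v, f (g u) (g v) = f u v) ∧ ∀ y, g (t y) = t' (g y) := by
  by_cases h : ∀ y, f y (t y) = 0
  · obtain ⟨r, w, hw⟩ := exists_NF_swap hf halt t ht2 hiso h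
    obtain ⟨r', w', hw'⟩ := exists_NF_swap hf halt t' ht2' hiso' (ha.mp h)
    have h1 := hw.finrank_range hf halt Sum.swap_swap
    have h2 := hw'.finrank_range hf halt Sum.swap_swap
    rw [Fintype.card_sum, Fintype.card_fin] at h1 h2
    have : r = r' := by omega
    subst this
    exact hw.conj hf halt hw'
  · have h' : ¬ ∀ y, f y (t' y) = 0 := fun hh => h (ha.mpr hh)
    push Not at h h'
    obtain ⟨s, w, hw⟩ := exists_NF_id hf halt t ht2 hiso h
    obtain ⟨s', w', hw'⟩ := exists_NF_id hf halt t' ht2' hiso' h'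
    have h1 := hw.finrank_range hf halt (fun _ => rfl)
    have h2 := hw'.finrank_range hf halt (fun _ => rfl)
    rw [Fintype.card_fin] at h1 h2
    have : s = s' := by omega
    subst this
    exact hw.conj hf halt hw'

end exist

end abstract

end Cfsg.Agent.Lib.H13.SpInvol
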