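import Cfsg.Agent.Lib.H13.SympBasis
import Cfsg.Agent.Lib.H13.SpInvol

set_option autoImplicit false

namespace Cfsg.Agent.Lib.H13.SpPlanes

open Module Cfsg.Agent.Lib.H13

section step
variable {F V : Type*} [Field F] [AddCommGroup V] [Module F V]

/-- `t` preserves the orthogonal complement of an invariant plane -/
theorem map_pairOrth (B : LinearMap.BilinForm F V) (t : V →ₗ[F] V)
    (hiso : ∀ u v, B (t u) (t v) = B u v) (z : F) (hz : z ≠ 0) (ht : ∀ v, t (t v) = z • v)
    (e f : V) (α β γ δ : F) (he : t e = α • e + γ • f) (hf : t f = β • e + δ • f) :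
    ∀ w ∈ pairOrthB B e f, t w ∈ pairOrthB B e f := by
  intro w hw
  rw [mem_pairOrthB] at hw ⊢
  constructor
  · have h1 : z * B e (t w) = 0 := by
      have : B (t (t e)) (t w) = B (t e) w := hiso _ _
      rw [ht, map_smul, LinearMap.smul_apply, smul_eq_mul] at this
      rw [this, he, map_add, LinearMap.add_apply, map_smul, map_smul, LinearMap.smul_apply,
        LinearMap.smul_apply, hw.1, hw.2]
      simp
    exact (mul_eq_zero.mp h1).resolve_left hz
  · have h1 : z * B f (t w) = 0 := by
      have : B (t (t f)) (t w) = B (t f) w := hiso _ _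
      rw [ht, map_smul, LinearMap.smul_apply, smul_eq_mul] at this
      rw [this, hf, map_add, LinearMap.add_apply, map_smul, map_smul, LinearMap.smul_apply,
        LinearMap.smul_apply, hw.1, hw.2]
      simp
    exact (mul_eq_zero.mp h1).resolve_left hz

end step

section main
variable {F : Type*} [Field F]

/-- the conclusion: a symplectic basis whose planes are permuted by `t` -/
def Adapted {V : Type*} [AddCommGroup V] [Module F V] (B : LinearMap.BilinForm F V)
    (t : V →ₗ[F] V) {ι : Type} [DecidableEq ι] (b : Basis (ι ⊕ ι) F V) (π : ι → ι) : Prop :=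
  IsSymp B b ∧ Function.Involutive π ∧
    ∀ i, (∃ α γ : F, t (b (.inl i)) = α • b (.inl (π i)) + γ • b (.inr (π i))) ∧
      (∃ β δ : F, t (b (.inr i)) = β • b (.inl (π i)) + δ • b (.inr (π i)))

theorem planes_aux (z : F) (hz : z ≠ 0) (n : ℕ) : ∀ {V : Type*} [AddCommGroup V] [Module F V]
    [FiniteDimensional F V] (B : LinearMap.BilinForm F V), (∀ v, B v v = 0) →
    (∀ v, (∀ w, B v w = 0) → v = 0) → ∀ (t : V →ₗ[F] V), (∀ u v, B (t u) (t v) = B u v) →
    (∀ v, t (t v) = z • v) → finrank F V = n →
    ∃ (ι : Type) (_ : Fintype ι) (_ : DecidableEq ι) (b : Basis (ι ⊕ ι) F V) (π : ι → ι),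
      Adapted B t b π := by
  induction n using Nat.strong_induction_on with
  | _ n ih =>
    intro V _ _ _ B halt hnd t hiso ht hn
    by_cases hA : ∃ y, B y (t y) ≠ 0
    · -- an invariant hyperbolic plane
      obtain ⟨y, hy⟩ := hA
      set e := y with he
      set f := (B y (t y))⁻¹ • t y with hf
      have hef : B e f = 1 := by
        rw [hf, map_smul, smul_eq_mul, inv_mul_cancel₀ hy]
      have hte : t e = (0 : F) • e + (B y (t y)) • f := by
        rw [hf, smul_smul, mul_inv_cancel₀ hy, one_smul, zero_smul, zero_add]
      have htf : t f = ((B y (t y))⁻¹ * z) • e + (0 : F) • f := by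
        rw [hf, map_smul, ht, smul_smul, zero_smul, add_zero]
      have hfr := finrank_pairOrthB B halt e f hef
      have hmap := map_pairOrth B t hiso z hz ht e f _ _ _ _ hte htf
      let tW : pairOrthB B e f →ₗ[F] pairOrthB B e f := t.restrict hmap
      have htW : ∀ w : pairOrthB B e f, ((tW w : pairOrthB B e f) : V) = t (w : V) := fun w => rfl
      obtain ⟨ι, hι, hdec, b', π', hsymp', hπ', hb'⟩ := ih (n - 2) (by omega)
        (restrictB B (pairOrthB B e f)) (fun x => halt x)
        (nondeg_pairOrthB B halt e f hef hnd) tW (fun u v => hiso _ _)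
        (fun w => Subtype.ext (by rw [htW, htW, ht]; rfl)) (by omega)
      let π : Unit ⊕ ι → Unit ⊕ ι := fun x =>
        match x with
        | .inl () => .inl ()
        | .inr i => .inr (π' i)
      refine ⟨Unit ⊕ ι, inferInstance, inferInstance, consBasisB B halt e f hef b', π,
        IsSymp.cons B halt e f hef b' hsymp', ?_, ?_⟩
      · rintro (⟨⟩ | i)
        · rfl
        · show Sum.inr (π' (π' i)) = _
          rw [hπ' i]
      · rintro (⟨⟩ | i)
        · constructor
          · refine ⟨0, B y (t y), ?_⟩
            show t (consBasisB B halt e f hef b' (.inl (.inl ()))) =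
              (0 : F) • consBasisB B halt e f hef b' (.inl (.inl ())) +
              (B y (t y)) • consBasisB B halt e f hef b' (.inr (.inl ()))
            rw [consBasisB_e, consBasisB_f]
            exact hte
          · refine ⟨(B y (t y))⁻¹ * z, 0, ?_⟩
            show t (consBasisB B halt e f hef b' (.inr (.inl ()))) =
              ((B y (t y))⁻¹ * z) • consBasisB B halt e f hef b' (.inl (.inl ())) +
              (0 : F) • consBasisB B halt e f hef b' (.inr (.inl ()))
            rw [consBasisB_e, consBasisB_f]
            exact htf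
        · obtain ⟨⟨α, γ, h1⟩, ⟨β, δ, h2⟩⟩ := hb' i
          constructor
          · refine ⟨α, γ, ?_⟩
            show t (consBasisB B halt e f hef b' (.inl (.inr i))) =
              α • consBasisB B halt e f hef b' (.inl (.inr (π' i))) +
              γ • consBasisB B halt e f hef b' (.inr (.inr (π' i)))
            rw [consBasisB_l, consBasisB_l, consBasisB_r, ← htW, h1]
            rfl
          · refine ⟨β, δ, ?_⟩
            show t (consBasisB B halt e f hef b' (.inr (.inr i))) =
              β • consBasisB B halt e f hef b' (.inl (.inr (π' i))) +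
              δ • consBasisB B halt e f hef b' (.inr (.inr (π' i)))
            rw [consBasisB_r, consBasisB_l, consBasisB_r, ← htW, h2]
            rfl
    · push Not at hA
      by_cases hsc : ∀ v, t v ∈ Submodule.span F {v}
      · -- `t` is scalar
        obtain ⟨ι, hι, hdec, b, hb⟩ := symp_aux (finrank F V) B halt hnd rfl
        refine ⟨ι, hι, hdec, b, id, hb, fun _ => rfl, fun i => ?_⟩
        constructor
        · obtain ⟨c, hc⟩ := Submodule.mem_span_singleton.mp (hsc (b (.inl i)))
          exact ⟨c, 0, by rw [← hc, zero_smul, add_zero]; rfl⟩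
        · obtain ⟨c, hc⟩ := Submodule.mem_span_singleton.mp (hsc (b (.inr i)))
          exact ⟨0, c, by rw [← hc, zero_smul, zero_add]; rfl⟩
      · -- two swapped hyperbolic planes
        push Not at hsc
        obtain ⟨u, hu⟩ := hsc
        have hskew : ∀ x y, B x y = - B y x := alt_skew B halt
        have hnd' : B.Nondegenerate := by
          refine ⟨hnd, fun y hy => hnd y (fun x => ?_)⟩
          rw [hskew, hy x, neg_zero]
        have hu0 : u ≠ 0 := by
          rintro rfl
          apply hu
          rw [map_zero]
          exact Submodule.zero_mem _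
        have hind : LinearIndependent F ![u, t u] := by
          rw [LinearIndependent.pair_iff' hu0]
          intro a ha
          apply hu
          rw [← ha]
          exact Submodule.smul_mem _ _ (Submodule.mem_span_singleton_self u)
        obtain ⟨v₀, hv₀⟩ := Cfsg.Agent.Lib.H13.SpInvol.exists_dual hnd' halt ![u, t u] hind ![-1, 0]
        have hv1 : B u v₀ = 1 := by
          have := hv₀ 0
          simp only [Matrix.cons_val_zero] at this
          rw [hskew, this, neg_neg]
        have hv2 : B (t u) v₀ = 0 := by
          have := hv₀ 1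
          simp only [Matrix.cons_val_one, Matrix.cons_val_zero] at this
          rw [hskew, this, neg_zero]
        set v := v₀ with hv
        set u' := t u with hu'
        set v' := t v with hv'
        have huv' : B u' v' = 1 := by rw [hu', hv', hiso, hv1]
        have huu' : B u u' = 0 := hA u
        have hvv' : B v v' = 0 := hA v
        have hvu' : B v u' = 0 := by rw [hskew, hv2, neg_zero]
        have huv'0 : B u v' = 0 := by
          have h1 : B (t u) (t (t v)) = B u (t v) := hiso _ _
          rw [ht, map_smul, smul_eq_mul, hv2, mul_zero] at h1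
          rw [hv', ← h1]
        have htu' : t u' = z • u := ht u
        have htv' : t v' = z • v := ht v
        -- first split
        have hfr1 := finrank_pairOrthB B halt u v hv1
        set W₁ := pairOrthB B u v with hW₁
        set B₁ := restrictB B W₁ with hB₁
        have halt₁ : ∀ x : W₁, B₁ x x = 0 := fun x => halt x
        have hnd₁ := nondeg_pairOrthB B halt u v hv1 hnd
        let u₁ : W₁ := ⟨u', (mem_pairOrthB B u v u').mpr ⟨huu', hvu'⟩⟩
        let v₁ : W₁ := ⟨v', (mem_pairOrthB B u v v').mpr ⟨huv'0, hvv'⟩⟩
        have huv₁ : B₁ u₁ v₁ = 1 := huv'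
        have hfr2 := finrank_pairOrthB B₁ halt₁ u₁ v₁ huv₁
        set W₂ := pairOrthB B₁ u₁ v₁ with hW₂
        have hnd₂ := nondeg_pairOrthB B₁ halt₁ u₁ v₁ huv₁ hnd₁
        -- membership characterisation for W₂
        have hmem : ∀ w : W₂, B u ((w : W₁) : V) = 0 ∧ B v ((w : W₁) : V) = 0 ∧
            B u' ((w : W₁) : V) = 0 ∧ B v' ((w : W₁) : V) = 0 := by
          intro w
          have h1 := (mem_pairOrthB B u v _).mp (w : W₁).2
          have h2 := (mem_pairOrthB B₁ u₁ v₁ _).mp w.2
          exact ⟨h1.1, h1.2, h2.1, h2.2⟩
        have hmap : ∀ w : W₂, B u (t ((w : W₁) : V)) = 0 ∧ B v (t ((w : W₁) : V)) = 0 ∧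
            B u' (t ((w : W₁) : V)) = 0 ∧ B v' (t ((w : W₁) : V)) = 0 := by
          intro w
          obtain ⟨h1, h2, h3, h4⟩ := hmem w
          refine ⟨?_, ?_, ?_, ?_⟩
          · have h5 : z * B u (t ((w : W₁) : V)) = 0 := by
              have : B (t u') (t ((w : W₁) : V)) = B u' ((w : W₁) : V) := hiso _ _
              rw [htu', map_smul, LinearMap.smul_apply, smul_eq_mul] at this
              rw [this, h3]
            exact (mul_eq_zero.mp h5).resolve_left hz
          · have h5 : z * B v (t ((w : W₁) : V)) = 0 := by
              have : B (t v') (t ((w : W₁) : V)) = B v' ((w : W₁) : V) := hiso _ _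
              rw [htv', map_smul, LinearMap.smul_apply, smul_eq_mul] at this
              rw [this, h4]
            exact (mul_eq_zero.mp h5).resolve_left hz
          · rw [hu', hiso, h1]
          · rw [hv', hiso, h2]
        let t₂ : W₂ →ₗ[F] W₂ :=
          { toFun := fun w => ⟨⟨t ((w : W₁) : V), (mem_pairOrthB B u v _).mpr
              ⟨(hmap w).1, (hmap w).2.1⟩⟩, (mem_pairOrthB B₁ u₁ v₁ _).mpr
              ⟨(hmap w).2.2.1, (hmap w).2.2.2⟩⟩
            map_add' := fun x y => Subtype.ext (Subtype.ext (by
              show t (((x + y : W₂) : W₁) : V) = t ((x : W₁) : V) + t ((y : W₁) : V)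
              rw [← map_add]; rfl))
            map_smul' := fun c x => Subtype.ext (Subtype.ext (by
              show t (((c • x : W₂) : W₁) : V) = c • t ((x : W₁) : V)
              rw [← map_smul]; rfl)) }
        have ht₂ : ∀ w : W₂, (((t₂ w : W₂) : W₁) : V) = t ((w : W₁) : V) := fun w => rfl
        obtain ⟨ι, hι, hdec, b₂, π', hsymp₂, hπ', hb₂⟩ := ih (n - 4) (by omega)
          (restrictB B₁ W₂) (fun x => halt₁ x) hnd₂ t₂ (fun x y => hiso _ _)
          (fun w => Subtype.ext (Subtype.ext (by rw [ht₂, ht₂, ht]; rfl))) (by omega)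
        set b₁ := consBasisB B₁ halt₁ u₁ v₁ huv₁ b₂ with hb₁
        have hsymp₁ : IsSymp B₁ b₁ := IsSymp.cons B₁ halt₁ u₁ v₁ huv₁ b₂ hsymp₂
        set b := consBasisB B halt u v hv1 b₁ with hb
        have hsymp : IsSymp B b := IsSymp.cons B halt u v hv1 b₁ hsymp₁
        have e1 : b (.inl (.inl ())) = u := consBasisB_e B halt u v hv1 b₁
        have e2 : b (.inr (.inl ())) = v := consBasisB_f B halt u v hv1 b₁
        have e3 : b (.inl (.inr (.inl ()))) = u' := by
          rw [hb, consBasisB_l, hb₁, consBasisB_e]
        have e4 : b (.inr (.inr (.inl ()))) = v' := by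
          rw [hb, consBasisB_r, hb₁, consBasisB_f]
        have e5 : ∀ i, b (.inl (.inr (.inr i))) = ((b₂ (.inl i) : W₁) : V) := by
          intro i
          rw [hb, consBasisB_l, hb₁, consBasisB_l]
        have e6 : ∀ i, b (.inr (.inr (.inr i))) = ((b₂ (.inr i) : W₁) : V) := by
          intro i
          rw [hb, consBasisB_r, hb₁, consBasisB_r]
        let π : Unit ⊕ (Unit ⊕ ι) → Unit ⊕ (Unit ⊕ ι) := fun x =>
          match x with
          | .inl () => .inr (.inl ())
          | .inr (.inl ()) => .inl ()
          | .inr (.inr i) => .inr (.inr (π' i))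
        refine ⟨Unit ⊕ (Unit ⊕ ι), inferInstance, inferInstance, b, π, hsymp, ?_, ?_⟩
        · rintro (⟨⟩ | ⟨⟩ | i)
          · rfl
          · rfl
          · show Sum.inr (Sum.inr (π' (π' i))) = _
            rw [hπ' i]
        · rintro (⟨⟩ | ⟨⟩ | i)
          · constructor
            · refine ⟨1, 0, ?_⟩
              show t (b (.inl (.inl ()))) = (1 : F) • b (.inl (.inr (.inl ()))) +
                (0 : F) • b (.inr (.inr (.inl ())))
              rw [e1, e3, one_smul, zero_smul, add_zero]
            · refine ⟨0, 1, ?_⟩
              show t (b (.inr (.inl ()))) = (0 : F) • b (.inl (.inr (.inl ()))) +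
                (1 : F) • b (.inr (.inr (.inl ())))
              rw [e2, e4, one_smul, zero_smul, zero_add]
          · constructor
            · refine ⟨z, 0, ?_⟩
              show t (b (.inl (.inr (.inl ())))) = z • b (.inl (.inl ())) +
                (0 : F) • b (.inr (.inl ()))
              rw [e1, e3, zero_smul, add_zero, htu']
            · refine ⟨0, z, ?_⟩
              show t (b (.inr (.inr (.inl ())))) = (0 : F) • b (.inl (.inl ())) +
                z • b (.inr (.inl ()))
              rw [e2, e4, zero_smul, zero_add, htv']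
          · obtain ⟨⟨α, γ, h1⟩, ⟨β, δ, h2⟩⟩ := hb₂ i
            constructor
            · refine ⟨α, γ, ?_⟩
              show t (b (.inl (.inr (.inr i)))) = α • b (.inl (.inr (.inr (π' i)))) +
                γ • b (.inr (.inr (.inr (π' i))))
              rw [e5, e5, e6, ← ht₂, h1]
              rfl
            · refine ⟨β, δ, ?_⟩
              show t (b (.inr (.inr (.inr i)))) = β • b (.inl (.inr (.inr (π' i)))) +
                δ • b (.inr (.inr (.inr (π' i))))
              rw [e6, e5, e6, ← ht₂, h2]
              rfl

end main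

end Cfsg.Agent.Lib.H13.SpPlanes
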