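import Mathlib

set_option autoImplicit false

namespace Cfsg.Agent.Lib.H13.DecompBasis

open Module Submodule

variable {F V : Type*} [Field F] [AddCommGroup V] [Module F V]
variable {κ : Type*} (b : Basis κ F V) {t : ℕ} (g : κ → Fin t)

/-- the span of the basis vectors of colour `j` -/
def blk (j : Fin t) : Submodule F V := span F (b '' {k | g k = j})

theorem mem_blk (k : κ) : b k ∈ blk b g (g k) :=
  subset_span ⟨k, rfl, rfl⟩

theorem finrank_blk [Fintype κ] [DecidableEq (Fin t)] (j : Fin t) :
    finrank F (blk b g j) = Fintype.card {k // g k = j} := by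
  classical
  unfold blk
  rw [Set.image_eq_range]
  exact finrank_span_eq_card (b.linearIndependent.comp _ Subtype.val_injective)

theorem indep_blk : iSupIndep (blk b g) := by
  rw [iSupIndep_def]
  intro j
  have h1 : (⨆ (j') (_ : j' ≠ j), blk b g j') = span F (b '' {k | g k ≠ j}) := by
    unfold blk
    simp_rw [← span_iUnion]
    congr 1
    ext v
    simp only [Set.mem_iUnion, Set.mem_image, Set.mem_setOf_eq]
    constructor
    · rintro ⟨j', hj', k, hk, rfl⟩
      exact ⟨k, by rw [hk]; exact hj', rfl⟩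
    · rintro ⟨k, hk, rfl⟩
      exact ⟨g k, hk, k, rfl, rfl⟩
  rw [h1]
  apply b.linearIndependent.disjoint_span_image
  rw [Set.disjoint_left]
  intro k hk hk'
  exact hk' hk

theorem iSup_blk : iSup (blk b g) = ⊤ := by
  unfold blk
  rw [← span_iUnion]
  have : (⋃ j, b '' {k | g k = j}) = Set.range b := by
    ext v
    simp only [Set.mem_iUnion, Set.mem_image, Set.mem_setOf_eq, Set.mem_range]
    constructor
    · rintro ⟨j, k, _, rfl⟩; exact ⟨k, rfl⟩
    · rintro ⟨k, rfl⟩; exact ⟨g k, k, rfl, rfl⟩
  rw [this, b.span_eq]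

theorem map_blk [Fintype κ] [FiniteDimensional F V] (T : V →ₗ[F] V) (hT : Function.Injective T)
    (σ : Fin t → Fin t) (a : ℕ) (hfib : ∀ j, Fintype.card {k // g k = j} = a)
    (h : ∀ k, T (b k) ∈ blk b g (σ (g k))) (j : Fin t) :
    (blk b g j).map T = blk b g (σ j) := by
  classical
  apply Submodule.eq_of_le_of_finrank_eq
  · unfold blk
    rw [Submodule.map_span, span_le]
    rintro _ ⟨_, ⟨k, hk, rfl⟩, rfl⟩
    have := h k
    rw [Set.mem_setOf_eq] at hk
    rw [hk] at this
    exact this
  · rw [finrank_blk, hfib]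
    have : finrank F ↥((blk b g j).map T) = finrank F ↥(blk b g j) :=
      LinearEquiv.finrank_eq (Submodule.equivMapOfInjective T hT _).symm
    rw [this, finrank_blk, hfib]

end Cfsg.Agent.Lib.H13.DecompBasis
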