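import Cfsg.Agent.Lib.H13.SympBasis
import Cfsg.Agent.Lib.H13.DecompBasis

set_option autoImplicit false

namespace Cfsg.Agent.Lib.H13.SympBlocks

open Module Cfsg.Agent.Lib.H13 Cfsg.Agent.Lib.H13.DecompBasis

variable {F V : Type*} [Field F] [AddCommGroup V] [Module F V]
variable {ι : Type*} [Fintype ι] [DecidableEq ι] (B : LinearMap.BilinForm F V)
  (halt : ∀ v, B v v = 0) (b : Basis (ι ⊕ ι) F V) (hb : IsSymp B b)

include halt hb

theorem pair_ne {k k' : ι ⊕ ι} (h : Sum.elim id id k ≠ Sum.elim id id k') :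
    B (b k) (b k') = 0 := by
  rcases k with i | i <;> rcases k' with i' | i'
  · exact hb.iso_l i i'
  · rw [hb.pair, if_neg]
    simpa using h
  · rw [alt_skew B halt, hb.pair, if_neg, neg_zero]
    intro h'
    apply h
    simp [h']
  · exact hb.iso_r i i'

theorem apply_inr (u : V) (i : ι) : B u (b (.inr i)) = b.repr u (.inl i) := by
  conv_lhs => rw [← b.sum_repr u]
  rw [map_sum, LinearMap.sum_apply, Fintype.sum_sum_type]
  simp only [map_smul, LinearMap.smul_apply, smul_eq_mul, hb.pair, hb.iso_r, mul_zero,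
    Finset.sum_const_zero, add_zero, mul_ite, mul_one, Finset.sum_ite_eq', Finset.mem_univ,
    if_true]

theorem apply_inl (u : V) (i : ι) : B u (b (.inl i)) = - b.repr u (.inr i) := by
  conv_lhs => rw [← b.sum_repr u]
  rw [map_sum, LinearMap.sum_apply, Fintype.sum_sum_type]
  have h1 : ∀ i' : ι, B (b (.inr i')) (b (.inl i)) = if i = i' then -1 else 0 := by
    intro i'
    rw [alt_skew B halt, hb.pair]
    split_ifs <;> simp
  simp only [map_smul, LinearMap.smul_apply, smul_eq_mul, hb.iso_l, h1, mul_zero,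
    Finset.sum_const_zero, zero_add, mul_ite, mul_neg, mul_one, Finset.sum_ite_eq,
    Finset.mem_univ, if_true]

variable {t : ℕ} (c : ι → Fin t)

theorem orth {j j' : Fin t} (hjj' : j ≠ j') {u v : V}
    (hu : u ∈ blk b (c ∘ Sum.elim id id) j) (hv : v ∈ blk b (c ∘ Sum.elim id id) j') :
    B u v = 0 := by
  unfold blk at hu hv
  induction hu using Submodule.span_induction with
  | mem x hx =>
    obtain ⟨k, hk, rfl⟩ := hx
    induction hv using Submodule.span_induction with
    | mem y hy =>
      obtain ⟨k', hk', rfl⟩ := hy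
      apply pair_ne B halt b hb
      intro h
      apply hjj'
      rw [← hk, ← hk']
      show c (Sum.elim id id k) = c (Sum.elim id id k')
      rw [h]
    | zero => simp
    | add a a' _ _ h1 h2 => rw [map_add, h1, h2, add_zero]
    | smul l a _ h1 => rw [map_smul, h1, smul_zero]
  | zero => simp
  | add a a' _ _ h1 h2 => rw [map_add, LinearMap.add_apply, h1, h2, add_zero]
  | smul l a _ h1 => rw [map_smul, LinearMap.smul_apply, h1, smul_zero]

theorem nondeg {j : Fin t} {u : V} (hu : u ∈ blk b (c ∘ Sum.elim id id) j) (hu0 : u ≠ 0) :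
    ∃ v ∈ blk b (c ∘ Sum.elim id id) j, B u v ≠ 0 := by
  have hsupp := (b.mem_span_image).mp hu
  have hne : b.repr u ≠ 0 := fun h => hu0 (by
    have := congrArg b.repr.symm h
    simpa using this)
  obtain ⟨k, hk⟩ := Finsupp.ne_iff.mp hne
  rw [Finsupp.zero_apply] at hk
  have hkj : (c ∘ Sum.elim id id) k = j := hsupp (Finsupp.mem_support_iff.mpr hk)
  rcases k with i | i
  · refine ⟨b (.inr i), ?_, ?_⟩
    · have := mem_blk b (c ∘ Sum.elim id id) (.inr i)
      have h2 : (c ∘ Sum.elim id id) (Sum.inr i) = j := hkj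
      rw [h2] at this
      exact this
    · rw [apply_inr B halt b hb]
      exact hk
  · refine ⟨b (.inl i), ?_, ?_⟩
    · have := mem_blk b (c ∘ Sum.elim id id) (.inl i)
      have h2 : (c ∘ Sum.elim id id) (Sum.inl i) = j := hkj
      rw [h2] at this
      exact this
    · rw [apply_inl B halt b hb, neg_ne_zero]
      exact hk

omit halt hb in
theorem card_fib (a : ℕ) (hfib : ∀ j, Fintype.card {i // c i = j} = a) (j : Fin t) :
    Fintype.card {k : ι ⊕ ι // (c ∘ Sum.elim id id) k = j} = 2 * a := by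
  classical
  have e : {k : ι ⊕ ι // (c ∘ Sum.elim id id) k = j} ≃ {i // c i = j} ⊕ {i // c i = j} :=
    { toFun := fun k => match k with
        | ⟨.inl i, h⟩ => .inl ⟨i, h⟩
        | ⟨.inr i, h⟩ => .inr ⟨i, h⟩
      invFun := fun k => match k with
        | .inl ⟨i, h⟩ => ⟨.inl i, h⟩
        | .inr ⟨i, h⟩ => ⟨.inr i, h⟩
      left_inv := by rintro ⟨i | i, h⟩ <;> rfl
      right_inv := by rintro (⟨i, h⟩ | ⟨i, h⟩) <;> rfl }
  rw [Fintype.card_congr e, Fintype.card_sum, hfib]
  ring

end Cfsg.Agent.Lib.H13.SympBlocks
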