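import Mathlib

set_option autoImplicit false

namespace Cfsg.Agent.Lib.H13.SSClass

open Polynomial Module

universe u v w

variable {F : Type u} [Field F]

section single

variable {V : Type v} [AddCommGroup V] [Module F V]

/-- the algebra hom from `AdjoinRoot f` to endomorphisms, given `f(φ) = 0` -/
noncomputable def liftEnd (f : F[X]) (φ : End F V) (hφ : aeval φ f = 0) :
    AdjoinRoot f →ₐ[F] End F V :=
  Ideal.Quotient.liftₐ (Ideal.span {f}) (aeval φ) (by
    intro a ha
    obtain ⟨b, rfl⟩ := Ideal.mem_span_singleton.mp ha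
    rw [map_mul, hφ, zero_mul])

theorem liftEnd_mk (f : F[X]) (φ : End F V) (hφ : aeval φ f = 0) (p : F[X]) :
    liftEnd f φ hφ (AdjoinRoot.mk f p) = aeval φ p := rfl

theorem liftEnd_root (f : F[X]) (φ : End F V) (hφ : aeval φ f = 0) :
    liftEnd f φ hφ (AdjoinRoot.root f) = φ := by
  rw [AdjoinRoot.root, liftEnd_mk, aeval_X]

variable {W : Type w} [AddCommGroup W] [Module F W] [Module.Finite F V] [Module.Finite F W]

theorem finrank_adjoinRoot (f : F[X]) (hf : f ≠ 0) : finrank F (AdjoinRoot f) = f.natDegree := by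
  rw [(AdjoinRoot.powerBasis hf).finrank, AdjoinRoot.powerBasis_dim]

theorem exists_equiv_of_irreducible
    (f : F[X]) (hf : Irreducible f) (φ : End F V) (ψ : End F W) (hφ : aeval φ f = 0)
    (hψ : aeval ψ f = 0) (h : finrank F V = finrank F W) :
    ∃ g : V ≃ₗ[F] W, ∀ v, g (φ v) = ψ (g v) := by
  haveI : Fact (Irreducible f) := ⟨hf⟩
  letI mV : Module (AdjoinRoot f) V := Module.compHom V (liftEnd f φ hφ).toRingHom
  letI mW : Module (AdjoinRoot f) W := Module.compHom W (liftEnd f ψ hψ).toRingHom
  have smulV : ∀ (k : AdjoinRoot f) (v : V), k • v = liftEnd f φ hφ k v := fun _ _ => rfl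
  have smulW : ∀ (k : AdjoinRoot f) (v : W), k • v = liftEnd f ψ hψ k v := fun _ _ => rfl
  haveI : IsScalarTower F (AdjoinRoot f) V :=
    ⟨fun c k v => by rw [smulV, smulV, map_smul, LinearMap.smul_apply]⟩
  haveI : IsScalarTower F (AdjoinRoot f) W :=
    ⟨fun c k v => by rw [smulW, smulW, map_smul, LinearMap.smul_apply]⟩
  haveI : Module.Finite (AdjoinRoot f) V := Module.Finite.of_restrictScalars_finite F _ _
  haveI : Module.Finite (AdjoinRoot f) W := Module.Finite.of_restrictScalars_finite F _ _
  have hd : finrank F (AdjoinRoot f) = f.natDegree := finrank_adjoinRoot f hf.ne_zero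
  have hd0 : 0 < f.natDegree := hf.natDegree_pos
  have h1 := Module.finrank_mul_finrank F (AdjoinRoot f) V
  have h2 := Module.finrank_mul_finrank F (AdjoinRoot f) W
  have h3 : finrank (AdjoinRoot f) V = finrank (AdjoinRoot f) W := by
    rw [hd] at h1 h2
    have : f.natDegree * finrank (AdjoinRoot f) V = f.natDegree * finrank (AdjoinRoot f) W := by
      rw [h1, h2, h]
    exact Nat.eq_of_mul_eq_mul_left hd0 this
  let e : V ≃ₗ[AdjoinRoot f] W := LinearEquiv.ofFinrankEq V W h3
  refine ⟨e.restrictScalars F, fun v => ?_⟩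
  have := e.map_smul (AdjoinRoot.root f) v
  rw [smulV, smulW, liftEnd_root, liftEnd_root] at this
  exact this

theorem natDegree_dvd_finrank (f : F[X]) (hf : Irreducible f) (φ : End F V)
    (hφ : aeval φ f = 0) : f.natDegree ∣ finrank F V := by
  haveI : Fact (Irreducible f) := ⟨hf⟩
  letI mV : Module (AdjoinRoot f) V := Module.compHom V (liftEnd f φ hφ).toRingHom
  have smulV : ∀ (k : AdjoinRoot f) (v : V), k • v = liftEnd f φ hφ k v := fun _ _ => rfl
  haveI : IsScalarTower F (AdjoinRoot f) V :=
    ⟨fun c k v => by rw [smulV, smulV, map_smul, LinearMap.smul_apply]⟩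
  haveI : Module.Finite (AdjoinRoot f) V := Module.Finite.of_restrictScalars_finite F _ _
  have h1 := Module.finrank_mul_finrank F (AdjoinRoot f) V
  rw [finrank_adjoinRoot f hf.ne_zero] at h1
  exact ⟨_, h1.symm⟩

end single

section multi

variable {V : Type v} [AddCommGroup V] [Module F V] {W : Type w} [AddCommGroup W] [Module F W]

theorem aeval_intertwine (φ : End F V) (ψ : End F W) (g : V →ₗ[F] W)
    (h : ∀ v, g (φ v) = ψ (g v)) (p : F[X]) (v : V) :
    g (aeval φ p v) = aeval ψ p (g v) := by
  induction p using Polynomial.induction_on' generalizing v with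
  | add a b ha hb => simp only [map_add, LinearMap.add_apply, ha, hb]
  | monomial n c =>
    rw [← C_mul_X_pow_eq_monomial, map_mul, map_mul, aeval_C, aeval_C, map_pow, map_pow, aeval_X,
      aeval_X]
    simp only [Module.End.mul_apply, Module.algebraMap_end_apply, map_smul]
    congr 1
    induction n generalizing v with
    | zero => simp
    | succ n ih => rw [pow_succ, pow_succ, Module.End.mul_apply, Module.End.mul_apply, ih, h]

theorem aeval_comm (φ : End F V) (p : F[X]) : aeval φ p * φ = φ * aeval φ p := by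
  have h := congrArg (aeval φ) (mul_comm p X)
  rwa [map_mul, map_mul, aeval_X] at h

theorem ker_aeval_invariant (φ : End F V) (p : F[X]) :
    ∀ x ∈ LinearMap.ker (aeval φ p), φ x ∈ LinearMap.ker (aeval φ p) := by
  intro x hx
  rw [LinearMap.mem_ker] at hx ⊢
  have := LinearMap.congr_fun (aeval_comm φ p) x
  rw [Module.End.mul_apply, Module.End.mul_apply, hx, map_zero] at this
  exact this

theorem aeval_restrict_eq_zero (φ : End F V) (p : F[X]) :
    aeval (φ.restrict (ker_aeval_invariant φ p)) p = 0 := by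
  apply LinearMap.ext
  intro x
  apply Subtype.ext
  have := aeval_intertwine (φ.restrict (ker_aeval_invariant φ p)) φ
    (LinearMap.ker (aeval φ p)).subtype (fun v => rfl) p x
  rw [Submodule.subtype_apply, Submodule.subtype_apply] at this
  rw [this, LinearMap.zero_apply, Submodule.coe_zero]
  exact x.2

variable {J : Type*} [DecidableEq J]

theorem iSup_ker_eq (f : J → F[X]) (hcop : ∀ i j, i ≠ j → IsCoprime (f i) (f j))
    (φ : End F V) (S : Finset J) :
    ⨆ j ∈ S, LinearMap.ker (aeval φ (f j)) = LinearMap.ker (aeval φ (∏ j ∈ S, f j)) := by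
  induction S using Finset.induction_on with
  | empty =>
    simp only [Finset.notMem_empty, iSup_false, iSup_bot, Finset.prod_empty, map_one]
    exact (LinearMap.ker_id).symm
  | insert a S ha ih =>
    rw [Finset.iSup_insert, ih, Finset.prod_insert ha]
    exact sup_ker_aeval_eq_ker_aeval_mul_of_coprime φ
      (IsCoprime.prod_right (fun i hi => hcop a i (by rintro rfl; exact ha hi)))

theorem isInternal [Fintype J] (f : J → F[X]) (hcop : ∀ i j, i ≠ j → IsCoprime (f i) (f j))
    (φ : End F V) (hφ : aeval φ (∏ j, f j) = 0) :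
    DirectSum.IsInternal (fun j => LinearMap.ker (aeval φ (f j))) := by
  apply DirectSum.isInternal_submodule_of_iSupIndep_of_iSup_eq_top
  · rw [iSupIndep_def]
    intro i
    have : ⨆ j, ⨆ (_ : j ≠ i), LinearMap.ker (aeval φ (f j)) =
        ⨆ j ∈ Finset.univ.erase i, LinearMap.ker (aeval φ (f j)) := by
      simp only [Finset.mem_erase, Finset.mem_univ, and_true]
    rw [this, iSup_ker_eq f hcop φ]
    exact disjoint_ker_aeval_of_isCoprime φ
      (IsCoprime.prod_right (fun j hj => hcop i j (Finset.ne_of_mem_erase hj).symm))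
  · have := iSup_ker_eq f hcop φ Finset.univ
    simp only [Finset.mem_univ, iSup_pos] at this
    rw [this, hφ, LinearMap.ker_zero]

theorem exists_glue {A : J → Submodule F V} {B : J → Submodule F W}
    (hA : DirectSum.IsInternal A) (hB : DirectSum.IsInternal B) (g : ∀ j, A j ≃ₗ[F] B j) :
    ∃ e : V ≃ₗ[F] W, ∀ j (x : A j), e (x : V) = (g j x : W) := by
  let eA := LinearEquiv.ofBijective (DirectSum.coeLinearMap A) hA
  let eB := LinearEquiv.ofBijective (DirectSum.coeLinearMap B) hB
  let G : (DirectSum J fun j => A j) ≃ₗ[F] (DirectSum J fun j => B j) :=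
    DFinsupp.mapRange.linearEquiv g
  refine ⟨eA.symm ≪≫ₗ G ≪≫ₗ eB, fun j x => ?_⟩
  have h1 : eA.symm (x : V) = DirectSum.of (fun j => A j) j x := by
    rw [LinearEquiv.symm_apply_eq]
    exact (DirectSum.coeLinearMap_of A j x).symm
  rw [LinearEquiv.trans_apply, LinearEquiv.trans_apply, h1]
  have h2 : G (DirectSum.of (fun j => A j) j x) = DirectSum.of (fun j => B j) j (g j x) := by
    exact DFinsupp.mapRange_single (hf := fun i => map_zero (g i))
  rw [h2]
  exact DirectSum.coeLinearMap_of B j (g j x)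

theorem finrank_eq_sum [Fintype J] [Module.Finite F V] {A : J → Submodule F V}
    (hA : DirectSum.IsInternal A) : finrank F V = ∑ j, finrank F (A j) := by
  rw [← Module.finrank_directSum]
  exact (LinearEquiv.ofBijective (DirectSum.coeLinearMap A) hA).symm.finrank_eq

theorem finrank_ker_eq_of_equiv (φ : End F V) (ψ : End F W) (g : V ≃ₗ[F] W)
    (h : ∀ v, g (φ v) = ψ (g v)) (p : F[X]) :
    finrank F (LinearMap.ker (aeval φ p)) = finrank F (LinearMap.ker (aeval ψ p)) := by
  have : LinearMap.ker (aeval ψ p) = (LinearMap.ker (aeval φ p)).map (g : V →ₗ[F] W) := by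
    ext w
    rw [Submodule.mem_map, LinearMap.mem_ker]
    constructor
    · intro hw
      refine ⟨g.symm w, ?_, g.apply_symm_apply w⟩
      rw [LinearMap.mem_ker]
      apply g.injective
      have := aeval_intertwine φ ψ (g : V →ₗ[F] W) h p (g.symm w)
      rw [LinearEquiv.coe_coe, g.apply_symm_apply, hw] at this
      rw [this, map_zero]
    · rintro ⟨v, hv, rfl⟩
      have := aeval_intertwine φ ψ (g : V →ₗ[F] W) h p v
      rw [LinearMap.mem_ker.mp hv, map_zero] at this
      exact this.symm
  rw [this]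
  exact (LinearEquiv.finrank_map_eq g _).symm

/-- multiplication by the root on `Fin m → AdjoinRoot f` -/
noncomputable def mulRoot (f : F[X]) (m : ℕ) : End F (Fin m → AdjoinRoot f) :=
  Algebra.lsmul F F (Fin m → AdjoinRoot f) (AdjoinRoot.root f)

theorem aeval_mulRoot (f : F[X]) (m : ℕ) (p : F[X]) (v : Fin m → AdjoinRoot f) :
    aeval (mulRoot f m) p v = AdjoinRoot.mk f p • v := by
  rw [mulRoot, aeval_algHom_apply, AdjoinRoot.aeval_eq]
  rfl

/-- the model endomorphism -/
noncomputable def model (f : J → F[X]) (m : J → ℕ) :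
    End F ((j : J) → (Fin (m j) → AdjoinRoot (f j))) :=
  LinearMap.pi (fun j => (mulRoot (f j) (m j)) ∘ₗ LinearMap.proj j)

theorem aeval_model (f : J → F[X]) (m : J → ℕ) (p : F[X])
    (v : (j : J) → (Fin (m j) → AdjoinRoot (f j))) (j : J) :
    aeval (model f m) p v j = AdjoinRoot.mk (f j) p • v j := by
  have := aeval_intertwine (model f m) (mulRoot (f j) (m j)) (LinearMap.proj j) (fun v => rfl) p v
  rw [LinearMap.proj_apply, LinearMap.proj_apply] at this
  rw [this, aeval_mulRoot]

theorem aeval_model_prod_eq_zero [Fintype J] (f : J → F[X]) (m : J → ℕ) :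
    aeval (model f m) (∏ j, f j) = 0 := by
  apply LinearMap.ext
  intro v
  funext j
  rw [aeval_model, LinearMap.zero_apply, Pi.zero_apply]
  have : AdjoinRoot.mk (f j) (∏ j, f j) = 0 :=
    AdjoinRoot.mk_eq_zero.mpr (Finset.dvd_prod_of_mem f (Finset.mem_univ j))
  rw [this, zero_smul]

theorem ker_aeval_model (f : J → F[X]) (m : J → ℕ) (hirr : ∀ j, Irreducible (f j))
    (hcop : ∀ i j, i ≠ j → IsCoprime (f i) (f j)) (j : J) :
    LinearMap.ker (aeval (model f m) (f j)) =
      LinearMap.range (LinearMap.single F (fun j => Fin (m j) → AdjoinRoot (f j)) j) := by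
  haveI : ∀ k, Fact (Irreducible (f k)) := fun k => ⟨hirr k⟩
  ext v
  rw [LinearMap.mem_ker, LinearMap.mem_range]
  constructor
  · intro hv
    refine ⟨v j, ?_⟩
    funext k
    by_cases hk : k = j
    · subst hk; simp
    · rw [LinearMap.single_apply, Pi.single_eq_of_ne hk]
      have h1 := congrFun hv k
      rw [aeval_model, Pi.zero_apply] at h1
      have h2 : AdjoinRoot.mk (f k) (f j) ≠ 0 := by
        rw [Ne, AdjoinRoot.mk_eq_zero]
        intro hd
        have := hcop k j hk
        exact (hirr k).not_isUnit (this.isUnit_of_dvd' (dvd_refl _) hd)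
      exact ((smul_eq_zero.mp h1).resolve_left h2).symm
  · rintro ⟨y, rfl⟩
    funext k
    rw [aeval_model, Pi.zero_apply]
    by_cases hk : k = j
    · subst hk; rw [AdjoinRoot.mk_self, zero_smul]
    · rw [LinearMap.single_apply, Pi.single_eq_of_ne hk, smul_zero]

theorem finrank_block (f : F[X]) (hf : f ≠ 0) (m : ℕ) :
    finrank F (Fin m → AdjoinRoot f) = m * f.natDegree := by
  haveI : Module.Finite F (AdjoinRoot f) := (AdjoinRoot.powerBasis hf).finite
  rw [Module.finrank_pi_fintype, Finset.sum_const, Finset.card_univ, Fintype.card_fin,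
    finrank_adjoinRoot f hf, smul_eq_mul]

theorem exists_end [Fintype J] [Module.Finite F V] (f : J → F[X]) (hirr : ∀ j, Irreducible (f j))
    (hcop : ∀ i j, i ≠ j → IsCoprime (f i) (f j)) (m : J → ℕ)
    (hm : ∑ j, m j * (f j).natDegree = finrank F V) :
    ∃ φ : End F V, aeval φ (∏ j, f j) = 0 ∧
      ∀ j, finrank F (LinearMap.ker (aeval φ (f j))) = m j * (f j).natDegree := by
  haveI : ∀ j, Module.Finite F (AdjoinRoot (f j)) :=
    fun j => (AdjoinRoot.powerBasis (hirr j).ne_zero).finite
  have hfr : finrank F ((j : J) → (Fin (m j) → AdjoinRoot (f j))) = finrank F V := by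
    rw [Module.finrank_pi_fintype, ← hm]
    exact Finset.sum_congr rfl (fun j _ => finrank_block (f j) (hirr j).ne_zero (m j))
  let e : ((j : J) → (Fin (m j) → AdjoinRoot (f j))) ≃ₗ[F] V := LinearEquiv.ofFinrankEq _ _ hfr
  have hint : ∀ v, e (model f m v) = (e.conj (model f m)) (e v) := by
    intro v
    rw [LinearEquiv.conj_apply_apply, e.symm_apply_apply]
  refine ⟨e.conj (model f m), ?_, fun j => ?_⟩
  · apply LinearMap.ext
    intro w
    have := aeval_intertwine (model f m) (e.conj (model f m)) (e : _ →ₗ[F] V) hint (∏ j, f j)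
      (e.symm w)
    rw [LinearEquiv.coe_coe, e.apply_symm_apply, aeval_model_prod_eq_zero, LinearMap.zero_apply,
      map_zero] at this
    rw [← this, LinearMap.zero_apply]
  · rw [← finrank_ker_eq_of_equiv (model f m) (e.conj (model f m)) e hint (f j),
      ker_aeval_model f m hirr hcop j,
      LinearMap.finrank_range_of_inj (LinearMap.ker_eq_bot.mp (LinearMap.ker_single F _ j)),
      finrank_block (f j) (hirr j).ne_zero]


theorem exists_equiv [Fintype J] [Module.Finite F V] [Module.Finite F W] (f : J → F[X])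
    (hirr : ∀ j, Irreducible (f j)) (hcop : ∀ i j, i ≠ j → IsCoprime (f i) (f j))
    (φ : End F V) (ψ : End F W) (hφ : aeval φ (∏ j, f j) = 0) (hψ : aeval ψ (∏ j, f j) = 0)
    (h : ∀ j, finrank F (LinearMap.ker (aeval φ (f j))) =
      finrank F (LinearMap.ker (aeval ψ (f j)))) :
    ∃ g : V ≃ₗ[F] W, ∀ v, g (φ v) = ψ (g v) := by
  have key : ∀ j, ∃ g : LinearMap.ker (aeval φ (f j)) ≃ₗ[F] LinearMap.ker (aeval ψ (f j)),
      ∀ v, g (φ.restrict (ker_aeval_invariant φ (f j)) v) =
        ψ.restrict (ker_aeval_invariant ψ (f j)) (g v) :=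
    fun j => exists_equiv_of_irreducible (f j) (hirr j) _ _ (aeval_restrict_eq_zero φ (f j))
      (aeval_restrict_eq_zero ψ (f j)) (h j)
  choose g hg using key
  obtain ⟨e, he⟩ := exists_glue (isInternal f hcop φ hφ) (isInternal f hcop ψ hψ) g
  refine ⟨e, fun v => ?_⟩
  have hv : v ∈ ⨆ j, LinearMap.ker (aeval φ (f j)) := by
    rw [(isInternal f hcop φ hφ).submodule_iSup_eq_top]; trivial
  refine Submodule.iSup_induction (fun j => LinearMap.ker (aeval φ (f j)))
    (motive := fun v => e (φ v) = ψ (e v)) hv ?_ ?_ ?_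
  · intro j x hx
    have h1 := he j ⟨x, hx⟩
    have h2 := he j (φ.restrict (ker_aeval_invariant φ (f j)) ⟨x, hx⟩)
    rw [hg] at h2
    rw [LinearMap.coe_restrict_apply] at h2
    rw [LinearMap.coe_restrict_apply] at h2
    rw [h2, h1]
  · simp
  · intro x y hx hy
    simp only [map_add, hx, hy]

end multi

end Cfsg.Agent.Lib.H13.SSClass
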