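import Mathlib
import Cfsg.Agent.Lib.H24.ElusTiSuff
import Cfsg.Agent.Lib.H24.ElusNdB

/-!
Orthogonal groups in odd characteristic: isometries of odd prime order of symmetric forms, part 1 (helper13).
Ports of lemmas of helper24 (`Cfsg.Agent.Lib.H24.Elus`, alternating forms) to reflexive forms (suffix `R`) and symmetric forms
(suffix `S`); the twist `twB B y r` (`(a, w) ↦ B ((y - y^(r-1)) a) w`) turning a symmetric form invariant under an isometry `y` with
`y ^ r = 1` into an alternating invariant form (and conversely), nondegenerate on `ker Φ_r(y)`, with the same invariant totally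
isotropic subspaces there (`NDon_twB`, `TIon_twB`, `TIon_of_twB`); Witt index lower bound over finite fields (`exists_ti_in_NDonS`).
-/

set_option autoImplicit false
set_option linter.unusedSectionVars false
set_option linter.unusedVariables false
set_option linter.unusedSimpArgs false
set_option linter.deprecated false

namespace Cfsg.Agent.Lib.H13.OSS

section

open Polynomial Module
open Cfsg.Agent.Lib.H24.Elus

section refl

variable {F : Type*} [Field F] {V : Type*} [AddCommGroup V] [Module F V]
variable (B : LinearMap.BilinForm F V)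

theorem disjoint_orth_of_NDonR (hrefl : ∀ u v, B u v = 0 → B v u = 0) (D : Submodule F V) (hD : NDon B D) :
    Disjoint D (B.orthogonal D) := by
  rw [Submodule.disjoint_def]
  intro x hx hx'
  apply hD x hx
  intro v hv
  exact hrefl _ _ (hx' v hv)

theorem inf_eq_bot_of_orthR (hrefl : ∀ u v, B u v = 0 → B v u = 0) (A A' : Submodule F V) (hA : NDon B A)
    (horth : ∀ u ∈ A, ∀ v ∈ A', B u v = 0) : A ⊓ A' = ⊥ := by
  rw [eq_bot_iff]
  intro x hx
  rw [Submodule.mem_inf] at hx
  rw [Submodule.mem_bot]
  apply hA x hx.1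
  intro v hv
  exact hrefl _ _ (horth v hv x hx.2)

theorem NDon_supR (hrefl : ∀ u v, B u v = 0 → B v u = 0) (A A' : Submodule F V) (hA : NDon B A)
    (hA' : NDon B A') (horth : ∀ u ∈ A, ∀ v ∈ A', B u v = 0) : NDon B (A ⊔ A') := by
  intro u hu h
  obtain ⟨a, ha, a', ha', rfl⟩ := Submodule.mem_sup.mp hu
  have h1 : a = 0 := by
    apply hA a ha
    intro v hv
    have := h v (Submodule.mem_sup_left hv)
    rw [map_add, LinearMap.add_apply, hrefl _ _ (horth v hv a' ha'), add_zero] at this
    exact this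
  have h2 : a' = 0 := by
    apply hA' a' ha'
    intro v hv
    have := h v (Submodule.mem_sup_right hv)
    rw [map_add, LinearMap.add_apply, horth a ha v hv, zero_add] at this
    exact this
  rw [h1, h2, add_zero]


section fd

variable [FiniteDimensional F V]

theorem isCompl_orth_of_NDonR (hrefl : ∀ u v, B u v = 0 → B v u = 0) (D : Submodule F V) (hD : NDon B D) :
    IsCompl D (B.orthogonal D) :=
  (LinearMap.BilinForm.isCompl_orthogonal_iff_disjoint ((fun _ _ h => hrefl _ _ h))).mpr
    (disjoint_orth_of_NDonR B hrefl D hD)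

theorem sup_perp_inR (hrefl : ∀ u v, B u v = 0 → B v u = 0) (U D : Submodule F V) (hD : NDon B D)
    (hDU : D ≤ U) : D ⊔ (U ⊓ B.orthogonal D) = U := by
  have h1 := (isCompl_orth_of_NDonR B hrefl D hD).sup_eq_top
  have h2 := sup_inf_assoc_of_le (B.orthogonal D) hDU
  rw [h1, top_inf_eq, inf_comm] at h2
  exact h2.symm

theorem inf_perp_inR (hrefl : ∀ u v, B u v = 0 → B v u = 0) (U D : Submodule F V) (hD : NDon B D) :
    D ⊓ (U ⊓ B.orthogonal D) = ⊥ := by
  have h1 := (isCompl_orth_of_NDonR B hrefl D hD).inf_eq_bot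
  rw [eq_bot_iff, ← h1]
  exact inf_le_inf_left D inf_le_right

theorem finrank_perp_inR (hrefl : ∀ u v, B u v = 0 → B v u = 0) (U D : Submodule F V) (hD : NDon B D)
    (hDU : D ≤ U) : finrank F D + finrank F ↥(U ⊓ B.orthogonal D) = finrank F U := by
  have h := Submodule.finrank_sup_add_finrank_inf_eq D (U ⊓ B.orthogonal D)
  rw [sup_perp_inR B hrefl U D hD hDU, inf_perp_inR B hrefl U D hD, finrank_bot, add_zero] at h
  exact h.symm

theorem NDon_perp_inR (hrefl : ∀ u v, B u v = 0 → B v u = 0) (U D : Submodule F V) (hU : NDon B U)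
    (hD : NDon B D) (hDU : D ≤ U) : NDon B (U ⊓ B.orthogonal D) := by
  apply NDon_of_sup_orth B U (U ⊓ B.orthogonal D) D hU inf_le_left
  · rw [sup_comm, sup_perp_inR B hrefl U D hD hDU]
  · intro u hu v hv
    exact hrefl _ _ ((Submodule.mem_inf.mp hu).2 v hv)

theorem ti_supR (hrefl : ∀ u v, B u v = 0 → B v u = 0) (A A' W₁ W₂ : Submodule F V)
    (hA : NDon B A)
    (horth : ∀ u ∈ A, ∀ v ∈ A', B u v = 0) (h1 : W₁ ≤ A) (h2 : W₂ ≤ A') (ht1 : TIon B W₁)
    (ht2 : TIon B W₂) :
    TIon B (W₁ ⊔ W₂) ∧ finrank F ↥(W₁ ⊔ W₂) = finrank F W₁ + finrank F W₂ := by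
  constructor
  · intro u hu v hv
    obtain ⟨a, ha, a', ha', rfl⟩ := Submodule.mem_sup.mp hu
    obtain ⟨b, hb, b', hb', rfl⟩ := Submodule.mem_sup.mp hv
    simp only [map_add, LinearMap.add_apply]
    rw [ht1 a ha b hb, ht2 a' ha' b' hb', horth a (h1 ha) b' (h2 hb'),
      hrefl _ _ (horth b (h1 hb) a' (h2 ha'))]
    simp
  · have h := Submodule.finrank_sup_add_finrank_inf_eq W₁ W₂
    have h0 : W₁ ⊓ W₂ = ⊥ := by
      rw [eq_bot_iff, ← inf_eq_bot_of_orthR B hrefl A A' hA horth]
      exact inf_le_inf h1 h2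
    rw [h0, finrank_bot, add_zero] at h
    exact h

theorem finrank_isotropic_leR (hrefl : ∀ u v, B u v = 0 → B v u = 0) (U K : Submodule F V) (hU : NDon B U)
    (hKU : K ≤ U) (hK : ∀ a ∈ K, ∀ b ∈ K, B a b = 0) : 2 * finrank F K ≤ finrank F U := by
  have hres : (B.restrict U).Nondegenerate := by
    constructor
    · intro w hw
      apply Subtype.ext
      apply hU w.1 w.2
      intro v hv
      have := hw ⟨v, hv⟩
      rw [LinearMap.BilinForm.restrict_apply, LinearMap.domRestrict_apply] at this
      exact this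
    · intro w hw
      apply Subtype.ext
      apply hU w.1 w.2
      intro v hv
      have := hw ⟨v, hv⟩
      rw [LinearMap.BilinForm.restrict_apply, LinearMap.domRestrict_apply] at this
      exact hrefl _ _ this
  have h1 := LinearMap.BilinForm.finrank_orthogonal hres (K.comap U.subtype)
  have h2 : K.comap U.subtype ≤ (B.restrict U).orthogonal (K.comap U.subtype) := by
    intro x hx n hn
    show (B.restrict U) n x = 0
    rw [LinearMap.BilinForm.restrict_apply, LinearMap.domRestrict_apply]
    exact hK _ hn _ hx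
  have h3 := Submodule.finrank_mono h2
  have h4 : finrank F ↥(K.comap U.subtype) = finrank F K :=
    LinearEquiv.finrank_eq (Submodule.comapSubtypeEquivOfLe hKU)
  have h5 := Submodule.finrank_mono hKU
  omega
end fd

end refl

section iso

variable {F : Type*} [Field F] {V : Type*} [AddCommGroup V] [Module F V]
variable {B : LinearMap.BilinForm F V} {y : End F V}

/-- orthogonality of the kernels of coprime polynomials, the first of which is self-dual
(symmetric forms) -/
theorem ker_orthS (hsym : ∀ u v, B u v = B v u) (y' : End F V)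
    (hadj : ∀ u w, B (y u) w = B u (y' w))
    (p₁ p₂ : F[X]) (hcop : IsCoprime p₁ p₂)
    (hself : ∀ u, aeval y p₁ u = 0 → aeval y' p₁ u = 0) (u w : V)
    (hu : aeval y p₁ u = 0) (hw : aeval y p₂ w = 0) : B u w = 0 := by
  obtain ⟨a, b, hab⟩ := hcop
  have h1 : w = aeval y p₁ (aeval y a w) := by
    have h2 : w = aeval y (a * p₁) w + aeval y (b * p₂) w := by
      rw [← LinearMap.add_apply, ← map_add, hab, map_one, Module.End.one_apply]
    have h3 : aeval y (b * p₂) w = 0 := by
      rw [map_mul (aeval y), Module.End.mul_apply, hw, map_zero]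
    have h4 : aeval y (a * p₁) w = aeval y p₁ (aeval y a w) := by
      rw [mul_comm a p₁, map_mul (aeval y), Module.End.mul_apply]
    rw [h3, h4, add_zero] at h2
    exact h2
  have hadj' : ∀ u w, B (y' u) w = B u (y w) := by
    intro u w
    rw [hsym, ← hadj, hsym]
  rw [h1, ← adj_aeval B y' y hadj', hself u hu, map_zero, LinearMap.zero_apply]

/-- the fixed space is orthogonal to the kernel of the cyclotomic polynomial -/
theorem fix_orth_cycS (hsym : ∀ u v, B u v = B v u) (hiso : ∀ u v, B (y u) (y v) = B u v) {r : ℕ}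
    [Fact r.Prime] (hr0 : (r : F) ≠ 0) (hy : y ^ r = 1) (u w : V)
    (hu : u ∈ LinearMap.ker (aeval y (X - 1 : F[X])))
    (hw : w ∈ LinearMap.ker (aeval y (cyclotomic r F))) : B u w = 0 := by
  have hr : 0 < r := (Fact.out : r.Prime).pos
  apply ker_orthS hsym (y ^ (r - 1)) (adj_pow_pred hiso hr hy) (X - 1) (cyclotomic r F)
    (isCoprime_sub_one_cyclotomic hr0) ?_ u w hu hw
  intro v hv
  have hv' : y v = v := (mem_fix_iff v).mp hv
  rw [map_sub, aeval_X, map_one, LinearMap.sub_apply, Module.End.one_apply,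
    pow_apply_of_fix v hv', sub_self]

variable [FiniteDimensional F V]

theorem NDon_fix_partS (hsym : ∀ u v, B u v = B v u) (hiso : ∀ u v, B (y u) (y v) = B u v)
    {r : ℕ} [Fact r.Prime] (hr0 : (r : F) ≠ 0) (hy : y ^ r = 1) (U : Submodule F V)
    (hU : ∀ v ∈ U, y v ∈ U) (hnd : NDon B U) :
    NDon B (U ⊓ LinearMap.ker (aeval y (X - 1 : F[X]))) := by
  apply NDon_of_sup_orth B U _ (U ⊓ LinearMap.ker (aeval y (cyclotomic r F))) hnd inf_le_left
    (split_fix hr0 hy U hU)
  intro u hu w hw
  exact fix_orth_cycS hsym hiso hr0 hy u w (Submodule.mem_inf.mp hu).2 (Submodule.mem_inf.mp hw).2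

theorem NDon_cyc_partS (hsym : ∀ u v, B u v = B v u) (hiso : ∀ u v, B (y u) (y v) = B u v)
    {r : ℕ} [Fact r.Prime] (hr0 : (r : F) ≠ 0) (hy : y ^ r = 1) (U : Submodule F V)
    (hU : ∀ v ∈ U, y v ∈ U) (hnd : NDon B U) :
    NDon B (U ⊓ LinearMap.ker (aeval y (cyclotomic r F))) := by
  apply NDon_of_sup_orth B U _ (U ⊓ LinearMap.ker (aeval y (X - 1 : F[X]))) hnd inf_le_left
  · rw [sup_comm]
    exact split_fix hr0 hy U hU
  · intro u hu w hw
    rw [hsym]
    exact fix_orth_cycS hsym hiso hr0 hy w u (Submodule.mem_inf.mp hw).2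
      (Submodule.mem_inf.mp hu).2

end iso

end

section

open Polynomial Module
open Cfsg.Agent.Lib.H24.Elus

section twist

variable {F : Type*} [Field F] {V : Type*} [AddCommGroup V] [Module F V]

/-- the twisted form `(a, w) ↦ B ((y - y ^ (r - 1)) a) w` -/
noncomputable def twB (B : LinearMap.BilinForm F V) (y : End F V) (r : ℕ) :
    LinearMap.BilinForm F V :=
  B.compl₁₂ (y - y ^ (r - 1)) LinearMap.id

variable {B : LinearMap.BilinForm F V} {y : End F V} {r : ℕ}

theorem twB_apply (a w : V) : twB B y r a w = B (y a) w - B ((y ^ (r - 1)) a) w := by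
  unfold twB
  rw [LinearMap.compl₁₂_apply, LinearMap.sub_apply, map_sub, LinearMap.sub_apply,
    LinearMap.id_apply]

theorem twB_alt (hsym : ∀ u v, B u v = B v u) (hiso : ∀ u v, B (y u) (y v) = B u v)
    (hr : 0 < r) (hy : y ^ r = 1) (v : V) : twB B y r v v = 0 := by
  rw [twB_apply, adj_pow_pred' hiso hr hy, hsym v (y v), sub_self]

theorem twB_symm_of_alt (halt : ∀ v, B v v = 0) (hiso : ∀ u v, B (y u) (y v) = B u v)
    (hr : 0 < r) (hy : y ^ r = 1) (a w : V) : twB B y r a w = twB B y r w a := by
  rw [twB_apply, twB_apply, adj_pow_pred hiso hr hy a w, adj_pow_pred' hiso hr hy a w,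
    alt_swap B halt (y w) a, alt_swap B halt ((y ^ (r - 1)) w) a]
  ring

theorem twB_iso (hiso : ∀ u v, B (y u) (y v) = B u v) (u v : V) :
    twB B y r (y u) (y v) = twB B y r u v := by
  have h : (y ^ (r - 1)) (y u) = y ((y ^ (r - 1)) u) := by
    rw [← Module.End.mul_apply, ← Module.End.mul_apply, ← pow_succ, ← pow_succ']
  rw [twB_apply, twB_apply, hiso, h, hiso]

/-- `y - y ^ (r - 1)` is injective on the kernel of the cyclotomic polynomial -/
theorem tw_ker [Fact r.Prime] (hr0 : (r : F) ≠ 0) (hr2 : r ≠ 2) (hy : y ^ r = 1) (v : V)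
    (hv : v ∈ LinearMap.ker (aeval y (cyclotomic r F))) (h : y v = (y ^ (r - 1)) v) : v = 0 := by
  have hr : r.Prime := Fact.out
  have h3 : y (y v) = v := by
    rw [h, pow_pred_mul hr.pos hy]
  have h4 : ∀ m : ℕ, (y ^ (2 * m)) v = v := by
    intro m
    induction m with
    | zero => rfl
    | succ m ih =>
      rw [Nat.mul_succ, pow_add, Module.End.mul_apply, pow_two, Module.End.mul_apply, h3, ih]
  have h5 : y v = v := by
    have hodd : r % 2 = 1 := by
      rcases hr.eq_two_or_odd with h | h
      · exact absurd h hr2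
      · exact h
    have hrm : r = 2 * (r / 2) + 1 := by omega
    have h6 : (y ^ r) v = v := by rw [hy, Module.End.one_apply]
    rw [hrm, pow_succ', Module.End.mul_apply, h4] at h6
    exact h6
  have h7 : v ∈ LinearMap.ker (aeval y (X - 1 : F[X])) ⊓
      LinearMap.ker (aeval y (cyclotomic r F)) :=
    Submodule.mem_inf.mpr ⟨(mem_fix_iff v).mpr h5, hv⟩
  rw [fix_inf_cyc hr0] at h7
  exact (Submodule.mem_bot F).mp h7

theorem NDon_twB [Fact r.Prime] (hr0 : (r : F) ≠ 0) (hr2 : r ≠ 2) (hy : y ^ r = 1)
    (U : Submodule F V) (hU : ∀ v ∈ U, y v ∈ U)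
    (hUc : U ≤ LinearMap.ker (aeval y (cyclotomic r F))) (hnd : NDon B U) :
    NDon (twB B y r) U := by
  intro u hu h
  have hT : y u - (y ^ (r - 1)) u ∈ U :=
    Submodule.sub_mem _ (hU u hu) (pow_mem_of_invariant y U hU (r - 1) u hu)
  have h0 : y u - (y ^ (r - 1)) u = 0 := by
    apply hnd _ hT
    intro v hv
    have := h v hv
    rw [twB_apply] at this
    rw [map_sub, LinearMap.sub_apply]
    exact this
  exact tw_ker hr0 hr2 hy u (hUc hu) (sub_eq_zero.mp h0)

theorem TIon_twB (W : Submodule F V) (hW : ∀ v ∈ W, y v ∈ W) (hti : TIon B W) :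
    TIon (twB B y r) W := by
  intro a ha w hw
  rw [twB_apply, hti _ (hW a ha) w hw, hti _ (pow_mem_of_invariant y W hW (r - 1) a ha) w hw,
    sub_zero]

theorem TIon_of_twB [FiniteDimensional F V] [Fact r.Prime] (hr0 : (r : F) ≠ 0) (hr2 : r ≠ 2)
    (hy : y ^ r = 1) (W : Submodule F V) (hW : ∀ v ∈ W, y v ∈ W)
    (hWc : W ≤ LinearMap.ker (aeval y (cyclotomic r F))) (hti : TIon (twB B y r) W) :
    TIon B W := by
  obtain ⟨T, hT⟩ : ∃ T : End F V, T = y - y ^ (r - 1) := ⟨_, rfl⟩
  have hTapp : ∀ v, T v = y v - (y ^ (r - 1)) v := fun v => by rw [hT]; rfl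
  have hTW : ∀ v ∈ W, T v ∈ W := by
    intro v hv
    rw [hTapp]
    exact Submodule.sub_mem _ (hW v hv) (pow_mem_of_invariant y W hW (r - 1) v hv)
  have hinj : Function.Injective (T.restrict hTW) := by
    rw [← LinearMap.ker_eq_bot, LinearMap.ker_eq_bot']
    intro a ha
    apply Subtype.ext
    have h1 : T a.1 = 0 := congrArg Subtype.val ha
    rw [hTapp] at h1
    exact tw_ker hr0 hr2 hy a.1 (hWc a.2) (sub_eq_zero.mp h1)
  have hsurj : Function.Surjective (T.restrict hTW) := LinearMap.injective_iff_surjective.mp hinj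
  intro a ha w hw
  obtain ⟨a', ha'⟩ := hsurj ⟨a, ha⟩
  have h1 : a = T a'.1 := (congrArg Subtype.val ha').symm
  have h2 := hti a'.1 a'.2 w hw
  rw [twB_apply] at h2
  rw [h1, hTapp, map_sub, LinearMap.sub_apply]
  exact h2

end twist

section witt

variable {F : Type*} [Field F] {V : Type*} [AddCommGroup V] [Module F V]
variable (B : LinearMap.BilinForm F V)

theorem TIon_span_singleton_of (v : V) (hv : B v v = 0) : TIon B (Submodule.span F {v}) := by
  intro a ha b hb
  obtain ⟨α, rfl⟩ := Submodule.mem_span_singleton.mp ha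
  obtain ⟨β, rfl⟩ := Submodule.mem_span_singleton.mp hb
  rw [map_smul, map_smul, LinearMap.smul_apply, hv, smul_zero, smul_zero]

/-- a hyperbolic plane through an isotropic vector of a nondegenerate subspace -/
theorem exists_plane_of_isotropic (hsym : ∀ u v, B u v = B v u) (U : Submodule F V)
    (hU : NDon B U) (u : V) (hu : u ∈ U) (hu0 : u ≠ 0) (huu : B u u = 0) :
    ∃ P : Submodule F V, P ≤ U ∧ NDon B P ∧ finrank F P = 2 ∧ u ∈ P := by
  obtain ⟨v, hv, huv⟩ : ∃ v ∈ U, B u v ≠ 0 := by
    by_contra hcon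
    push Not at hcon
    exact hu0 (hU u hu hcon)
  have hvu : B v u ≠ 0 := by rw [hsym]; exact huv
  refine ⟨Submodule.span F {u, v}, ?_, ?_, ?_, Submodule.subset_span (by simp)⟩
  · rw [Submodule.span_le]
    intro x hx
    rcases hx with rfl | rfl
    · exact hu
    · exact hv
  · intro w hw h
    obtain ⟨α, β, rfl⟩ := Submodule.mem_span_pair.mp hw
    have h1 := h u (Submodule.subset_span (by simp))
    have h2 := h v (Submodule.subset_span (by simp))
    simp only [map_add, map_smul, LinearMap.add_apply, LinearMap.smul_apply, huu, smul_eq_mul,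
      mul_zero, zero_add] at h1 h2
    have hβ : β = 0 := by
      rcases mul_eq_zero.mp h1 with h | h
      · exact h
      · exact absurd h hvu
    rw [hβ, zero_mul, add_zero] at h2
    have hα : α = 0 := by
      rcases mul_eq_zero.mp h2 with h | h
      · exact h
      · exact absurd h huv
    rw [hα, hβ, zero_smul, zero_smul, add_zero]
  · have hli : LinearIndependent F ![u, v] := by
      rw [LinearIndependent.pair_iff]
      intro s t hst
      have h1 := congrArg (fun x => B x u) hst
      simp only [map_add, map_smul, LinearMap.add_apply, LinearMap.smul_apply, huu, smul_eq_mul,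
        mul_zero, zero_add, map_zero, LinearMap.zero_apply] at h1
      have ht : t = 0 := by
        rcases mul_eq_zero.mp h1 with h | h
        · exact h
        · exact absurd h hvu
      rw [ht, zero_smul, add_zero] at hst
      refine ⟨?_, ht⟩
      rcases smul_eq_zero.mp hst with h | h
      · exact h
      · exact absurd h hu0
    have h := finrank_span_eq_card hli
    have hr : Set.range ![u, v] = {u, v} := by
      ext x
      simp only [Matrix.range_cons, Matrix.range_empty, Set.union_empty, Set.mem_union,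
        Set.mem_singleton_iff, Set.mem_insert_iff]
    rw [hr, Fintype.card_fin] at h
    exact h

/-- totally isotropic subspaces of a nondegenerate subspace of a symmetric form over a finite
field: every dimension `e` with `2 e + 1 ≤ dim` occurs -/
theorem exists_ti_in_NDonS [Fintype F] [FiniteDimensional F V] (hsym : ∀ u v, B u v = B v u) :
    ∀ (e : ℕ) (U : Submodule F V), NDon B U → 2 * e + 1 ≤ finrank F U →
      ∃ W : Submodule F V, W ≤ U ∧ TIon B W ∧ finrank F W = e := by
  have hrefl : ∀ u v, B u v = 0 → B v u = 0 := fun u v h => by rw [hsym]; exact h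
  intro e
  induction e with
  | zero =>
    intro U _ _
    exact ⟨⊥, bot_le, TIon_bot B, finrank_bot F V⟩
  | succ e ih =>
    intro U hU he
    obtain ⟨u, huU, hu0, huu⟩ := exists_common_zero 1 (fun _ => B) U (by omega)
    have huu' : B u u = 0 := huu 0
    obtain ⟨P, hPU, hP, hP2, huP⟩ := exists_plane_of_isotropic B hsym U hU u huU hu0 huu'
    have h1 := finrank_perp_inR B hrefl U P hP hPU
    obtain ⟨W', hW'U, hW'ti, hW'e⟩ := ih (U ⊓ B.orthogonal P)
      (NDon_perp_inR B hrefl U P hU hP hPU) (by omega)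
    have hL : Submodule.span F {u} ≤ P := by
      rw [Submodule.span_le]
      intro x hx
      rw [Set.mem_singleton_iff] at hx
      rw [hx]
      exact huP
    obtain ⟨hti, hdim⟩ := ti_supR B hrefl P (U ⊓ B.orthogonal P) (Submodule.span F {u}) W' hP
      (fun a ha w hw => (Submodule.mem_inf.mp hw).2 a ha) hL hW'U
      (TIon_span_singleton_of B u huu') hW'ti
    refine ⟨Submodule.span F {u} ⊔ W', sup_le (hL.trans hPU) (hW'U.trans inf_le_left), hti, ?_⟩
    rw [hdim, finrank_span_singleton hu0, hW'e]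
    omega

end witt

end

end Cfsg.Agent.Lib.H13.OSS
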