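import Mathlib
import Cfsg.Agent.Lib.H13.OSS1
import Cfsg.Agent.Lib.H10.OrtNdB
import Cfsg.Agent.Lib.H13.Witt
import Cfsg.Agent.S0760
import Cfsg.Agent.Lib.H24.ElusCount
import Cfsg.Agent.Lib.H13.AutPO11
import Cfsg.Agent.Lib.H10.OrtNdH
import Cfsg.Agent.Lib.H13.MinusClass
import Cfsg.Agent.Lib.H13.HypTS
import Cfsg.Agent.S0289
import Cfsg.Agent.S0290
import Cfsg.Agent.Lib.H13.OrthEmbed
import Cfsg.Agent.S0287
import Cfsg.Agent.S0288

/-!
Even-dimensional quadratic spaces over finite fields in all characteristics, types (helper13): totally singular subspaces in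
nondegenerate subspaces (`exists_ts_in_NDon`, `finrank_ts_le`), maximal totally singular subspaces, binary forms, the type of an
orthogonal sum (`plus_top_iff`: `V = A ⊥ A'` is of plus type iff `A`, `A'` have the same type), numbers of singular vectors
(`card_sing_plus`, `card_sing_minus`), spaces of the same dimension and type are isometric (`iso_of_same_type`).
-/

set_option autoImplicit false
set_option linter.unusedSectionVars false
set_option linter.unusedVariables false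
set_option linter.unusedSimpArgs false
set_option linter.deprecated false

namespace Cfsg.Agent.Lib.H13.OES

section

open Polynomial Module
open Cfsg.Agent.Lib.H24.Elus
open Cfsg.Agent.Lib.H13
open Cfsg.Agent.Lib.H13.OSS
open Cfsg.Agent.Lib.H10.OrtNd (PB TS PlusOn PB_apply PB_symm PB_self TS_mono)

section basic

variable {F : Type*} [Field F] {V : Type*} [AddCommGroup V] [Module F V]
variable (Q : QuadraticForm F V)

theorem PB_refl : ∀ u v, PB Q u v = 0 → PB Q v u = 0 := fun u v h => by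
  rw [PB_symm]; exact h

theorem Q_add (u v : V) : Q (u + v) = Q u + Q v + PB Q u v := by
  rw [PB_apply]
  unfold QuadraticMap.polar
  ring

theorem TIon_of_TS {W : Submodule F V} (h : TS Q W) : TIon (PB Q) W :=
  fun u hu v hv => Cfsg.Agent.Lib.H10.OrtNd.TS.polar_eq_zero Q h hu hv

theorem TS_bot : TS Q (⊥ : Submodule F V) := by
  intro w hw
  rw [Submodule.mem_bot] at hw
  rw [hw, map_zero]

theorem TS_sup {W₁ W₂ : Submodule F V} (h₁ : TS Q W₁) (h₂ : TS Q W₂)
    (horth : ∀ u ∈ W₁, ∀ v ∈ W₂, PB Q u v = 0) : TS Q (W₁ ⊔ W₂) := by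
  intro w hw
  obtain ⟨a, ha, b, hb, rfl⟩ := Submodule.mem_sup.mp hw
  rw [Q_add, h₁ a ha, h₂ b hb, horth a ha b hb]
  ring

theorem TS_span_singleton {u : V} (hu : Q u = 0) : TS Q (Submodule.span F {u}) := by
  intro w hw
  obtain ⟨α, rfl⟩ := Submodule.mem_span_singleton.mp hw
  rw [QuadraticMap.map_smul, hu, smul_zero]

/-- the restriction of a quadratic form to a subspace -/
def restrQ (U : Submodule F V) : QuadraticForm F ↥U := Q.comp U.subtype

theorem restrQ_apply (U : Submodule F V) (u : ↥U) : restrQ Q U u = Q (u : V) := rfl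

theorem polar_restrQ (U : Submodule F V) (u v : ↥U) :
    QuadraticMap.polar (⇑(restrQ Q U)) u v = QuadraticMap.polar (⇑Q) (u : V) (v : V) := rfl

theorem nondeg_restrQ {U : Submodule F V} (hU : NDon (PB Q) U) :
    (QuadraticMap.polarBilin (restrQ Q U)).Nondegenerate := by
  constructor
  · intro x hx
    apply Subtype.ext
    apply hU x x.2
    intro v hv
    exact hx ⟨v, hv⟩
  · intro y hy
    apply Subtype.ext
    apply hU y y.2
    intro v hv
    have := hy ⟨v, hv⟩
    exact (PB_symm Q _ _).trans this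

theorem NDon_top_of (hQ : (QuadraticMap.polarBilin Q).Nondegenerate) :
    NDon (PB Q) (⊤ : Submodule F V) := by
  intro u _ h
  exact hQ.1 u (fun v => h v Submodule.mem_top)

theorem nondeg_of_NDon_top (h : NDon (PB Q) (⊤ : Submodule F V)) :
    (QuadraticMap.polarBilin Q).Nondegenerate := by
  constructor
  · intro u hu
    exact h u Submodule.mem_top (fun v _ => hu v)
  · intro u hu
    exact h u Submodule.mem_top (fun v _ => (PB_symm Q _ _).trans (hu v))

end basic

section finite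

variable {F : Type*} [Field F] [Finite F] {V : Type*} [AddCommGroup V] [Module F V]
  [FiniteDimensional F V]
variable (Q : QuadraticForm F V)

/-- Chevalley-Warning in a subspace -/
theorem exists_singular_in (U : Submodule F V) (h : 3 ≤ finrank F U) :
    ∃ u ∈ U, u ≠ 0 ∧ Q u = 0 := by
  obtain ⟨v, hv0, hv⟩ := Cfsg.Agent.Lib.H13.exists_singular_of_three_le (restrQ Q U) h
  refine ⟨v.1, v.2, ?_, hv⟩
  intro h0
  exact hv0 (Subtype.ext h0)

/-- totally singular subspaces of a nondegenerate subspace: every dimension `e` with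
`2 e + 1 ≤ dim` occurs -/
theorem exists_ts_in_NDon :
    ∀ (e : ℕ) (U : Submodule F V), NDon (PB Q) U → 2 * e + 1 ≤ finrank F U →
      ∃ W : Submodule F V, W ≤ U ∧ TS Q W ∧ finrank F W = e := by
  have hrefl := PB_refl Q
  intro e
  induction e with
  | zero =>
    intro U _ _
    exact ⟨⊥, bot_le, TS_bot Q, finrank_bot F V⟩
  | succ e ih =>
    intro U hU he
    obtain ⟨u, huU, hu0, huu⟩ := exists_singular_in Q U (by omega)
    have huu' : PB Q u u = 0 := by rw [PB_self, huu, mul_zero]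
    obtain ⟨P, hPU, hP, hP2, huP⟩ := exists_plane_of_isotropic (PB Q) (PB_symm Q) U hU u huU hu0 huu'
    have h1 := finrank_perp_inR (PB Q) hrefl U P hP hPU
    obtain ⟨W', hW'U, hW'ts, hW'e⟩ := ih (U ⊓ (PB Q).orthogonal P)
      (NDon_perp_inR (PB Q) hrefl U P hU hP hPU) (by omega)
    have hL : Submodule.span F {u} ≤ P := by
      rw [Submodule.span_le]
      intro x hx
      rw [Set.mem_singleton_iff] at hx
      rw [hx]
      exact huP
    have horth : ∀ a ∈ P, ∀ w ∈ U ⊓ (PB Q).orthogonal P, PB Q a w = 0 :=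
      fun a ha w hw => (Submodule.mem_inf.mp hw).2 a ha
    obtain ⟨-, hdim⟩ := ti_supR (PB Q) hrefl P (U ⊓ (PB Q).orthogonal P) (Submodule.span F {u}) W' hP
      horth hL hW'U (TIon_of_TS Q (TS_span_singleton Q huu)) (TIon_of_TS Q hW'ts)
    refine ⟨Submodule.span F {u} ⊔ W', sup_le (hL.trans hPU) (hW'U.trans inf_le_left), ?_, ?_⟩
    · apply TS_sup Q (TS_span_singleton Q huu) hW'ts
      intro a ha w hw
      exact horth a (hL ha) w (hW'U hw)
    · rw [hdim, finrank_span_singleton hu0, hW'e]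
      omega

/-- a totally singular subspace of a nondegenerate subspace has at most half the dimension -/
theorem finrank_ts_le (U W : Submodule F V) (hU : NDon (PB Q) U) (hWU : W ≤ U) (hW : TS Q W) :
    2 * finrank F W ≤ finrank F U :=
  finrank_isotropic_leR (PB Q) (PB_refl Q) U W hU hWU (TIon_of_TS Q hW)

/-- orthogonal sums of plus type spaces are of plus type -/
theorem PlusOn_sup (A A' : Submodule F V) (hA : NDon (PB Q) A)
    (horth : ∀ u ∈ A, ∀ v ∈ A', PB Q u v = 0) (h : PlusOn Q A) (h' : PlusOn Q A') :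
    PlusOn Q (A ⊔ A') := by
  obtain ⟨W, hWA, hW, hWd⟩ := h
  obtain ⟨W', hWA', hW', hWd'⟩ := h'
  obtain ⟨-, hdim⟩ := ti_supR (PB Q) (PB_refl Q) A A' W W' hA horth hWA hWA' (TIon_of_TS Q hW)
    (TIon_of_TS Q hW')
  refine ⟨W ⊔ W', sup_le_sup hWA hWA', ?_, ?_⟩
  · apply TS_sup Q hW hW'
    intro a ha w hw
    exact horth a (hWA ha) w (hWA' hw)
  · have h := Submodule.finrank_sup_add_finrank_inf_eq A A'
    rw [inf_eq_bot_of_orthR (PB Q) (PB_refl Q) A A' hA horth, finrank_bot, add_zero] at h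
    rw [hdim, h]
    omega

end finite

end

section

open Polynomial Module
open Cfsg.Agent.Lib.H24.Elus
open Cfsg.Agent.Lib.H13
open Cfsg.Agent.Lib.H13.OSS
open Cfsg.Agent.Lib.H10.OrtNd (PB TS PlusOn PB_apply PB_symm PB_self TS_mono)

section types

variable {F : Type*} [Field F] [Finite F] {V : Type*} [AddCommGroup V] [Module F V]
  [FiniteDimensional F V]
variable (Q : QuadraticForm F V)

/-- a maximal totally singular subspace of a subspace -/
theorem exists_max_ts (A' : Submodule F V) :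
    ∃ W' : Submodule F V, W' ≤ A' ∧ TS Q W' ∧
      ∀ X : Submodule F V, X ≤ A' → TS Q X → W' ≤ X → X = W' := by
  classical
  haveI : Fintype F := Fintype.ofFinite F
  haveI : Finite V := Module.finite_of_finite F
  haveI : Finite (Submodule F V) := finite_submodule
  obtain ⟨W', -, hW'max⟩ := Finite.exists_le_maximal
    (p := fun X : Submodule F V => X ≤ A' ∧ TS Q X) (a := ⊥) ⟨bot_le, TS_bot Q⟩
  refine ⟨W', hW'max.1.1, hW'max.1.2, ?_⟩
  intro X hXA hX hle
  exact le_antisymm (hW'max.2 ⟨hXA, hX⟩ hle) hle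

/-- plus type and minus type give minus type -/
theorem not_PlusOn_top (hQ : (QuadraticMap.polarBilin Q).Nondegenerate) (A A' : Submodule F V)
    (hA : NDon (PB Q) A) (hA' : NDon (PB Q) A') (horth : ∀ u ∈ A, ∀ v ∈ A', PB Q u v = 0)
    (hsup : A ⊔ A' = ⊤) (hp : PlusOn Q A) (hm : ¬ PlusOn Q A') : ¬ PlusOn Q ⊤ := by
  classical
  rintro ⟨W, -, hW, hWd⟩
  obtain ⟨WA, hWAA, hWA, hWAd⟩ := hp
  obtain ⟨W', hW'A', hW', hmax⟩ := exists_max_ts Q A'
  have hrefl := PB_refl Q
  have hndV := NDon_top_of Q hQ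
  have hAA' : A ⊓ A' = ⊥ := inf_eq_bot_of_orthR (PB Q) hrefl A A' hA horth
  have hdimV : finrank F A + finrank F A' = finrank F V := by
    have h := Submodule.finrank_sup_add_finrank_inf_eq A A'
    rw [hsup, hAA', finrank_bot, add_zero, finrank_top] at h
    exact h.symm
  have hW'lt : 2 * finrank F W' < finrank F A' := by
    have h1 := finrank_ts_le Q A' W' hA' hW'A' hW'
    rcases Nat.lt_or_ge (2 * finrank F W') (finrank F A') with h | h
    · exact h
    · exact absurd ⟨W', hW'A', hW', by omega⟩ hm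
  obtain ⟨W₀, hW₀⟩ : ∃ W₀, W₀ = WA ⊔ W' := ⟨_, rfl⟩
  have hWAle : WA ≤ W₀ := by rw [hW₀]; exact le_sup_left
  have hW'le : W' ≤ W₀ := by rw [hW₀]; exact le_sup_right
  have hW₀ts : TS Q W₀ := by
    rw [hW₀]
    exact TS_sup Q hWA hW' (fun a ha w hw => horth a (hWAA ha) w (hW'A' hw))
  have hW₀dim : finrank F W₀ = finrank F WA + finrank F W' := by
    rw [hW₀]
    exact (ti_supR (PB Q) hrefl A A' WA W' hA horth hWAA hW'A' (TIon_of_TS Q hWA)
      (TIon_of_TS Q hW')).2
  -- the orthogonal complement of `WA`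
  have hWAA'dim : finrank F ↥(WA ⊔ A') = finrank F WA + finrank F A' := by
    have h := Submodule.finrank_sup_add_finrank_inf_eq WA A'
    have h0 : WA ⊓ A' = ⊥ := by
      rw [eq_bot_iff, ← hAA']
      exact inf_le_inf_right A' hWAA
    rw [h0, finrank_bot, add_zero] at h
    exact h
  have hWAorth : WA ⊔ A' = (PB Q).orthogonal WA := by
    apply Submodule.eq_of_le_of_finrank_eq
    · apply sup_le
      · intro u hu n hn
        exact TIon_of_TS Q hWA n hn u hu
      · intro a' ha' n hn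
        exact horth n (hWAA hn) a' ha'
    · rw [LinearMap.BilinForm.finrank_orthogonal hQ, hWAA'dim]
      omega
  -- `W₀` is a maximal totally singular subspace
  have hW₀max : ∀ X : Submodule F V, W₀ ≤ X → (∀ w ∈ X, Q w = 0) → X = W₀ := by
    intro X hle hX
    apply le_antisymm _ hle
    intro w hw
    have hw1 : w ∈ (PB Q).orthogonal WA := by
      intro n hn
      exact TIon_of_TS Q hX n (hle (hWAle hn)) w hw
    rw [← hWAorth] at hw1
    obtain ⟨u, hu, a', ha', rfl⟩ := Submodule.mem_sup.mp hw1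
    have ha'X : a' ∈ X := by
      have : a' = (u + a') - u := by abel
      rw [this]
      exact X.sub_mem hw (hle (hWAle hu))
    have hX' : W' ⊔ Submodule.span F {a'} = W' := by
      apply hmax
      · apply sup_le hW'A'
        rw [Submodule.span_le]
        intro x hx
        rw [Set.mem_singleton_iff] at hx
        rw [hx]
        exact ha'
      · apply TS_mono Q _ hX
        apply sup_le (hW'le.trans hle)
        rw [Submodule.span_le]
        intro x hx
        rw [Set.mem_singleton_iff] at hx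
        rw [hx]
        exact ha'X
      · exact le_sup_left
    have ha'W' : a' ∈ W' := by
      rw [← hX']
      exact Submodule.mem_sup_right (Submodule.mem_span_singleton_self a')
    rw [hW₀]
    exact Submodule.add_mem _ (Submodule.mem_sup_left hu) (Submodule.mem_sup_right ha'W')
  have hWmax : ∀ X : Submodule F V, W ≤ X → (∀ w ∈ X, Q w = 0) → X = W := by
    intro X hle hX
    symm
    apply Submodule.eq_of_le_of_finrank_le hle
    have h1 := finrank_ts_le Q ⊤ X hndV le_top hX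
    omega
  have h := (Cfsg.Agent.S0760.result Q hQ W₀ W hW₀ts hW hW₀max hWmax).1
  rw [finrank_top] at hWd
  omega

end types

end

section

open Polynomial Module Matrix
open Cfsg.Agent.Lib.H24.Elus
open Cfsg.Agent.Lib.H13
open Cfsg.Agent.Lib.H13.OSS
open Cfsg.Agent.Lib.H10.OrtNd (PB TS PlusOn PB_apply PB_symm PB_self TS_mono)

section planes

variable {F : Type*} [Field F] [Finite F]

/-- the binary form `z₁² + z₁ z₂ + ζ z₂²` -/
def binF (ζ : F) (c : Fin 2 → F) : F := c 0 ^ 2 + c 0 * c 1 + ζ * c 1 ^ 2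

/-- coordinates of an anisotropic plane -/
theorem exists_plane_coords {W : Type*} [AddCommGroup W] [Module F W] [FiniteDimensional F W]
    (Q' : QuadraticForm F W) (haniso : ∀ v, Q' v = 0 → v = 0)
    (hQ' : (QuadraticMap.polarBilin Q').Nondegenerate) (h2 : finrank F W = 2) :
    ∃ (ζ : F) (E : W ≃ₗ[F] (Fin 2 → F)), (∀ t : F, t ^ 2 + t + ζ ≠ 0) ∧
      ∀ w, Q' w = binF ζ (E w) := by
  obtain ⟨x, y, hli, hx, hxy, hζ⟩ := Cfsg.Agent.Lib.H13.aniso_plane Q' haniso hQ' h2
  obtain ⟨b, hb⟩ : ∃ b : Basis (Fin 2) F W, ⇑b = ![x, y] :=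
    ⟨basisOfLinearIndependentOfCardEqFinrank hli (by rw [Fintype.card_fin, h2]),
      coe_basisOfLinearIndependentOfCardEqFinrank _ _⟩
  refine ⟨Q' y, b.equivFun, hζ, ?_⟩
  intro w
  have hw : w = b.equivFun w 0 • x + b.equivFun w 1 • y := by
    conv_lhs => rw [← b.sum_equivFun w]
    rw [Fin.sum_univ_two, hb]
    rfl
  conv_lhs => rw [hw]
  unfold binF
  have hpol : Q' (b.equivFun w 0 • x + b.equivFun w 1 • y) =
      Q' (b.equivFun w 0 • x) + Q' (b.equivFun w 1 • y) +
        QuadraticMap.polar (⇑Q') (b.equivFun w 0 • x) (b.equivFun w 1 • y) := by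
    unfold QuadraticMap.polar
    ring
  rw [hpol, QuadraticMap.map_smul, QuadraticMap.map_smul, QuadraticMap.polar_smul_left,
    QuadraticMap.polar_smul_right, hx, hxy]
  simp only [smul_eq_mul]
  ring

/-- anisotropic binary forms are isometric -/
theorem binary_iso [Fintype F] (ζ ζ' : F) (hζ : ∀ t : F, t ^ 2 + t + ζ ≠ 0)
    (hζ' : ∀ t : F, t ^ 2 + t + ζ' ≠ 0) :
    ∃ M : (Fin 2 → F) →ₗ[F] (Fin 2 → F), ∀ c, binF ζ (M c) = binF ζ' c := by
  classical
  have hab : ∀ ξ : F, (∀ t : F, t ^ 2 + t + ξ ≠ 0) →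
      ∀ z₁ z₂ : F, z₁ ^ 2 + 1 * z₁ * z₂ + ξ * z₂ ^ 2 = 0 → z₁ = 0 ∧ z₂ = 0 := by
    intro ξ hξ z₁ z₂ h
    by_cases hz : z₂ = 0
    · refine ⟨?_, hz⟩
      rw [hz] at h
      have : z₁ ^ 2 = 0 := by linear_combination h
      exact pow_eq_zero_iff (by norm_num) |>.mp this
    · exfalso
      apply hξ (z₁ / z₂)
      field_simp
      linear_combination h
  obtain ⟨L, hL⟩ := Cfsg.Agent.Lib.H13.AutPO.minus_iso (m := 0) (1 : F) ζ 1 ζ' (hab ζ hζ) (hab ζ' hζ')
  refine ⟨Matrix.toLin' (Matrix.of fun i j : Fin 2 => L.1 (Sum.inr i) (Sum.inr j)), ?_⟩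
  intro c
  have h := hL (fun k => Sum.elim (fun _ => 0) c k)
  unfold Cfsg.quadFormMinus at h
  simp only [Finset.univ_eq_empty, Finset.sum_empty, zero_add, Sum.elim_inr, one_mul] at h
  have hk : ∀ k : Fin 2, (L.1 *ᵥ (fun k => Sum.elim (fun _ => 0) c k)) (Sum.inr k) =
      (Matrix.toLin' (Matrix.of fun i j : Fin 2 => L.1 (Sum.inr i) (Sum.inr j)) c) k := by
    intro k
    rw [Matrix.toLin'_apply]
    unfold Matrix.mulVec dotProduct
    rw [Fintype.sum_sum_type]
    simp only [Finset.univ_eq_empty, Finset.sum_empty, zero_add, Sum.elim_inr, Matrix.of_apply]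
  rw [hk 0, hk 1] at h
  unfold binF
  linear_combination h

end planes

end

section

open Polynomial Module Matrix
open Cfsg.Agent.Lib.H24.Elus
open Cfsg.Agent.Lib.H13
open Cfsg.Agent.Lib.H13.OSS
open Cfsg.Agent.Lib.H10.OrtNd (PB TS PlusOn PB_apply PB_symm PB_self TS_mono)

section types

variable {F : Type*} [Field F] [Fintype F] {V : Type*} [AddCommGroup V] [Module F V]
  [FiniteDimensional F V]
variable (Q : QuadraticForm F V)

/-- the orthogonal sum of two anisotropic planes contains a totally singular plane -/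
theorem PlusOn_sup_planes (A A' : Submodule F V) (hA : NDon (PB Q) A) (hA' : NDon (PB Q) A')
    (horth : ∀ u ∈ A, ∀ v ∈ A', PB Q u v = 0)
    (hdA : finrank F A = 2) (hdA' : finrank F A' = 2)
    (haA : ∀ u ∈ A, Q u = 0 → u = 0) (haA' : ∀ u ∈ A', Q u = 0 → u = 0) :
    PlusOn Q (A ⊔ A') := by
  classical
  obtain ⟨ζ, E, hζ, hE⟩ := exists_plane_coords (restrQ Q A)
    (fun v hv => Subtype.ext (haA v.1 v.2 hv)) (nondeg_restrQ Q hA) hdA
  have hnd' : (QuadraticMap.polarBilin (-(restrQ Q A'))).Nondegenerate := by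
    have h := nondeg_restrQ Q hA'
    constructor
    · intro u hu
      apply h.1 u
      intro v
      have := hu v
      rw [QuadraticMap.polarBilin_apply_apply] at this ⊢
      rw [QuadraticMap.coeFn_neg, QuadraticMap.polar_neg] at this
      exact neg_eq_zero.mp this
    · intro u hu
      apply h.2 u
      intro v
      have := hu v
      rw [QuadraticMap.polarBilin_apply_apply] at this ⊢
      rw [QuadraticMap.coeFn_neg, QuadraticMap.polar_neg] at this
      exact neg_eq_zero.mp this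
  obtain ⟨ζ', E', hζ', hE'⟩ := exists_plane_coords (-(restrQ Q A'))
    (fun v hv => Subtype.ext (haA' v.1 v.2 (by
      rw [QuadraticMap.neg_apply, neg_eq_zero] at hv
      exact hv))) hnd' hdA'
  obtain ⟨M, hM⟩ := binary_iso ζ ζ' hζ hζ'
  obtain ⟨φ, hφ⟩ : ∃ φ : ↥A' →ₗ[F] ↥A, φ = E.symm.toLinearMap ∘ₗ M ∘ₗ E'.toLinearMap := ⟨_, rfl⟩
  have hφQ : ∀ a' : ↥A', Q ((φ a' : ↥A) : V) = - Q (a' : V) := by
    intro a'
    have h1 := hE (φ a')
    rw [restrQ_apply] at h1
    rw [h1, hφ]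
    simp only [LinearMap.coe_comp, LinearEquiv.coe_coe, Function.comp_apply,
      LinearEquiv.apply_symm_apply]
    rw [hM, ← hE' a', QuadraticMap.neg_apply, restrQ_apply]
  obtain ⟨ψ, hψ⟩ : ∃ ψ : ↥A' →ₗ[F] V, ψ = A.subtype ∘ₗ φ + A'.subtype := ⟨_, rfl⟩
  have hψapp : ∀ a' : ↥A', ψ a' = ((φ a' : ↥A) : V) + (a' : V) := by
    intro a'
    rw [hψ]
    rfl
  have hAA' : A ⊓ A' = ⊥ := inf_eq_bot_of_orthR (PB Q) (PB_refl Q) A A' hA horth
  have hinj : Function.Injective ψ := by
    rw [← LinearMap.ker_eq_bot, LinearMap.ker_eq_bot']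
    intro a' ha'
    rw [hψapp] at ha'
    have h1 : (a' : V) ∈ A ⊓ A' := by
      refine Submodule.mem_inf.mpr ⟨?_, a'.2⟩
      have : (a' : V) = -((φ a' : ↥A) : V) := by
        rw [eq_neg_iff_add_eq_zero, add_comm]
        exact ha'
      rw [this]
      exact A.neg_mem (φ a').2
    rw [hAA'] at h1
    exact Subtype.ext ((Submodule.mem_bot F).mp h1)
  refine ⟨LinearMap.range ψ, ?_, ?_, ?_⟩
  · rintro _ ⟨a', rfl⟩
    rw [hψapp]
    exact Submodule.add_mem _ (Submodule.mem_sup_left (φ a').2) (Submodule.mem_sup_right a'.2)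
  · rintro _ ⟨a', rfl⟩
    rw [hψapp, Q_add, hφQ, horth _ (φ a').2 _ a'.2]
    ring
  · rw [LinearMap.finrank_range_of_inj hinj, hdA']
    have h := Submodule.finrank_sup_add_finrank_inf_eq A A'
    rw [hAA', finrank_bot, add_zero] at h
    rw [h, hdA, hdA']

/-- two minus type spaces give plus type -/
theorem PlusOn_sup_of_not : ∀ (n : ℕ) (A A' : Submodule F V), finrank F A + finrank F A' = n →
    NDon (PB Q) A → NDon (PB Q) A' → (∀ u ∈ A, ∀ v ∈ A', PB Q u v = 0) →
    Even (finrank F A) → Even (finrank F A') → ¬ PlusOn Q A → ¬ PlusOn Q A' →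
    PlusOn Q (A ⊔ A') := by
  have hrefl := PB_refl Q
  -- peeling a hyperbolic plane
  have hpeel : ∀ (n : ℕ), (∀ m < n, ∀ (A A' : Submodule F V), finrank F A + finrank F A' = m →
      NDon (PB Q) A → NDon (PB Q) A' → (∀ u ∈ A, ∀ v ∈ A', PB Q u v = 0) →
      Even (finrank F A) → Even (finrank F A') → ¬ PlusOn Q A → ¬ PlusOn Q A' →
      PlusOn Q (A ⊔ A')) → ∀ (A A' : Submodule F V), finrank F A + finrank F A' = n →
      NDon (PB Q) A → NDon (PB Q) A' → (∀ u ∈ A, ∀ v ∈ A', PB Q u v = 0) →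
      Even (finrank F A) → Even (finrank F A') → ¬ PlusOn Q A → ¬ PlusOn Q A' →
      (∃ u ∈ A, u ≠ 0 ∧ Q u = 0) → PlusOn Q (A ⊔ A') := by
    intro n ih A A' hn hA hA' horth hev hev' hm hm' ⟨u, huA, hu0, huu⟩
    have huu' : PB Q u u = 0 := by rw [PB_self, huu, mul_zero]
    obtain ⟨P, hPA, hP, hP2, huP⟩ := exists_plane_of_isotropic (PB Q) (PB_symm Q) A hA u huA hu0 huu'
    have h1 := finrank_perp_inR (PB Q) hrefl A P hP hPA
    obtain ⟨A₁, hA₁⟩ : ∃ A₁, A₁ = A ⊓ (PB Q).orthogonal P := ⟨_, rfl⟩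
    rw [← hA₁] at h1
    have hA₁nd : NDon (PB Q) A₁ := by
      rw [hA₁]
      exact NDon_perp_inR (PB Q) hrefl A P hA hP hPA
    have hPA₁ : ∀ a ∈ P, ∀ w ∈ A₁, PB Q a w = 0 := by
      intro a ha w hw
      rw [hA₁] at hw
      exact (Submodule.mem_inf.mp hw).2 a ha
    have hsupA : P ⊔ A₁ = A := by
      rw [hA₁]
      exact sup_perp_inR (PB Q) hrefl A P hP hPA
    have hPplus : PlusOn Q P := by
      refine ⟨Submodule.span F {u}, ?_, TS_span_singleton Q huu, ?_⟩
      · rw [Submodule.span_le]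
        intro x hx
        rw [Set.mem_singleton_iff] at hx
        rw [hx]
        exact huP
      · rw [finrank_span_singleton hu0, hP2]
    have hA₁m : ¬ PlusOn Q A₁ := by
      intro h
      apply hm
      rw [← hsupA]
      exact PlusOn_sup Q P A₁ hP hPA₁ hPplus h
    have hA₁le : A₁ ≤ A := by rw [hA₁]; exact inf_le_left
    have hA₁ev : Even (finrank F A₁) := by
      obtain ⟨k, hk⟩ := hev
      exact ⟨k - 1, by omega⟩
    have hrec := ih (finrank F A₁ + finrank F A') (by omega) A₁ A' rfl hA₁nd hA'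
      (fun a ha w hw => horth a (hA₁le ha) w hw) hA₁ev hev' hA₁m hm'
    have : A ⊔ A' = P ⊔ (A₁ ⊔ A') := by rw [← sup_assoc, hsupA]
    rw [this]
    apply PlusOn_sup Q P (A₁ ⊔ A') hP _ hPplus hrec
    intro a ha w hw
    obtain ⟨w₁, hw₁, w₂, hw₂, rfl⟩ := Submodule.mem_sup.mp hw
    rw [map_add, hPA₁ a ha w₁ hw₁, horth a (hPA ha) w₂ hw₂, add_zero]
  intro n
  induction n using Nat.strong_induction_on with
  | _ n ih =>
  intro A A' hn hA hA' horth hev hev' hm hm'
  by_cases hs : ∃ u ∈ A, u ≠ 0 ∧ Q u = 0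
  · exact hpeel n ih A A' hn hA hA' horth hev hev' hm hm' hs
  by_cases hs' : ∃ u ∈ A', u ≠ 0 ∧ Q u = 0
  · rw [sup_comm]
    exact hpeel n (fun m hm A A' => ih m hm A A') A' A (by omega) hA' hA
      (fun u hu v hv => hrefl _ _ (horth v hv u hu)) hev' hev hm' hm hs'
  push Not at hs hs'
  have haA : ∀ u ∈ A, Q u = 0 → u = 0 := by
    intro u hu h
    by_contra h0
    exact hs u hu h0 h
  have haA' : ∀ u ∈ A', Q u = 0 → u = 0 := by
    intro u hu h
    by_contra h0
    exact hs' u hu h0 h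
  have hdim : ∀ X : Submodule F V, (∀ u ∈ X, Q u = 0 → u = 0) → Even (finrank F X) →
      ¬ PlusOn Q X → finrank F X = 2 := by
    intro X hX hXev hXm
    have h3 : finrank F X < 3 := by
      by_contra h
      push Not at h
      obtain ⟨u, hu, hu0, huu⟩ := exists_singular_in Q X h
      exact hu0 (hX u hu huu)
    have h0 : finrank F X ≠ 0 := by
      intro h
      apply hXm
      exact ⟨⊥, bot_le, TS_bot Q, by rw [finrank_bot, h]⟩
    obtain ⟨k, hk⟩ := hXev
    omega
  exact PlusOn_sup_planes Q A A' hA hA' horth (hdim A haA hev hm) (hdim A' haA' hev' hm') haA haA'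

/-- types multiply in orthogonal decompositions -/
theorem plus_top_iff (hQ : (QuadraticMap.polarBilin Q).Nondegenerate) (A A' : Submodule F V)
    (hA : NDon (PB Q) A) (hA' : NDon (PB Q) A') (horth : ∀ u ∈ A, ∀ v ∈ A', PB Q u v = 0)
    (hsup : A ⊔ A' = ⊤) (hev : Even (finrank F A)) (hev' : Even (finrank F A')) :
    PlusOn Q ⊤ ↔ (PlusOn Q A ↔ PlusOn Q A') := by
  have hrefl := PB_refl Q
  constructor
  · intro h
    constructor
    · intro hp
      by_contra hm
      exact not_PlusOn_top Q hQ A A' hA hA' horth hsup hp hm h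
    · intro hp
      by_contra hm
      exact not_PlusOn_top Q hQ A' A hA' hA (fun u hu v hv => hrefl _ _ (horth v hv u hu))
        (by rw [sup_comm]; exact hsup) hp hm h
  · intro h
    rw [← hsup]
    by_cases hp : PlusOn Q A
    · exact PlusOn_sup Q A A' hA horth hp (h.mp hp)
    · exact PlusOn_sup_of_not Q _ A A' rfl hA hA' horth hev hev' hp (fun h' => hp (h.mpr h'))

end types

end

section

open Polynomial Module Matrix
open Cfsg.Agent.Lib.H24.Elus
open Cfsg.Agent.Lib.H13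
open Cfsg.Agent.Lib.H13.OSS
open Cfsg.Agent.Lib.H10.OrtNd (PB TS PlusOn PB_apply PB_symm PB_self TS_mono)

section count

variable {F : Type*} [Field F] [Fintype F] {V : Type*} [AddCommGroup V] [Module F V]
  [FiniteDimensional F V]
variable (Q : QuadraticForm F V)

/-- the standard totally singular subspace of the plus type form -/
theorem exists_ts_std_plus (n : ℕ) : ∃ W : Submodule F (Fin n ⊕ Fin n → F),
    finrank F W = n ∧ ∀ w ∈ W, Cfsg.quadFormPlus n F w = 0 := by
  refine ⟨HypTS.U0 F (Fin n), by rw [HypTS.finrank_U0, Fintype.card_fin], ?_⟩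
  intro w hw
  rw [HypTS.mem_U0_iff] at hw
  unfold Cfsg.quadFormPlus
  apply Finset.sum_eq_zero
  intro i _
  have : w (Sum.inr i) = 0 := congrFun hw i
  rw [this, mul_zero]

/-- a subspace isometric to the standard plus type form is of plus type -/
theorem PlusOn_of_std_plus (U : Submodule F V) (n : ℕ) (hd : finrank F U = 2 * n)
    (Φ : ↥U ≃ₗ[F] (Fin n ⊕ Fin n → F)) (hΦ : ∀ u : ↥U, Q (u : V) = Cfsg.quadFormPlus n F (Φ u)) :
    PlusOn Q U := by
  obtain ⟨W, hWd, hW⟩ := exists_ts_std_plus (F := F) n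
  refine ⟨(W.map Φ.symm.toLinearMap).map U.subtype, ?_, ?_, ?_⟩
  · rintro _ ⟨u, -, rfl⟩
    exact u.2
  · rintro _ ⟨u, ⟨w, hw, rfl⟩, rfl⟩
    show Q ((Φ.symm w : ↥U) : V) = 0
    rw [hΦ, LinearEquiv.apply_symm_apply]
    exact hW w hw
  · rw [Submodule.finrank_map_subtype_eq, LinearEquiv.finrank_map_eq, hWd, hd]

/-- the number of singular vectors of a plus type subspace -/
theorem card_sing_plus {q : ℕ} (hF : Fintype.card F = q) (U : Submodule F V)
    (hU : NDon (PB Q) U) (n : ℕ) (hn : 1 ≤ n) (hd : finrank F U = 2 * n) (hp : PlusOn Q U) :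
    Nat.card {u : V // u ∈ U ∧ Q u = 0} = q ^ (2 * n - 1) + q ^ n - q ^ (n - 1) := by
  obtain ⟨b, hb⟩ := Cfsg.Agent.Lib.H10.OrtNd.exists_plus_basis_sub Q hU hp hd
  rw [← Cfsg.Agent.S0289.result hF n hn]
  apply Nat.card_congr
  refine ⟨fun u => ⟨b.equivFun ⟨u.1, u.2.1⟩, by rw [← hb]; exact u.2.2⟩,
    fun v => ⟨(b.equivFun.symm v.1 : ↥U), (b.equivFun.symm v.1).2, by
      rw [hb, LinearEquiv.apply_symm_apply]; exact v.2⟩, ?_, ?_⟩
  · intro u
    apply Subtype.ext
    show ((b.equivFun.symm (b.equivFun ⟨u.1, u.2.1⟩) : ↥U) : V) = u.1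
    rw [LinearEquiv.symm_apply_apply]
  · intro v
    apply Subtype.ext
    show b.equivFun ⟨((b.equivFun.symm v.1 : ↥U) : V), _⟩ = v.1
    exact b.equivFun.apply_symm_apply v.1

/-- a nondegenerate subspace which is not of plus type is isometric to a standard minus type
form -/
theorem exists_std_minus (U : Submodule F V) (hU : NDon (PB Q) U) (n : ℕ) (hn : 1 ≤ n)
    (hd : finrank F U = 2 * n) (hm : ¬ PlusOn Q U) :
    ∃ ζ : F, (∀ t : F, t ^ 2 + t + ζ ≠ 0) ∧ ∃ Φ : ↥U ≃ₗ[F] (MinusClass.IM (n - 1) → F),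
      ∀ u : ↥U, Q (u : V) = Cfsg.quadFormMinus (n - 1) F 1 ζ (Φ u) := by
  rcases MinusClass.classify (restrQ Q U) (nondeg_restrQ Q hU) hn hd with ⟨Φ, hΦ⟩ | h
  · exact absurd (PlusOn_of_std_plus Q U n hd Φ hΦ) hm
  · exact h

theorem aniso_of_irred (ζ : F) (hζ : ∀ t : F, t ^ 2 + t + ζ ≠ 0) :
    ∀ z₁ z₂ : F, z₁ ^ 2 + 1 * z₁ * z₂ + ζ * z₂ ^ 2 = 0 → z₁ = 0 ∧ z₂ = 0 := by
  intro z₁ z₂ h
  by_cases hz : z₂ = 0
  · refine ⟨?_, hz⟩
    rw [hz] at h
    have : z₁ ^ 2 = 0 := by linear_combination h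
    exact pow_eq_zero_iff (by norm_num) |>.mp this
  · exfalso
    apply hζ (z₁ / z₂)
    field_simp
    linear_combination h

/-- the number of singular vectors of a minus type subspace -/
theorem card_sing_minus {q : ℕ} (hF : Fintype.card F = q) (U : Submodule F V)
    (hU : NDon (PB Q) U) (n : ℕ) (hn : 1 ≤ n) (hd : finrank F U = 2 * n) (hm : ¬ PlusOn Q U) :
    Nat.card {u : V // u ∈ U ∧ Q u = 0} = q ^ (2 * n - 1) + q ^ (n - 1) - q ^ n := by
  obtain ⟨ζ, hζ, Φ, hΦ⟩ := exists_std_minus Q U hU n hn hd hm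
  rw [← Cfsg.Agent.S0290.result hF n hn 1 ζ (aniso_of_irred ζ hζ)]
  apply Nat.card_congr
  refine ⟨fun u => ⟨Φ ⟨u.1, u.2.1⟩, by rw [← hΦ]; exact u.2.2⟩,
    fun v => ⟨(Φ.symm v.1 : ↥U), (Φ.symm v.1).2, by
      rw [hΦ, LinearEquiv.apply_symm_apply]; exact v.2⟩, ?_, ?_⟩
  · intro u
    apply Subtype.ext
    show ((Φ.symm (Φ ⟨u.1, u.2.1⟩) : ↥U) : V) = u.1
    rw [LinearEquiv.symm_apply_apply]
  · intro v
    apply Subtype.ext
    show Φ ⟨((Φ.symm v.1 : ↥U) : V), _⟩ = v.1
    exact Φ.apply_symm_apply v.1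

end count

end

section

open Polynomial Module Matrix
open Cfsg.Agent.Lib.H24.Elus
open Cfsg.Agent.Lib.H13
open Cfsg.Agent.Lib.H13.OSS
open Cfsg.Agent.Lib.H10.OrtNd (PB TS PlusOn PB_apply PB_symm PB_self TS_mono)

section iso

variable {F : Type*} [Field F] [Fintype F] {V : Type*} [AddCommGroup V] [Module F V]
  [FiniteDimensional F V] {V' : Type*} [AddCommGroup V'] [Module F V'] [FiniteDimensional F V']

/-- a space isometric to the standard plus type form is of plus type -/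
theorem PlusOn_top_of_std_plus (Q : QuadraticForm F V) (n : ℕ) (hd : finrank F V = 2 * n)
    (Φ : V ≃ₗ[F] (Fin n ⊕ Fin n → F)) (hΦ : ∀ u : V, Q u = Cfsg.quadFormPlus n F (Φ u)) :
    PlusOn Q ⊤ := by
  obtain ⟨W, hWd, hW⟩ := exists_ts_std_plus (F := F) n
  refine ⟨W.map Φ.symm.toLinearMap, le_top, ?_, ?_⟩
  · rintro _ ⟨w, hw, rfl⟩
    show Q (Φ.symm w) = 0
    rw [hΦ, LinearEquiv.apply_symm_apply]
    exact hW w hw
  · rw [LinearEquiv.finrank_map_eq, hWd, finrank_top, hd]

/-- nondegenerate quadratic spaces of the same even dimension and the same type are isometric -/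
theorem iso_of_same_type (Q : QuadraticForm F V) (Q' : QuadraticForm F V')
    (hQ : (QuadraticMap.polarBilin Q).Nondegenerate)
    (hQ' : (QuadraticMap.polarBilin Q').Nondegenerate) (n : ℕ) (hn : 1 ≤ n)
    (hd : finrank F V = 2 * n) (hd' : finrank F V' = 2 * n)
    (h : PlusOn Q ⊤ ↔ PlusOn Q' ⊤) : ∃ Φ : V ≃ₗ[F] V', ∀ v, Q' (Φ v) = Q v := by
  classical
  by_cases hp : PlusOn Q ⊤
  · obtain ⟨W', -, hW', hWd'⟩ := h.mp hp
    obtain ⟨W, -, hW, hWd⟩ := hp
    rw [finrank_top] at hWd hWd'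
    obtain ⟨b, hb⟩ := exists_plus_basis Q hQ hd W (by omega) hW
    obtain ⟨b', hb'⟩ := exists_plus_basis Q' hQ' hd' W' (by omega) hW'
    refine ⟨b.equivFun.trans b'.equivFun.symm, ?_⟩
    intro v
    rw [hb', hb, LinearEquiv.trans_apply, LinearEquiv.apply_symm_apply]
  · have hp' : ¬ PlusOn Q' ⊤ := fun h' => hp (h.mpr h')
    rcases MinusClass.classify Q hQ hn hd with ⟨Φ, hΦ⟩ | ⟨ζ, hζ, Φ, hΦ⟩
    · exact absurd (PlusOn_top_of_std_plus Q n hd Φ hΦ) hp
    rcases MinusClass.classify Q' hQ' hn hd' with ⟨Φ', hΦ'⟩ | ⟨ζ', hζ', Φ', hΦ'⟩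
    · exact absurd (PlusOn_top_of_std_plus Q' n hd' Φ' hΦ') hp'
    obtain ⟨L, hL⟩ := Cfsg.Agent.Lib.H13.AutPO.minus_iso (m := n - 1) (1 : F) ζ' 1 ζ
      (aniso_of_irred ζ' hζ') (aniso_of_irred ζ hζ)
    refine ⟨Φ.trans ((Char2Mat.toEquiv L).trans Φ'.symm), ?_⟩
    intro v
    rw [hΦ', LinearEquiv.trans_apply, LinearEquiv.trans_apply, LinearEquiv.apply_symm_apply,
      Char2Mat.toEquiv_apply, hL, ← hΦ]

theorem finrank_plus_std (n : ℕ) : finrank F (Fin n ⊕ Fin n → F) = 2 * n := by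
  rw [Module.finrank_fintype_fun_eq_card, Fintype.card_sum, Fintype.card_fin]
  ring

theorem finrank_minus_std (k : ℕ) : finrank F (MinusClass.IM k → F) = 2 * (k + 1) := by
  rw [Module.finrank_fintype_fun_eq_card, Fintype.card_sum, Fintype.card_sum, Fintype.card_fin,
    Fintype.card_fin]
  ring

theorem PlusOn_plusQF (n : ℕ) : PlusOn (plusQF F n) ⊤ := by
  obtain ⟨W, hWd, hW⟩ := exists_ts_std_plus (F := F) n
  refine ⟨W, le_top, ?_, by rw [hWd, finrank_top, finrank_plus_std]⟩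
  intro w hw
  rw [plusQF_apply]
  exact hW w hw

theorem not_PlusOn_minusQF (k : ℕ) (a b : F)
    (hab : ∀ z₁ z₂ : F, z₁ ^ 2 + a * z₁ * z₂ + b * z₂ ^ 2 = 0 → z₁ = 0 ∧ z₂ = 0) :
    ¬ PlusOn (minusQF F k a b) ⊤ := by
  rintro ⟨W, -, hW, hWd⟩
  have h := Cfsg.Agent.Lib.H13.AutPO.no_ts_minus k a b hab W hW
  rw [finrank_top, finrank_minus_std] at hWd
  omega

end iso

end

end Cfsg.Agent.Lib.H13.OES
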