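import Cfsg.Agent.Lib.H13.SpInvol

set_option autoImplicit false

namespace Cfsg.Agent.Lib.H13.FrameCount

open Module
open Cfsg.Agent.Lib.H13.SpInvol

variable {F V : Type*} [Field F] [Fintype F] [AddCommGroup V] [Module F V]
  [FiniteDimensional F V] {f : LinearMap.BilinForm F V}

/-- cardinality of a difference of nested subspaces -/
theorem card_sdiff_submodule (A B : Submodule F V) (hBA : B ≤ A) :
    Nat.card {v : V // v ∈ A ∧ v ∉ B} =
      Fintype.card F ^ finrank F ↥A - Fintype.card F ^ finrank F ↥B := by
  classical
  haveI : Finite V := Module.finite_of_finite F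
  haveI : Fintype V := Fintype.ofFinite V
  have h1 : Nat.card {v : V // v ∈ A ∧ v ∉ B} = Nat.card {a : ↥A // ¬ (a : V) ∈ B} := by
    apply Nat.card_congr
    exact ⟨fun v => ⟨⟨v.1, v.2.1⟩, v.2.2⟩, fun a => ⟨a.1.1, a.1.2, a.2⟩, fun _ => rfl, fun _ => rfl⟩
  have h2 : Nat.card {a : ↥A // (a : V) ∈ B} = Nat.card ↥B := by
    apply Nat.card_congr
    exact ⟨fun a => ⟨a.1.1, a.2⟩, fun b => ⟨⟨b.1, hBA b.2⟩, b.2⟩, fun _ => rfl, fun _ => rfl⟩
  rw [h1, Nat.card_eq_fintype_card, Fintype.card_subtype_compl, ← Nat.card_eq_fintype_card,
    ← Nat.card_eq_fintype_card, h2, Nat.card_eq_fintype_card, Nat.card_eq_fintype_card,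
    card_eq_pow_finrank (K := F) (V := ↥A), card_eq_pow_finrank (K := F) (V := ↥B)]

/-- the number of independent totally isotropic `s`-tuples -/
theorem card_frames (hf : f.Nondegenerate) (halt : f.IsAlt) (s : ℕ) :
    Nat.card {w : Fin s → V // LinearIndependent F w ∧ ∀ i j, f (w i) (w j) = 0} =
      ∏ i ∈ Finset.range s, (Fintype.card F ^ (finrank F V - i) - Fintype.card F ^ i) := by
  classical
  haveI : Finite V := Module.finite_of_finite F
  haveI : Fintype V := Fintype.ofFinite V
  induction s with
  | zero =>
    rw [Finset.range_zero, Finset.prod_empty]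
    haveI : Unique {w : Fin 0 → V // LinearIndependent F w ∧ ∀ i j, f (w i) (w j) = 0} :=
      { default := ⟨fun i => i.elim0, linearIndependent_empty_type, fun i => i.elim0⟩
        uniq := fun e => Subtype.ext (funext fun i => i.elim0) }
    exact Nat.card_unique
  | succ s ih =>
    rw [Finset.prod_range_succ, ← ih]
    let X := {w : Fin s → V // LinearIndependent F w ∧ ∀ i j, f (w i) (w j) = 0}
    let X' := {w : Fin (s + 1) → V // LinearIndependent F w ∧ ∀ i j, f (w i) (w j) = 0}
    let p : X' → X := fun w => ⟨Fin.init w.1, by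
      refine ⟨?_, fun i j => w.2.2 _ _⟩
      have := w.2.1.comp (Fin.castSucc : Fin s → Fin (s + 1)) (Fin.castSucc_injective s)
      exact this⟩
    show Nat.card X' = Nat.card X * _
    rw [Nat.card_congr (Equiv.sigmaFiberEquiv p).symm, Nat.card_sigma]
    have : ∀ w : X, Nat.card {w' : X' // p w' = w} =
        Fintype.card F ^ (finrank F V - s) - Fintype.card F ^ s := by
      intro w
      set W := Submodule.span F (Set.range w.1) with hW
      have hWs : finrank F ↥W = s := by
        rw [hW, finrank_span_eq_card w.2.1, Fintype.card_fin]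
      have hO : finrank F ↥(f.orthogonal W) = finrank F V - s := by
        rw [LinearMap.BilinForm.finrank_orthogonal hf W, hWs]
      have hmemO : ∀ v, v ∈ f.orthogonal W ↔ ∀ i, f (w.1 i) v = 0 := by
        intro v
        rw [LinearMap.BilinForm.mem_orthogonal_iff]
        constructor
        · intro h i
          exact h _ (Submodule.subset_span ⟨i, rfl⟩)
        · intro h u hu
          induction hu using Submodule.span_induction with
          | mem x hx => obtain ⟨i, rfl⟩ := hx; exact h i
          | zero => simp
          | add x y _ _ hx hy => rw [map_add, LinearMap.add_apply, hx, hy, add_zero]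
          | smul c x _ hx => rw [map_smul, LinearMap.smul_apply, hx, smul_zero]
      have hWO : W ≤ f.orthogonal W := by
        rw [hW, Submodule.span_le]
        rintro _ ⟨j, rfl⟩
        rw [SetLike.mem_coe, hmemO]
        intro i
        exact w.2.2 i j
      rw [← hO, ← hWs, ← card_sdiff_submodule _ _ hWO]
      apply Nat.card_congr
      refine ⟨fun w' => ⟨w'.1.1 (Fin.last s), ?_, ?_⟩,
        fun v => ⟨⟨Fin.snoc w.1 v.1, ?_, ?_⟩, ?_⟩, ?_, ?_⟩
      · rw [hmemO]
        intro i
        have h3 : Fin.init w'.1.1 = w.1 := congrArg Subtype.val w'.2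
        have h2 : w.1 i = w'.1.1 i.castSucc := by
          rw [← h3]; rfl
        rw [h2]
        exact w'.1.2.2 _ _
      · have h1 := w'.1.2.1
        rw [← Fin.snoc_init_self w'.1.1, linearIndependent_finSnoc] at h1
        have h2 : Fin.init w'.1.1 = w.1 := congrArg Subtype.val w'.2
        rw [h2] at h1
        exact h1.2
      · rw [linearIndependent_finSnoc]
        exact ⟨w.2.1, v.2.2⟩
      · have hv := (hmemO v.1).mp v.2.1
        intro i j
        refine Fin.lastCases ?_ (fun i => ?_) i <;> refine Fin.lastCases ?_ (fun j => ?_) j <;>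
          simp only [Fin.snoc_last, Fin.snoc_castSucc]
        · exact halt v.1
        · rw [alt_skew' halt, hv j, neg_zero]
        · exact hv i
        · exact w.2.2 i j
      · apply Subtype.ext
        show Fin.init (Fin.snoc w.1 v.1 : Fin (s + 1) → V) = w.1
        exact Fin.init_snoc _ _
      · intro w'
        apply Subtype.ext
        apply Subtype.ext
        show Fin.snoc w.1 (w'.1.1 (Fin.last s)) = w'.1.1
        have h2 : Fin.init w'.1.1 = w.1 := congrArg Subtype.val w'.2
        rw [← h2]
        exact Fin.snoc_init_self _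
      · intro v
        apply Subtype.ext
        show (Fin.snoc w.1 v.1 : Fin (s + 1) → V) (Fin.last s) = v.1
        exact Fin.snoc_last _ _
    simp only [this]
    rw [Finset.sum_const, Finset.card_univ, smul_eq_mul, Nat.card_eq_fintype_card]

end Cfsg.Agent.Lib.H13.FrameCount
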