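/-
EO phase 2 (helper21), task EO2-T (helper13): an isometric orthogonal decomposition forces plus type when the number of
blocks is divisible by 4, or is even with blocks of even dimension, or is even and `-1` is a square, or the blocks are of
plus type.  Exact signature of `tools/blueprints/EO2_sigs.lean`.
-/
import Mathlib
import Cfsg.Agent.Lib.H13.OES1
import Cfsg.Agent.Lib.H13.AschEOB2a
import Cfsg.Agent.Lib.H17.AschSP2F1
import Cfsg.Agent.Lib.H24.DnA
import Cfsg.Agent.Lib.H29.Orth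

set_option autoImplicit false
set_option linter.unusedSimpArgs false
set_option linter.unusedSectionVars false
set_option linter.unusedVariables false

namespace Cfsg.Agent.Lib.H13.EOP2

open Cfsg Cfsg.Geo Module
open Cfsg.Agent.Lib.H10.OrtNd (PB TS PlusOn PB_apply PB_symm PB_self TS_mono)
open Cfsg.Agent.Lib.H24.Elus (NDon)

section core

variable {F : Type*} [Field F] [Fintype F] {n t k : ℕ} (Q : QuadraticForm F (Fin n → F))
  (D : Fin t → Submodule F (Fin n → F))

/-- a totally singular subspace of half the dimension inside the sum of the blocks indexed by `s` -/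
def Good (s : Finset (Fin t)) : Prop :=
  ∃ U : Submodule F (Fin n → F), U ≤ ⨆ i ∈ s, D i ∧ TS Q U ∧ 2 * finrank F U = k * s.card

variable {Q D}

theorem polar_biSup_eq_zero (hD : IsOrthogonalMDecomposition (⇑Q) k D) {s T : Finset (Fin t)}
    (hdisj : Disjoint s T) {x y : Fin n → F} (hx : x ∈ ⨆ i ∈ s, D i) (hy : y ∈ ⨆ i ∈ T, D i) :
    PB Q x y = 0 := by
  rw [Submodule.mem_iSup_finset_iff_exists_sum] at hx hy
  obtain ⟨μ, rfl⟩ := hx
  obtain ⟨ν, rfl⟩ := hy
  rw [map_sum]
  apply Finset.sum_eq_zero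
  intro j hj
  rw [map_sum, LinearMap.sum_apply]
  apply Finset.sum_eq_zero
  intro i hi
  have hij : i ≠ j := fun h => Finset.disjoint_left.1 hdisj hi (h ▸ hj)
  rw [PB_apply]
  exact hD.decomp.orthogonal i j hij _ (μ i).2 _ (ν j).2

theorem biSup_mono_left (s T : Finset (Fin t)) : (⨆ i ∈ s, D i) ≤ ⨆ i ∈ s ∪ T, D i :=
  iSup_le fun i => iSup_le fun hi => le_iSup₂_of_le i (Finset.mem_union_left _ hi) le_rfl

theorem biSup_mono_right (s T : Finset (Fin t)) : (⨆ i ∈ T, D i) ≤ ⨆ i ∈ s ∪ T, D i :=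
  iSup_le fun i => iSup_le fun hi => le_iSup₂_of_le i (Finset.mem_union_right _ hi) le_rfl

theorem good_empty : Good (k := k) Q D ∅ :=
  ⟨⊥, bot_le, Cfsg.Agent.Lib.H13.OES.TS_bot Q, by simp⟩

theorem good_union (hD : IsOrthogonalMDecomposition (⇑Q) k D) {s T : Finset (Fin t)}
    (hs : Good (k := k) Q D s) (hT : Good (k := k) Q D T) (hdisj : Disjoint s T) :
    Good (k := k) Q D (s ∪ T) := by
  obtain ⟨U, hU, hUts, hUd⟩ := hs
  obtain ⟨U', hU', hUts', hUd'⟩ := hT
  refine ⟨U ⊔ U', sup_le (hU.trans (biSup_mono_left s T)) (hU'.trans (biSup_mono_right s T)), ?_, ?_⟩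
  · exact Cfsg.Agent.Lib.H13.OES.TS_sup Q hUts hUts'
      (fun u hu v hv => polar_biSup_eq_zero hD hdisj (hU hu) (hU' hv))
  · have hdj : Disjoint (⨆ i ∈ s, D i) (⨆ i ∈ T, D i) := by
      have := hD.decomp.decomp.indep.disjoint_biSup_biSup' (s := (↑s : Set (Fin t)))
        (t := (↑T : Set (Fin t))) (by exact_mod_cast hdisj) s.finite_toSet
      simpa only [Finset.mem_coe] using this
    have hinf : U ⊓ U' = ⊥ := by
      rw [eq_bot_iff]
      exact (inf_le_inf hU hU').trans (le_of_eq (disjoint_iff.1 hdj))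
    have h1 := Submodule.finrank_sup_add_finrank_inf_eq U U'
    rw [hinf, finrank_bot, add_zero] at h1
    rw [h1, Finset.card_union_of_disjoint hdisj]
    ring_nf
    ring_nf at hUd hUd'
    omega

theorem good_singleton_of_plus (hD : IsOrthogonalMDecomposition (⇑Q) k D) (i : Fin t)
    (h : PlusOn Q (D i)) : Good (k := k) Q D {i} := by
  obtain ⟨U, hU, hUts, hUd⟩ := h
  refine ⟨U, hU.trans (le_iSup₂_of_le i (Finset.mem_singleton_self i) le_rfl), hUts, ?_⟩
  rw [hUd, hD.decomp.decomp.finrank_eq i, Finset.card_singleton, mul_one]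

theorem pair_le (i j : Fin t) : D i ⊔ D j ≤ ⨆ l ∈ ({i, j} : Finset (Fin t)), D l :=
  sup_le (le_iSup₂_of_le i (by simp) le_rfl) (le_iSup₂_of_le j (by simp) le_rfl)

/-- two isometric orthogonal blocks and a square root of `-1` -/
theorem good_pair_of_sq (hD : IsOrthogonalMDecomposition (⇑Q) k D) {i j : Fin t} (hij : i ≠ j)
    (c : F) (hc : c * c = -1) : Good (k := k) Q D {i, j} := by
  obtain ⟨e, he⟩ := hD.isometric i j
  set φ : ↥(D i) →ₗ[F] (Fin n → F) :=
    (D i).subtype + c • ((D j).subtype ∘ₗ (e : ↥(D i) →ₗ[F] ↥(D j))) with hφ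
  have hφa : ∀ w : ↥(D i), φ w = (w : Fin n → F) + c • ((e w : ↥(D j)) : Fin n → F) := fun w => rfl
  have hinj : Function.Injective φ := by
    rw [← LinearMap.ker_eq_bot, LinearMap.ker_eq_bot']
    intro w hw
    rw [hφa] at hw
    have h1 : (w : Fin n → F) = -(c • ((e w : ↥(D j)) : Fin n → F)) := eq_neg_of_add_eq_zero_left hw
    have h2 : (w : Fin n → F) ∈ ⨆ l, ⨆ (_ : l ≠ i), D l := by
      rw [h1]
      exact Submodule.neg_mem _ (Submodule.smul_mem _ _ (mem_iSup_ne D (Ne.symm hij) (e w).2))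
    exact Subtype.ext (eq_zero_of_mem_of_mem_iSup_ne hD.decomp.decomp w.2 h2)
  refine ⟨LinearMap.range φ, ?_, ?_, ?_⟩
  · rintro _ ⟨w, rfl⟩
    apply pair_le i j
    rw [hφa]
    exact Submodule.add_mem_sup w.2 ((D j).smul_mem _ (e w).2)
  · rintro _ ⟨w, rfl⟩
    rw [hφa, Cfsg.Agent.Lib.H13.OES.Q_add, QuadraticMap.map_smul, map_smul, smul_eq_mul, he w, PB_apply]
    have h0 : QuadraticMap.polar (⇑Q) (w : Fin n → F) ((e w : ↥(D j)) : Fin n → F) = 0 :=
      hD.decomp.orthogonal i j hij _ w.2 _ (e w).2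
    rw [h0, smul_zero, add_zero]
    have : Q (w : Fin n → F) + c * c * Q (w : Fin n → F) = (1 + c * c) * Q (w : Fin n → F) := by ring
    rw [this, hc]
    ring
  · rw [LinearMap.finrank_range_of_inj hinj, hD.decomp.decomp.finrank_eq i, Finset.card_pair hij]
    ring

theorem ndon_block (hD : IsOrthogonalMDecomposition (⇑Q) k D) (i : Fin t) : NDon (PB Q) (D i) := by
  intro u hu h
  by_contra hu0
  obtain ⟨-, ⟨x, hx, hxu⟩⟩ := hD.decomp.nondegenerate i u hu hu0
  apply hxu
  have := h x hx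
  rwa [PB_apply] at this

theorem finrank_pair (hD : IsOrthogonalMDecomposition (⇑Q) k D) {i j : Fin t} (hij : i ≠ j) :
    finrank F ↥(D i ⊔ D j) = 2 * k := by
  have hinf : D i ⊓ D j = ⊥ := by
    rw [eq_bot_iff]
    intro x hx
    rw [Submodule.mem_bot]
    exact eq_zero_of_mem_of_mem_iSup_ne hD.decomp.decomp hx.1 (mem_iSup_ne D (Ne.symm hij) hx.2)
  have h1 := Submodule.finrank_sup_add_finrank_inf_eq (D i) (D j)
  rw [hinf, finrank_bot, add_zero, hD.decomp.decomp.finrank_eq, hD.decomp.decomp.finrank_eq] at h1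
  omega

/-- two isometric orthogonal blocks of even dimension -/
theorem good_pair_of_even (hD : IsOrthogonalMDecomposition (⇑Q) k D) {i j : Fin t} (hij : i ≠ j)
    (hk : Even k) : Good (k := k) Q D {i, j} := by
  have hA := ndon_block hD i
  have hA' := ndon_block hD j
  have horth : ∀ u ∈ D i, ∀ v ∈ D j, PB Q u v = 0 := fun u hu v hv => by
    rw [PB_apply]; exact hD.decomp.orthogonal i j hij u hu v hv
  have hfr := finrank_pair hD hij
  have hplus : PlusOn Q (D i ⊔ D j) := by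
    by_cases hp : PlusOn Q (D i)
    · exact Cfsg.Agent.Lib.H13.OES.PlusOn_sup Q _ _ hA horth hp
        (Cfsg.Agent.Lib.H24.Dn.plus_of_isometric (⇑Q) _ _ (hD.isometric i j) hp)
    · have hp' : ¬ PlusOn Q (D j) := fun h =>
        hp (Cfsg.Agent.Lib.H24.Dn.plus_of_isometric (⇑Q) _ _ (hD.isometric j i) h)
      exact Cfsg.Agent.Lib.H13.OES.PlusOn_sup_of_not Q (k + k) _ _
        (by rw [hD.decomp.decomp.finrank_eq, hD.decomp.decomp.finrank_eq]) hA hA' horth
        (by rw [hD.decomp.decomp.finrank_eq]; exact hk) (by rw [hD.decomp.decomp.finrank_eq]; exact hk)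
        hp hp'
  obtain ⟨U, hU, hUts, hUd⟩ := hplus
  refine ⟨U, hU.trans (pair_le i j), hUts, ?_⟩
  rw [hUd, hfr, Finset.card_pair hij]
  ring

theorem quad_le (i₀ i₁ i₂ i₃ : Fin t) {v₀ v₁ v₂ v₃ : Fin n → F} (h₀ : v₀ ∈ D i₀) (h₁ : v₁ ∈ D i₁)
    (h₂ : v₂ ∈ D i₂) (h₃ : v₃ ∈ D i₃) :
    v₀ + v₁ + v₂ + v₃ ∈ ⨆ l ∈ ({i₀, i₁, i₂, i₃} : Finset (Fin t)), D l := by
  refine Submodule.add_mem _ (Submodule.add_mem _ (Submodule.add_mem _ ?_ ?_) ?_) ?_
  · exact (le_iSup₂_of_le (f := fun l (_ : l ∈ ({i₀, i₁, i₂, i₃} : Finset (Fin t))) => D l) i₀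
      (by simp) le_rfl) h₀
  · exact (le_iSup₂_of_le (f := fun l (_ : l ∈ ({i₀, i₁, i₂, i₃} : Finset (Fin t))) => D l) i₁
      (by simp) le_rfl) h₁
  · exact (le_iSup₂_of_le (f := fun l (_ : l ∈ ({i₀, i₁, i₂, i₃} : Finset (Fin t))) => D l) i₂
      (by simp) le_rfl) h₂
  · exact (le_iSup₂_of_le (f := fun l (_ : l ∈ ({i₀, i₁, i₂, i₃} : Finset (Fin t))) => D l) i₃
      (by simp) le_rfl) h₃

/-- four pairwise isometric orthogonal blocks and `a² + b² = -1` -/
theorem good_quad (hD : IsOrthogonalMDecomposition (⇑Q) k D) {i₀ i₁ i₂ i₃ : Fin t} (h01 : i₀ ≠ i₁)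
    (h02 : i₀ ≠ i₂) (h03 : i₀ ≠ i₃) (h12 : i₁ ≠ i₂) (h13 : i₁ ≠ i₃) (h23 : i₂ ≠ i₃) (a b : F)
    (hab : a * a + b * b = -1) : Good (k := k) Q D {i₀, i₁, i₂, i₃} := by
  obtain ⟨e₁, he₁⟩ := hD.isometric i₀ i₁
  obtain ⟨e₂, he₂⟩ := hD.isometric i₀ i₂
  obtain ⟨e₃, he₃⟩ := hD.isometric i₀ i₃
  have orth : ∀ {i j : Fin t}, i ≠ j → ∀ {u v : Fin n → F}, u ∈ D i → v ∈ D j → PB Q u v = 0 :=
    fun hij u v hu hv => by rw [PB_apply]; exact hD.decomp.orthogonal _ _ hij _ hu _ hv
  set ψ : (↥(D i₀) × ↥(D i₀)) →ₗ[F] (Fin n → F) :=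
    (D i₀).subtype ∘ₗ LinearMap.fst F _ _ +
    (D i₁).subtype ∘ₗ (e₁ : ↥(D i₀) →ₗ[F] ↥(D i₁)) ∘ₗ LinearMap.snd F _ _ +
    (D i₂).subtype ∘ₗ (e₂ : ↥(D i₀) →ₗ[F] ↥(D i₂)) ∘ₗ (a • LinearMap.fst F _ _ + b • LinearMap.snd F _ _) +
    (D i₃).subtype ∘ₗ (e₃ : ↥(D i₀) →ₗ[F] ↥(D i₃)) ∘ₗ (b • LinearMap.fst F _ _ - a • LinearMap.snd F _ _)
    with hψ
  have hψa : ∀ p : ↥(D i₀) × ↥(D i₀), ψ p = (p.1 : Fin n → F) + ((e₁ p.2 : ↥(D i₁)) : Fin n → F) +
      ((e₂ (a • p.1 + b • p.2) : ↥(D i₂)) : Fin n → F) +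
      ((e₃ (b • p.1 - a • p.2) : ↥(D i₃)) : Fin n → F) := fun p => rfl
  have hinj : Function.Injective ψ := by
    rw [← LinearMap.ker_eq_bot, LinearMap.ker_eq_bot']
    rintro ⟨x, y⟩ hp
    rw [hψa] at hp
    simp only at hp
    have hx : (x : Fin n → F) = 0 := by
      apply eq_zero_of_mem_of_mem_iSup_ne hD.decomp.decomp x.2
      have : (x : Fin n → F) = -(((e₁ y : ↥(D i₁)) : Fin n → F) +
          ((e₂ (a • x + b • y) : ↥(D i₂)) : Fin n → F) +
          ((e₃ (b • x - a • y) : ↥(D i₃)) : Fin n → F)) := by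
        rw [eq_neg_iff_add_eq_zero, ← hp]; abel
      rw [this]
      exact Submodule.neg_mem _ (Submodule.add_mem _ (Submodule.add_mem _
        (mem_iSup_ne D (Ne.symm h01) (e₁ y).2) (mem_iSup_ne D (Ne.symm h02) (e₂ _).2))
        (mem_iSup_ne D (Ne.symm h03) (e₃ _).2))
    have hx' : x = 0 := Subtype.ext hx
    subst hx'
    have hy : ((e₁ y : ↥(D i₁)) : Fin n → F) = 0 := by
      apply eq_zero_of_mem_of_mem_iSup_ne hD.decomp.decomp (e₁ y).2
      have : ((e₁ y : ↥(D i₁)) : Fin n → F) = -(((e₂ (a • (0 : ↥(D i₀)) + b • y) : ↥(D i₂)) : Fin n → F) +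
          ((e₃ (b • (0 : ↥(D i₀)) - a • y) : ↥(D i₃)) : Fin n → F)) := by
        rw [eq_neg_iff_add_eq_zero, ← hp]
        simp only [Submodule.coe_zero]
        abel
      rw [this]
      exact Submodule.neg_mem _ (Submodule.add_mem _ (mem_iSup_ne D (Ne.symm h12) (e₂ _).2)
        (mem_iSup_ne D (Ne.symm h13) (e₃ _).2))
    have hy' : e₁ y = 0 := Subtype.ext hy
    have hy'' : y = 0 := by
      have := congrArg e₁.symm hy'
      simpa using this
    rw [hy'']
    rfl
  refine ⟨LinearMap.range ψ, ?_, ?_, ?_⟩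
  · rintro _ ⟨p, rfl⟩
    rw [hψa]
    exact quad_le i₀ i₁ i₂ i₃ p.1.2 (e₁ _).2 (e₂ _).2 (e₃ _).2
  · rintro _ ⟨⟨x, y⟩, rfl⟩
    rw [hψa]
    dsimp only
    have hQ2 : Q ((e₂ (a • x + b • y) : ↥(D i₂)) : Fin n → F) =
        a * a * Q (x : Fin n → F) + b * b * Q (y : Fin n → F) + a * b * PB Q (x : Fin n → F) y := by
      rw [he₂]
      simp only [Submodule.coe_add, Submodule.coe_smul, Cfsg.Agent.Lib.H13.OES.Q_add,
        QuadraticMap.map_smul, map_smul, LinearMap.smul_apply, smul_eq_mul]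
      ring
    have hQ3 : Q ((e₃ (b • x - a • y) : ↥(D i₃)) : Fin n → F) =
        b * b * Q (x : Fin n → F) + a * a * Q (y : Fin n → F) - a * b * PB Q (x : Fin n → F) y := by
      have h3 : ((b • x - a • y : ↥(D i₀)) : Fin n → F) =
          b • (x : Fin n → F) + (-a) • (y : Fin n → F) := by
        rw [Submodule.coe_sub, Submodule.coe_smul, Submodule.coe_smul, neg_smul, sub_eq_add_neg]
      rw [he₃, h3]
      simp only [Cfsg.Agent.Lib.H13.OES.Q_add, QuadraticMap.map_smul, map_smul, LinearMap.smul_apply,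
        smul_eq_mul]
      ring
    have hQ1 := he₁ y
    have m1 := (e₁ y).2
    have m2 := (e₂ (a • x + b • y)).2
    have m3 := (e₃ (b • x - a • y)).2
    generalize ((e₁ y : ↥(D i₁)) : Fin n → F) = v₁ at m1 hQ1 ⊢
    generalize ((e₂ (a • x + b • y) : ↥(D i₂)) : Fin n → F) = v₂ at m2 hQ2 ⊢
    generalize ((e₃ (b • x - a • y) : ↥(D i₃)) : Fin n → F) = v₃ at m3 hQ3 ⊢
    have c01 := orth h01 x.2 m1
    have c02 := orth h02 x.2 m2
    have c03 := orth h03 x.2 m3
    have c12 := orth h12 m1 m2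
    have c13 := orth h13 m1 m3
    have c23 := orth h23 m2 m3
    have e1 : PB Q ((x : Fin n → F) + v₁) v₂ = 0 := by
      rw [map_add, LinearMap.add_apply, c02, c12, add_zero]
    have e2 : PB Q ((x : Fin n → F) + v₁ + v₂) v₃ = 0 := by
      rw [map_add, map_add, LinearMap.add_apply, LinearMap.add_apply, c03, c13, c23, add_zero, add_zero]
    rw [Cfsg.Agent.Lib.H13.OES.Q_add, Cfsg.Agent.Lib.H13.OES.Q_add, Cfsg.Agent.Lib.H13.OES.Q_add, hQ1, hQ2,
      hQ3, c01, e1, e2]
    linear_combination (Q (x : Fin n → F) + Q (y : Fin n → F)) * hab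
  · rw [LinearMap.finrank_range_of_inj hinj, Module.finrank_prod, hD.decomp.decomp.finrank_eq i₀]
    have hc : ({i₀, i₁, i₂, i₃} : Finset (Fin t)).card = 4 := by
      rw [Finset.card_insert_of_notMem (by simp [h01, h02, h03]),
        Finset.card_insert_of_notMem (by simp [h12, h13]), Finset.card_pair h23]
    rw [hc]
    ring

/-! ### the inductions -/

theorem good_all_of_plus (hD : IsOrthogonalMDecomposition (⇑Q) k D) (h : ∀ i, PlusOn Q (D i))
    (s : Finset (Fin t)) : Good (k := k) Q D s := by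
  induction s using Finset.induction_on with
  | empty => exact good_empty
  | insert a s ha ih =>
    rw [Finset.insert_eq]
    exact good_union hD (good_singleton_of_plus hD a (h a)) ih (Finset.disjoint_singleton_left.2 ha)

theorem good_of_pairs (hD : IsOrthogonalMDecomposition (⇑Q) k D)
    (hpair : ∀ i j : Fin t, i ≠ j → Good (k := k) Q D {i, j}) :
    ∀ (m : ℕ) (s : Finset (Fin t)), s.card = 2 * m → Good (k := k) Q D s := by
  intro m
  induction m with
  | zero =>
    intro s hs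
    have : s = ∅ := Finset.card_eq_zero.1 (by omega)
    rw [this]
    exact good_empty
  | succ m ih =>
    intro s hs
    obtain ⟨a, ha⟩ : s.Nonempty := Finset.card_pos.1 (by omega)
    obtain ⟨b, hb⟩ : (s.erase a).Nonempty :=
      Finset.card_pos.1 (by rw [Finset.card_erase_of_mem ha]; omega)
    have hba : b ≠ a := Finset.ne_of_mem_erase hb
    have hbs : b ∈ s := Finset.mem_of_mem_erase hb
    have hs' : ((s.erase a).erase b).card = 2 * m := by
      rw [Finset.card_erase_of_mem hb, Finset.card_erase_of_mem ha]; omega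
    have hs_eq : s = {a, b} ∪ (s.erase a).erase b := by
      ext x
      simp only [Finset.mem_union, Finset.mem_insert, Finset.mem_singleton, Finset.mem_erase]
      constructor
      · intro hx
        by_cases hxa : x = a
        · exact Or.inl (Or.inl hxa)
        · by_cases hxb : x = b
          · exact Or.inl (Or.inr hxb)
          · exact Or.inr ⟨hxb, hxa, hx⟩
      · rintro ((rfl | rfl) | ⟨-, -, hx⟩)
        · exact ha
        · exact hbs
        · exact hx
    have hdisj : Disjoint ({a, b} : Finset (Fin t)) ((s.erase a).erase b) := by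
      rw [Finset.disjoint_left]
      intro x hx hx'
      simp only [Finset.mem_insert, Finset.mem_singleton] at hx
      simp only [Finset.mem_erase] at hx'
      rcases hx with rfl | rfl
      · exact hx'.2.1 rfl
      · exact hx'.1 rfl
    rw [hs_eq]
    exact good_union hD (hpair a b hba.symm) (ih _ hs') hdisj

theorem good_of_quads (hD : IsOrthogonalMDecomposition (⇑Q) k D)
    (hquad : ∀ i₀ i₁ i₂ i₃ : Fin t, i₀ ≠ i₁ → i₀ ≠ i₂ → i₀ ≠ i₃ → i₁ ≠ i₂ → i₁ ≠ i₃ → i₂ ≠ i₃ →
      Good (k := k) Q D {i₀, i₁, i₂, i₃}) :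
    ∀ (m : ℕ) (s : Finset (Fin t)), s.card = 4 * m → Good (k := k) Q D s := by
  intro m
  induction m with
  | zero =>
    intro s hs
    have : s = ∅ := Finset.card_eq_zero.1 (by omega)
    rw [this]
    exact good_empty
  | succ m ih =>
    intro s hs
    obtain ⟨a, ha⟩ : s.Nonempty := Finset.card_pos.1 (by omega)
    obtain ⟨b, hb⟩ : (s.erase a).Nonempty :=
      Finset.card_pos.1 (by rw [Finset.card_erase_of_mem ha]; omega)
    obtain ⟨c, hc⟩ : ((s.erase a).erase b).Nonempty :=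
      Finset.card_pos.1 (by rw [Finset.card_erase_of_mem hb, Finset.card_erase_of_mem ha]; omega)
    obtain ⟨d, hd⟩ : (((s.erase a).erase b).erase c).Nonempty :=
      Finset.card_pos.1 (by
        rw [Finset.card_erase_of_mem hc, Finset.card_erase_of_mem hb, Finset.card_erase_of_mem ha]; omega)
    simp only [Finset.mem_erase] at hb hc hd
    have hs' : ((((s.erase a).erase b).erase c).erase d).card = 4 * m := by
      rw [Finset.card_erase_of_mem (by simp only [Finset.mem_erase]; exact hd),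
        Finset.card_erase_of_mem (by simp only [Finset.mem_erase]; exact hc),
        Finset.card_erase_of_mem (by simp only [Finset.mem_erase]; exact hb),
        Finset.card_erase_of_mem ha]
      omega
    have hs_eq : s = {a, b, c, d} ∪ (((s.erase a).erase b).erase c).erase d := by
      ext x
      simp only [Finset.mem_union, Finset.mem_insert, Finset.mem_singleton, Finset.mem_erase]
      constructor
      · intro hx
        by_cases hxa : x = a
        · exact Or.inl (Or.inl hxa)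
        by_cases hxb : x = b
        · exact Or.inl (Or.inr (Or.inl hxb))
        by_cases hxc : x = c
        · exact Or.inl (Or.inr (Or.inr (Or.inl hxc)))
        by_cases hxd : x = d
        · exact Or.inl (Or.inr (Or.inr (Or.inr hxd)))
        exact Or.inr ⟨hxd, hxc, hxb, hxa, hx⟩
      · rintro ((rfl | rfl | rfl | rfl) | ⟨-, -, -, -, hx⟩)
        · exact ha
        · exact hb.2
        · exact hc.2.2
        · exact hd.2.2.2
        · exact hx
    have hdisj : Disjoint ({a, b, c, d} : Finset (Fin t)) ((((s.erase a).erase b).erase c).erase d) := by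
      rw [Finset.disjoint_left]
      intro x hx hx'
      simp only [Finset.mem_insert, Finset.mem_singleton] at hx
      simp only [Finset.mem_erase] at hx'
      rcases hx with rfl | rfl | rfl | rfl
      · exact hx'.2.2.2.1 rfl
      · exact hx'.2.2.1 rfl
      · exact hx'.2.1 rfl
      · exact hx'.1 rfl
    rw [hs_eq]
    exact good_union hD (hquad a b c d (Ne.symm hb.1) (Ne.symm hc.2.1) (Ne.symm hd.2.2.1)
      (Ne.symm hc.1) (Ne.symm hd.2.1) (Ne.symm hd.1)) (ih _ hs') hdisj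

end core

section final

variable {F : Type*} [Field F] [Fintype F] {n : ℕ}

theorem exists_sq_add_sq_eq_neg_one : ∃ a b : F, a * a + b * b = -1 := by
  have : Fact (ringChar F).Prime := ⟨CharP.char_is_prime F (ringChar F)⟩
  have : NeZero (ringChar F) := ⟨(Fact.out : (ringChar F).Prime).ne_zero⟩
  obtain ⟨a, b, hab⟩ := CharP.sq_add_sq F (ringChar F) (-1)
  refine ⟨(a : F), (b : F), ?_⟩
  rw [← pow_two, ← pow_two, hab]
  simp

open Cfsg.Agent.Lib.H29.Orth in
/-- **EO2-T**. -/
theorem plus_of_isometric_decomposition (Q : (Fin n → F) → F) (hQ : IsNondegenerateQuadraticForm Q) {t : ℕ} (k : ℕ)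
    (D : Fin t → Submodule F (Fin n → F)) (hD : IsOrthogonalMDecomposition Q k D)
    (h : 4 ∣ t ∨ (Even t ∧ Even k) ∨ (Even t ∧ ∃ c : F, c * c = -1) ∨ (∀ i, IsPlusTypeOn Q (D i))) :
    IsPlusTypeOn Q ⊤ := by
  have hD' : IsOrthogonalMDecomposition (⇑(toQF Q hQ)) k D := hD
  have key : Good (k := k) (toQF Q hQ) D Finset.univ := by
    rcases h with h | ⟨ht, hk⟩ | ⟨ht, c, hc⟩ | h
    · obtain ⟨m, hm⟩ := h
      obtain ⟨a, b, hab⟩ := exists_sq_add_sq_eq_neg_one (F := F)
      exact good_of_quads hD' (fun i₀ i₁ i₂ i₃ h01 h02 h03 h12 h13 h23 =>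
        good_quad hD' h01 h02 h03 h12 h13 h23 a b hab) m _
        (by rw [Finset.card_univ, Fintype.card_fin, hm])
    · obtain ⟨m, hm⟩ := ht
      exact good_of_pairs hD' (fun i j hij => good_pair_of_even hD' hij hk) m _
        (by rw [Finset.card_univ, Fintype.card_fin, hm]; ring)
    · obtain ⟨m, hm⟩ := ht
      exact good_of_pairs hD' (fun i j hij => good_pair_of_sq hD' hij c hc) m _
        (by rw [Finset.card_univ, Fintype.card_fin, hm]; ring)
    · exact good_all_of_plus hD' h _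
  obtain ⟨U, -, hUts, hUd⟩ := key
  refine ⟨U, le_top, hUts, ?_⟩
  have h1 := Cfsg.Agent.Lib.H17.AschSP2.mul_eq_of_isMDecomposition D hD.decomp.decomp
  rw [Fintype.card_fin] at h1
  rw [hUd, Finset.card_univ, Fintype.card_fin, finrank_top, Module.finrank_fintype_fun_eq_card, Fintype.card_fin,
    ← h1]
  ring

end final

end Cfsg.Agent.Lib.H13.EOP2
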