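/-
EO phase 2: the row S5874 (maximal subgroups of Ω₁₂⁻(q)), assembled by helper13 from helper26's EO-main and the
EO2 pieces.  `X3Stmt` (= the statement of EO2-X3, helper22) is taken as a hypothesis.
-/
import Cfsg.Agent.Lib.H13.AschEO2Gen13
import Cfsg.Agent.Lib.H13.AschEO2T
import Cfsg.Agent.Lib.H22.AschEO2T4
import Cfsg.Agent.Lib.H8.AschEO2X2
import Cfsg.Agent.Lib.H23.AschEO2E1
import Cfsg.Agent.Lib.H23.AschEO2E2
import Cfsg.Agent.Lib.H11.AschEO2E5
import Cfsg.Agent.Lib.H2.AschEO2B6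
import Cfsg.Agent.Lib.H17.AschO2E1
import Cfsg.Agent.Lib.H17.AschSP2F0
import Cfsg.Agent.Lib.H17.AschSP2F1
import Cfsg.Agent.Lib.H21.AschO2F2
import Cfsg.Agent.Lib.H24.DnA

set_option autoImplicit false
set_option maxHeartbeats 800000

namespace Cfsg.Agent.Lib.H13.EOP2

open Cfsg Cfsg.Geo Cfsg.Agent.Lib.H26.AschE
open scoped MatrixGroups Matrix Kronecker

variable {F : Type*} [Field F] [Fintype F]

/-- the statement of EO2-X3 in dimension `n` -/
def X3Stmt (F : Type*) [Field F] [Fintype F] (n : ℕ) : Prop :=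
  ∀ (Q : (Fin n → F) → F), IsNondegenerateQuadraticForm Q → Even n → ∀ (F₀ : Subfield F),
    Fintype.card F = Nat.card F₀ ^ 2 → ∀ (P : GL (Fin n) F) (ζ : F), ζ ≠ 0 →
      IsQuadFormRationalStructure (fun v : Fin n → F => ζ * Q v) F₀ P → IsPlusTypeOn Q ⊤

/-- the conclusion of the row S5874 -/
def Row12m (Q : (Fin 12 → F) → F) (H : Subgroup (Matrix.GeneralLinearGroup (Fin 12) F)) : Prop :=
    (∃ W : Submodule F (Fin 12 → F), W ≠ ⊥ ∧ Cfsg.Geo.IsTotallySingularQuad Q W ∧ H = Cfsg.Geo.subspaceStabilizer W ⊓ Cfsg.Geo.omegaGL Q) ∨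
    (Odd (Fintype.card F) ∧ ∃ W : Submodule F (Fin 12 → F), W ≠ ⊥ ∧ W ≠ ⊤ ∧ Odd (Module.finrank F W) ∧ 2 * Module.finrank F W ≠ 12 ∧ Cfsg.Geo.IsNondegenerateOn (QuadraticMap.polar Q) W ∧ H = Cfsg.Geo.subspaceStabilizer W ⊓ Cfsg.Geo.omegaGL Q) ∨
    (∃ W : Submodule F (Fin 12 → F), Module.finrank F W = 2 ∧ Cfsg.Geo.IsNondegenerateOn (QuadraticMap.polar Q) W ∧ ¬ Cfsg.Geo.IsPlusTypeOn Q W ∧ H = Cfsg.Geo.subspaceStabilizer W ⊓ Cfsg.Geo.omegaGL Q) ∨
    (4 ≤ Fintype.card F ∧ ∃ W : Submodule F (Fin 12 → F), Module.finrank F W = 2 ∧ Cfsg.Geo.IsNondegenerateOn (QuadraticMap.polar Q) W ∧ Cfsg.Geo.IsPlusTypeOn Q W ∧ H = Cfsg.Geo.subspaceStabilizer W ⊓ Cfsg.Geo.omegaGL Q) ∨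
    (∃ W : Submodule F (Fin 12 → F), Module.finrank F W = 4 ∧ Cfsg.Geo.IsNondegenerateOn (QuadraticMap.polar Q) W ∧ H = Cfsg.Geo.subspaceStabilizer W ⊓ Cfsg.Geo.omegaGL Q) ∨
    (∃ W : Submodule F (Fin 12 → F), Module.finrank F W = 6 ∧ Cfsg.Geo.IsNondegenerateOn (QuadraticMap.polar Q) W ∧ H = Cfsg.Geo.subspaceStabilizer W ⊓ Cfsg.Geo.omegaGL Q) ∨
    (¬ Odd (Fintype.card F) ∧ ∃ v : (Fin 12 → F), Q v ≠ 0 ∧ H = Cfsg.Geo.subspaceStabilizer (Submodule.span F {v}) ⊓ Cfsg.Geo.omegaGL Q) ∨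
    (∃ D : Fin 3 → Submodule F (Fin 12 → F), Cfsg.Geo.IsOrthogonalMDecomposition Q 4 D ∧ (∀ i, ¬ Cfsg.Geo.IsPlusTypeOn Q (D i)) ∧ H = Cfsg.Geo.decompositionStabilizer D ⊓ Cfsg.Geo.omegaGL Q) ∨
    (∃ K : Subalgebra F (Matrix (Fin 12) (Fin 12) F), Cfsg.Geo.IsFieldSubalgebra 2 K ∧ H = Cfsg.Geo.subalgebraNormalizer K ⊓ Cfsg.Geo.omegaGL Q) ∨
    (∃ K : Subalgebra F (Matrix (Fin 12) (Fin 12) F), Cfsg.Geo.IsFieldSubalgebra 3 K ∧ H = Cfsg.Geo.subalgebraNormalizer K ⊓ Cfsg.Geo.omegaGL Q) ∨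
    (Odd (Fintype.card F) ∧ 5 ≤ Fintype.card F ∧ ∃ (e : Fin 12 ≃ Fin 3 × Fin 4) (P : Matrix.GeneralLinearGroup (Fin 12) F) (f₁ : (Fin 3 → F) → (Fin 3 → F) → F) (f₂ : (Fin 4 → F) → (Fin 4 → F) → F), Cfsg.Geo.IsSymmetricForm f₁ ∧ Cfsg.Geo.IsSymmetricForm f₂ ∧ ¬ Cfsg.Geo.IsPlusTypeOn (fun v : Fin 4 → F => f₂ v v) ⊤ ∧ Cfsg.Geo.IsTensorFormStructure id (QuadraticMap.polar Q) f₁ f₂ e P ∧ H = Cfsg.Geo.tensorProductSubgroup 3 4 e P ⊓ Cfsg.Geo.omegaGL Q) ∨
    (∃ (F₀ : Subfield F) (r : ℕ) (P : Matrix.GeneralLinearGroup (Fin 12) F) (ζ : F), r.Prime ∧ Odd r ∧ Fintype.card F = Nat.card F₀ ^ r ∧ ζ ≠ 0 ∧ Cfsg.Geo.IsQuadFormRationalStructure (fun v : Fin 12 → F => ζ * Q v) F₀ P ∧ H = Cfsg.Geo.subfieldSubgroup F₀ P ⊓ Cfsg.Geo.omegaGL Q) ∨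
    Cfsg.Geo.InOrthogonalResidualClass H

section

variable {Q : (Fin 12 → F) → F} {H : Subgroup (Matrix.GeneralLinearGroup (Fin 12) F)}

theorem Row12m.of1 (h : ∃ W : Submodule F (Fin 12 → F), W ≠ ⊥ ∧ IsTotallySingularQuad Q W ∧
    H = subspaceStabilizer W ⊓ omegaGL Q) : Row12m Q H := Or.inl h

theorem Row12m.of2 (h : Odd (Fintype.card F) ∧ ∃ W : Submodule F (Fin 12 → F), W ≠ ⊥ ∧ W ≠ ⊤ ∧
    Odd (Module.finrank F W) ∧ 2 * Module.finrank F W ≠ 12 ∧ IsNondegenerateOn (QuadraticMap.polar Q) W ∧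
    H = subspaceStabilizer W ⊓ omegaGL Q) : Row12m Q H := Or.inr (Or.inl h)

theorem Row12m.of3 (h : ∃ W : Submodule F (Fin 12 → F), Module.finrank F W = 2 ∧
    IsNondegenerateOn (QuadraticMap.polar Q) W ∧ ¬ IsPlusTypeOn Q W ∧ H = subspaceStabilizer W ⊓ omegaGL Q) :
    Row12m Q H := Or.inr (Or.inr (Or.inl h))

theorem Row12m.of4 (h : 4 ≤ Fintype.card F ∧ ∃ W : Submodule F (Fin 12 → F), Module.finrank F W = 2 ∧
    IsNondegenerateOn (QuadraticMap.polar Q) W ∧ IsPlusTypeOn Q W ∧ H = subspaceStabilizer W ⊓ omegaGL Q) :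
    Row12m Q H := Or.inr (Or.inr (Or.inr (Or.inl h)))

theorem Row12m.of5 (h : ∃ W : Submodule F (Fin 12 → F), Module.finrank F W = 4 ∧
    IsNondegenerateOn (QuadraticMap.polar Q) W ∧ H = subspaceStabilizer W ⊓ omegaGL Q) :
    Row12m Q H := Or.inr (Or.inr (Or.inr (Or.inr (Or.inl h))))

theorem Row12m.of6 (h : ∃ W : Submodule F (Fin 12 → F), Module.finrank F W = 6 ∧
    IsNondegenerateOn (QuadraticMap.polar Q) W ∧ H = subspaceStabilizer W ⊓ omegaGL Q) :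
    Row12m Q H := Or.inr (Or.inr (Or.inr (Or.inr (Or.inr (Or.inl h)))))

theorem Row12m.of7 (h : ¬ Odd (Fintype.card F) ∧ ∃ v : (Fin 12 → F), Q v ≠ 0 ∧
    H = subspaceStabilizer (Submodule.span F {v}) ⊓ omegaGL Q) :
    Row12m Q H := Or.inr (Or.inr (Or.inr (Or.inr (Or.inr (Or.inr (Or.inl h))))))

theorem Row12m.of8 (h : ∃ D : Fin 3 → Submodule F (Fin 12 → F), IsOrthogonalMDecomposition Q 4 D ∧
    (∀ i, ¬ IsPlusTypeOn Q (D i)) ∧ H = decompositionStabilizer D ⊓ omegaGL Q) :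
    Row12m Q H := Or.inr (Or.inr (Or.inr (Or.inr (Or.inr (Or.inr (Or.inr (Or.inl h)))))))

theorem Row12m.of9 (h : ∃ K : Subalgebra F (Matrix (Fin 12) (Fin 12) F), IsFieldSubalgebra 2 K ∧
    H = subalgebraNormalizer K ⊓ omegaGL Q) :
    Row12m Q H := Or.inr (Or.inr (Or.inr (Or.inr (Or.inr (Or.inr (Or.inr (Or.inr (Or.inl h))))))))

theorem Row12m.of10 (h : ∃ K : Subalgebra F (Matrix (Fin 12) (Fin 12) F), IsFieldSubalgebra 3 K ∧
    H = subalgebraNormalizer K ⊓ omegaGL Q) :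
    Row12m Q H := Or.inr (Or.inr (Or.inr (Or.inr (Or.inr (Or.inr (Or.inr (Or.inr (Or.inr (Or.inl h)))))))))

theorem Row12m.of11 (h : Odd (Fintype.card F) ∧ 5 ≤ Fintype.card F ∧ ∃ (e : Fin 12 ≃ Fin 3 × Fin 4)
    (P : Matrix.GeneralLinearGroup (Fin 12) F) (f₁ : (Fin 3 → F) → (Fin 3 → F) → F)
    (f₂ : (Fin 4 → F) → (Fin 4 → F) → F), IsSymmetricForm f₁ ∧ IsSymmetricForm f₂ ∧
    ¬ IsPlusTypeOn (fun v : Fin 4 → F => f₂ v v) ⊤ ∧
    IsTensorFormStructure id (QuadraticMap.polar Q) f₁ f₂ e P ∧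
    H = tensorProductSubgroup 3 4 e P ⊓ omegaGL Q) :
    Row12m Q H :=
  Or.inr (Or.inr (Or.inr (Or.inr (Or.inr (Or.inr (Or.inr (Or.inr (Or.inr (Or.inr (Or.inl h))))))))))

theorem Row12m.of12 (h : ∃ (F₀ : Subfield F) (r : ℕ) (P : Matrix.GeneralLinearGroup (Fin 12) F) (ζ : F),
    r.Prime ∧ Odd r ∧ Fintype.card F = Nat.card F₀ ^ r ∧ ζ ≠ 0 ∧
    IsQuadFormRationalStructure (fun v : Fin 12 → F => ζ * Q v) F₀ P ∧
    H = subfieldSubgroup F₀ P ⊓ omegaGL Q) :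
    Row12m Q H :=
  Or.inr (Or.inr (Or.inr (Or.inr (Or.inr (Or.inr (Or.inr (Or.inr (Or.inr (Or.inr (Or.inr (Or.inl h)))))))))))

theorem Row12m.of13 (h : InOrthogonalResidualClass H) : Row12m Q H :=
  Or.inr (Or.inr (Or.inr (Or.inr (Or.inr (Or.inr (Or.inr (Or.inr (Or.inr (Or.inr (Or.inr (Or.inr h)))))))))))

end

variable (Q : (Fin 12 → F) → F) (hQ : IsNondegenerateQuadraticForm Q)
  (H : Subgroup (Matrix.GeneralLinearGroup (Fin 12) F)) (hH : IsMaximalIn (omegaGL Q) H)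

include hQ hH

/-- a non-singular point -/
theorem row12m_vec (v : Fin 12 → F) (hv : Q v ≠ 0) (hHv : H ≤ subspaceStabilizer (Submodule.span F {v})) :
    Row12m Q H := by
  have h0 := span_ne_bot_of_quad_ne_zero Q hQ v hv
  have h1 := span_ne_top (F := F) (n := 12) (by norm_num) v
  have heq := eq_stab_inf Q hQ (by norm_num) hH _ h0 h1 hHv
  by_cases hodd : Odd (Fintype.card F)
  · obtain ⟨-, -, hfr, hnd⟩ :=
      Cfsg.Agent.Lib.H23.EOP2.nondegenerateOn_span_of_odd hodd Q hQ (by norm_num) v hv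
    exact Row12m.of2 ⟨hodd, _, h0, h1, by rw [hfr]; exact odd_one, by rw [hfr]; norm_num, hnd, heq⟩
  · exact Row12m.of7 ⟨hodd, v, hv, heq⟩

/-- a non-degenerate subspace of even dimension at most 6 -/
theorem row12m_nd_small (V : Submodule F (Fin 12 → F)) (hV0 : V ≠ ⊥) (hV1 : V ≠ ⊤)
    (hV : IsNondegenerateOn (QuadraticMap.polar Q) V) (hHV : H ≤ subspaceStabilizer V)
    (hev : Even (Module.finrank F V)) (h6 : Module.finrank F V ≤ 6) : Row12m Q H := by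
  have hHI : H ≤ isometryGroup F Q := hH.1.le.trans (omegaGL_le_isometryGroup Q)
  have heq := eq_stab_inf Q hQ (by norm_num) hH V hV0 hV1 hHV
  have hpos := finrank_pos_of_ne_bot V hV0
  obtain ⟨a, ha⟩ := hev
  have hcases : Module.finrank F V = 2 ∨ Module.finrank F V = 4 ∨ Module.finrank F V = 6 := by omega
  rcases hcases with h2 | h4 | h6'
  · by_cases hp : IsPlusTypeOn Q V
    · by_cases hq4 : 4 ≤ Fintype.card F
      · exact Row12m.of4 ⟨hq4, V, h2, hV, hp, heq⟩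
      · obtain ⟨v, hv, hle⟩ :=
          Cfsg.Agent.Lib.H23.EOP2.exists_vec_of_plus_plane Q hQ (by omega) V h2 hV hp
        exact row12m_vec Q hQ H hH v hv ((le_inf hHV hHI).trans hle)
    · exact Row12m.of3 ⟨V, h2, hV, hp, heq⟩
  · exact Row12m.of5 ⟨V, h4, hV, heq⟩
  · exact Row12m.of6 ⟨V, h6', hV, heq⟩

/-- a non-degenerate proper subspace -/
theorem row12m_nd (W : Submodule F (Fin 12 → F)) (hW0 : W ≠ ⊥) (hW1 : W ≠ ⊤)
    (hW : IsNondegenerateOn (QuadraticMap.polar Q) W) (hHW : H ≤ subspaceStabilizer W) : Row12m Q H := by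
  have hHI : H ≤ isometryGroup F Q := hH.1.le.trans (omegaGL_le_isometryGroup Q)
  have heq := eq_stab_inf Q hQ (by norm_num) hH W hW0 hW1 hHW
  have hpos := finrank_pos_of_ne_bot W hW0
  have hlt := finrank_lt_of_ne_top W hW1
  by_cases hdo : Odd (Module.finrank F W)
  · have hodd : Odd (Fintype.card F) := by
      by_contra hne
      have h2 := two_eq_zero_of_not_odd hne
      have hev := Cfsg.Agent.Lib.H17.AschSP2.even_finrank_of_nondegenerateOn (QuadraticMap.polar Q)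
        hQ.polar_bilinear (fun v => by rw [polar_self Q hQ, h2, zero_mul]) W hW
      exact (Nat.not_odd_iff_even.2 hev) hdo
    refine Row12m.of2 ⟨hodd, W, hW0, hW1, hdo, ?_, hW, heq⟩
    obtain ⟨a, ha⟩ := hdo
    omega
  · have hev : Even (Module.finrank F W) := Nat.not_odd_iff_even.1 hdo
    by_cases h6 : Module.finrank F W ≤ 6
    · exact row12m_nd_small Q hQ H hH W hW0 hW1 hW hHW hev h6
    · obtain ⟨W', h0', h1', hnd', hdim', hle'⟩ := Cfsg.Agent.Lib.H17.OP2.exists_perp_gen hQ W hW0 hW1 hW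
      rw [Fintype.card_fin] at hdim'
      have hev' : Even (Module.finrank F W') := by
        obtain ⟨a, ha⟩ := hev
        exact ⟨6 - a, by omega⟩
      exact row12m_nd_small Q hQ H hH W' h0' h1' hnd' ((le_inf hHW hHI).trans hle') hev' (by omega)

/-- an orthogonal decomposition into isometric blocks -/
theorem row12m_decomp (hminus : ¬ IsPlusTypeOn Q ⊤) {t : ℕ} (k : ℕ) (D : Fin t → Submodule F (Fin 12 → F))
    (hD : IsOrthogonalMDecomposition Q k D) (hHD : H ≤ decompositionStabilizer D) : Row12m Q H := by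
  have htk := Cfsg.Agent.Lib.H17.AschSP2.mul_eq_of_isMDecomposition D hD.decomp.decomp
  rw [Fintype.card_fin] at htk
  have ht2 := hD.decomp.decomp.two_le
  have hk0 := hD.decomp.decomp.pos
  have heq := eq_inf_of_isMaximalIn hH hHD
    (not_omegaGL_le_decompositionStabilizer Q hQ (by norm_num) D hD.decomp.decomp)
  have hT := fun h => hminus (plus_of_isometric_decomposition Q hQ k D hD h)
  have ht12 : t ≤ 12 := by nlinarith
  have hk12 : k ≤ 12 := by nlinarith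
  have h43 : t = 3 ∧ k = 4 := by
    by_contra hne
    have h4 : ¬ 4 ∣ t := fun h => hT (Or.inl h)
    have h2 : ¬ (Even t ∧ Even k) := fun h => hT (Or.inr (Or.inl h))
    interval_cases t <;> interval_cases k <;> simp_all (config := {decide := true})
  obtain ⟨rfl, rfl⟩ := h43
  refine Row12m.of8 ⟨D, hD, fun i hi => ?_, heq⟩
  exact hT (Or.inr (Or.inr (Or.inr (fun j =>
    Cfsg.Agent.Lib.H24.Dn.plus_of_isometric Q _ _ (hD.isometric i j) hi))))

/-- a field subalgebra of prime degree -/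
theorem row12m_field (r : ℕ) (hr : r.Prime) (K : Subalgebra F (Matrix (Fin 12) (Fin 12) F))
    (hK : IsFieldSubalgebra r K) (hHK : H ≤ subalgebraNormalizer K) : Row12m Q H := by
  have hdvd : r ∣ 12 := by
    have := Cfsg.Agent.Lib.H21.OP2.dvd_card_of_isFieldSubalgebra r K hK
    rwa [Fintype.card_fin] at this
  have heq := eq_inf_of_isMaximalIn hH hHK
    (not_omegaGL_le_subalgebraNormalizer Q hQ (by rw [Fintype.card_fin]; norm_num) r hr.two_le K hK)
  have hr23 : r = 2 ∨ r = 3 := by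
    have hle : r ≤ 12 := Nat.le_of_dvd (by norm_num) hdvd
    interval_cases r <;> simp_all (config := {decide := true})
  rcases hr23 with rfl | rfl
  · exact Row12m.of9 ⟨K, hK, heq⟩
  · exact Row12m.of10 ⟨K, hK, heq⟩

omit hQ hH in
theorem no_pow_eq_twelve (k t : ℕ) (hk : 2 ≤ k) (ht : 2 ≤ t) (h : k ^ t = 12) : False := by
  have h1 : k ^ 2 ≤ k ^ t := Nat.pow_le_pow_right (by omega) ht
  have hk3 : k ≤ 3 := by nlinarith
  have h2 : 2 ^ t ≤ k ^ t := Nat.pow_le_pow_left hk t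
  have ht3 : t ≤ 3 := by
    by_contra hlt
    have : 2 ^ 4 ≤ 2 ^ t := Nat.pow_le_pow_right (by norm_num) (by omega)
    omega
  interval_cases k <;> interval_cases t <;> omega

/-- **the row S5874**, from the statement of EO2-X3. -/
theorem row12m (hX3 : X3Stmt F 12) (hminus : ¬ IsPlusTypeOn Q ⊤) : Row12m Q H := by
  have hHI : H ≤ isometryGroup F Q := hH.1.le.trans (omegaGL_le_isometryGroup Q)
  rcases emain_all Q hQ (by norm_num) H hHI with ht | hres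
  swap
  · exact Row12m.of13 hres
  rcases ht with h1 | h2 | h3 | h4 | h5 | h6 | h7
  · -- class 1
    rcases h1 with ⟨W, h0, hts, hHW⟩ | ⟨W, h0, h1, hnd, hHW⟩ | ⟨-, v, hv, hHv⟩
    · exact Row12m.of1 ⟨W, h0, hts, eq_stab_inf Q hQ (by norm_num) hH W h0
        (ne_top_of_totallySingular Q hQ (by norm_num) W hts) hHW⟩
    · exact row12m_nd Q hQ H hH W h0 h1 hnd hHW
    · exact row12m_vec Q hQ H hH v hv hHv
  · -- class 2
    rcases h2 with ⟨t, k, D, hD, hHD⟩ | ⟨m, D, hD, hts, -⟩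
    · exact row12m_decomp Q hQ H hH hminus k D hD hHD
    · exact absurd (Cfsg.Agent.Lib.H22.EOP2.plus_of_ts_pair Q m D hD hts) hminus
  · -- class 3
    rcases h3 with ⟨r, K, hr, hK, -, -, hHK⟩ | ⟨K, hK, -, -, -, hHK⟩
    · exact row12m_field Q hQ H hH r hr K hK hHK
    · exact row12m_field Q hQ H hH 2 Nat.prime_two K hK hHK
  · -- class 4
    rcases h4 with ⟨n₁, n₂, e, P, f₁, f₂, h2, hlt, hf₁, hf₂, hT, hpure, hHT⟩ |
      ⟨n₁, n₂, e, P, f₁, f₂, hodd, h3, hle, hf₁, hf₂, hT, hHT⟩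
    · exfalso
      have hcard : n₁ * n₂ = 12 := by
        have := Fintype.card_congr e
        simpa [Fintype.card_prod] using this.symm
      have hev : Even n₁ := by
        have := Cfsg.Agent.Lib.H17.AschSP2.even_card_of_isSymplecticForm f₁ hf₁
        rwa [Fintype.card_fin] at this
      have hn1 : n₁ = 2 := by
        obtain ⟨a, ha⟩ := hev
        have : n₁ ≤ 3 := by nlinarith
        omega
      subst hn1
      exact hminus (Cfsg.Agent.Lib.H22.EOP2.plus_of_sp_tensor_two Q hQ n₂ e P hpure)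
    · have hcard : n₁ * n₂ = 12 := by
        have := Fintype.card_congr e
        simpa [Fintype.card_prod] using this.symm
      have hn1 : n₁ = 3 := by
        have : n₁ ≤ 3 := by nlinarith
        omega
      subst hn1
      have hn2 : n₂ = 4 := by omega
      subst hn2
      by_cases hpl : IsPlusTypeOn (fun v : Fin 4 → F => f₂ v v) ⊤
      · exact absurd (Cfsg.Agent.Lib.H8.EOP2.plus_of_sym_tensor_plus hodd Q hQ 3 4 e P f₁ f₂ hf₁ hf₂ hT hpl)
          hminus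
      · by_cases hq5 : 5 ≤ Fintype.card F
        · exact Row12m.of11 ⟨hodd, hq5, e, P, f₁, f₂, hf₁, hf₂, hpl, hT,
            eq_inf_of_isMaximalIn hH hHT
              (Cfsg.Agent.Lib.H2.EOP2.not_omegaGL_le_tensorProductSubgroup Q hQ (by norm_num) 3 4
                (by norm_num) (by norm_num) e P)⟩
        · have hq3 : Fintype.card F = 3 := by
            have h2 : 1 < Fintype.card F := Fintype.one_lt_card
            obtain ⟨a, ha⟩ := hodd
            omega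
          obtain ⟨D, hD, -, hle'⟩ := Cfsg.Agent.Lib.H11.EOP2.exists_blocks_of_tensor_three hq3 Q hQ 4
            (by norm_num) e P f₁ f₂ hf₁ hf₂ hT
          exact row12m_decomp Q hQ H hH hminus 4 D hD ((le_inf hHT hHI).trans hle')
  · -- class 5
    obtain ⟨F₀, r, P, ζ, hr, hcard, hζ, hR, hHS⟩ := h5
    by_cases hr2 : r = 2
    · subst hr2
      exact absurd (hX3 Q hQ (by decide) F₀ hcard P ζ hζ hR) hminus
    · exact Row12m.of12 ⟨F₀, r, P, ζ, hr, hr.odd_of_ne_two hr2, hcard, hζ, hR,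
        eq_inf_of_isMaximalIn hH hHS
          (not_omegaGL_le_subfieldSubgroup Q hQ (by rw [Fintype.card_fin]; norm_num) F₀ r hr hcard P)⟩
  · -- class 6
    exact absurd h6.2.2.1 hminus
  · -- class 7
    exfalso
    rcases h7 with ⟨k, t, e, P, f₁, hk, ht, -⟩ | ⟨k, t, e, P, f₁, -, hk, ht, -⟩
    · have hcard : k ^ t = 12 := by
        have := Fintype.card_congr e
        simpa using this.symm
      exact no_pow_eq_twelve k t hk ht hcard
    · have hcard : k ^ t = 12 := by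
        have := Fintype.card_congr e
        simpa using this.symm
      exact no_pow_eq_twelve k t (by omega) ht hcard

end Cfsg.Agent.Lib.H13.EOP2
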