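import Mathlib
import Cfsg.Agent.Lib.H13.OES1
import Cfsg.Agent.Lib.H24.ElusTiCount

/-!
Counting totally singular `m`-subspaces of a quadratic space of dimension `2 d` and type `ε` over the field with `q` elements
(helper13): `singNum`, `card_sing`, `card_tsSeq`, `card_tsSub_mul`, `exists_of_dvd_card_tsSub` (a prime dividing the number of totally
singular `m`-spaces divides some `(q^(d-j) - ε)(q^(d-j-1) + ε)`, `j < m`), `wcond_of_dvd`, `pow_eq_neg_one_iff`.
-/

set_option autoImplicit false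
set_option linter.unusedSectionVars false
set_option linter.unusedVariables false
set_option linter.unusedSimpArgs false
set_option linter.deprecated false

namespace Cfsg.Agent.Lib.H13.OES

section

open Polynomial Module Matrix
open Cfsg.Agent.Lib.H24.Elus
open Cfsg.Agent.Lib.H13
open Cfsg.Agent.Lib.H13.OSS
open Cfsg.Agent.Lib.H10.OrtNd (PB TS PlusOn PB_apply PB_symm PB_self TS_mono)

section tscount

variable {F : Type*} [Field F] [Fintype F] {V : Type*} [AddCommGroup V] [Module F V]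
  [Module.Finite F V]
variable (Q : QuadraticForm F V)

/-- linearly independent tuples of pairwise orthogonal singular vectors -/
abbrev TsSeq (m : ℕ) : Type _ :=
  {s : Fin m → V // LinearIndependent F s ∧ (∀ i, Q (s i) = 0) ∧ ∀ i j, PB Q (s i) (s j) = 0}

/-- totally singular subspaces of dimension `m` -/
abbrev TsSub (m : ℕ) : Type _ :=
  {W : Submodule F V // finrank F W = m ∧ TS Q W}

theorem span_ts {m : ℕ} (s : Fin m → V) (h0 : ∀ i, Q (s i) = 0)
    (h : ∀ i j, PB Q (s i) (s j) = 0) : TS Q (Submodule.span F (Set.range s)) := by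
  have hti := span_isotropic (PB Q) s h
  intro w hw
  induction hw using Submodule.span_induction with
  | mem x hx =>
    obtain ⟨i, rfl⟩ := hx
    exact h0 i
  | zero => exact map_zero Q
  | add x y hx hy hx0 hy0 =>
    rw [Q_add, hx0, hy0, hti x hx y hy]
    ring
  | smul a x hx hx0 =>
    rw [QuadraticMap.map_smul, hx0, smul_zero]

/-- dropping the first vector -/
def tsTail (m : ℕ) (s : TsSeq Q (m + 1)) : TsSeq Q m :=
  ⟨Fin.tail s.1, (linearIndependent_finSucc.mp s.2.1).1, fun i => s.2.2.1 i.succ,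
    fun i j => s.2.2.2 i.succ j.succ⟩

/-- the fibre of `tsTail` -/
noncomputable def tsFibreEquiv (m : ℕ) (s : TsSeq Q m) :
    {s' : TsSeq Q (m + 1) // tsTail Q m s' = s} ≃
      {v : V // (v ∈ (PB Q).orthogonal (Submodule.span F (Set.range s.1)) ∧ Q v = 0) ∧
        v ∉ Submodule.span F (Set.range s.1)} where
  toFun s' := ⟨s'.1.1 0, by
    have hs : Fin.tail s'.1.1 = s.1 := congrArg Subtype.val s'.2
    refine ⟨⟨?_, s'.1.2.2.1 0⟩, ?_⟩
    · rw [← hs]
      intro n hn
      have hle : Submodule.span F (Set.range (Fin.tail s'.1.1)) ≤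
          LinearMap.ker ((PB Q).flip (s'.1.1 0)) := by
        rw [Submodule.span_le]
        rintro _ ⟨i, rfl⟩
        rw [SetLike.mem_coe, LinearMap.mem_ker]
        exact s'.1.2.2.2 i.succ 0
      have := hle hn
      rw [LinearMap.mem_ker] at this
      exact this
    · rw [← hs]
      exact (linearIndependent_finSucc.mp s'.1.2.1).2⟩
  invFun v := ⟨⟨(Fin.cons v.1 s.1 : Fin (m + 1) → V), linearIndependent_finCons.mpr ⟨s.2.1, v.2.2⟩, by
      intro i
      refine Fin.cases ?_ (fun i' => ?_) i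
      · simp only [Fin.cons_zero]
        exact v.2.1.2
      · simp only [Fin.cons_succ]
        exact s.2.2.1 i', by
      intro i j
      refine Fin.cases ?_ (fun i' => ?_) i <;> refine Fin.cases ?_ (fun j' => ?_) j
      · simp only [Fin.cons_zero]
        rw [PB_self, v.2.1.2, mul_zero]
      · simp only [Fin.cons_zero, Fin.cons_succ]
        rw [PB_symm]
        exact v.2.1.1 _ (Submodule.subset_span (Set.mem_range_self j'))
      · simp only [Fin.cons_zero, Fin.cons_succ]
        exact v.2.1.1 _ (Submodule.subset_span (Set.mem_range_self i'))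
      · simp only [Fin.cons_succ]
        exact s.2.2.2 i' j'⟩, by
    apply Subtype.ext
    show Fin.tail (Fin.cons v.1 s.1 : Fin (m + 1) → V) = s.1
    exact Fin.tail_cons _ _⟩
  left_inv s' := by
    apply Subtype.ext
    apply Subtype.ext
    show (Fin.cons (s'.1.1 0) s.1 : Fin (m + 1) → V) = s'.1.1
    have hs : Fin.tail s'.1.1 = s.1 := congrArg Subtype.val s'.2
    rw [← hs]
    exact Fin.cons_self_tail _
  right_inv v := by
    apply Subtype.ext
    show (Fin.cons v.1 s.1 : Fin (m + 1) → V) 0 = v.1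
    exact Fin.cons_zero _ _

/-- the span map -/
noncomputable def spanTS (m : ℕ) (s : TsSeq Q m) : TsSub Q m :=
  ⟨Submodule.span F (Set.range s.1), by
    rw [finrank_span_eq_card s.2.1, Fintype.card_fin], span_ts Q s.1 s.2.2.1 s.2.2.2⟩

/-- the fibre of the span map over `W` is the set of bases of `W` -/
noncomputable def tsSpanFibreEquiv (m : ℕ) (W : TsSub Q m) :
    {s : TsSeq Q m // spanTS Q m s = W} ≃ {t : Fin m → ↥W.1 // LinearIndependent F t} where
  toFun s := ⟨fun i => ⟨s.1.1 i, by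
      have h : Submodule.span F (Set.range s.1.1) = W.1 := congrArg Subtype.val s.2
      rw [← h]
      exact Submodule.subset_span (Set.mem_range_self i)⟩, by
    apply LinearIndependent.of_comp W.1.subtype
    exact s.1.2.1⟩
  invFun t := ⟨⟨fun i => (t.1 i : V), t.2.map' W.1.subtype (Submodule.ker_subtype _),
      fun i => W.2.2 _ (t.1 i).2,
      fun i j => TIon_of_TS Q W.2.2 _ (t.1 i).2 _ (t.1 j).2⟩, by
    apply Subtype.ext
    show Submodule.span F (Set.range fun i => (t.1 i : V)) = W.1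
    have h1 : Submodule.span F (Set.range t.1) = ⊤ := by
      apply t.2.span_eq_top_of_card_eq_finrank'
      rw [Fintype.card_fin, W.2.1]
    have h2 : (Set.range fun i => (t.1 i : V)) = W.1.subtype '' (Set.range t.1) := by
      rw [← Set.range_comp]
      rfl
    rw [h2, Submodule.span_image, h1, Submodule.map_top, Submodule.range_subtype]⟩
  left_inv s := by
    apply Subtype.ext
    apply Subtype.ext
    rfl
  right_inv t := by
    apply Subtype.ext
    rfl

end tscount

end

section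

open Polynomial Module Matrix
open Cfsg.Agent.Lib.H24.Elus
open Cfsg.Agent.Lib.H13
open Cfsg.Agent.Lib.H13.OSS
open Cfsg.Agent.Lib.H10.OrtNd (PB TS PlusOn PB_apply PB_symm PB_self TS_mono)

section tscount

variable {F : Type*} [Field F] [Fintype F] {V : Type*} [AddCommGroup V] [Module F V]
  [Module.Finite F V]
variable (Q : QuadraticForm F V)

/-- the number of singular vectors of a space of dimension `2 n` of given type -/
def singNum (q n : ℕ) (ε : Bool) : ℕ :=
  if ε then q ^ (2 * n - 1) + q ^ n - q ^ (n - 1) else q ^ (2 * n - 1) + q ^ (n - 1) - q ^ n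

theorem card_sing {q : ℕ} (hF : Fintype.card F = q) (U : Submodule F V)
    (hU : NDon (PB Q) U) (n : ℕ) (hn : 1 ≤ n) (hd : finrank F U = 2 * n) (ε : Bool)
    (hε : PlusOn Q U ↔ ε = true) :
    Nat.card {u : V // u ∈ U ∧ Q u = 0} = singNum q n ε := by
  unfold singNum
  cases ε with
  | true =>
    rw [if_pos rfl]
    exact card_sing_plus Q hF U hU n hn hd (hε.mpr rfl)
  | false =>
    rw [if_neg (by simp)]
    exact card_sing_minus Q hF U hU n hn hd (fun h => by simpa using hε.mp h)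

/-- the number of singular vectors orthogonal to a totally singular subspace -/
theorem card_sing_orth {q : ℕ} (hF : Fintype.card F = q)
    (hQ : (QuadraticMap.polarBilin Q).Nondegenerate) (d : ℕ) (hV : finrank F V = 2 * d)
    (ε : Bool) (hε : PlusOn Q ⊤ ↔ ε = true)
    (U : Submodule F V) (hU : TS Q U) (j : ℕ) (hj : finrank F U = j) (hjd : j < d) :
    Nat.card {v : V // v ∈ (PB Q).orthogonal U ∧ Q v = 0} = q ^ j * singNum q (d - j) ε := by
  haveI : Finite V := Module.finite_of_finite F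
  have hrefl := PB_refl Q
  have hBrefl : (PB Q).IsRefl := fun u v h => hrefl u v h
  have hUti := TIon_of_TS Q hU
  have hO : finrank F ((PB Q).orthogonal U) = 2 * d - j := by
    rw [LinearMap.BilinForm.finrank_orthogonal hQ, hj, hV]
  have hUO : U ≤ (PB Q).orthogonal U := fun u hu n hn => hUti n hn u hu
  obtain ⟨Y₀, hY₀⟩ := Submodule.exists_isCompl U
  obtain ⟨Y, hY⟩ : ∃ Y, Y = Y₀ ⊓ (PB Q).orthogonal U := ⟨_, rfl⟩
  have hUY : U ⊓ Y = ⊥ := by
    rw [eq_bot_iff, ← hY₀.inf_eq_bot, hY]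
    exact inf_le_inf_left U inf_le_left
  have hsup : U ⊔ Y = (PB Q).orthogonal U := by
    have := sup_inf_assoc_of_le Y₀ hUO
    rw [hY₀.sup_eq_top, top_inf_eq] at this
    rw [hY]
    exact this.symm
  have hYO : Y ≤ (PB Q).orthogonal U := by rw [← hsup]; exact le_sup_right
  have hYdim : finrank F Y = 2 * (d - j) := by
    have h := Submodule.finrank_sup_add_finrank_inf_eq U Y
    rw [hsup, hUY, finrank_bot, add_zero, hO, hj] at h
    omega
  have hUYorth : ∀ u ∈ U, ∀ y ∈ Y, PB Q u y = 0 := fun u hu y hy => hYO hy u hu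
  have hYnd : NDon (PB Q) Y := by
    intro y hy h
    have h1 : y ∈ (PB Q).orthogonal ((PB Q).orthogonal U) := by
      intro w hw
      rw [← hsup] at hw
      obtain ⟨u, hu, y', hy', rfl⟩ := Submodule.mem_sup.mp hw
      show PB Q (u + y') y = 0
      rw [map_add, LinearMap.add_apply, hUYorth u hu y hy, PB_symm Q y' y, h y' hy', add_zero]
    rw [LinearMap.BilinForm.orthogonal_orthogonal hQ hBrefl] at h1
    have h3 : y ∈ U ⊓ Y := Submodule.mem_inf.mpr ⟨h1, hy⟩
    rw [hUY] at h3
    exact (Submodule.mem_bot F).mp h3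
  -- the type of `Y`
  have hndV := NDon_top_of Q hQ
  obtain ⟨Y', hY'⟩ : ∃ Y', Y' = (PB Q).orthogonal Y := ⟨_, rfl⟩
  have hY'nd : NDon (PB Q) Y' := by
    have := NDon_perp_inR (PB Q) hrefl ⊤ Y hndV hYnd le_top
    rwa [top_inf_eq, ← hY'] at this
  have hY'dim : finrank F Y' = 2 * j := by
    have := finrank_perp_inR (PB Q) hrefl ⊤ Y hYnd le_top
    rw [top_inf_eq, ← hY', finrank_top, hV, hYdim] at this
    omega
  have hYY'sup : Y ⊔ Y' = ⊤ := by
    have := sup_perp_inR (PB Q) hrefl ⊤ Y hYnd le_top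
    rwa [top_inf_eq, ← hY'] at this
  have hYY'orth : ∀ u ∈ Y, ∀ v ∈ Y', PB Q u v = 0 := by
    intro u hu v hv
    rw [hY'] at hv
    exact hv u hu
  have hUY' : U ≤ Y' := by
    intro u hu
    rw [hY']
    intro y hy
    exact hrefl _ _ (hUYorth u hu y hy)
  have hY'plus : PlusOn Q Y' := ⟨U, hUY', hU, by rw [hj, hY'dim]⟩
  have htype := plus_top_iff Q hQ Y Y' hYnd hY'nd hYY'orth hYY'sup ⟨d - j, by rw [hYdim]; ring⟩
    ⟨j, by rw [hY'dim]; ring⟩
  have hYε : PlusOn Q Y ↔ ε = true := by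
    rw [← hε, htype]
    tauto
  have hcardY : Nat.card {y : V // y ∈ Y ∧ Q y = 0} = singNum q (d - j) ε :=
    card_sing Q hF Y hYnd (d - j) (by omega) hYdim ε hYε
  have hkey : ∀ u ∈ U, ∀ y ∈ Y, Q (u + y) = Q y := by
    intro u hu y hy
    rw [Q_add, hU u hu, hUYorth u hu y hy]
    ring
  -- the bijection
  let g : ↥U × {y : V // y ∈ Y ∧ Q y = 0} → {v : V // v ∈ (PB Q).orthogonal U ∧ Q v = 0} :=
    fun p => ⟨p.1.1 + p.2.1, Submodule.add_mem _ (hUO p.1.2) (hYO p.2.2.1), by
      rw [hkey _ p.1.2 _ p.2.2.1]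
      exact p.2.2.2⟩
  have hginj : Function.Injective g := by
    rintro ⟨u, y⟩ ⟨u', y'⟩ h
    have h1 : u.1 + y.1 = u'.1 + y'.1 := congrArg Subtype.val h
    have h3 : u.1 - u'.1 ∈ U ⊓ Y := by
      refine Submodule.mem_inf.mpr ⟨Submodule.sub_mem _ u.2 u'.2, ?_⟩
      have : u.1 - u'.1 = y'.1 - y.1 := by
        rw [sub_eq_sub_iff_add_eq_add, h1, add_comm]
      rw [this]
      exact Submodule.sub_mem _ y'.2.1 y.2.1
    rw [hUY] at h3
    have h4 : u.1 = u'.1 := sub_eq_zero.mp ((Submodule.mem_bot F).mp h3)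
    have h5 : y.1 = y'.1 := by
      rw [h4] at h1
      exact add_left_cancel h1
    exact Prod.ext (Subtype.ext h4) (Subtype.ext h5)
  have hgsurj : Function.Surjective g := by
    rintro ⟨v, hv, hvv⟩
    rw [← hsup] at hv
    obtain ⟨u, hu, y, hy, rfl⟩ := Submodule.mem_sup.mp hv
    refine ⟨(⟨u, hu⟩, ⟨y, hy, ?_⟩), rfl⟩
    rw [hkey u hu y hy] at hvv
    exact hvv
  rw [← Nat.card_congr (Equiv.ofBijective g ⟨hginj, hgsurj⟩), Nat.card_prod, hcardY,
    Module.natCard_eq_pow_finrank (K := F), hj, Nat.card_eq_fintype_card, hF]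

end tscount

end

section

open Polynomial Module Matrix
open Cfsg.Agent.Lib.H24.Elus
open Cfsg.Agent.Lib.H13
open Cfsg.Agent.Lib.H13.OSS
open Cfsg.Agent.Lib.H10.OrtNd (PB TS PlusOn PB_apply PB_symm PB_self TS_mono)

section tscount

variable {F : Type*} [Field F] [Fintype F] {V : Type*} [AddCommGroup V] [Module F V]
  [Module.Finite F V]
variable (Q : QuadraticForm F V)

theorem card_tsFibre {q : ℕ} (hF : Fintype.card F = q)
    (hQ : (QuadraticMap.polarBilin Q).Nondegenerate) (d : ℕ) (hV : finrank F V = 2 * d)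
    (ε : Bool) (hε : PlusOn Q ⊤ ↔ ε = true) (m : ℕ) (hm : m < d) (s : TsSeq Q m) :
    Nat.card {v : V // (v ∈ (PB Q).orthogonal (Submodule.span F (Set.range s.1)) ∧ Q v = 0) ∧
        v ∉ Submodule.span F (Set.range s.1)} = q ^ m * singNum q (d - m) ε - q ^ m := by
  haveI : Finite V := Module.finite_of_finite F
  obtain ⟨U, hU⟩ : ∃ U, U = Submodule.span F (Set.range s.1) := ⟨_, rfl⟩
  rw [← hU]
  have hUm : finrank F U = m := by rw [hU, finrank_span_eq_card s.2.1, Fintype.card_fin]
  have hUts : TS Q U := by rw [hU]; exact span_ts Q s.1 s.2.2.1 s.2.2.2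
  have hUti := TIon_of_TS Q hUts
  have hsub : (U : Set V) ⊆ {v : V | v ∈ (PB Q).orthogonal U ∧ Q v = 0} :=
    fun u hu => ⟨fun n hn => hUti n hn u hu, hUts u hu⟩
  have h1 : Nat.card {v : V // (v ∈ (PB Q).orthogonal U ∧ Q v = 0) ∧ v ∉ U} =
      ({v : V | v ∈ (PB Q).orthogonal U ∧ Q v = 0} \ (U : Set V)).ncard := by
    rw [← Nat.card_coe_set_eq]
    rfl
  have h3 := Set.ncard_sdiff_add_ncard_of_subset hsub (Set.toFinite _)
  have h4 : ({v : V | v ∈ (PB Q).orthogonal U ∧ Q v = 0}).ncard = q ^ m * singNum q (d - m) ε := by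
    rw [← Nat.card_coe_set_eq]
    exact card_sing_orth Q hF hQ d hV ε hε U hUts m hUm hm
  have h5 : (U : Set V).ncard = q ^ m := by
    rw [← Nat.card_coe_set_eq]
    show Nat.card ↥U = _
    rw [Module.natCard_eq_pow_finrank (K := F), hUm, Nat.card_eq_fintype_card, hF]
  rw [h1]
  omega

theorem card_tsSeq {q : ℕ} (hF : Fintype.card F = q)
    (hQ : (QuadraticMap.polarBilin Q).Nondegenerate) (d : ℕ) (hV : finrank F V = 2 * d)
    (ε : Bool) (hε : PlusOn Q ⊤ ↔ ε = true) (m : ℕ) (hm : m ≤ d) :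
    Nat.card (TsSeq Q m) = ∏ j : Fin m, (q ^ j.val * singNum q (d - j.val) ε - q ^ j.val) := by
  haveI : Finite V := Module.finite_of_finite F
  induction m with
  | zero =>
    rw [Finset.univ_eq_empty, Finset.prod_empty]
    haveI : Unique (TsSeq Q 0) :=
      { default := ⟨Fin.elim0, linearIndependent_empty_type, fun i => i.elim0, fun i => i.elim0⟩
        uniq := fun s => Subtype.ext (Subsingleton.elim _ _) }
    exact Nat.card_unique
  | succ m ih =>
    haveI : Fintype (TsSeq Q m) := Fintype.ofFinite _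
    rw [Nat.card_congr (Equiv.sigmaFiberEquiv (tsTail Q m)).symm, Nat.card_sigma,
      Finset.sum_congr rfl (fun s _ => (Nat.card_congr (tsFibreEquiv Q m s)).trans
        (card_tsFibre Q hF hQ d hV ε hε m (by omega) s)), Finset.sum_const,
      Finset.card_univ, smul_eq_mul, ← Nat.card_eq_fintype_card, ih (by omega),
      Fin.prod_univ_castSucc]
    rfl

theorem card_tsSub_mul {q : ℕ} (hF : Fintype.card F = q)
    (hQ : (QuadraticMap.polarBilin Q).Nondegenerate) (d : ℕ) (hV : finrank F V = 2 * d)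
    (ε : Bool) (hε : PlusOn Q ⊤ ↔ ε = true) (m : ℕ) (hm : m ≤ d) :
    Nat.card (TsSub Q m) * ∏ i : Fin m, (q ^ m - q ^ i.val) =
      ∏ j : Fin m, (q ^ j.val * singNum q (d - j.val) ε - q ^ j.val) := by
  classical
  haveI : Finite V := Module.finite_of_finite F
  haveI : Finite (Submodule F V) := finite_submodule
  haveI : Fintype (TsSub Q m) := Fintype.ofFinite _
  rw [← card_tsSeq Q hF hQ d hV ε hε m hm,
    Nat.card_congr (Equiv.sigmaFiberEquiv (spanTS Q m)).symm, Nat.card_sigma]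
  have h : ∀ W : TsSub Q m, Nat.card {s : TsSeq Q m // spanTS Q m s = W} =
      ∏ i : Fin m, (q ^ m - q ^ i.val) := by
    intro W
    rw [Nat.card_congr (tsSpanFibreEquiv Q m W)]
    haveI : Finite ↥W.1 := Finite.of_injective _ Subtype.val_injective
    have := card_linearIndependent (K := F) (V := ↥W.1) (k := m) (by rw [W.2.1])
    rw [this, W.2.1, hF]
  rw [Finset.sum_congr rfl (fun W _ => h W), Finset.sum_const, Finset.card_univ, smul_eq_mul,
    Nat.card_eq_fintype_card]

/-- a prime dividing the number of totally singular `m`-spaces -/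
theorem exists_of_dvd_card_tsSub {q : ℕ} (hF : Fintype.card F = q)
    (hQ : (QuadraticMap.polarBilin Q).Nondegenerate) (d : ℕ) (hV : finrank F V = 2 * d)
    (ε : Bool) (hε : PlusOn Q ⊤ ↔ ε = true) (m : ℕ) (hm : m ≤ d) (r : ℕ) (hr : r.Prime)
    (h : r ∣ Nat.card (TsSub Q m)) :
    ∃ j, j < m ∧ r ∣ singNum q (d - j) ε - 1 := by
  have hq : 2 ≤ q := by rw [← hF]; exact Fintype.one_lt_card
  have h1 := card_tsSub_mul Q hF hQ d hV ε hε m hm
  have hL : ∏ i : Fin m, (q ^ m - q ^ i.val) =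
      (∏ i : Fin m, q ^ i.val) * ∏ i : Fin m, (q ^ (m - i.val) - 1) := by
    rw [← Finset.prod_mul_distrib]
    apply Finset.prod_congr rfl
    intro i _
    rw [Nat.mul_sub, mul_one, ← pow_add, Nat.add_sub_cancel' i.2.le]
  have hR : ∏ j : Fin m, (q ^ j.val * singNum q (d - j.val) ε - q ^ j.val) =
      (∏ i : Fin m, q ^ i.val) * ∏ j : Fin m, (singNum q (d - j.val) ε - 1) := by
    rw [← Finset.prod_mul_distrib]
    apply Finset.prod_congr rfl
    intro j _
    rw [Nat.mul_sub, mul_one]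
  rw [hL, hR] at h1
  have hQ' : 0 < ∏ i : Fin m, q ^ i.val :=
    Finset.prod_pos (fun i _ => pos_of_ne_zero (pow_ne_zero _ (by omega)))
  have h2' : Nat.card (TsSub Q m) * ∏ i : Fin m, (q ^ (m - i.val) - 1) =
      ∏ j : Fin m, (singNum q (d - j.val) ε - 1) := by
    apply Nat.eq_of_mul_eq_mul_left hQ'
    rw [← h1]
    ring
  have h3 : r ∣ ∏ j : Fin m, (singNum q (d - j.val) ε - 1) := by
    rw [← h2']
    exact h.mul_right _
  obtain ⟨j, -, hj⟩ := (Prime.dvd_finset_prod_iff hr.prime _).mp h3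
  exact ⟨j.val, j.2, hj⟩

end tscount

end

section

open Polynomial Module Matrix
open Cfsg.Agent.Lib.H24.Elus
open Cfsg.Agent.Lib.H13

section arith

theorem singNum_true_sub_one (q n : ℕ) (hq : 1 ≤ q) (hn : 1 ≤ n) :
    singNum q n true - 1 = (q ^ n - 1) * (q ^ (n - 1) + 1) := by
  unfold singNum
  rw [if_pos rfl]
  obtain ⟨a, ha⟩ : ∃ a, a = q ^ (n - 1) := ⟨_, rfl⟩
  have ha1 : 1 ≤ a := by rw [ha]; exact Nat.one_le_pow _ _ hq
  have h1 : q ^ n = q * a := by
    rw [ha, ← pow_succ']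
    congr 1
    omega
  have h2 : q ^ (2 * n - 1) = q * a * a := by
    rw [ha, mul_assoc, ← pow_add, ← pow_succ']
    congr 1
    omega
  rw [h1, h2, ← ha]
  obtain ⟨b, hb⟩ : ∃ b, q * a = b + 1 := ⟨q * a - 1, by
    have : 1 ≤ q * a := Nat.mul_pos hq ha1
    omega⟩
  rw [hb]
  have : (b + 1) * a = b * a + a := by ring
  have h3 : (b + 1 - 1) * (a + 1) = b * a + b := by
    rw [Nat.add_sub_cancel]; ring
  rw [h3, this]
  omega

theorem singNum_false_sub_one (q n : ℕ) (hq : 1 ≤ q) (hn : 1 ≤ n) :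
    singNum q n false - 1 = (q ^ n + 1) * (q ^ (n - 1) - 1) := by
  unfold singNum
  rw [if_neg (by simp)]
  obtain ⟨a, ha⟩ : ∃ a, a = q ^ (n - 1) := ⟨_, rfl⟩
  have ha1 : 1 ≤ a := by rw [ha]; exact Nat.one_le_pow _ _ hq
  have h1 : q ^ n = q * a := by
    rw [ha, ← pow_succ']
    congr 1
    omega
  have h2 : q ^ (2 * n - 1) = q * a * a := by
    rw [ha, mul_assoc, ← pow_add, ← pow_succ']
    congr 1
    omega
  rw [h1, h2, ← ha]
  obtain ⟨b, hb⟩ : ∃ b, a = b + 1 := ⟨a - 1, by omega⟩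
  rw [hb, Nat.add_sub_cancel]
  have h3 : q * (b + 1) * (b + 1) = q * (b + 1) * b + q * (b + 1) := by ring
  have h4 : (q * (b + 1) + 1) * b = q * (b + 1) * b + b := by ring
  rw [h3, h4]
  omega

variable {F : Type*} [Field F] [Fintype F] {p : ℕ} [Fact p.Prime] [CharP F p]

theorem p_dvd_q {q : ℕ} (hF : Fintype.card F = q) : p ∣ q := by
  rw [← hF, ← CharP.cast_eq_zero_iff F p]
  exact Nat.cast_card_eq_zero F

theorem zmod_of_dvd_singNum (q n : ℕ) (hq1 : 1 ≤ q) (hn : 1 ≤ n) (ε : Bool) (r' : ℕ)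
    (h' : r' ∣ singNum q n ε - 1) :
    (ε = true → ((q : ZMod r') ^ n - 1) * ((q : ZMod r') ^ (n - 1) + 1) = 0) ∧
    (ε = false → ((q : ZMod r') ^ n + 1) * ((q : ZMod r') ^ (n - 1) - 1) = 0) := by
  have hqn : 1 ≤ q ^ n := Nat.one_le_pow _ _ hq1
  have hqn' : 1 ≤ q ^ (n - 1) := Nat.one_le_pow _ _ hq1
  constructor
  · intro hε
    rw [hε, singNum_true_sub_one q n hq1 hn] at h'
    have := (ZMod.natCast_eq_zero_iff _ r').mpr h'
    rw [Nat.cast_mul, Nat.cast_sub hqn, Nat.cast_add, Nat.cast_pow, Nat.cast_pow,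
      Nat.cast_one] at this
    exact this
  · intro hε
    rw [hε, singNum_false_sub_one q n hq1 hn] at h'
    have := (ZMod.natCast_eq_zero_iff _ r').mpr h'
    rw [Nat.cast_mul, Nat.cast_sub hqn', Nat.cast_add, Nat.cast_pow, Nat.cast_pow,
      Nat.cast_one] at this
    exact this

/-- the consequences of `r ∣ singNum q n ε - 1` -/
theorem wcond_of_dvd {q : ℕ} (hF : Fintype.card F = q) (n : ℕ) (hn : 2 ≤ n) (ε : Bool)
    (r : ℕ) [Fact r.Prime] (h : r ∣ singNum q n ε - 1) :
    r ≠ p ∧ (ε = true → ((q : ZMod r) ^ n = 1 ∨ (q : ZMod r) ^ (n - 1) = -1)) ∧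
      (ε = false → ((q : ZMod r) ^ n = -1 ∨ (q : ZMod r) ^ (n - 1) = 1)) := by
  have hq1 : 1 ≤ q := by rw [← hF]; exact Fintype.card_pos
  have hcast := fun r' h' => zmod_of_dvd_singNum q n hq1 (by omega) ε r' h'
  refine ⟨?_, ?_, ?_⟩
  · intro hrp
    rw [hrp] at h
    have hq0 : (q : ZMod p) = 0 := (ZMod.natCast_eq_zero_iff _ p).mpr (p_dvd_q hF)
    obtain ⟨h1, h2⟩ := hcast p h
    have hne : (1 : ZMod p) ≠ 0 := one_ne_zero
    cases ε with
    | true =>
      have := h1 rfl
      rw [hq0, zero_pow (by omega), zero_pow (by omega)] at this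
      apply hne
      linear_combination -this
    | false =>
      have := h2 rfl
      rw [hq0, zero_pow (by omega), zero_pow (by omega)] at this
      apply hne
      linear_combination -this
  · intro hε
    rcases mul_eq_zero.mp ((hcast r h).1 hε) with h1 | h1
    · left; exact sub_eq_zero.mp h1
    · right; exact eq_neg_of_add_eq_zero_left h1
  · intro hε
    rcases mul_eq_zero.mp ((hcast r h).2 hε) with h1 | h1
    · left; exact eq_neg_of_add_eq_zero_left h1
    · right; exact sub_eq_zero.mp h1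

/-- powers equal to `-1` -/
theorem pow_eq_neg_one_iff (q r : ℕ) [Fact r.Prime] (hr2 : r ≠ 2)
    (hi0 : 0 < orderOf (q : ZMod r)) (x : ℕ) :
    (q : ZMod r) ^ x = -1 ↔
      (Even (orderOf (q : ZMod r)) ∧ x % orderOf (q : ZMod r) = orderOf (q : ZMod r) / 2) := by
  have hr : r.Prime := Fact.out
  have hne : (-1 : ZMod r) ≠ 1 := by
    intro h
    have h2 : ((2 : ℕ) : ZMod r) = 0 := by
      push_cast
      linear_combination -h
    rw [ZMod.natCast_eq_zero_iff] at h2
    exact hr2 ((Nat.prime_dvd_prime_iff_eq hr Nat.prime_two).mp h2)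
  obtain ⟨i, hi⟩ : ∃ i, i = orderOf (q : ZMod r) := ⟨_, rfl⟩
  rw [← hi] at hi0 ⊢
  constructor
  · intro h
    have h1 : (q : ZMod r) ^ (2 * x) = 1 := by
      rw [mul_comm, pow_mul, h]; ring
    have h2 : i ∣ 2 * x := by rw [hi]; exact orderOf_dvd_of_pow_eq_one h1
    have h3 : ¬ i ∣ x := by
      intro hd
      rw [hi, orderOf_dvd_iff_pow_eq_one, h] at hd
      exact hne hd
    have heven : Even i := by
      by_contra hodd
      rw [Nat.not_even_iff_odd] at hodd
      exact h3 (Nat.Coprime.dvd_of_dvd_mul_left (Nat.coprime_two_right.mpr hodd) h2)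
    refine ⟨heven, ?_⟩
    obtain ⟨i', hi'⟩ := heven
    obtain ⟨u, hu⟩ := h2
    have hx : x = i' * u := by
      have : 2 * x = 2 * (i' * u) := by rw [hu, hi']; ring
      omega
    have hu_odd : ¬ 2 ∣ u := by
      rintro ⟨w, hw⟩
      apply h3
      exact ⟨w, by rw [hx, hw, hi']; ring⟩
    have hu' : u % 2 = 1 := by omega
    have hxi : x = i * (u / 2) + i' := by
      have := Nat.div_add_mod u 2
      rw [hu'] at this
      calc x = i' * (2 * (u / 2) + 1) := by rw [this, hx]
        _ = i * (u / 2) + i' := by rw [hi']; ring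
    rw [hxi, Nat.mul_add_mod, Nat.mod_eq_of_lt (by omega)]
    omega
  · rintro ⟨⟨i', hi'⟩, hx⟩
    have hi'0 : 0 < i' := by omega
    have hdiv : i / 2 = i' := by omega
    rw [hdiv] at hx
    have h1 : ((q : ZMod r) ^ i') * ((q : ZMod r) ^ i') = 1 := by
      rw [← pow_add, ← hi', hi, pow_orderOf_eq_one]
    have h2 : (q : ZMod r) ^ i' ≠ 1 := by
      rw [hi] at hi'
      exact pow_ne_one_of_lt_orderOf hi'0.ne' (by omega)
    have h3 : (q : ZMod r) ^ i' = -1 := by
      have h4 : ((q : ZMod r) ^ i' - 1) * ((q : ZMod r) ^ i' + 1) = 0 := by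
        linear_combination h1
      rcases mul_eq_zero.mp h4 with h5 | h5
      · exact absurd (sub_eq_zero.mp h5) h2
      · exact eq_neg_of_add_eq_zero_left h5
    have := Nat.div_add_mod x i
    rw [hx] at this
    rw [← this, pow_add, pow_mul, hi, pow_orderOf_eq_one, one_pow, one_mul, h3]

end arith

end

end Cfsg.Agent.Lib.H13.OES
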