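import Mathlib
import Cfsg.Agent.Lib.H13.OSS1

/-!
Isometries of odd prime order `r ≠ p` of a nondegenerate symmetric space of dimension `2 d + 1` over a finite field (helper13):
`struct_odd` (fixed space of dimension `2 e + 1`, the rest of dimension `c a`), `exists_ts_invariant` (sufficiency of the
Burness-Giudici conditions for an invariant totally singular `m`-space).
-/

set_option autoImplicit false
set_option linter.unusedSectionVars false
set_option linter.unusedVariables false
set_option linter.unusedSimpArgs false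
set_option linter.deprecated false

namespace Cfsg.Agent.Lib.H13.OSS

section

open Polynomial Module
open Cfsg.Agent.Lib.H24.Elus
open Cfsg.Agent.Lib.H13

section suff

variable {F : Type*} [Field F] [Fintype F] {p q : ℕ} [Fact p.Prime] [CharP F p]
  {V : Type*} [AddCommGroup V] [Module F V] [Module.Finite F V]
  {B : LinearMap.BilinForm F V} {y : End F V}

/-- the structure of an isometry of odd prime order `r ≠ p` of a nondegenerate symmetric space of
odd dimension `2 d + 1`: the fixed space has dimension `2 e + 1`, the rest dimension `c a` -/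
theorem struct_odd (hF : Fintype.card F = q) {r : ℕ} [Fact r.Prime] (hrp : r ≠ p)
    (hr2 : r ≠ 2) (hsym : ∀ u v, B u v = B v u) (hiso : ∀ u v, B (y u) (y v) = B u v)
    (hy : y ^ r = 1) (hndV : NDon B ⊤) (d : ℕ) (hV : finrank F V = 2 * d + 1) :
    NDon B (LinearMap.ker (aeval y (X - 1 : F[X]))) ∧
    NDon B (LinearMap.ker (aeval y (cyclotomic r F))) ∧
    NDon (twB B y r) (LinearMap.ker (aeval y (cyclotomic r F))) ∧
    (∀ u ∈ LinearMap.ker (aeval y (X - 1 : F[X])),
      ∀ w ∈ LinearMap.ker (aeval y (cyclotomic r F)), B u w = 0) ∧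
    ∃ e a, finrank F (LinearMap.ker (aeval y (X - 1 : F[X]))) = 2 * e + 1 ∧
      finrank F (LinearMap.ker (aeval y (cyclotomic r F))) = cOf (orderOf (q : ZMod r)) * a ∧
      2 * e + 1 + cOf (orderOf (q : ZMod r)) * a = 2 * d + 1 := by
  classical
  have hr : r.Prime := Fact.out
  have hrF : (r : F) ≠ 0 := CycFactor.natCast_ne_zero hr hrp
  have htopinv : ∀ v ∈ (⊤ : Submodule F V), y v ∈ (⊤ : Submodule F V) := fun _ _ =>
    Submodule.mem_top
  have hsplit := finrank_split_fix hrF hy ⊤ htopinv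
  rw [top_inf_eq, top_inf_eq, finrank_top, hV] at hsplit
  have hFxnd : NDon B (LinearMap.ker (aeval y (X - 1 : F[X]))) := by
    have := NDon_fix_partS hsym hiso hrF hy ⊤ htopinv hndV
    rwa [top_inf_eq] at this
  have hCynd : NDon B (LinearMap.ker (aeval y (cyclotomic r F))) := by
    have := NDon_cyc_partS hsym hiso hrF hy ⊤ htopinv hndV
    rwa [top_inf_eq] at this
  have hCyinv : ∀ v ∈ LinearMap.ker (aeval y (cyclotomic r F)),
      y v ∈ LinearMap.ker (aeval y (cyclotomic r F)) :=
    fun v hv => SSClass.ker_aeval_invariant y _ v hv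
  have hCynd' := NDon_twB hrF hr2 hy _ hCyinv le_rfl hCynd
  have hcdvd := cdvd_finrank_cyc_part hF hrp hr2 (twB_alt hsym hiso hr.pos hy) (twB_iso hiso) hy
    _ hCyinv hCynd'
  rw [inf_idem] at hcdvd
  obtain ⟨a, ha⟩ := hcdvd
  obtain ⟨c'', hc''⟩ := cOf_even (orderOf (q : ZMod r))
  refine ⟨hFxnd, hCynd, hCynd', fun u hu w hw => fix_orth_cycS hsym hiso hrF hy u w hu hw, ?_⟩
  have h1 : finrank F (LinearMap.ker (aeval y (cyclotomic r F))) = 2 * (c'' * a) := by
    rw [ha, hc'']; ring
  refine ⟨d - c'' * a, a, by omega, ha, ?_⟩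
  rw [← ha]
  omega

/-- sufficiency: an invariant totally singular `m`-space -/
theorem exists_ts_invariant (hF : Fintype.card F = q) {r : ℕ} [Fact r.Prime] (hrp : r ≠ p)
    (hr2 : r ≠ 2) (hsym : ∀ u v, B u v = B v u) (hiso : ∀ u v, B (y u) (y v) = B u v)
    (hy : y ^ r = 1) (hndV : NDon B ⊤) (d m : ℕ) (hV : finrank F V = 2 * d + 1) (hmd : m ≤ d)
    (i : ℕ) (hi : i = orderOf (q : ZMod r))
    (h2 : 2 * (m % i) < (2 * d + 1) % cOf i)
    (h3 : Odd i ∨ (r - 1) / i + 2 * (m / i) ≤ (2 * d + 1) / i) :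
    ∃ W : Submodule F V, finrank F W = m ∧ TIon B W ∧ ∀ v ∈ W, y v ∈ W := by
  classical
  have hr : r.Prime := Fact.out
  have hrF : (r : F) ≠ 0 := CycFactor.natCast_ne_zero hr hrp
  have hi0 : 0 < i := by rw [hi]; exact CycFactor.orderOf_pos hF hr hrp
  have hrefl : ∀ u v, B u v = 0 → B v u = 0 := fun u v h => by rw [hsym]; exact h
  obtain ⟨hFxnd, hCynd, hCynd', hfix_orth, e, a, hFxdim, hCydim, hdim⟩ :=
    struct_odd hF hrp hr2 hsym hiso hy hndV d hV
  rw [← hi] at hCydim hdim
  obtain ⟨Fx, hFx⟩ : ∃ Fx, Fx = LinearMap.ker (aeval y (X - 1 : F[X])) := ⟨_, rfl⟩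
  obtain ⟨Cy, hCy⟩ : ∃ Cy, Cy = LinearMap.ker (aeval y (cyclotomic r F)) := ⟨_, rfl⟩
  rw [← hFx] at hFxnd hfix_orth hFxdim
  rw [← hCy] at hCynd hCynd' hfix_orth hCydim
  have halt' := twB_alt hsym hiso hr.pos hy
  have hiso' : ∀ u v, twB B y r (y u) (y v) = twB B y r u v := twB_iso hiso
  have hCyinv : ∀ v ∈ Cy, y v ∈ Cy := by
    rw [hCy]
    exact fun v hv => SSClass.ker_aeval_invariant y _ v hv
  have hCyle : Cy ≤ LinearMap.ker (aeval y (cyclotomic r F)) := by rw [hCy]
  suffices hkey : ∃ a' e', a' * i + e' = m ∧ e' ≤ e ∧ ∃ Wc : Submodule F V, Wc ≤ Cy ∧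
      (∀ v ∈ Wc, y v ∈ Wc) ∧ TIon (twB B y r) Wc ∧ finrank F Wc = a' * i by
    obtain ⟨a', e', hsum, hee, Wc, hWcC, hWcinv, hWcti', hWcdim⟩ := hkey
    have hWcti : TIon B Wc := TIon_of_twB hrF hr2 hy Wc hWcinv (hWcC.trans hCyle) hWcti'
    obtain ⟨Wf, hWfF, hWfti, hWfdim⟩ := exists_ti_in_NDonS B hsym e' Fx hFxnd (by omega)
    obtain ⟨hti, hdim'⟩ := ti_supR B hrefl Fx Cy Wf Wc hFxnd hfix_orth hWfF hWcC hWfti hWcti
    refine ⟨Wf ⊔ Wc, by rw [hdim', hWfdim, hWcdim]; omega, hti, sup_invariant _ _ ?_ hWcinv⟩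
    intro v hv
    have hv' := hWfF hv
    rw [hFx] at hv'
    rw [(mem_fix_iff v).mp hv']
    exact hv
  have hm := Nat.div_add_mod m i
  have hn := Nat.div_add_mod (2 * d + 1) i
  have hbot : ∃ Wc : Submodule F V, Wc ≤ Cy ∧ (∀ v ∈ Wc, y v ∈ Wc) ∧ TIon (twB B y r) Wc ∧
      finrank F Wc = 0 * i := by
    refine ⟨⊥, bot_le, ?_, TIon_bot _, by rw [finrank_bot, zero_mul]⟩
    intro v hv
    rw [Submodule.mem_bot] at hv ⊢
    rw [hv, map_zero]
  by_cases heven : Even i
  · have hcOf : cOf i = i := by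
      unfold cOf
      rw [if_pos heven]
    rw [hcOf] at h2 hCydim hdim
    have h3' : (r - 1) / i + 2 * (m / i) ≤ (2 * d + 1) / i := by
      rcases h3 with h | h
      · exact absurd heven (Nat.not_even_iff_odd.mpr h)
      · exact h
    have hcard := CycFactor.card_S (F := F) hF hr hrp
    rw [← hi] at hcard
    obtain ⟨t, ht⟩ : ∃ t, t = Fintype.card (CycFactor.S r F) := ⟨_, rfl⟩
    rw [← ht] at hcard
    have ht' : (r - 1) / i = t := by
      rw [← hcard]
      exact Nat.mul_div_cancel _ hi0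
    rw [ht'] at h3'
    obtain ⟨amax, hamax⟩ : ∃ amax, amax = (a + 1 - t) / 2 := ⟨_, rfl⟩
    obtain ⟨a', ha'⟩ : ∃ a', a' = min (m / i) amax := ⟨_, rfl⟩
    have ha'm : a' ≤ m / i := by rw [ha']; exact min_le_left _ _
    have ha'a : a' ≤ amax := by rw [ha']; exact min_le_right _ _
    have hia' : i * a' ≤ i * (m / i) := Nat.mul_le_mul_left _ ha'm
    have hk : (2 * d + 1) % i ≤ 2 * e + 1 := by
      rw [← hdim, Nat.add_mul_mod_self_left]
      exact Nat.mod_le _ _
    refine ⟨a', m - i * a', ?_, ?_, ?_⟩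
    · rw [mul_comm]
      omega
    · rcases le_total (m / i) amax with hle | hle
      · have h5 : a' = m / i := by rw [ha', min_eq_left hle]
        rw [h5]
        omega
      · have h5 : a' = amax := by rw [ha', min_eq_right hle]
        have h6 : a ≤ 2 * amax + t := by omega
        have h7 : i * a ≤ 2 * (i * amax) + i * t := by
          calc i * a ≤ i * (2 * amax + t) := Nat.mul_le_mul_left _ h6
            _ = 2 * (i * amax) + i * t := by ring
        have h8 : i * t + 2 * (i * (m / i)) ≤ i * ((2 * d + 1) / i) := by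
          calc i * t + 2 * (i * (m / i)) = i * (t + 2 * (m / i)) := by ring
            _ ≤ i * ((2 * d + 1) / i) := Nat.mul_le_mul_left _ h3'
        have h9 : i * amax ≤ i * (m / i) := Nat.mul_le_mul_left _ hle
        rw [h5]
        omega
    · rcases Nat.eq_zero_or_pos a' with h0 | hpos
      · rw [h0]
        exact hbot
      · have h5 : 2 * a' + t ≤ a + 1 := by omega
        have h6 : i * (2 * a' + t) ≤ i * a + i := by
          calc i * (2 * a' + t) ≤ i * (a + 1) := Nat.mul_le_mul_left _ h5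
            _ = i * a + i := by ring
        have := exists_ti_cyc_even hF hrp hr2 halt' hiso' hy (hi ▸ heven) a' Cy hCyle hCyinv
          hCynd' (by rw [← hi, ← ht, hCydim]; exact h6)
        rw [← hi] at this
        exact this
  · have hcOf : cOf i = 2 * i := by
      unfold cOf
      rw [if_neg heven]
    rw [hcOf] at h2 hCydim hdim
    obtain ⟨a', ha'⟩ : ∃ a', a' = min (m / i) a := ⟨_, rfl⟩
    have ha'm : a' ≤ m / i := by rw [ha']; exact min_le_left _ _
    have ha'a : a' ≤ a := by rw [ha']; exact min_le_right _ _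
    have hia' : i * a' ≤ i * (m / i) := Nat.mul_le_mul_left _ ha'm
    have hk : (2 * d + 1) % (2 * i) ≤ 2 * e + 1 := by
      rw [← hdim, Nat.add_mul_mod_self_left]
      exact Nat.mod_le _ _
    refine ⟨a', m - i * a', ?_, ?_, ?_⟩
    · rw [mul_comm]
      omega
    · rcases le_total (m / i) a with hle | hle
      · have h5 : a' = m / i := by rw [ha', min_eq_left hle]
        rw [h5]
        omega
      · have h5 : a' = a := by rw [ha', min_eq_right hle]
        have h6 : 2 * i * a = 2 * (i * a) := by ring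
        rw [h5]
        omega
    · have h6 : a' * (2 * i) ≤ 2 * i * a := by
        calc a' * (2 * i) ≤ a * (2 * i) := Nat.mul_le_mul_right _ ha'a
          _ = 2 * i * a := by ring
      have := exists_ti_cyc_odd hF hrp halt' hiso' hy (hi ▸ heven) a' Cy hCyle hCyinv hCynd'
        (by rw [← hi, hCydim]; exact h6)
      rw [← hi] at this
      exact this

end suff

end

end Cfsg.Agent.Lib.H13.OSS
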