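import Mathlib
import Cfsg.Agent.Lib.H13.OES2
import Cfsg.Agent.Lib.H13.OSS2
import Cfsg.Agent.Lib.H24.ElusTiTwo

/-!
Isometries of odd prime order `r ≠ p` of an even-dimensional quadratic space over a finite field, all characteristics (helper13):
`struct_gen` (fixed space and the rest), `type_cyc_even`, `type_cyc_odd` (the type of the non-fixed part), `suff_even`, `suff_odd`
(existence of invariant totally singular subspaces), `nec_fix`, `nec_types` (restrictions on invariant totally singular subspaces),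
`profile_even`, `profile_odd`.
-/

set_option autoImplicit false
set_option linter.unusedSectionVars false
set_option linter.unusedVariables false
set_option linter.unusedSimpArgs false
set_option linter.deprecated false

namespace Cfsg.Agent.Lib.H13.OES

section

open Polynomial Module Matrix
open Cfsg.Agent.Lib.H24.Elus
open Cfsg.Agent.Lib.H13
open Cfsg.Agent.Lib.H13.OSS
open Cfsg.Agent.Lib.H10.OrtNd (PB TS PlusOn PB_apply PB_symm PB_self TS_mono)

section struct

variable {F : Type*} [Field F] {V : Type*} [AddCommGroup V] [Module F V]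
variable (Q : QuadraticForm F V) {y : End F V}

theorem polar_iso (hiso : ∀ v, Q (y v) = Q v) (u v : V) : PB Q (y u) (y v) = PB Q u v := by
  rw [PB_apply, PB_apply]
  unfold QuadraticMap.polar
  rw [← map_add, hiso, hiso, hiso]

theorem Q_sum_of_TIon {ι : Type*} (s : Finset ι) (f : ι → V) (W : Submodule F V)
    (hW : TIon (PB Q) W) (hf : ∀ i ∈ s, f i ∈ W) : Q (∑ i ∈ s, f i) = ∑ i ∈ s, Q (f i) := by
  classical
  induction s using Finset.induction_on with
  | empty => simp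
  | insert a s ha ih =>
    rw [Finset.sum_insert ha, Finset.sum_insert ha, Q_add,
      ih (fun i hi => hf i (Finset.mem_insert_of_mem hi)),
      hW _ (hf a (Finset.mem_insert_self a s)) _
        (Submodule.sum_mem _ (fun i hi => hf i (Finset.mem_insert_of_mem hi))), add_zero]

/-- an invariant totally isotropic subspace of the kernel of the cyclotomic polynomial is totally
singular -/
theorem TS_of_TIon_cyc (hiso : ∀ v, Q (y v) = Q v) {r : ℕ} [Fact r.Prime] (hr0 : (r : F) ≠ 0)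
    (W : Submodule F V) (hW : ∀ v ∈ W, y v ∈ W)
    (hWc : W ≤ LinearMap.ker (aeval y (cyclotomic r F))) (hti : TIon (PB Q) W) : TS Q W := by
  have hr : r.Prime := Fact.out
  intro w hw
  have h1 : aeval y (cyclotomic r F) w = 0 := LinearMap.mem_ker.mp (hWc hw)
  rw [cyclotomic_prime, map_sum, LinearMap.sum_apply] at h1
  have h2 : ∀ k ∈ Finset.range r, (aeval y (X ^ k : F[X])) w ∈ W := by
    intro k _
    rw [map_pow, aeval_X]
    exact pow_mem_of_invariant y W hW k w hw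
  have h3 := Q_sum_of_TIon Q (Finset.range r) (fun k => (aeval y (X ^ k : F[X])) w) W hti h2
  rw [h1, map_zero] at h3
  have h4' : ∀ k : ℕ, Q ((y ^ k) w) = Q w := by
    intro k
    induction k with
    | zero => rw [pow_zero]; rfl
    | succ k ih =>
      rw [pow_succ', Module.End.mul_apply, hiso, ih]
  have h4 : ∀ k ∈ Finset.range r, Q ((aeval y (X ^ k : F[X])) w) = Q w := by
    intro k _
    rw [map_pow, aeval_X]
    exact h4' k
  rw [Finset.sum_congr rfl h4, Finset.sum_const, Finset.card_range, nsmul_eq_mul] at h3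
  rcases mul_eq_zero.mp h3.symm with h | h
  · exact absurd h hr0
  · exact h

end struct

section free

variable {F : Type*} [Field F] {V : Type*} [AddCommGroup V] [Module F V]

/-- a set on which an element of prime order acts without fixed points has cardinality divisible
by that prime -/
theorem dvd_card_of_free (y : End F V) (r : ℕ) [Fact r.Prime] (hy : y ^ r = 1) (S : Set V)
    [Finite S] (hS : ∀ v ∈ S, y v ∈ S) (hfree : ∀ v ∈ S, y v ≠ v) : r ∣ Nat.card S := by
  classical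
  haveI : Fintype S := Fintype.ofFinite S
  have hr : r.Prime := Fact.out
  have hpow : ∀ k : ℕ, ∀ v ∈ S, (y ^ k) v ∈ S := by
    intro k
    induction k with
    | zero => intro v hv; rw [pow_zero]; exact hv
    | succ k ih =>
      intro v hv
      rw [pow_succ', Module.End.mul_apply]
      exact hS _ (ih v hv)
  let σ : Equiv.Perm S :=
    ⟨fun v => ⟨y v.1, hS _ v.2⟩, fun v => ⟨(y ^ (r - 1)) v.1, hpow _ _ v.2⟩,
      fun v => Subtype.ext (mul_pow_pred hr.pos hy v.1),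
      fun v => Subtype.ext (pow_pred_mul hr.pos hy v.1)⟩
  have hσk : ∀ (k : ℕ) (v : S), ((σ ^ k) v : V) = (y ^ k) v.1 := by
    intro k
    induction k with
    | zero => intro v; rfl
    | succ k ih =>
      intro v
      rw [pow_succ', Equiv.Perm.mul_apply, pow_succ', Module.End.mul_apply, ← ih v]
      rfl
  have hσr : σ ^ r ^ 1 = 1 := by
    rw [pow_one]
    ext v
    rw [hσk, hy]
    rfl
  by_contra hnd
  rw [Nat.card_eq_fintype_card] at hnd
  obtain ⟨a, ha⟩ := Equiv.Perm.exists_fixed_point_of_prime hnd hσr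
  exact hfree a.1 a.2 (congrArg Subtype.val ha)

end free

end

section

open Polynomial Module Matrix
open Cfsg.Agent.Lib.H24.Elus
open Cfsg.Agent.Lib.H13
open Cfsg.Agent.Lib.H13.OSS
open Cfsg.Agent.Lib.H10.OrtNd (PB TS PlusOn PB_apply PB_symm PB_self TS_mono)

section struct

variable {F : Type*} [Field F] [Fintype F] {p q : ℕ} [Fact p.Prime] [CharP F p]
  {V : Type*} [AddCommGroup V] [Module F V] [Module.Finite F V]
variable (Q : QuadraticForm F V) {y : End F V}

/-- the structure of an isometry of odd prime order `r ≠ p` of a nondegenerate quadratic space -/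
theorem struct_gen (hF : Fintype.card F = q) {r : ℕ} [Fact r.Prime] (hrp : r ≠ p)
    (hr2 : r ≠ 2) (hiso : ∀ v, Q (y v) = Q v) (hy : y ^ r = 1)
    (hQ : (QuadraticMap.polarBilin Q).Nondegenerate) :
    NDon (PB Q) (LinearMap.ker (aeval y (X - 1 : F[X]))) ∧
    NDon (PB Q) (LinearMap.ker (aeval y (cyclotomic r F))) ∧
    NDon (twB (PB Q) y r) (LinearMap.ker (aeval y (cyclotomic r F))) ∧
    (∀ u ∈ LinearMap.ker (aeval y (X - 1 : F[X])),
      ∀ w ∈ LinearMap.ker (aeval y (cyclotomic r F)), PB Q u w = 0) ∧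
    LinearMap.ker (aeval y (X - 1 : F[X])) ⊔ LinearMap.ker (aeval y (cyclotomic r F)) = ⊤ ∧
    ∃ a, finrank F (LinearMap.ker (aeval y (cyclotomic r F))) = cOf (orderOf (q : ZMod r)) * a ∧
      finrank F (LinearMap.ker (aeval y (X - 1 : F[X]))) + cOf (orderOf (q : ZMod r)) * a =
        finrank F V := by
  classical
  have hr : r.Prime := Fact.out
  have hrF : (r : F) ≠ 0 := CycFactor.natCast_ne_zero hr hrp
  have hsym := PB_symm Q
  have hisoB := polar_iso Q hiso
  have hndV := NDon_top_of Q hQ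
  have htopinv : ∀ v ∈ (⊤ : Submodule F V), y v ∈ (⊤ : Submodule F V) := fun _ _ =>
    Submodule.mem_top
  have hsplit := finrank_split_fix hrF hy ⊤ htopinv
  rw [top_inf_eq, top_inf_eq, finrank_top] at hsplit
  have hFxnd : NDon (PB Q) (LinearMap.ker (aeval y (X - 1 : F[X]))) := by
    have := NDon_fix_partS hsym hisoB hrF hy ⊤ htopinv hndV
    rwa [top_inf_eq] at this
  have hCynd : NDon (PB Q) (LinearMap.ker (aeval y (cyclotomic r F))) := by
    have := NDon_cyc_partS hsym hisoB hrF hy ⊤ htopinv hndV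
    rwa [top_inf_eq] at this
  have hCyinv : ∀ v ∈ LinearMap.ker (aeval y (cyclotomic r F)),
      y v ∈ LinearMap.ker (aeval y (cyclotomic r F)) :=
    fun v hv => SSClass.ker_aeval_invariant y _ v hv
  have hCynd' := NDon_twB hrF hr2 hy _ hCyinv le_rfl hCynd
  have hcdvd := cdvd_finrank_cyc_part hF hrp hr2 (twB_alt hsym hisoB hr.pos hy) (twB_iso hisoB) hy
    _ hCyinv hCynd'
  rw [inf_idem] at hcdvd
  obtain ⟨a, ha⟩ := hcdvd
  have hsup : LinearMap.ker (aeval y (X - 1 : F[X])) ⊔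
      LinearMap.ker (aeval y (cyclotomic r F)) = ⊤ := by
    have := split_fix hrF hy ⊤ htopinv
    rw [top_inf_eq, top_inf_eq] at this
    exact eq_top_iff.mpr this
  refine ⟨hFxnd, hCynd, hCynd', fun u hu w hw => fix_orth_cycS hsym hisoB hrF hy u w hu hw, hsup,
    a, ha, ?_⟩
  rw [← ha]
  exact hsplit

/-- the type of the non-fixed part, `ord_r q` even -/
theorem type_cyc_even (hF : Fintype.card F = q) {r : ℕ} [Fact r.Prime] (hrp : r ≠ p)
    (hr2 : r ≠ 2) (hiso : ∀ v, Q (y v) = Q v) (hy : y ^ r = 1)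
    (hQ : (QuadraticMap.polarBilin Q).Nondegenerate) (heven : Even (orderOf (q : ZMod r)))
    (a : ℕ)
    (ha : finrank F (LinearMap.ker (aeval y (cyclotomic r F))) = orderOf (q : ZMod r) * a) :
    PlusOn Q (LinearMap.ker (aeval y (cyclotomic r F))) ↔ Even a := by
  classical
  have hr : r.Prime := Fact.out
  have hrF : (r : F) ≠ 0 := CycFactor.natCast_ne_zero hr hrp
  have hi0 : 0 < orderOf (q : ZMod r) := CycFactor.orderOf_pos hF hr hrp
  have hq1 : 1 ≤ q := by rw [← hF]; exact Fintype.card_pos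
  obtain ⟨hFxnd, hCynd, -, -, -, -⟩ := struct_gen Q hF hrp hr2 hiso hy hQ
  obtain ⟨V₁, hV₁⟩ : ∃ V₁, V₁ = LinearMap.ker (aeval y (cyclotomic r F)) := ⟨_, rfl⟩
  rw [← hV₁] at ha hCynd ⊢
  obtain ⟨i, hi⟩ : ∃ i, i = orderOf (q : ZMod r) := ⟨_, rfl⟩
  rw [← hi] at ha heven hi0
  rcases Nat.eq_zero_or_pos a with h0 | hapos
  · rw [h0, mul_zero] at ha
    have hbot : V₁ = ⊥ := Submodule.finrank_eq_zero.mp ha
    rw [h0, hbot]
    constructor
    · intro _; exact ⟨0, rfl⟩
    · intro _; exact ⟨⊥, le_rfl, TS_bot Q, by simp⟩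
  obtain ⟨c', hc'⟩ := heven
  have hc'0 : 0 < c' := by omega
  obtain ⟨n, hn⟩ : ∃ n, n = c' * a := ⟨_, rfl⟩
  have hn1 : 1 ≤ n := by rw [hn]; exact Nat.mul_pos hc'0 hapos
  have hdim : finrank F V₁ = 2 * n := by rw [ha, hc', hn]; ring
  -- `q ^ c' = -1`
  have hqc : (q : ZMod r) ^ c' = -1 := by
    rw [pow_eq_neg_one_iff q r hr2 (hi ▸ hi0), ← hi]
    refine ⟨⟨c', hc'⟩, ?_⟩
    rw [Nat.mod_eq_of_lt (by omega)]
    omega
  have hqn : (q : ZMod r) ^ n = (-1) ^ a := by rw [hn, pow_mul, hqc]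
  have hq0 : (q : ZMod r) ≠ 0 := by
    intro h
    have := pow_orderOf_eq_one (q : ZMod r)
    rw [← hi, h, zero_pow (by omega)] at this
    exact zero_ne_one this
  have hq_ne_one : (q : ZMod r) ≠ 1 := by
    intro h
    rw [h, orderOf_one] at hi
    omega
  have hne : (-1 : ZMod r) ≠ 1 := by
    intro h
    have h2 : ((2 : ℕ) : ZMod r) = 0 := by
      push_cast
      linear_combination -h
    rw [ZMod.natCast_eq_zero_iff] at h2
    exact hr2 ((Nat.prime_dvd_prime_iff_eq hr Nat.prime_two).mp h2)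
  have hcancel : (q : ZMod r) ^ (n - 1) = (q : ZMod r) ^ n → False := by
    intro h
    apply hq_ne_one
    have h1 : (q : ZMod r) ^ (n - 1) * q = (q : ZMod r) ^ (n - 1) * 1 := by
      rw [mul_one, ← pow_succ, h]
      congr 1
      omega
    exact mul_left_cancel₀ (pow_ne_zero _ hq0) h1
  -- the free action on nonzero singular vectors
  haveI : Finite V := Module.finite_of_finite F
  obtain ⟨S, hS⟩ : ∃ S : Set V, S = {u : V | (u ∈ V₁ ∧ Q u = 0) ∧ u ≠ 0} := ⟨_, rfl⟩
  have hV₁inv : ∀ v ∈ V₁, y v ∈ V₁ := by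
    rw [hV₁]
    exact fun v hv => SSClass.ker_aeval_invariant y _ v hv
  have hinj : Function.Injective y := injective_of_pow hr.pos hy
  have hSinv : ∀ v ∈ S, y v ∈ S := by
    intro v hv
    rw [hS] at hv ⊢
    refine ⟨⟨hV₁inv v hv.1.1, by rw [hiso]; exact hv.1.2⟩, ?_⟩
    intro h0
    apply hv.2
    apply hinj
    rw [h0, map_zero]
  have hSfree : ∀ v ∈ S, y v ≠ v := by
    intro v hv h
    rw [hS] at hv
    have h1 : v ∈ LinearMap.ker (aeval y (X - 1 : F[X])) ⊓
        LinearMap.ker (aeval y (cyclotomic r F)) :=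
      Submodule.mem_inf.mpr ⟨(mem_fix_iff v).mpr h, hV₁ ▸ hv.1.1⟩
    rw [fix_inf_cyc hrF] at h1
    exact hv.2 ((Submodule.mem_bot F).mp h1)
  have hdvd := dvd_card_of_free y r hy S hSinv hSfree
  have hcardS : ∀ ε : Bool, (PlusOn Q V₁ ↔ ε = true) → Nat.card S = singNum q n ε - 1 := by
    intro ε hε
    have h1 := card_sing Q hF V₁ hCynd n hn1 hdim ε hε
    have h0mem : (0 : V) ∈ {u : V | u ∈ V₁ ∧ Q u = 0} := ⟨V₁.zero_mem, map_zero Q⟩
    have h2 : Nat.card S = ({u : V | u ∈ V₁ ∧ Q u = 0} \ {0}).ncard := by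
      rw [← Nat.card_coe_set_eq, hS]
      rfl
    rw [h2, Set.ncard_diff_singleton_of_mem h0mem, ← h1, ← Nat.card_coe_set_eq]
    rfl
  by_cases hp : PlusOn Q V₁
  · have h1 := hcardS true (by simp [hp])
    rw [h1] at hdvd
    have h2 := (zmod_of_dvd_singNum q n hq1 hn1 true r hdvd).1 rfl
    refine ⟨fun _ => ?_, fun _ => hp⟩
    by_contra hodd
    rw [Nat.not_even_iff_odd] at hodd
    rw [hqn, hodd.neg_one_pow] at h2
    rcases mul_eq_zero.mp h2 with h3 | h3
    · apply hne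
      have : (-1 : ZMod r) - 1 = 0 := h3
      have h4 : ((2 : ℕ) : ZMod r) = 0 := by
        push_cast
        linear_combination -this
      rw [ZMod.natCast_eq_zero_iff] at h4
      exact absurd ((Nat.prime_dvd_prime_iff_eq hr Nat.prime_two).mp h4) hr2
    · apply hcancel
      rw [hqn, hodd.neg_one_pow]
      exact eq_neg_of_add_eq_zero_left h3
  · have h1 := hcardS false (by simp [hp])
    rw [h1] at hdvd
    have h2 := (zmod_of_dvd_singNum q n hq1 hn1 false r hdvd).2 rfl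
    refine ⟨fun h => absurd h hp, fun hev => ?_⟩
    exfalso
    rw [hqn, hev.neg_one_pow] at h2
    rcases mul_eq_zero.mp h2 with h3 | h3
    · apply hne
      have h4 : ((2 : ℕ) : ZMod r) = 0 := by
        push_cast
        linear_combination h3
      rw [ZMod.natCast_eq_zero_iff] at h4
      exact absurd ((Nat.prime_dvd_prime_iff_eq hr Nat.prime_two).mp h4) hr2
    · apply hcancel
      rw [hqn, hev.neg_one_pow]
      exact sub_eq_zero.mp h3

end struct

end

section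

open Polynomial Module Matrix
open Cfsg.Agent.Lib.H24.Elus
open Cfsg.Agent.Lib.H13
open Cfsg.Agent.Lib.H13.OSS
open Cfsg.Agent.Lib.H10.OrtNd (PB TS PlusOn PB_apply PB_symm PB_self TS_mono)

section suff

variable {F : Type*} [Field F] [Fintype F] {p q : ℕ} [Fact p.Prime] [CharP F p]
  {V : Type*} [AddCommGroup V] [Module F V] [Module.Finite F V]
variable (Q : QuadraticForm F V) {y : End F V}

/-- totally singular subspaces of a nondegenerate subspace of dimension `2 n`: all dimensions up to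
`n - 1`, and `n` for the plus type -/
theorem exists_ts_sub (U : Submodule F V) (hU : NDon (PB Q) U) (n : ℕ)
    (hd : finrank F U = 2 * n) (e : ℕ) (he : e + 1 ≤ n ∨ (e ≤ n ∧ PlusOn Q U)) :
    ∃ W : Submodule F V, W ≤ U ∧ TS Q W ∧ finrank F W = e := by
  rcases he with he | ⟨he, W₀, hW₀U, hW₀, hW₀d⟩
  · exact exists_ts_in_NDon Q e U hU (by omega)
  · obtain ⟨W, hWle, hWe⟩ := exists_le_finrank_eq' W₀ e (by omega)
    exact ⟨W, hWle.trans hW₀U, TS_mono Q hWle hW₀, hWe⟩

/-- gluing invariant totally singular subspaces of the fixed space and of the rest -/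
theorem glue_ts (hF : Fintype.card F = q) {r : ℕ} [Fact r.Prime] (hrp : r ≠ p)
    (hr2 : r ≠ 2) (hiso : ∀ v, Q (y v) = Q v) (hy : y ^ r = 1)
    (hQ : (QuadraticMap.polarBilin Q).Nondegenerate)
    (W₁ WC : Submodule F V) (hW₁ : W₁ ≤ LinearMap.ker (aeval y (cyclotomic r F)))
    (hW₁inv : ∀ v ∈ W₁, y v ∈ W₁) (hW₁ts : TS Q W₁)
    (hWC : WC ≤ LinearMap.ker (aeval y (X - 1 : F[X]))) (hWCts : TS Q WC) :
    ∃ W : Submodule F V, finrank F W = finrank F WC + finrank F W₁ ∧ TS Q W ∧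
      ∀ v ∈ W, y v ∈ W := by
  obtain ⟨hFxnd, -, -, horth, -, -⟩ := struct_gen Q hF hrp hr2 hiso hy hQ
  obtain ⟨-, hdim⟩ := ti_supR (PB Q) (PB_refl Q) _ _ WC W₁ hFxnd horth hWC hW₁
    (TIon_of_TS Q hWCts) (TIon_of_TS Q hW₁ts)
  refine ⟨WC ⊔ W₁, hdim, ?_, sup_invariant _ _ ?_ hW₁inv⟩
  · exact TS_sup Q hWCts hW₁ts (fun a ha w hw => horth a (hWC ha) w (hW₁ hw))
  · intro v hv
    rw [(mem_fix_iff v).mp (hWC hv)]
    exact hv

/-- sufficiency, `ord_r q` even -/
theorem suff_even [DecidableEq F] (hF : Fintype.card F = q) {r : ℕ} [Fact r.Prime] (hrp : r ≠ p)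
    (hr2 : r ≠ 2) (hiso : ∀ v, Q (y v) = Q v) (hy : y ^ r = 1)
    (hQ : (QuadraticMap.polarBilin Q).Nondegenerate) (d m : ℕ) (hV : finrank F V = 2 * d)
    (ε : Bool) (hε : PlusOn Q ⊤ ↔ ε = true) (heven : Even (orderOf (q : ZMod r))) (a : ℕ)
    (ha : finrank F (LinearMap.ker (aeval y (cyclotomic r F))) = orderOf (q : ZMod r) * a)
    (j e : ℕ) (hje : j * orderOf (q : ZMod r) + e = m)
    (hj : j = 0 ∨ 2 * j + Fintype.card (CycFactor.S r F) ≤ a + 1)
    (he : 2 * e + 2 + orderOf (q : ZMod r) * a ≤ 2 * d ∨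
      (2 * e + orderOf (q : ZMod r) * a ≤ 2 * d ∧ (ε = true ↔ Even a))) :
    ∃ W : Submodule F V, finrank F W = m ∧ TS Q W ∧ ∀ v ∈ W, y v ∈ W := by
  have hr : r.Prime := Fact.out
  have hrF : (r : F) ≠ 0 := CycFactor.natCast_ne_zero hr hrp
  obtain ⟨hFxnd, hCynd, hCynd', horth, hsup, a₀, ha₀, hdim⟩ := struct_gen Q hF hrp hr2 hiso hy hQ
  have hcOf : cOf (orderOf (q : ZMod r)) = orderOf (q : ZMod r) := by
    unfold cOf
    rw [if_pos heven]
  obtain ⟨i, hi⟩ : ∃ i, i = orderOf (q : ZMod r) := ⟨_, rfl⟩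
  rw [← hi] at ha hje he heven
  have hi0 : 0 < i := by rw [hi]; exact CycFactor.orderOf_pos hF hr hrp
  have hdimC : finrank F (LinearMap.ker (aeval y (X - 1 : F[X]))) + i * a = 2 * d := by
    rw [← hV, ← hdim, ← ha₀, ha]
  have hsym := PB_symm Q
  have hisoB := polar_iso Q hiso
  have halt' := twB_alt hsym hisoB hr.pos hy
  have hiso' : ∀ u v, twB (PB Q) y r (y u) (y v) = twB (PB Q) y r u v := twB_iso hisoB
  have hCyinv : ∀ v ∈ LinearMap.ker (aeval y (cyclotomic r F)),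
      y v ∈ LinearMap.ker (aeval y (cyclotomic r F)) :=
    fun v hv => SSClass.ker_aeval_invariant y _ v hv
  -- the invariant part
  have hW₁ : ∃ W₁ : Submodule F V, W₁ ≤ LinearMap.ker (aeval y (cyclotomic r F)) ∧
      (∀ v ∈ W₁, y v ∈ W₁) ∧ TS Q W₁ ∧ finrank F W₁ = j * i := by
    rcases hj with hj | hj
    · refine ⟨⊥, bot_le, ?_, TS_bot Q, by rw [finrank_bot, hj, zero_mul]⟩
      intro v hv
      rw [Submodule.mem_bot] at hv ⊢
      rw [hv, map_zero]
    · have h6 : i * (2 * j + Fintype.card (CycFactor.S r F)) ≤ i * a + i := by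
        calc i * (2 * j + Fintype.card (CycFactor.S r F)) ≤ i * (a + 1) :=
              Nat.mul_le_mul_left _ hj
          _ = i * a + i := by ring
      obtain ⟨W₁, hW₁le, hW₁inv, hW₁ti, hW₁d⟩ := exists_ti_cyc_even hF hrp hr2 halt' hiso' hy
        (hi ▸ heven) j _ le_rfl hCyinv hCynd' (by rw [← hi, ha]; exact h6)
      rw [← hi] at hW₁d
      have hti : TIon (PB Q) W₁ := TIon_of_twB hrF hr2 hy W₁ hW₁inv hW₁le hW₁ti
      exact ⟨W₁, hW₁le, hW₁inv, TS_of_TIon_cyc Q hiso hrF W₁ hW₁inv hW₁le hti, hW₁d⟩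
  obtain ⟨W₁, hW₁le, hW₁inv, hW₁ts, hW₁d⟩ := hW₁
  -- the fixed part
  obtain ⟨c', hc'⟩ := heven
  have hCeven : ∃ n, finrank F (LinearMap.ker (aeval y (X - 1 : F[X]))) = 2 * n :=
    ⟨d - c' * a, by
      have : i * a = 2 * (c' * a) := by rw [hc']; ring
      omega⟩
  obtain ⟨n, hn⟩ := hCeven
  have htype := plus_top_iff Q hQ _ _ hFxnd hCynd horth hsup ⟨n, by rw [hn]; ring⟩
    ⟨c' * a, by rw [ha, hc']; ring⟩
  have hcyc := type_cyc_even Q hF hrp hr2 hiso hy hQ (hi ▸ ⟨c', hc'⟩) a (hi ▸ ha)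
  have hWC : ∃ WC : Submodule F V, WC ≤ LinearMap.ker (aeval y (X - 1 : F[X])) ∧ TS Q WC ∧
      finrank F WC = e := by
    apply exists_ts_sub Q _ hFxnd n hn e
    rcases he with he | ⟨he, hεa⟩
    · left; omega
    · right
      refine ⟨by omega, ?_⟩
      rw [hε, hcyc] at htype
      tauto
  obtain ⟨WC, hWCle, hWCts, hWCd⟩ := hWC
  obtain ⟨W, hWd, hWts, hWinv⟩ := glue_ts Q hF hrp hr2 hiso hy hQ W₁ WC hW₁le hW₁inv hW₁ts hWCle
    hWCts
  refine ⟨W, ?_, hWts, hWinv⟩
  rw [hWd, hWCd, hW₁d]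
  omega

/-- sufficiency, `ord_r q` odd -/
theorem suff_odd (hF : Fintype.card F = q) {r : ℕ} [Fact r.Prime] (hrp : r ≠ p)
    (hr2 : r ≠ 2) (hiso : ∀ v, Q (y v) = Q v) (hy : y ^ r = 1)
    (hQ : (QuadraticMap.polarBilin Q).Nondegenerate) (d m : ℕ) (hV : finrank F V = 2 * d)
    (ε : Bool) (hε : PlusOn Q ⊤ ↔ ε = true) (hodd : ¬ Even (orderOf (q : ZMod r))) (a : ℕ)
    (ha : finrank F (LinearMap.ker (aeval y (cyclotomic r F))) = 2 * orderOf (q : ZMod r) * a)
    (j e : ℕ) (hje : j * orderOf (q : ZMod r) + e = m) (hj : j ≤ a)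
    (he : 2 * e + 2 + 2 * orderOf (q : ZMod r) * a ≤ 2 * d ∨
      (2 * e + 2 * orderOf (q : ZMod r) * a ≤ 2 * d ∧ ε = true)) :
    ∃ W : Submodule F V, finrank F W = m ∧ TS Q W ∧ ∀ v ∈ W, y v ∈ W := by
  classical
  have hr : r.Prime := Fact.out
  have hrF : (r : F) ≠ 0 := CycFactor.natCast_ne_zero hr hrp
  obtain ⟨hFxnd, hCynd, hCynd', horth, hsup, a₀, ha₀, hdim⟩ := struct_gen Q hF hrp hr2 hiso hy hQ
  obtain ⟨i, hi⟩ : ∃ i, i = orderOf (q : ZMod r) := ⟨_, rfl⟩
  rw [← hi] at ha hje he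
  have hi0 : 0 < i := by rw [hi]; exact CycFactor.orderOf_pos hF hr hrp
  have hdimC : finrank F (LinearMap.ker (aeval y (X - 1 : F[X]))) + 2 * i * a = 2 * d := by
    rw [← hV, ← hdim, ← ha₀, ha]
  have hsym := PB_symm Q
  have hisoB := polar_iso Q hiso
  have halt' := twB_alt hsym hisoB hr.pos hy
  have hiso' : ∀ u v, twB (PB Q) y r (y u) (y v) = twB (PB Q) y r u v := twB_iso hisoB
  have hCyinv : ∀ v ∈ LinearMap.ker (aeval y (cyclotomic r F)),
      y v ∈ LinearMap.ker (aeval y (cyclotomic r F)) :=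
    fun v hv => SSClass.ker_aeval_invariant y _ v hv
  have hex : ∀ j' ≤ a, ∃ W₁ : Submodule F V, W₁ ≤ LinearMap.ker (aeval y (cyclotomic r F)) ∧
      (∀ v ∈ W₁, y v ∈ W₁) ∧ TS Q W₁ ∧ finrank F W₁ = j' * i := by
    intro j' hj'
    have h6 : j' * (2 * i) ≤ 2 * i * a := by
      calc j' * (2 * i) ≤ a * (2 * i) := Nat.mul_le_mul_right _ hj'
        _ = 2 * i * a := by ring
    obtain ⟨W₁, hW₁le, hW₁inv, hW₁ti, hW₁d⟩ := exists_ti_cyc_odd hF hrp halt' hiso' hy hodd j' _
      le_rfl hCyinv hCynd' (by rw [← hi, ha]; exact h6)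
    rw [← hi] at hW₁d
    have hti : TIon (PB Q) W₁ := TIon_of_twB hrF hr2 hy W₁ hW₁inv hW₁le hW₁ti
    exact ⟨W₁, hW₁le, hW₁inv, TS_of_TIon_cyc Q hiso hrF W₁ hW₁inv hW₁le hti, hW₁d⟩
  obtain ⟨W₁, hW₁le, hW₁inv, hW₁ts, hW₁d⟩ := hex j hj
  -- the type of the non-fixed part
  have hcyc : PlusOn Q (LinearMap.ker (aeval y (cyclotomic r F))) := by
    obtain ⟨W₂, hW₂le, -, hW₂ts, hW₂d⟩ := hex a le_rfl
    exact ⟨W₂, hW₂le, hW₂ts, by rw [hW₂d, ha]; ring⟩
  have hCeven : ∃ n, finrank F (LinearMap.ker (aeval y (X - 1 : F[X]))) = 2 * n :=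
    ⟨d - i * a, by
      have : 2 * i * a = 2 * (i * a) := by ring
      omega⟩
  obtain ⟨n, hn⟩ := hCeven
  have htype := plus_top_iff Q hQ _ _ hFxnd hCynd horth hsup ⟨n, by rw [hn]; ring⟩
    ⟨i * a, by rw [ha]; ring⟩
  have hWC : ∃ WC : Submodule F V, WC ≤ LinearMap.ker (aeval y (X - 1 : F[X])) ∧ TS Q WC ∧
      finrank F WC = e := by
    apply exists_ts_sub Q _ hFxnd n hn e
    rcases he with he | ⟨he, hεa⟩
    · left; omega
    · right
      refine ⟨by omega, ?_⟩
      rw [hε] at htype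
      tauto
  obtain ⟨WC, hWCle, hWCts, hWCd⟩ := hWC
  obtain ⟨W, hWd, hWts, hWinv⟩ := glue_ts Q hF hrp hr2 hiso hy hQ W₁ WC hW₁le hW₁inv hW₁ts hWCle
    hWCts
  refine ⟨W, ?_, hWts, hWinv⟩
  rw [hWd, hWCd, hW₁d]
  omega

end suff

end

section

open Polynomial Module Matrix
open Cfsg.Agent.Lib.H24.Elus
open Cfsg.Agent.Lib.H13
open Cfsg.Agent.Lib.H13.OSS
open Cfsg.Agent.Lib.H10.OrtNd (PB TS PlusOn PB_apply PB_symm PB_self TS_mono)

section nec

variable {F : Type*} [Field F] [Fintype F] {p q : ℕ} [Fact p.Prime] [CharP F p]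
  {V : Type*} [AddCommGroup V] [Module F V] [Module.Finite F V]
variable (Q : QuadraticForm F V) {y : End F V}

/-- the dimensions of the homogeneous parts of an invariant subspace -/
theorem nec_decomp [DecidableEq F] (hF : Fintype.card F = q) {r : ℕ} [Fact r.Prime] (hrp : r ≠ p)
    (hy : y ^ r = 1) (W : Submodule F V) (hWinv : ∀ v ∈ W, y v ∈ W) :
    ∃ k : CycFactor.S r F → ℕ,
      finrank F ↥(W ⊓ LinearMap.ker (aeval y (X - 1 : F[X]))) +
        orderOf (q : ZMod r) * ∑ s, k s = finrank F W ∧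
      ∀ s : CycFactor.S r F, finrank F ↥(W ⊓ LinearMap.ker (aeval y s.1)) =
        orderOf (q : ZMod r) * k s := by
  have hr : r.Prime := Fact.out
  have hirr := CycFactor.irreducible_fJ (F := F) (r := r)
  have hcop := CycFactor.coprime_fJ (F := F) hr hrp
  have hφ' : aeval y (∏ j, CycFactor.fJ (F := F) r j) = 0 := by
    rw [CycFactor.prod_fJ hr hrp]; exact aeval_pow_sub_one_of_pow hy
  obtain ⟨hsum, hdvd⟩ := invariant_mults (CycFactor.fJ (F := F) r) hirr hcop y hφ' W hWinv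
  rw [Fintype.sum_option] at hsum
  have hk : ∀ s : CycFactor.S r F, ∃ k, finrank F ↥(W ⊓ LinearMap.ker (aeval y s.1)) =
      orderOf (q : ZMod r) * k := by
    intro s
    obtain ⟨k, hk2⟩ := hdvd (some s)
    rw [CycFactor.natDegree_fJ_some hF hr hrp s] at hk2
    exact ⟨k, hk2⟩
  choose k hk using hk
  refine ⟨k, ?_, hk⟩
  rw [Finset.mul_sum, ← hsum]
  congr 1
  apply Finset.sum_congr rfl
  intro s _
  exact (hk s).symm

/-- an invariant totally singular subspace: the fixed part -/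
theorem nec_fix [DecidableEq F] (hF : Fintype.card F = q) {r : ℕ} [Fact r.Prime] (hrp : r ≠ p)
    (hr2 : r ≠ 2) (hiso : ∀ v, Q (y v) = Q v) (hy : y ^ r = 1)
    (hQ : (QuadraticMap.polarBilin Q).Nondegenerate)
    (W : Submodule F V) (hWts : TS Q W) (hWinv : ∀ v ∈ W, y v ∈ W) :
    ∃ k e : ℕ, k * orderOf (q : ZMod r) + e = finrank F W ∧
      2 * e ≤ finrank F (LinearMap.ker (aeval y (X - 1 : F[X]))) ∧
      (¬ PlusOn Q (LinearMap.ker (aeval y (X - 1 : F[X]))) →
        2 * e + 1 ≤ finrank F (LinearMap.ker (aeval y (X - 1 : F[X])))) := by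
  obtain ⟨hFxnd, -, -, -, -, -⟩ := struct_gen Q hF hrp hr2 hiso hy hQ
  obtain ⟨k, hsum, -⟩ := nec_decomp hF hrp hy W hWinv
  have hts : TS Q (W ⊓ LinearMap.ker (aeval y (X - 1 : F[X]))) := TS_mono Q inf_le_left hWts
  have hle := finrank_ts_le Q _ _ hFxnd inf_le_right hts
  refine ⟨∑ s, k s, _, by rw [mul_comm, add_comm]; exact hsum, hle, ?_⟩
  intro hm
  by_contra hcon
  push Not at hcon
  apply hm
  exact ⟨_, inf_le_right, hts, by omega⟩

/-- an invariant totally singular subspace: if all homogeneous components are irreducible, it is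
contained in the fixed space (`ord_r q` even) -/
theorem nec_types [DecidableEq F] (hF : Fintype.card F = q) {r : ℕ} [Fact r.Prime] (hrp : r ≠ p)
    (hr2 : r ≠ 2) (hiso : ∀ v, Q (y v) = Q v) (hy : y ^ r = 1)
    (hQ : (QuadraticMap.polarBilin Q).Nondegenerate) (heven : Even (orderOf (q : ZMod r)))
    (hirr : ∀ s : CycFactor.S r F, finrank F (LinearMap.ker (aeval y s.1)) ≤ orderOf (q : ZMod r))
    (W : Submodule F V) (hWts : TS Q W) (hWinv : ∀ v ∈ W, y v ∈ W) :
    2 * finrank F W ≤ finrank F (LinearMap.ker (aeval y (X - 1 : F[X]))) ∧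
      (¬ PlusOn Q (LinearMap.ker (aeval y (X - 1 : F[X]))) →
        2 * finrank F W + 1 ≤ finrank F (LinearMap.ker (aeval y (X - 1 : F[X])))) := by
  have hr : r.Prime := Fact.out
  have hrF : (r : F) ≠ 0 := CycFactor.natCast_ne_zero hr hrp
  have hi0 : 0 < orderOf (q : ZMod r) := CycFactor.orderOf_pos hF hr hrp
  obtain ⟨hFxnd, hCynd, hCynd', -, -, -⟩ := struct_gen Q hF hrp hr2 hiso hy hQ
  obtain ⟨k, hsum, hk⟩ := nec_decomp hF hrp hy W hWinv
  have hsym := PB_symm Q
  have hisoB := polar_iso Q hiso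
  have halt' := twB_alt hsym hisoB hr.pos hy
  have hiso' : ∀ u v, twB (PB Q) y r (y u) (y v) = twB (PB Q) y r u v := twB_iso hisoB
  have hCyinv : ∀ v ∈ LinearMap.ker (aeval y (cyclotomic r F)),
      y v ∈ LinearMap.ker (aeval y (cyclotomic r F)) :=
    fun v hv => SSClass.ker_aeval_invariant y _ v hv
  have hWti := TIon_of_TS Q hWts
  have hzero : ∀ s : CycFactor.S r F, k s = 0 := by
    intro s
    have hnd : NDon (twB (PB Q) y r)
        (LinearMap.ker (aeval y (cyclotomic r F)) ⊓ LinearMap.ker (aeval y s.1)) :=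
      NDon_ker_factor hF hrp halt' hiso' hy heven s _ hCyinv hCynd'
    have hKinv : ∀ v ∈ W ⊓ LinearMap.ker (aeval y s.1), y v ∈ W ⊓ LinearMap.ker (aeval y s.1) :=
      inf_ker_invariant W hWinv s.1
    have hle := finrank_isotropic_le halt' _ (W ⊓ LinearMap.ker (aeval y s.1)) hnd
      (le_inf (inf_le_right.trans (cyc_ker_le s)) inf_le_right)
      (TIon_twB _ hKinv (TIon_mono _ inf_le_left hWti))
    have hle2 : finrank F ↥(LinearMap.ker (aeval y (cyclotomic r F)) ⊓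
        LinearMap.ker (aeval y s.1)) ≤ orderOf (q : ZMod r) :=
      (Submodule.finrank_mono inf_le_right).trans (hirr s)
    rw [hk s] at hle
    rcases Nat.eq_zero_or_pos (k s) with h0 | hpos
    · exact h0
    · have : orderOf (q : ZMod r) ≤ orderOf (q : ZMod r) * k s :=
        Nat.le_mul_of_pos_right _ hpos
      omega
  rw [Finset.sum_eq_zero (fun s _ => hzero s), mul_zero, add_zero] at hsum
  have hts : TS Q (W ⊓ LinearMap.ker (aeval y (X - 1 : F[X]))) := TS_mono Q inf_le_left hWts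
  have hle := finrank_ts_le Q _ _ hFxnd inf_le_right hts
  rw [hsum] at hle
  refine ⟨hle, ?_⟩
  intro hm
  by_contra hcon
  push Not at hcon
  apply hm
  exact ⟨_, inf_le_right, hts, by omega⟩

end nec

end

section

open Polynomial Module Matrix
open Cfsg.Agent.Lib.H24.Elus
open Cfsg.Agent.Lib.H13
open Cfsg.Agent.Lib.H13.OSS
open Cfsg.Agent.Lib.H10.OrtNd (PB TS PlusOn PB_apply PB_symm PB_self TS_mono)

section profile

variable {F : Type*} [Field F] [Fintype F] {p q : ℕ} [Fact p.Prime] [CharP F p]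
  {V : Type*} [AddCommGroup V] [Module F V] [Module.Finite F V]
variable (Q : QuadraticForm F V) {y : End F V}

omit [Fintype F] [Module.Finite F V] in
theorem PlusOn_of_finrank_zero (U : Submodule F V) (h : finrank F U = 0) : PlusOn Q U :=
  ⟨⊥, bot_le, TS_bot Q, by rw [finrank_bot, h]⟩

/-- the type of the non-fixed part, `ord_r q` odd -/
theorem type_cyc_odd (hF : Fintype.card F = q) {r : ℕ} [Fact r.Prime] (hrp : r ≠ p)
    (hr2 : r ≠ 2) (hiso : ∀ v, Q (y v) = Q v) (hy : y ^ r = 1)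
    (hQ : (QuadraticMap.polarBilin Q).Nondegenerate) (hodd : ¬ Even (orderOf (q : ZMod r)))
    (a : ℕ)
    (ha : finrank F (LinearMap.ker (aeval y (cyclotomic r F))) = 2 * orderOf (q : ZMod r) * a) :
    PlusOn Q (LinearMap.ker (aeval y (cyclotomic r F))) := by
  classical
  have hr : r.Prime := Fact.out
  have hrF : (r : F) ≠ 0 := CycFactor.natCast_ne_zero hr hrp
  obtain ⟨hFxnd, hCynd, hCynd', horth, hsup, a₀, ha₀, hdim⟩ := struct_gen Q hF hrp hr2 hiso hy hQ
  obtain ⟨i, hi⟩ : ∃ i, i = orderOf (q : ZMod r) := ⟨_, rfl⟩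
  rw [← hi] at ha
  have hsym := PB_symm Q
  have hisoB := polar_iso Q hiso
  have halt' := twB_alt hsym hisoB hr.pos hy
  have hiso' : ∀ u v, twB (PB Q) y r (y u) (y v) = twB (PB Q) y r u v := twB_iso hisoB
  have hCyinv : ∀ v ∈ LinearMap.ker (aeval y (cyclotomic r F)),
      y v ∈ LinearMap.ker (aeval y (cyclotomic r F)) :=
    fun v hv => SSClass.ker_aeval_invariant y _ v hv
  have h6 : a * (2 * i) ≤ 2 * i * a := by
    rw [mul_comm]
  obtain ⟨W₁, hW₁le, hW₁inv, hW₁ti, hW₁d⟩ := exists_ti_cyc_odd hF hrp halt' hiso' hy hodd a _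
    le_rfl hCyinv hCynd' (by rw [← hi, ha]; exact h6)
  rw [← hi] at hW₁d
  have hti : TIon (PB Q) W₁ := TIon_of_twB hrF hr2 hy W₁ hW₁inv hW₁le hW₁ti
  exact ⟨W₁, hW₁le, TS_of_TIon_cyc Q hiso hrF W₁ hW₁inv hW₁le hti, by rw [hW₁d, ha]; ring⟩

/-- the invariants of an isometry of order `r`, `ord_r q` even -/
theorem profile_even (hF : Fintype.card F = q) {r : ℕ} [Fact r.Prime] (hrp : r ≠ p)
    (hr2 : r ≠ 2) (hiso : ∀ v, Q (y v) = Q v) (hy : y ^ r = 1)
    (hQ : (QuadraticMap.polarBilin Q).Nondegenerate) (heven : Even (orderOf (q : ZMod r)))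
    (d : ℕ) (hV : finrank F V = 2 * d) :
    ∃ a, finrank F (LinearMap.ker (aeval y (cyclotomic r F))) = orderOf (q : ZMod r) * a ∧
      finrank F (LinearMap.ker (aeval y (X - 1 : F[X]))) + orderOf (q : ZMod r) * a = 2 * d ∧
      (PlusOn Q (LinearMap.ker (aeval y (X - 1 : F[X]))) ↔ (PlusOn Q ⊤ ↔ Even a)) := by
  obtain ⟨hFxnd, hCynd, hCynd', horth, hsup, a, ha, hdim⟩ := struct_gen Q hF hrp hr2 hiso hy hQ
  have hcOf : cOf (orderOf (q : ZMod r)) = orderOf (q : ZMod r) := by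
    unfold cOf
    rw [if_pos heven]
  rw [hcOf] at ha hdim
  rw [hV] at hdim
  refine ⟨a, ha, hdim, ?_⟩
  obtain ⟨c', hc'⟩ := heven
  have h1 : orderOf (q : ZMod r) * a = 2 * (c' * a) := by rw [hc']; ring
  have htype := plus_top_iff Q hQ _ _ hFxnd hCynd horth hsup
    ⟨d - c' * a, by omega⟩ ⟨c' * a, by rw [ha, h1]; ring⟩
  have hcyc := type_cyc_even Q hF hrp hr2 hiso hy hQ ⟨c', hc'⟩ a ha
  rw [hcyc] at htype
  tauto

/-- the invariants of an isometry of order `r`, `ord_r q` odd -/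
theorem profile_odd (hF : Fintype.card F = q) {r : ℕ} [Fact r.Prime] (hrp : r ≠ p)
    (hr2 : r ≠ 2) (hiso : ∀ v, Q (y v) = Q v) (hy : y ^ r = 1)
    (hQ : (QuadraticMap.polarBilin Q).Nondegenerate) (hodd : ¬ Even (orderOf (q : ZMod r)))
    (d : ℕ) (hV : finrank F V = 2 * d) :
    ∃ a, finrank F (LinearMap.ker (aeval y (cyclotomic r F))) = 2 * orderOf (q : ZMod r) * a ∧
      finrank F (LinearMap.ker (aeval y (X - 1 : F[X]))) + 2 * orderOf (q : ZMod r) * a = 2 * d ∧
      (PlusOn Q (LinearMap.ker (aeval y (X - 1 : F[X]))) ↔ PlusOn Q ⊤) := by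
  obtain ⟨hFxnd, hCynd, hCynd', horth, hsup, a, ha, hdim⟩ := struct_gen Q hF hrp hr2 hiso hy hQ
  have hcOf : cOf (orderOf (q : ZMod r)) = 2 * orderOf (q : ZMod r) := by
    unfold cOf
    rw [if_neg hodd]
  rw [hcOf] at ha hdim
  rw [hV] at hdim
  refine ⟨a, ha, hdim, ?_⟩
  have h1 : 2 * orderOf (q : ZMod r) * a = 2 * (orderOf (q : ZMod r) * a) := by ring
  have htype := plus_top_iff Q hQ _ _ hFxnd hCynd horth hsup
    ⟨d - orderOf (q : ZMod r) * a, by omega⟩ ⟨orderOf (q : ZMod r) * a, by rw [ha, h1]; ring⟩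
  have hcyc := type_cyc_odd Q hF hrp hr2 hiso hy hQ hodd a ha
  tauto

end profile

end

end Cfsg.Agent.Lib.H13.OES
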