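import Mathlib
import Cfsg.Agent.Lib.H13.OES3
import Cfsg.Agent.Lib.H24.ElusTiTypes
import Cfsg.Agent.Lib.H24.ElusSpAtom

/-!
Test elements of orthogonal groups of even dimension, all characteristics (helper13): the hyperbolic quadratic space `hypQ` on `M × M*`,
transport of types along isometries, types of products (`PlusOn_prod_iff`), test data `IsTestData r k e μ` (a nondegenerate quadratic form
on `F^k` with an isometry of order dividing `r`, fixed space of dimension `e`, primary components of dimensions `μ`), sums, irreducible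
blocks (`block_atom`, `block_S`, `block_T`, `block_odd`), realisation on a given quadratic space (`exists_test`).
-/

set_option autoImplicit false
set_option linter.unusedSectionVars false
set_option linter.unusedVariables false
set_option linter.unusedSimpArgs false
set_option linter.deprecated false

namespace Cfsg.Agent.Lib.H13.OES

section

open Polynomial Module Matrix
open Cfsg.Agent.Lib.H24.Elus
open Cfsg.Agent.Lib.H13
open Cfsg.Agent.Lib.H13.OSS
open Cfsg.Agent.Lib.H10.OrtNd (PB TS PlusOn PB_apply PB_symm PB_self TS_mono)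

section hyp

variable {F : Type*} [Field F] {M : Type*} [AddCommGroup M] [Module F M]

/-- the bilinear form `(u, v) ↦ u.2 v.1` on `M × M*` -/
noncomputable def hypHalf : LinearMap.BilinForm F (M × Module.Dual F M) :=
  LinearMap.mk₂ F (fun u v => u.2 v.1)
    (fun u u' v => by
      simp only [Prod.snd_add, LinearMap.add_apply])
    (fun c u v => by
      simp only [Prod.smul_snd, LinearMap.smul_apply, smul_eq_mul])
    (fun u v v' => by
      simp only [Prod.fst_add, map_add])
    (fun c u v => by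
      simp only [Prod.smul_fst, map_smul, smul_eq_mul])

/-- the hyperbolic quadratic form on `M × M*` -/
noncomputable def hypQ : QuadraticForm F (M × Module.Dual F M) :=
  LinearMap.BilinMap.toQuadraticMap (hypHalf (F := F) (M := M))

theorem hypQ_apply (u : M × Module.Dual F M) : hypQ (F := F) (M := M) u = u.2 u.1 := rfl

theorem polar_hypQ (u v : M × Module.Dual F M) :
    PB (hypQ (F := F) (M := M)) u v = u.2 v.1 + v.2 u.1 := by
  rw [PB_apply]
  unfold QuadraticMap.polar
  rw [hypQ_apply, hypQ_apply, hypQ_apply]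
  simp only [Prod.fst_add, Prod.snd_add, map_add, LinearMap.add_apply]
  ring

theorem hypQ_nd [FiniteDimensional F M] :
    (QuadraticMap.polarBilin (hypQ (F := F) (M := M))).Nondegenerate := by
  apply nondeg_of_NDon_top
  intro v _ h
  have h1 : v.1 = 0 := by
    rw [← Module.forall_dual_apply_eq_zero_iff F]
    intro φ
    have := h (0, φ) Submodule.mem_top
    rw [polar_hypQ] at this
    simpa using this
  have h2 : v.2 = 0 := by
    apply LinearMap.ext
    intro b
    have := h (b, 0) Submodule.mem_top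
    rw [polar_hypQ] at this
    simpa using this
  exact Prod.ext h1 h2

theorem hypQ_iso (y y' : End F M) (h : ∀ v, y' (y v) = v) (u : M × Module.Dual F M) :
    hypQ (F := F) (M := M) (hypMap y y' u) = hypQ u := by
  rw [hypQ_apply, hypQ_apply, hypMap_apply]
  simp only [LinearMap.comp_apply, h]

/-- the double of a fixed-point-free map is fixed-point-free -/
theorem hypMap_free [FiniteDimensional F M] (y y' : End F M) (h : ∀ v, y' (y v) = v)
    (hfree : ∀ v, y v = v → v = 0) (u : M × Module.Dual F M) (hu : hypMap y y' u = u) : u = 0 := by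
  rw [hypMap_apply] at hu
  have h1 : u.1 = 0 := hfree _ (congrArg Prod.fst hu)
  have h2 : u.2 ∘ₗ y' = u.2 := congrArg Prod.snd hu
  have hinj : Function.Injective (y - (1 : End F M)) := by
    rw [← LinearMap.ker_eq_bot, LinearMap.ker_eq_bot']
    intro v hv
    apply hfree
    rw [LinearMap.sub_apply, Module.End.one_apply, sub_eq_zero] at hv
    exact hv
  have hsurj : Function.Surjective (y - (1 : End F M)) := LinearMap.injective_iff_surjective.mp hinj
  have h3 : u.2 = 0 := by
    apply LinearMap.ext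
    intro w
    obtain ⟨w', rfl⟩ := hsurj w
    rw [LinearMap.sub_apply, Module.End.one_apply, map_sub, LinearMap.zero_apply, sub_eq_zero]
    have := LinearMap.congr_fun h2 (y w')
    rw [LinearMap.comp_apply, h] at this
    exact this.symm
  exact Prod.ext h1 h3

end hyp

end

section

open Polynomial Module Matrix
open Cfsg.Agent.Lib.H24.Elus
open Cfsg.Agent.Lib.H13
open Cfsg.Agent.Lib.H13.OSS
open Cfsg.Agent.Lib.H10.OrtNd (PB TS PlusOn PB_apply PB_symm PB_self TS_mono)

section transport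

variable {F : Type*} [Field F] {V : Type*} [AddCommGroup V] [Module F V]
  {V' : Type*} [AddCommGroup V'] [Module F V']

/-- polar forms along an isometric linear map -/
theorem PB_of_isometric (Q : QuadraticForm F V) (Q' : QuadraticForm F V') (f : V' →ₗ[F] V)
    (hf : ∀ v, Q (f v) = Q' v) (u v : V') : PB Q (f u) (f v) = PB Q' u v := by
  rw [PB_apply, PB_apply]
  unfold QuadraticMap.polar
  rw [← map_add, hf, hf, hf]

/-- nondegeneracy along an isometric equivalence -/
theorem nondeg_of_equiv (Q : QuadraticForm F V) (Q' : QuadraticForm F V') (Φ : V' ≃ₗ[F] V)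
    (hΦ : ∀ v, Q (Φ v) = Q' v) (hQ : (QuadraticMap.polarBilin Q).Nondegenerate) :
    (QuadraticMap.polarBilin Q').Nondegenerate := by
  apply nondeg_of_NDon_top
  intro u _ h
  have h1 : Φ u = 0 := by
    apply NDon_top_of Q hQ (Φ u) Submodule.mem_top
    intro w _
    have := h (Φ.symm w) Submodule.mem_top
    rw [← PB_of_isometric Q Q' (Φ : V' →ₗ[F] V) hΦ] at this
    simpa using this
  exact Φ.map_eq_zero_iff.mp h1

/-- the range of an injective isometric map is nondegenerate -/
theorem NDon_range (Q : QuadraticForm F V) (Q' : QuadraticForm F V') (f : V' →ₗ[F] V)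
    (hf : ∀ v, Q (f v) = Q' v) (hinj : Function.Injective f)
    (hQ' : (QuadraticMap.polarBilin Q').Nondegenerate) : NDon (PB Q) (LinearMap.range f) := by
  rintro _ ⟨u, rfl⟩ h
  have h1 : u = 0 := by
    apply NDon_top_of Q' hQ' u Submodule.mem_top
    intro w _
    rw [← PB_of_isometric Q Q' f hf]
    exact h (f w) ⟨w, rfl⟩
  rw [h1, map_zero]

/-- the type of the range of an injective isometric map -/
theorem PlusOn_range_iff [FiniteDimensional F V'] (Q : QuadraticForm F V) (Q' : QuadraticForm F V')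
    (f : V' →ₗ[F] V) (hf : ∀ v, Q (f v) = Q' v) (hinj : Function.Injective f) :
    PlusOn Q (LinearMap.range f) ↔ PlusOn Q' ⊤ := by
  have hr : finrank F (LinearMap.range f) = finrank F V' := LinearMap.finrank_range_of_inj hinj
  constructor
  · rintro ⟨W, hWle, hW, hWd⟩
    refine ⟨W.comap f, le_top, ?_, ?_⟩
    · intro w hw
      rw [← hf]
      exact hW _ hw
    · rw [finrank_top, ← hr, ← hWd]
      congr 1
      have h1 : (W.comap f).map f = W := by
        rw [Submodule.map_comap_eq, inf_eq_right.mpr hWle]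
      have h2 := LinearEquiv.finrank_eq (Submodule.equivMapOfInjective f hinj (W.comap f))
      rw [h1] at h2
      exact h2
  · rintro ⟨W, -, hW, hWd⟩
    refine ⟨W.map f, ?_, ?_, ?_⟩
    · rintro _ ⟨w, -, rfl⟩
      exact ⟨w, rfl⟩
    · rintro _ ⟨w, hw, rfl⟩
      rw [hf]
      exact hW w hw
    · rw [hr, ← finrank_top F V', ← hWd]
      congr 1
      exact (LinearEquiv.finrank_eq (Submodule.equivMapOfInjective f hinj _)).symm

theorem PlusOn_top_of_equiv [FiniteDimensional F V'] (Q : QuadraticForm F V)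
    (Q' : QuadraticForm F V') (Φ : V' ≃ₗ[F] V) (hΦ : ∀ v, Q (Φ v) = Q' v) :
    PlusOn Q ⊤ ↔ PlusOn Q' ⊤ := by
  have h := PlusOn_range_iff Q Q' (Φ : V' →ₗ[F] V) hΦ Φ.injective
  rwa [LinearMap.range_eq_top.mpr Φ.surjective] at h

end transport

section prodtype

variable {F : Type*} [Field F] [Fintype F] {V₁ : Type*} [AddCommGroup V₁] [Module F V₁]
  [FiniteDimensional F V₁] {V₂ : Type*} [AddCommGroup V₂] [Module F V₂] [FiniteDimensional F V₂]

omit [Fintype F] [FiniteDimensional F V₁] [FiniteDimensional F V₂] in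
theorem PB_prod (Q₁ : QuadraticForm F V₁) (Q₂ : QuadraticForm F V₂) (u v : V₁ × V₂) :
    PB (Q₁.prod Q₂) u v = PB Q₁ u.1 v.1 + PB Q₂ u.2 v.2 := by
  rw [PB_apply, PB_apply, PB_apply, QuadraticMap.polar_prod]

omit [Fintype F] [FiniteDimensional F V₁] [FiniteDimensional F V₂] in
theorem nondeg_prod (Q₁ : QuadraticForm F V₁) (Q₂ : QuadraticForm F V₂)
    (h₁ : (QuadraticMap.polarBilin Q₁).Nondegenerate)
    (h₂ : (QuadraticMap.polarBilin Q₂).Nondegenerate) :
    (QuadraticMap.polarBilin (Q₁.prod Q₂)).Nondegenerate := by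
  apply nondeg_of_NDon_top
  intro u _ h
  have e1 : u.1 = 0 := by
    apply NDon_top_of Q₁ h₁ u.1 Submodule.mem_top
    intro w _
    have := h (w, 0) Submodule.mem_top
    rw [PB_prod] at this
    simpa using this
  have e2 : u.2 = 0 := by
    apply NDon_top_of Q₂ h₂ u.2 Submodule.mem_top
    intro w _
    have := h (0, w) Submodule.mem_top
    rw [PB_prod] at this
    simpa using this
  exact Prod.ext e1 e2

/-- the type of an orthogonal sum -/
theorem PlusOn_prod_iff (Q₁ : QuadraticForm F V₁) (Q₂ : QuadraticForm F V₂)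
    (h₁ : (QuadraticMap.polarBilin Q₁).Nondegenerate)
    (h₂ : (QuadraticMap.polarBilin Q₂).Nondegenerate)
    (he₁ : Even (finrank F V₁)) (he₂ : Even (finrank F V₂)) :
    PlusOn (Q₁.prod Q₂) ⊤ ↔ (PlusOn Q₁ ⊤ ↔ PlusOn Q₂ ⊤) := by
  have hf₁ : ∀ v, (Q₁.prod Q₂) (LinearMap.inl F V₁ V₂ v) = Q₁ v := by
    intro v
    simp [QuadraticMap.prod_apply]
  have hf₂ : ∀ v, (Q₁.prod Q₂) (LinearMap.inr F V₁ V₂ v) = Q₂ v := by
    intro v
    simp [QuadraticMap.prod_apply]
  have hi₁ : Function.Injective (LinearMap.inl F V₁ V₂) := LinearMap.inl_injective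
  have hi₂ : Function.Injective (LinearMap.inr F V₁ V₂) := LinearMap.inr_injective
  have hA := NDon_range (Q₁.prod Q₂) Q₁ _ hf₁ hi₁ h₁
  have hA' := NDon_range (Q₁.prod Q₂) Q₂ _ hf₂ hi₂ h₂
  have horth : ∀ u ∈ LinearMap.range (LinearMap.inl F V₁ V₂),
      ∀ w ∈ LinearMap.range (LinearMap.inr F V₁ V₂), PB (Q₁.prod Q₂) u w = 0 := by
    rintro _ ⟨u, rfl⟩ _ ⟨w, rfl⟩
    rw [PB_prod]
    simp
  have hsup : LinearMap.range (LinearMap.inl F V₁ V₂) ⊔ LinearMap.range (LinearMap.inr F V₁ V₂)
      = ⊤ := LinearMap.sup_range_inl_inr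
  have hr₁ : finrank F (LinearMap.range (LinearMap.inl F V₁ V₂)) = finrank F V₁ :=
    LinearMap.finrank_range_of_inj hi₁
  have hr₂ : finrank F (LinearMap.range (LinearMap.inr F V₁ V₂)) = finrank F V₂ :=
    LinearMap.finrank_range_of_inj hi₂
  have := plus_top_iff (Q₁.prod Q₂) (nondeg_prod Q₁ Q₂ h₁ h₂) _ _ hA hA' horth hsup
    (by rw [hr₁]; exact he₁) (by rw [hr₂]; exact he₂)
  rw [this, PlusOn_range_iff _ Q₁ _ hf₁ hi₁, PlusOn_range_iff _ Q₂ _ hf₂ hi₂]

end prodtype

end

section

open Polynomial Module Matrix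
open Cfsg.Agent.Lib.H24.Elus
open Cfsg.Agent.Lib.H13
open Cfsg.Agent.Lib.H13.OSS
open Cfsg.Agent.Lib.H10.OrtNd (PB TS PlusOn PB_apply PB_symm PB_self TS_mono)

section testdata

variable {F : Type*} [Field F] [Fintype F] [DecidableEq F]

/-- test data: a nondegenerate quadratic form on `F ^ k` with an isometry `y`, `y ^ r = 1`, whose
fixed space has dimension `e` and whose primary components have dimensions `μ` -/
def IsTestData (r k e : ℕ) (μ : CycFactor.S r F → ℕ) : Prop :=
  ∃ (Q : QuadraticForm F (Fin k → F)) (y : End F (Fin k → F)),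
    (QuadraticMap.polarBilin Q).Nondegenerate ∧ (∀ v, Q (y v) = Q v) ∧ y ^ r = 1 ∧
    finrank F (LinearMap.ker (aeval y (X - 1 : F[X]))) = e ∧
    ∀ s : CycFactor.S r F, finrank F (LinearMap.ker (aeval y s.1)) = μ s

theorem conj_pow {V V' : Type*} [AddCommGroup V] [Module F V] [AddCommGroup V'] [Module F V']
    (Φ : V ≃ₗ[F] V') (y : End F V) (n : ℕ) : (Φ.conj y) ^ n = Φ.conj (y ^ n) := by
  induction n with
  | zero =>
    rw [pow_zero, pow_zero]
    apply LinearMap.ext
    intro v
    rw [LinearEquiv.conj_apply_apply]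
    simp
  | succ n ih =>
    rw [pow_succ, pow_succ, ih]
    apply LinearMap.ext
    intro v
    rw [Module.End.mul_apply, LinearEquiv.conj_apply_apply, LinearEquiv.conj_apply_apply,
      LinearEquiv.conj_apply_apply, Module.End.mul_apply, LinearEquiv.symm_apply_apply]

/-- test data from an abstract quadratic space -/
theorem IsTestData.of_abstract {V : Type*} [AddCommGroup V] [Module F V] [FiniteDimensional F V]
    (r : ℕ) (Q : QuadraticForm F V) (y : End F V)
    (hQ : (QuadraticMap.polarBilin Q).Nondegenerate) (hiso : ∀ v, Q (y v) = Q v)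
    (hy : y ^ r = 1) (k : ℕ) (hk : finrank F V = k) (e : ℕ)
    (he : finrank F (LinearMap.ker (aeval y (X - 1 : F[X]))) = e) (μ : CycFactor.S r F → ℕ)
    (hμ : ∀ s : CycFactor.S r F, finrank F (LinearMap.ker (aeval y s.1)) = μ s) :
    IsTestData r k e μ := by
  obtain ⟨b⟩ : Nonempty (Basis (Fin k) F V) :=
    ⟨(Module.finBasis F V).reindex (finCongr hk)⟩
  obtain ⟨φ, hφ⟩ : ∃ φ : V ≃ₗ[F] (Fin k → F), φ = b.equivFun := ⟨_, rfl⟩
  obtain ⟨Q', hQ'⟩ : ∃ Q' : QuadraticForm F (Fin k → F),
      Q' = Q.comp (φ.symm : (Fin k → F) →ₗ[F] V) := ⟨_, rfl⟩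
  have hQ'app : ∀ w, Q' w = Q (φ.symm w) := fun w => by rw [hQ']; rfl
  have hint : ∀ v, φ (y v) = (φ.conj y) (φ v) := by
    intro v
    rw [LinearEquiv.conj_apply_apply, LinearEquiv.symm_apply_apply]
  refine ⟨Q', φ.conj y, ?_, ?_, ?_, ?_, ?_⟩
  · exact nondeg_of_equiv Q Q' φ.symm (fun v => (hQ'app v).symm) hQ
  · intro v
    rw [hQ'app, hQ'app, LinearEquiv.conj_apply_apply, LinearEquiv.symm_apply_apply, hiso]
  · rw [conj_pow, hy]
    apply LinearMap.ext
    intro v
    rw [LinearEquiv.conj_apply_apply]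
    simp
  · rw [← he]
    exact (SSClass.finrank_ker_eq_of_equiv y (φ.conj y) φ hint _).symm
  · intro s
    rw [← hμ]
    exact (SSClass.finrank_ker_eq_of_equiv y (φ.conj y) φ hint _).symm

theorem prodMap_pow' {V₁ V₂ : Type*} [AddCommGroup V₁] [Module F V₁] [AddCommGroup V₂]
    [Module F V₂] (y₁ : End F V₁) (y₂ : End F V₂) (n : ℕ) :
    (y₁.prodMap y₂) ^ n = (y₁ ^ n).prodMap (y₂ ^ n) := by
  induction n with
  | zero => 
    apply LinearMap.ext
    intro v
    rfl
  | succ n ih =>
    rw [pow_succ, ih, pow_succ, pow_succ]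
    apply LinearMap.ext
    intro v
    rfl

/-- orthogonal sums of test data -/
theorem IsTestData.add {r k₁ e₁ k₂ e₂ : ℕ} {μ₁ μ₂ : CycFactor.S r F → ℕ}
    (h₁ : IsTestData r k₁ e₁ μ₁) (h₂ : IsTestData r k₂ e₂ μ₂) :
    IsTestData r (k₁ + k₂) (e₁ + e₂) (fun s => μ₁ s + μ₂ s) := by
  obtain ⟨Q₁, y₁, hQ₁, hiso₁, hy₁, he₁, hμ₁⟩ := h₁
  obtain ⟨Q₂, y₂, hQ₂, hiso₂, hy₂, he₂, hμ₂⟩ := h₂
  apply IsTestData.of_abstract r (Q₁.prod Q₂) (y₁.prodMap y₂) (nondeg_prod Q₁ Q₂ hQ₁ hQ₂)
  · intro v
    rw [QuadraticMap.prod_apply, QuadraticMap.prod_apply]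
    show Q₁ (y₁ v.1) + Q₂ (y₂ v.2) = _
    rw [hiso₁, hiso₂]
  · rw [prodMap_pow', hy₁, hy₂]
    apply LinearMap.ext
    intro v
    rfl
  · rw [Module.finrank_prod, Module.finrank_fintype_fun_eq_card, Module.finrank_fintype_fun_eq_card,
      Fintype.card_fin, Fintype.card_fin]
  · rw [finrank_ker_aeval_prodMap, he₁, he₂]
  · intro s
    rw [finrank_ker_aeval_prodMap, hμ₁, hμ₂]

/-- the empty test data -/
theorem IsTestData.zero (r : ℕ) : IsTestData (F := F) r 0 0 (fun _ => 0) := by
  have hz : ∀ W : Submodule F (Fin 0 → F), finrank F W = 0 := by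
    intro W
    have h1 := Submodule.finrank_le W
    rw [Module.finrank_fintype_fun_eq_card, Fintype.card_fin] at h1
    omega
  refine ⟨0, 1, ?_, fun v => rfl, one_pow r, hz _, fun s => hz _⟩
  constructor
  · intro u _
    exact Subsingleton.elim _ _
  · intro u _
    exact Subsingleton.elim _ _

end testdata

end

section

open Polynomial Module Matrix
open Cfsg.Agent.Lib.H24.Elus
open Cfsg.Agent.Lib.H13
open Cfsg.Agent.Lib.H13.OSS
open Cfsg.Agent.Lib.H10.OrtNd (PB TS PlusOn PB_apply PB_symm PB_self TS_mono)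

section tw

variable {F : Type*} [Field F] {V : Type*} [AddCommGroup V] [Module F V]
variable {B : LinearMap.BilinForm F V} {y : End F V} {r : ℕ}

/-- nondegeneracy for the twisted form gives nondegeneracy for the form on invariant subspaces -/
theorem NDon_of_twB (hiso : ∀ u v, B (y u) (y v) = B u v) (hr : 0 < r) (hy : y ^ r = 1)
    (A : Submodule F V) (hA : ∀ v ∈ A, y v ∈ A) (h : NDon (twB B y r) A) : NDon B A := by
  intro u hu hu0
  apply h u hu
  intro v hv
  rw [twB_apply, adj_pow_pred hiso hr hy, adj_pow_pred' hiso hr hy,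
    hu0 _ (pow_mem_of_invariant y A hA (r - 1) v hv), hu0 _ (hA v hv), sub_zero]

end tw

section atoms

variable {F : Type*} [Field F] [Fintype F] [DecidableEq F] {p q : ℕ} [Fact p.Prime] [CharP F p]

/-- test data from an invariant nondegenerate subspace killed by one factor -/
theorem IsTestData.of_restrict {V : Type*} [AddCommGroup V] [Module F V] [FiniteDimensional F V]
    (r : ℕ) [Fact r.Prime] (hrp : r ≠ p) (Q : QuadraticForm F V) (z : End F V)
    (hziso : ∀ v, Q (z v) = Q v) (hzr : z ^ r = 1) (A : Submodule F V)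
    (hAinv : ∀ v ∈ A, z v ∈ A) (hAnd' : NDon (PB Q) A) (k : ℕ) (hAdim : finrank F A = k)
    (s₀ : CycFactor.S r F) (hAs : A ≤ LinearMap.ker (aeval z s₀.1)) :
    IsTestData (F := F) r k 0 (fun s => if s = s₀ then k else 0) := by
  have hr : r.Prime := Fact.out
  obtain ⟨yA, hyA⟩ : ∃ yA : End F ↥A, yA = z.restrict hAinv := ⟨_, rfl⟩
  have hx'r : yA ^ r = 1 := by
    rw [hyA]
    apply LinearMap.ext
    intro w
    apply Subtype.ext
    have h1 := aeval_restrict_apply z A hAinv (X ^ r) w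
    rw [map_pow, map_pow, aeval_X, aeval_X, hzr] at h1
    exact h1
  have hk0 : finrank F (LinearMap.ker (aeval yA s₀.1)) = k := by
    rw [hyA, finrank_ker_restrict z A hAinv s₀.1, inf_eq_left.mpr hAs, hAdim]
  have htop : LinearMap.ker (aeval yA (CycFactor.fJ (F := F) r (some s₀))) = ⊤ := by
    have h1 : finrank F (LinearMap.ker (aeval yA (CycFactor.fJ (F := F) r (some s₀)))) =
        finrank F ↥A := by
      rw [hAdim]
      exact hk0
    exact Submodule.eq_top_of_finrank_eq (K := F) (V := ↥A) h1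
  apply IsTestData.of_abstract (V := ↥A) r (restrQ Q A) yA
    (nondeg_restrQ _ hAnd') _ hx'r _ hAdim
  · have := ker_fJ_eq_bot_of_top hr hrp yA (some s₀) none (by simp) htop
    change LinearMap.ker (aeval yA (X - 1 : F[X])) = ⊥ at this
    rw [this, finrank_bot]
  · intro s
    by_cases hs : s = s₀
    · rw [if_pos hs, hs]
      exact hk0
    · rw [if_neg hs]
      have := ker_fJ_eq_bot_of_top hr hrp yA (some s₀) (some s)
        (fun h => hs (Option.some.inj h)) htop
      change LinearMap.ker (aeval yA s.1) = ⊥ at this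
      rw [this, finrank_bot]
  · intro v
    rw [restrQ_apply, restrQ_apply, hyA]
    exact hziso _

theorem adjoinRoot_finite (r : ℕ) (s : CycFactor.S r F) : Module.Finite F (AdjoinRoot s.1) :=
  (AdjoinRoot.powerBasis (CycFactor.irreducible_S s).ne_zero).finite

/-- the module `F[X]/(s)` with the multiplication by the root -/
theorem adjoinRoot_data (hF : Fintype.card F = q) (r : ℕ) [Fact r.Prime]
    (hrp : r ≠ p) (s : CycFactor.S r F) :
    finrank F (AdjoinRoot s.1) = orderOf (q : ZMod r) ∧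
    (Algebra.lmul F (AdjoinRoot s.1) (AdjoinRoot.root s.1) : End F (AdjoinRoot s.1)) ^ r = 1 ∧
    aeval (Algebra.lmul F (AdjoinRoot s.1) (AdjoinRoot.root s.1) : End F (AdjoinRoot s.1)) s.1
      = 0 ∧
    (∀ v, (Algebra.lmul F (AdjoinRoot s.1) (AdjoinRoot.root s.1) : End F (AdjoinRoot s.1)) v = v →
      v = 0) ∧ ∃ a : AdjoinRoot s.1, a ≠ 0 := by
  have hr : r.Prime := Fact.out
  have hi0 : 0 < orderOf (q : ZMod r) := CycFactor.orderOf_pos hF hr hrp
  have hs0 : s.1 ≠ 0 := (CycFactor.irreducible_S s).ne_zero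
  let pb := AdjoinRoot.powerBasis hs0
  haveI : Module.Finite F (AdjoinRoot s.1) := pb.finite
  have hMdim : finrank F (AdjoinRoot s.1) = orderOf (q : ZMod r) := by
    rw [pb.finrank, AdjoinRoot.powerBasis_dim, CycFactor.natDegree_S hF hr hrp s]
  obtain ⟨y, hy⟩ : ∃ y : End F (AdjoinRoot s.1),
      y = Algebra.lmul F (AdjoinRoot s.1) (AdjoinRoot.root s.1) := ⟨_, rfl⟩
  rw [← hy]
  have haev : ∀ g : F[X], aeval y g = Algebra.lmul F (AdjoinRoot s.1) (AdjoinRoot.mk s.1 g) := by
    intro g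
    rw [hy, aeval_algHom_apply, AdjoinRoot.aeval_eq]
  have hys : aeval y s.1 = 0 := by
    rw [haev, AdjoinRoot.mk_self, map_zero]
  have hyr : y ^ r = 1 := by
    have h1 : aeval y (X ^ r - 1 : F[X]) = 0 := by
      rw [haev, AdjoinRoot.mk_eq_zero.mpr
        ((CycFactor.dvd_S s).trans ⟨X - 1, (cyclotomic_prime_mul_X_sub_one F r).symm⟩), map_zero]
    rw [map_sub, map_pow, aeval_X, map_one, sub_eq_zero] at h1
    exact h1
  refine ⟨hMdim, hyr, hys, ?_, ?_⟩
  · intro v hv
    have htop : LinearMap.ker (aeval y (CycFactor.fJ (F := F) r (some s))) = ⊤ := by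
      show LinearMap.ker (aeval y s.1) = ⊤
      rw [hys, LinearMap.ker_zero]
    have hbot := ker_fJ_eq_bot_of_top hr hrp y (some s) none (by simp) htop
    change LinearMap.ker (aeval y (X - 1 : F[X])) = ⊥ at hbot
    have : v ∈ LinearMap.ker (aeval y (X - 1 : F[X])) := (mem_fix_iff v).mpr hv
    rw [hbot] at this
    exact (Submodule.mem_bot F).mp this
  · haveI : Nontrivial (AdjoinRoot s.1) := Module.finrank_pos_iff.mp (by rw [hMdim]; exact hi0)
    exact exists_ne 0

/-- a fixed-point-free block of dimension `2 i` -/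
theorem block_double_of (r : ℕ) [Fact r.Prime]
    {M : Type*} [AddCommGroup M] [Module F M] [FiniteDimensional F M] (y₀ : End F M)
    (hMdim : finrank F M = orderOf (q : ZMod r)) (hyr : y₀ ^ r = 1)
    (hfree : ∀ v, y₀ v = v → v = 0) :
    ∃ μ, IsTestData (F := F) r (2 * orderOf (q : ZMod r)) 0 μ := by
  have hr : r.Prime := Fact.out
  have hinv : ∀ v, (y₀ ^ (r - 1)) (y₀ v) = v := mul_pow_pred hr.pos hyr
  obtain ⟨z, hz⟩ : ∃ z : End F (M × Module.Dual F M), z = hypMap y₀ (y₀ ^ (r - 1)) := ⟨_, rfl⟩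
  have hzr : z ^ r = 1 := by
    rw [hz, hypMap_pow, hyr, ← pow_mul, mul_comm, pow_mul, hyr, one_pow]
    apply LinearMap.ext
    intro v
    rw [hypMap_apply]
    rfl
  have hVdim : finrank F (M × Module.Dual F M) = 2 * orderOf (q : ZMod r) := by
    rw [Module.finrank_prod, Subspace.dual_finrank_eq, hMdim]
    ring
  have hfix : finrank F (LinearMap.ker (aeval z (X - 1 : F[X]))) = 0 := by
    have : LinearMap.ker (aeval z (X - 1 : F[X])) = ⊥ := by
      rw [eq_bot_iff]
      intro u hu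
      rw [mem_fix_iff, hz] at hu
      rw [Submodule.mem_bot]
      exact hypMap_free y₀ _ hinv hfree u hu
    rw [this, finrank_bot]
  exact ⟨_, IsTestData.of_abstract r (hypQ (F := F) (M := M)) z hypQ_nd
    (by rw [hz]; exact hypQ_iso y₀ _ hinv) hzr _ hVdim 0 hfix _ (fun s => rfl)⟩

theorem block_double (hF : Fintype.card F = q) (r : ℕ) [Fact r.Prime]
    (hrp : r ≠ p) : ∃ μ, IsTestData (F := F) r (2 * orderOf (q : ZMod r)) 0 μ := by
  have hr : r.Prime := Fact.out
  have hcard : 0 < Fintype.card (CycFactor.S r F) := by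
    have h1 := CycFactor.card_S (F := F) hF hr hrp
    have h2 := hr.two_le
    rcases Nat.eq_zero_or_pos (Fintype.card (CycFactor.S r F)) with h | h
    · rw [h, zero_mul] at h1; omega
    · exact h
  obtain ⟨s⟩ : Nonempty (CycFactor.S r F) := Fintype.card_pos_iff.mp hcard
  haveI := adjoinRoot_finite (F := F) r s
  obtain ⟨hMdim, hyr, hys, hfree, -⟩ := adjoinRoot_data hF r hrp s
  exact block_double_of r _ hMdim hyr hfree

/-- an irreducible block of dimension `i` for `i` even, of given type -/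
theorem block_atom_of (hF : Fintype.card F = q) (r : ℕ) [Fact r.Prime]
    (hrp : r ≠ p) (hr2 : r ≠ 2) (heven : Even (orderOf (q : ZMod r))) (s₀ : CycFactor.S r F)
    {M : Type*} [AddCommGroup M] [Module F M] [FiniteDimensional F M] (y₀ : End F M)
    (hMdim : finrank F M = orderOf (q : ZMod r)) (hyr : y₀ ^ r = 1)
    (hys : aeval y₀ s₀.1 = 0)
    (hfree : ∀ v, y₀ v = v → v = 0) (a : M) (ha : a ≠ 0) :
    IsTestData (F := F) r (orderOf (q : ZMod r)) 0
      (fun s => if s = s₀ then orderOf (q : ZMod r) else 0) := by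
  have hr : r.Prime := Fact.out
  have hrF : (r : F) ≠ 0 := CycFactor.natCast_ne_zero hr hrp
  have hinv : ∀ v, (y₀ ^ (r - 1)) (y₀ v) = v := mul_pow_pred hr.pos hyr
  obtain ⟨z, hz⟩ : ∃ z : End F (M × Module.Dual F M), z = hypMap y₀ (y₀ ^ (r - 1)) := ⟨_, rfl⟩
  have hzr : z ^ r = 1 := by
    rw [hz, hypMap_pow, hyr, ← pow_mul, mul_comm, pow_mul, hyr, one_pow]
    apply LinearMap.ext
    intro v
    rw [hypMap_apply]
    rfl
  have hziso : ∀ v, hypQ (F := F) (M := M) (z v) = hypQ v := by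
    rw [hz]; exact hypQ_iso y₀ _ hinv
  have hbot : LinearMap.ker (aeval z (X - 1 : F[X])) = ⊥ := by
    rw [eq_bot_iff]
    intro u hu
    rw [mem_fix_iff, hz] at hu
    rw [Submodule.mem_bot]
    exact hypMap_free y₀ _ hinv hfree u hu
  obtain ⟨-, -, hCynd', -, hsup, -⟩ := struct_gen (hypQ (F := F) (M := M)) hF hrp hr2 hziso hzr
    hypQ_nd
  rw [hbot, bot_sup_eq] at hsup
  rw [hsup] at hCynd'
  have hsym := PB_symm (hypQ (F := F) (M := M))
  have hisoB := polar_iso (hypQ (F := F) (M := M)) hziso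
  have halt' := twB_alt hsym hisoB hr.pos hzr
  have hiso' : ∀ u v, twB (PB (hypQ (F := F) (M := M))) z r (z u) (z v) =
      twB (PB (hypQ (F := F) (M := M))) z r u v := twB_iso hisoB
  -- the homogeneous component
  obtain ⟨U, hU⟩ : ∃ U, U = LinearMap.ker (aeval z s₀.1) := ⟨_, rfl⟩
  have hUnd : NDon (twB (PB (hypQ (F := F) (M := M))) z r) U := by
    have := NDon_ker_factor hF hrp halt' hiso' hzr heven s₀ ⊤ (fun _ _ => Submodule.mem_top) hCynd'
    rwa [top_inf_eq, ← hU] at this
  have hUinv : ∀ v ∈ U, z v ∈ U := by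
    rw [hU]
    exact fun v hv => SSClass.ker_aeval_invariant z _ v hv
  have hUc : U ≤ LinearMap.ker (aeval z (cyclotomic r F)) := by
    rw [hU]
    exact cyc_ker_le s₀
  have hUne : U ≠ ⊥ := by
    rw [Submodule.ne_bot_iff]
    refine ⟨(a, 0), ?_, ?_⟩
    · rw [hU, LinearMap.mem_ker, hz]
      show aeval (y₀.prodMap (Module.Dual.transpose (R := F) (y₀ ^ (r - 1)))) s₀.1 (a, 0) = 0
      rw [aeval_prodMap_apply, hys]
      simp
    · intro h
      exact ha (congrArg Prod.fst h)
  obtain ⟨A, hAU, hAinv, hAnd, hAdim⟩ := exists_atom_even hF hrp hr2 halt' hiso' hzr heven U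
    hUinv hUnd hUc hUne
  have hAnd' : NDon (PB (hypQ (F := F) (M := M))) A :=
    NDon_of_twB hisoB hr.pos hzr A hAinv hAnd
  rw [hU] at hAU
  exact IsTestData.of_restrict r hrp (hypQ (F := F) (M := M)) z hziso hzr A hAinv hAnd' _ hAdim s₀
    hAU

/-- an irreducible block of dimension `i` for `i` even, of given type -/
theorem block_atom (hF : Fintype.card F = q) (r : ℕ) [Fact r.Prime]
    (hrp : r ≠ p) (hr2 : r ≠ 2) (heven : Even (orderOf (q : ZMod r))) (s₀ : CycFactor.S r F) :
    IsTestData (F := F) r (orderOf (q : ZMod r)) 0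
      (fun s => if s = s₀ then orderOf (q : ZMod r) else 0) := by
  haveI := adjoinRoot_finite (F := F) r s₀
  obtain ⟨hMdim, hyr, hys, hfree, a, ha⟩ := adjoinRoot_data hF r hrp s₀
  exact block_atom_of hF r hrp hr2 heven s₀ _ hMdim hyr hys hfree a ha

end atoms

end

section

open Polynomial Module Matrix
open Cfsg.Agent.Lib.H24.Elus
open Cfsg.Agent.Lib.H13
open Cfsg.Agent.Lib.H13.OSS
open Cfsg.Agent.Lib.H10.OrtNd (PB TS PlusOn PB_apply PB_symm PB_self TS_mono)

section blocks

variable {F : Type*} [Field F] [Fintype F] [DecidableEq F] {p q : ℕ} [Fact p.Prime] [CharP F p]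

theorem IsTestData.congr {r k e k' e' : ℕ} {μ μ' : CycFactor.S r F → ℕ}
    (h : IsTestData r k e μ) (hk : k = k') (he : e = e') (hμ : ∀ s, μ s = μ' s) :
    IsTestData r k' e' μ' := by
  subst hk he
  have : μ = μ' := funext hμ
  rw [← this]
  exact h

/-- `a` copies of an irreducible block -/
theorem block_S (hF : Fintype.card F = q) (r : ℕ) [Fact r.Prime]
    (hrp : r ≠ p) (hr2 : r ≠ 2) (heven : Even (orderOf (q : ZMod r))) (s₀ : CycFactor.S r F)
    (a : ℕ) : IsTestData (F := F) r (a * orderOf (q : ZMod r)) 0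
      (fun s => if s = s₀ then a * orderOf (q : ZMod r) else 0) := by
  induction a with
  | zero =>
    apply (IsTestData.zero (F := F) r).congr (by rw [zero_mul]) rfl
    intro s
    rw [zero_mul, ite_self]
  | succ a ih =>
    apply (ih.add (block_atom hF r hrp hr2 heven s₀)).congr (by ring) rfl
    intro s
    by_cases hs : s = s₀
    · rw [if_pos hs, if_pos hs, if_pos hs]
      ring
    · rw [if_neg hs, if_neg hs, if_neg hs]

/-- irreducible blocks of distinct types -/
theorem block_T (hF : Fintype.card F = q) (r : ℕ) [Fact r.Prime]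
    (hrp : r ≠ p) (hr2 : r ≠ 2) (heven : Even (orderOf (q : ZMod r)))
    (T : Finset (CycFactor.S r F)) :
    IsTestData (F := F) r (T.card * orderOf (q : ZMod r)) 0
      (fun s => if s ∈ T then orderOf (q : ZMod r) else 0) := by
  induction T using Finset.induction_on with
  | empty =>
    apply (IsTestData.zero (F := F) r).congr (by rw [Finset.card_empty, zero_mul]) rfl
    intro s
    rw [if_neg (Finset.notMem_empty s)]
  | insert s₀ T' hs₀ ih =>
    apply (ih.add (block_atom hF r hrp hr2 heven s₀)).congr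
      (by rw [Finset.card_insert_of_notMem hs₀]; ring) rfl
    intro s
    by_cases hs : s = s₀
    · rw [if_pos hs, hs, if_neg hs₀, if_pos (Finset.mem_insert_self s₀ T'), zero_add]
    · rw [if_neg hs, add_zero]
      by_cases hsT : s ∈ T'
      · rw [if_pos hsT, if_pos (Finset.mem_insert_of_mem hsT)]
      · rw [if_neg hsT, if_neg]
        intro h
        rcases Finset.mem_insert.mp h with h | h
        · exact hs h
        · exact hsT h

/-- `a` copies of a double block -/
theorem block_odd (hF : Fintype.card F = q) (r : ℕ) [Fact r.Prime]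
    (hrp : r ≠ p) (a : ℕ) :
    ∃ μ, IsTestData (F := F) r (a * (2 * orderOf (q : ZMod r))) 0 μ := by
  induction a with
  | zero =>
    exact ⟨_, (IsTestData.zero (F := F) r).congr (by rw [zero_mul]) rfl (fun _ => rfl)⟩
  | succ a ih =>
    obtain ⟨μ₁, h₁⟩ := ih
    obtain ⟨μ₂, h₂⟩ := block_double (F := F) hF r hrp
    exact ⟨_, (h₁.add h₂).congr (by ring) rfl (fun _ => rfl)⟩

end blocks

section irred

variable {F : Type*} [Field F] [Finite F]

/-- an anisotropic binary form over a finite field -/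
theorem exists_irred_gen : ∃ ζ : F, ∀ t : F, t ^ 2 + t + ζ ≠ 0 := by
  have hni : ¬ Function.Injective (fun t : F => t ^ 2 + t) := by
    intro h
    have h1 : (fun t : F => t ^ 2 + t) 0 = (fun t : F => t ^ 2 + t) (-1) := by
      simp
    have := h h1
    exact one_ne_zero (neg_eq_zero.mp this.symm)
  have hns : ¬ Function.Surjective (fun t : F => t ^ 2 + t) := fun h =>
    hni (Finite.injective_iff_surjective.mpr h)
  rw [Function.Surjective] at hns
  push Not at hns
  obtain ⟨c, hc⟩ := hns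
  refine ⟨-c, fun t h => hc t ?_⟩
  show t ^ 2 + t = c
  linear_combination h

end irred

section assemble

variable {F : Type*} [Field F] [Fintype F] [DecidableEq F] {p q : ℕ} [Fact p.Prime] [CharP F p]
  {V : Type*} [AddCommGroup V] [Module F V] [FiniteDimensional F V]

/-- a nondegenerate quadratic space of dimension `2 n`, `n ≥ 1`, of prescribed type -/
theorem exists_space_of_type (n : ℕ) (hn : 1 ≤ n) (τ : Prop) :
    ∃ (Q₂ : QuadraticForm F (Fin (2 * n) → F)),
      (QuadraticMap.polarBilin Q₂).Nondegenerate ∧ (PlusOn Q₂ ⊤ ↔ τ) := by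
  classical
  by_cases hτ : τ
  · -- plus type
    have hfr : finrank F (Fin n ⊕ Fin n → F) = 2 * n := finrank_plus_std n
    obtain ⟨b⟩ : Nonempty (Basis (Fin (2 * n)) F (Fin n ⊕ Fin n → F)) :=
      ⟨(Module.finBasis F _).reindex (finCongr hfr)⟩
    obtain ⟨φ, hφ⟩ : ∃ φ : (Fin n ⊕ Fin n → F) ≃ₗ[F] (Fin (2 * n) → F), φ = b.equivFun :=
      ⟨_, rfl⟩
    obtain ⟨Q₂, hQ₂⟩ : ∃ Q₂ : QuadraticForm F (Fin (2 * n) → F),
        Q₂ = (plusQF F n).comp (φ.symm : (Fin (2 * n) → F) →ₗ[F] _) := ⟨_, rfl⟩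
    have happ : ∀ w, Q₂ w = plusQF F n (φ.symm w) := fun w => by rw [hQ₂]; rfl
    refine ⟨Q₂, nondeg_of_equiv (plusQF F n) Q₂ φ.symm (fun v => (happ v).symm)
      (Cfsg.Agent.S0287.nondeg n), ?_⟩
    have := PlusOn_top_of_equiv (plusQF F n) Q₂ φ.symm (fun v => (happ v).symm)
    rw [← this]
    exact ⟨fun _ => hτ, fun _ => PlusOn_plusQF n⟩
  · -- minus type
    obtain ⟨ζ, hζ⟩ := exists_irred_gen (F := F)
    have hab := aniso_of_irred ζ hζ
    have hfr : finrank F (MinusClass.IM (n - 1) → F) = 2 * n := by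
      rw [finrank_minus_std]
      omega
    obtain ⟨b⟩ : Nonempty (Basis (Fin (2 * n)) F (MinusClass.IM (n - 1) → F)) :=
      ⟨(Module.finBasis F _).reindex (finCongr hfr)⟩
    obtain ⟨φ, hφ⟩ : ∃ φ : (MinusClass.IM (n - 1) → F) ≃ₗ[F] (Fin (2 * n) → F),
        φ = b.equivFun := ⟨_, rfl⟩
    obtain ⟨Q₂, hQ₂⟩ : ∃ Q₂ : QuadraticForm F (Fin (2 * n) → F),
        Q₂ = (minusQF F (n - 1) 1 ζ).comp (φ.symm : (Fin (2 * n) → F) →ₗ[F] _) := ⟨_, rfl⟩
    have happ : ∀ w, Q₂ w = minusQF F (n - 1) 1 ζ (φ.symm w) := fun w => by rw [hQ₂]; rfl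
    refine ⟨Q₂, nondeg_of_equiv (minusQF F (n - 1) 1 ζ) Q₂ φ.symm (fun v => (happ v).symm)
      (Cfsg.Agent.S0288.nondeg 1 ζ hab (n - 1)), ?_⟩
    have := PlusOn_top_of_equiv (minusQF F (n - 1) 1 ζ) Q₂ φ.symm (fun v => (happ v).symm)
    rw [← this]
    exact ⟨fun h => absurd h (not_PlusOn_minusQF (n - 1) 1 ζ hab), fun h => absurd h hτ⟩

/-- transport of test data along an isometry -/
theorem transport_test {T : Type*} [AddCommGroup T] [Module F T] [FiniteDimensional F T]
    (r : ℕ) (Q : QuadraticForm F V)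
    (hQ : (QuadraticMap.polarBilin Q).Nondegenerate) (d : ℕ) (hd : 1 ≤ d)
    (hV : finrank F V = 2 * d) (Q' : QuadraticForm F T) (y' : End F T)
    (hQ' : (QuadraticMap.polarBilin Q').Nondegenerate) (hiso' : ∀ v, Q' (y' v) = Q' v)
    (hy' : y' ^ r = 1) (hfr : finrank F T = 2 * d) (ht : PlusOn Q' ⊤ ↔ PlusOn Q ⊤) :
    ∃ y : End F V, (∀ v, Q (y v) = Q v) ∧ y ^ r = 1 ∧
      ∀ g : F[X], finrank F (LinearMap.ker (aeval y g)) = finrank F (LinearMap.ker (aeval y' g)) := by
  obtain ⟨Φ, hΦ⟩ := iso_of_same_type Q' Q hQ' hQ d hd hfr hV ht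
  have hint : ∀ v, Φ (y' v) = (Φ.conj y') (Φ v) := by
    intro v
    rw [LinearEquiv.conj_apply_apply, LinearEquiv.symm_apply_apply]
  refine ⟨Φ.conj y', ?_, ?_, ?_⟩
  · intro v
    rw [LinearEquiv.conj_apply_apply, hΦ, hiso', ← hΦ, LinearEquiv.apply_symm_apply]
  · rw [conj_pow, hy']
    apply LinearMap.ext
    intro v
    rw [LinearEquiv.conj_apply_apply]
    simp
  · intro g
    exact (SSClass.finrank_ker_eq_of_equiv y' (Φ.conj y') Φ hint _).symm

/-- realising test data on a given quadratic space -/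
theorem exists_test (r : ℕ) [Fact r.Prime] (hrp : r ≠ p) (Q : QuadraticForm F V)
    (hQ : (QuadraticMap.polarBilin Q).Nondegenerate) (d : ℕ) (hd : 1 ≤ d)
    (hV : finrank F V = 2 * d) (k n : ℕ) (hk : k + 2 * n = 2 * d) (hkeven : Even k)
    (μ : CycFactor.S r F → ℕ)
    (hb : IsTestData r k 0 μ)
    (htype : n = 0 → ∀ (Q' : QuadraticForm F (Fin k → F)) (y' : End F (Fin k → F)),
      (QuadraticMap.polarBilin Q').Nondegenerate → (∀ v, Q' (y' v) = Q' v) → y' ^ r = 1 →
      finrank F (LinearMap.ker (aeval y' (X - 1 : F[X]))) = 0 →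
      (∀ s : CycFactor.S r F, finrank F (LinearMap.ker (aeval y' s.1)) = μ s) →
      (PlusOn Q' ⊤ ↔ PlusOn Q ⊤)) :
    ∃ y : End F V, (∀ v, Q (y v) = Q v) ∧ y ^ r = 1 ∧
      finrank F (LinearMap.ker (aeval y (X - 1 : F[X]))) = 2 * n ∧
      ∀ s : CycFactor.S r F, finrank F (LinearMap.ker (aeval y s.1)) = μ s := by
  classical
  have hr : r.Prime := Fact.out
  obtain ⟨Q₁, y₁, hQ₁, hiso₁, hy₁, he₁, hμ₁⟩ := hb
  have hfr₁ : finrank F (Fin k → F) = k := by
    rw [Module.finrank_fintype_fun_eq_card, Fintype.card_fin]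
  rcases Nat.eq_zero_or_pos n with hn | hn
  · -- no fixed part
    subst hn
    obtain ⟨y, hyiso, hyr, hyk⟩ := transport_test r Q hQ d hd hV Q₁ y₁ hQ₁ hiso₁ hy₁
      (by rw [hfr₁]; omega) (htype rfl Q₁ y₁ hQ₁ hiso₁ hy₁ he₁ hμ₁)
    exact ⟨y, hyiso, hyr, by rw [hyk, he₁], fun s => by rw [hyk, hμ₁]⟩
  · obtain ⟨Q₂, hQ₂, hτ⟩ := exists_space_of_type (F := F) n hn (PlusOn Q₁ ⊤ ↔ PlusOn Q ⊤)
    have hfr₂ : finrank F (Fin (2 * n) → F) = 2 * n := by
      rw [Module.finrank_fintype_fun_eq_card, Fintype.card_fin]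
    have hone : aeval (1 : End F (Fin (2 * n) → F)) (X - 1 : F[X]) = 0 := by
      rw [map_sub, aeval_X, map_one, sub_self]
    have htop : LinearMap.ker (aeval (1 : End F (Fin (2 * n) → F))
        (CycFactor.fJ (F := F) r none)) = ⊤ := by
      show LinearMap.ker (aeval (1 : End F (Fin (2 * n) → F)) (X - 1 : F[X])) = ⊤
      rw [hone, LinearMap.ker_zero]
    have hr0 : ∀ s : CycFactor.S r F,
        finrank F (LinearMap.ker (aeval (1 : End F (Fin (2 * n) → F)) s.1)) = 0 := by
      intro s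
      have := ker_fJ_eq_bot_of_top hr hrp (1 : End F (Fin (2 * n) → F)) none (some s)
        (by simp) htop
      change LinearMap.ker (aeval (1 : End F (Fin (2 * n) → F)) s.1) = ⊥ at this
      rw [this, finrank_bot]
    have htT : PlusOn (Q₁.prod Q₂) ⊤ ↔ PlusOn Q ⊤ := by
      rw [PlusOn_prod_iff Q₁ Q₂ hQ₁ hQ₂ (by rw [hfr₁]; exact hkeven) (by rw [hfr₂]; exact ⟨n, by ring⟩),
        hτ]
      tauto
    obtain ⟨y, hyiso, hyr, hyk⟩ := transport_test r Q hQ d hd hV (Q₁.prod Q₂)
      (y₁.prodMap (1 : End F (Fin (2 * n) → F))) (nondeg_prod Q₁ Q₂ hQ₁ hQ₂)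
      (by
        intro v
        rw [QuadraticMap.prod_apply, QuadraticMap.prod_apply]
        show Q₁ (y₁ v.1) + Q₂ v.2 = _
        rw [hiso₁])
      (by
        rw [prodMap_pow', hy₁, one_pow]
        apply LinearMap.ext
        intro v
        rfl)
      (by rw [Module.finrank_prod, hfr₁, hfr₂]; exact hk) htT
    refine ⟨y, hyiso, hyr, ?_, ?_⟩
    · rw [hyk, finrank_ker_aeval_prodMap, he₁, hone, LinearMap.ker_zero, finrank_top, hfr₂, zero_add]
    · intro s
      rw [hyk, finrank_ker_aeval_prodMap, hμ₁, hr0, add_zero]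

end assemble

end

end Cfsg.Agent.Lib.H13.OES
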