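import Mathlib

/-!
The arithmetic of the conditions of Burness-Giudici for `PΩ^±_{2d}(q)` acting on totally singular `m`-spaces (helper13): `RHSe`, `RHSo`,
`Wc`, `Wo`, `arith_suff_even`, `arith_nec_even`, `arith_suff_odd`, `arith_nec_odd`.
-/

set_option autoImplicit false
set_option linter.unusedSectionVars false
set_option linter.unusedVariables false
set_option linter.unusedSimpArgs false
set_option linter.deprecated false

namespace Cfsg.Agent.Lib.H13.OES

section

section arith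

/-- the condition of the theorems for `i` even; `eb = 0` for plus type, `eb = 1` for minus type -/
def RHSe (eb i t d m : ℕ) : Prop :=
  i ≤ m ∧ t + 2 * (m / i) ≤ (2 * d) / i ∧
    ((2 * (m % i) ≤ i ∧ (2 * d) % i = 0 ∧ ((2 * d) / i + eb) % 2 = 1 ∧
        t + 2 * (m / i) < (2 * d) / i) ∨
     (2 * (m % i) ≤ (2 * d) % i ∧ ((2 * d) / i + eb) % 2 = 0) ∨
     (2 * (m % i) < (2 * d) % i ∧ ((2 * d) / i + eb) % 2 = 1))

theorem arith_suff_even (eb i t d m : ℕ) (hi : Even i) (hi0 : 0 < i) (hmd : m < d)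
    (hR : RHSe eb i t d m) (a : ℕ) (ha : i * a ≤ 2 * d)
    (hty : i * a = 2 * d → (a + eb) % 2 = 0) :
    ∃ j e, j * i + e = m ∧ (j = 0 ∨ 2 * j + t ≤ a + 1) ∧
      (2 * e + 2 + i * a ≤ 2 * d ∨ (2 * e + i * a ≤ 2 * d ∧ (a + eb) % 2 = 0)) := by
  obtain ⟨h, hh⟩ := hi
  obtain ⟨n', hn'⟩ : ∃ n', n' = 2 * d / i := ⟨_, rfl⟩
  obtain ⟨k, hk⟩ : ∃ k, k = 2 * d % i := ⟨_, rfl⟩
  obtain ⟨m', hm'⟩ : ∃ m', m' = m / i := ⟨_, rfl⟩
  obtain ⟨ℓ, hℓ⟩ : ∃ ℓ, ℓ = m % i := ⟨_, rfl⟩
  have hdn : i * n' + k = 2 * d := by rw [hn', hk]; exact Nat.div_add_mod _ _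
  have hki : k < i := by rw [hk]; exact Nat.mod_lt _ hi0
  have hdm : i * m' + ℓ = m := by rw [hm', hℓ]; exact Nat.div_add_mod _ _
  have hℓi : ℓ < i := by rw [hℓ]; exact Nat.mod_lt _ hi0
  unfold RHSe at hR
  rw [← hn', ← hk, ← hm', ← hℓ] at hR
  obtain ⟨him, htn, hcases⟩ := hR
  have hkev : k % 2 = 0 := by
    have : i * n' = 2 * (h * n') := by rw [hh]; ring
    omega
  have han : a ≤ n' := by
    by_contra hc
    push Not at hc
    have h1 : i * (n' + 1) ≤ i * a := Nat.mul_le_mul_left i hc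
    rw [Nat.mul_add, Nat.mul_one] at h1
    omega
  obtain ⟨J, hJ⟩ : ∃ J, J = (a + 1 - t) / 2 := ⟨_, rfl⟩
  rcases le_or_gt m' J with hmJ | hJm
  · -- `j = m'`
    refine ⟨m', ℓ, by rw [mul_comm]; exact hdm, by omega, ?_⟩
    rcases (by omega : a + 2 ≤ n' ∨ a + 1 = n' ∨ a = n') with h1 | h1 | h1
    · have h2 : i * (a + 2) ≤ i * n' := Nat.mul_le_mul_left i h1
      rw [Nat.mul_add] at h2
      omega
    · have h2 : i * n' = i * a + i := by rw [← h1]; ring
      omega
    · have h2 : i * n' = i * a := by rw [h1]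
      omega
  · -- `j = J`
    obtain ⟨v, hv⟩ : ∃ v, m' = J + 1 + v := ⟨m' - J - 1, by omega⟩
    obtain ⟨w, hw⟩ : ∃ w, 2 * J + t = a + w := ⟨2 * J + t - a, by omega⟩
    obtain ⟨u, hu⟩ : ∃ u, n' = t + 2 * m' + u := ⟨n' - (t + 2 * m'), by omega⟩
    have hm'' : i * m' = i * J + i + i * v := by rw [hv]; ring
    have hn'' : i * n' = i * a + i * w + 2 * i + 2 * (i * v) + i * u := by
      have : n' = a + w + 2 + 2 * v + u := by omega
      rw [this]; ring
    refine ⟨J, i + i * v + ℓ, by rw [mul_comm]; omega, by omega, ?_⟩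
    rcases (by omega : 2 ≤ w ∨ 2 ≤ u ∨ (w ≤ 1 ∧ u ≤ 1)) with h1 | h1 | ⟨h1, h1'⟩
    · have h2 : i * 2 ≤ i * w := Nat.mul_le_mul_left i h1
      omega
    · have h2 : i * 2 ≤ i * u := Nat.mul_le_mul_left i h1
      omega
    · interval_cases w <;> interval_cases u <;> simp only [mul_zero, mul_one] at hn'' <;> omega

theorem mod_unique (i j e m : ℕ) (h : j * i + e = m) (he : e < i) : e = m % i ∧ j = m / i := by
  have hi0 : 0 < i := by omega
  constructor
  · rw [← h, Nat.mul_add_mod', Nat.mod_eq_of_lt he]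
  · rw [← h, mul_comm, Nat.mul_add_div hi0, Nat.div_eq_of_lt he, add_zero]

/-- the divisibility condition on `r`, in terms of `i` (even case) -/
def Wc (eb i d m : ℕ) : Prop :=
  ∃ j, j < m ∧ ((d - j) % i = eb * (i / 2) ∨ (d - j - 1) % i = (1 - eb) * (i / 2))

theorem arith_nec_even (eb i t d m : ℕ) (heb : eb ≤ 1) (hi : Even i) (hi0 : 0 < i) (hm : 1 ≤ m)
    (hmd : m < d) (ht : 1 ≤ t) (hW : Wc eb i d m)
    (HS : ∀ a, 1 ≤ a → i * a ≤ 2 * d → (i * a = 2 * d → (a + eb) % 2 = 0) →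
      ∃ j e, j * i + e = m ∧ 2 * e + i * a ≤ 2 * d ∧
        ((a + eb) % 2 = 1 → 2 * e + 1 + i * a ≤ 2 * d))
    (HT : ∀ s, 1 ≤ s → s ≤ t → i * s ≤ 2 * d → (i * s = 2 * d → (s + eb) % 2 = 0) →
      2 * m + i * s ≤ 2 * d ∧ ((s + eb) % 2 = 1 → 2 * m + 1 + i * s ≤ 2 * d)) :
    RHSe eb i t d m := by
  obtain ⟨h, hh⟩ := hi
  have hh2 : i / 2 = h := by omega
  obtain ⟨n', hn'⟩ : ∃ n', n' = 2 * d / i := ⟨_, rfl⟩
  obtain ⟨k, hk⟩ : ∃ k, k = 2 * d % i := ⟨_, rfl⟩
  obtain ⟨m', hm'⟩ : ∃ m', m' = m / i := ⟨_, rfl⟩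
  obtain ⟨ℓ, hℓ⟩ : ∃ ℓ, ℓ = m % i := ⟨_, rfl⟩
  have hdn : i * n' + k = 2 * d := by rw [hn', hk]; exact Nat.div_add_mod _ _
  have hki : k < i := by rw [hk]; exact Nat.mod_lt _ hi0
  have hdm : i * m' + ℓ = m := by rw [hm', hℓ]; exact Nat.div_add_mod _ _
  have hℓi : ℓ < i := by rw [hℓ]; exact Nat.mod_lt _ hi0
  unfold RHSe
  rw [← hn', ← hk, ← hm', ← hℓ]
  have hkev : k % 2 = 0 := by
    have : i * n' = 2 * (h * n') := by rw [hh]; ring
    omega
  -- the case `m < i`
  have him : i ≤ m := by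
    by_contra hc
    push Not at hc
    obtain ⟨j, hjm, hj⟩ := hW
    rw [hh2] at hj
    -- any witness forces `e = m`
    have hzero : ∀ j' e', j' * i + e' = m → e' = m := by
      intro j' e' he
      rcases Nat.eq_zero_or_pos j' with h0 | h0
      · rw [h0, zero_mul, zero_add] at he; exact he
      · have : i ≤ j' * i := Nat.le_mul_of_pos_left i h0
        omega
    rcases (by omega : eb = 0 ∨ eb = 1) with rfl | rfl
    · rcases hj with hj | hj
      · -- `i ∣ d - j`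
        rw [zero_mul] at hj
        obtain ⟨x, hx⟩ := Nat.dvd_of_mod_eq_zero hj
        have hx1 : 1 ≤ x := by
          rcases Nat.eq_zero_or_pos x with h0 | h0
          · rw [h0, mul_zero] at hx; omega
          · exact h0
        have h1 : i * (2 * x) = 2 * (i * x) := by ring
        obtain ⟨j', e', he, h2, -⟩ := HS (2 * x) (by omega) (by omega) (by intro; omega)
        have := hzero j' e' he
        omega
      · -- `(d - j - 1) % i = h`
        have hx := Nat.div_add_mod (d - j - 1) i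
        rw [hj] at hx
        obtain ⟨x, hx'⟩ : ∃ x, x = (d - j - 1) / i := ⟨_, rfl⟩
        rw [← hx'] at hx
        have h1 : i * (2 * x + 1) = 2 * (i * x) + i := by ring
        obtain ⟨j', e', he, h2, h3⟩ := HS (2 * x + 1) (by omega) (by omega) (by intro; omega)
        have := hzero j' e' he
        have := h3 (by omega)
        omega
    · rcases hj with hj | hj
      · -- `(d - j) % i = h`
        rw [one_mul] at hj
        have hx := Nat.div_add_mod (d - j) i
        rw [hj] at hx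
        obtain ⟨x, hx'⟩ : ∃ x, x = (d - j) / i := ⟨_, rfl⟩
        rw [← hx'] at hx
        have h1 : i * (2 * x + 1) = 2 * (i * x) + i := by ring
        obtain ⟨j', e', he, h2, -⟩ := HS (2 * x + 1) (by omega) (by omega) (by intro; omega)
        have := hzero j' e' he
        omega
      · -- `i ∣ d - j - 1`
        rw [Nat.sub_self, zero_mul] at hj
        obtain ⟨x, hx⟩ := Nat.dvd_of_mod_eq_zero hj
        have hx1 : 1 ≤ x := by
          rcases Nat.eq_zero_or_pos x with h0 | h0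
          · rw [h0, mul_zero] at hx; omega
          · exact h0
        have h1 : i * (2 * x) = 2 * (i * x) := by ring
        obtain ⟨j', e', he, h2, h3⟩ := HS (2 * x) (by omega) (by omega) (by intro; omega)
        have := hzero j' e' he
        have := h3 (by omega)
        omega
  have hm'1 : 1 ≤ m' := by
    rw [hm']
    exact Nat.div_pos him hi0
  have him' : i ≤ i * m' := Nat.le_mul_of_pos_right i hm'1
  -- `2 m' ≤ n'`
  have h2mn : 2 * m' ≤ n' := by
    by_contra hc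
    push Not at hc
    have h1 : i * (n' + 1) ≤ i * (2 * m') := Nat.mul_le_mul_left i hc
    have h2 : i * (n' + 1) = i * n' + i := by ring
    have h3 : i * (2 * m') = 2 * (i * m') := by ring
    omega
  refine ⟨him, ?_⟩
  -- the case `t + 2 m' > n'`
  have htn : t + 2 * m' ≤ n' := by
    by_contra hc
    push Not at hc
    obtain ⟨s, hs⟩ : ∃ s, s + 2 * m' = n' + 1 := ⟨n' + 1 - 2 * m', by omega⟩
    have h1 : i * s + 2 * (i * m') = i * n' + i := by
      have : i * (s + 2 * m') = i * (n' + 1) := by rw [hs]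
      rw [Nat.mul_add, Nat.mul_add, Nat.mul_one] at this
      rw [← this]; ring
    obtain ⟨h2, -⟩ := HT s (by omega) (by omega) (by omega) (by intro; omega)
    omega
  refine ⟨htn, ?_⟩
  have hn'1 : 1 ≤ n' := by omega
  by_contra hcon
  push Not at hcon
  obtain ⟨hA, hB, hC⟩ := hcon
  rcases (by omega : (n' + eb) % 2 = 0 ∨ (n' + eb) % 2 = 1) with hpar | hpar
  · -- `ε' = +`
    have h1 : k < 2 * ℓ := by
      by_contra hc
      push Not at hc
      exact absurd hpar (hB hc)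
    obtain ⟨j', e', he, h2, -⟩ := HS n' hn'1 (by omega) (by intro; exact hpar)
    obtain ⟨h3, -⟩ := mod_unique i j' e' m he (by omega)
    omega
  · -- `ε' = -`
    have h1 : k ≤ 2 * ℓ := by
      by_contra hc
      push Not at hc
      exact absurd hpar (hC hc)
    rcases Nat.eq_zero_or_pos k with hk0 | hk0
    · -- `k = 0`
      rcases (by omega : i < 2 * ℓ ∨ 2 * ℓ ≤ i) with hℓ2 | hℓ2
      · have hn'2 : 2 ≤ n' := by omega
        have h2 : i * (n' - 1) + i = i * n' := by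
          have : n' - 1 + 1 = n' := by omega
          calc i * (n' - 1) + i = i * (n' - 1 + 1) := by ring
            _ = i * n' := by rw [this]
        obtain ⟨j', e', he, h3, -⟩ := HS (n' - 1) (by omega) (by omega) (by intro; omega)
        obtain ⟨h4, -⟩ := mod_unique i j' e' m he (by omega)
        omega
      · have h2 : t + 2 * m' = n' := by
          by_contra hc
          exact absurd (hA hℓ2 hk0 hpar) (by omega)
        have h3 : i * t + 2 * (i * m') = i * n' := by rw [← h2]; ring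
        obtain ⟨-, h4⟩ := HT t ht le_rfl (by omega) (by intro; omega)
        have := h4 (by omega)
        omega
    · obtain ⟨j', e', he, h2, h3⟩ := HS n' hn'1 (by omega) (by intro; omega)
      obtain ⟨h4, -⟩ := mod_unique i j' e' m he (by omega)
      have := h3 hpar
      omega

/-- the condition of the theorems for `i` odd -/
def RHSo (eb i d m : ℕ) : Prop :=
  i ≤ m ∧ ((eb = 0 ∧ 2 * (m % i) ≤ (2 * d) % (2 * i)) ∨
    (eb = 1 ∧ ((2 * d) % (2 * i) = 0 ∨ 2 * (m % i) < (2 * d) % (2 * i))))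

/-- the divisibility condition on `r`, in terms of `i` (odd case) -/
def Wo (eb i d m : ℕ) : Prop := ∃ j, j < m ∧ i ∣ d - j - eb

theorem arith_suff_odd (eb i d m : ℕ) (heb : eb ≤ 1) (hi0 : 0 < i) (hmd : m < d)
    (hR : RHSo eb i d m) (a : ℕ) (ha : 2 * i * a ≤ 2 * d) (hty : 2 * i * a = 2 * d → eb = 0) :
    ∃ j e, j * i + e = m ∧ j ≤ a ∧
      (2 * e + 2 + 2 * i * a ≤ 2 * d ∨ (2 * e + 2 * i * a ≤ 2 * d ∧ eb = 0)) := by
  obtain ⟨A, hA⟩ : ∃ A, A = d / i := ⟨_, rfl⟩
  obtain ⟨κ, hκ⟩ : ∃ κ, κ = d % i := ⟨_, rfl⟩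
  obtain ⟨m', hm'⟩ : ∃ m', m' = m / i := ⟨_, rfl⟩
  obtain ⟨ℓ, hℓ⟩ : ∃ ℓ, ℓ = m % i := ⟨_, rfl⟩
  have hdn : i * A + κ = d := by rw [hA, hκ]; exact Nat.div_add_mod _ _
  have hκi : κ < i := by rw [hκ]; exact Nat.mod_lt _ hi0
  have hdm : i * m' + ℓ = m := by rw [hm', hℓ]; exact Nat.div_add_mod _ _
  have hℓi : ℓ < i := by rw [hℓ]; exact Nat.mod_lt _ hi0
  unfold RHSo at hR
  rw [Nat.mul_mod_mul_left, ← hκ, ← hℓ] at hR
  obtain ⟨him, hcases⟩ := hR
  have h2ia : 2 * i * a = 2 * (i * a) := by ring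
  rw [h2ia] at ha hty ⊢
  have haA : a ≤ A := by
    by_contra hc
    push Not at hc
    have h1 : i * (A + 1) ≤ i * a := Nat.mul_le_mul_left i hc
    rw [Nat.mul_add, Nat.mul_one] at h1
    omega
  rcases le_or_gt m' a with hma | ham
  · refine ⟨m', ℓ, by rw [mul_comm]; exact hdm, hma, ?_⟩
    rcases (by omega : a + 1 ≤ A ∨ a = A) with h1 | h1
    · have h2 : i * (a + 1) ≤ i * A := Nat.mul_le_mul_left i h1
      rw [Nat.mul_add, Nat.mul_one] at h2
      omega
    · rw [← h1] at hdn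
      omega
  · obtain ⟨v, hv⟩ : ∃ v, m' = a + 1 + v := ⟨m' - a - 1, by omega⟩
    have h1 : i * m' = i * a + i + i * v := by rw [hv]; ring
    refine ⟨a, i + i * v + ℓ, by rw [mul_comm]; omega, le_rfl, ?_⟩
    omega

theorem arith_nec_odd (eb i d m : ℕ) (heb : eb ≤ 1) (hi0 : 0 < i) (hm : 1 ≤ m) (hmd : m < d)
    (hW : Wo eb i d m)
    (HO : ∀ a, 1 ≤ a → 2 * i * a ≤ 2 * d → (2 * i * a = 2 * d → eb = 0) →
      ∃ j e, j * i + e = m ∧ 2 * e + 2 * i * a ≤ 2 * d ∧
        (eb = 1 → 2 * e + 1 + 2 * i * a ≤ 2 * d)) :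
    RHSo eb i d m := by
  obtain ⟨A, hA⟩ : ∃ A, A = d / i := ⟨_, rfl⟩
  obtain ⟨κ, hκ⟩ : ∃ κ, κ = d % i := ⟨_, rfl⟩
  obtain ⟨m', hm'⟩ : ∃ m', m' = m / i := ⟨_, rfl⟩
  obtain ⟨ℓ, hℓ⟩ : ∃ ℓ, ℓ = m % i := ⟨_, rfl⟩
  have hdn : i * A + κ = d := by rw [hA, hκ]; exact Nat.div_add_mod _ _
  have hκi : κ < i := by rw [hκ]; exact Nat.mod_lt _ hi0
  have hdm : i * m' + ℓ = m := by rw [hm', hℓ]; exact Nat.div_add_mod _ _
  have hℓi : ℓ < i := by rw [hℓ]; exact Nat.mod_lt _ hi0
  unfold RHSo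
  rw [Nat.mul_mod_mul_left, ← hκ, ← hℓ]
  have him : i ≤ m := by
    by_contra hc
    push Not at hc
    obtain ⟨j, hjm, x, hx⟩ := hW
    have hzero : ∀ j' e', j' * i + e' = m → e' = m := by
      intro j' e' he
      rcases Nat.eq_zero_or_pos j' with h0 | h0
      · rw [h0, zero_mul, zero_add] at he; exact he
      · have : i ≤ j' * i := Nat.le_mul_of_pos_left i h0
        omega
    have hx1 : 1 ≤ x := by
      rcases Nat.eq_zero_or_pos x with h0 | h0
      · rw [h0, mul_zero] at hx; omega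
      · exact h0
    have h1 : 2 * i * x = 2 * (i * x) := by ring
    obtain ⟨j', e', he, h2, h3⟩ := HO x hx1 (by omega) (by intro; omega)
    have := hzero j' e' he
    rcases (by omega : eb = 0 ∨ eb = 1) with h0 | h0
    · omega
    · have := h3 h0
      omega
  refine ⟨him, ?_⟩
  have hA1 : 1 ≤ A := by
    rw [hA]
    exact Nat.div_pos (by omega) hi0
  have h1 : 2 * i * A = 2 * (i * A) := by ring
  rcases (by omega : eb = 0 ∨ eb = 1) with h0 | h0
  · left
    refine ⟨h0, ?_⟩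
    obtain ⟨j', e', he, h2, -⟩ := HO A hA1 (by omega) (by intro; omega)
    obtain ⟨h4, -⟩ := mod_unique i j' e' m he (by omega)
    omega
  · right
    refine ⟨h0, ?_⟩
    rcases Nat.eq_zero_or_pos κ with hk0 | hk0
    · left; omega
    · right
      obtain ⟨j', e', he, h2, h3⟩ := HO A hA1 (by omega) (by intro; omega)
      obtain ⟨h4, -⟩ := mod_unique i j' e' m he (by omega)
      have := h3 h0
      omega

end arith

end

end Cfsg.Agent.Lib.H13.OES
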