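import Mathlib
import Cfsg.Agent.Lib.H13.OES4
import Cfsg.Agent.Lib.H13.OES5

/-!
Isometries of odd prime order `r ≠ p` of a quadratic space of dimension `2 d` fixing totally singular `m`-spaces (helper13): witnesses
(`wit_S`, `wit_T`, `wit_O`), the abstract main theorem `main_odd`, the conditions on `ord_r q` from the number of totally singular
subspaces (`wcond_main`).
-/

set_option autoImplicit false
set_option linter.unusedSectionVars false
set_option linter.unusedVariables false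
set_option linter.unusedSimpArgs false
set_option linter.deprecated false

namespace Cfsg.Agent.Lib.H13.OES

section

open Polynomial Module Matrix
open Cfsg.Agent.Lib.H24.Elus
open Cfsg.Agent.Lib.H13
open Cfsg.Agent.Lib.H13.OSS
open Cfsg.Agent.Lib.H10.OrtNd (PB TS PlusOn PB_apply PB_symm PB_self TS_mono)

section wit

variable {F : Type*} [Field F] [Fintype F] [DecidableEq F] {p q : ℕ} [Fact p.Prime] [CharP F p]
  {V : Type*} [AddCommGroup V] [Module F V] [Module.Finite F V]
variable (Q : QuadraticForm F V)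

/-- all isometries of order `r` fix a totally singular `m`-space -/
def AllFixTS (r m : ℕ) : Prop :=
  ∀ y : End F V, (∀ v, Q (y v) = Q v) → y ^ r = 1 → y ≠ 1 →
    ∃ W : Submodule F V, finrank F W = m ∧ TS Q W ∧ ∀ v ∈ W, y v ∈ W

omit [Fintype F] [DecidableEq F] [Module.Finite F V] in
theorem ne_one_of_fix_lt' (y : End F V) (k : ℕ) (hk : k < finrank F V)
    (h : finrank F (LinearMap.ker (aeval y (X - 1 : F[X]))) = k) : y ≠ 1 := by
  intro h1
  rw [h1, map_sub, aeval_X, map_one, sub_self, LinearMap.ker_zero, finrank_top] at h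
  omega

/-- witnesses concentrated on one irreducible factor, `ord_r q` even -/
theorem wit_S (hF : Fintype.card F = q) (r : ℕ) [Fact r.Prime] (hrp : r ≠ p) (hr2 : r ≠ 2)
    (hQ : (QuadraticMap.polarBilin Q).Nondegenerate) (d m : ℕ) (hd : 1 ≤ d)
    (hV : finrank F V = 2 * d) (eb : ℕ) (heb : eb ≤ 1) (hε : PlusOn Q ⊤ ↔ eb = 0)
    (heven : Even (orderOf (q : ZMod r))) (hall : AllFixTS Q r m)
    (a : ℕ) (ha1 : 1 ≤ a) (ha : orderOf (q : ZMod r) * a ≤ 2 * d)
    (hty : orderOf (q : ZMod r) * a = 2 * d → (a + eb) % 2 = 0) :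
    ∃ j e, j * orderOf (q : ZMod r) + e = m ∧ 2 * e + orderOf (q : ZMod r) * a ≤ 2 * d ∧
      ((a + eb) % 2 = 1 → 2 * e + 1 + orderOf (q : ZMod r) * a ≤ 2 * d) := by
  have hr : r.Prime := Fact.out
  have hi0 : 0 < orderOf (q : ZMod r) := CycFactor.orderOf_pos hF hr hrp
  obtain ⟨i, hi⟩ : ∃ i, i = orderOf (q : ZMod r) := ⟨_, rfl⟩
  have hcard : 0 < Fintype.card (CycFactor.S r F) := by
    have h1 := CycFactor.card_S (F := F) hF hr hrp
    have h2 := hr.two_le
    rcases Nat.eq_zero_or_pos (Fintype.card (CycFactor.S r F)) with h | h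
    · rw [h, zero_mul] at h1; omega
    · exact h
  obtain ⟨s₀⟩ : Nonempty (CycFactor.S r F) := Fintype.card_pos_iff.mp hcard
  obtain ⟨c', hc'⟩ := heven
  have hia : orderOf (q : ZMod r) * a = 2 * (c' * a) := by rw [hc']; ring
  have hiapos : 0 < orderOf (q : ZMod r) * a := Nat.mul_pos hi0 ha1
  have hEvenIff : ∀ a', (Even a' ↔ a' % 2 = 0) := fun a' => Nat.even_iff
  obtain ⟨y, hyiso, hyr, hyfix, hyk⟩ := exists_test (p := p) r hrp Q hQ d hd hV
    (a * orderOf (q : ZMod r)) (d - c' * a) (by rw [mul_comm a]; omega)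
    ⟨c' * a, by rw [mul_comm a, hia]; ring⟩ _ (block_S hF r hrp hr2 ⟨c', hc'⟩ s₀ a)
    (by
      intro hn Q' y' hQ' hiso' hy' he' hμ'
      obtain ⟨a', ha', hdim', htype'⟩ := profile_even Q' hF hrp hr2 hiso' hy' hQ' ⟨c', hc'⟩
        (c' * a) (by
          rw [Module.finrank_fintype_fun_eq_card, Fintype.card_fin, mul_comm a, hia])
      rw [he', zero_add] at hdim'
      have haa : a' = a := by
        have : orderOf (q : ZMod r) * a' = orderOf (q : ZMod r) * a := by rw [hdim', hia]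
        exact Nat.eq_of_mul_eq_mul_left hi0 this
      have hplus := PlusOn_of_finrank_zero Q' _ he'
      rw [haa] at htype'
      have h1 := htype'.mp hplus
      rw [h1, hε, hEvenIff]
      have := hty (by omega)
      omega)
  have hyne : y ≠ 1 := ne_one_of_fix_lt' y _ (by rw [hV]; omega) hyfix
  obtain ⟨W, hWd, hWts, hWinv⟩ := hall y hyiso hyr hyne
  obtain ⟨k, e, hke, he2, hem⟩ := nec_fix Q hF hrp hr2 hyiso hyr hQ W hWts hWinv
  obtain ⟨a', ha', hdim', htype'⟩ := profile_even Q hF hrp hr2 hyiso hyr hQ ⟨c', hc'⟩ d hV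
  rw [hyfix] at hdim' he2 hem
  have haa : a' = a := by
    have : orderOf (q : ZMod r) * a' = orderOf (q : ZMod r) * a := by omega
    exact Nat.eq_of_mul_eq_mul_left hi0 this
  rw [haa, hε, hEvenIff] at htype'
  refine ⟨k, e, by rw [hke, hWd], by omega, ?_⟩
  intro hpar
  have : ¬ PlusOn Q (LinearMap.ker (aeval y (X - 1 : F[X]))) := by
    rw [htype']
    omega
  have := hem this
  omega

/-- witnesses with distinct irreducible factors, `ord_r q` even -/
theorem wit_T (hF : Fintype.card F = q) (r : ℕ) [Fact r.Prime] (hrp : r ≠ p) (hr2 : r ≠ 2)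
    (hQ : (QuadraticMap.polarBilin Q).Nondegenerate) (d m : ℕ) (hd : 1 ≤ d)
    (hV : finrank F V = 2 * d) (eb : ℕ) (heb : eb ≤ 1) (hε : PlusOn Q ⊤ ↔ eb = 0)
    (heven : Even (orderOf (q : ZMod r))) (hall : AllFixTS Q r m)
    (s : ℕ) (hs1 : 1 ≤ s) (hst : s ≤ Fintype.card (CycFactor.S r F))
    (ha : orderOf (q : ZMod r) * s ≤ 2 * d)
    (hty : orderOf (q : ZMod r) * s = 2 * d → (s + eb) % 2 = 0) :
    2 * m + orderOf (q : ZMod r) * s ≤ 2 * d ∧
      ((s + eb) % 2 = 1 → 2 * m + 1 + orderOf (q : ZMod r) * s ≤ 2 * d) := by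
  have hr : r.Prime := Fact.out
  have hi0 : 0 < orderOf (q : ZMod r) := CycFactor.orderOf_pos hF hr hrp
  obtain ⟨T, -, hT⟩ := Finset.exists_subset_card_eq
    (s := (Finset.univ : Finset (CycFactor.S r F))) (n := s) (by rw [Finset.card_univ]; exact hst)
  obtain ⟨c', hc'⟩ := heven
  have hia : orderOf (q : ZMod r) * s = 2 * (c' * s) := by rw [hc']; ring
  have hiapos : 0 < orderOf (q : ZMod r) * s := Nat.mul_pos hi0 hs1
  have hEvenIff : ∀ a', (Even a' ↔ a' % 2 = 0) := fun a' => Nat.even_iff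
  have hb := block_T hF r hrp hr2 ⟨c', hc'⟩ T
  rw [hT] at hb
  obtain ⟨y, hyiso, hyr, hyfix, hyk⟩ := exists_test (p := p) r hrp Q hQ d hd hV
    (s * orderOf (q : ZMod r)) (d - c' * s) (by rw [mul_comm s]; omega)
    ⟨c' * s, by rw [mul_comm s, hia]; ring⟩ _ hb
    (by
      intro hn Q' y' hQ' hiso' hy' he' hμ'
      obtain ⟨a', ha', hdim', htype'⟩ := profile_even Q' hF hrp hr2 hiso' hy' hQ' ⟨c', hc'⟩
        (c' * s) (by
          rw [Module.finrank_fintype_fun_eq_card, Fintype.card_fin, mul_comm s, hia])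
      rw [he', zero_add] at hdim'
      have haa : a' = s := by
        have : orderOf (q : ZMod r) * a' = orderOf (q : ZMod r) * s := by rw [hdim', hia]
        exact Nat.eq_of_mul_eq_mul_left hi0 this
      have hplus := PlusOn_of_finrank_zero Q' _ he'
      rw [haa] at htype'
      have h1 := htype'.mp hplus
      rw [h1, hε, hEvenIff]
      have := hty (by omega)
      omega)
  have hyne : y ≠ 1 := ne_one_of_fix_lt' y _ (by rw [hV]; omega) hyfix
  obtain ⟨W, hWd, hWts, hWinv⟩ := hall y hyiso hyr hyne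
  have hirr : ∀ s' : CycFactor.S r F, finrank F (LinearMap.ker (aeval y s'.1)) ≤
      orderOf (q : ZMod r) := by
    intro s'
    rw [hyk]
    split_ifs
    · exact le_rfl
    · exact Nat.zero_le _
  obtain ⟨he2, hem⟩ := nec_types Q hF hrp hr2 hyiso hyr hQ ⟨c', hc'⟩ hirr W hWts hWinv
  obtain ⟨a', ha', hdim', htype'⟩ := profile_even Q hF hrp hr2 hyiso hyr hQ ⟨c', hc'⟩ d hV
  rw [hyfix] at hdim' he2 hem
  rw [hWd] at he2 hem
  have haa : a' = s := by
    have : orderOf (q : ZMod r) * a' = orderOf (q : ZMod r) * s := by omega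
    exact Nat.eq_of_mul_eq_mul_left hi0 this
  rw [haa, hε, hEvenIff] at htype'
  refine ⟨by omega, ?_⟩
  intro hpar
  have : ¬ PlusOn Q (LinearMap.ker (aeval y (X - 1 : F[X]))) := by
    rw [htype']
    omega
  have := hem this
  omega

/-- witnesses, `ord_r q` odd -/
theorem wit_O (hF : Fintype.card F = q) (r : ℕ) [Fact r.Prime] (hrp : r ≠ p) (hr2 : r ≠ 2)
    (hQ : (QuadraticMap.polarBilin Q).Nondegenerate) (d m : ℕ) (hd : 1 ≤ d)
    (hV : finrank F V = 2 * d) (eb : ℕ) (heb : eb ≤ 1) (hε : PlusOn Q ⊤ ↔ eb = 0)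
    (hodd : ¬ Even (orderOf (q : ZMod r))) (hall : AllFixTS Q r m)
    (a : ℕ) (ha1 : 1 ≤ a) (ha : 2 * orderOf (q : ZMod r) * a ≤ 2 * d)
    (hty : 2 * orderOf (q : ZMod r) * a = 2 * d → eb = 0) :
    ∃ j e, j * orderOf (q : ZMod r) + e = m ∧ 2 * e + 2 * orderOf (q : ZMod r) * a ≤ 2 * d ∧
      (eb = 1 → 2 * e + 1 + 2 * orderOf (q : ZMod r) * a ≤ 2 * d) := by
  have hr : r.Prime := Fact.out
  have hi0 : 0 < orderOf (q : ZMod r) := CycFactor.orderOf_pos hF hr hrp
  have hia : 2 * orderOf (q : ZMod r) * a = 2 * (orderOf (q : ZMod r) * a) := by ring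
  have hiapos : 0 < orderOf (q : ZMod r) * a := Nat.mul_pos hi0 ha1
  obtain ⟨μ, hb⟩ := block_odd (F := F) hF r hrp a
  obtain ⟨y, hyiso, hyr, hyfix, hyk⟩ := exists_test (p := p) r hrp Q hQ d hd hV
    (a * (2 * orderOf (q : ZMod r))) (d - orderOf (q : ZMod r) * a)
    (by
      have : a * (2 * orderOf (q : ZMod r)) = 2 * (orderOf (q : ZMod r) * a) := by ring
      omega)
    ⟨orderOf (q : ZMod r) * a, by ring⟩ μ hb
    (by
      intro hn Q' y' hQ' hiso' hy' he' hμ'
      obtain ⟨a', ha', hdim', htype'⟩ := profile_odd Q' hF hrp hr2 hiso' hy' hQ' hodd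
        (orderOf (q : ZMod r) * a) (by
          rw [Module.finrank_fintype_fun_eq_card, Fintype.card_fin]; ring)
      have hplus := PlusOn_of_finrank_zero Q' _ he'
      have h1 := htype'.mp hplus
      have := hty (by omega)
      rw [hε]
      exact ⟨fun _ => this, fun _ => h1⟩)
  have hyne : y ≠ 1 := ne_one_of_fix_lt' y _ (by rw [hV]; omega) hyfix
  obtain ⟨W, hWd, hWts, hWinv⟩ := hall y hyiso hyr hyne
  obtain ⟨k, e, hke, he2, hem⟩ := nec_fix Q hF hrp hr2 hyiso hyr hQ W hWts hWinv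
  obtain ⟨a', ha', hdim', htype'⟩ := profile_odd Q hF hrp hr2 hyiso hyr hQ hodd d hV
  rw [hyfix] at he2 hem
  rw [hε] at htype'
  refine ⟨k, e, by rw [hke, hWd], by omega, ?_⟩
  intro hpar
  have : ¬ PlusOn Q (LinearMap.ker (aeval y (X - 1 : F[X]))) := by
    rw [htype']
    omega
  have := hem this
  omega

end wit

end

section

open Polynomial Module Matrix
open Cfsg.Agent.Lib.H24.Elus
open Cfsg.Agent.Lib.H13
open Cfsg.Agent.Lib.H13.OSS
open Cfsg.Agent.Lib.H10.OrtNd (PB TS PlusOn PB_apply PB_symm PB_self TS_mono)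

section main

variable {F : Type*} [Field F] [Fintype F] [DecidableEq F] {p q : ℕ} [Fact p.Prime] [CharP F p]
  {V : Type*} [AddCommGroup V] [Module F V] [Module.Finite F V]
variable (Q : QuadraticForm F V)

/-- the main theorem for odd primes `r ≠ p`, on an abstract quadratic space -/
theorem main_odd (hF : Fintype.card F = q) (r : ℕ) [Fact r.Prime] (hrp : r ≠ p) (hr2 : r ≠ 2)
    (hQ : (QuadraticMap.polarBilin Q).Nondegenerate) (d m : ℕ) (hd : 1 ≤ d) (hm : 1 ≤ m)
    (hmd : m < d) (hV : finrank F V = 2 * d) (eb : ℕ) (heb : eb ≤ 1)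
    (hε : PlusOn Q ⊤ ↔ eb = 0)
    (hWc : Even (orderOf (q : ZMod r)) → Wc eb (orderOf (q : ZMod r)) d m)
    (hWo : ¬ Even (orderOf (q : ZMod r)) → Wo eb (orderOf (q : ZMod r)) d m) :
    AllFixTS Q r m ↔
      ((Even (orderOf (q : ZMod r)) ∧
          RHSe eb (orderOf (q : ZMod r)) (Fintype.card (CycFactor.S r F)) d m) ∨
        (¬ Even (orderOf (q : ZMod r)) ∧ RHSo eb (orderOf (q : ZMod r)) d m)) := by
  have hr : r.Prime := Fact.out
  have hi0 : 0 < orderOf (q : ZMod r) := CycFactor.orderOf_pos hF hr hrp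
  have hcard : 1 ≤ Fintype.card (CycFactor.S r F) := by
    have h1 := CycFactor.card_S (F := F) hF hr hrp
    have h2 := hr.two_le
    rcases Nat.eq_zero_or_pos (Fintype.card (CycFactor.S r F)) with h | h
    · rw [h, zero_mul] at h1; omega
    · exact h
  have hEvenIff : ∀ a', (Even a' ↔ a' % 2 = 0) := fun a' => Nat.even_iff
  constructor
  · intro hall
    by_cases heven : Even (orderOf (q : ZMod r))
    · left
      refine ⟨heven, arith_nec_even eb _ _ d m heb heven hi0 hm hmd hcard (hWc heven) ?_ ?_⟩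
      · intro a ha1 ha hty
        exact wit_S Q hF r hrp hr2 hQ d m hd hV eb heb hε heven hall a ha1 ha hty
      · intro s hs1 hst ha hty
        exact wit_T Q hF r hrp hr2 hQ d m hd hV eb heb hε heven hall s hs1 hst ha hty
    · right
      refine ⟨heven, arith_nec_odd eb _ d m heb hi0 hm hmd (hWo heven) ?_⟩
      intro a ha1 ha hty
      exact wit_O Q hF r hrp hr2 hQ d m hd hV eb heb hε heven hall a ha1 ha hty
  · intro hR y hyiso hyr _
    obtain ⟨ε, hεb⟩ : ∃ ε : Bool, (ε = true ↔ eb = 0) := ⟨decide (eb = 0), by simp⟩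
    have hε' : PlusOn Q ⊤ ↔ ε = true := by rw [hε, hεb]
    rcases hR with ⟨heven, hR⟩ | ⟨hodd, hR⟩
    · obtain ⟨a, ha, hdim, htype⟩ := profile_even Q hF hrp hr2 hyiso hyr hQ heven d hV
      have hty : orderOf (q : ZMod r) * a = 2 * d → (a + eb) % 2 = 0 := by
        intro h
        have h0 : finrank F (LinearMap.ker (aeval y (X - 1 : F[X]))) = 0 := by omega
        have h1 := htype.mp (PlusOn_of_finrank_zero Q _ h0)
        rw [hε, hEvenIff] at h1
        omega
      obtain ⟨j, e, hje, hj, he⟩ := arith_suff_even eb _ _ d m heven hi0 hmd hR a (by omega) hty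
      apply suff_even Q hF hrp hr2 hyiso hyr hQ d m hV ε hε' heven a ha j e hje hj
      rcases he with he | ⟨he, hpar⟩
      · left; exact he
      · right
        refine ⟨he, ?_⟩
        rw [hεb, hEvenIff]
        omega
    · obtain ⟨a, ha, hdim, htype⟩ := profile_odd Q hF hrp hr2 hyiso hyr hQ hodd d hV
      have hty : 2 * orderOf (q : ZMod r) * a = 2 * d → eb = 0 := by
        intro h
        have h0 : finrank F (LinearMap.ker (aeval y (X - 1 : F[X]))) = 0 := by omega
        have h1 := htype.mp (PlusOn_of_finrank_zero Q _ h0)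
        exact hε.mp h1
      obtain ⟨j, e, hje, hj, he⟩ := arith_suff_odd eb _ d m heb hi0 hmd hR a (by omega) hty
      apply suff_odd Q hF hrp hr2 hyiso hyr hQ d m hV ε hε' hodd a ha j e hje hj
      rcases he with he | ⟨he, hpar⟩
      · left; exact he
      · right
        exact ⟨he, hεb.mpr hpar⟩

end main

end

section

open Polynomial Module Matrix
open Cfsg.Agent.Lib.H24.Elus
open Cfsg.Agent.Lib.H13
open Cfsg.Agent.Lib.H13.OSS
open Cfsg.Agent.Lib.H10.OrtNd (PB TS PlusOn PB_apply PB_symm PB_self TS_mono)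

section wcond

variable {F : Type*} [Field F] [Fintype F] {p q : ℕ} [Fact p.Prime] [CharP F p]
  {V : Type*} [AddCommGroup V] [Module F V] [Module.Finite F V]
variable (Q : QuadraticForm F V)

/-- the conditions on `ord_r q` for a prime `r` dividing the number of totally singular
`m`-spaces -/
theorem wcond_main (hF : Fintype.card F = q)
    (hQ : (QuadraticMap.polarBilin Q).Nondegenerate) (d m : ℕ) (hmd : m < d)
    (hV : finrank F V = 2 * d) (eb : ℕ) (heb : eb ≤ 1) (hε : PlusOn Q ⊤ ↔ eb = 0)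
    (r : ℕ) [Fact r.Prime] (h : r ∣ Nat.card (TsSub Q m)) :
    r ≠ p ∧ (r ≠ 2 → (Even (orderOf (q : ZMod r)) → Wc eb (orderOf (q : ZMod r)) d m) ∧
      (¬ Even (orderOf (q : ZMod r)) → Wo eb (orderOf (q : ZMod r)) d m)) := by
  have hr : r.Prime := Fact.out
  obtain ⟨ε, hεb⟩ : ∃ ε : Bool, (ε = true ↔ eb = 0) := ⟨decide (eb = 0), by simp⟩
  have hε' : PlusOn Q ⊤ ↔ ε = true := by rw [hε, hεb]
  obtain ⟨j, hjm, hj⟩ := exists_of_dvd_card_tsSub Q hF hQ d hV ε hε' m hmd.le r hr h
  obtain ⟨hrp, h1, h2⟩ := wcond_of_dvd (p := p) hF (d - j) (by omega) ε r hj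
  refine ⟨hrp, ?_⟩
  intro hr2
  have hi0 : 0 < orderOf (q : ZMod r) := by
    classical
    exact CycFactor.orderOf_pos hF hr hrp
  have hone : ∀ x : ℕ, (q : ZMod r) ^ x = 1 → x % orderOf (q : ZMod r) = 0 := by
    intro x hx
    exact Nat.mod_eq_zero_of_dvd (orderOf_dvd_of_pow_eq_one hx)
  have hneg := pow_eq_neg_one_iff q r hr2 hi0
  have hsub : d - j - 1 = d - j - 1 := rfl
  rcases (by omega : eb = 0 ∨ eb = 1) with h0 | h0
  · have hεt : ε = true := hεb.mpr h0
    constructor
    · intro heven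
      refine ⟨j, hjm, ?_⟩
      rw [h0, zero_mul, Nat.sub_zero, one_mul]
      rcases h1 hεt with h3 | h3
      · left; exact hone _ h3
      · right; exact ((hneg _).mp h3).2
    · intro hodd
      refine ⟨j, hjm, ?_⟩
      rw [h0, Nat.sub_zero]
      rcases h1 hεt with h3 | h3
      · exact orderOf_dvd_of_pow_eq_one h3
      · exact absurd ((hneg _).mp h3).1 hodd
  · have hεf : ε = false := by
      cases ε with
      | false => rfl
      | true => have := hεb.mp rfl; omega
    constructor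
    · intro heven
      refine ⟨j, hjm, ?_⟩
      rw [h0, one_mul, Nat.sub_self, zero_mul]
      rcases h2 hεf with h3 | h3
      · left; exact ((hneg _).mp h3).2
      · right; exact hone _ h3
    · intro hodd
      refine ⟨j, hjm, ?_⟩
      rw [h0]
      rcases h2 hεf with h3 | h3
      · exact absurd ((hneg _).mp h3).1 hodd
      · exact orderOf_dvd_of_pow_eq_one h3

end wcond

end

end Cfsg.Agent.Lib.H13.OES
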