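import Mathlib
import Cfsg.Agent.Lib.H13.OSS2
import Cfsg.Agent.Lib.H24.ElusTiTypes
import Cfsg.Agent.Lib.H11.OrthReal2
import Cfsg.Agent.Lib.H11.PSLGraph11
import Cfsg.Agent.Lib.H13.AutPO1
import Cfsg.Agent.S0286

/-!
Test elements of `Ω_{2d+1}(q)` (helper13): `exists_odd_coords` (coordinates in which a nondegenerate quadratic form of dimension
`2 d + 1` is a multiple of the standard one), `exists_std_of_isometry` (an isometry of finite order of an abstract space as a matrix in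
the isometry group of `quadFormOdd`), `exists_omega_of_sp` (from a symplectic matrix of odd prime order `r` without fixed vectors to an
element of `Ω_{2d+1}(q)` with the same kernel dimensions and a fixed space of prescribed odd dimension, via the twist).
-/

set_option autoImplicit false
set_option linter.unusedSectionVars false
set_option linter.unusedVariables false
set_option linter.unusedSimpArgs false
set_option linter.deprecated false

namespace Cfsg.Agent.Lib.H13.OSS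

section

open Polynomial Module Matrix
open Cfsg.Agent.Lib.H24.Elus
open Cfsg.Agent.Lib.H13

section std

variable {F : Type*} [Field F] [Fintype F] {V : Type*} [AddCommGroup V] [Module F V]
  [Module.Finite F V]

/-- coordinates in which a nondegenerate quadratic form of dimension `2 d + 1` over a finite field
is a multiple of the standard one -/
theorem exists_odd_coords (Q : QuadraticForm F V)
    (hQ : (QuadraticMap.polarBilin Q).Nondegenerate) (d : ℕ) (hV : finrank F V = 2 * d + 1) :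
    ∃ (E : V ≃ₗ[F] (Unit ⊕ (Fin d ⊕ Fin d) → F)) (dd : F), dd ≠ 0 ∧
      ∀ v, Q v = dd * Cfsg.quadFormOdd d F (E v) := by
  classical
  have hcard : Fintype.card (Unit ⊕ (Fin d ⊕ Fin d)) = 2 * d + 1 := by
    simp; ring
  have hcard' : Fintype.card (Fin (finrank F V)) = Fintype.card (Unit ⊕ (Fin d ⊕ Fin d)) := by
    rw [Fintype.card_fin, hV, hcard]
  obtain ⟨b⟩ : Nonempty (Basis (Unit ⊕ (Fin d ⊕ Fin d)) F V) :=
    ⟨(Module.finBasis F V).reindex (Fintype.equivOfCardEq hcard')⟩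
  obtain ⟨φ, hφ⟩ : ∃ φ : V ≃ₗ[F] (Unit ⊕ (Fin d ⊕ Fin d) → F), φ = b.equivFun := ⟨_, rfl⟩
  obtain ⟨Q', hQ'⟩ : ∃ Q' : QuadraticForm F (Unit ⊕ (Fin d ⊕ Fin d) → F),
      Q' = Q.comp (φ.symm : (Unit ⊕ (Fin d ⊕ Fin d) → F) →ₗ[F] V) := ⟨_, rfl⟩
  have hQ'app : ∀ w, Q' w = Q (φ.symm w) := fun w => by rw [hQ']; rfl
  have hpol : ∀ u w, QuadraticMap.polar (⇑Q') u w = QuadraticMap.polar (⇑Q) (φ.symm u) (φ.symm w) := by
    intro u w
    unfold QuadraticMap.polar
    rw [hQ'app, hQ'app, hQ'app, map_add]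
  have hQ'nd : (QuadraticMap.polarBilin Q').Nondegenerate := by
    constructor
    · intro u hu
      have h1 : φ.symm u = 0 := by
        apply hQ.1
        intro z
        have := hu (φ z)
        rw [QuadraticMap.polarBilin_apply_apply, hpol, φ.symm_apply_apply] at this
        rw [QuadraticMap.polarBilin_apply_apply]
        exact this
      exact φ.symm.map_eq_zero_iff.mp h1
    · intro u hu
      have h1 : φ.symm u = 0 := by
        apply hQ.2
        intro z
        have := hu (φ z)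
        rw [QuadraticMap.polarBilin_apply_apply, hpol, φ.symm_apply_apply] at this
        rw [QuadraticMap.polarBilin_apply_apply]
        exact this
      exact φ.symm.map_eq_zero_iff.mp h1
  obtain ⟨e, dd, hdd, he⟩ := Cfsg.Agent.Lib.H11.PSLGraph.exists_odd_form Q' hQ'nd d hcard
  refine ⟨φ.trans e, dd, hdd, ?_⟩
  intro v
  rw [LinearEquiv.trans_apply, ← he, hQ'app, φ.symm_apply_apply]

/-- an isometry of finite order of an abstract nondegenerate quadratic space of dimension `2 d + 1`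
as an element of the isometry group of the standard form -/
theorem exists_std_of_isometry (Q : QuadraticForm F V)
    (hQ : (QuadraticMap.polarBilin Q).Nondegenerate) (d : ℕ) (hV : finrank F V = 2 * d + 1)
    (ψ : End F V) (n : ℕ) (hn : 0 < n) (hψn : ψ ^ n = 1) (hψ : ∀ v, Q (ψ v) = Q v) :
    ∃ x : GL (Unit ⊕ (Fin d ⊕ Fin d)) F, x ∈ Cfsg.isometryGroup F (Cfsg.quadFormOdd d F) ∧
      x ^ n = 1 ∧
      ∀ p : F[X], finrank F (LinearMap.ker (aeval (Matrix.toLin'
        (x : Matrix (Unit ⊕ (Fin d ⊕ Fin d)) (Unit ⊕ (Fin d ⊕ Fin d)) F)) p)) =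
          finrank F (LinearMap.ker (aeval ψ p)) := by
  classical
  obtain ⟨E, dd, hdd, hEQ⟩ := exists_odd_coords Q hQ d hV
  -- `ψ` as a linear equivalence
  have h1 : ψ * ψ ^ (n - 1) = 1 := by rw [← pow_succ', Nat.sub_add_cancel hn, hψn]
  have h2 : ψ ^ (n - 1) * ψ = 1 := by rw [← pow_succ, Nat.sub_add_cancel hn, hψn]
  obtain ⟨ψe, hψe⟩ : ∃ ψe : V ≃ₗ[F] V, ∀ v, ψe v = ψ v :=
    ⟨LinearEquiv.ofLinear ψ (ψ ^ (n - 1)) h1 h2, fun v => rfl⟩
  obtain ⟨g, hg⟩ : ∃ g : (Unit ⊕ (Fin d ⊕ Fin d) → F) ≃ₗ[F] (Unit ⊕ (Fin d ⊕ Fin d) → F),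
      g = E.symm.trans (ψe.trans E) := ⟨_, rfl⟩
  have hgapp : ∀ w, g w = E (ψ (E.symm w)) := by
    intro w
    rw [hg, LinearEquiv.trans_apply, LinearEquiv.trans_apply, hψe]
  have hgQ : ∀ w, Cfsg.Agent.S0286.oddQF F d (g w) = Cfsg.Agent.S0286.oddQF F d w := by
    intro w
    rw [Cfsg.Agent.S0286.oddQF_apply, Cfsg.Agent.S0286.oddQF_apply]
    have h3 := hEQ (ψ (E.symm w))
    rw [hψ, hEQ, E.apply_symm_apply, ← hgapp] at h3
    exact (mul_left_cancel₀ hdd h3).symm
  obtain ⟨x, hxmem, hmv⟩ : ∃ x : GL (Unit ⊕ (Fin d ⊕ Fin d)) F,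
      x ∈ Cfsg.isometryGroup F ⇑(Cfsg.Agent.S0286.oddQF F d) ∧
      ∀ w, (x : Matrix (Unit ⊕ (Fin d ⊕ Fin d)) (Unit ⊕ (Fin d ⊕ Fin d)) F) *ᵥ w = g w :=
    ⟨_, (AutPO.elOfEquiv (Cfsg.Agent.S0286.oddQF F d) g hgQ).2,
      fun w => AutPO.elOfEquiv_mulVec _ g hgQ w⟩
  rw [Cfsg.Agent.S0286.coe_oddQF] at hxmem
  have hlin : ∀ w, Matrix.toLin' (x : Matrix (Unit ⊕ (Fin d ⊕ Fin d)) (Unit ⊕ (Fin d ⊕ Fin d)) F) w = E (ψ (E.symm w)) := by
    intro w
    rw [Matrix.toLin'_apply, hmv, hgapp]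
  have hpow : ∀ (k : ℕ) w, ((Matrix.toLin' (x : Matrix (Unit ⊕ (Fin d ⊕ Fin d)) (Unit ⊕ (Fin d ⊕ Fin d)) F)) ^ k) w =
        E ((ψ ^ k) (E.symm w)) := by
    intro k
    induction k with
    | zero =>
      intro w
      rw [pow_zero, pow_zero, Module.End.one_apply, Module.End.one_apply, E.apply_symm_apply]
    | succ k ih =>
      intro w
      rw [pow_succ', Module.End.mul_apply, ih, hlin, E.symm_apply_apply, pow_succ',
        Module.End.mul_apply]
  refine ⟨x, hxmem, ?_, ?_⟩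
  · apply Units.ext
    rw [Units.val_pow_eq_pow_val, Units.val_one]
    apply Matrix.toLin'.injective
    apply LinearMap.ext
    intro w
    rw [Matrix.toLin'_pow, hpow, hψn, Module.End.one_apply, E.apply_symm_apply, Matrix.toLin'_one]
    rfl
  · intro p
    symm
    apply SSClass.finrank_ker_eq_of_equiv ψ _ E
    intro v
    rw [hlin, E.symm_apply_apply]

end std

end

section

open Polynomial Module Matrix
open Cfsg.Agent.Lib.H24.Elus
open Cfsg.Agent.Lib.H13

section test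

variable {F : Type*} [Field F] [Fintype F] {p q : ℕ} [Fact p.Prime] [CharP F p]

/-- the dot product as a bilinear form -/
noncomputable def dotB (k : ℕ) : LinearMap.BilinForm F (Fin k → F) :=
  Matrix.toBilin' (1 : Matrix (Fin k) (Fin k) F)

omit [Fintype F] in
theorem dotB_apply (k : ℕ) (u w : Fin k → F) : dotB k u w = u ⬝ᵥ w := by
  unfold dotB
  rw [Matrix.toBilin'_apply', Matrix.one_mulVec]

theorem prodMap_id_pow {V₁ V₂ : Type*} [AddCommGroup V₁] [Module F V₁] [AddCommGroup V₂]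
    [Module F V₂] (y₁ : End F V₁) (n : ℕ) (v : V₁ × V₂) :
    ((y₁.prodMap (LinearMap.id : End F V₂)) ^ n) v = ((y₁ ^ n) v.1, v.2) := by
  induction n generalizing v with
  | zero => rfl
  | succ n ih =>
    rw [pow_succ, Module.End.mul_apply, ih, pow_succ, Module.End.mul_apply]
    rfl

/-- from a symplectic matrix of order `r` without fixed vectors to an element of `Ω_{2d+1}(q)` with
the same kernel dimensions and a fixed space of dimension `k` -/
theorem exists_omega_of_sp [DecidableEq F] (h2 : (2 : F) ≠ 0) (r : ℕ) [Fact r.Prime]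
    (hrp : r ≠ p) (hr2 : r ≠ 2) (d' k d : ℕ) (hd : 2 * d' + k = 2 * d + 1) (hd1 : 1 ≤ d)
    (x₀ : ↥(Matrix.symplecticGroup (Fin d') F))
    (hx₀ : (x₀ : Matrix (Fin d' ⊕ Fin d') (Fin d' ⊕ Fin d') F) ^ r = 1)
    (hfix : finrank F (LinearMap.ker (aeval (Matrix.toLin'
      (x₀ : Matrix (Fin d' ⊕ Fin d') (Fin d' ⊕ Fin d') F)) (X - 1 : F[X]))) = 0) :
    ∃ x : GL (Unit ⊕ (Fin d ⊕ Fin d)) F, x ∈ Cfsg.Geo.omegaGL (Cfsg.quadFormOdd d F) ∧
      x ^ r = 1 ∧
      (∀ s : CycFactor.S r F, finrank F (LinearMap.ker (aeval (Matrix.toLin'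
        (x : Matrix (Unit ⊕ (Fin d ⊕ Fin d)) (Unit ⊕ (Fin d ⊕ Fin d)) F)) s.1)) =
          finrank F (LinearMap.ker (aeval (Matrix.toLin'
            (x₀ : Matrix (Fin d' ⊕ Fin d') (Fin d' ⊕ Fin d') F)) s.1))) ∧
      finrank F (LinearMap.ker (aeval (Matrix.toLin'
        (x : Matrix (Unit ⊕ (Fin d ⊕ Fin d)) (Unit ⊕ (Fin d ⊕ Fin d)) F)) (X - 1 : F[X]))) = k := by
  classical
  have hr : r.Prime := Fact.out
  have hrF : (r : F) ≠ 0 := CycFactor.natCast_ne_zero hr hrp
  obtain ⟨y₁, hy₁def⟩ : ∃ y₁ : End F (Fin d' ⊕ Fin d' → F),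
      y₁ = Matrix.toLin' (x₀ : Matrix (Fin d' ⊕ Fin d') (Fin d' ⊕ Fin d') F) := ⟨_, rfl⟩
  rw [← hy₁def] at hfix
  have hy₁ : y₁ ^ r = 1 := by
    rw [hy₁def, ← Matrix.toLin'_pow, hx₀, Matrix.toLin'_one]
    rfl
  have hiso₀ : ∀ u v, stdB d' (y₁ u) (y₁ v) = stdB (F := F) d' u v := by
    rw [hy₁def]
    exact sp_iso d' x₀
  have halt₀ := stdB_alt (F := F) d'
  have htopinv : ∀ v ∈ (⊤ : Submodule F (Fin d' ⊕ Fin d' → F)), y₁ v ∈ (⊤ : Submodule F _) :=
    fun _ _ => Submodule.mem_top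
  have hCytop : LinearMap.ker (aeval y₁ (cyclotomic r F)) = ⊤ := by
    apply Submodule.eq_top_of_finrank_eq
    have hsplit := finrank_split_fix hrF hy₁ ⊤ htopinv
    rw [top_inf_eq, top_inf_eq, finrank_top, hfix, zero_add] at hsplit
    exact hsplit
  obtain ⟨B₁, hB₁⟩ : ∃ B₁ : LinearMap.BilinForm F (Fin d' ⊕ Fin d' → F),
      B₁ = twB (stdB d') y₁ r := ⟨_, rfl⟩
  have hsym₁ : ∀ u v, B₁ u v = B₁ v u := by
    rw [hB₁]
    exact twB_symm_of_alt halt₀ hiso₀ hr.pos hy₁
  have hiso₁ : ∀ u v, B₁ (y₁ u) (y₁ v) = B₁ u v := by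
    rw [hB₁]
    exact twB_iso hiso₀
  have hnd₁ : NDon B₁ ⊤ := by
    rw [hB₁]
    exact NDon_twB hrF hr2 hy₁ ⊤ htopinv (by rw [hCytop]) (stdB_NDon_top d')
  -- the total space
  obtain ⟨B, hB⟩ : ∃ B : LinearMap.BilinForm F ((Fin d' ⊕ Fin d' → F) × (Fin k → F)),
      B = prodB B₁ (dotB k) := ⟨_, rfl⟩
  have hBapp : ∀ u v, B u v = B₁ u.1 v.1 + u.2 ⬝ᵥ v.2 := by
    intro u v
    rw [hB, prodB_apply, dotB_apply]
  have hBsym : ∀ u v, B u v = B v u := by
    intro u v
    rw [hBapp, hBapp, hsym₁, dotProduct_comm]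
  have hBnd : ∀ v, (∀ w, B v w = 0) → v = 0 := by
    intro v hv
    have h1 : v.1 = 0 := by
      apply hnd₁ v.1 Submodule.mem_top
      intro w _
      have := hv (w, 0)
      rw [hBapp] at this
      simpa using this
    have h3 : v.2 = 0 := by
      apply dotProduct_eq_zero
      intro w
      have := hv (0, w)
      rw [hBapp] at this
      simpa using this
    exact Prod.ext h1 h3
  obtain ⟨Q, hQ⟩ : ∃ Q : QuadraticForm F ((Fin d' ⊕ Fin d' → F) × (Fin k → F)),
      Q = B.toQuadraticMap := ⟨_, rfl⟩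
  have hQapp : ∀ v, Q v = B v v := fun v => by rw [hQ]; rfl
  have hpol : ∀ u v, QuadraticMap.polar (⇑Q) u v = 2 * B u v := by
    intro u v
    rw [hQ, LinearMap.BilinMap.polar_toQuadraticMap, hBsym v u]
    ring
  have hQnd : (QuadraticMap.polarBilin Q).Nondegenerate := by
    constructor
    · intro u hu
      apply hBnd
      intro w
      have := hu w
      rw [QuadraticMap.polarBilin_apply_apply, hpol] at this
      rcases mul_eq_zero.mp this with h | h
      · exact absurd h h2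
      · exact h
    · intro u hu
      apply hBnd
      intro w
      have := hu w
      rw [QuadraticMap.polarBilin_apply_apply, hpol, hBsym] at this
      rcases mul_eq_zero.mp this with h | h
      · exact absurd h h2
      · exact h
  have hV : finrank F ((Fin d' ⊕ Fin d' → F) × (Fin k → F)) = 2 * d + 1 := by
    rw [Module.finrank_prod, finrank_std, Module.finrank_fintype_fun_eq_card, Fintype.card_fin, hd]
  obtain ⟨ψ, hψdef⟩ : ∃ ψ : End F ((Fin d' ⊕ Fin d' → F) × (Fin k → F)),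
      ψ = y₁.prodMap (LinearMap.id : End F (Fin k → F)) := ⟨_, rfl⟩
  have hψr : ψ ^ r = 1 := by
    apply LinearMap.ext
    intro v
    rw [hψdef, prodMap_id_pow, hy₁]
    rfl
  have hψQ : ∀ v, Q (ψ v) = Q v := by
    intro v
    rw [hQapp, hQapp, hBapp, hBapp, hψdef]
    show B₁ (y₁ v.1) (y₁ v.1) + v.2 ⬝ᵥ v.2 = _
    rw [hiso₁]
  obtain ⟨x, hxmem, hxr, hker⟩ := exists_std_of_isometry Q hQnd d hV ψ r hr.pos hψr hψQ
  have hodd : Odd r := by
    rcases hr.eq_two_or_odd' with h | h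
    · exact absurd h hr2
    · exact h
  have hcard : 2 ≤ Fintype.card (Unit ⊕ (Fin d ⊕ Fin d)) := by
    simp; omega
  have hΩ := Cfsg.Agent.Lib.H11.OrthReal.mem_omegaGL_of_odd_order (Cfsg.Agent.S0286.oddQF F d)
    (Cfsg.Agent.S0286.nondeg h2 d) h2 hcard x
    (by rw [Cfsg.Agent.S0286.coe_oddQF]; exact hxmem) r hodd hxr
  rw [Cfsg.Agent.S0286.coe_oddQF] at hΩ
  have hidtop : LinearMap.ker (aeval (LinearMap.id : End F (Fin k → F))
      (CycFactor.fJ (F := F) r none)) = ⊤ := by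
    show LinearMap.ker (aeval (LinearMap.id : End F (Fin k → F)) (X - 1 : F[X])) = ⊤
    have h1 : aeval (LinearMap.id : End F (Fin k → F)) (X - 1 : F[X]) = 0 := by
      rw [map_sub, aeval_X, map_one]
      exact sub_self _
    rw [h1, LinearMap.ker_zero]
  refine ⟨x, hΩ, hxr, ?_, ?_⟩
  · intro s
    rw [hker, hψdef, finrank_ker_aeval_prodMap, ← hy₁def]
    have := ker_fJ_eq_bot_of_top hr hrp (LinearMap.id : End F (Fin k → F)) none (some s)
      (by simp) hidtop
    change LinearMap.ker (aeval (LinearMap.id : End F (Fin k → F)) s.1) = ⊥ at this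
    rw [this, finrank_bot, add_zero]
  · rw [hker, hψdef, finrank_ker_aeval_prodMap, hfix, zero_add]
    change finrank F ↥(LinearMap.ker (aeval (LinearMap.id : End F (Fin k → F))
      (CycFactor.fJ (F := F) r none))) = k
    rw [hidtop, finrank_top, Module.finrank_fintype_fun_eq_card, Fintype.card_fin]

end test

end

end Cfsg.Agent.Lib.H13.OSS
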