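import Mathlib
import Cfsg.Agent.Lib.H13.OSS3

/-!
`Ω_{2d+1}(q)` on totally singular `m`-spaces, necessity for odd `r` (helper13): `oddB` (polar form of `quadFormOdd` as a bilinear form),
`TIon_oddB_iff`, `oddB_iso`, `AllFix`, `ts_nec_basic`, `ts_nec_types`.
-/

set_option autoImplicit false
set_option linter.unusedSectionVars false
set_option linter.unusedVariables false
set_option linter.unusedSimpArgs false
set_option linter.deprecated false

namespace Cfsg.Agent.Lib.H13.OSS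

section

open Polynomial Module Matrix
open Cfsg.Agent.Lib.H24.Elus
open Cfsg.Agent.Lib.H13

section concrete

variable {F : Type*} [Field F]

/-- the polar form of the standard quadratic form in odd dimension -/
noncomputable def oddB (d : ℕ) : LinearMap.BilinForm F (Unit ⊕ (Fin d ⊕ Fin d) → F) :=
  QuadraticMap.polarBilin (Cfsg.Agent.S0286.oddQF F d)

theorem oddB_apply (d : ℕ) (u v : Unit ⊕ (Fin d ⊕ Fin d) → F) :
    oddB d u v = QuadraticMap.polar (Cfsg.quadFormOdd d F) u v := by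
  unfold oddB
  rw [QuadraticMap.polarBilin_apply_apply, Cfsg.Agent.S0286.coe_oddQF]

theorem oddB_sym (d : ℕ) (u v : Unit ⊕ (Fin d ⊕ Fin d) → F) : oddB d u v = oddB d v u := by
  rw [oddB_apply, oddB_apply, QuadraticMap.polar_comm]

theorem oddB_self (d : ℕ) (v : Unit ⊕ (Fin d ⊕ Fin d) → F) :
    oddB d v v = 2 * Cfsg.quadFormOdd d F v := by
  unfold oddB
  rw [QuadraticMap.polarBilin_apply_apply, QuadraticMap.polar_self, Cfsg.Agent.S0286.oddQF_apply]
  simp

theorem oddB_NDon_top (h2 : (2 : F) ≠ 0) (d : ℕ) : NDon (oddB (F := F) d) ⊤ :=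
  fun u _ h => (Cfsg.Agent.S0286.nondeg h2 d).1 u (fun w => h w Submodule.mem_top)

theorem TIon_oddB_iff (h2 : (2 : F) ≠ 0) (d : ℕ)
    (W : Submodule F (Unit ⊕ (Fin d ⊕ Fin d) → F)) :
    TIon (oddB d) W ↔ ∀ w ∈ W, Cfsg.quadFormOdd d F w = 0 := by
  constructor
  · intro h w hw
    have := h w hw w hw
    rw [oddB_self] at this
    rcases mul_eq_zero.mp this with h' | h'
    · exact absurd h' h2
    · exact h'
  · intro h u hu v hv
    rw [oddB_apply]
    unfold QuadraticMap.polar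
    rw [h _ (W.add_mem hu hv), h u hu, h v hv]
    ring

theorem oddB_iso (d : ℕ) (x : GL (Unit ⊕ (Fin d ⊕ Fin d)) F)
    (hx : x ∈ Cfsg.isometryGroup F (Cfsg.quadFormOdd d F)) (u v : Unit ⊕ (Fin d ⊕ Fin d) → F) :
    oddB d (Matrix.toLin' (x : Matrix (Unit ⊕ (Fin d ⊕ Fin d)) (Unit ⊕ (Fin d ⊕ Fin d)) F) u)
      (Matrix.toLin' (x : Matrix (Unit ⊕ (Fin d ⊕ Fin d)) (Unit ⊕ (Fin d ⊕ Fin d)) F) v) =
        oddB d u v := by
  have h := (Cfsg.Agent.Lib.H11.IsoReindex.mem_iso_iff' _ x).mp hx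
  rw [oddB_apply, oddB_apply]
  unfold QuadraticMap.polar
  rw [← map_add, Matrix.toLin'_apply, Matrix.toLin'_apply, Matrix.toLin'_apply, h, h, h]

theorem mem_iso_of_mem_omegaGL {ι : Type} [Fintype ι] [DecidableEq ι] (Q : (ι → F) → F)
    (x : GL ι F) (hx : x ∈ Cfsg.Geo.omegaGL Q) : x ∈ Cfsg.isometryGroup F Q := by
  obtain ⟨g, -, rfl⟩ := hx
  exact g.2

theorem finrank_oddV (d : ℕ) : finrank F (Unit ⊕ (Fin d ⊕ Fin d) → F) = 2 * d + 1 := by
  rw [Module.finrank_fintype_fun_eq_card]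
  simp
  ring

theorem map_le_iff {ι : Type} [Fintype ι] [DecidableEq ι] (W : Submodule F (ι → F))
    (M : Matrix ι ι F) : W.map (Matrix.toLin' M) ≤ W ↔ ∀ v ∈ W, Matrix.toLin' M v ∈ W := by
  rw [Submodule.map_le_iff_le_comap]
  rfl

theorem toLin_pow_eq_one {ι : Type} [Fintype ι] [DecidableEq ι] (x : GL ι F) (n : ℕ)
    (hx : x ^ n = 1) : (Matrix.toLin' (x : Matrix ι ι F)) ^ n = 1 := by
  rw [← Matrix.toLin'_pow, ← Units.val_pow_eq_pow_val, hx, Units.val_one, Matrix.toLin'_one]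
  rfl

end concrete

end

section

open Polynomial Module Matrix
open Cfsg.Agent.Lib.H24.Elus
open Cfsg.Agent.Lib.H13

section nec

variable {F : Type*} [Field F] [Fintype F] {p q : ℕ} [Fact p.Prime] [CharP F p]

/-- the hypothesis "every element of order `r` of `Ω` fixes a totally singular `m`-space" -/
def AllFix (d m r : ℕ) : Prop :=
  ∀ x : GL (Unit ⊕ (Fin d ⊕ Fin d)) F, x ∈ Cfsg.Geo.omegaGL (Cfsg.quadFormOdd d F) →
    orderOf x = r →
    ∃ W : Submodule F (Unit ⊕ (Fin d ⊕ Fin d) → F), finrank F ↥W = m ∧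
      (∀ w ∈ W, Cfsg.quadFormOdd d F w = 0) ∧
      W.map (Matrix.toLin'
        (x : Matrix (Unit ⊕ (Fin d ⊕ Fin d)) (Unit ⊕ (Fin d ⊕ Fin d)) F)) ≤ W

omit [Fintype F] in
theorem ne_one_of_fix_lt (d : ℕ) (x : GL (Unit ⊕ (Fin d ⊕ Fin d)) F) (k : ℕ) (hk : k < 2 * d + 1)
    (hfix : finrank F (LinearMap.ker (aeval (Matrix.toLin'
      (x : Matrix (Unit ⊕ (Fin d ⊕ Fin d)) (Unit ⊕ (Fin d ⊕ Fin d)) F)) (X - 1 : F[X]))) = k) :
    x ≠ 1 := by
  intro h1
  rw [h1, Units.val_one, Matrix.toLin'_one] at hfix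
  have h2 : aeval (LinearMap.id : End F (Unit ⊕ (Fin d ⊕ Fin d) → F)) (X - 1 : F[X]) = 0 := by
    rw [map_sub, aeval_X, map_one]
    exact sub_self _
  rw [h2, LinearMap.ker_zero, finrank_top, finrank_oddV] at hfix
  omega

theorem ts_nec_basic [DecidableEq F] (hq : Fintype.card F = q) (h2 : (2 : F) ≠ 0) (d m : ℕ)
    (hd : 1 ≤ d) (hmd : m ≤ d)
    (r : ℕ) [Fact r.Prime] (hr2 : r ≠ 2) (hrp : r ≠ p)
    (j : ℕ) (hj : j < m) (hjr : orderOf (q : ZMod r) ∣ 2 * (d - j))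
    (h : AllFix (F := F) d m r) :
    orderOf (q : ZMod r) ≤ m ∧
      2 * (m % orderOf (q : ZMod r)) < (2 * d + 1) % cOf (orderOf (q : ZMod r)) := by
  have hr : r.Prime := Fact.out
  have hrF : (r : F) ≠ 0 := CycFactor.natCast_ne_zero hr hrp
  have hrefl : ∀ u v, oddB (F := F) d u v = 0 → oddB d v u = 0 :=
    fun u v h => by rw [oddB_sym]; exact h
  have hi0 : 0 < orderOf (q : ZMod r) := CycFactor.orderOf_pos hq hr hrp
  obtain ⟨c, hc⟩ : ∃ c, c = cOf (orderOf (q : ZMod r)) := ⟨_, rfl⟩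
  rw [← hc]
  have hc0 : 0 < c := by rw [hc]; exact cOf_pos hi0
  obtain ⟨c', hc'⟩ : ∃ c', c = 2 * c' := by
    obtain ⟨k, hk⟩ := (hc ▸ cOf_even (orderOf (q : ZMod r)) : Even c)
    exact ⟨k, by omega⟩
  have hc'0 : 0 < c' := by omega
  have hic : orderOf (q : ZMod r) ≤ c := by
    rw [hc]
    exact Nat.le_of_dvd (cOf_pos hi0) (dvd_cOf _)
  have hcdvd : c ∣ 2 * (d - j) := by
    rw [hc]
    exact cOf_dvd_iff_dvd_two_mul _ _ hjr
  obtain ⟨t, ht⟩ := hcdvd
  have hcn : c ≤ 2 * d := by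
    have h1 : 0 < 2 * (d - j) := by omega
    have h2 := Nat.le_of_dvd h1 ⟨t, ht⟩
    omega
  obtain ⟨s, hs⟩ : ∃ s, s = d / c' := ⟨_, rfl⟩
  obtain ⟨e, he⟩ : ∃ e, e = d % c' := ⟨_, rfl⟩
  have hd' : d = s * c' + e := by
    rw [hs, he, mul_comm]
    exact (Nat.div_add_mod d c').symm
  have hec' : e < c' := by rw [he]; exact Nat.mod_lt _ hc'0
  have hs1 : 1 ≤ s := by
    rw [hs]
    exact (Nat.one_le_div_iff hc'0).mpr (by omega)
  have hsc' : c' ≤ s * c' := Nat.le_mul_of_pos_left c' (by omega)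
  obtain ⟨x₀, hx₀, hfix₀⟩ := exists_sp_test hq r hrp hr2 c' (by rw [← hc', hc]) 0 s (s * c')
    (by rw [add_zero])
  rw [mul_zero] at hfix₀
  obtain ⟨x, hxΩ, hxr, -, hfix⟩ := exists_omega_of_sp h2 r hrp hr2 (s * c') (2 * e + 1) d
    (by omega) hd x₀ hx₀ hfix₀
  have hx1 : x ≠ 1 := ne_one_of_fix_lt d x (2 * e + 1) (by omega) hfix
  obtain ⟨W, hWm, hWts, hWmap⟩ := h x hxΩ (orderOf_eq_prime hxr hx1)
  obtain ⟨y, hy⟩ : ∃ y, y = Matrix.toLin'
      (x : Matrix (Unit ⊕ (Fin d ⊕ Fin d)) (Unit ⊕ (Fin d ⊕ Fin d)) F) := ⟨_, rfl⟩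
  rw [← hy] at hfix hWmap
  have hWinv : ∀ v ∈ W, y v ∈ W := by
    rw [hy]
    exact (map_le_iff W _).mp (hy ▸ hWmap)
  have hyr : y ^ r = 1 := by
    rw [hy]
    exact toLin_pow_eq_one x r hxr
  have hyiso : ∀ u v, oddB d (y u) (y v) = oddB (F := F) d u v := by
    rw [hy]
    exact oddB_iso d x (mem_iso_of_mem_omegaGL _ x hxΩ)
  have hWti : TIon (oddB d) W := (TIon_oddB_iff h2 d W).mpr hWts
  have hmod := mod_of_invariant hq hr hrp y (aeval_pow_sub_one_of_pow hyr) W hWinv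
  rw [hWm] at hmod
  have hFixnd : NDon (oddB (F := F) d) (LinearMap.ker (aeval y (X - 1 : F[X]))) := by
    have := NDon_fix_partS (oddB_sym (F := F) d) hyiso hrF hyr ⊤ (fun _ _ => Submodule.mem_top)
      (oddB_NDon_top h2 d)
    rwa [top_inf_eq] at this
  have hle := finrank_isotropic_leR (oddB (F := F) d) hrefl _
    (W ⊓ LinearMap.ker (aeval y (X - 1 : F[X]))) hFixnd inf_le_right
    (TIon_mono _ inf_le_left hWti)
  rw [hfix] at hle
  have hnmod : (2 * d + 1) % c = 2 * e + 1 := by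
    have h1 : 2 * d + 1 = c * s + (2 * e + 1) := by rw [hc', hd']; ring
    rw [h1, Nat.mul_add_mod, Nat.mod_eq_of_lt (by omega)]
  have hnmod' : (2 * d) % c = 2 * e := by
    have h1 : 2 * d = c * s + 2 * e := by rw [hc', hd']; ring
    rw [h1, Nat.mul_add_mod, Nat.mod_eq_of_lt (by omega)]
  obtain ⟨f, hf⟩ : ∃ f, f = finrank F ↥(W ⊓ LinearMap.ker (aeval y (X - 1 : F[X]))) := ⟨_, rfl⟩
  rw [← hf] at hmod hle
  have hfmod : f % orderOf (q : ZMod r) ≤ f := Nat.mod_le _ _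
  constructor
  · by_contra hlt
    push Not at hlt
    rw [Nat.mod_eq_of_lt hlt] at hmod
    have h2 : (2 * d) % c = (2 * j) % c := by
      have h1 : 2 * d = 2 * j + c * t := by omega
      rw [h1, Nat.add_mul_mod_self_left]
    have h3 : (2 * j) % c ≤ 2 * j := Nat.mod_le _ _
    omega
  · rw [hnmod]
    omega

end nec

end

section

open Polynomial Module Matrix
open Cfsg.Agent.Lib.H24.Elus
open Cfsg.Agent.Lib.H13

section nec

variable {F : Type*} [Field F] [Fintype F] {p q : ℕ} [Fact p.Prime] [CharP F p]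

theorem succ_div_of_even (i d : ℕ) (hi : Even i) (hi0 : 0 < i) : (2 * d + 1) / i = (2 * d) / i := by
  obtain ⟨c', hc'⟩ := hi
  have h1 := Nat.div_add_mod (2 * d) i
  have h2 : (2 * d) % i < i := Nat.mod_lt _ hi0
  have h3 : Even ((2 * d) % i) := by
    rw [Nat.even_iff, Nat.mod_mod_of_dvd (2 * d) (by rw [hc']; exact ⟨c', by ring⟩ : 2 ∣ i)]
    omega
  obtain ⟨b, hb⟩ := h3
  have h4 : 2 * d + 1 = i * (2 * d / i) + ((2 * d) % i + 1) := by omega
  have h5 : (2 * d % i + 1) / i = 0 := Nat.div_eq_of_lt (by omega)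
  rw [h4, Nat.mul_add_div hi0, h5, add_zero]

/-- the condition on the number of irreducible factors, `ord_r q` even -/
theorem ts_nec_types [DecidableEq F] (hq : Fintype.card F = q) (h2 : (2 : F) ≠ 0) (d m : ℕ)
    (hd : 1 ≤ d) (hmd : m ≤ d)
    (r : ℕ) [Fact r.Prime] (hr2 : r ≠ 2) (hrp : r ≠ p)
    (heven : Even (orderOf (q : ZMod r))) (him : orderOf (q : ZMod r) ≤ m)
    (h : AllFix (F := F) d m r) :
    (r - 1) / orderOf (q : ZMod r) + 2 * (m / orderOf (q : ZMod r)) ≤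
      (2 * d + 1) / orderOf (q : ZMod r) := by
  have hr : r.Prime := Fact.out
  have hrF : (r : F) ≠ 0 := CycFactor.natCast_ne_zero hr hrp
  have hrefl : ∀ u v, oddB (F := F) d u v = 0 → oddB d v u = 0 :=
    fun u v h => by rw [oddB_sym]; exact h
  obtain ⟨i, hi⟩ : ∃ i, i = orderOf (q : ZMod r) := ⟨_, rfl⟩
  rw [← hi] at him heven ⊢
  have hi0 : 0 < i := by rw [hi]; exact CycFactor.orderOf_pos hq hr hrp
  rw [succ_div_of_even i d heven hi0]
  obtain ⟨c', hc'⟩ := heven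
  have hc : 2 * c' = orderOf (q : ZMod r) := by rw [← hi]; omega
  have hcard := CycFactor.card_S (F := F) hq hr hrp
  rw [← hi] at hcard
  obtain ⟨t, ht⟩ : ∃ t, t = Fintype.card (CycFactor.S r F) := ⟨_, rfl⟩
  rw [← ht] at hcard
  have ht' : (r - 1) / i = t := by
    rw [← hcard]
    exact Nat.mul_div_cancel _ hi0
  rw [ht']
  by_contra hcon
  push Not at hcon
  have hm := Nat.div_add_mod m i
  have hn := Nat.div_add_mod (2 * d) i
  have hkl : (2 * d) % i < i := Nat.mod_lt _ hi0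
  have hm'1 : 1 ≤ m / i := (Nat.one_le_div_iff hi0).mpr him
  have hn'm' : 2 * (m / i) ≤ 2 * d / i := by
    rw [Nat.le_div_iff_mul_le hi0]
    have : 2 * (m / i) * i = 2 * (i * (m / i)) := by ring
    omega
  -- the number of types used
  obtain ⟨σ, hσ⟩ : ∃ σ, σ = 2 * d / i - 2 * (m / i) + 1 := ⟨_, rfl⟩
  have hσt : σ ≤ t := by omega
  obtain ⟨T, -, hT⟩ := Finset.exists_subset_card_eq
    (s := (Finset.univ : Finset (CycFactor.S r F))) (n := σ) (by rw [Finset.card_univ, ← ht]; exact hσt)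
  have hiσ : i * σ + 2 * (i * (m / i)) = i * (2 * d / i) + i := by
    have h1 : σ + 2 * (m / i) = 2 * d / i + 1 := by omega
    calc i * σ + 2 * (i * (m / i)) = i * (σ + 2 * (m / i)) := by ring
      _ = i * (2 * d / i + 1) := by rw [h1]
      _ = i * (2 * d / i) + i := by ring
  have hiσ' : i * σ = 2 * (σ * c') := by rw [hc']; ring
  obtain ⟨e, he⟩ : ∃ e, e = d - σ * c' := ⟨_, rfl⟩
  have hσd : σ * c' ≤ d := by
    have h1 : i * σ ≤ i * (2 * d / i) := by
      have : i ≤ i * (m / i) := Nat.le_mul_of_pos_right i hm'1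
      omega
    omega
  have hem : e < m := by omega
  have hσ1 : 1 ≤ σ * c' := by
    have : 1 ≤ σ := by omega
    have : 1 ≤ c' := by omega
    exact Nat.mul_pos ‹1 ≤ σ› ‹1 ≤ c'›
  obtain ⟨x₀, hx₀, hxk₀, hxf₀⟩ := exists_sp_types hq r hrp hr2 c' hc 0 T (T.card * c')
    (by rw [add_zero])
  rw [mul_zero] at hxf₀
  obtain ⟨x, hxΩ, hxr, hxk, hxf⟩ := exists_omega_of_sp h2 r hrp hr2 (T.card * c') (2 * e + 1) d
    (by rw [hT]; omega) hd x₀ hx₀ hxf₀
  have hx1 : x ≠ 1 := ne_one_of_fix_lt d x (2 * e + 1) (by omega) hxf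
  obtain ⟨W, hWm, hWts, hWmap⟩ := h x hxΩ (orderOf_eq_prime hxr hx1)
  obtain ⟨y, hy⟩ : ∃ y, y = Matrix.toLin'
      (x : Matrix (Unit ⊕ (Fin d ⊕ Fin d)) (Unit ⊕ (Fin d ⊕ Fin d)) F) := ⟨_, rfl⟩
  rw [← hy] at hxf hWmap hxk
  have hWinv : ∀ v ∈ W, y v ∈ W := by
    rw [hy]
    exact (map_le_iff W _).mp (hy ▸ hWmap)
  have hyr : y ^ r = 1 := by
    rw [hy]
    exact toLin_pow_eq_one x r hxr
  have hyiso : ∀ u v, oddB d (y u) (y v) = oddB (F := F) d u v := by
    rw [hy]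
    exact oddB_iso d x (mem_iso_of_mem_omegaGL _ x hxΩ)
  have hWti : TIon (oddB d) W := (TIon_oddB_iff h2 d W).mpr hWts
  -- the dimension of `W` by types
  have hirr := CycFactor.irreducible_fJ (F := F) (r := r)
  have hcop := CycFactor.coprime_fJ (F := F) hr hrp
  have hφ' : aeval y (∏ j, CycFactor.fJ (F := F) r j) = 0 := by
    rw [CycFactor.prod_fJ hr hrp]; exact aeval_pow_sub_one_of_pow hyr
  obtain ⟨hsum, hdvd⟩ := invariant_mults (CycFactor.fJ (F := F) r) hirr hcop y hφ' W hWinv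
  rw [Fintype.sum_option, hWm] at hsum
  have htopinv : ∀ v ∈ (⊤ : Submodule F (Unit ⊕ (Fin d ⊕ Fin d) → F)),
      y v ∈ (⊤ : Submodule F _) := fun _ _ => Submodule.mem_top
  -- the twisted alternating form
  have halt' := twB_alt (oddB_sym (F := F) d) hyiso hr.pos hyr
  have hiso' : ∀ u v, twB (oddB d) y r (y u) (y v) = twB (oddB (F := F) d) y r u v :=
    twB_iso hyiso
  have hCyinv : ∀ v ∈ LinearMap.ker (aeval y (cyclotomic r F)),
      y v ∈ LinearMap.ker (aeval y (cyclotomic r F)) :=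
    fun v hv => SSClass.ker_aeval_invariant y _ v hv
  have hCynd : NDon (oddB (F := F) d) (LinearMap.ker (aeval y (cyclotomic r F))) := by
    have := NDon_cyc_partS (oddB_sym (F := F) d) hyiso hrF hyr ⊤ htopinv (oddB_NDon_top h2 d)
    rwa [top_inf_eq] at this
  have hCynd' := NDon_twB hrF hr2 hyr _ hCyinv le_rfl hCynd
  have hzero : ∀ s : CycFactor.S r F,
      finrank F ↥(W ⊓ LinearMap.ker (aeval y (CycFactor.fJ (F := F) r (some s)))) = 0 := by
    intro s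
    have hnd : NDon (twB (oddB (F := F) d) y r)
        (LinearMap.ker (aeval y (cyclotomic r F)) ⊓ LinearMap.ker (aeval y s.1)) :=
      NDon_ker_factor hq hrp halt' hiso' hyr (hi ▸ ⟨c', hc'⟩) s _ hCyinv hCynd'
    have hKinv : ∀ v ∈ W ⊓ LinearMap.ker (aeval y s.1), y v ∈ W ⊓ LinearMap.ker (aeval y s.1) :=
      inf_ker_invariant W hWinv s.1
    have hle := finrank_isotropic_le halt' _ (W ⊓ LinearMap.ker (aeval y s.1)) hnd
      (le_inf (inf_le_right.trans (cyc_ker_le s)) inf_le_right)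
      (TIon_twB _ hKinv (TIon_mono _ inf_le_left hWti))
    have hk := hxk s
    rw [hxk₀ s] at hk
    have hk' : finrank F ↥(LinearMap.ker (aeval y s.1)) ≤ i := by
      rw [hk]
      split_ifs <;> omega
    have hle2 : finrank F ↥(LinearMap.ker (aeval y (cyclotomic r F)) ⊓
        LinearMap.ker (aeval y s.1)) ≤ i :=
      (Submodule.finrank_mono inf_le_right).trans hk'
    obtain ⟨k, hk2⟩ := hdvd (some s)
    rw [CycFactor.natDegree_fJ_some hq hr hrp s, ← hi] at hk2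
    change finrank F ↥(W ⊓ LinearMap.ker (aeval y s.1)) = i * k at hk2
    show finrank F ↥(W ⊓ LinearMap.ker (aeval y s.1)) = 0
    rw [hk2] at hle ⊢
    rcases Nat.eq_zero_or_pos k with h0 | hpos
    · rw [h0, mul_zero]
    · have : i ≤ i * k := Nat.le_mul_of_pos_right i hpos
      omega
  rw [Finset.sum_eq_zero (fun s _ => hzero s), add_zero] at hsum
  have hFixnd : NDon (oddB (F := F) d) (LinearMap.ker (aeval y (X - 1 : F[X]))) := by
    have := NDon_fix_partS (oddB_sym (F := F) d) hyiso hrF hyr ⊤ htopinv (oddB_NDon_top h2 d)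
    rwa [top_inf_eq] at this
  have hle := finrank_isotropic_leR (oddB (F := F) d) hrefl _
    (W ⊓ LinearMap.ker (aeval y (X - 1 : F[X]))) hFixnd inf_le_right
    (TIon_mono _ inf_le_left hWti)
  rw [hxf] at hle
  change finrank F ↥(W ⊓ LinearMap.ker (aeval y (X - 1 : F[X]))) = m at hsum
  omega

end nec

end

end Cfsg.Agent.Lib.H13.OSS
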