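import Mathlib
import Cfsg.Agent.Lib.H13.OSS4
import Cfsg.Agent.Lib.H13.OmegaCrit
import Cfsg.Agent.Lib.H13.HypPairs
import Cfsg.Agent.Lib.H11.Disc
import Cfsg.Agent.Lib.H29.QuadOdd

/-!
Involutions of `Ω_{2d+1}(q)` and totally singular subspaces (helper13): `invol_struct`, `invol_sum`, `exists_ts_invol_lt`, products of
reflections in orthogonal vectors (`reflProd_fix`, `reflProd_neg`), `invol_minus_data` (the `-1`-eigenspace of an involution of `Ω(Q)` has even
dimension and is of plus type if `-1` is a square), `two_suff`, `two_nec`.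
-/

set_option autoImplicit false
set_option linter.unusedSectionVars false
set_option linter.unusedVariables false
set_option linter.unusedSimpArgs false
set_option linter.deprecated false

namespace Cfsg.Agent.Lib.H13.OSS

section

open Polynomial Module
open Cfsg.Agent.Lib.H24.Elus
open Cfsg.Agent.Lib.H13

section invol

variable {F : Type*} [Field F] {V : Type*} [AddCommGroup V] [Module F V] [Module.Finite F V]
  {B : LinearMap.BilinForm F V} {y : End F V}

theorem exists_ti_in_NDonS' [Fintype F] (hsym : ∀ u v, B u v = B v u) (e : ℕ) (U : Submodule F V)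
    (hU : NDon B U) (he : 2 * e ≤ finrank F U - 1) :
    ∃ W : Submodule F V, W ≤ U ∧ TIon B W ∧ finrank F W = e := by
  rcases Nat.eq_zero_or_pos e with rfl | hpos
  · exact ⟨⊥, bot_le, TIon_bot B, finrank_bot F V⟩
  · exact exists_ti_in_NDonS B hsym e U hU (by omega)

/-- the eigenspace decomposition of an isometric involution of a symmetric space -/
theorem invol_struct (h2 : (2 : F) ≠ 0) (hsym : ∀ u v, B u v = B v u)
    (hiso : ∀ u v, B (y u) (y v) = B u v) (hy : y ^ 2 = 1) (hndV : NDon B ⊤) :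
    NDon B (LinearMap.ker (aeval y (X - 1 : F[X]))) ∧
    NDon B (LinearMap.ker (aeval y (X + 1 : F[X]))) ∧
    (∀ u ∈ LinearMap.ker (aeval y (X - 1 : F[X])),
      ∀ w ∈ LinearMap.ker (aeval y (X + 1 : F[X])), B u w = 0) ∧
    finrank F (LinearMap.ker (aeval y (X - 1 : F[X]))) +
      finrank F (LinearMap.ker (aeval y (X + 1 : F[X]))) = finrank F V ∧
    (∀ v, v ∈ LinearMap.ker (aeval y (X + 1 : F[X])) ↔ y v = -v) := by
  haveI : Fact (Nat.Prime 2) := ⟨Nat.prime_two⟩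
  have hrF : ((2 : ℕ) : F) ≠ 0 := by
    rw [Nat.cast_ofNat]
    exact h2
  have htopinv : ∀ v ∈ (⊤ : Submodule F V), y v ∈ (⊤ : Submodule F V) := fun _ _ =>
    Submodule.mem_top
  have hsplit := finrank_split_fix hrF hy ⊤ htopinv
  rw [top_inf_eq, top_inf_eq, finrank_top, cyclotomic_two] at hsplit
  have hFxnd := NDon_fix_partS hsym hiso hrF hy ⊤ htopinv hndV
  rw [top_inf_eq] at hFxnd
  have hCynd := NDon_cyc_partS hsym hiso hrF hy ⊤ htopinv hndV
  rw [top_inf_eq, cyclotomic_two] at hCynd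
  refine ⟨hFxnd, hCynd, ?_, hsplit, ?_⟩
  · intro u hu w hw
    rw [← cyclotomic_two] at hw
    exact fix_orth_cycS hsym hiso hrF hy u w hu hw
  · intro v
    rw [LinearMap.mem_ker, map_add, aeval_X, map_one, LinearMap.add_apply, Module.End.one_apply]
    exact ⟨eq_neg_of_add_eq_zero_left, fun h => by rw [h, neg_add_cancel]⟩

/-- sums of totally isotropic subspaces of the two eigenspaces -/
theorem invol_sum (h2 : (2 : F) ≠ 0) (hsym : ∀ u v, B u v = B v u)
    (hiso : ∀ u v, B (y u) (y v) = B u v) (hy : y ^ 2 = 1) (hndV : NDon B ⊤)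
    (W₁ W₂ : Submodule F V) (h₁ : W₁ ≤ LinearMap.ker (aeval y (X - 1 : F[X])))
    (h₂ : W₂ ≤ LinearMap.ker (aeval y (X + 1 : F[X]))) (ht₁ : TIon B W₁) (ht₂ : TIon B W₂) :
    finrank F ↥(W₁ ⊔ W₂) = finrank F W₁ + finrank F W₂ ∧ TIon B (W₁ ⊔ W₂) ∧
      ∀ v ∈ W₁ ⊔ W₂, y v ∈ W₁ ⊔ W₂ := by
  have hrefl : ∀ u v, B u v = 0 → B v u = 0 := fun u v h => by rw [hsym]; exact h
  obtain ⟨hFxnd, hCynd, horth, -, hmem⟩ := invol_struct h2 hsym hiso hy hndV
  obtain ⟨hti, hdim⟩ := ti_supR B hrefl _ _ W₁ W₂ hFxnd horth h₁ h₂ ht₁ ht₂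
  refine ⟨hdim, hti, sup_invariant _ _ ?_ ?_⟩
  · intro v hv
    rw [(mem_fix_iff v).mp (h₁ hv)]
    exact hv
  · intro v hv
    rw [(hmem v).mp (h₂ hv)]
    exact Submodule.neg_mem _ hv

/-- an isometric involution of a symmetric space of dimension `2 d + 1` over a finite field fixes a
totally isotropic subspace of each dimension `< d` -/
theorem exists_ts_invol_lt [Fintype F] (h2 : (2 : F) ≠ 0) (hsym : ∀ u v, B u v = B v u)
    (hiso : ∀ u v, B (y u) (y v) = B u v) (hy : y ^ 2 = 1) (hndV : NDon B ⊤) (d m : ℕ)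
    (hV : finrank F V = 2 * d + 1) (hmd : m < d) :
    ∃ W : Submodule F V, finrank F W = m ∧ TIon B W ∧ ∀ v ∈ W, y v ∈ W := by
  obtain ⟨hFxnd, hCynd, horth, hdim, -⟩ := invol_struct h2 hsym hiso hy hndV
  rw [hV] at hdim
  obtain ⟨a, ha⟩ : ∃ a, a = finrank F (LinearMap.ker (aeval y (X - 1 : F[X]))) := ⟨_, rfl⟩
  obtain ⟨b, hb⟩ : ∃ b, b = finrank F (LinearMap.ker (aeval y (X + 1 : F[X]))) := ⟨_, rfl⟩
  rw [← ha, ← hb] at hdim
  obtain ⟨W₁, hW₁, hW₁ti, hW₁d⟩ := exists_ti_in_NDonS' hsym (min m ((a - 1) / 2)) _ hFxnd (by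
    rw [← ha]
    have := min_le_right m ((a - 1) / 2)
    omega)
  obtain ⟨W₂, hW₂, hW₂ti, hW₂d⟩ := exists_ti_in_NDonS' hsym (m - min m ((a - 1) / 2)) _ hCynd (by
    rw [← hb]
    rcases le_total m ((a - 1) / 2) with h | h
    · rw [min_eq_left h]
      omega
    · rw [min_eq_right h]
      omega)
  obtain ⟨hd', hti, hinv⟩ := invol_sum h2 hsym hiso hy hndV W₁ W₂ hW₁ hW₂ hW₁ti hW₂ti
  refine ⟨W₁ ⊔ W₂, ?_, hti, hinv⟩
  rw [hd', hW₁d, hW₂d]
  have := min_le_left m ((a - 1) / 2)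
  omega

end invol

end

section

open Polynomial Module Matrix
open Cfsg.Agent.Lib.H24.Elus
open Cfsg.Agent.Lib.H13
open Cfsg.Agent.Lib.H4

section reflprod

variable {F : Type*} [Field F] {ι : Type} [Fintype ι] [DecidableEq ι]
variable (Q : QuadraticForm F (ι → F))

/-- the product of the reflections in the vectors of a list -/
noncomputable def reflProd (L : List (ι → F)) : Matrix ι ι F :=
  (L.map (fun v => Cfsg.reflectionMatrix ⇑Q v)).prod

theorem reflProd_nil : reflProd Q [] = 1 := rfl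

theorem reflProd_cons (w : ι → F) (L : List (ι → F)) :
    reflProd Q (w :: L) = Cfsg.reflectionMatrix ⇑Q w * reflProd Q L := by
  unfold reflProd
  rw [List.map_cons, List.prod_cons]

theorem reflProd_fix (L : List (ι → F)) (x : ι → F)
    (h : ∀ w ∈ L, QuadraticMap.polar (⇑Q) w x = 0) : reflProd Q L *ᵥ x = x := by
  induction L with
  | nil => rw [reflProd_nil, Matrix.one_mulVec]
  | cons w L ih =>
    rw [reflProd_cons, ← Matrix.mulVec_mulVec, ih (fun u hu => h u (List.mem_cons_of_mem _ hu)),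
      reflectionMatrix_mulVec, h w (List.mem_cons_self), mul_zero, zero_smul, sub_zero]

theorem reflProd_neg (h2 : (2 : F) ≠ 0) (L : List (ι → F))
    (hp : L.Pairwise (fun a b => QuadraticMap.polar (⇑Q) a b = 0)) (hQ : ∀ w ∈ L, Q w ≠ 0)
    (x : ι → F) (hx : x ∈ L) : reflProd Q L *ᵥ x = -x := by
  induction L with
  | nil => exact absurd hx (List.not_mem_nil)
  | cons w L ih =>
    rw [List.pairwise_cons] at hp
    rw [reflProd_cons, ← Matrix.mulVec_mulVec]
    rcases List.mem_cons.mp hx with rfl | hxL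
    · rw [reflProd_fix Q L x (fun u hu => by rw [QuadraticMap.polar_comm]; exact hp.1 u hu),
        reflectionMatrix_mulVec, QuadraticMap.polar_self]
      have hQx : Q x ≠ 0 := hQ x (List.mem_cons_self)
      have : (Q x)⁻¹ * (2 • Q x) = 2 := by
        rw [two_smul]
        field_simp
        ring
      rw [this, two_smul]
      abel
    · rw [ih hp.2 (fun u hu => hQ u (List.mem_cons_of_mem _ hu)) hxL, reflectionMatrix_mulVec,
        QuadraticMap.polar_neg_right, hp.1 x hxL, neg_zero, mul_zero, zero_smul, sub_zero]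

end reflprod

section general

variable {F : Type*} [Field F] {ι : Type} [Fintype ι] [DecidableEq ι]

theorem polarBilin_iso (Q : QuadraticForm F (ι → F)) (x : GL ι F)
    (hx : x ∈ Cfsg.isometryGroup F ⇑Q) (u v : ι → F) :
    QuadraticMap.polarBilin Q (Matrix.toLin' (x : Matrix ι ι F) u)
      (Matrix.toLin' (x : Matrix ι ι F) v) = QuadraticMap.polarBilin Q u v := by
  have h := (Cfsg.Agent.Lib.H11.IsoReindex.mem_iso_iff' _ x).mp hx
  rw [QuadraticMap.polarBilin_apply_apply, QuadraticMap.polarBilin_apply_apply]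
  unfold QuadraticMap.polar
  rw [← map_add, Matrix.toLin'_apply, Matrix.toLin'_apply, Matrix.toLin'_apply, h, h, h]

theorem mem_Omega_of_mem_omegaGL (Q : (ι → F) → F) (x : GL ι F) (hx : x ∈ Cfsg.Geo.omegaGL Q)
    (hx' : x ∈ Cfsg.isometryGroup F Q) : (⟨x, hx'⟩ : ↥(Cfsg.isometryGroup F Q)) ∈ Cfsg.Omega F Q := by
  obtain ⟨g, hg, hgx⟩ := hx
  have : g = ⟨x, hx'⟩ := Subtype.ext hgx
  rw [← this]
  exact hg

end general

end

section

open Polynomial Module Matrix
open Cfsg.Agent.Lib.H24.Elus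
open Cfsg.Agent.Lib.H13
open Cfsg.Agent.Lib.H4

section involOmega

variable {F : Type*} [Field F] [Fintype F] {ι : Type} [Fintype ι] [DecidableEq ι]

/-- the `-1`-eigenspace of an involution of `Ω(Q)` has even dimension `2 N`, and contains a totally
isotropic subspace of dimension `N` if `-1` is a square -/
theorem invol_minus_data [DecidableEq F] (h2 : (2 : F) ≠ 0) (Q : QuadraticForm F (ι → F))
    (hcard : 2 ≤ Fintype.card ι) (hQ : (QuadraticMap.polarBilin Q).Nondegenerate)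
    (x : GL ι F) (hxΩ : x ∈ Cfsg.Geo.omegaGL ⇑Q) (hx2 : x ^ 2 = 1) :
    ∃ N, finrank F (LinearMap.ker (aeval (Matrix.toLin' (x : Matrix ι ι F)) (X + 1 : F[X]))) =
        2 * N ∧
      (IsSquare (-1 : F) → ∃ Z : Submodule F (ι → F),
        Z ≤ LinearMap.ker (aeval (Matrix.toLin' (x : Matrix ι ι F)) (X + 1 : F[X])) ∧
        TIon (QuadraticMap.polarBilin Q) Z ∧ finrank F Z = N) := by
  have hxiso : x ∈ Cfsg.isometryGroup F ⇑Q := mem_iso_of_mem_omegaGL _ x hxΩ
  obtain ⟨B, hB⟩ : ∃ B : LinearMap.BilinForm F (ι → F), B = QuadraticMap.polarBilin Q := ⟨_, rfl⟩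
  rw [← hB]
  have hBapp : ∀ u v, B u v = QuadraticMap.polar (⇑Q) u v := fun u v => by
    rw [hB, QuadraticMap.polarBilin_apply_apply]
  have hsym : ∀ u v, B u v = B v u := fun u v => by
    rw [hBapp, hBapp, QuadraticMap.polar_comm]
  obtain ⟨y, hy⟩ : ∃ y, y = Matrix.toLin' (x : Matrix ι ι F) := ⟨_, rfl⟩
  rw [← hy]
  have hy2 : y ^ 2 = 1 := by rw [hy]; exact toLin_pow_eq_one x 2 hx2
  have hiso : ∀ u v, B (y u) (y v) = B u v := by
    rw [hy, hB]
    exact polarBilin_iso Q x hxiso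
  have hndV : NDon B ⊤ := fun u _ h => by
    rw [hB] at h
    exact hQ.1 u (fun w => h w Submodule.mem_top)
  obtain ⟨hFxnd, hCynd, horth, -, hmem⟩ := invol_struct h2 hsym hiso hy2 hndV
  obtain ⟨Vm, hVm⟩ : ∃ Vm, Vm = LinearMap.ker (aeval y (X + 1 : F[X])) := ⟨_, rfl⟩
  rw [← hVm] at hCynd horth ⊢
  -- the restricted form and an orthogonal basis
  obtain ⟨B', hB'⟩ : ∃ B' : LinearMap.BilinForm F ↥Vm, B' = B.restrict Vm := ⟨_, rfl⟩
  have hB'app : ∀ u v : ↥Vm, B' u v = B u.1 v.1 := fun u v => by rw [hB']; rfl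
  have hB'sym : ∀ u v : ↥Vm, B' u v = B' v u := fun u v => by rw [hB'app, hB'app, hsym]
  have hB'nd : B'.Nondegenerate := by
    have key : ∀ u : ↥Vm, (∀ v, B' u v = 0) → u = 0 := by
      intro u hu
      apply Subtype.ext
      apply hCynd u.1 u.2
      intro v hv
      have := hu ⟨v, hv⟩
      rw [hB'app] at this
      exact this
    exact ⟨key, fun u hu => key u (fun v => by rw [hB'sym]; exact hu v)⟩
  haveI : Invertible (2 : F) := invertibleOfNonzero h2
  obtain ⟨b, v, hb, hv⟩ : ∃ (b : ℕ) (v : Basis (Fin b) F ↥Vm), b = finrank F ↥Vm ∧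
      ∀ i j, i ≠ j → B' (v i) (v j) = 0 := by
    obtain ⟨v, hv⟩ := LinearMap.BilinForm.exists_orthogonal_basis (B := B') ⟨hB'sym⟩
    rw [LinearMap.isOrthoᵢ_def] at hv
    exact ⟨_, v, rfl, hv⟩
  rw [← hb]
  obtain ⟨w, hw⟩ : ∃ w : Fin b → (ι → F), w = fun i => (v i : ι → F) := ⟨_, rfl⟩
  have hwmem : ∀ i, w i ∈ Vm := fun i => by rw [hw]; exact (v i).2
  have hworth : ∀ i j, i ≠ j → QuadraticMap.polar (⇑Q) (w i) (w j) = 0 := by
    intro i j hij
    have := hv i j hij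
    rw [hB'app, hBapp] at this
    rw [hw]
    exact this
  have hwQ : ∀ i, Q (w i) ≠ 0 := by
    intro i hi
    have h0 : B' (v i) (v i) = 0 := by
      rw [hB'app, hBapp, QuadraticMap.polar_self]
      have : Q (v i : ι → F) = 0 := by rw [hw] at hi; exact hi
      rw [this, smul_zero]
    have h1 : v i = 0 := by
      apply hB'nd.1
      intro u
      rw [← v.sum_repr u, map_sum]
      apply Finset.sum_eq_zero
      intro j _
      rw [map_smul]
      by_cases hij : i = j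
      · rw [← hij, h0, smul_zero]
      · rw [hv i j hij, smul_zero]
    exact v.ne_zero i h1
  obtain ⟨L, hL⟩ : ∃ L, L = List.ofFn w := ⟨_, rfl⟩
  have hLmem : ∀ u ∈ L, ∃ i, w i = u := by
    intro u hu
    rw [hL, List.mem_ofFn] at hu
    exact hu
  have hLQ : ∀ u ∈ L, Q u ≠ 0 := by
    intro u hu
    obtain ⟨i, rfl⟩ := hLmem u hu
    exact hwQ i
  have hLp : L.Pairwise (fun a c => QuadraticMap.polar (⇑Q) a c = 0) := by
    rw [hL, List.pairwise_ofFn]
    intro i j hij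
    exact hworth i j (ne_of_lt hij)
  -- the product of the reflections is `x`
  have hprod : reflProd Q L = (x : Matrix ι ι F) := by
    apply Matrix.toLin'.injective
    rw [← hy]
    have hrF : ((2 : ℕ) : F) ≠ 0 := by
      rw [Nat.cast_ofNat]
      exact h2
    haveI : Fact (Nat.Prime 2) := ⟨Nat.prime_two⟩
    have hsplit := split_fix hrF hy2 ⊤ (fun _ _ => Submodule.mem_top)
    rw [top_inf_eq, top_inf_eq, cyclotomic_two, ← hVm] at hsplit
    -- agreement on `Vm`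
    have hm : ∀ z ∈ Vm, reflProd Q L *ᵥ z = -z := by
      have hext : (Matrix.toLin' (reflProd Q L)).comp Vm.subtype = -Vm.subtype := by
        apply v.ext
        intro i
        rw [LinearMap.comp_apply, LinearMap.neg_apply, Submodule.subtype_apply,
          Matrix.toLin'_apply]
        have : (v i : ι → F) = w i := by rw [hw]
        rw [this]
        apply reflProd_neg Q h2 L hLp hLQ
        rw [hL, List.mem_ofFn]
        exact ⟨i, rfl⟩
      intro z hz
      have := LinearMap.congr_fun hext ⟨z, hz⟩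
      rw [LinearMap.comp_apply, LinearMap.neg_apply, Submodule.subtype_apply,
        Matrix.toLin'_apply] at this
      exact this
    apply LinearMap.ext
    intro z
    obtain ⟨z₁, hz₁, z₂, hz₂, rfl⟩ := Submodule.mem_sup.mp (hsplit (Submodule.mem_top : z ∈ ⊤))
    rw [map_add, map_add, Matrix.toLin'_apply, Matrix.toLin'_apply, hm z₂ hz₂,
      (mem_fix_iff z₁).mp hz₁, (hmem z₂).mp (hVm ▸ hz₂)]
    congr 1
    apply reflProd_fix
    intro u hu
    obtain ⟨i, rfl⟩ := hLmem u hu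
    rw [QuadraticMap.polar_comm, ← hBapp]
    exact horth z₁ hz₁ (w i) (hwmem i)
  -- the spinor norm criterion
  have hΩ := (OmegaCrit.mem_Omega_iff_list Q h2 hcard hQ ⟨x, hxiso⟩ L hLQ hprod.symm).mp
    (mem_Omega_of_mem_omegaGL _ x hxΩ hxiso)
  obtain ⟨⟨N, hN⟩, hsq⟩ := hΩ
  rw [hL, List.length_ofFn] at hN
  refine ⟨N, by omega, ?_⟩
  intro hneg
  have hV' : finrank F ↥Vm = 2 * N := by omega
  have hdiag : LinearMap.BilinForm.toMatrix v B' = Matrix.diagonal (fun i => 2 * Q (w i)) := by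
    ext i j
    rw [LinearMap.BilinForm.toMatrix_apply]
    by_cases hij : i = j
    · rw [hij, Matrix.diagonal_apply_eq, hB'app, hBapp, QuadraticMap.polar_self, hw]
      simp
    · rw [Matrix.diagonal_apply_ne _ hij, hv i j hij]
  have hdet : (LinearMap.BilinForm.toMatrix v B').det = 2 ^ b * ∏ i, Q (w i) := by
    rw [hdiag, Matrix.det_diagonal, Finset.prod_mul_distrib, Finset.prod_const, Finset.card_univ,
      Fintype.card_fin]
  have hsq' : IsSquare ((-1) ^ N * (LinearMap.BilinForm.toMatrix v B').det) := by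
    rw [hdet]
    refine (hneg.pow N).mul (IsSquare.mul ⟨2 ^ N, by rw [hN, pow_add]⟩ ?_)
    rw [hL, List.map_ofFn, List.prod_ofFn] at hsq
    exact hsq
  obtain ⟨Z, hXN, hXti⟩ := Cfsg.Agent.Lib.H11.Disc.exists_isotropic_of_isSquare h2 B' hB'sym hB'nd
    v N hV' hsq'
  refine ⟨Z.map Vm.subtype, Submodule.map_subtype_le Vm Z, ?_, ?_⟩
  · rintro _ ⟨u, hu, rfl⟩ _ ⟨u', hu', rfl⟩
    have := hXti u hu u' hu'
    rw [hB'app] at this
    exact this
  · rw [Submodule.finrank_map_subtype_eq, hXN]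

end involOmega

end

section

open Polynomial Module Matrix
open Cfsg.Agent.Lib.H24.Elus
open Cfsg.Agent.Lib.H13
open Cfsg.Agent.Lib.H4

section tworefl

variable {F : Type*} [Field F] {ι : Type} [Fintype ι] [DecidableEq ι]
variable (Q : QuadraticForm F (ι → F))

/-- the product of the reflections in two orthogonal vectors -/
theorem two_refl_mulVec (v₁ v₂ : ι → F) (horth : QuadraticMap.polar (⇑Q) v₁ v₂ = 0) (z : ι → F) :
    (Cfsg.reflectionMatrix ⇑Q v₁ * Cfsg.reflectionMatrix ⇑Q v₂) *ᵥ z =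
      z - ((Q v₁)⁻¹ * QuadraticMap.polar (⇑Q) v₁ z) • v₁ -
        ((Q v₂)⁻¹ * QuadraticMap.polar (⇑Q) v₂ z) • v₂ := by
  rw [← Matrix.mulVec_mulVec, reflectionMatrix_mulVec Q v₂ z, reflectionMatrix_mulVec,
    QuadraticMap.polar_sub_right, QuadraticMap.polar_smul_right, horth, smul_eq_mul, mul_zero,
    sub_zero]
  abel

theorem two_refl_sq (h2 : (2 : F) ≠ 0) (v₁ v₂ : ι → F) (h₁ : Q v₁ ≠ 0) (h₂ : Q v₂ ≠ 0)
    (horth : QuadraticMap.polar (⇑Q) v₁ v₂ = 0) :
    (Cfsg.reflectionMatrix ⇑Q v₁ * Cfsg.reflectionMatrix ⇑Q v₂) *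
      (Cfsg.reflectionMatrix ⇑Q v₁ * Cfsg.reflectionMatrix ⇑Q v₂) = 1 := by
  have horth' : QuadraticMap.polar (⇑Q) v₂ v₁ = 0 := by rw [QuadraticMap.polar_comm]; exact horth
  apply Matrix.ext_iff_mulVec.mpr
  intro z
  rw [← Matrix.mulVec_mulVec, two_refl_mulVec Q v₁ v₂ horth z, two_refl_mulVec Q v₁ v₂ horth,
    Matrix.one_mulVec]
  simp only [QuadraticMap.polar_sub_right, QuadraticMap.polar_smul_right, horth, horth',
    QuadraticMap.polar_self, smul_eq_mul, mul_zero, sub_zero]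
  have e1 : (Q v₁)⁻¹ * (QuadraticMap.polar (⇑Q) v₁ z -
      (Q v₁)⁻¹ * QuadraticMap.polar (⇑Q) v₁ z * (2 • Q v₁)) =
        -((Q v₁)⁻¹ * QuadraticMap.polar (⇑Q) v₁ z) := by
    rw [two_smul]
    field_simp
    ring
  have e2 : (Q v₂)⁻¹ * (QuadraticMap.polar (⇑Q) v₂ z -
      (Q v₂)⁻¹ * QuadraticMap.polar (⇑Q) v₂ z * (2 • Q v₂)) =
        -((Q v₂)⁻¹ * QuadraticMap.polar (⇑Q) v₂ z) := by
    rw [two_smul]
    field_simp
    ring
  rw [e1, e2, neg_smul, neg_smul]
  abel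

end tworefl

end

section

open Polynomial Module Matrix
open Cfsg.Agent.Lib.H24.Elus
open Cfsg.Agent.Lib.H13
open Cfsg.Agent.Lib.H4

section two

variable {F : Type*} [Field F] [Fintype F]

/-- sufficiency for `r = 2` -/
theorem two_suff [DecidableEq F] (h2 : (2 : F) ≠ 0) (d m : ℕ) (hd : 1 ≤ d) (hmd : m ≤ d)
    (hcond : m < d ∨ IsSquare (-1 : F))
    (x : GL (Unit ⊕ (Fin d ⊕ Fin d)) F) (hxΩ : x ∈ Cfsg.Geo.omegaGL (Cfsg.quadFormOdd d F))
    (hx2 : x ^ 2 = 1) :
    ∃ W : Submodule F (Unit ⊕ (Fin d ⊕ Fin d) → F), finrank F ↥W = m ∧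
      (∀ w ∈ W, Cfsg.quadFormOdd d F w = 0) ∧
      W.map (Matrix.toLin'
        (x : Matrix (Unit ⊕ (Fin d ⊕ Fin d)) (Unit ⊕ (Fin d ⊕ Fin d)) F)) ≤ W := by
  obtain ⟨y, hy⟩ : ∃ y, y = Matrix.toLin'
      (x : Matrix (Unit ⊕ (Fin d ⊕ Fin d)) (Unit ⊕ (Fin d ⊕ Fin d)) F) := ⟨_, rfl⟩
  have hy2 : y ^ 2 = 1 := by rw [hy]; exact toLin_pow_eq_one x 2 hx2
  have hiso : ∀ u v, oddB d (y u) (y v) = oddB (F := F) d u v := by
    rw [hy]
    exact oddB_iso d x (mem_iso_of_mem_omegaGL _ x hxΩ)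
  have hsym := oddB_sym (F := F) d
  have hndV := oddB_NDon_top (F := F) h2 d
  suffices hW : ∃ W : Submodule F (Unit ⊕ (Fin d ⊕ Fin d) → F), finrank F W = m ∧
      TIon (oddB d) W ∧ ∀ v ∈ W, y v ∈ W by
    obtain ⟨W, hWm, hWti, hWinv⟩ := hW
    refine ⟨W, hWm, (TIon_oddB_iff h2 d W).mp hWti, ?_⟩
    rw [← hy]
    rw [hy] at hWinv ⊢
    exact (map_le_iff W _).mpr hWinv
  by_cases hlt : m < d
  · exact exists_ts_invol_lt h2 hsym hiso hy2 hndV d m (finrank_oddV d) hlt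
  · have hmeq : m = d := by omega
    have hneg : IsSquare (-1 : F) := by
      rcases hcond with h | h
      · exact absurd h hlt
      · exact h
    have hcard : 2 ≤ Fintype.card (Unit ⊕ (Fin d ⊕ Fin d)) := by
      simp; omega
    obtain ⟨N, hN, hZ⟩ := invol_minus_data h2 (Cfsg.Agent.S0286.oddQF F d) hcard
      (Cfsg.Agent.S0286.nondeg h2 d) x (by rw [Cfsg.Agent.S0286.coe_oddQF]; exact hxΩ) hx2
    obtain ⟨Z, hZle, hZti, hZdim⟩ := hZ hneg
    rw [← hy] at hN hZle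
    change TIon (oddB d) Z at hZti
    obtain ⟨hFxnd, -, -, hdim, -⟩ := invol_struct h2 hsym hiso hy2 hndV
    rw [finrank_oddV, hN] at hdim
    obtain ⟨W₁, hW₁, hW₁ti, hW₁d⟩ := exists_ti_in_NDonS (oddB (F := F) d) hsym (d - N) _ hFxnd
      (by omega)
    obtain ⟨hd', hti, hinv⟩ := invol_sum h2 hsym hiso hy2 hndV W₁ Z hW₁ hZle hW₁ti hZti
    refine ⟨W₁ ⊔ Z, ?_, hti, hinv⟩
    rw [hd', hW₁d, hZdim]
    omega

end two

end

section

open Polynomial Module Matrix
open Cfsg.Agent.Lib.H24.Elus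
open Cfsg.Agent.Lib.H13
open Cfsg.Agent.Lib.H4

section two

variable {F : Type*} [Field F] [Fintype F]

/-- necessity for `r = 2`: if `-1` is not a square, some involution of `Ω_{2d+1}(q)` fixes no
totally singular `d`-space -/
theorem two_nec [DecidableEq F] (h2 : (2 : F) ≠ 0) (d : ℕ) (hd : 1 ≤ d)
    (hns : ¬ IsSquare (-1 : F)) (h : AllFix (F := F) d d 2) : False := by
  haveI : Fact (Nat.Prime 2) := ⟨Nat.prime_two⟩
  obtain ⟨Q, hQdef⟩ : ∃ Q, Q = Cfsg.Agent.S0286.oddQF F d := ⟨_, rfl⟩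
  have hQapp : ∀ v, Q v = Cfsg.quadFormOdd d F v := fun v => by
    rw [hQdef, Cfsg.Agent.S0286.oddQF_apply]
  have hQcoe : ⇑Q = Cfsg.quadFormOdd d F := funext hQapp
  have hQnd : (QuadraticMap.polarBilin Q).Nondegenerate := by
    rw [hQdef]; exact Cfsg.Agent.S0286.nondeg h2 d
  have hcard : 2 ≤ Fintype.card (Unit ⊕ (Fin d ⊕ Fin d)) := by
    simp; omega
  obtain ⟨i0, hi0⟩ : ∃ i0 : Fin d, i0 = ⟨0, hd⟩ := ⟨_, rfl⟩
  obtain ⟨v₁, hv₁⟩ : ∃ v₁ : Unit ⊕ (Fin d ⊕ Fin d) → F, v₁ = Pi.single (Sum.inl ()) 1 := ⟨_, rfl⟩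
  obtain ⟨v₂, hv₂⟩ : ∃ v₂ : Unit ⊕ (Fin d ⊕ Fin d) → F,
      v₂ = Pi.single (Sum.inr (Sum.inl i0)) 1 + Pi.single (Sum.inr (Sum.inr i0)) 1 := ⟨_, rfl⟩
  have hQ1 : Q v₁ = 1 := by
    rw [hQapp, hv₁]
    unfold Cfsg.quadFormOdd
    simp
  have hQ2 : Q v₂ = 1 := by
    rw [hQapp, hv₂]
    unfold Cfsg.quadFormOdd
    simp [Pi.single_apply]
  have horth : QuadraticMap.polar (⇑Q) v₁ v₂ = 0 := by
    rw [hQcoe, Cfsg.Agent.Lib.H29.QuadOdd.polar_quadFormOdd, hv₁, hv₂]
    simp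
  have hQ1' : Q v₁ ≠ 0 := by rw [hQ1]; exact one_ne_zero
  have hQ2' : Q v₂ ≠ 0 := by rw [hQ2]; exact one_ne_zero
  obtain ⟨g, hg⟩ : ∃ g : ↥(Cfsg.isometryGroup F ⇑Q), g = Cfsg.Agent.Lib.H13.HypPairs.reflG Q v₁ hQ1' * Cfsg.Agent.Lib.H13.HypPairs.reflG Q v₂ hQ2' :=
    ⟨_, rfl⟩
  have hgval : ((g : GL (Unit ⊕ (Fin d ⊕ Fin d)) F) :
      Matrix (Unit ⊕ (Fin d ⊕ Fin d)) (Unit ⊕ (Fin d ⊕ Fin d)) F) =
        Cfsg.reflectionMatrix ⇑Q v₁ * Cfsg.reflectionMatrix ⇑Q v₂ := by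
    rw [hg]
    rfl
  have hgΩ : g ∈ Cfsg.Omega F ⇑Q := by
    rw [OmegaCrit.mem_Omega_iff_list Q h2 hcard hQnd g [v₁, v₂] ?_ ?_]
    · refine ⟨⟨1, rfl⟩, ?_⟩
      simp only [List.map_cons, List.map_nil, List.prod_cons, List.prod_nil, hQ1, hQ2, mul_one]
      exact ⟨1, (mul_one 1).symm⟩
    · intro v hv
      simp only [List.mem_cons, List.not_mem_nil, or_false] at hv
      rcases hv with rfl | rfl
      · exact hQ1'
      · exact hQ2'
    · rw [hgval]
      simp only [List.map_cons, List.map_nil, List.prod_cons, List.prod_nil, mul_one]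
  obtain ⟨x, hx⟩ : ∃ x : GL (Unit ⊕ (Fin d ⊕ Fin d)) F, x = (g : GL _ F) := ⟨_, rfl⟩
  have hxval : (x : Matrix (Unit ⊕ (Fin d ⊕ Fin d)) (Unit ⊕ (Fin d ⊕ Fin d)) F) =
      Cfsg.reflectionMatrix ⇑Q v₁ * Cfsg.reflectionMatrix ⇑Q v₂ := by rw [hx, hgval]
  have hxΩ : x ∈ Cfsg.Geo.omegaGL (Cfsg.quadFormOdd d F) := by
    rw [← hQcoe, hx]
    exact ⟨g, hgΩ, rfl⟩
  have hact : ∀ z, (x : Matrix (Unit ⊕ (Fin d ⊕ Fin d)) (Unit ⊕ (Fin d ⊕ Fin d)) F) *ᵥ z =
      z - QuadraticMap.polar (⇑Q) v₁ z • v₁ - QuadraticMap.polar (⇑Q) v₂ z • v₂ := by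
    intro z
    rw [hxval, two_refl_mulVec Q v₁ v₂ horth z, hQ1, hQ2, inv_one, one_mul, one_mul]
  have hx2 : x ^ 2 = 1 := by
    apply Units.ext
    rw [pow_two, Units.val_mul, hxval, Units.val_one]
    exact two_refl_sq Q h2 v₁ v₂ hQ1' hQ2' horth
  have hv₁0 : v₁ (Sum.inl ()) = 1 := by rw [hv₁]; simp
  have hx1 : x ≠ 1 := by
    intro h1
    have h3 := hact v₁
    rw [h1, Units.val_one, Matrix.one_mulVec, QuadraticMap.polar_self, hQ1,
      QuadraticMap.polar_comm, horth, zero_smul, sub_zero] at h3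
    have h4 := congrFun h3 (Sum.inl ())
    simp only [Pi.sub_apply, Pi.smul_apply, hv₁0, smul_eq_mul, mul_one] at h4
    apply h2
    have h4' : (1 : F) = 1 - 2 := by simpa using h4
    linear_combination h4'
  obtain ⟨W, hWm, hWts, hWmap⟩ := h x hxΩ (orderOf_eq_prime hx2 hx1)
  have hWinv := (map_le_iff W _).mp hWmap
  -- vectors of `W` are orthogonal to `v₁`, `v₂`
  have hperp : ∀ w ∈ W, QuadraticMap.polar (⇑Q) v₁ w = 0 ∧ QuadraticMap.polar (⇑Q) v₂ w = 0 := by
    intro w hw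
    obtain ⟨c₁, hc₁⟩ : ∃ c₁, c₁ = QuadraticMap.polar (⇑Q) v₁ w := ⟨_, rfl⟩
    obtain ⟨c₂, hc₂⟩ : ∃ c₂, c₂ = QuadraticMap.polar (⇑Q) v₂ w := ⟨_, rfl⟩
    rw [← hc₁, ← hc₂]
    have h3 := hWinv w hw
    rw [Matrix.toLin'_apply, hact, ← hc₁, ← hc₂] at h3
    have h4 : c₁ • v₁ + c₂ • v₂ ∈ W := by
      have := W.sub_mem hw h3
      have e : w - (w - c₁ • v₁ - c₂ • v₂) = c₁ • v₁ + c₂ • v₂ := by abel
      rwa [e] at this
    have h5 := hWts _ h4
    rw [← hQapp, QuadraticMap.map_add (⇑Q), QuadraticMap.map_smul, QuadraticMap.map_smul,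
      QuadraticMap.polar_smul_left, QuadraticMap.polar_smul_right, horth, hQ1, hQ2] at h5
    simp only [smul_eq_mul, mul_one, mul_zero, add_zero] at h5
    have hc₂0 : c₂ = 0 := by
      by_contra hne
      apply hns
      refine ⟨c₁ / c₂, ?_⟩
      field_simp
      linear_combination -h5
    rw [hc₂0, mul_zero, add_zero] at h5
    exact ⟨mul_self_eq_zero.mp h5, hc₂0⟩
  -- the plane `P`
  have hrefl : ∀ u v, oddB (F := F) d u v = 0 → oddB d v u = 0 :=
    fun u v h => by rw [oddB_sym]; exact h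
  have hBQ : ∀ u v, oddB (F := F) d u v = QuadraticMap.polar (⇑Q) u v := fun u v => by
    rw [oddB_apply, hQcoe]
  have hB11 : oddB (F := F) d v₁ v₁ = 2 := by
    rw [oddB_self, ← hQapp, hQ1, mul_one]
  have hB22 : oddB (F := F) d v₂ v₂ = 2 := by
    rw [oddB_self, ← hQapp, hQ2, mul_one]
  have hB12 : oddB (F := F) d v₁ v₂ = 0 := by rw [hBQ, horth]
  have hB21 : oddB (F := F) d v₂ v₁ = 0 := by rw [oddB_sym, hB12]
  obtain ⟨P, hP⟩ : ∃ P, P = Submodule.span F {v₁, v₂} := ⟨_, rfl⟩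
  have hPnd : NDon (oddB (F := F) d) P := by
    intro u hu hu'
    rw [hP] at hu
    obtain ⟨α, β, rfl⟩ := Submodule.mem_span_pair.mp hu
    have h3 := hu' v₁ (by rw [hP]; exact Submodule.subset_span (by simp))
    have h4 := hu' v₂ (by rw [hP]; exact Submodule.subset_span (by simp))
    simp only [map_add, map_smul, LinearMap.add_apply, LinearMap.smul_apply, hB11, hB22, hB12,
      hB21, smul_eq_mul, mul_zero, add_zero, zero_add] at h3 h4
    have hα : α = 0 := by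
      rcases mul_eq_zero.mp h3 with h | h
      · exact h
      · exact absurd h h2
    have hβ : β = 0 := by
      rcases mul_eq_zero.mp h4 with h | h
      · exact h
      · exact absurd h h2
    rw [hα, hβ, zero_smul, zero_smul, add_zero]
  have hPdim : finrank F P = 2 := by
    have hli : LinearIndependent F ![v₁, v₂] := by
      rw [LinearIndependent.pair_iff]
      intro s t hst
      have h3 := congrArg (fun z => oddB (F := F) d z v₁) hst
      have h4 := congrArg (fun z => oddB (F := F) d z v₂) hst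
      simp only [map_add, map_smul, LinearMap.add_apply, LinearMap.smul_apply, hB11, hB22, hB12,
        hB21, smul_eq_mul, mul_zero, add_zero, zero_add, map_zero, LinearMap.zero_apply] at h3 h4
      constructor
      · rcases mul_eq_zero.mp h3 with h | h
        · exact h
        · exact absurd h h2
      · rcases mul_eq_zero.mp h4 with h | h
        · exact h
        · exact absurd h h2
    have h := finrank_span_eq_card hli
    have hr : Set.range ![v₁, v₂] = {v₁, v₂} := by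
      ext z
      simp only [Matrix.range_cons, Matrix.range_empty, Set.union_empty, Set.mem_union,
        Set.mem_singleton_iff, Set.mem_insert_iff]
    rw [hr, Fintype.card_fin] at h
    rw [hP]
    exact h
  have hWle : W ≤ ⊤ ⊓ (oddB (F := F) d).orthogonal P := by
    intro w hw
    refine Submodule.mem_inf.mpr ⟨Submodule.mem_top, ?_⟩
    intro p hp
    show oddB d p w = 0
    have hle : P ≤ LinearMap.ker ((oddB (F := F) d).flip w) := by
      rw [hP, Submodule.span_le]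
      intro z hz
      rw [SetLike.mem_coe, LinearMap.mem_ker]
      show oddB d z w = 0
      rw [hBQ]
      rcases hz with rfl | rfl
      · exact (hperp w hw).1
      · exact (hperp w hw).2
    have := hle hp
    rw [LinearMap.mem_ker] at this
    exact this
  have hndV := oddB_NDon_top (F := F) h2 d
  have hdim := finrank_perp_inR (oddB (F := F) d) hrefl ⊤ P hPnd le_top
  rw [finrank_top, finrank_oddV, hPdim] at hdim
  have hnd' := NDon_perp_inR (oddB (F := F) d) hrefl ⊤ P hndV hPnd le_top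
  have hle := finrank_isotropic_leR (oddB (F := F) d) hrefl _ W hnd' hWle
    ((TIon_oddB_iff h2 d W).mpr hWts)
  rw [hWm] at hle
  omega

end two

end

end Cfsg.Agent.Lib.H13.OSS
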