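import Mathlib
import Cfsg.Agent.Lib.H13.OES6
import Cfsg.Agent.Lib.H13.Char2Omega
import Cfsg.Agent.Lib.H11.OrthReal2
import Cfsg.Agent.Lib.H13.AutPO1
import Cfsg.Agent.Lib.H13.OSS4
import Cfsg.Agent.Lib.H13.OSS6
import Cfsg.Agent.Lib.H24.ElusTiTwo
import Cfsg.Agent.Lib.H11.OrtOd3
import Cfsg.Agent.Lib.H10.OrtNdD
import Cfsg.Agent.Lib.H13.OmegaCrit

/-!
`PΩ^±_{2d}(q)` on totally singular `m`-spaces (S5973, S5987; helper13): elements of odd order lie in `Ω` in all characteristics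
(`mem_omegaGL_of_odd`), the bridge between matrices and endomorphisms (`allFix_iff_odd`), involutions (`two_suff_invol`, `invol_nec`),
elements with square `-1` (`neg_suff`, `neg_cond`, `neg_exists`, `neg_nec`), the case `r = 2` (`main_two`) and the main theorem `main_all`.
-/

set_option autoImplicit false
set_option linter.unusedSectionVars false
set_option linter.unusedVariables false
set_option linter.unusedSimpArgs false
set_option linter.deprecated false

namespace Cfsg.Agent.Lib.H13.OES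

section

open Polynomial Module Matrix
open Cfsg.Agent.Lib.H24.Elus
open Cfsg.Agent.Lib.H13
open Cfsg.Agent.Lib.H13.OSS
open Cfsg.Agent.Lib.H10.OrtNd (PB TS PlusOn PB_apply PB_symm PB_self TS_mono)

section bridge

variable {F : Type*} [Field F] [Fintype F] {ι : Type} [Fintype ι] [DecidableEq ι]
variable (Q : QuadraticForm F (ι → F))

/-- elements of odd order of the isometry group lie in `Ω`, in all characteristics -/
theorem mem_omegaGL_of_odd (hQ : (QuadraticMap.polarBilin Q).Nondegenerate)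
    (hcard : 5 ≤ Fintype.card ι) (x : GL ι F) (hx : x ∈ Cfsg.isometryGroup F ⇑Q) (k : ℕ)
    (hk : Odd k) (hxk : x ^ k = 1) : x ∈ Cfsg.Geo.omegaGL ⇑Q := by
  by_cases h2 : (2 : F) = 0
  · haveI : CharP F 2 := CharTwo.of_one_ne_zero_of_two_eq_zero one_ne_zero h2
    haveI : Nonempty ι := Fintype.card_pos_iff.mp (by omega)
    have hidx := Cfsg.Agent.Lib.H13.Char2Omega.index_Omega Q hQ (Or.inr (by omega))
    obtain ⟨x', hx'⟩ : ∃ x' : ↥(Cfsg.isometryGroup F ⇑Q), x' = ⟨x, hx⟩ := ⟨_, rfl⟩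
    have h4 : x' ^ 2 ∈ Cfsg.Omega F ⇑Q := by
      have := Subgroup.pow_index_mem (Cfsg.Omega F ⇑Q) x'
      rwa [hidx] at this
    have hx'k : x' ^ k = 1 := by
      apply Subtype.ext
      rw [hx']
      exact hxk
    obtain ⟨j, hj⟩ := hk
    have h5 : x' = (x' ^ 2) ^ (j + 1) := by
      rw [← pow_mul]
      have : 2 * (j + 1) = k + 1 := by omega
      rw [this, pow_succ, hx'k, one_mul]
    have h7 : x' ∈ Cfsg.Omega F ⇑Q := by
      rw [h5]
      exact Subgroup.pow_mem _ h4 _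
    refine ⟨x', h7, ?_⟩
    rw [hx']
    rfl
  · exact Cfsg.Agent.Lib.H11.OrthReal.mem_omegaGL_of_odd_order Q hQ h2 (by omega) x hx k hk hxk

/-- all elements of order `r` of `PΩ` fix a totally singular `m`-space -/
def AllFixGL (r m : ℕ) : Prop :=
  ∀ x : GL ι F, x ∈ Cfsg.Geo.omegaGL ⇑Q →
    (∃ z : F, ((x ^ r : GL ι F) : Matrix ι ι F) = z • (1 : Matrix ι ι F)) →
    (∀ z : F, (x : Matrix ι ι F) ≠ z • (1 : Matrix ι ι F)) →
    ∃ W : Submodule F (ι → F), finrank F W = m ∧ (∀ w ∈ W, Q w = 0) ∧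
      W.map (Matrix.toLin' (x : Matrix ι ι F)) ≤ W

omit [Fintype F] in
theorem exists_Q_ne_zero [Nonempty ι] (hQ : (QuadraticMap.polarBilin Q).Nondegenerate) :
    ∃ v, Q v ≠ 0 := Cfsg.Agent.Lib.H13.Char2Omega.exists_Q_ne_zero' Q hQ

omit [Fintype F] in
/-- a scalar isometry is `± 1` -/
theorem scalar_sq [Nonempty ι] (hQ : (QuadraticMap.polarBilin Q).Nondegenerate)
    (M : Matrix ι ι F) (hM : ∀ v, Q (M *ᵥ v) = Q v) (z : F) (hz : M = z • (1 : Matrix ι ι F)) :
    z * z = 1 := by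
  obtain ⟨v, hv⟩ := exists_Q_ne_zero Q hQ
  have h1 := hM v
  rw [hz, Matrix.smul_mulVec, Matrix.one_mulVec, QuadraticMap.map_smul, smul_eq_mul] at h1
  have h2 : (z * z - 1) * Q v = 0 := by linear_combination h1
  rcases mul_eq_zero.mp h2 with h | h
  · linear_combination h
  · exact absurd h hv


omit [Fintype F] in
theorem pow_odd_of_sq_one (z : F) (hz : z * z = 1) (r : ℕ) (hr : Odd r) : z ^ r = z := by
  obtain ⟨j, rfl⟩ := hr
  rw [pow_succ, pow_mul, pow_two, hz, one_pow, one_mul]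

/-- the bridge between matrices and endomorphisms, odd `r` -/
theorem allFix_iff_odd (hQ : (QuadraticMap.polarBilin Q).Nondegenerate)
    (hcard : 5 ≤ Fintype.card ι) (r m : ℕ) (hr : Odd r) :
    AllFixGL Q r m ↔ AllFixTS Q r m := by
  haveI : Nonempty ι := Fintype.card_pos_iff.mp (by omega)
  have hr0 : 0 < r := hr.pos
  constructor
  · intro hGL y hyiso hyr hyne
    have h1 : y * y ^ (r - 1) = 1 := by rw [← pow_succ', Nat.sub_add_cancel hr0, hyr]
    have h2 : y ^ (r - 1) * y = 1 := by rw [← pow_succ, Nat.sub_add_cancel hr0, hyr]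
    obtain ⟨ψe, hψe⟩ : ∃ ψe : (ι → F) ≃ₗ[F] (ι → F), ∀ v, ψe v = y v :=
      ⟨LinearEquiv.ofLinear y (y ^ (r - 1)) h1 h2, fun v => rfl⟩
    have hψQ : ∀ v, Q (ψe v) = Q v := fun v => by rw [hψe]; exact hyiso v
    obtain ⟨x, hxmem, hmv⟩ : ∃ x : GL ι F, x ∈ Cfsg.isometryGroup F ⇑Q ∧
        ∀ w, (x : Matrix ι ι F) *ᵥ w = y w :=
      ⟨_, (AutPO.elOfEquiv Q ψe hψQ).2, fun w => by
        rw [AutPO.elOfEquiv_mulVec _ ψe hψQ w, hψe]⟩
    have hlin : Matrix.toLin' (x : Matrix ι ι F) = y := by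
      apply LinearMap.ext
      intro w
      rw [Matrix.toLin'_apply, hmv]
    have hxr : x ^ r = 1 := by
      apply Units.ext
      rw [Units.val_pow_eq_pow_val, Units.val_one]
      apply Matrix.toLin'.injective
      rw [Matrix.toLin'_pow, hlin, hyr, Matrix.toLin'_one]
      rfl
    have hxΩ := mem_omegaGL_of_odd Q hQ hcard x hxmem r hr hxr
    obtain ⟨W, hWm, hWts, hWinv⟩ := hGL x hxΩ ⟨1, by rw [hxr, one_smul]; rfl⟩ (by
      intro z hz
      have hzz : z * z = 1 := scalar_sq Q hQ _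
        ((AutPO.mem_iso_iff (Q := Q) x).mp hxmem) z hz
      have hyz : y = z • (1 : End F (ι → F)) := by
        rw [← hlin, hz]
        apply LinearMap.ext
        intro w
        rw [Matrix.toLin'_apply, Matrix.smul_mulVec, Matrix.one_mulVec]
        rfl
      have hzr : z ^ r = 1 := by
        have h3 := hyr
        rw [hyz, _root_.smul_pow, one_pow] at h3
        have h4 := LinearMap.congr_fun h3
        obtain ⟨v, hv⟩ := exists_Q_ne_zero Q hQ
        have hv0 : v ≠ 0 := by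
          intro h0
          rw [h0, map_zero] at hv
          exact hv rfl
        have h5 := h4 v
        rw [LinearMap.smul_apply, Module.End.one_apply] at h5
        have h6 : (z ^ r - 1) • v = 0 := by rw [sub_smul, one_smul, h5, sub_self]
        rcases smul_eq_zero.mp h6 with h | h
        · exact sub_eq_zero.mp h
        · exact absurd h hv0
      rw [pow_odd_of_sq_one z hzz r hr] at hzr
      apply hyne
      rw [hyz, hzr, one_smul])
    refine ⟨W, hWm, hWts, ?_⟩
    rw [hlin] at hWinv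
    intro v hv
    exact hWinv ⟨v, hv, rfl⟩
  · intro hTS x hxΩ hsc hns
    obtain ⟨z, hz⟩ := hsc
    have hxiso := mem_iso_of_mem_omegaGL (⇑Q) x hxΩ
    have hM := (AutPO.mem_iso_iff (Q := Q) x).mp hxiso
    have hMr := (AutPO.mem_iso_iff (Q := Q) (x ^ r)).mp (Subgroup.pow_mem _ hxiso r)
    have hzz : z * z = 1 := scalar_sq Q hQ _ hMr z hz
    obtain ⟨y, hy⟩ : ∃ y : End F (ι → F), y = z • Matrix.toLin' (x : Matrix ι ι F) := ⟨_, rfl⟩
    have hyapp : ∀ v, y v = z • ((x : Matrix ι ι F) *ᵥ v) := by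
      intro v
      rw [hy, LinearMap.smul_apply, Matrix.toLin'_apply]
    have hyiso : ∀ v, Q (y v) = Q v := by
      intro v
      rw [hyapp, QuadraticMap.map_smul, hM, smul_eq_mul, hzz, one_mul]
    have hyr : y ^ r = 1 := by
      rw [hy, _root_.smul_pow, ← Matrix.toLin'_pow, ← Units.val_pow_eq_pow_val, hz,
        pow_odd_of_sq_one z hzz r hr]
      apply LinearMap.ext
      intro v
      rw [LinearMap.smul_apply, Matrix.toLin'_apply, Matrix.smul_mulVec, Matrix.one_mulVec,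
        smul_smul, hzz, one_smul]
      rfl
    have hxy : Matrix.toLin' (x : Matrix ι ι F) = z • y := by
      rw [hy, smul_smul, hzz, one_smul]
    have hyne : y ≠ 1 := by
      intro h1
      apply hns z
      apply Matrix.toLin'.injective
      rw [hxy, h1]
      apply LinearMap.ext
      intro v
      rw [LinearMap.smul_apply, Module.End.one_apply, Matrix.toLin'_apply, Matrix.smul_mulVec,
        Matrix.one_mulVec]
    obtain ⟨W, hWm, hWts, hWinv⟩ := hTS y hyiso hyr hyne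
    refine ⟨W, hWm, hWts, ?_⟩
    rw [map_le_iff]
    intro v hv
    rw [hxy, LinearMap.smul_apply]
    exact W.smul_mem z (hWinv v hv)

end bridge

end

section

open Polynomial Module Matrix
open Cfsg.Agent.Lib.H24.Elus
open Cfsg.Agent.Lib.H13
open Cfsg.Agent.Lib.H13.OSS
open Cfsg.Agent.Lib.H10.OrtNd (PB TS PlusOn PB_apply PB_symm PB_self TS_mono TS_of_isotropic)

section twosuff

variable {F : Type*} [Field F] [Fintype F] {ι : Type} [Fintype ι] [DecidableEq ι]
variable (Q : QuadraticForm F (ι → F))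

/-- totally singular subspaces of prescribed dimension in a nondegenerate subspace -/
theorem exists_ts_sub' (U : Submodule F (ι → F)) (hU : NDon (PB Q) U) (n : ℕ)
    (hd : finrank F U = 2 * n) (e : ℕ) (he : e = 0 ∨ e + 1 ≤ n ∨ (e ≤ n ∧ PlusOn Q U)) :
    ∃ W : Submodule F (ι → F), W ≤ U ∧ TS Q W ∧ finrank F W = e := by
  rcases he with rfl | he
  · exact ⟨⊥, bot_le, TS_bot Q, finrank_bot F _⟩
  · exact exists_ts_sub Q U hU n hd e he

/-- involutions of `Ω` fixing totally singular subspaces -/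
theorem two_suff_invol [DecidableEq F] (h2 : (2 : F) ≠ 0)
    (hQ : (QuadraticMap.polarBilin Q).Nondegenerate) (d m : ℕ) (hcard : Fintype.card ι = 2 * d)
    (hd : 1 ≤ d) (hmd : m + 1 ≤ d)
    (hcond : m + 2 ≤ d ∨ ¬ PlusOn Q ⊤ ∨ IsSquare (-1 : F))
    (x : GL ι F) (hxΩ : x ∈ Cfsg.Geo.omegaGL ⇑Q) (hx2 : x ^ 2 = 1) :
    ∃ W : Submodule F (ι → F), finrank F W = m ∧ TS Q W ∧
      W.map (Matrix.toLin' (x : Matrix ι ι F)) ≤ W := by
  have hxiso : x ∈ Cfsg.isometryGroup F ⇑Q := mem_iso_of_mem_omegaGL _ x hxΩ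
  obtain ⟨N, hN, hZ⟩ := invol_minus_data h2 Q (by omega) hQ x hxΩ hx2
  obtain ⟨y, hy⟩ : ∃ y, y = Matrix.toLin' (x : Matrix ι ι F) := ⟨_, rfl⟩
  rw [← hy] at hN hZ ⊢
  have hy2 : y ^ 2 = 1 := by rw [hy]; exact toLin_pow_eq_one x 2 hx2
  have hsym := PB_symm Q
  have hiso : ∀ u v, PB Q (y u) (y v) = PB Q u v := by
    rw [hy]
    exact polarBilin_iso Q x hxiso
  have hndV := NDon_top_of Q hQ
  obtain ⟨hFxnd, hCynd, horth, hdim, hmem⟩ := invol_struct h2 hsym hiso hy2 hndV
  rw [Module.finrank_fintype_fun_eq_card, hcard, hN] at hdim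
  have hNd : N ≤ d := by omega
  have hdimp : finrank F (LinearMap.ker (aeval y (X - 1 : F[X]))) = 2 * (d - N) := by omega
  have hsup : LinearMap.ker (aeval y (X - 1 : F[X])) ⊔ LinearMap.ker (aeval y (X + 1 : F[X]))
      = ⊤ := by
    apply Submodule.eq_top_of_finrank_eq
    obtain ⟨-, hd'⟩ := ti_supR (PB Q) (PB_refl Q) _ _ ⊥ ⊥ hFxnd horth bot_le bot_le
      (TIon_bot _) (TIon_bot _)
    have h3 := Submodule.finrank_sup_add_finrank_inf_eq
      (LinearMap.ker (aeval y (X - 1 : F[X]))) (LinearMap.ker (aeval y (X + 1 : F[X])))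
    rw [inf_eq_bot_of_orthR (PB Q) (PB_refl Q) _ _ hFxnd horth, finrank_bot, add_zero] at h3
    rw [h3, hdimp, hN, Module.finrank_fintype_fun_eq_card, hcard]
    omega
  have htype := plus_top_iff Q hQ _ _ hFxnd hCynd horth hsup ⟨d - N, by rw [hdimp]; ring⟩
    ⟨N, by rw [hN]; ring⟩
  -- the dimensions of the two parts
  have hkey : ∃ e₁ e₂, e₁ + e₂ = m ∧
      (e₁ = 0 ∨ e₁ + 1 ≤ d - N ∨
        (e₁ ≤ d - N ∧ PlusOn Q (LinearMap.ker (aeval y (X - 1 : F[X]))))) ∧
      (e₂ = 0 ∨ e₂ + 1 ≤ N ∨ (e₂ ≤ N ∧ PlusOn Q (LinearMap.ker (aeval y (X + 1 : F[X]))))) := by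
    by_cases hpm : PlusOn Q (LinearMap.ker (aeval y (X + 1 : F[X])))
    · refine ⟨m - min m N, min m N, by omega, by omega, ?_⟩
      right; right
      exact ⟨min_le_right _ _, hpm⟩
    by_cases hpp : PlusOn Q (LinearMap.ker (aeval y (X - 1 : F[X])))
    · refine ⟨min m (d - N), m - min m (d - N), by omega, ?_, by omega⟩
      right; right
      exact ⟨min_le_right _ _, hpp⟩
    have hcase : m + 2 ≤ d := by
      rcases hcond with h | h | h
      · exact h
      · exact absurd (htype.mpr ⟨fun h' => absurd h' hpp, fun h' => absurd h' hpm⟩) h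
      · exfalso
        obtain ⟨Z, hZle, hZti, hZd⟩ := hZ h
        exact hpm ⟨Z, hZle, TS_of_isotropic Q h2 hZti, by rw [hZd, hN]⟩
    refine ⟨min m (d - N - 1), m - min m (d - N - 1), by omega, by omega, by omega⟩
  obtain ⟨e₁, e₂, hsum, he₁, he₂⟩ := hkey
  obtain ⟨W₁, hW₁le, hW₁ts, hW₁d⟩ := exists_ts_sub' Q _ hFxnd (d - N) hdimp e₁ he₁
  obtain ⟨W₂, hW₂le, hW₂ts, hW₂d⟩ := exists_ts_sub' Q _ hCynd N hN e₂ he₂
  obtain ⟨hdimW, -, hinv⟩ := invol_sum h2 hsym hiso hy2 hndV W₁ W₂ hW₁le hW₂le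
    (TIon_of_TS Q hW₁ts) (TIon_of_TS Q hW₂ts)
  refine ⟨W₁ ⊔ W₂, by rw [hdimW, hW₁d, hW₂d, hsum],
    TS_sup Q hW₁ts hW₂ts (fun a ha w hw => horth a (hW₁le ha) w (hW₂le hw)), ?_⟩
  rw [Submodule.map_le_iff_le_comap]
  exact hinv

end twosuff

end

section

open Polynomial Module Matrix
open Cfsg.Agent.Lib.H24.Elus
open Cfsg.Agent.Lib.H13
open Cfsg.Agent.Lib.H13.OSS
open Cfsg.Agent.Lib.H10.OrtNd (PB TS PlusOn PB_apply PB_symm PB_self TS_mono TS_of_isotropic)

section negone

variable {F : Type*} [Field F] [Fintype F] {ι : Type} [Fintype ι] [DecidableEq ι]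
variable (Q : QuadraticForm F (ι → F))

/-- isometries with square `-1` fixing totally singular subspaces -/
theorem neg_suff (h2 : (2 : F) ≠ 0)
    (hQ : (QuadraticMap.polarBilin Q).Nondegenerate) (d m : ℕ) (hcard : Fintype.card ι = 2 * d)
    (hmd : m ≤ d) (hcond : IsSquare (-1 : F) ∨ Even m)
    (x : GL ι F) (hxiso : x ∈ Cfsg.isometryGroup F ⇑Q)
    (hx2 : (x : Matrix ι ι F) * (x : Matrix ι ι F) = -1) :
    ∃ W : Submodule F (ι → F), finrank F W = m ∧ TS Q W ∧
      W.map (Matrix.toLin' (x : Matrix ι ι F)) ≤ W := by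
  obtain ⟨y, hy⟩ : ∃ y, y = Matrix.toLin' (x : Matrix ι ι F) := ⟨_, rfl⟩
  rw [← hy]
  have hyy : ∀ v, y (y v) = -v := by
    intro v
    rw [hy, Matrix.toLin'_apply, Matrix.toLin'_apply, Matrix.mulVec_mulVec, hx2,
      Matrix.neg_mulVec, Matrix.one_mulVec]
  have hiso : ∀ u v, PB Q (y u) (y v) = PB Q u v := by
    rw [hy]
    exact polarBilin_iso Q x hxiso
  have hV : finrank F (ι → F) = 2 * d := by
    rw [Module.finrank_fintype_fun_eq_card, hcard]
  have hndV := NDon_top_of Q hQ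
  rcases hcond with hsq | hme
  · obtain ⟨ι₀, hι₀⟩ := hsq
    obtain ⟨W, hWm, hWti, hWinv⟩ := exists_ti_neg_split (B := PB Q) h2 hiso hyy ι₀ hι₀.symm d m
      hV hmd
    refine ⟨W, hWm, TS_of_isotropic Q h2 hWti, ?_⟩
    rw [Submodule.map_le_iff_le_comap]
    exact hWinv
  · obtain ⟨B', hB'⟩ : ∃ B' : LinearMap.BilinForm F (ι → F), B' = (PB Q).compl₂ y := ⟨_, rfl⟩
    have hB'app : ∀ u v, B' u v = PB Q u (y v) := fun u v => by
      rw [hB', LinearMap.compl₂_apply]
    have halt' : ∀ v, B' v v = 0 := by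
      intro v
      rw [hB'app]
      have h1 := hiso v (y v)
      rw [hyy, map_neg, PB_symm Q (y v) v] at h1
      have h3 : (2 : F) * PB Q v (y v) = 0 := by linear_combination -h1
      rcases mul_eq_zero.mp h3 with h | h
      · exact absurd h h2
      · exact h
    have hiso' : ∀ u v, B' (y u) (y v) = B' u v := fun u v => by
      rw [hB'app, hB'app, hiso]
    have hndV' : NDon B' ⊤ := by
      intro u _ h
      apply hndV u Submodule.mem_top
      intro w _
      have := h (-(y w)) Submodule.mem_top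
      rw [hB'app, map_neg, hyy, neg_neg] at this
      exact this
    obtain ⟨W, hWm, hWti, hWinv⟩ := exists_ti_neg_even h2 halt' hiso' hyy hndV' d m hV hmd hme
    refine ⟨W, hWm, TS_of_isotropic Q h2 ?_, ?_⟩
    · intro u hu v hv
      have := hWti u hu (-(y v)) (W.neg_mem (hWinv v hv))
      rw [hB'app, map_neg, hyy, neg_neg] at this
      exact this
    · rw [Submodule.map_le_iff_le_comap]
      exact hWinv

/-- the conditions for the existence of an element of `Ω` with square `-1` -/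
theorem neg_cond [DecidableEq F] (h2 : (2 : F) ≠ 0)
    (hQ : (QuadraticMap.polarBilin Q).Nondegenerate) (d : ℕ) (hd : 1 ≤ d)
    (hcard : Fintype.card ι = 2 * d)
    (x : GL ι F) (hxΩ : x ∈ Cfsg.Geo.omegaGL ⇑Q)
    (hx2 : (x : Matrix ι ι F) * (x : Matrix ι ι F) = -1) :
    IsSquare ((2 : F) ^ d) ∧ (PlusOn Q ⊤ ↔ IsSquare ((-1 : F) ^ d)) := by
  have hxiso : x ∈ Cfsg.isometryGroup F ⇑Q := mem_iso_of_mem_omegaGL _ x hxΩ
  obtain ⟨h1, hD⟩ := Cfsg.Agent.Lib.H11.OrtOd.omega_iff_of_sq_neg_one Q hQ h2 d hd hcard x hxiso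
    hx2
  have hV : finrank F (⊤ : Submodule F (ι → F)) = 2 * d := by
    rw [finrank_top, Module.finrank_fintype_fun_eq_card, hcard]
  have h3 := Cfsg.Agent.Lib.H10.OrtNd.plus_iff_DSq Q h2 (NDon_top_of Q hQ) hV
  refine ⟨h1.mp hxΩ, ?_⟩
  rw [h3]
  tauto

/-- existence of an element of `Ω` with square `-1` -/
theorem neg_exists [DecidableEq F] (h2 : (2 : F) ≠ 0)
    (hQ : (QuadraticMap.polarBilin Q).Nondegenerate) (d : ℕ) (hd : 1 ≤ d)
    (hcard : Fintype.card ι = 2 * d) (hs2 : IsSquare ((2 : F) ^ d))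
    (hty : PlusOn Q ⊤ ↔ IsSquare ((-1 : F) ^ d)) :
    ∃ x : GL ι F, x ∈ Cfsg.Geo.omegaGL ⇑Q ∧
      (x : Matrix ι ι F) * (x : Matrix ι ι F) = -1 := by
  have hV : finrank F (⊤ : Submodule F (ι → F)) = 2 * d := by
    rw [finrank_top, Module.finrank_fintype_fun_eq_card, hcard]
  have h3 := Cfsg.Agent.Lib.H10.OrtNd.plus_iff_DSq Q h2 (NDon_top_of Q hQ) hV
  have hD : Cfsg.Agent.Lib.H10.OrtNd.DSq Q ⊤ := by
    rw [h3] at hty
    tauto
  obtain ⟨g, hg, hsq⟩ := Cfsg.Agent.Lib.H11.OrtOd.exists_sq_neg_one Q hQ h2 d hcard hD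
  obtain ⟨h1, -⟩ := Cfsg.Agent.Lib.H11.OrtOd.omega_iff_of_sq_neg_one Q hQ h2 d hd hcard g hg hsq
  exact ⟨g, h1.mpr hs2, hsq⟩

/-- elements with square `-1` do not fix subspaces of odd dimension if `-1` is a nonsquare -/
theorem neg_nec [DecidableEq F] (h2 : (2 : F) ≠ 0)
    (hQ : (QuadraticMap.polarBilin Q).Nondegenerate) (d m : ℕ) (hd : 1 ≤ d)
    (hcard : Fintype.card ι = 2 * d) (hs2 : IsSquare ((2 : F) ^ d))
    (hty : PlusOn Q ⊤ ↔ IsSquare ((-1 : F) ^ d)) (hns : ¬ IsSquare (-1 : F))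
    (hmodd : ¬ Even m) (hall : AllFixGL Q 2 m) : False := by
  obtain ⟨x, hxΩ, hx2⟩ := neg_exists Q h2 hQ d hd hcard hs2 hty
  obtain ⟨W, hWm, -, hWinv⟩ := hall x hxΩ ⟨-1, by
      rw [pow_two, Units.val_mul, hx2, neg_smul, one_smul]⟩ (by
    intro z hz
    apply hns
    refine ⟨z, ?_⟩
    have h1 := hx2
    rw [hz, Matrix.smul_mul, Matrix.mul_smul, Matrix.mul_one, smul_smul] at h1
    haveI : Nonempty ι := Fintype.card_pos_iff.mp (by omega)
    obtain ⟨i⟩ := ‹Nonempty ι›
    have h3 := congrFun (congrFun h1 i) i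
    simp only [Matrix.smul_apply, Matrix.one_apply_eq, smul_eq_mul, mul_one, Matrix.neg_apply]
      at h3
    exact h3.symm)
  rw [Submodule.map_le_iff_le_comap] at hWinv
  have hyy : ∀ v, Matrix.toLin' (x : Matrix ι ι F) (Matrix.toLin' (x : Matrix ι ι F) v) = -v := by
    intro v
    rw [Matrix.toLin'_apply, Matrix.toLin'_apply, Matrix.mulVec_mulVec, hx2,
      Matrix.neg_mulVec, Matrix.one_mulVec]
  have := even_finrank_of_neg hyy hns W hWinv
  rw [hWm] at this
  exact hmodd this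

end negone

end

section

open Polynomial Module Matrix
open Cfsg.Agent.Lib.H24.Elus
open Cfsg.Agent.Lib.H13
open Cfsg.Agent.Lib.H13.OSS
open Cfsg.Agent.Lib.H10.OrtNd (PB TS PlusOn PB_apply PB_symm PB_self TS_mono TS_of_isotropic)

section involnec

variable {F : Type*} [Field F] [Fintype F] {ι : Type} [Fintype ι] [DecidableEq ι]
variable (Q : QuadraticForm F (ι → F))

/-- an involution of `Ω` whose `-1`-eigenspace is an anisotropic plane fixes no totally singular
subspace of dimension `d - 1` of a plus type space -/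
theorem invol_nec [DecidableEq F] (h2 : (2 : F) ≠ 0)
    (hQ : (QuadraticMap.polarBilin Q).Nondegenerate) (d : ℕ) (hd : 2 ≤ d)
    (hcard : Fintype.card ι = 2 * d) (hns : ¬ IsSquare (-1 : F)) (hplus : PlusOn Q ⊤)
    (v₁ v₂ : ι → F) (hQ1 : Q v₁ = 1) (hQ2 : Q v₂ = 1)
    (horth : QuadraticMap.polar (⇑Q) v₁ v₂ = 0) (hall : AllFixGL Q 2 (d - 1)) : False := by
  have hcard2 : 2 ≤ Fintype.card ι := by omega
  have hQ1' : Q v₁ ≠ 0 := by rw [hQ1]; exact one_ne_zero
  have hQ2' : Q v₂ ≠ 0 := by rw [hQ2]; exact one_ne_zero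
  obtain ⟨g, hg⟩ : ∃ g : ↥(Cfsg.isometryGroup F ⇑Q),
      g = Cfsg.Agent.Lib.H13.HypPairs.reflG Q v₁ hQ1' *
        Cfsg.Agent.Lib.H13.HypPairs.reflG Q v₂ hQ2' := ⟨_, rfl⟩
  have hgval : ((g : GL ι F) : Matrix ι ι F) =
        Cfsg.reflectionMatrix ⇑Q v₁ * Cfsg.reflectionMatrix ⇑Q v₂ := by
    rw [hg]
    rfl
  have hgΩ : g ∈ Cfsg.Omega F ⇑Q := by
    rw [OmegaCrit.mem_Omega_iff_list Q h2 hcard2 hQ g [v₁, v₂] ?_ ?_]
    · refine ⟨⟨1, rfl⟩, ?_⟩
      simp only [List.map_cons, List.map_nil, List.prod_cons, List.prod_nil, hQ1, hQ2, mul_one]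
      exact ⟨1, (mul_one 1).symm⟩
    · intro v hv
      simp only [List.mem_cons, List.not_mem_nil, or_false] at hv
      rcases hv with rfl | rfl
      · exact hQ1'
      · exact hQ2'
    · rw [hgval]
      simp only [List.map_cons, List.map_nil, List.prod_cons, List.prod_nil, mul_one]
  obtain ⟨x, hx⟩ : ∃ x : GL ι F, x = (g : GL _ F) := ⟨_, rfl⟩
  have hxval : (x : Matrix ι ι F) =
      Cfsg.reflectionMatrix ⇑Q v₁ * Cfsg.reflectionMatrix ⇑Q v₂ := by rw [hx, hgval]
  have hxΩ : x ∈ Cfsg.Geo.omegaGL ⇑Q := by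
    rw [hx]
    exact ⟨g, hgΩ, rfl⟩
  have hact : ∀ z, (x : Matrix ι ι F) *ᵥ z =
      z - QuadraticMap.polar (⇑Q) v₁ z • v₁ - QuadraticMap.polar (⇑Q) v₂ z • v₂ := by
    intro z
    rw [hxval, two_refl_mulVec Q v₁ v₂ horth z, hQ1, hQ2, inv_one, one_mul, one_mul]
  have hx2 : x ^ 2 = 1 := by
    apply Units.ext
    rw [pow_two, Units.val_mul, hxval, Units.val_one]
    exact two_refl_sq Q h2 v₁ v₂ hQ1' hQ2' horth
  have hxv₁ : (x : Matrix ι ι F) *ᵥ v₁ = -v₁ := by
    rw [hact, QuadraticMap.polar_self, hQ1, QuadraticMap.polar_comm, horth, zero_smul, sub_zero]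
    have e : ((2 : ℕ) • (1 : F)) = 2 := by simp
    rw [e, two_smul]
    abel
  have hv₁0 : v₁ ≠ 0 := by
    intro h0
    rw [h0, map_zero] at hQ1
    exact zero_ne_one hQ1
  -- the plane `P`
  have hrefl := PB_refl Q
  have hB11 : PB Q v₁ v₁ = 2 := by rw [PB_self, hQ1, mul_one]
  have hB22 : PB Q v₂ v₂ = 2 := by rw [PB_self, hQ2, mul_one]
  have hB12 : PB Q v₁ v₂ = 0 := horth
  have hB21 : PB Q v₂ v₁ = 0 := by rw [PB_symm, hB12]
  obtain ⟨P, hP⟩ : ∃ P, P = Submodule.span F {v₁, v₂} := ⟨_, rfl⟩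
  have hPnd : NDon (PB Q) P := by
    intro u hu hu'
    rw [hP] at hu
    obtain ⟨α, β, rfl⟩ := Submodule.mem_span_pair.mp hu
    have h3 := hu' v₁ (by rw [hP]; exact Submodule.subset_span (by simp))
    have h4 := hu' v₂ (by rw [hP]; exact Submodule.subset_span (by simp))
    simp only [map_add, map_smul, LinearMap.add_apply, LinearMap.smul_apply, hB11, hB22, hB12,
      hB21, smul_eq_mul, mul_zero, add_zero, zero_add] at h3 h4
    have hα : α = 0 := by
      rcases mul_eq_zero.mp h3 with h | h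
      · exact h
      · exact absurd h h2
    have hβ : β = 0 := by
      rcases mul_eq_zero.mp h4 with h | h
      · exact h
      · exact absurd h h2
    rw [hα, hβ, zero_smul, zero_smul, add_zero]
  have hPdim : finrank F P = 2 := by
    have hli : LinearIndependent F ![v₁, v₂] := by
      rw [LinearIndependent.pair_iff]
      intro s t hst
      have h3 := congrArg (fun z => PB Q z v₁) hst
      have h4 := congrArg (fun z => PB Q z v₂) hst
      simp only [map_add, map_smul, LinearMap.add_apply, LinearMap.smul_apply, hB11, hB22, hB12,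
        hB21, smul_eq_mul, mul_zero, add_zero, zero_add, map_zero, LinearMap.zero_apply] at h3 h4
      constructor
      · rcases mul_eq_zero.mp h3 with h | h
        · exact h
        · exact absurd h h2
      · rcases mul_eq_zero.mp h4 with h | h
        · exact h
        · exact absurd h h2
    have h := finrank_span_eq_card hli
    have hr : Set.range ![v₁, v₂] = {v₁, v₂} := by
      ext z
      simp only [Matrix.range_cons, Matrix.range_empty, Set.union_empty, Set.mem_union,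
        Set.mem_singleton_iff, Set.mem_insert_iff]
    rw [hr, Fintype.card_fin] at h
    rw [hP]
    exact h
  have hPaniso : ∀ u ∈ P, Q u = 0 → u = 0 := by
    intro u hu hu0
    rw [hP] at hu
    obtain ⟨α, β, rfl⟩ := Submodule.mem_span_pair.mp hu
    rw [QuadraticMap.map_add (⇑Q), QuadraticMap.map_smul, QuadraticMap.map_smul,
      QuadraticMap.polar_smul_left, QuadraticMap.polar_smul_right, horth, hQ1, hQ2] at hu0
    simp only [smul_eq_mul, mul_one, mul_zero, add_zero] at hu0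
    have hβ0 : β = 0 := by
      by_contra hne
      apply hns
      refine ⟨α / β, ?_⟩
      field_simp
      linear_combination -hu0
    rw [hβ0, mul_zero, add_zero] at hu0
    rw [mul_self_eq_zero.mp hu0, hβ0, zero_smul, zero_smul, add_zero]
  have hV : finrank F (ι → F) = 2 * d := by
    rw [Module.finrank_fintype_fun_eq_card, hcard]
  -- `x` is not a scalar
  have hnsc : ∀ z : F, (x : Matrix ι ι F) ≠ z • (1 : Matrix ι ι F) := by
    intro z hz
    have hall' : ∀ u : ι → F, (2 : F) • u ∈ P ∨ z = 1 := by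
      intro u
      by_cases hz1 : z = 1
      · right; exact hz1
      · left
        have h3 := hact u
        rw [hz, Matrix.smul_mulVec, Matrix.one_mulVec] at h3
        have h4 := hxv₁
        rw [hz, Matrix.smul_mulVec, Matrix.one_mulVec] at h4
        have hz' : z = -1 := by
          have h5 : (z + 1) • v₁ = 0 := by
            rw [add_smul, h4, one_smul]
            abel
          rcases smul_eq_zero.mp h5 with h | h
          · linear_combination h
          · exact absurd h hv₁0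
        rw [hz', neg_smul, one_smul] at h3
        have h6 : (2 : F) • u = QuadraticMap.polar (⇑Q) v₁ u • v₁ +
            QuadraticMap.polar (⇑Q) v₂ u • v₂ := by
          rw [two_smul]
          have h7 : u + u = u - (-u) := by abel
          rw [h7, h3]
          abel
        rw [h6, hP]
        exact Submodule.add_mem _ (Submodule.smul_mem _ _ (Submodule.subset_span (by simp)))
          (Submodule.smul_mem _ _ (Submodule.subset_span (by simp)))
    by_cases hz1 : z = 1
    · -- `x = 1` contradicts `x v₁ = - v₁`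
      have h4 := hxv₁
      rw [hz, hz1, one_smul, Matrix.one_mulVec] at h4
      have h5 : (2 : F) • v₁ = 0 := by
        rw [two_smul]
        nth_rewrite 1 [h4]
        abel
      rcases smul_eq_zero.mp h5 with h | h
      · exact h2 h
      · exact hv₁0 h
    · have htop : (⊤ : Submodule F (ι → F)) ≤ P := by
        intro u _
        rcases hall' u with h | h
        · have := P.smul_mem (2 : F)⁻¹ h
          rwa [smul_smul, inv_mul_cancel₀ h2, one_smul] at this
        · exact absurd h hz1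
      have := Submodule.finrank_mono htop
      rw [finrank_top, hV, hPdim] at this
      omega
  obtain ⟨W, hWm, hWts, hWmap⟩ := hall x hxΩ ⟨1, by rw [hx2, one_smul]; rfl⟩ hnsc
  have hWinv := (map_le_iff W _).mp hWmap
  -- vectors of `W` are orthogonal to `v₁`, `v₂`
  have hperp : ∀ w ∈ W, QuadraticMap.polar (⇑Q) v₁ w = 0 ∧ QuadraticMap.polar (⇑Q) v₂ w = 0 := by
    intro w hw
    obtain ⟨c₁, hc₁⟩ : ∃ c₁, c₁ = QuadraticMap.polar (⇑Q) v₁ w := ⟨_, rfl⟩
    obtain ⟨c₂, hc₂⟩ : ∃ c₂, c₂ = QuadraticMap.polar (⇑Q) v₂ w := ⟨_, rfl⟩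
    rw [← hc₁, ← hc₂]
    have h3 := hWinv w hw
    rw [Matrix.toLin'_apply, hact, ← hc₁, ← hc₂] at h3
    have h4 : c₁ • v₁ + c₂ • v₂ ∈ W := by
      have := W.sub_mem hw h3
      have e : w - (w - c₁ • v₁ - c₂ • v₂) = c₁ • v₁ + c₂ • v₂ := by abel
      rwa [e] at this
    have h5 := hPaniso _ (by
      rw [hP]
      exact Submodule.add_mem _ (Submodule.smul_mem _ _ (Submodule.subset_span (by simp)))
        (Submodule.smul_mem _ _ (Submodule.subset_span (by simp)))) (hWts _ h4)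
    have h6 := congrArg (fun z => PB Q z v₁) h5
    have h7 := congrArg (fun z => PB Q z v₂) h5
    simp only [map_add, map_smul, LinearMap.add_apply, LinearMap.smul_apply, hB11, hB22, hB12,
      hB21, smul_eq_mul, mul_zero, add_zero, zero_add, map_zero, LinearMap.zero_apply] at h6 h7
    constructor
    · rcases mul_eq_zero.mp h6 with h | h
      · exact h
      · exact absurd h h2
    · rcases mul_eq_zero.mp h7 with h | h
      · exact h
      · exact absurd h h2
  have hWle : W ≤ ⊤ ⊓ (PB Q).orthogonal P := by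
    intro w hw
    refine Submodule.mem_inf.mpr ⟨Submodule.mem_top, ?_⟩
    intro p' hp
    show PB Q p' w = 0
    have hle : P ≤ LinearMap.ker ((PB Q).flip w) := by
      rw [hP, Submodule.span_le]
      intro z hz
      rw [SetLike.mem_coe, LinearMap.mem_ker]
      show PB Q z w = 0
      rcases hz with rfl | rfl
      · exact (hperp w hw).1
      · exact (hperp w hw).2
    have := hle hp
    rw [LinearMap.mem_ker] at this
    exact this
  have hndV := NDon_top_of Q hQ
  have hdim := finrank_perp_inR (PB Q) hrefl ⊤ P hPnd le_top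
  rw [finrank_top, hV, hPdim] at hdim
  have hnd' := NDon_perp_inR (PB Q) hrefl ⊤ P hndV hPnd le_top
  have hsup := sup_perp_inR (PB Q) hrefl ⊤ P hPnd le_top
  have htype := plus_top_iff Q hQ P _ hPnd hnd'
    (fun u hu v hv => hrefl _ _ ((Submodule.mem_inf.mp hv).2 u hu) |> fun h => by
      rw [PB_symm]; exact h) hsup ⟨1, by rw [hPdim]⟩ ⟨d - 1, by omega⟩
  have hplus' : PlusOn Q (⊤ ⊓ (PB Q).orthogonal P) := ⟨W, hWle, hWts, by rw [hWm]; omega⟩
  obtain ⟨U, hUP, hUts, hUd⟩ := (htype.mp hplus).mpr hplus'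
  rw [hPdim] at hUd
  have hU1 : finrank F U = 1 := by omega
  have hUne : U ≠ ⊥ := by
    intro h
    rw [h, finrank_bot] at hU1
    omega
  obtain ⟨u, hu, hu0⟩ := (Submodule.ne_bot_iff U).mp hUne
  exact hu0 (hPaniso u (hUP hu) (hUts u hu))

end involnec

end

section

open Polynomial Module Matrix
open Cfsg.Agent.Lib.H24.Elus
open Cfsg.Agent.Lib.H13
open Cfsg.Agent.Lib.H13.OSS
open Cfsg.Agent.Lib.H10.OrtNd (PB TS PlusOn PB_apply PB_symm PB_self TS_mono TS_of_isotropic)

section mainall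

variable {F : Type*} [Field F] [Fintype F] {p : ℕ} [Fact p.Prime] [CharP F p]
  {ι : Type} [Fintype ι] [DecidableEq ι]
variable (Q : QuadraticForm F (ι → F))

omit [Fintype F] [Fact p.Prime] [CharP F p] in
theorem isSquare_of_pow_odd (a : F) (ha : a ≠ 0) (d : ℕ) (hd : Odd d) (h : IsSquare (a ^ d)) :
    IsSquare a := by
  obtain ⟨k, rfl⟩ := hd
  obtain ⟨c, hc⟩ := h
  have hak : a ^ k ≠ 0 := pow_ne_zero _ ha
  refine ⟨c / a ^ k, ?_⟩
  field_simp
  rw [pow_two c, ← hc]
  ring

/-- the case `r = 2` -/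
theorem main_two [DecidableEq F] {q : ℕ} (hq : Fintype.card F = q) (hp2 : p ≠ 2)
    (hQ : (QuadraticMap.polarBilin Q).Nondegenerate) (d m : ℕ) (hd : 4 ≤ d) (hm : 1 ≤ m)
    (hmd : m < d) (hcard : Fintype.card ι = 2 * d) (eb : ℕ) (heb : eb ≤ 1)
    (hε : PlusOn Q ⊤ ↔ eb = 0)
    (hv : eb = 0 → ∃ v₁ v₂ : ι → F, Q v₁ = 1 ∧ Q v₂ = 1 ∧ QuadraticMap.polar (⇑Q) v₁ v₂ = 0) :
    AllFixGL Q 2 m ↔
      ((eb = 0 ∧ (q % 4 = 1 ∨ (q % 4 = 3 ∧ m + 2 ≤ d ∧ (Even m ∨ (2 * d) % 4 = 2)))) ∨
        (eb = 1 ∧ (Even d ∨ Even m ∨ q % 8 ≠ 7))) := by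
  have hp : p.Prime := Fact.out
  have h2 : (2 : F) ≠ 0 := by
    intro h
    have h3 : ((2 : ℕ) : F) = 0 := by exact_mod_cast h
    rw [CharP.cast_eq_zero_iff F p] at h3
    exact hp2 ((Nat.prime_dvd_prime_iff_eq hp Nat.prime_two).mp h3)
  have hqodd : q % 2 = 1 := by
    rw [← hq]
    apply FiniteField.odd_card_of_char_ne_two
    rw [ringChar.eq F p]
    exact hp2
  have hsq1 : IsSquare (-1 : F) ↔ q % 4 ≠ 3 := by
    rw [FiniteField.isSquare_neg_one_iff, hq]
  have hsq2 : IsSquare (2 : F) ↔ q % 8 ≠ 3 ∧ q % 8 ≠ 5 := by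
    rw [FiniteField.isSquare_two_iff, hq]
  have hd1 : 1 ≤ d := by omega
  have hEvenIff : ∀ a', (Even a' ↔ a' % 2 = 0) := fun a' => Nat.even_iff
  haveI : Nonempty ι := Fintype.card_pos_iff.mp (by omega)
  have hpow_even : Even d → IsSquare ((2 : F) ^ d) ∧ (-1 : F) ^ d = 1 := by
    rintro ⟨k, hk⟩
    refine ⟨⟨2 ^ k, by rw [hk, pow_add]⟩, ?_⟩
    rw [hk, ← two_mul, pow_mul]
    simp
  have hpow_odd : ¬ Even d → (-1 : F) ^ d = -1 := by
    intro h
    exact (Nat.not_even_iff_odd.mp h).neg_one_pow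
  constructor
  · intro hall
    rcases (by omega : eb = 0 ∨ eb = 1) with h0 | h0
    · left
      refine ⟨h0, ?_⟩
      have hplus : PlusOn Q ⊤ := hε.mpr h0
      by_cases hq4 : q % 4 = 1
      · left; exact hq4
      · right
        have hq43 : q % 4 = 3 := by omega
        have hns : ¬ IsSquare (-1 : F) := by rw [hsq1]; omega
        refine ⟨hq43, ?_, ?_⟩
        · by_contra hc
          have hmeq : m = d - 1 := by omega
          obtain ⟨v₁, v₂, hQ1, hQ2, horth⟩ := hv h0
          rw [hmeq] at hall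
          exact invol_nec Q h2 hQ d (by omega) hcard hns hplus v₁ v₂ hQ1 hQ2 horth hall
        · by_contra hc
          push Not at hc
          obtain ⟨hmo, hd4⟩ := hc
          have hde : Even d := by rw [hEvenIff]; omega
          obtain ⟨hs2, hm1⟩ := hpow_even hde
          exact neg_nec Q h2 hQ d m hd1 hcard hs2
            (by rw [hm1]; exact ⟨fun _ => ⟨1, (mul_one 1).symm⟩, fun _ => hplus⟩) hns hmo hall
    · right
      refine ⟨h0, ?_⟩
      have hminus : ¬ PlusOn Q ⊤ := by rw [hε]; omega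
      by_contra hc
      push Not at hc
      obtain ⟨hdo, hmo, hq8⟩ := hc
      have hns : ¬ IsSquare (-1 : F) := by rw [hsq1]; omega
      have hs2 : IsSquare ((2 : F) ^ d) := (hsq2.mpr (by omega)).pow d
      exact neg_nec Q h2 hQ d m hd1 hcard hs2
        (by rw [hpow_odd hdo]; exact ⟨fun h => absurd h hminus, fun h => absurd h hns⟩) hns hmo hall
  · intro hcases x hxΩ hsc hnsc
    obtain ⟨z, hz⟩ := hsc
    have hxiso := mem_iso_of_mem_omegaGL (⇑Q) x hxΩ
    have hMr := (AutPO.mem_iso_iff (Q := Q) (x ^ 2)).mp (Subgroup.pow_mem _ hxiso 2)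
    have hzz : z * z = 1 := scalar_sq Q hQ _ hMr z hz
    have hz1 : z = 1 ∨ z = -1 := by
      have h3 : (z - 1) * (z + 1) = 0 := by linear_combination hzz
      rcases mul_eq_zero.mp h3 with h | h
      · left; linear_combination h
      · right; linear_combination h
    rcases hz1 with hz1 | hz1
    · -- involutions
      have hx2 : x ^ 2 = 1 := by
        apply Units.ext
        rw [hz, hz1, one_smul]
        rfl
      have hcond : m + 2 ≤ d ∨ ¬ PlusOn Q ⊤ ∨ IsSquare (-1 : F) := by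
        rcases hcases with ⟨h0, hc⟩ | ⟨h0, hc⟩
        · rcases hc with hc | ⟨-, hc, -⟩
          · right; right; rw [hsq1]; omega
          · left; exact hc
        · right; left; rw [hε]; omega
      obtain ⟨W, hWm, hWts, hWinv⟩ := two_suff_invol Q h2 hQ d m hcard hd1 (by omega) hcond x hxΩ
        hx2
      exact ⟨W, hWm, hWts, hWinv⟩
    · -- square `-1`
      have hx2 : (x : Matrix ι ι F) * (x : Matrix ι ι F) = -1 := by
        rw [← Units.val_mul, ← pow_two, hz, hz1, neg_smul, one_smul]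
      obtain ⟨hs2, hty⟩ := neg_cond Q h2 hQ d hd1 hcard x hxΩ hx2
      have hcond : IsSquare (-1 : F) ∨ Even m := by
        rcases hcases with ⟨h0, hc⟩ | ⟨h0, hc⟩
        · have hplus : PlusOn Q ⊤ := hε.mpr h0
          rcases hc with hc | ⟨hq43, -, hc⟩
          · left; rw [hsq1]; omega
          · rcases hc with hc | hc
            · right; exact hc
            · exfalso
              have hdo : ¬ Even d := by rw [hEvenIff]; omega
              rw [hpow_odd hdo, hsq1] at hty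
              exact hty.mp hplus hq43
        · have hminus : ¬ PlusOn Q ⊤ := by rw [hε]; omega
          have hdo : ¬ Even d := by
            intro hde
            obtain ⟨-, hm1⟩ := hpow_even hde
            rw [hm1] at hty
            exact hminus (hty.mpr ⟨1, (mul_one 1).symm⟩)
          rcases hc with hc | hc | hc
          · exact absurd hc hdo
          · right; exact hc
          · exfalso
            rw [hpow_odd hdo] at hty
            have hns : ¬ IsSquare (-1 : F) := fun h => hminus (hty.mpr h)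
            have h2sq := isSquare_of_pow_odd (2 : F) h2 d (Nat.not_even_iff_odd.mp hdo) hs2
            rw [hsq2] at h2sq
            rw [hsq1] at hns
            omega
      obtain ⟨W, hWm, hWts, hWinv⟩ := neg_suff Q h2 hQ d m hcard hmd.le hcond x hxiso hx2
      exact ⟨W, hWm, hWts, hWinv⟩

end mainall

end

section

open Polynomial Module Matrix
open Cfsg.Agent.Lib.H24.Elus
open Cfsg.Agent.Lib.H13
open Cfsg.Agent.Lib.H13.OSS
open Cfsg.Agent.Lib.H10.OrtNd (PB TS PlusOn PB_apply PB_symm PB_self TS_mono TS_of_isotropic)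

section mainall

variable {F : Type*} [Field F] [Fintype F] {p : ℕ} [Fact p.Prime] [CharP F p]
  {ι : Type} [Fintype ι] [DecidableEq ι]
variable (Q : QuadraticForm F (ι → F))

/-- the elements of prime order of `PΩ^±_{2d}(q)` fixing a totally singular `m`-space -/
theorem main_all [DecidableEq F] {q : ℕ} (hq : Fintype.card F = q)
    (hQ : (QuadraticMap.polarBilin Q).Nondegenerate) (d m : ℕ) (hd : 4 ≤ d) (hm : 1 ≤ m)
    (hmd : m < d) (hcard : Fintype.card ι = 2 * d) (eb : ℕ) (heb : eb ≤ 1)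
    (hε : PlusOn Q ⊤ ↔ eb = 0)
    (hv : eb = 0 → ∃ v₁ v₂ : ι → F, Q v₁ = 1 ∧ Q v₂ = 1 ∧ QuadraticMap.polar (⇑Q) v₁ v₂ = 0)
    (r : ℕ) [Fact r.Prime] (hrΩ : r ∣ Nat.card (TsSub Q m)) :
    AllFixGL Q r m ↔
      ((r = 2 ∧ p ≠ 2 ∧
          ((eb = 0 ∧ (q % 4 = 1 ∨ (q % 4 = 3 ∧ m + 2 ≤ d ∧ (Even m ∨ (2 * d) % 4 = 2)))) ∨
            (eb = 1 ∧ (Even d ∨ Even m ∨ q % 8 ≠ 7)))) ∨
        (r ≠ p ∧ 2 < r ∧
          ((Even (orderOf (q : ZMod r)) ∧
              RHSe eb (orderOf (q : ZMod r)) (Fintype.card (CycFactor.S r F)) d m) ∨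
            (¬ Even (orderOf (q : ZMod r)) ∧ RHSo eb (orderOf (q : ZMod r)) d m)))) := by
  have hr : r.Prime := Fact.out
  have hV : finrank F (ι → F) = 2 * d := by
    rw [Module.finrank_fintype_fun_eq_card, hcard]
  obtain ⟨hrp, hW⟩ := wcond_main (p := p) Q hq hQ d m hmd hV eb heb hε r hrΩ
  by_cases hr2 : r = 2
  · subst hr2
    rw [main_two (p := p) Q hq (fun h => hrp h.symm) hQ d m hd hm hmd hcard eb heb hε hv]
    constructor
    · intro h
      left
      exact ⟨rfl, fun h' => hrp h'.symm, h⟩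
    · rintro (⟨-, -, h⟩ | ⟨-, h, -⟩)
      · exact h
      · omega
  · have hr3 : 2 < r := by
      have := hr.two_le
      omega
    have hodd : Odd r := hr.odd_of_ne_two hr2
    obtain ⟨hWc, hWo⟩ := hW hr2
    rw [allFix_iff_odd Q hQ (by omega) r m hodd,
      main_odd (p := p) Q hq r hrp hr2 hQ d m (by omega) hm hmd hV eb heb hε hWc hWo]
    constructor
    · intro h
      right
      exact ⟨hrp, hr3, h⟩
    · rintro (⟨h, -⟩ | ⟨-, -, h⟩)
      · exact absurd h hr2
      · exact h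

end mainall

end

section

open Polynomial Module Matrix
open Cfsg.Agent.Lib.H24.Elus
open Cfsg.Agent.Lib.H13
open Cfsg.Agent.Lib.H13.OSS
open Cfsg.Agent.Lib.H10.OrtNd (PB TS PlusOn PB_apply PB_symm PB_self TS_mono TS_of_isotropic)

section convert

theorem RHSe_plus_iff (i t d m : ℕ) :
    RHSe 0 i t d m ↔ (i ≤ m ∧ t + 2 * (m / i) ≤ (2 * d) / i ∧
      ((2 * (m % i) ≤ i ∧ (2 * d) % i = 0 ∧ Odd ((2 * d) / i) ∧ t + 2 * (m / i) < (2 * d) / i) ∨
        (2 * (m % i) ≤ (2 * d) % i ∧ Even ((2 * d) / i)) ∨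
        (2 * (m % i) < (2 * d) % i ∧ Odd ((2 * d) / i)))) := by
  unfold RHSe
  rw [Nat.even_iff, Nat.odd_iff, add_zero]

theorem RHSe_minus_iff (i t d m : ℕ) :
    RHSe 1 i t d m ↔ (i ≤ m ∧ t + 2 * (m / i) ≤ (2 * d) / i ∧
      ((2 * (m % i) ≤ i ∧ (2 * d) % i = 0 ∧ Even ((2 * d) / i) ∧ t + 2 * (m / i) < (2 * d) / i) ∨
        (2 * (m % i) ≤ (2 * d) % i ∧ Odd ((2 * d) / i)) ∨
        (2 * (m % i) < (2 * d) % i ∧ Even ((2 * d) / i)))) := by
  unfold RHSe
  rw [Nat.even_iff, Nat.odd_iff]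
  have h1 : ((2 * d) / i + 1) % 2 = 1 ↔ (2 * d) / i % 2 = 0 := by omega
  have h2 : ((2 * d) / i + 1) % 2 = 0 ↔ (2 * d) / i % 2 = 1 := by omega
  rw [h1, h2]

theorem RHSo_plus_iff (i d m : ℕ) :
    RHSo 0 i d m ↔ (i ≤ m ∧ 2 * (m % i) ≤ (2 * d) % (2 * i)) := by
  unfold RHSo
  simp

theorem RHSo_minus_iff (i d m : ℕ) :
    RHSo 1 i d m ↔ (i ≤ m ∧ ((2 * d) % (2 * i) = 0 ∨ 2 * (m % i) < (2 * d) % (2 * i))) := by
  unfold RHSo
  simp

end convert

section cardS

variable {F : Type*} [Field F] [Fintype F] [DecidableEq F] {p : ℕ} [Fact p.Prime] [CharP F p]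

theorem card_S_eq {q : ℕ} (hF : Fintype.card F = q) (r : ℕ) [Fact r.Prime] (hrp : r ≠ p) :
    Fintype.card (CycFactor.S r F) = (r - 1) / orderOf (q : ZMod r) := by
  have hr : r.Prime := Fact.out
  have h1 := CycFactor.card_S (F := F) hF hr hrp
  have hi0 : 0 < orderOf (q : ZMod r) := CycFactor.orderOf_pos hF hr hrp
  rw [← h1, Nat.mul_div_cancel _ hi0]

end cardS

end

end Cfsg.Agent.Lib.H13.OES
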