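import Mathlib
import Cfsg.Agent.Lib.H13.OES1
import Cfsg.Agent.Lib.H11.AltForm
import Cfsg.Agent.Lib.H13.OES7
import Cfsg.Agent.Lib.H13.RankParity

/-!
Siegel elements of orthogonal groups in all characteristics (helper13, for S5974, S5988, S5990): `IsSiegel Q N` (`1 + N` is an isometry and
the range of `N` is totally singular), the Siegel nilpotent `siegelN` of a family of pairs in a totally singular subspace, its rank
(`siegelN_finrank_range`), invariant nondegenerate subspaces (`siegel_data`, `siegel_no_minus`, `siegel_full`, `siegel_minus`), the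
corresponding elements of order `p` of `Ω` (`exists_gl_of_siegel`, `exists_siegel_gl`) and the derangement statements
`exists_unip_plus`, `exists_unip_plus_even`, `exists_unip_odd`.
-/

set_option autoImplicit false
set_option linter.unusedSectionVars false
set_option linter.unusedVariables false
set_option linter.unusedSimpArgs false
set_option linter.deprecated false

namespace Cfsg.Agent.Lib.H13.OUni

section

open Module
open Cfsg.Agent.Lib.H24.Elus
open Cfsg.Agent.Lib.H13.OSS
open Cfsg.Agent.Lib.H13.OES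
open Cfsg.Agent.Lib.H10.OrtNd (PB TS PlusOn PB_apply PB_symm PB_self TS_mono)

section basic

variable {F : Type*} [Field F] {V : Type*} [AddCommGroup V] [Module F V]
variable (Q : QuadraticForm F V)

/-- `1 + N` is an isometry and the range of `N` is totally singular -/
structure IsSiegel (N : End F V) : Prop where
  iso : ∀ v, Q (v + N v) = Q v
  ts : ∀ v, Q (N v) = 0

variable {Q} {N : End F V}

theorem IsSiegel.ts_range (h : IsSiegel Q N) : TS Q (LinearMap.range N) := by
  rintro _ ⟨v, rfl⟩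
  exact h.ts v

theorem IsSiegel.polar_NN (h : IsSiegel Q N) (u v : V) : PB Q (N u) (N v) = 0 :=
  Cfsg.Agent.Lib.H10.OrtNd.TS.polar_eq_zero Q h.ts_range ⟨u, rfl⟩ ⟨v, rfl⟩

theorem IsSiegel.polar_self (h : IsSiegel Q N) (v : V) : PB Q v (N v) = 0 := by
  have h1 := h.iso v
  rw [Q_add, h.ts] at h1
  linear_combination h1

theorem IsSiegel.polar_swap (h : IsSiegel Q N) (u v : V) : PB Q (N u) v = - PB Q u (N v) := by
  have h1 : PB Q (u + N u) (v + N v) = PB Q u v := by
    rw [PB_apply, PB_apply]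
    unfold QuadraticMap.polar
    have h3 : u + N u + (v + N v) = (u + v) + N (u + v) := by
      rw [map_add]; abel
    rw [h3, h.iso, h.iso, h.iso]
  rw [map_add, map_add, LinearMap.add_apply, LinearMap.add_apply, h.polar_NN] at h1
  linear_combination h1

theorem IsSiegel.sq_zero (h : IsSiegel Q N) (hQ : (QuadraticMap.polarBilin Q).Nondegenerate)
    (v : V) : N (N v) = 0 := by
  apply NDon_top_of Q hQ _ Submodule.mem_top
  intro w _
  rw [h.polar_swap, h.polar_NN, neg_zero]

/-- the orthogonal complement of an invariant subspace is invariant -/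
theorem IsSiegel.orth_invariant (h : IsSiegel Q N) (W : Submodule F V)
    (hinv : ∀ w ∈ W, N w ∈ W) : ∀ v ∈ (PB Q).orthogonal W, N v ∈ (PB Q).orthogonal W := by
  intro v hv w hw
  show PB Q w (N v) = 0
  have h1 := h.polar_swap w v
  have h3 : PB Q (N w) v = 0 := hv (N w) (hinv w hw)
  rw [h3] at h1
  linear_combination h1

theorem IsSiegel.map_ts (h : IsSiegel Q N) (W : Submodule F V) : TS Q (W.map N) := by
  rintro _ ⟨v, -, rfl⟩
  exact h.ts v

theorem IsSiegel.map_le (W : Submodule F V) (hinv : ∀ w ∈ W, N w ∈ W) : W.map N ≤ W := by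
  rintro _ ⟨v, hv, rfl⟩
  exact hinv v hv

end basic

section alt

variable {K : Type*} [Field K] {V : Type*} [AddCommGroup V] [Module K V] [FiniteDimensional K V]

/-- the rank of an alternating form is even -/
theorem even_finrank_sub_of_isAlt (γ : LinearMap.BilinForm K V) (hγ : γ.IsAlt)
    (R : Submodule K V) (hR : ∀ u, u ∈ R ↔ ∀ v, γ u v = 0) :
    Even (finrank K V - finrank K R) := by
  obtain ⟨C, hC⟩ := Submodule.exists_isCompl R
  have hdim := Submodule.finrank_add_eq_of_isCompl hC
  have hAltC : (γ.restrict C).IsAlt := fun x => hγ x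
  have hndC : (γ.restrict C).Nondegenerate := by
    refine (LinearMap.IsRefl.nondegenerate_iff_separatingLeft hAltC.isRefl).2 ?_
    intro c hc
    have hcR : (c : V) ∈ R := by
      rw [hR]
      intro v
      have hv : v ∈ R ⊔ C := by rw [hC.sup_eq_top]; trivial
      obtain ⟨r, hr, c', hc', rfl⟩ := Submodule.mem_sup.mp hv
      have h1 : γ (c : V) c' = 0 := hc ⟨c', hc'⟩
      have h2 : γ r (c : V) = 0 := (hR r).mp hr c
      have h3 : γ (c : V) r = 0 := by
        have := hγ.neg_eq (c : V) r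
        rw [h2] at this
        rw [← neg_eq_zero]
        exact this
      rw [map_add, h3, h1, add_zero]
    have h0 : (c : V) ∈ R ⊓ C := Submodule.mem_inf.mpr ⟨hcR, c.2⟩
    rw [hC.inf_eq_bot, Submodule.mem_bot] at h0
    exact Subtype.ext h0
  have hev := Cfsg.Agent.Lib.H11.even_finrank_of_nondegenerate_isAlt (finrank K C) (γ.restrict C)
    hAltC hndC rfl
  have : finrank K V - finrank K R = finrank K C := by omega
  rw [this]
  exact hev

end alt

section fd

variable {F : Type*} [Field F] {V : Type*} [AddCommGroup V] [Module F V] [FiniteDimensional F V]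
variable {Q : QuadraticForm F V} {N : End F V}

/-- the rank of `N` on an invariant nondegenerate subspace is even -/
theorem IsSiegel.even_map (h : IsSiegel Q N) (W : Submodule F V) (hW : NDon (PB Q) W)
    (hinv : ∀ w ∈ W, N w ∈ W) : Even (finrank F (W.map N)) := by
  obtain ⟨γ, hγ⟩ : ∃ γ : LinearMap.BilinForm F ↥W,
      γ = ((PB Q).comp N LinearMap.id).restrict W := ⟨_, rfl⟩
  have hγapp : ∀ u v : ↥W, γ u v = PB Q (N (u : V)) (v : V) := fun u v => by rw [hγ]; rfl
  have halt : γ.IsAlt := by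
    intro u
    rw [hγapp, PB_symm, h.polar_self]
  obtain ⟨f, hf⟩ : ∃ f : ↥W →ₗ[F] V, f = N.comp W.subtype := ⟨_, rfl⟩
  have hfapp : ∀ u : ↥W, f u = N (u : V) := fun u => by rw [hf]; rfl
  have hR : ∀ u, u ∈ LinearMap.ker f ↔ ∀ v, γ u v = 0 := by
    intro u
    rw [LinearMap.mem_ker, hfapp]
    constructor
    · intro h0 v
      rw [hγapp, h0, map_zero, LinearMap.zero_apply]
    · intro h0
      apply hW _ (hinv _ u.2)
      intro v hv
      have := h0 ⟨v, hv⟩
      rw [hγapp] at this
      exact this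
  have hev := even_finrank_sub_of_isAlt γ halt (LinearMap.ker f) hR
  have hrn := LinearMap.finrank_range_add_finrank_ker f
  have hrange : LinearMap.range f = W.map N := by
    rw [hf, LinearMap.range_comp, Submodule.range_subtype]
  rw [hrange] at hrn
  have : finrank F ↥W - finrank F ↥(LinearMap.ker f) = finrank F ↥(W.map N) := by omega
  rw [← this]
  exact hev

/-- the rank of `N` is at most the sum of the ranks on `W` and `W^⊥` -/
theorem IsSiegel.finrank_range_le (h : IsSiegel Q N) (W : Submodule F V) (hW : NDon (PB Q) W) :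
    finrank F (LinearMap.range N) ≤
      finrank F (W.map N) + finrank F (((PB Q).orthogonal W).map N) := by
  have hsup : W ⊔ (PB Q).orthogonal W = ⊤ :=
    (isCompl_orth_of_NDonR (PB Q) (PB_refl Q) W hW).sup_eq_top
  have h1 : LinearMap.range N = W.map N ⊔ ((PB Q).orthogonal W).map N := by
    rw [← Submodule.map_sup, hsup, Submodule.map_top]
  rw [h1]
  exact Submodule.finrank_add_le_finrank_add_finrank _ _

end fd

end

section

open Module
open Cfsg.Agent.Lib.H24.Elus
open Cfsg.Agent.Lib.H13.OSS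
open Cfsg.Agent.Lib.H13.OES
open Cfsg.Agent.Lib.H10.OrtNd (PB TS PlusOn PB_apply PB_symm PB_self TS_mono)

section construct

variable {F : Type*} [Field F] {V : Type*} [AddCommGroup V] [Module F V]
variable (Q : QuadraticForm F V) {κ : Type*} [Fintype κ]

/-- the Siegel nilpotent of a family of pairs -/
noncomputable def siegelN (e f : κ → V) : End F V :=
  ∑ i, ((PB Q (f i)).smulRight (e i) - (PB Q (e i)).smulRight (f i))

theorem siegelN_apply (e f : κ → V) (v : V) :
    siegelN Q e f v = ∑ i, (PB Q (f i) v • e i - PB Q (e i) v • f i) := by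
  unfold siegelN
  rw [LinearMap.sum_apply]
  apply Finset.sum_congr rfl
  intro i _
  rw [LinearMap.sub_apply, LinearMap.smulRight_apply, LinearMap.smulRight_apply]

theorem siegelN_mem (e f : κ → V) (R : Submodule F V) (he : ∀ i, e i ∈ R) (hf : ∀ i, f i ∈ R)
    (v : V) : siegelN Q e f v ∈ R := by
  rw [siegelN_apply]
  apply Submodule.sum_mem
  intro i _
  exact R.sub_mem (R.smul_mem _ (he i)) (R.smul_mem _ (hf i))

theorem siegelN_polar (e f : κ → V) (v : V) : PB Q v (siegelN Q e f v) = 0 := by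
  rw [siegelN_apply, map_sum]
  apply Finset.sum_eq_zero
  intro i _
  rw [map_sub, map_smul, map_smul, smul_eq_mul, smul_eq_mul, PB_symm Q v (e i),
    PB_symm Q v (f i)]
  ring

theorem siegelN_isSiegel (e f : κ → V) (R : Submodule F V) (hR : TS Q R) (he : ∀ i, e i ∈ R)
    (hf : ∀ i, f i ∈ R) : IsSiegel Q (siegelN Q e f) := by
  have hts : ∀ v, Q (siegelN Q e f v) = 0 := fun v => hR _ (siegelN_mem Q e f R he hf v)
  refine ⟨?_, hts⟩
  intro v
  rw [Q_add, hts, siegelN_polar]
  ring

/-- the kernel of the Siegel nilpotent of a linearly independent family -/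
theorem siegelN_ker (e f : κ → V) (hli : LinearIndependent F (Sum.elim e f)) (v : V) :
    siegelN Q e f v = 0 ↔ ∀ k, PB Q (Sum.elim e f k) v = 0 := by
  constructor
  · intro h0
    rw [siegelN_apply] at h0
    have h1 : ∑ k : κ ⊕ κ, (Sum.elim (fun i => PB Q (f i) v) (fun i => - PB Q (e i) v) k) •
        (Sum.elim e f k) = 0 := by
      rw [Fintype.sum_sum_type]
      simp only [Sum.elim_inl, Sum.elim_inr]
      rw [← Finset.sum_add_distrib, ← h0]
      apply Finset.sum_congr rfl
      intro i _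
      rw [neg_smul, sub_eq_add_neg]
    have h3 := Fintype.linearIndependent_iff.mp hli _ h1
    intro k
    rcases k with i | i
    · have := h3 (Sum.inr i)
      simp only [Sum.elim_inr] at this
      simp only [Sum.elim_inl]
      exact neg_eq_zero.mp this
    · have := h3 (Sum.inl i)
      simp only [Sum.elim_inl] at this
      simp only [Sum.elim_inr]
      exact this
  · intro h0
    rw [siegelN_apply]
    apply Finset.sum_eq_zero
    intro i _
    have h1 := h0 (Sum.inl i)
    have h3 := h0 (Sum.inr i)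
    simp only [Sum.elim_inl, Sum.elim_inr] at h1 h3
    rw [h1, h3, zero_smul, zero_smul, sub_zero]

variable [FiniteDimensional F V]

/-- the rank of the Siegel nilpotent of a linearly independent family -/
theorem siegelN_finrank_range (hQ : (QuadraticMap.polarBilin Q).Nondegenerate) (e f : κ → V)
    (hli : LinearIndependent F (Sum.elim e f)) :
    finrank F (LinearMap.range (siegelN Q e f)) = 2 * Fintype.card κ := by
  obtain ⟨R, hR⟩ : ∃ R, R = Submodule.span F (Set.range (Sum.elim e f)) := ⟨_, rfl⟩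
  have hRd : finrank F R = 2 * Fintype.card κ := by
    rw [hR, finrank_span_eq_card hli, Fintype.card_sum]
    ring
  have hker : LinearMap.ker (siegelN Q e f) = (PB Q).orthogonal R := by
    ext v
    rw [LinearMap.mem_ker, siegelN_ker Q e f hli, LinearMap.BilinForm.mem_orthogonal_iff]
    constructor
    · intro h0 w hw
      rw [hR] at hw
      show PB Q w v = 0
      induction hw using Submodule.span_induction with
      | mem x hx =>
        obtain ⟨k, rfl⟩ := hx
        exact h0 k
      | zero => rw [map_zero, LinearMap.zero_apply]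
      | add x y _ _ hx hy => rw [map_add, LinearMap.add_apply, hx, hy, add_zero]
      | smul a x _ hx => rw [map_smul, LinearMap.smul_apply, hx, smul_zero]
    · intro h0 k
      exact h0 _ (by rw [hR]; exact Submodule.subset_span ⟨k, rfl⟩)
  have hnd : (PB Q).Nondegenerate := hQ
  have h1 := LinearMap.finrank_range_add_finrank_ker (siegelN Q e f)
  rw [hker, LinearMap.BilinForm.finrank_orthogonal hnd R, hRd] at h1
  have h3 : finrank F R ≤ finrank F V := Submodule.finrank_le R
  omega

end construct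

end

section

open Module
open Cfsg.Agent.Lib.H24.Elus
open Cfsg.Agent.Lib.H13.OSS
open Cfsg.Agent.Lib.H13.OES
open Cfsg.Agent.Lib.H10.OrtNd (PB TS PlusOn PB_apply PB_symm PB_self TS_mono)

section exist

variable {F : Type*} [Field F] {V : Type*} [AddCommGroup V] [Module F V] [FiniteDimensional F V]
variable (Q : QuadraticForm F V)

/-- a Siegel nilpotent of rank `2 j` with range in a given totally singular subspace of
dimension `2 j` -/
theorem exists_siegel (hQ : (QuadraticMap.polarBilin Q).Nondegenerate) (R : Submodule F V)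
    (hR : TS Q R) (j : ℕ) (hj : finrank F R = 2 * j) :
    ∃ N : End F V, IsSiegel Q N ∧ finrank F (LinearMap.range N) = 2 * j := by
  have hjj : j + j = finrank F R := by rw [hj]; ring
  obtain ⟨b, -⟩ : ∃ b : Basis (Fin j ⊕ Fin j) F R, True :=
    ⟨(Module.finBasis F R).reindex ((finCongr hjj.symm).trans finSumFinEquiv.symm), trivial⟩
  obtain ⟨g, hg⟩ : ∃ g : Fin j ⊕ Fin j → V, g = fun k => (b k : V) := ⟨_, rfl⟩
  have hgli : LinearIndependent F g := by
    rw [hg]
    exact b.linearIndependent.map' R.subtype (Submodule.ker_subtype R)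
  have hgR : ∀ k, g k ∈ R := fun k => by rw [hg]; exact (b k).2
  obtain ⟨e, he⟩ : ∃ e : Fin j → V, e = fun i => g (Sum.inl i) := ⟨_, rfl⟩
  obtain ⟨f, hf⟩ : ∃ f : Fin j → V, f = fun i => g (Sum.inr i) := ⟨_, rfl⟩
  have hef : Sum.elim e f = g := by
    funext k
    rcases k with i | i
    · rw [Sum.elim_inl, he]
    · rw [Sum.elim_inr, hf]
  refine ⟨siegelN Q e f, siegelN_isSiegel Q e f R hR (fun i => by rw [he]; exact hgR _)
    (fun i => by rw [hf]; exact hgR _), ?_⟩
  rw [siegelN_finrank_range Q hQ e f (by rw [hef]; exact hgli), Fintype.card_fin]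

end exist

end

section

open Module
open Cfsg.Agent.Lib.H24.Elus
open Cfsg.Agent.Lib.H13.OSS
open Cfsg.Agent.Lib.H13.OES
open Cfsg.Agent.Lib.H10.OrtNd (PB TS PlusOn PB_apply PB_symm PB_self TS_mono)

section constraints

variable {F : Type*} [Field F] [Fintype F] {V : Type*} [AddCommGroup V] [Module F V]
  [FiniteDimensional F V]
variable (Q : QuadraticForm F V) {N : End F V}

/-- basic numerical data of an invariant nondegenerate subspace and its orthogonal complement -/
theorem siegel_data (hQ : (QuadraticMap.polarBilin Q).Nondegenerate) (hN : IsSiegel Q N)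
    (W : Submodule F V) (hW : NDon (PB Q) W) (hinv : ∀ w ∈ W, N w ∈ W) :
    NDon (PB Q) ((PB Q).orthogonal W) ∧
    finrank F W + finrank F ((PB Q).orthogonal W) = finrank F V ∧
    W ⊔ (PB Q).orthogonal W = ⊤ ∧
    (∀ u ∈ W, ∀ v ∈ (PB Q).orthogonal W, PB Q u v = 0) ∧
    2 * finrank F (W.map N) ≤ finrank F W ∧
    2 * finrank F (((PB Q).orthogonal W).map N) ≤ finrank F ((PB Q).orthogonal W) ∧
    (2 * finrank F (W.map N) = finrank F W → PlusOn Q W) ∧
    (2 * finrank F (((PB Q).orthogonal W).map N) = finrank F ((PB Q).orthogonal W) →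
      PlusOn Q ((PB Q).orthogonal W)) ∧
    finrank F (LinearMap.range N) ≤
      finrank F (W.map N) + finrank F (((PB Q).orthogonal W).map N) ∧
    Even (finrank F (W.map N)) := by
  have hrefl := PB_refl Q
  have hinv' := hN.orth_invariant W hinv
  have hW' : NDon (PB Q) ((PB Q).orthogonal W) := by
    have := NDon_perp_inR (PB Q) hrefl ⊤ W (NDon_top_of Q hQ) hW le_top
    rwa [top_inf_eq] at this
  have hdim : finrank F W + finrank F ((PB Q).orthogonal W) = finrank F V := by
    have := finrank_perp_inR (PB Q) hrefl ⊤ W hW le_top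
    rwa [top_inf_eq, finrank_top] at this
  have hcompl := isCompl_orth_of_NDonR (PB Q) hrefl W hW
  refine ⟨hW', hdim, hcompl.sup_eq_top, fun u hu v hv => hv u hu,
    finrank_ts_le Q W _ hW (IsSiegel.map_le W hinv) (hN.map_ts W),
    finrank_ts_le Q _ _ hW' (IsSiegel.map_le _ hinv') (hN.map_ts _),
    fun h => ⟨_, IsSiegel.map_le W hinv, hN.map_ts W, h⟩,
    fun h => ⟨_, IsSiegel.map_le _ hinv', hN.map_ts _, h⟩,
    hN.finrank_range_le W hW, hN.even_map W hW hinv⟩

/-- **plus type space, rank at least `d - 1`**: every invariant nondegenerate subspace of even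
dimension is of plus type -/
theorem siegel_no_minus (hQ : (QuadraticMap.polarBilin Q).Nondegenerate) (d : ℕ)
    (hV : finrank F V = 2 * d) (hplus : PlusOn Q ⊤) (hN : IsSiegel Q N)
    (hk : d ≤ finrank F (LinearMap.range N) + 1) (W : Submodule F V) (hW : NDon (PB Q) W)
    (hWe : Even (finrank F W)) (hinv : ∀ w ∈ W, N w ∈ W) : PlusOn Q W := by
  obtain ⟨hW', hdim, hsup, horth, h1, h1', h3, h3', h4, -⟩ := siegel_data Q hQ hN W hW hinv
  by_contra hm
  have hWe' : Even (finrank F ((PB Q).orthogonal W)) := by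
    obtain ⟨a, ha⟩ := hWe
    exact ⟨d - a, by omega⟩
  have htype := (plus_top_iff Q hQ W _ hW hW' horth hsup hWe hWe').mp hplus
  have hm' : ¬ PlusOn Q ((PB Q).orthogonal W) := fun h => hm (htype.mpr h)
  have h5 : 2 * finrank F (W.map N) ≠ finrank F W := fun h => hm (h3 h)
  have h5' : 2 * finrank F (((PB Q).orthogonal W).map N) ≠ finrank F ((PB Q).orthogonal W) :=
    fun h => hm' (h3' h)
  obtain ⟨a, ha⟩ := hWe
  obtain ⟨a', ha'⟩ := hWe'
  omega

/-- **rank `d`**: every invariant nondegenerate subspace is of plus type and of dimension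
divisible by four -/
theorem siegel_full (hQ : (QuadraticMap.polarBilin Q).Nondegenerate) (d : ℕ)
    (hV : finrank F V = 2 * d) (hN : IsSiegel Q N)
    (hk : finrank F (LinearMap.range N) = d) (W : Submodule F V) (hW : NDon (PB Q) W)
    (hinv : ∀ w ∈ W, N w ∈ W) : PlusOn Q W ∧ finrank F W % 4 = 0 := by
  obtain ⟨hW', hdim, hsup, horth, h1, h1', h3, h3', h4, h5⟩ := siegel_data Q hQ hN W hW hinv
  have h6 : 2 * finrank F (W.map N) = finrank F W := by omega
  refine ⟨h3 h6, ?_⟩
  obtain ⟨a, ha⟩ := h5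
  omega

/-- **rank `d - 1`**: every invariant nondegenerate subspace of even dimension which is not of
plus type has dimension `2` modulo `4` -/
theorem siegel_minus (hQ : (QuadraticMap.polarBilin Q).Nondegenerate) (d : ℕ)
    (hV : finrank F V = 2 * d) (hN : IsSiegel Q N)
    (hk : finrank F (LinearMap.range N) + 1 = d) (W : Submodule F V) (hW : NDon (PB Q) W)
    (hWe : Even (finrank F W)) (hinv : ∀ w ∈ W, N w ∈ W) (hm : ¬ PlusOn Q W) :
    finrank F W % 4 = 2 := by
  obtain ⟨hW', hdim, hsup, horth, h1, h1', h3, h3', h4, h5⟩ := siegel_data Q hQ hN W hW hinv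
  have h6 : 2 * finrank F (W.map N) ≠ finrank F W := fun h => hm (h3 h)
  obtain ⟨a, ha⟩ := h5
  obtain ⟨b, hb⟩ := hWe
  omega

end constraints

end

section

open Module Matrix
open Cfsg.Agent.Lib.H24.Elus
open Cfsg.Agent.Lib.H13
open Cfsg.Agent.Lib.H13.OSS
open Cfsg.Agent.Lib.H13.OES
open Cfsg.Agent.Lib.H10.OrtNd (PB TS PlusOn PB_apply PB_symm PB_self TS_mono)

section gl

variable {F : Type*} [Field F] [Fintype F] {ι : Type} [Fintype ι] [DecidableEq ι]
variable (Q : QuadraticForm F (ι → F))

/-- a Siegel nilpotent of even rank gives an element of order `p` of `Ω` -/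
theorem exists_gl_of_siegel (hQ : (QuadraticMap.polarBilin Q).Nondegenerate)
    (hcard : 5 ≤ Fintype.card ι) (p : ℕ) [Fact p.Prime] [CharP F p] (N : End F (ι → F))
    (hN : IsSiegel Q N) (hev : Even (finrank F (LinearMap.range N))) (hne : N ≠ 0) :
    ∃ x : GL ι F, x ∈ Cfsg.Geo.omegaGL ⇑Q ∧ x ^ p = 1 ∧
      (∀ z : F, (x : Matrix ι ι F) ≠ z • (1 : Matrix ι ι F)) ∧
      ∀ v, (x : Matrix ι ι F) *ᵥ v = v + N v := by
  have hp : p.Prime := Fact.out
  have hNN : ∀ v, N (N v) = 0 := hN.sq_zero hQ
  obtain ⟨ψe, hψe⟩ : ∃ ψe : (ι → F) ≃ₗ[F] (ι → F), ∀ v, ψe v = v + N v := by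
    refine ⟨LinearEquiv.ofLinear (1 + N) (1 - N) ?_ ?_, fun v => rfl⟩
    · apply LinearMap.ext
      intro v
      simp only [LinearMap.comp_apply, LinearMap.add_apply, LinearMap.sub_apply,
        Module.End.one_apply, map_sub, hNN, LinearMap.id_apply]
      abel
    · apply LinearMap.ext
      intro v
      simp only [LinearMap.comp_apply, LinearMap.add_apply, LinearMap.sub_apply,
        Module.End.one_apply, map_add, hNN, LinearMap.id_apply]
      abel
  have hψQ : ∀ v, Q (ψe v) = Q v := fun v => by rw [hψe]; exact hN.iso v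
  obtain ⟨x, hxmem, hmv⟩ : ∃ x : GL ι F, x ∈ Cfsg.isometryGroup F ⇑Q ∧
      ∀ w, (x : Matrix ι ι F) *ᵥ w = w + N w :=
    ⟨_, (AutPO.elOfEquiv Q ψe hψQ).2, fun w => by
      rw [AutPO.elOfEquiv_mulVec _ ψe hψQ w, hψe]⟩
  -- powers
  have hpow : ∀ k : ℕ, ∀ v, ((x ^ k : GL ι F) : Matrix ι ι F) *ᵥ v = v + k • N v := by
    intro k
    induction k with
    | zero =>
      intro v
      rw [pow_zero, Units.val_one, Matrix.one_mulVec, zero_smul, add_zero]
    | succ k ih =>
      intro v
      rw [pow_succ, Units.val_mul, ← Matrix.mulVec_mulVec, hmv, ih, map_add, hNN, add_zero,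
        succ_nsmul]
      abel
  have hxp : x ^ p = 1 := by
    apply Units.ext
    rw [Units.val_one, Matrix.ext_iff_mulVec]
    intro v
    rw [hpow, Matrix.one_mulVec]
    have : (p : ℕ) • N v = ((p : ℕ) : F) • N v := by
      rw [Nat.cast_smul_eq_nsmul]
    rw [this, CharP.cast_eq_zero F p, zero_smul, add_zero]
  have hns : ∀ z : F, (x : Matrix ι ι F) ≠ z • (1 : Matrix ι ι F) := by
    intro z hz
    apply hne
    have h1 : ∀ v, N v = (z - 1) • v := by
      intro v
      have := hmv v
      rw [hz, Matrix.smul_mulVec, Matrix.one_mulVec] at this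
      rw [sub_smul, one_smul, this]
      abel
    have h3 : ∀ v : ι → F, ((z - 1) * (z - 1)) • v = 0 := by
      intro v
      have := hNN v
      rw [h1 v, map_smul, h1 v, smul_smul] at this
      exact this
    haveI : Nonempty ι := Fintype.card_pos_iff.mp (by omega)
    obtain ⟨i⟩ : Nonempty ι := inferInstance
    have h4 := congrFun (h3 (Pi.single i 1)) i
    rw [Pi.smul_apply, Pi.single_eq_same, smul_eq_mul, mul_one, Pi.zero_apply] at h4
    have hz1 : z - 1 = 0 := mul_self_eq_zero.mp h4
    apply LinearMap.ext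
    intro v
    rw [h1, hz1, zero_smul, LinearMap.zero_apply]
  refine ⟨x, ?_, hxp, hns, hmv⟩
  rcases hp.eq_two_or_odd' with h2 | hodd
  · -- characteristic two
    subst h2
    obtain ⟨x', hx'⟩ : ∃ x' : ↥(Cfsg.isometryGroup F ⇑Q), x' = ⟨x, hxmem⟩ := ⟨_, rfl⟩
    have h7 : x' ∈ Cfsg.Omega F ⇑Q := by
      rw [Cfsg.Agent.Lib.H13.RankParity.mem_Omega_iff_even_rank Q hQ (Or.inr (by omega))]
      have hval : ((x' : GL ι F) : Matrix ι ι F) = (x : Matrix ι ι F) := by rw [hx']
      rw [hval]
      have hlin : Matrix.mulVecLin ((x : Matrix ι ι F) - 1) = N := by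
        apply LinearMap.ext
        intro v
        rw [Matrix.mulVecLin_apply, Matrix.sub_mulVec, hmv, Matrix.one_mulVec]
        abel
      unfold Matrix.rank
      rw [hlin]
      exact hev
    refine ⟨x', h7, ?_⟩
    rw [hx']
    rfl
  · exact mem_omegaGL_of_odd Q hQ hcard x hxmem p hodd hxp

end gl

end

section

open Module Matrix
open Cfsg.Agent.Lib.H24.Elus
open Cfsg.Agent.Lib.H13
open Cfsg.Agent.Lib.H13.OSS
open Cfsg.Agent.Lib.H13.OES
open Cfsg.Agent.Lib.H10.OrtNd (PB TS PlusOn PB_apply PB_symm PB_self TS_mono)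

section gl

variable {F : Type*} [Field F] [Fintype F] {ι : Type} [Fintype ι] [DecidableEq ι]
variable (Q : QuadraticForm F (ι → F))

theorem invariant_of_map_le (x : Matrix ι ι F) (N : End F (ι → F))
    (hmv : ∀ v, x *ᵥ v = v + N v) (W : Submodule F (ι → F))
    (h : W.map (Matrix.toLin' x) ≤ W) : ∀ w ∈ W, N w ∈ W := by
  intro w hw
  have h1 : x *ᵥ w ∈ W := by
    have := h (Submodule.mem_map_of_mem hw)
    rwa [Matrix.toLin'_apply] at this
  have h3 : N w = x *ᵥ w - w := by rw [hmv]; abel
  rw [h3]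
  exact W.sub_mem h1 hw

/-- a Siegel element of `Ω` of rank `2 j` -/
theorem exists_siegel_gl (hQ : (QuadraticMap.polarBilin Q).Nondegenerate)
    (hcard : 5 ≤ Fintype.card ι) (p : ℕ) [Fact p.Prime] [CharP F p] (R : Submodule F (ι → F))
    (hR : TS Q R) (j : ℕ) (hj : finrank F R = 2 * j) (hj1 : 1 ≤ j) :
    ∃ (x : GL ι F) (N : End F (ι → F)), x ∈ Cfsg.Geo.omegaGL ⇑Q ∧ x ^ p = 1 ∧
      (∀ z : F, (x : Matrix ι ι F) ≠ z • (1 : Matrix ι ι F)) ∧
      (∀ v, (x : Matrix ι ι F) *ᵥ v = v + N v) ∧ IsSiegel Q N ∧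
      finrank F (LinearMap.range N) = 2 * j := by
  obtain ⟨N, hN, hNr⟩ := exists_siegel Q hQ R hR j hj
  have hne : N ≠ 0 := by
    rintro rfl
    rw [LinearMap.range_zero, finrank_bot] at hNr
    omega
  obtain ⟨x, hxΩ, hxp, hns, hmv⟩ := exists_gl_of_siegel Q hQ hcard p N hN ⟨j, by rw [hNr]; ring⟩ hne
  exact ⟨x, N, hxΩ, hxp, hns, hmv, hN, hNr⟩

/-- **plus type, every characteristic**: an element of order `p` of `Ω` all of whose invariant
nondegenerate subspaces of even dimension are of plus type -/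
theorem exists_unip_plus (hQ : (QuadraticMap.polarBilin Q).Nondegenerate) (d : ℕ) (hd : 3 ≤ d)
    (hcard : Fintype.card ι = 2 * d) (hplus : PlusOn Q ⊤) (p : ℕ) [Fact p.Prime] [CharP F p] :
    ∃ x : GL ι F, x ∈ Cfsg.Geo.omegaGL ⇑Q ∧ x ^ p = 1 ∧
      (∀ z : F, (x : Matrix ι ι F) ≠ z • (1 : Matrix ι ι F)) ∧
      ∀ W : Submodule F (ι → F), NDon (PB Q) W → Even (finrank F W) →
        W.map (Matrix.toLin' (x : Matrix ι ι F)) ≤ W → PlusOn Q W := by
  have hV : finrank F (ι → F) = 2 * d := by rw [Module.finrank_fintype_fun_eq_card, hcard]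
  obtain ⟨j, hj1, hjd, R, hR, hRd⟩ : ∃ j, 1 ≤ j ∧ d ≤ 2 * j + 1 ∧
      ∃ R : Submodule F (ι → F), TS Q R ∧ finrank F R = 2 * j := by
    rcases Nat.even_or_odd d with ⟨j, hj⟩ | ⟨j, hj⟩
    · obtain ⟨T, -, hT, hTd⟩ := hplus
      rw [finrank_top, hV] at hTd
      exact ⟨j, by omega, by omega, T, hT, by omega⟩
    · obtain ⟨T, -, hT, hTd⟩ := exists_ts_in_NDon Q (2 * j) ⊤ (NDon_top_of Q hQ) (by
        rw [finrank_top, hV]; omega)
      exact ⟨j, by omega, by omega, T, hT, hTd⟩
  obtain ⟨x, N, hxΩ, hxp, hns, hmv, hN, hNr⟩ := exists_siegel_gl Q hQ (by omega) p R hR j hRd hj1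
  refine ⟨x, hxΩ, hxp, hns, ?_⟩
  intro W hW hWe hinv
  exact siegel_no_minus Q hQ d hV hplus hN (by omega) W hW hWe
    (invariant_of_map_le _ N hmv W hinv)

/-- **plus type, `d` even**: an element of order `p` of `Ω` all of whose invariant nondegenerate
subspaces are of plus type and of dimension divisible by four -/
theorem exists_unip_plus_even (hQ : (QuadraticMap.polarBilin Q).Nondegenerate) (d : ℕ)
    (hd : 3 ≤ d) (hde : Even d) (hcard : Fintype.card ι = 2 * d) (hplus : PlusOn Q ⊤) (p : ℕ)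
    [Fact p.Prime] [CharP F p] :
    ∃ x : GL ι F, x ∈ Cfsg.Geo.omegaGL ⇑Q ∧ x ^ p = 1 ∧
      (∀ z : F, (x : Matrix ι ι F) ≠ z • (1 : Matrix ι ι F)) ∧
      ∀ W : Submodule F (ι → F), NDon (PB Q) W →
        W.map (Matrix.toLin' (x : Matrix ι ι F)) ≤ W → PlusOn Q W ∧ finrank F W % 4 = 0 := by
  have hV : finrank F (ι → F) = 2 * d := by rw [Module.finrank_fintype_fun_eq_card, hcard]
  obtain ⟨j, hj⟩ := hde
  obtain ⟨T, -, hT, hTd⟩ := hplus
  rw [finrank_top, hV] at hTd
  obtain ⟨x, N, hxΩ, hxp, hns, hmv, hN, hNr⟩ := exists_siegel_gl Q hQ (by omega) p T hT j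
    (by omega) (by omega)
  refine ⟨x, hxΩ, hxp, hns, ?_⟩
  intro W hW hinv
  exact siegel_full Q hQ d hV hN (by omega) W hW (invariant_of_map_le _ N hmv W hinv)

/-- **`d` odd**: an element of order `p` of `Ω` all of whose invariant nondegenerate subspaces
of even dimension not of plus type have dimension `2` modulo `4` -/
theorem exists_unip_odd (hQ : (QuadraticMap.polarBilin Q).Nondegenerate) (d : ℕ)
    (hd : 3 ≤ d) (hdo : Odd d) (hcard : Fintype.card ι = 2 * d) (p : ℕ)
    [Fact p.Prime] [CharP F p] :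
    ∃ x : GL ι F, x ∈ Cfsg.Geo.omegaGL ⇑Q ∧ x ^ p = 1 ∧
      (∀ z : F, (x : Matrix ι ι F) ≠ z • (1 : Matrix ι ι F)) ∧
      ∀ W : Submodule F (ι → F), NDon (PB Q) W → Even (finrank F W) →
        W.map (Matrix.toLin' (x : Matrix ι ι F)) ≤ W → ¬ PlusOn Q W → finrank F W % 4 = 2 := by
  have hV : finrank F (ι → F) = 2 * d := by rw [Module.finrank_fintype_fun_eq_card, hcard]
  obtain ⟨j, hj⟩ := hdo
  obtain ⟨T, -, hT, hTd⟩ := exists_ts_in_NDon Q (2 * j) ⊤ (NDon_top_of Q hQ) (by
    rw [finrank_top, hV]; omega)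
  obtain ⟨x, N, hxΩ, hxp, hns, hmv, hN, hNr⟩ := exists_siegel_gl Q hQ (by omega) p T hT j
    hTd (by omega)
  refine ⟨x, hxΩ, hxp, hns, ?_⟩
  intro W hW hWe hinv hm
  exact siegel_minus Q hQ d hV hN (by omega) W hW hWe (invariant_of_map_le _ N hmv W hinv) hm

end gl

end

end Cfsg.Agent.Lib.H13.OUni
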