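/-
EO phase 2: the row S5871 (maximal subgroups of Ω₁₂⁺(q)), assembled by helper13 from helper26's EO-main and the
EO2 pieces (helper11 G1, helper23 E1/E2/E6, helper24 T7/T8/H2a/H2b/C2*/C4/E3, helper7 o2e3_gen, helper15 c4_two_q2,
helper26 E7, helper3 OM2F, helper17, helper2 B6, ...).
-/
import Cfsg.Agent.Lib.H13.AschEO2Row12m
import Cfsg.Agent.Lib.H11.AschEO2G
import Cfsg.Agent.Lib.H23.AschEO2E6
import Cfsg.Agent.Lib.H24.AschEO2T7
import Cfsg.Agent.Lib.H24.AschEO2T8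
import Cfsg.Agent.Lib.H24.AschEO2E3
import Cfsg.Agent.Lib.H24.AschEO2C2b
import Cfsg.Agent.Lib.H24.AschEO2C2d
import Cfsg.Agent.Lib.H24.AschEO2C2e
import Cfsg.Agent.Lib.H24.AschEO2C4
import Cfsg.Agent.Lib.H24.AschEO2H2a
import Cfsg.Agent.Lib.H24.AschEO2H2b
import Cfsg.Agent.Lib.H7.AschO2E3
import Cfsg.Agent.Lib.H15.AschP2E7
import Cfsg.Agent.Lib.H26.AschEO2E7
import Cfsg.Agent.Lib.H3.AschOM2F
import Cfsg.Agent.Lib.H28.AschP2Num

set_option autoImplicit false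
set_option maxHeartbeats 800000

namespace Cfsg.Agent.Lib.H13.EOP2

open Cfsg Cfsg.Geo Cfsg.Agent.Lib.H26.AschE
open scoped MatrixGroups Matrix Kronecker

variable {F : Type*} [Field F] [Fintype F]

/-- the conclusion of the row S5871 -/
def Row12p (Q : (Fin 12 → F) → F) (H : Subgroup (Matrix.GeneralLinearGroup (Fin 12) F)) : Prop :=
    (∃ W : Submodule F (Fin 12 → F), W ≠ ⊥ ∧ Cfsg.Geo.IsTotallySingularQuad Q W ∧ Module.finrank F W ≠ 5 ∧ H = Cfsg.Geo.subspaceStabilizer W ⊓ Cfsg.Geo.omegaGL Q) ∨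
    (Odd (Fintype.card F) ∧ ∃ W : Submodule F (Fin 12 → F), W ≠ ⊥ ∧ W ≠ ⊤ ∧ Odd (Module.finrank F W) ∧ 2 * Module.finrank F W ≠ 12 ∧ Cfsg.Geo.IsNondegenerateOn (QuadraticMap.polar Q) W ∧ H = Cfsg.Geo.subspaceStabilizer W ⊓ Cfsg.Geo.omegaGL Q) ∨
    (∃ W : Submodule F (Fin 12 → F), Module.finrank F W = 2 ∧ Cfsg.Geo.IsNondegenerateOn (QuadraticMap.polar Q) W ∧ ¬ Cfsg.Geo.IsPlusTypeOn Q W ∧ H = Cfsg.Geo.subspaceStabilizer W ⊓ Cfsg.Geo.omegaGL Q) ∨
    (4 ≤ Fintype.card F ∧ ∃ W : Submodule F (Fin 12 → F), Module.finrank F W = 2 ∧ Cfsg.Geo.IsNondegenerateOn (QuadraticMap.polar Q) W ∧ Cfsg.Geo.IsPlusTypeOn Q W ∧ H = Cfsg.Geo.subspaceStabilizer W ⊓ Cfsg.Geo.omegaGL Q) ∨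
    (∃ W : Submodule F (Fin 12 → F), Module.finrank F W = 4 ∧ Cfsg.Geo.IsNondegenerateOn (QuadraticMap.polar Q) W ∧ H = Cfsg.Geo.subspaceStabilizer W ⊓ Cfsg.Geo.omegaGL Q) ∨
    (¬ Odd (Fintype.card F) ∧ ∃ v : (Fin 12 → F), Q v ≠ 0 ∧ H = Cfsg.Geo.subspaceStabilizer (Submodule.span F {v}) ⊓ Cfsg.Geo.omegaGL Q) ∨
    ((∃ p : ℕ, p.Prime ∧ Odd p ∧ Fintype.card F = p) ∧ ∃ D : Fin 12 → Submodule F (Fin 12 → F), Cfsg.Geo.IsOrthogonalMDecomposition Q 1 D ∧ H = Cfsg.Geo.decompositionStabilizer D ⊓ Cfsg.Geo.omegaGL Q) ∨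
    (7 ≤ Fintype.card F ∧ ∃ D : Fin 6 → Submodule F (Fin 12 → F), Cfsg.Geo.IsOrthogonalMDecomposition Q 2 D ∧ (∀ i, Cfsg.Geo.IsPlusTypeOn Q (D i)) ∧ H = Cfsg.Geo.decompositionStabilizer D ⊓ Cfsg.Geo.omegaGL Q) ∨
    (Fintype.card F ≠ 3 ∧ ∃ D : Fin 6 → Submodule F (Fin 12 → F), Cfsg.Geo.IsOrthogonalMDecomposition Q 2 D ∧ (∀ i, ¬ Cfsg.Geo.IsPlusTypeOn Q (D i)) ∧ H = Cfsg.Geo.decompositionStabilizer D ⊓ Cfsg.Geo.omegaGL Q) ∨
    (Odd (Fintype.card F) ∧ 5 ≤ Fintype.card F ∧ ∃ D : Fin 4 → Submodule F (Fin 12 → F), Cfsg.Geo.IsOrthogonalMDecomposition Q 3 D ∧ H = Cfsg.Geo.decompositionStabilizer D ⊓ Cfsg.Geo.omegaGL Q) ∨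
    (3 ≤ Fintype.card F ∧ ∃ D : Fin 3 → Submodule F (Fin 12 → F), Cfsg.Geo.IsOrthogonalMDecomposition Q 4 D ∧ H = Cfsg.Geo.decompositionStabilizer D ⊓ Cfsg.Geo.omegaGL Q) ∨
    (∃ D : Fin 2 → Submodule F (Fin 12 → F), Cfsg.Geo.IsOrthogonalMDecomposition Q 6 D ∧ H = Cfsg.Geo.decompositionStabilizer D ⊓ Cfsg.Geo.omegaGL Q) ∨
    (∃ D : Fin 2 → Submodule F (Fin 12 → F), Cfsg.Geo.IsMDecomposition 6 D ∧ (∀ i, Cfsg.Geo.IsTotallySingularQuad Q (D i)) ∧ H = Cfsg.Geo.decompositionStabilizer D ⊓ Cfsg.Geo.omegaGL Q) ∨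
    (∃ K : Subalgebra F (Matrix (Fin 12) (Fin 12) F), Cfsg.Geo.IsFieldSubalgebra 2 K ∧ H = Cfsg.Geo.subalgebraNormalizer K ⊓ Cfsg.Geo.omegaGL Q) ∨
    (∃ K : Subalgebra F (Matrix (Fin 12) (Fin 12) F), Cfsg.Geo.IsFieldSubalgebra 3 K ∧ H = Cfsg.Geo.subalgebraNormalizer K ⊓ Cfsg.Geo.omegaGL Q) ∨
    (∃ K : Subalgebra F (Matrix (Fin 12) (Fin 12) F), Cfsg.Geo.IsFieldSubalgebra 2 K ∧ Cfsg.Geo.IsAdjointClosedFor (QuadraticMap.polar Q) K ∧ ¬ Cfsg.Geo.IsSelfAdjointFor (QuadraticMap.polar Q) K ∧ (∀ k ∈ K, ∃ c : F, ∀ v : (Fin 12 → F), Q (Matrix.mulVec k v) = c * Q v) ∧ H = Cfsg.Geo.subalgebraNormalizer K ⊓ Cfsg.Geo.omegaGL Q) ∨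
    (3 ≤ Fintype.card F ∧ ∃ (e : Fin 12 ≃ Fin 2 × Fin 6) (P : Matrix.GeneralLinearGroup (Fin 12) F) (f₁ : (Fin 2 → F) → (Fin 2 → F) → F) (f₂ : (Fin 6 → F) → (Fin 6 → F) → F), Cfsg.Geo.IsSymplecticForm f₁ ∧ Cfsg.Geo.IsSymplecticForm f₂ ∧ Cfsg.Geo.IsTensorFormStructure id (QuadraticMap.polar Q) f₁ f₂ e P ∧ (∀ (x₁ : Fin 2 → F) (x₂ : Fin 6 → F), Q (Matrix.mulVec (P : Matrix (Fin 12) (Fin 12) F) ((fun a : Fin 2 × Fin 6 => x₁ a.1 * x₂ a.2) ∘ e)) = 0) ∧ H = Cfsg.Geo.tensorProductSubgroup 2 6 e P ⊓ Cfsg.Geo.omegaGL Q) ∨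
    (∃ (F₀ : Subfield F) (r : ℕ) (P : Matrix.GeneralLinearGroup (Fin 12) F) (ζ : F), r.Prime ∧ Fintype.card F = Nat.card F₀ ^ r ∧ ζ ≠ 0 ∧ Cfsg.Geo.IsQuadFormRationalStructure (fun v : Fin 12 → F => ζ * Q v) F₀ P ∧ H = Cfsg.Geo.subfieldSubgroup F₀ P ⊓ Cfsg.Geo.omegaGL Q) ∨
    Cfsg.Geo.InOrthogonalResidualClass H

section

variable {Q : (Fin 12 → F) → F} {H : Subgroup (Matrix.GeneralLinearGroup (Fin 12) F)}

theorem Row12p.of1 (h : ∃ W : Submodule F (Fin 12 → F), W ≠ ⊥ ∧ Cfsg.Geo.IsTotallySingularQuad Q W ∧ Module.finrank F W ≠ 5 ∧ H = Cfsg.Geo.subspaceStabilizer W ⊓ Cfsg.Geo.omegaGL Q) :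
    Row12p Q H :=
  Or.inl h

theorem Row12p.of2 (h : Odd (Fintype.card F) ∧ ∃ W : Submodule F (Fin 12 → F), W ≠ ⊥ ∧ W ≠ ⊤ ∧ Odd (Module.finrank F W) ∧ 2 * Module.finrank F W ≠ 12 ∧ Cfsg.Geo.IsNondegenerateOn (QuadraticMap.polar Q) W ∧ H = Cfsg.Geo.subspaceStabilizer W ⊓ Cfsg.Geo.omegaGL Q) :
    Row12p Q H :=
  Or.inr (Or.inl h)

theorem Row12p.of3 (h : ∃ W : Submodule F (Fin 12 → F), Module.finrank F W = 2 ∧ Cfsg.Geo.IsNondegenerateOn (QuadraticMap.polar Q) W ∧ ¬ Cfsg.Geo.IsPlusTypeOn Q W ∧ H = Cfsg.Geo.subspaceStabilizer W ⊓ Cfsg.Geo.omegaGL Q) :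
    Row12p Q H :=
  Or.inr (Or.inr (Or.inl h))

theorem Row12p.of4 (h : 4 ≤ Fintype.card F ∧ ∃ W : Submodule F (Fin 12 → F), Module.finrank F W = 2 ∧ Cfsg.Geo.IsNondegenerateOn (QuadraticMap.polar Q) W ∧ Cfsg.Geo.IsPlusTypeOn Q W ∧ H = Cfsg.Geo.subspaceStabilizer W ⊓ Cfsg.Geo.omegaGL Q) :
    Row12p Q H :=
  Or.inr (Or.inr (Or.inr (Or.inl h)))

theorem Row12p.of5 (h : ∃ W : Submodule F (Fin 12 → F), Module.finrank F W = 4 ∧ Cfsg.Geo.IsNondegenerateOn (QuadraticMap.polar Q) W ∧ H = Cfsg.Geo.subspaceStabilizer W ⊓ Cfsg.Geo.omegaGL Q) :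
    Row12p Q H :=
  Or.inr (Or.inr (Or.inr (Or.inr (Or.inl h))))

theorem Row12p.of6 (h : ¬ Odd (Fintype.card F) ∧ ∃ v : (Fin 12 → F), Q v ≠ 0 ∧ H = Cfsg.Geo.subspaceStabilizer (Submodule.span F {v}) ⊓ Cfsg.Geo.omegaGL Q) :
    Row12p Q H :=
  Or.inr (Or.inr (Or.inr (Or.inr (Or.inr (Or.inl h)))))

theorem Row12p.of7 (h : (∃ p : ℕ, p.Prime ∧ Odd p ∧ Fintype.card F = p) ∧ ∃ D : Fin 12 → Submodule F (Fin 12 → F), Cfsg.Geo.IsOrthogonalMDecomposition Q 1 D ∧ H = Cfsg.Geo.decompositionStabilizer D ⊓ Cfsg.Geo.omegaGL Q) :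
    Row12p Q H :=
  Or.inr (Or.inr (Or.inr (Or.inr (Or.inr (Or.inr (Or.inl h))))))

theorem Row12p.of8 (h : 7 ≤ Fintype.card F ∧ ∃ D : Fin 6 → Submodule F (Fin 12 → F), Cfsg.Geo.IsOrthogonalMDecomposition Q 2 D ∧ (∀ i, Cfsg.Geo.IsPlusTypeOn Q (D i)) ∧ H = Cfsg.Geo.decompositionStabilizer D ⊓ Cfsg.Geo.omegaGL Q) :
    Row12p Q H :=
  Or.inr (Or.inr (Or.inr (Or.inr (Or.inr (Or.inr (Or.inr (Or.inl h)))))))

theorem Row12p.of9 (h : Fintype.card F ≠ 3 ∧ ∃ D : Fin 6 → Submodule F (Fin 12 → F), Cfsg.Geo.IsOrthogonalMDecomposition Q 2 D ∧ (∀ i, ¬ Cfsg.Geo.IsPlusTypeOn Q (D i)) ∧ H = Cfsg.Geo.decompositionStabilizer D ⊓ Cfsg.Geo.omegaGL Q) :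
    Row12p Q H :=
  Or.inr (Or.inr (Or.inr (Or.inr (Or.inr (Or.inr (Or.inr (Or.inr (Or.inl h))))))))

theorem Row12p.of10 (h : Odd (Fintype.card F) ∧ 5 ≤ Fintype.card F ∧ ∃ D : Fin 4 → Submodule F (Fin 12 → F), Cfsg.Geo.IsOrthogonalMDecomposition Q 3 D ∧ H = Cfsg.Geo.decompositionStabilizer D ⊓ Cfsg.Geo.omegaGL Q) :
    Row12p Q H :=
  Or.inr (Or.inr (Or.inr (Or.inr (Or.inr (Or.inr (Or.inr (Or.inr (Or.inr (Or.inl h)))))))))

theorem Row12p.of11 (h : 3 ≤ Fintype.card F ∧ ∃ D : Fin 3 → Submodule F (Fin 12 → F), Cfsg.Geo.IsOrthogonalMDecomposition Q 4 D ∧ H = Cfsg.Geo.decompositionStabilizer D ⊓ Cfsg.Geo.omegaGL Q) :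
    Row12p Q H :=
  Or.inr (Or.inr (Or.inr (Or.inr (Or.inr (Or.inr (Or.inr (Or.inr (Or.inr (Or.inr (Or.inl h))))))))))

theorem Row12p.of12 (h : ∃ D : Fin 2 → Submodule F (Fin 12 → F), Cfsg.Geo.IsOrthogonalMDecomposition Q 6 D ∧ H = Cfsg.Geo.decompositionStabilizer D ⊓ Cfsg.Geo.omegaGL Q) :
    Row12p Q H :=
  Or.inr (Or.inr (Or.inr (Or.inr (Or.inr (Or.inr (Or.inr (Or.inr (Or.inr (Or.inr (Or.inr (Or.inl h)))))))))))

theorem Row12p.of13 (h : ∃ D : Fin 2 → Submodule F (Fin 12 → F), Cfsg.Geo.IsMDecomposition 6 D ∧ (∀ i, Cfsg.Geo.IsTotallySingularQuad Q (D i)) ∧ H = Cfsg.Geo.decompositionStabilizer D ⊓ Cfsg.Geo.omegaGL Q) :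
    Row12p Q H :=
  Or.inr (Or.inr (Or.inr (Or.inr (Or.inr (Or.inr (Or.inr (Or.inr (Or.inr (Or.inr (Or.inr (Or.inr (Or.inl h))))))))))))

theorem Row12p.of14 (h : ∃ K : Subalgebra F (Matrix (Fin 12) (Fin 12) F), Cfsg.Geo.IsFieldSubalgebra 2 K ∧ H = Cfsg.Geo.subalgebraNormalizer K ⊓ Cfsg.Geo.omegaGL Q) :
    Row12p Q H :=
  Or.inr (Or.inr (Or.inr (Or.inr (Or.inr (Or.inr (Or.inr (Or.inr (Or.inr (Or.inr (Or.inr (Or.inr (Or.inr (Or.inl h)))))))))))))

theorem Row12p.of15 (h : ∃ K : Subalgebra F (Matrix (Fin 12) (Fin 12) F), Cfsg.Geo.IsFieldSubalgebra 3 K ∧ H = Cfsg.Geo.subalgebraNormalizer K ⊓ Cfsg.Geo.omegaGL Q) :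
    Row12p Q H :=
  Or.inr (Or.inr (Or.inr (Or.inr (Or.inr (Or.inr (Or.inr (Or.inr (Or.inr (Or.inr (Or.inr (Or.inr (Or.inr (Or.inr (Or.inl h))))))))))))))

theorem Row12p.of16 (h : ∃ K : Subalgebra F (Matrix (Fin 12) (Fin 12) F), Cfsg.Geo.IsFieldSubalgebra 2 K ∧ Cfsg.Geo.IsAdjointClosedFor (QuadraticMap.polar Q) K ∧ ¬ Cfsg.Geo.IsSelfAdjointFor (QuadraticMap.polar Q) K ∧ (∀ k ∈ K, ∃ c : F, ∀ v : (Fin 12 → F), Q (Matrix.mulVec k v) = c * Q v) ∧ H = Cfsg.Geo.subalgebraNormalizer K ⊓ Cfsg.Geo.omegaGL Q) :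
    Row12p Q H :=
  Or.inr (Or.inr (Or.inr (Or.inr (Or.inr (Or.inr (Or.inr (Or.inr (Or.inr (Or.inr (Or.inr (Or.inr (Or.inr (Or.inr (Or.inr (Or.inl h)))))))))))))))

theorem Row12p.of17 (h : 3 ≤ Fintype.card F ∧ ∃ (e : Fin 12 ≃ Fin 2 × Fin 6) (P : Matrix.GeneralLinearGroup (Fin 12) F) (f₁ : (Fin 2 → F) → (Fin 2 → F) → F) (f₂ : (Fin 6 → F) → (Fin 6 → F) → F), Cfsg.Geo.IsSymplecticForm f₁ ∧ Cfsg.Geo.IsSymplecticForm f₂ ∧ Cfsg.Geo.IsTensorFormStructure id (QuadraticMap.polar Q) f₁ f₂ e P ∧ (∀ (x₁ : Fin 2 → F) (x₂ : Fin 6 → F), Q (Matrix.mulVec (P : Matrix (Fin 12) (Fin 12) F) ((fun a : Fin 2 × Fin 6 => x₁ a.1 * x₂ a.2) ∘ e)) = 0) ∧ H = Cfsg.Geo.tensorProductSubgroup 2 6 e P ⊓ Cfsg.Geo.omegaGL Q) :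
    Row12p Q H :=
  Or.inr (Or.inr (Or.inr (Or.inr (Or.inr (Or.inr (Or.inr (Or.inr (Or.inr (Or.inr (Or.inr (Or.inr (Or.inr (Or.inr (Or.inr (Or.inr (Or.inl h))))))))))))))))

theorem Row12p.of18 (h : ∃ (F₀ : Subfield F) (r : ℕ) (P : Matrix.GeneralLinearGroup (Fin 12) F) (ζ : F), r.Prime ∧ Fintype.card F = Nat.card F₀ ^ r ∧ ζ ≠ 0 ∧ Cfsg.Geo.IsQuadFormRationalStructure (fun v : Fin 12 → F => ζ * Q v) F₀ P ∧ H = Cfsg.Geo.subfieldSubgroup F₀ P ⊓ Cfsg.Geo.omegaGL Q) :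
    Row12p Q H :=
  Or.inr (Or.inr (Or.inr (Or.inr (Or.inr (Or.inr (Or.inr (Or.inr (Or.inr (Or.inr (Or.inr (Or.inr (Or.inr (Or.inr (Or.inr (Or.inr (Or.inr (Or.inl h)))))))))))))))))

theorem Row12p.of19 (h : Cfsg.Geo.InOrthogonalResidualClass H) :
    Row12p Q H :=
  Or.inr (Or.inr (Or.inr (Or.inr (Or.inr (Or.inr (Or.inr (Or.inr (Or.inr (Or.inr (Or.inr (Or.inr (Or.inr (Or.inr (Or.inr (Or.inr (Or.inr (Or.inr (h))))))))))))))))))

end

/-- two isometric halves are pairwise isometric -/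
theorem isometric_of_halves {n : ℕ} (Q : (Fin n → F) → F) (D : Fin 2 → Submodule F (Fin n → F))
    (h : AreIsometricFor Q (D 0) (D 1)) : ∀ i j, AreIsometricFor Q (D i) (D j) := by
  have hrefl : ∀ W : Submodule F (Fin n → F), AreIsometricFor Q W W :=
    fun W => ⟨LinearEquiv.refl F W, fun w => rfl⟩
  have hsymm : AreIsometricFor Q (D 1) (D 0) := by
    obtain ⟨e, he⟩ := h
    refine ⟨e.symm, fun w => ?_⟩
    have := he (e.symm w)
    rw [LinearEquiv.apply_symm_apply] at this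
    exact this.symm
  intro i j
  fin_cases i <;> fin_cases j
  · exact hrefl _
  · exact h
  · exact hsymm
  · exact hrefl _

/-- a non-degenerate subspace of odd dimension forces `q` odd -/
theorem odd_card_of_odd_nondegenerateOn {n : ℕ} (Q : (Fin n → F) → F) (hQ : IsNondegenerateQuadraticForm Q)
    (W : Submodule F (Fin n → F)) (hW : IsNondegenerateOn (QuadraticMap.polar Q) W)
    (hdo : Odd (Module.finrank F W)) : Odd (Fintype.card F) := by
  by_contra hne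
  have h2 := two_eq_zero_of_not_odd hne
  have hev := Cfsg.Agent.Lib.H17.AschSP2.even_finrank_of_nondegenerateOn (QuadraticMap.polar Q)
    hQ.polar_bilinear (fun v => by rw [polar_self Q hQ, h2, zero_mul]) W hW
  exact (Nat.not_odd_iff_even.2 hev) hdo

/-- the span of a singular vector is totally singular -/
theorem totallySingular_span {n : ℕ} (Q : (Fin n → F) → F) (hQ : IsNondegenerateQuadraticForm Q)
    (v : Fin n → F) (hv : Q v = 0) : IsTotallySingularQuad Q (Submodule.span F {v}) := by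
  intro w hw
  obtain ⟨a, rfl⟩ := Submodule.mem_span_singleton.1 hw
  rw [hQ.smul, hv, mul_zero]

variable (Q : (Fin 12 → F) → F) (hQ : IsNondegenerateQuadraticForm Q)
  (H : Subgroup (Matrix.GeneralLinearGroup (Fin 12) F)) (hH : IsMaximalIn (omegaGL Q) H)

include hQ hH

/-- a totally singular subspace -/
theorem row12p_ts (hplus : IsPlusTypeOn Q ⊤) (W : Submodule F (Fin 12 → F)) (hW0 : W ≠ ⊥)
    (hts : IsTotallySingularQuad Q W) (hHW : H ≤ subspaceStabilizer W) : Row12p Q H := by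
  by_cases h5 : Module.finrank F W = 5
  · obtain ⟨T, hT0, hTts, hTdim, -, hle⟩ := Cfsg.Agent.Lib.H11.EOP2.exists_max_ts_of_submax Q hQ
      (m := 6) (by norm_num) (by norm_num) hplus W hts (by omega)
    have hHT : H ≤ subspaceStabilizer T := (le_inf hHW hH.1.le).trans hle
    exact Row12p.of1 ⟨T, hT0, hTts, by omega, eq_stab_inf Q hQ (by norm_num) hH T hT0
      (ne_top_of_totallySingular Q hQ (by norm_num) T hTts) hHT⟩
  · exact Row12p.of1 ⟨W, hW0, hts, h5, eq_stab_inf Q hQ (by norm_num) hH W hW0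
      (ne_top_of_totallySingular Q hQ (by norm_num) W hts) hHW⟩

/-- a non-singular point -/
theorem row12p_vec (v : Fin 12 → F) (hv : Q v ≠ 0) (hHv : H ≤ subspaceStabilizer (Submodule.span F {v})) :
    Row12p Q H := by
  have h0 := span_ne_bot_of_quad_ne_zero Q hQ v hv
  have h1 := span_ne_top (F := F) (n := 12) (by norm_num) v
  have heq := eq_stab_inf Q hQ (by norm_num) hH _ h0 h1 hHv
  by_cases hodd : Odd (Fintype.card F)
  · obtain ⟨-, -, hfr, hnd⟩ :=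
      Cfsg.Agent.Lib.H23.EOP2.nondegenerateOn_span_of_odd hodd Q hQ (by norm_num) v hv
    exact Row12p.of2 ⟨hodd, _, h0, h1, by rw [hfr]; exact odd_one, by rw [hfr]; norm_num, hnd, heq⟩
  · exact Row12p.of6 ⟨hodd, v, hv, heq⟩

/-- two isometric halves -/
theorem row12p_halves (D : Fin 2 → Submodule F (Fin 12 → F)) (hD : IsOrthogonalMDecomposition Q 6 D)
    (hHD : H ≤ decompositionStabilizer D) : Row12p Q H :=
  Row12p.of12 ⟨D, hD, eq_inf_of_isMaximalIn hH hHD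
    (not_omegaGL_le_decompositionStabilizer Q hQ (by norm_num) D hD.decomp.decomp)⟩

/-- a subfield group -/
theorem row12p_subfield (F₀ : Subfield F) (r : ℕ) (P : Matrix.GeneralLinearGroup (Fin 12) F) (ζ : F)
    (hr : r.Prime) (hcard : Fintype.card F = Nat.card F₀ ^ r) (hζ : ζ ≠ 0)
    (hR : IsQuadFormRationalStructure (fun v : Fin 12 → F => ζ * Q v) F₀ P)
    (hHS : H ≤ subfieldSubgroup F₀ P) : Row12p Q H :=
  Row12p.of18 ⟨F₀, r, P, ζ, hr, hcard, hζ, hR, eq_inf_of_isMaximalIn hH hHS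
    (not_omegaGL_le_subfieldSubgroup Q hQ (by rw [Fintype.card_fin]; norm_num) F₀ r hr hcard P)⟩

/-- an orthogonal frame of isometric lines -/
theorem row12p_lines (D : Fin 12 → Submodule F (Fin 12 → F)) (hD : IsOrthogonalMDecomposition Q 1 D)
    (hHD : H ≤ decompositionStabilizer D) : Row12p Q H := by
  have hHI : H ≤ isometryGroup F Q := hH.1.le.trans (omegaGL_le_isometryGroup Q)
  have hodd : Odd (Fintype.card F) :=
    odd_card_of_odd_nondegenerateOn Q hQ (D 0) (hD.decomp.nondegenerate 0)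
      (by rw [hD.decomp.decomp.finrank_eq 0]; exact odd_one)
  have heq := eq_inf_of_isMaximalIn hH hHD
    (not_omegaGL_le_decompositionStabilizer Q hQ (by norm_num) D hD.decomp.decomp)
  by_cases hp : (Fintype.card F).Prime
  · exact Row12p.of7 ⟨⟨Fintype.card F, hp, hodd, rfl⟩, D, hD, heq⟩
  · obtain ⟨F₀, r, -, hr, hcard⟩ := Cfsg.Agent.Lib.H17.Asch.exists_prime_degree_subfield (⊥ : Subfield F)
      (Cfsg.Agent.Lib.H3.Asch.OM2F_bot_ne_top hp)
    obtain ⟨P, ζ, hζ, hR, hle⟩ := Cfsg.Agent.Lib.H26.EOP2.lines_le_subfieldSubgroup Q hQ D hD F₀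
    exact row12p_subfield Q hQ H hH F₀ r P ζ hr hcard hζ hR ((le_inf hHD hHI).trans hle)

/-- six isometric planes -/
theorem row12p_planes (hplus : IsPlusTypeOn Q ⊤) (D : Fin 6 → Submodule F (Fin 12 → F))
    (hD : IsOrthogonalMDecomposition Q 2 D) (hHD : H ≤ decompositionStabilizer D) : Row12p Q H := by
  have hHI : H ≤ isometryGroup F Q := hH.1.le.trans (omegaGL_le_isometryGroup Q)
  have heq := eq_inf_of_isMaximalIn hH hHD
    (not_omegaGL_le_decompositionStabilizer Q hQ (by norm_num) D hD.decomp.decomp)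
  have hHDI : H ≤ decompositionStabilizer D ⊓ isometryGroup F Q := le_inf hHD hHI
  by_cases hp : IsPlusTypeOn Q (D 0)
  · have hall : ∀ i, IsPlusTypeOn Q (D i) := fun i =>
      Cfsg.Agent.Lib.H24.Dn.plus_of_isometric Q _ _ (hD.isometric 0 i) hp
    by_cases h7 : 7 ≤ Fintype.card F
    · exact Row12p.of8 ⟨h7, D, hD, hall, heq⟩
    · have h1 : 1 < Fintype.card F := Fintype.one_lt_card
      have h6 := Cfsg.Agent.Lib.H28.AschP2.card_ne_six (F := F)
      have hcases : Fintype.card F = 2 ∨ Fintype.card F = 3 ∨ Fintype.card F = 4 ∨ Fintype.card F = 5 := by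
        omega
      rcases hcases with hq | hq | hq | hq
      · obtain ⟨v, hv0, hQv, hle⟩ := Cfsg.Agent.Lib.H24.EOP2.c2_plus_q2 hq hQ D hD hall
        have h2 : (2 : F) = 0 := two_eq_zero_of_not_odd (by rw [hq]; decide)
        have hQv0 : Q v = 0 := by
          rw [hQv]
          push_cast
          linear_combination 3 * h2
        have hne : Submodule.span F {v} ≠ ⊥ := by
          rw [Ne, Submodule.span_singleton_eq_bot]
          exact hv0
        exact row12p_ts Q hQ H hH hplus _ hne (totallySingular_span Q hQ v hQv0) (hHDI.trans hle)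
      · obtain ⟨D2, -, hle, hev, -⟩ := Cfsg.Agent.Lib.H24.EOP2.c2_plus_q3 hq hQ D hD hall
        exact row12p_halves Q hQ H hH D2 (hev (by decide)) (hHDI.trans hle)
      · obtain ⟨F₀, r, P, ζ, hr, hcard, hζ, hR, hle⟩ :=
          Cfsg.Agent.Lib.H24.EOP2.c2_plus_q4_one hq hQ D hD hall
        exact row12p_subfield Q hQ H hH F₀ r P ζ hr hcard hζ hR (hHDI.trans hle)
      · obtain ⟨D', hD', hle⟩ := Cfsg.Agent.Lib.H24.EOP2.exists_lines_of_plus_planes_q5 hq Q hQ D hD hall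
        exact row12p_lines Q hQ H hH D' hD' (hHDI.trans hle)
  · have hall : ∀ i, ¬ IsPlusTypeOn Q (D i) := fun i hi =>
      hp (Cfsg.Agent.Lib.H24.Dn.plus_of_isometric Q _ _ (hD.isometric i 0) hi)
    by_cases hq : Fintype.card F = 3
    · obtain ⟨D', hD', hle⟩ := Cfsg.Agent.Lib.H24.EOP2.exists_lines_of_minus_planes hq Q hQ D hD hall
      exact row12p_lines Q hQ H hH D' hD' (hHDI.trans hle)
    · exact Row12p.of9 ⟨hq, D, hD, hall, heq⟩

/-- a non-degenerate subspace of dimension 2 or 4 -/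
theorem row12p_nd_small (V : Submodule F (Fin 12 → F)) (hV0 : V ≠ ⊥) (hV1 : V ≠ ⊤)
    (hV : IsNondegenerateOn (QuadraticMap.polar Q) V) (hHV : H ≤ subspaceStabilizer V)
    (hev : Even (Module.finrank F V)) (h4 : Module.finrank F V ≤ 4) : Row12p Q H := by
  have hHI : H ≤ isometryGroup F Q := hH.1.le.trans (omegaGL_le_isometryGroup Q)
  have heq := eq_stab_inf Q hQ (by norm_num) hH V hV0 hV1 hHV
  have hpos := finrank_pos_of_ne_bot V hV0
  obtain ⟨a, ha⟩ := hev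
  have hcases : Module.finrank F V = 2 ∨ Module.finrank F V = 4 := by omega
  rcases hcases with h2 | h4
  · by_cases hp : IsPlusTypeOn Q V
    · by_cases hq4 : 4 ≤ Fintype.card F
      · exact Row12p.of4 ⟨hq4, V, h2, hV, hp, heq⟩
      · obtain ⟨v, hv, hle⟩ :=
          Cfsg.Agent.Lib.H23.EOP2.exists_vec_of_plus_plane Q hQ (by omega) V h2 hV hp
        exact row12p_vec Q hQ H hH v hv ((le_inf hHV hHI).trans hle)
    · exact Row12p.of3 ⟨V, h2, hV, hp, heq⟩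
  · exact Row12p.of5 ⟨V, h4, hV, heq⟩

/-- a non-degenerate proper subspace -/
theorem row12p_nd (hplus : IsPlusTypeOn Q ⊤) (W : Submodule F (Fin 12 → F)) (hW0 : W ≠ ⊥) (hW1 : W ≠ ⊤)
    (hW : IsNondegenerateOn (QuadraticMap.polar Q) W) (hHW : H ≤ subspaceStabilizer W) : Row12p Q H := by
  have hHI : H ≤ isometryGroup F Q := hH.1.le.trans (omegaGL_le_isometryGroup Q)
  have heq := eq_stab_inf Q hQ (by norm_num) hH W hW0 hW1 hHW
  have hpos := finrank_pos_of_ne_bot W hW0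
  have hlt := finrank_lt_of_ne_top W hW1
  by_cases hdo : Odd (Module.finrank F W)
  · have hodd : Odd (Fintype.card F) := odd_card_of_odd_nondegenerateOn Q hQ W hW hdo
    refine Row12p.of2 ⟨hodd, W, hW0, hW1, hdo, ?_, hW, heq⟩
    obtain ⟨a, ha⟩ := hdo
    omega
  · have hev : Even (Module.finrank F W) := Nat.not_odd_iff_even.1 hdo
    by_cases h4 : Module.finrank F W ≤ 4
    · exact row12p_nd_small Q hQ H hH W hW0 hW1 hW hHW hev h4
    · by_cases h6 : Module.finrank F W = 6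
      · obtain ⟨D, -, hD, hle⟩ :=
          Cfsg.Agent.Lib.H23.EOP2.exists_halves_decomposition Q hQ W hW0 hW1 hW (by omega)
        rw [h6] at hD
        have hiso := Cfsg.Agent.Lib.H24.EOP2.isometric_halves_of_plus Q hQ hplus 6 (by decide) D hD
        exact row12p_halves Q hQ H hH D ⟨hD, isometric_of_halves Q D hiso⟩ ((le_inf hHW hHI).trans hle)
      · obtain ⟨W', h0', h1', hnd', hdim', hle'⟩ := Cfsg.Agent.Lib.H17.OP2.exists_perp_gen hQ W hW0 hW1 hW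
        rw [Fintype.card_fin] at hdim'
        have hev' : Even (Module.finrank F W') := by
          obtain ⟨a, ha⟩ := hev
          exact ⟨6 - a, by omega⟩
        have h4' : Module.finrank F W' ≤ 4 := by
          obtain ⟨a, ha⟩ := hev
          omega
        exact row12p_nd_small Q hQ H hH W' h0' h1' hnd' ((le_inf hHW hHI).trans hle') hev' h4'

/-- an orthogonal decomposition into isometric blocks -/
theorem row12p_decomp (hplus : IsPlusTypeOn Q ⊤) {t : ℕ} (k : ℕ) (D : Fin t → Submodule F (Fin 12 → F))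
    (hD : IsOrthogonalMDecomposition Q k D) (hHD : H ≤ decompositionStabilizer D) : Row12p Q H := by
  have hHI : H ≤ isometryGroup F Q := hH.1.le.trans (omegaGL_le_isometryGroup Q)
  have htk := Cfsg.Agent.Lib.H17.AschSP2.mul_eq_of_isMDecomposition D hD.decomp.decomp
  rw [Fintype.card_fin] at htk
  have ht2 := hD.decomp.decomp.two_le
  have hk0 := hD.decomp.decomp.pos
  have heq := eq_inf_of_isMaximalIn hH hHD
    (not_omegaGL_le_decompositionStabilizer Q hQ (by norm_num) D hD.decomp.decomp)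
  have hHDI : H ≤ decompositionStabilizer D ⊓ isometryGroup F Q := le_inf hHD hHI
  have ht12 : t ≤ 12 := by nlinarith
  have hcases : (t = 12 ∧ k = 1) ∨ (t = 6 ∧ k = 2) ∨ (t = 4 ∧ k = 3) ∨ (t = 3 ∧ k = 4) ∨ (t = 2 ∧ k = 6) := by
    interval_cases t <;> omega
  rcases hcases with ⟨rfl, rfl⟩ | ⟨rfl, rfl⟩ | ⟨rfl, rfl⟩ | ⟨rfl, rfl⟩ | ⟨rfl, rfl⟩
  · exact row12p_lines Q hQ H hH D hD hHD
  · exact row12p_planes Q hQ H hH hplus D hD hHD
  · have hodd : Odd (Fintype.card F) :=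
      odd_card_of_odd_nondegenerateOn Q hQ (D 0) (hD.decomp.nondegenerate 0)
        (by rw [hD.decomp.decomp.finrank_eq 0]; decide)
    by_cases h5 : 5 ≤ Fintype.card F
    · exact Row12p.of10 ⟨hodd, h5, D, hD, heq⟩
    · have hq : Fintype.card F = 3 := by
        have h1 : 1 < Fintype.card F := Fintype.one_lt_card
        obtain ⟨a, ha⟩ := hodd
        omega
      obtain ⟨t', D', hD', hle⟩ :=
        Cfsg.Agent.Lib.H7.OP2.o2e3_gen hq (Cfsg.Agent.Lib.H29.Orth.toQF Q hQ) D hD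
      have ht' := Cfsg.Agent.Lib.H17.AschSP2.mul_eq_of_isMDecomposition D' hD'.decomp.decomp
      rw [Fintype.card_fin, mul_one] at ht'
      subst ht'
      exact row12p_lines Q hQ H hH D' hD' (hHDI.trans hle)
  · by_cases h3 : 3 ≤ Fintype.card F
    · exact Row12p.of11 ⟨h3, D, hD, heq⟩
    · have hq : Fintype.card F = 2 := by
        have h1 : 1 < Fintype.card F := Fintype.one_lt_card
        omega
      by_cases hp : IsPlusTypeOn Q (D 0)
      · have hall : ∀ i, IsPlusTypeOn Q (D i) := fun i =>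
          Cfsg.Agent.Lib.H24.Dn.plus_of_isometric Q _ _ (hD.isometric 0 i) hp
        obtain ⟨D2, hD2, -, hle⟩ := Cfsg.Agent.Lib.H24.EOP2.c4_plus_q2 hq hQ D hD hall (r := 6) (by norm_num)
        exact row12p_planes Q hQ H hH hplus D2 hD2 (hHDI.trans hle)
      · have hall : ∀ i, ¬ IsPlusTypeOn Q (D i) := fun i hi =>
          hp (Cfsg.Agent.Lib.H24.Dn.plus_of_isometric Q _ _ (hD.isometric i 0) hi)
        exact absurd hplus (Cfsg.Agent.Lib.H24.EOP2.not_plus_of_odd_minus_blocks Q hQ 4 (by decide) (by decide)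
          D hD hall)
  · exact row12p_halves Q hQ H hH D hD hHD

/-- a field subalgebra of prime degree -/
theorem row12p_field (r : ℕ) (hr : r.Prime) (K : Subalgebra F (Matrix (Fin 12) (Fin 12) F))
    (hK : IsFieldSubalgebra r K) (hHK : H ≤ subalgebraNormalizer K) : Row12p Q H := by
  have hdvd : r ∣ 12 := by
    have := Cfsg.Agent.Lib.H21.OP2.dvd_card_of_isFieldSubalgebra r K hK
    rwa [Fintype.card_fin] at this
  have heq := eq_inf_of_isMaximalIn hH hHK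
    (not_omegaGL_le_subalgebraNormalizer Q hQ (by rw [Fintype.card_fin]; norm_num) r hr.two_le K hK)
  have hr23 : r = 2 ∨ r = 3 := by
    have hle : r ≤ 12 := Nat.le_of_dvd (by norm_num) hdvd
    interval_cases r <;> simp_all (config := {decide := true})
  rcases hr23 with rfl | rfl
  · exact Row12p.of14 ⟨K, hK, heq⟩
  · exact Row12p.of15 ⟨K, hK, heq⟩

/-- **the row S5871**. -/
theorem row12p (hplus : IsPlusTypeOn Q ⊤) : Row12p Q H := by
  have hHI : H ≤ isometryGroup F Q := hH.1.le.trans (omegaGL_le_isometryGroup Q)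
  rcases emain_all Q hQ (by norm_num) H hHI with ht | hres
  swap
  · exact Row12p.of19 hres
  rcases ht with h1 | h2 | h3 | h4 | h5 | h6 | h7
  · -- class 1
    rcases h1 with ⟨W, h0, hts, hHW⟩ | ⟨W, h0, h1, hnd, hHW⟩ | ⟨-, v, hv, hHv⟩
    · exact row12p_ts Q hQ H hH hplus W h0 hts hHW
    · exact row12p_nd Q hQ H hH hplus W h0 h1 hnd hHW
    · exact row12p_vec Q hQ H hH v hv hHv
  · -- class 2
    rcases h2 with ⟨t, k, D, hD, hHD⟩ | ⟨m, D, hD, hts, hHD⟩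
    · exact row12p_decomp Q hQ H hH hplus k D hD hHD
    · have hm := Cfsg.Agent.Lib.H17.AschSP2.mul_eq_of_isMDecomposition D hD
      rw [Fintype.card_fin] at hm
      have hm6 : m = 6 := by omega
      subst hm6
      exact Row12p.of13 ⟨D, hD, hts, eq_inf_of_isMaximalIn hH hHD
        (not_omegaGL_le_decompositionStabilizer Q hQ (by norm_num) D hD)⟩
  · -- class 3
    rcases h3 with ⟨r, K, hr, hK, -, -, hHK⟩ | ⟨K, hK, hac, hnsa, hsim, hHK⟩
    · exact row12p_field Q hQ H hH r hr K hK hHK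
    · exact Row12p.of16 ⟨K, hK, hac, hnsa, hsim, eq_inf_of_isMaximalIn hH hHK
        (not_omegaGL_le_subalgebraNormalizer Q hQ (by rw [Fintype.card_fin]; norm_num) 2 le_rfl K hK)⟩
  · -- class 4
    rcases h4 with ⟨n₁, n₂, e, P, f₁, f₂, h2, hlt, hf₁, hf₂, hT, hpure, hHT⟩ |
      ⟨n₁, n₂, e, P, f₁, f₂, hodd, h3, hle, hf₁, hf₂, hT, hHT⟩
    · have hcard : n₁ * n₂ = 12 := by
        have := Fintype.card_congr e
        simpa [Fintype.card_prod] using this.symm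
      have hev : Even n₁ := by
        have := Cfsg.Agent.Lib.H17.AschSP2.even_card_of_isSymplecticForm f₁ hf₁
        rwa [Fintype.card_fin] at this
      have hn1 : n₁ = 2 := by
        obtain ⟨a, ha⟩ := hev
        have : n₁ ≤ 3 := by nlinarith
        omega
      subst hn1
      have hn2 : n₂ = 6 := by omega
      subst hn2
      by_cases hq3 : 3 ≤ Fintype.card F
      · exact Row12p.of17 ⟨hq3, e, P, f₁, f₂, hf₁, hf₂, hT, hpure, eq_inf_of_isMaximalIn hH hHT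
          (Cfsg.Agent.Lib.H2.EOP2.not_omegaGL_le_tensorProductSubgroup Q hQ (by norm_num) 2 6
            (by norm_num) (by norm_num) e P)⟩
      · have hq : Fintype.card F = 2 := by
          have h1 : 1 < Fintype.card F := Fintype.one_lt_card
          omega
        obtain ⟨K, hK, hle⟩ := Cfsg.Agent.Lib.H15.AschP2.c4_two_q2 6 e P hq (by norm_num)
        exact row12p_field Q hQ H hH 2 Nat.prime_two K hK (hHT.trans hle)
    · have hcard : n₁ * n₂ = 12 := by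
        have := Fintype.card_congr e
        simpa [Fintype.card_prod] using this.symm
      have hn1 : n₁ = 3 := by
        have : n₁ ≤ 3 := by nlinarith
        omega
      subst hn1
      have hn2 : n₂ = 4 := by omega
      subst hn2
      by_cases hpl : IsPlusTypeOn (fun v : Fin 4 → F => f₂ v v) ⊤
      · obtain ⟨e', P', g₁, g₂, hg₁, hg₂, hT', hpure', hle'⟩ :=
          Cfsg.Agent.Lib.H24.EOP2.tensor_three_four_le hodd Q hQ e P f₁ f₂ hf₁ hf₂ hT hpl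
        have hq3 : 3 ≤ Fintype.card F := by
          have h1 : 1 < Fintype.card F := Fintype.one_lt_card
          obtain ⟨a, ha⟩ := hodd
          omega
        exact Row12p.of17 ⟨hq3, e', P', g₁, g₂, hg₁, hg₂, hT', hpure',
          eq_inf_of_isMaximalIn hH ((le_inf hHT hH.1.le).trans hle')
            (Cfsg.Agent.Lib.H2.EOP2.not_omegaGL_le_tensorProductSubgroup Q hQ (by norm_num) 2 6
              (by norm_num) (by norm_num) e' P')⟩
      · exact absurd hplus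
          (Cfsg.Agent.Lib.H24.EOP2.not_plus_of_sym_tensor_three hodd Q hQ 4 e P f₁ f₂ hf₁ hf₂ hT hpl)
  · -- class 5
    obtain ⟨F₀, r, P, ζ, hr, hcard, hζ, hR, hHS⟩ := h5
    exact row12p_subfield Q hQ H hH F₀ r P ζ hr hcard hζ hR hHS
  · -- class 6
    exfalso
    obtain ⟨m, hm⟩ := h6.1
    rw [Fintype.card_fin] at hm
    have hm3 : m ≤ 3 := by
      by_contra hlt
      have : 2 ^ 4 ≤ 2 ^ m := Nat.pow_le_pow_right (by norm_num) (by omega)
      omega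
    interval_cases m <;> omega
  · -- class 7
    exfalso
    rcases h7 with ⟨k, t, e, P, f₁, hk, ht, -⟩ | ⟨k, t, e, P, f₁, -, hk, ht, -⟩
    · have hcard : k ^ t = 12 := by
        have := Fintype.card_congr e
        simpa using this.symm
      exact no_pow_eq_twelve k t hk ht hcard
    · have hcard : k ^ t = 12 := by
        have := Fintype.card_congr e
        simpa using this.symm
      exact no_pow_eq_twelve k t (by omega) ht hcard

end Cfsg.Agent.Lib.H13.EOP2
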