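/-
Orthogonal Phase 2 (helper21's project, rows S5814, S5835, S5859), task O2-B2 (helper13):
`Ω_{2m+1}(q)` does not stabilise a proper non-degenerate subspace.
-/
import Mathlib
import Cfsg.Agent.Lib.H11.OmNd13
import Cfsg.Agent.Lib.H29.QuadOdd
import Cfsg.Agent.Lib.H21.AschO2T

set_option autoImplicit false

namespace Cfsg.Agent.Lib.H13.OP2

open Cfsg Cfsg.Geo
open Module
open Cfsg.Agent.Lib.H21.OP2
open Cfsg.Agent.Lib.H11.OmNd Cfsg.Agent.Lib.H11.OmTs Cfsg.Agent.Lib.H11.IsoReindex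
open scoped MatrixGroups Matrix

variable {F : Type*} [Field F] [Fintype F]

/-- the general statement over `Fin n` -/
theorem not_omega_le_stab_nd_fin {n : ℕ} (Q : QuadraticForm F (Fin n → F))
    (hQ : (QuadraticMap.polarBilin Q).Nondegenerate) (hn : 7 ≤ n)
    (W : Submodule F (Fin n → F)) (hW0 : W ≠ ⊥) (hW1 : W ≠ ⊤)
    (hW : IsNondegenerateOn (QuadraticMap.polar (⇑Q)) W) :
    subspaceStabilizer W ⊓ omegaGL (⇑Q) < omegaGL (⇑Q) := by
  have hpair := ndPair_perp hW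
  have hfr := finrank_perp hW
  have hlt : finrank F W < n := by
    have h1 : finrank F W < finrank F (Fin n → F) := Submodule.finrank_lt hW1
    rwa [Module.finrank_fintype_fun_eq_card, Fintype.card_fin] at h1
  have hE0 : perp Q W ≠ ⊥ := by
    intro h
    rw [h, finrank_bot] at hfr
    omega
  by_cases h3 : 3 ≤ finrank F W
  · exact nd_lt hpair hQ hn h3 hE0
  · rw [stab_eq_stab hpair hQ]
    exact nd_lt (hpair.symm hQ) hQ hn (by omega) hW0

/-- **O2-B2**. -/
theorem not_omega_le_stab_nd (hodd : Odd (Fintype.card F)) (m : ℕ) (hm : 3 ≤ m)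
    (W : Submodule F (Unit ⊕ (Fin m ⊕ Fin m) → F)) (hW0 : W ≠ ⊥) (hW1 : W ≠ ⊤)
    (hW : IsNondegenerateOn (QuadraticMap.polar (quadFormOdd m F)) W) :
    ¬ omegaGL (quadFormOdd m F) ≤ subspaceStabilizer W := by
  intro hle
  have h2 : (2 : F) ≠ 0 := two_ne_zero_of_odd_card hodd
  have hQ := Cfsg.Agent.Lib.H29.QuadOdd.isNondegenerateQuadraticForm (F := F) m h2
  have hcard : Fintype.card (Unit ⊕ (Fin m ⊕ Fin m)) = 2 * m + 1 := by
    simp only [Fintype.card_sum, Fintype.card_unit, Fintype.card_fin]; omega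
  obtain ⟨e, -⟩ : ∃ e : (Unit ⊕ (Fin m ⊕ Fin m)) ≃ Fin (Fintype.card (Unit ⊕ (Fin m ⊕ Fin m))), True :=
    ⟨Fintype.equivFin _, trivial⟩
  have hW' : IsNondegenerateOn
      (QuadraticMap.polar (⇑(trQF e (Cfsg.Agent.Lib.H29.Orth.toQF (quadFormOdd m F) hQ)))) (trW e W) := by
    rw [coe_trQF, Cfsg.Agent.Lib.H29.Orth.coe_toQF]
    exact nondegOn_trW e (quadFormOdd m F) W hW
  have h1 := not_omega_le_stab_nd_fin (trQF e (Cfsg.Agent.Lib.H29.Orth.toQF (quadFormOdd m F) hQ))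
    (nondeg_trQF e _ (Cfsg.Agent.Lib.H29.Orth.toQF_nondegenerate (quadFormOdd m F) hQ))
    (by rw [hcard]; omega) (trW e W) (trW_ne_bot e W hW0) (trW_ne_top e W hW1) hW'
  rw [coe_trQF, Cfsg.Agent.Lib.H29.Orth.coe_toQF] at h1
  have h3 := (Subgroup.comap_lt_comap_of_surjective (Cfsg.Agent.Lib.H11.IsoReindex.glReindex (F := F) e).surjective).2 h1
  rw [Subgroup.comap_inf] at h3
  have h4 : (omegaGL (tr e (quadFormOdd m F))).comap (Cfsg.Agent.Lib.H11.IsoReindex.glReindex (F := F) e).toMonoidHom =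
      omegaGL (quadFormOdd m F) := comap_omegaGL e (quadFormOdd m F)
  have h5 : (subspaceStabilizer (trW e W)).comap (Cfsg.Agent.Lib.H11.IsoReindex.glReindex (F := F) e).toMonoidHom =
      subspaceStabilizer W := comap_subspaceStabilizer e W
  change (subspaceStabilizer (trW e W)).comap (Cfsg.Agent.Lib.H11.IsoReindex.glReindex (F := F) e).toMonoidHom ⊓
    (omegaGL (tr e (quadFormOdd m F))).comap (Cfsg.Agent.Lib.H11.IsoReindex.glReindex (F := F) e).toMonoidHom <
    (omegaGL (tr e (quadFormOdd m F))).comap (Cfsg.Agent.Lib.H11.IsoReindex.glReindex (F := F) e).toMonoidHom at h3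
  rw [h4, h5] at h3
  exact h3.ne (inf_eq_right.2 hle)

end Cfsg.Agent.Lib.H13.OP2
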