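/-
Orthogonal Phase 2 (helper21's project, rows S5814, S5835, S5859), task O2-B3l (helper13):
`Ω_{2m+1}(q)` does not stabilise a decomposition into lines.
-/
import Mathlib
import Cfsg.Agent.Lib.H21.AschO2T

set_option autoImplicit false

namespace Cfsg.Agent.Lib.H13.OP2

open Cfsg Cfsg.Geo
open Cfsg.Agent.Lib.H21.OP2
open scoped MatrixGroups Matrix

variable {F : Type*} [Field F] [Fintype F]

/-- **O2-B3l**. -/
theorem not_omega_le_decomp_lines (hodd : Odd (Fintype.card F)) (m : ℕ) (hm : 3 ≤ m) {t : ℕ}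
    (D : Fin t → Submodule F (Unit ⊕ (Fin m ⊕ Fin m) → F))
    (hD : IsOrthogonalMDecomposition (quadFormOdd m F) 1 D) :
    ¬ omegaGL (quadFormOdd m F) ≤ decompositionStabilizer D := by
  intro hle
  have h2 : (2 : F) ≠ 0 := two_ne_zero_of_odd_card hodd
  have hdec : IsMDecomposition 1 D := hD.decomp.decomp
  have h01 : (⟨0, by omega⟩ : Fin m) ≠ ⟨1, by omega⟩ := by
    intro h
    have := congrArg Fin.val h
    simp at this
  set i₀ : Fin m := ⟨0, by omega⟩ with hi₀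
  set j₀ : Fin m := ⟨1, by omega⟩ with hj₀
  have hgΩ := rootG_mem_omegaGL h2 m i₀ j₀ h01 (1 : F)
  obtain ⟨σ, hσ⟩ := hle hgΩ
  set N := rootN m F i₀ j₀ with hN
  have hNN : N * N = 0 := rootN_mul_self m i₀ j₀
  have hgval : (rootG m i₀ j₀ (1 : F) : Matrix (Unit ⊕ (Fin m ⊕ Fin m)) (Unit ⊕ (Fin m ⊕ Fin m)) F) =
      1 + N := by rw [rootG_val, one_smul]
  -- the action on vectors
  have hg : ∀ x : Unit ⊕ (Fin m ⊕ Fin m) → F,
      Matrix.toLin' (rootG m i₀ j₀ (1 : F) : Matrix (Unit ⊕ (Fin m ⊕ Fin m)) (Unit ⊕ (Fin m ⊕ Fin m)) F) x =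
        x + N *ᵥ x := by
    intro x
    rw [Matrix.toLin'_apply, hgval, Matrix.add_mulVec, Matrix.one_mulVec]
  have hNNv : ∀ x : Unit ⊕ (Fin m ⊕ Fin m) → F, N *ᵥ (N *ᵥ x) = 0 := by
    intro x
    rw [Matrix.mulVec_mulVec, hNN, Matrix.zero_mulVec]
  have hmem : ∀ i, ∀ v ∈ D i, v + N *ᵥ v ∈ D (σ i) := by
    intro i v hv
    rw [← hg, ← hσ i]
    exact Submodule.mem_map_of_mem hv
  -- `g x = 0` implies `x = 0`
  have hinj : ∀ x : Unit ⊕ (Fin m ⊕ Fin m) → F, x + N *ᵥ x = 0 → x = 0 := by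
    intro x hx
    have h1 : N *ᵥ x = -x := by rw [eq_neg_iff_add_eq_zero, add_comm]; exact hx
    have h3 := hNNv x
    rw [h1, Matrix.mulVec_neg, h1, neg_neg] at h3
    exact h3
  -- `σ` is the identity
  have hσid : ∀ i, σ i = i := by
    intro i
    by_contra hne
    have hfr := hdec.finrank_eq i
    obtain ⟨v, hv0⟩ : ∃ v : ↥(D i), v ≠ 0 := by
      haveI : Nontrivial ↥(D i) := Module.nontrivial_of_finrank_pos (R := F) (by rw [hfr]; norm_num)
      exact exists_ne 0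
    have hvD : (v : Unit ⊕ (Fin m ⊕ Fin m) → F) ∈ D i := v.2
    have hv0' : (v : Unit ⊕ (Fin m ⊕ Fin m) → F) ≠ 0 := fun h => hv0 (Subtype.ext h)
    set w := (v : Unit ⊕ (Fin m ⊕ Fin m) → F) with hw
    have h1 := hmem i w hvD
    have h3 := hmem (σ i) _ h1
    -- `g² w = w + 2 N w`
    have e2 : (w + N *ᵥ w) + N *ᵥ (w + N *ᵥ w) = w + (2 : F) • (N *ᵥ w) := by
      rw [Matrix.mulVec_add, hNNv, add_zero, two_smul]
      abel
    rw [e2] at h3
    have hdisj := hdec.indep i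
    rw [disjoint_iff] at hdisj
    by_cases hss : σ (σ i) = i
    · -- `2 g w ∈ D i ⊓ D (σ i)`
      rw [hss] at h3
      have h4 : (2 : F) • (w + N *ᵥ w) ∈ D i := by
        have : (2 : F) • (w + N *ᵥ w) = w + (w + (2 : F) • (N *ᵥ w)) := by
          rw [smul_add, two_smul]; abel
        rw [this]
        exact (D i).add_mem hvD h3
      have h5 : (2 : F) • (w + N *ᵥ w) ∈ ⨆ j, ⨆ (_ : j ≠ i), D j :=
        Submodule.mem_iSup_of_mem (σ i) (Submodule.mem_iSup_of_mem hne ((D (σ i)).smul_mem _ h1))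
      have h6 : (2 : F) • (w + N *ᵥ w) ∈ D i ⊓ ⨆ j, ⨆ (_ : j ≠ i), D j := ⟨h4, h5⟩
      rw [hdisj, Submodule.mem_bot, smul_eq_zero] at h6
      rcases h6 with h6 | h6
      · exact h2 h6
      · exact hv0' (hinj w h6)
    · have h4 : w ∈ ⨆ j, ⨆ (_ : j ≠ i), D j := by
        have : w = (2 : F) • (w + N *ᵥ w) - (w + (2 : F) • (N *ᵥ w)) := by
          rw [smul_add, two_smul]; abel
        rw [this]
        apply Submodule.sub_mem
        · exact Submodule.mem_iSup_of_mem (σ i) (Submodule.mem_iSup_of_mem hne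
            ((D (σ i)).smul_mem _ h1))
        · exact Submodule.mem_iSup_of_mem (σ (σ i)) (Submodule.mem_iSup_of_mem hss h3)
      have h6 : w ∈ D i ⊓ ⨆ j, ⨆ (_ : j ≠ i), D j := ⟨hvD, h4⟩
      rw [hdisj, Submodule.mem_bot] at h6
      exact hv0' h6
  -- `N` vanishes on every `D i`
  have hNzero : ∀ i, ∀ v ∈ D i, N *ᵥ v = 0 := by
    intro i v hv
    by_cases hv0 : v = 0
    · rw [hv0, Matrix.mulVec_zero]
    have hfr := hdec.finrank_eq i
    have h1 := hmem i v hv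
    rw [hσid i] at h1
    obtain ⟨c, hc⟩ := exists_smul_eq_of_finrank_eq_one hfr
      (x := (⟨v, hv⟩ : ↥(D i))) (fun h => hv0 (congrArg Subtype.val h)) ⟨v + N *ᵥ v, h1⟩
    have hc' : c • v = v + N *ᵥ v := congrArg Subtype.val hc
    have hNv : N *ᵥ v = (c - 1) • v := by
      rw [sub_smul, one_smul, hc']; abel
    have h3 := hNNv v
    rw [hNv, Matrix.mulVec_smul, hNv, smul_smul, smul_eq_zero] at h3
    rcases h3 with h3 | h3
    · have : c - 1 = 0 := by
        rcases mul_eq_zero.1 h3 with h | h <;> exact h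
      rw [hNv, this, zero_smul]
    · exact absurd h3 hv0
  -- hence `N = 0`
  have hker : (⊤ : Submodule F (Unit ⊕ (Fin m ⊕ Fin m) → F)) ≤ LinearMap.ker (Matrix.toLin' N) := by
    rw [← hdec.iSup_eq_top]
    apply iSup_le
    intro i v hv
    rw [LinearMap.mem_ker, Matrix.toLin'_apply]
    exact hNzero i v hv
  apply rootN_ne_zero (F := F) m i₀ j₀ h01
  apply Matrix.ext_iff_mulVec.mpr
  intro x
  have := hker (Submodule.mem_top (x := x))
  rw [LinearMap.mem_ker, Matrix.toLin'_apply] at this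
  rw [← hN, this, Matrix.zero_mulVec]

end Cfsg.Agent.Lib.H13.OP2
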