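/-
Orthogonal Phase 2 (helper21's project, rows S5814, S5835, S5859), task O2-B5 (helper13):
`Ω_{2m+1}(q)` is not contained in a subfield group.
-/
import Mathlib
import Cfsg.Agent.Lib.H21.AschO2T

set_option autoImplicit false

namespace Cfsg.Agent.Lib.H13.OP2

open Cfsg Cfsg.Geo
open Cfsg.Agent.Lib.H21.OP2
open scoped MatrixGroups Matrix

variable {F : Type*} [Field F] [Fintype F]

/-- a nilpotent matrix of square zero which is not zero has a non-zero off-diagonal entry -/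
theorem exists_offdiag_of_sq_zero {ι : Type} [Fintype ι] [DecidableEq ι] (N : Matrix ι ι F)
    (hNN : N * N = 0) (hN : N ≠ 0) : ∃ a b : ι, a ≠ b ∧ N a b ≠ 0 := by
  by_contra hcon
  push_neg at hcon
  apply hN
  have hdiag : N = Matrix.diagonal (fun a => N a a) := by
    ext a b
    by_cases hab : a = b
    · subst hab
      rw [Matrix.diagonal_apply_eq]
    · rw [Matrix.diagonal_apply_ne _ hab]
      exact hcon a b hab
  have h1 : Matrix.diagonal (fun a => N a a * N a a) = 0 := by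
    rw [← Matrix.diagonal_mul_diagonal, ← hdiag, hNN]
  rw [hdiag]
  ext a b
  by_cases hab : a = b
  · subst hab
    rw [Matrix.diagonal_apply_eq, Matrix.zero_apply]
    have := congrFun (congrFun h1 a) a
    rw [Matrix.diagonal_apply_eq, Matrix.zero_apply] at this
    exact mul_self_eq_zero.1 this
  · rw [Matrix.diagonal_apply_ne _ hab, Matrix.zero_apply]

/-- **O2-B5**. -/
theorem not_omega_le_subfieldSubgroup (hodd : Odd (Fintype.card F)) (m : ℕ) (hm : 3 ≤ m) (F₀ : Subfield F)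
    (r : ℕ) (hr : r.Prime) (hcard : Fintype.card F = Nat.card F₀ ^ r)
    (P : GL (Unit ⊕ (Fin m ⊕ Fin m)) F) :
    ¬ omegaGL (quadFormOdd m F) ≤ subfieldSubgroup F₀ P := by
  intro hle
  have h2 : (2 : F) ≠ 0 := two_ne_zero_of_odd_card hodd
  have h01 : (⟨0, by omega⟩ : Fin m) ≠ ⟨1, by omega⟩ := by
    intro h
    have := congrArg Fin.val h
    simp at this
  set i₀ : Fin m := ⟨0, by omega⟩ with hi₀
  set j₀ : Fin m := ⟨1, by omega⟩ with hj₀
  set N := rootN m F i₀ j₀ with hN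
  have hNN : N * N = 0 := rootN_mul_self m i₀ j₀
  have hN0 : N ≠ 0 := rootN_ne_zero m i₀ j₀ h01
  -- the conjugated nilpotent matrix
  set N' : Matrix (Unit ⊕ (Fin m ⊕ Fin m)) (Unit ⊕ (Fin m ⊕ Fin m)) F :=
    ((P⁻¹ : GL (Unit ⊕ (Fin m ⊕ Fin m)) F) : Matrix _ _ F) * N * (P : Matrix _ _ F) with hN'
  have hPP : (P : Matrix (Unit ⊕ (Fin m ⊕ Fin m)) (Unit ⊕ (Fin m ⊕ Fin m)) F) *
      ((P⁻¹ : GL (Unit ⊕ (Fin m ⊕ Fin m)) F) : Matrix _ _ F) = 1 := by
    rw [← Units.val_mul, mul_inv_cancel, Units.val_one]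
  have hPP' : ((P⁻¹ : GL (Unit ⊕ (Fin m ⊕ Fin m)) F) : Matrix _ _ F) *
      (P : Matrix (Unit ⊕ (Fin m ⊕ Fin m)) (Unit ⊕ (Fin m ⊕ Fin m)) F) = 1 := by
    rw [← Units.val_mul, inv_mul_cancel, Units.val_one]
  have hNN' : N' * N' = 0 := by
    rw [hN']
    calc ((P⁻¹ : GL _ F) : Matrix _ _ F) * N * (P : Matrix _ _ F) *
          (((P⁻¹ : GL _ F) : Matrix _ _ F) * N * (P : Matrix _ _ F))
        = ((P⁻¹ : GL _ F) : Matrix _ _ F) * N * ((P : Matrix _ _ F) *
          ((P⁻¹ : GL _ F) : Matrix _ _ F)) * N * (P : Matrix _ _ F) := by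
          simp only [Matrix.mul_assoc]
      _ = 0 := by
          rw [hPP, Matrix.mul_one, Matrix.mul_assoc _ N N, hNN,
            Matrix.mul_zero, Matrix.zero_mul]
  have hN'0 : N' ≠ 0 := by
    intro h
    apply hN0
    have : N = (P : Matrix _ _ F) * N' * ((P⁻¹ : GL _ F) : Matrix _ _ F) := by
      rw [hN']
      calc N = 1 * N * 1 := by rw [Matrix.one_mul, Matrix.mul_one]
        _ = (P : Matrix _ _ F) * ((P⁻¹ : GL _ F) : Matrix _ _ F) * N *
            ((P : Matrix _ _ F) * ((P⁻¹ : GL _ F) : Matrix _ _ F)) := by rw [hPP]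
        _ = _ := by simp only [Matrix.mul_assoc]
    rw [this, h, Matrix.mul_zero, Matrix.zero_mul]
  obtain ⟨a, b, hab, hNab⟩ := exists_offdiag_of_sq_zero N' hNN' hN'0
  -- the key: `c * N' a b ∈ F₀` for all `c ≠ 0`
  have key : ∀ c : F, c ≠ 0 → c * N' a b ∈ F₀ := by
    intro c hc0
    have hmem := hle (rootG_mem_omegaGL h2 m i₀ j₀ h01 c)
    unfold subfieldSubgroup at hmem
    obtain ⟨x, hx, hxe⟩ := Subgroup.mem_map.mp hmem
    obtain ⟨y, hy, z, hz, hyz⟩ := Subgroup.mem_sup_of_normal_right.mp hx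
    obtain ⟨g0, rfl⟩ := hy
    obtain ⟨l, hl⟩ := (mem_scalars_iff z).mp hz
    have hl0 : (l : F) ≠ 0 := l.ne_zero
    set G : Matrix (Unit ⊕ (Fin m ⊕ Fin m)) (Unit ⊕ (Fin m ⊕ Fin m)) F :=
      ((Matrix.GeneralLinearGroup.map (F₀.subtype : F₀ →+* F) g0 :
        GL (Unit ⊕ (Fin m ⊕ Fin m)) F) : Matrix (Unit ⊕ (Fin m ⊕ Fin m)) (Unit ⊕ (Fin m ⊕ Fin m)) F)
      with hG
    have hGmap : G = Matrix.map (g0 : Matrix (Unit ⊕ (Fin m ⊕ Fin m)) (Unit ⊕ (Fin m ⊕ Fin m)) F₀)
        (F₀.subtype : F₀ →+* F) := rfl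
    -- `1 + c N' = l • G`
    have hx1 : (x : Matrix _ _ F) = ((P⁻¹ : GL _ F) : Matrix _ _ F) * (1 + c • N) * (P : Matrix _ _ F) := by
      have h1 : x = P⁻¹ * rootG m i₀ j₀ c * P := by
        have : P * x * P⁻¹ = rootG m i₀ j₀ c := hxe
        rw [← this]
        group
      rw [h1, Units.val_mul, Units.val_mul, rootG_val]
    have hx2 : (x : Matrix _ _ F) = 1 + c • N' := by
      rw [hx1, hN', Matrix.mul_add, Matrix.add_mul, Matrix.mul_one, hPP', Matrix.mul_smul,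
        Matrix.smul_mul]
    have hx3 : (x : Matrix _ _ F) = (l : F) • G := by
      rw [← hyz, Units.val_mul, hl, Matrix.mul_smul, Matrix.mul_one]
    have hGeq : G = (l : F)⁻¹ • (1 + c • N') := by
      rw [← hx2, hx3, smul_smul, inv_mul_cancel₀ hl0, one_smul]
    -- entries of `G` and `G * G`
    have hGab : G a b = (l : F)⁻¹ * (c * N' a b) := by
      rw [hGeq]
      simp [Matrix.one_apply_ne hab]
    have hGG : G * G = ((l : F)⁻¹ * (l : F)⁻¹) • (1 + (2 * c) • N') := by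
      rw [hGeq, Matrix.smul_mul, Matrix.mul_smul, smul_smul]
      congr 1
      rw [Matrix.add_mul, Matrix.mul_add, Matrix.mul_add, Matrix.one_mul, Matrix.mul_one,
        Matrix.one_mul, Matrix.smul_mul, Matrix.mul_smul, hNN', smul_zero, smul_zero, add_zero,
        mul_smul, two_smul]
      abel
    have hGGab : (G * G) a b = ((l : F)⁻¹ * (l : F)⁻¹) * (2 * c * N' a b) := by
      rw [hGG]
      simp [Matrix.one_apply_ne hab]
    have hGF : G a b ∈ F₀ := by
      rw [hGmap, Matrix.map_apply]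
      exact SetLike.coe_mem _
    have hGGF : (G * G) a b ∈ F₀ := by
      have : G * G = Matrix.map ((g0 : Matrix (Unit ⊕ (Fin m ⊕ Fin m)) (Unit ⊕ (Fin m ⊕ Fin m)) F₀) *
          (g0 : Matrix (Unit ⊕ (Fin m ⊕ Fin m)) (Unit ⊕ (Fin m ⊕ Fin m)) F₀))
          (F₀.subtype : F₀ →+* F) := by
        rw [hGmap, Matrix.map_mul]
      rw [this, Matrix.map_apply]
      exact SetLike.coe_mem _
    have hGab0 : G a b ≠ 0 := by
      rw [hGab]
      exact mul_ne_zero (inv_ne_zero hl0) (mul_ne_zero hc0 hNab)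
    -- `2 l⁻¹ ∈ F₀`
    have h2l : (2 : F) * (l : F)⁻¹ ∈ F₀ := by
      have : (2 : F) * (l : F)⁻¹ = (G * G) a b * (G a b)⁻¹ := by
        rw [hGGab, hGab]
        field_simp
      rw [this]
      exact F₀.mul_mem hGGF (F₀.inv_mem hGF)
    have h2F : (2 : F) ∈ F₀ := by
      have : (2 : F) = ((2 : ℕ) : F) := by norm_num
      rw [this]
      exact natCast_mem F₀ 2
    have hlF : (l : F)⁻¹ ∈ F₀ := by
      have : (l : F)⁻¹ = (2 : F)⁻¹ * ((2 : F) * (l : F)⁻¹) := by
        field_simp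
      rw [this]
      exact F₀.mul_mem (F₀.inv_mem h2F) h2l
    have : c * N' a b = ((l : F)⁻¹)⁻¹ * G a b := by
      rw [hGab, inv_inv]
      field_simp
    rw [this]
    exact F₀.mul_mem (F₀.inv_mem hlF) hGF
  have hNabF : N' a b ∈ F₀ := by
    have := key 1 one_ne_zero
    rwa [one_mul] at this
  have hall : ∀ c : F, c ∈ F₀ := by
    intro c
    by_cases hc0 : c = 0
    · rw [hc0]; exact F₀.zero_mem
    have : c = (c * N' a b) * (N' a b)⁻¹ := by
      field_simp
    rw [this]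
    exact F₀.mul_mem (key c hc0) (F₀.inv_mem hNabF)
  -- so F₀ = ⊤ and |F| = |F₀|
  have htop : F₀ = ⊤ := by
    rw [eq_top_iff]
    intro c _
    exact hall c
  have hcardF₀ : Nat.card F₀ = Fintype.card F := by
    rw [htop, ← Nat.card_eq_fintype_card]
    exact Nat.card_congr (Subfield.topEquiv (K := F)).toEquiv
  rw [hcardF₀] at hcard
  have h2' : 2 ≤ Fintype.card F := Fintype.one_lt_card
  have hr2 := hr.two_le
  have : Fintype.card F ^ 1 < Fintype.card F ^ r := Nat.pow_lt_pow_right h2' hr2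
  rw [pow_one] at this
  omega

end Cfsg.Agent.Lib.H13.OP2
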