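import Mathlib
import Cfsg.Agent.Lib.H13.AutPO11
import Cfsg.Agent.Lib.H11.ConfOrth14

/-!
Automorphisms of `PΩ(Q)`, part 12 (helper13): `Inndiag` of the minus-type groups and coset conjugacy of field automorphisms.
Odd characteristic: `inndiag_eq_odd`, `ker_Phi_le_DD`, `DD_dichotomy`, `DD_map_normal`, the isomorphism `conjLP` of `PΩ` induced by a linear
isometry and `conjLP_Phi`, `DD_transport`, `core_conj_gen`, `s2737_odd`. Characteristic two: `pres_iso2` (an isometry of the hyperbolic form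
preserves the two classes of maximal totally singular subspaces iff it lies in `Ω`), `transIso`, `refl_baseChange`, `nondeg_of_iso`,
`pres_minus_ext2`, `presMinus_iff2`, `presMinus_iff_inn`, `inndiag_eq_two` (`Inndiag = Inn`), `inn_dichotomy2`, `s2737_two`.
-/

set_option autoImplicit false
set_option linter.unusedSectionVars false
set_option linter.unusedVariables false
set_option linter.unusedSimpArgs false
set_option linter.deprecated false

namespace Cfsg.Agent.Lib.H13.AutPO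

section

open Matrix QuadraticMap Module
open Cfsg.Agent.Lib.H11.ConfOrth
open Cfsg.Agent.Lib.H13 Cfsg.Agent.Lib.H13.HypPairs

section oddD

universe u

variable {F : Type u} [Field F] [Fintype F] {m : ℕ}

local notation "IM" => ((Fin m ⊕ Fin m) ⊕ Fin 2)

/-- `Inndiag` of the minus-type group in odd characteristic is the image of the kernel of `delta` -/
theorem inndiag_eq_odd (h2 : (2 : F) ≠ 0) (a b : F)
    (hab : ∀ z₁ z₂ : F, z₁ ^ 2 + a * z₁ * z₂ + b * z₂ ^ 2 = 0 → z₁ = 0 ∧ z₂ = 0)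
    (hne : ∃ v, minusQF F m a b v ≠ 0) :
    Cfsg.autSubgroupOf (fun β : Cfsg.POmega F ⇑(minusQF F m a b) ≃*
        Cfsg.POmega F ⇑(minusQF F m a b) =>
      ∃ g : GL IM F, g ∈ Cfsg.Geo.quadSimilarityGroup (F := F) ⇑(minusQF F m a b) ∧
        Cfsg.PreservesSingularClassesMinus m a b (g : Matrix IM IM F) ∧
        Cfsg.IsInducedBySemilinearPOmega ⇑(minusQF F m a b) g (RingEquiv.refl F) β) =
      (DD (minusQF F m a b) (m + 1) hne).map (Phi ⇑(minusQF F m a b)) := by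
  unfold Cfsg.autSubgroupOf
  apply closure_image_eq_map
  intro β
  constructor
  · rintro ⟨g, hg, hpres, hind⟩
    exact ⟨⟨g, hg⟩, (mem_DD _ (m + 1) hne _).2 ((presMinus_iff h2 a b hab hne ⟨g, hg⟩).1 hpres),
      (induced_iff _ g hg β).1 hind⟩
  · rintro ⟨g, hgD, rfl⟩
    exact ⟨g.1, g.2, (presMinus_iff h2 a b hab hne g).2 ((mem_DD _ (m + 1) hne _).1 hgD),
      (induced_iff _ g.1 g.2 _).2 rfl⟩

end oddD

section DDfacts

variable {F : Type*} [Field F] [Fintype F] {ι : Type} [Fintype ι] [DecidableEq ι]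
variable (Q : QuadraticForm F (ι → F)) (hQ : (polarBilin Q).Nondegenerate)
variable (hcard7 : 7 ≤ Fintype.card ι) (d : ℕ) (hcard : Fintype.card ι = 2 * d)
variable (hne : ∃ v, Q v ≠ 0)

include hQ hcard7 hcard in
theorem ker_Phi_le_DD : (Phi ⇑Q).ker ≤ DD Q d hne := by
  intro g hg
  rw [ker_Phi_all Q hQ hcard7, Subgroup.mem_subgroupOf, mem_Zs_iff] at hg
  obtain ⟨c, hc⟩ := hg
  have : g = zS Q c := Subtype.ext hc
  rw [this, mem_DD]
  exact delta_zS Q hne d hcard c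

include hQ hcard in
/-- multiplying by a reflection changes the sign of `delta` -/
theorem DD_dichotomy (ρ : ↥(Sim ⇑Q)) (v : ι → F) (hv : Q v ≠ 0) (hρ : ρ.1 = (reflG Q v hv).1)
    (k : ↥(Sim ⇑Q)) : k ∈ DD Q d hne ∨ k * ρ ∈ DD Q d hne := by
  have hρd : delta Q hne d ρ = -1 := by
    have : ρ = oS Q (reflG Q v hv).1 (reflG Q v hv).2 := Subtype.ext hρ
    rw [this, delta_oS]
    apply Units.ext
    rw [Matrix.GeneralLinearGroup.val_det_apply, reflG_val, PlusTS.det_reflectionMatrix Q v hv]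
    simp
  rcases delta_cases Q hne d hQ hcard k with h | h
  · left; exact (mem_DD Q d hne k).2 h
  · right
    rw [mem_DD, map_mul, h, hρd]
    simp

variable (hall : Cfsg.gammaPOmega F ⇑Q = ⊤)

include hall in
theorem DD_map_normal : ((DD Q d hne).map (Phi ⇑Q)).Normal := by
  classical
  constructor
  rintro _ ⟨k, hk, rfl⟩ α
  obtain ⟨g, τ, hp, rfl⟩ := exists_formO Q hall α
  rw [semiAut_Phi_comm, mul_inv_cancel_right]
  refine ⟨_, ?_, rfl⟩
  rw [SetLike.mem_coe, mem_DD, delta_conj Q d hne hp k, (mem_DD Q d hne k).1 hk, map_one]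

end DDfacts

end

section

open Matrix QuadraticMap Module
open Cfsg.Agent.Lib.H11.ConfOrth
open Cfsg.Agent.Lib.H13 Cfsg.Agent.Lib.H13.HypPairs

section conjL

variable {F : Type*} [Field F] {ι : Type} [Fintype ι] [DecidableEq ι]
variable (Q Q' : (ι → F) → F) (L : GL ι F) (hL : ∀ v, Q (L.1 *ᵥ v) = Q' v)

include hL in
theorem hL_inv : ∀ v, Q' ((L⁻¹).1 *ᵥ v) = Q v := by
  intro v
  rw [← hL, mulVec_inv_mulVec]

include hL in
theorem conjL_mem_sim {k : GL ι F} (hk : k ∈ Sim Q') : L * k * L⁻¹ ∈ Sim Q := by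
  obtain ⟨c, hc⟩ := hk
  refine ⟨c, fun v => ?_⟩
  have h1 : (L * k * L⁻¹).1 *ᵥ v = L.1 *ᵥ (k.1 *ᵥ ((L⁻¹).1 *ᵥ v)) := by
    rw [Units.val_mul, Units.val_mul, ← Matrix.mulVec_mulVec, ← Matrix.mulVec_mulVec]
  rw [h1, hL, hc, hL_inv Q Q' L hL]

include hL in
theorem conjL_mem_iso {s : GL ι F} (hs : s ∈ Cfsg.isometryGroup F Q') :
    L * s * L⁻¹ ∈ Cfsg.isometryGroup F Q := by
  rw [Cfsg.Agent.Lib.H11.ConfOrth.mem_iso_iff] at hs ⊢
  intro v
  have h1 : (L * s * L⁻¹).1 *ᵥ v = L.1 *ᵥ (s.1 *ᵥ ((L⁻¹).1 *ᵥ v)) := by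
    rw [Units.val_mul, Units.val_mul, ← Matrix.mulVec_mulVec, ← Matrix.mulVec_mulVec]
  rw [h1, hL, hs, hL_inv Q Q' L hL]

/-- conjugation by a linear isometry between two forms, on the similarity groups -/
def conjLSim : ↥(Sim Q') ≃* ↥(Sim Q) where
  toFun k := ⟨L * k.1 * L⁻¹, conjL_mem_sim Q Q' L hL k.2⟩
  invFun k := ⟨L⁻¹ * k.1 * (L⁻¹)⁻¹, conjL_mem_sim Q' Q L⁻¹ (hL_inv Q Q' L hL) k.2⟩
  left_inv k := by
    apply Subtype.ext
    simp only [inv_inv]
    group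
  right_inv k := by
    apply Subtype.ext
    simp only [inv_inv]
    group
  map_mul' k k' := by
    apply Subtype.ext
    simp only [Subgroup.coe_mul]
    group

theorem conjLSim_val (k : ↥(Sim Q')) : (conjLSim Q Q' L hL k).1 = L * k.1 * L⁻¹ := rfl

/-- conjugation by a linear isometry between two forms, on the isometry groups -/
def conjLO : ↥(Cfsg.isometryGroup F Q') ≃* ↥(Cfsg.isometryGroup F Q) where
  toFun k := ⟨L * k.1 * L⁻¹, conjL_mem_iso Q Q' L hL k.2⟩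
  invFun k := ⟨L⁻¹ * k.1 * (L⁻¹)⁻¹, conjL_mem_iso Q' Q L⁻¹ (hL_inv Q Q' L hL) k.2⟩
  left_inv k := by
    apply Subtype.ext
    simp only [inv_inv]
    group
  right_inv k := by
    apply Subtype.ext
    simp only [inv_inv]
    group
  map_mul' k k' := by
    apply Subtype.ext
    simp only [Subgroup.coe_mul]
    group

theorem conjLO_val (k : ↥(Cfsg.isometryGroup F Q')) : (conjLO Q Q' L hL k).1 = L * k.1 * L⁻¹ := rfl

/-- the induced isomorphism `PΩ(Q') ≃* PΩ(Q)` -/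
noncomputable def conjLP : Cfsg.POmega F Q' ≃* Cfsg.POmega F Q :=
  Cfsg.Agent.Lib.H11.OmegaSimple.centerQuotCongr
    (Cfsg.Agent.Lib.H11.OmegaSimple.commutatorCongr (conjLO Q Q' L hL))

theorem conjLP_mk (s : ↥(Cfsg.Omega F Q')) :
    conjLP Q Q' L hL (QuotientGroup.mk s) =
      QuotientGroup.mk (Cfsg.Agent.Lib.H11.OmegaSimple.commutatorCongr (conjLO Q Q' L hL) s) := rfl

theorem commutatorCongr_val (s : ↥(Cfsg.Omega F Q')) :
    ((Cfsg.Agent.Lib.H11.OmegaSimple.commutatorCongr (conjLO Q Q' L hL) s :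
      ↥(Cfsg.Omega F Q)) : ↥(Cfsg.isometryGroup F Q)) = conjLO Q Q' L hL s.1 := rfl

/-- transport of the conjugation action along the isometry -/
theorem conjLP_Phi (k : ↥(Sim Q')) :
    MulAut.congr (conjLP Q Q' L hL) (Phi Q' k) = Phi Q (conjLSim Q Q' L hL k) := by
  apply MulEquiv.ext
  intro y
  obtain ⟨y', rfl⟩ := (conjLP Q Q' L hL).surjective y
  show conjLP Q Q' L hL (Phi Q' k ((conjLP Q Q' L hL).symm (conjLP Q Q' L hL y'))) = _
  rw [MulEquiv.symm_apply_apply]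
  induction y' using QuotientGroup.induction_on with
  | H s =>
    rw [Phi_mk, conjLP_mk, conjLP_mk, Phi_mk]
    congr 1
    apply Subtype.ext
    apply Subtype.ext
    rw [commutatorCongr_val, conjLO_val, conjOmega_val, conjOmega_val, commutatorCongr_val,
      conjLO_val, conjLSim_val]
    group

end conjL

end

section

open Matrix QuadraticMap Module
open Cfsg.Agent.Lib.H11.ConfOrth
open Cfsg.Agent.Lib.H13 Cfsg.Agent.Lib.H13.HypPairs

section transportodd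

variable {F : Type*} [Field F] [Fintype F] {ι : Type} [Fintype ι] [DecidableEq ι]
variable (Q Q' : QuadraticForm F (ι → F)) (hne : ∃ v, Q v ≠ 0) (hne' : ∃ v, Q' v ≠ 0) (d : ℕ)
variable (L : GL ι F) (hL : ∀ v, Q (L.1 *ᵥ v) = Q' v)

theorem mult_conjL (k : ↥(Sim ⇑Q')) :
    mult (⇑Q) hne (conjLSim ⇑Q ⇑Q' L hL k) = mult (⇑Q') hne' k := by
  apply mult_eq
  intro v
  have h1 : (conjLSim ⇑Q ⇑Q' L hL k).1.1 *ᵥ v = L.1 *ᵥ (k.1.1 *ᵥ ((L⁻¹).1 *ᵥ v)) := by
    rw [conjLSim_val, Units.val_mul, Units.val_mul, ← Matrix.mulVec_mulVec,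
      ← Matrix.mulVec_mulVec]
  rw [h1, hL, mult_spec (⇑Q') hne' k, hL_inv (⇑Q) (⇑Q') L hL]

theorem delta_conjL (k : ↥(Sim ⇑Q')) :
    delta Q hne d (conjLSim ⇑Q ⇑Q' L hL k) = delta Q' hne' d k := by
  rw [delta_apply, delta_apply, mult_conjL Q Q' hne hne' L hL k, conjLSim_val, map_mul, map_mul,
    map_inv, mul_comm (Matrix.GeneralLinearGroup.det L), mul_inv_cancel_right]

theorem DD_map_conjL :
    (DD Q' d hne').map (conjLSim ⇑Q ⇑Q' L hL).toMonoidHom = DD Q d hne := by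
  ext k
  constructor
  · rintro ⟨k', hk', rfl⟩
    rw [mem_DD]
    show delta Q hne d (conjLSim ⇑Q ⇑Q' L hL k') = 1
    rw [delta_conjL Q Q' hne hne' d L hL k']
    exact (mem_DD Q' d hne' k').1 hk'
  · intro hk
    refine ⟨(conjLSim ⇑Q ⇑Q' L hL).symm k, ?_, (conjLSim ⇑Q ⇑Q' L hL).apply_symm_apply k⟩
    rw [SetLike.mem_coe, mem_DD, ← delta_conjL Q Q' hne hne' d L hL, MulEquiv.apply_symm_apply]
    exact (mem_DD Q d hne k).1 hk

include L hL in
/-- an arbitrary isomorphism `PΩ(Q) ≃* PΩ(Q')` carries the image of `ker delta` to the image of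
`ker delta`, when the two forms are isometric -/
theorem DD_transport (hn : ((DD Q d hne).map (Phi ⇑Q)).Normal)
    (ψ : Cfsg.POmega F ⇑Q ≃* Cfsg.POmega F ⇑Q') :
    ((DD Q d hne).map (Phi ⇑Q)).map (MulAut.congr ψ).toMonoidHom =
      (DD Q' d hne').map (Phi ⇑Q') := by
  set Λ := conjLP ⇑Q ⇑Q' L hL with hΛ
  set θ : MulAut (Cfsg.POmega F ⇑Q) := ψ.trans Λ with hθ
  have hfac : ∀ β : MulAut (Cfsg.POmega F ⇑Q),
      MulAut.congr ψ β = MulAut.congr Λ.symm (θ * β * θ⁻¹) := by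
    intro β
    apply MulEquiv.ext
    intro y
    show ψ (β (ψ.symm y)) = Λ.symm (Λ (ψ (β (ψ.symm (Λ.symm (Λ y))))))
    rw [MulEquiv.symm_apply_apply, MulEquiv.symm_apply_apply]
  have hA' : ((DD Q' d hne').map (Phi ⇑Q')).map (MulAut.congr Λ).toMonoidHom =
      (DD Q d hne).map (Phi ⇑Q) := by
    rw [← DD_map_conjL Q Q' hne hne' d L hL, Subgroup.map_map, Subgroup.map_map]
    congr 1
    apply MonoidHom.ext
    intro k
    exact conjLP_Phi ⇑Q ⇑Q' L hL k
  ext γ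
  constructor
  · rintro ⟨β, hβ, rfl⟩
    have h1 : θ * β * θ⁻¹ ∈ (DD Q d hne).map (Phi ⇑Q) := hn.conj_mem β hβ θ
    rw [← hA'] at h1
    obtain ⟨β', hβ', hβeq⟩ := h1
    show MulAut.congr ψ β ∈ _
    rw [hfac β, ← hβeq]
    have : MulAut.congr Λ.symm ((MulAut.congr Λ) β') = β' := by
      apply MulEquiv.ext
      intro y
      show Λ.symm (Λ (β' (Λ.symm (Λ y)))) = β' y
      rw [MulEquiv.symm_apply_apply, MulEquiv.symm_apply_apply]
    show MulAut.congr Λ.symm ((MulAut.congr Λ) β') ∈ _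
    rw [this]
    exact hβ'
  · intro hγ
    have h1 : MulAut.congr Λ γ ∈ (DD Q d hne).map (Phi ⇑Q) := by
      rw [← hA']
      exact ⟨γ, hγ, rfl⟩
    have h2 : θ⁻¹ * MulAut.congr Λ γ * θ⁻¹⁻¹ ∈ (DD Q d hne).map (Phi ⇑Q) :=
      hn.conj_mem _ h1 θ⁻¹
    refine ⟨_, h2, ?_⟩
    show MulAut.congr ψ (θ⁻¹ * MulAut.congr Λ γ * θ⁻¹⁻¹) = γ
    rw [hfac]
    have e1 : θ * (θ⁻¹ * MulAut.congr Λ γ * θ⁻¹⁻¹) * θ⁻¹ = MulAut.congr Λ γ := by group
    rw [e1]
    apply MulEquiv.ext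
    intro y
    show Λ.symm (Λ (γ (Λ.symm (Λ y)))) = γ y
    rw [MulEquiv.symm_apply_apply, MulEquiv.symm_apply_apply]

end transportodd

end

section

open Matrix QuadraticMap Module
open Cfsg.Agent.Lib.H11.ConfOrth
open Cfsg.Agent.Lib.H13 Cfsg.Agent.Lib.H13.HypPairs

section coregen

variable {F : Type*} [Field F] [Fintype F] {ι : Type} [Fintype ι] [DecidableEq ι]

/-- the generic form of the coset conjugacy statement, after transport to a form with fixed
coefficients -/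
theorem core_conj_gen (Q₀ : (ι → F) → F) (Q' : QuadraticForm F (ι → F))
    (hQ' : (polarBilin Q').Nondegenerate) (hc7 : 7 ≤ Fintype.card ι)
    (hall' : Cfsg.gammaPOmega F ⇑Q' = ⊤) (σ : F ≃+* F) (hσQ' : SigEq σ Q')
    (hcl : ∀ Q'' : QuadraticForm F (ι → F), (polarBilin Q'').Nondegenerate → SigEq σ Q'' →
      (∃ (h : GL ι F) (l : F), l ≠ 0 ∧ ∀ v, Q'' v = l * Q' (h.1 *ᵥ v)) → FixSim Q' σ Q'')
    (A : Subgroup (MulAut (Cfsg.POmega F Q₀))) (Dt' : Subgroup ↥(Sim ⇑Q'))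
    (ψ : Cfsg.POmega F Q₀ ≃* Cfsg.POmega F ⇑Q')
    (hT : A.map (MulAut.congr ψ).toMonoidHom = Dt'.map (Phi ⇑Q'))
    (ρ : ↥(Sim ⇑Q')) (hρσ : glmap σ ρ.1 = ρ.1) (hdich : ∀ k : ↥(Sim ⇑Q'), k ∈ Dt' ∨ k * ρ ∈ Dt')
    (x δ : MulAut (Cfsg.POmega F Q₀))
    (hfield : Cfsg.IsFieldAutPOmegaOf ⇑Q' σ ((ψ.symm.trans x).trans ψ))
    {r : ℕ} (hr : r.Prime) (hxr : orderOf x = r) (hδ : δ ∈ A) (hord : orderOf (δ * x) = r) :
    Cfsg.IsConjUnder A x (δ * x) := by
  set Ψ := MulAut.congr ψ with hΨ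
  have hx' : Ψ x = stdAut Q' σ hσQ' := by
    rw [hΨ, congr_apply_eq]
    exact eq_stdAut_of_isField Q' σ hσQ' _ hfield
  have hσr : orderOf σ = r := by
    rw [← orderOf_stdAutA Q' σ hQ' hc7 hall' hσQ', ← hx', MulEquiv.orderOf_eq, hxr]
  have hδ' : Ψ δ ∈ Dt'.map (Phi ⇑Q') := by
    rw [← hT]
    exact ⟨δ, hδ, rfl⟩
  obtain ⟨g₀, hg₀, hg₀eq⟩ := hδ'
  have hpow : (Phi ⇑Q' g₀ * stdAut Q' σ hσQ') ^ r = 1 := by
    rw [hg₀eq, ← hx', ← map_mul, ← map_pow, ← hord, pow_orderOf_eq_one, map_one]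
  obtain ⟨h, hh, heq⟩ := coset_conj_D Q' σ hQ' hc7 hσQ' hr.pos hσr hcl Dt' ρ hρσ hdich g₀ hpow
  have hconj : Cfsg.IsConjUnder (A.map Ψ.toMonoidHom) (Ψ x) (Ψ (δ * x)) := by
    rw [hT]
    refine ⟨Phi ⇑Q' h, ⟨h, hh, rfl⟩, ?_⟩
    rw [map_mul, ← hg₀eq, hx']
    exact heq
  exact (isConjUnder_map Ψ _ x (δ * x)).1 hconj

end coregen

section s2737odd

universe u

variable {F : Type u} [Field F] [Fintype F] {m : ℕ}

local notation "IM" => ((Fin m ⊕ Fin m) ⊕ Fin 2)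

theorem core_conj_odd' (h2 : (2 : F) ≠ 0) (hm : 3 ≤ m) (a b a' b' : F)
    (hab : ∀ z₁ z₂ : F, z₁ ^ 2 + a * z₁ * z₂ + b * z₂ ^ 2 = 0 → z₁ = 0 ∧ z₂ = 0)
    (hab' : ∀ z₁ z₂ : F, z₁ ^ 2 + a' * z₁ * z₂ + b' * z₂ ^ 2 = 0 → z₁ = 0 ∧ z₂ = 0)
    (σ : F ≃+* F) (ha' : σ a' = a') (hb' : σ b' = b')
    (hne : ∃ v, minusQF F m a b v ≠ 0)
    (Q₁ : (IM → F) → F) (hQ₁ : ⇑(minusQF F m a' b') = Q₁)
    (ψ : Cfsg.POmega F ⇑(minusQF F m a b) ≃* Cfsg.POmega F Q₁)
    (x δ : MulAut (Cfsg.POmega F ⇑(minusQF F m a b)))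
    (hfield : Cfsg.IsFieldAutPOmegaOf Q₁ σ ((ψ.symm.trans x).trans ψ))
    {r : ℕ} (hr : r.Prime) (hxr : orderOf x = r)
    (hδ : δ ∈ (DD (minusQF F m a b) (m + 1) hne).map (Phi ⇑(minusQF F m a b)))
    (hord : orderOf (δ * x) = r) :
    Cfsg.IsConjUnder ((DD (minusQF F m a b) (m + 1) hne).map (Phi ⇑(minusQF F m a b))) x
      (δ * x) := by
  subst hQ₁
  have hQ' : (polarBilin (minusQF F m a' b')).Nondegenerate :=
    Cfsg.Agent.S0288.nondeg (F := F) a' b' hab' m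
  have hcard : Fintype.card IM = 2 * (m + 1) := card_minus
  have hc7 : 7 ≤ Fintype.card IM := by rw [hcard]; omega
  have hne' := exists_ne_of_nondeg (minusQF F m a' b') hQ' (by rw [card_minus]; omega)
  have hall : Cfsg.gammaPOmega F ⇑(minusQF F m a b) = ⊤ := hall_minus hm a b hab
  have hall' : Cfsg.gammaPOmega F ⇑(minusQF F m a' b') = ⊤ := hall_minus hm a' b' hab'
  have hσQ' : SigEq σ (minusQF F m a' b') := sigEq_minus σ a' b' ha' hb'
  obtain ⟨L, hL0⟩ := minus_iso (m := m) a b a' b' hab hab'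
  have hL : ∀ v, minusQF F m a b (L.1 *ᵥ v) = minusQF F m a' b' v := by
    intro v
    rw [minusQF_apply, minusQF_apply]
    exact hL0 v
  have hn := DD_map_normal (minusQF F m a b) (m + 1) hne hall
  have hT := DD_transport (minusQF F m a b) (minusQF F m a' b') hne hne' (m + 1) L hL hn ψ
  obtain ⟨v, hv, ρ, hρσ, hρ⟩ := exists_fixed_refl (minusQF F m a' b') hσQ' hne'
  exact core_conj_gen _ (minusQF F m a' b') hQ' hc7 hall' σ hσQ'
    (fun Q'' h1 h3 h4 => fixSim_minus σ a' b' ha' hb' hab' Q'' h1 h3 h4) _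
    (DD (minusQF F m a' b') (m + 1) hne') ψ hT ρ hρσ
    (DD_dichotomy (minusQF F m a' b') hQ' (m + 1) hcard hne' ρ v hv hρ) x δ hfield hr hxr hδ hord

/-- S2737 in odd characteristic -/
theorem s2737_odd (h2 : (2 : F) ≠ 0) (hm : 3 ≤ m) (a b : F)
    (hab : ∀ z₁ z₂ : F, z₁ ^ 2 + a * z₁ * z₂ + b * z₂ ^ 2 = 0 → z₁ = 0 ∧ z₂ = 0)
    (Q₀ : (IM → F) → F) (hQ₀ : ⇑(minusQF F m a b) = Q₀)
    (x δ : MulAut (Cfsg.POmega F Q₀))
    (hx : ∃ (a' b' : F) (ψ : Cfsg.POmega F Q₀ ≃* Cfsg.POmega F (Cfsg.quadFormMinus m F a' b'))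
      (σ : F ≃+* F),
      (∀ z₁ z₂ : F, z₁ ^ 2 + a' * z₁ * z₂ + b' * z₂ ^ 2 = 0 → z₁ = 0 ∧ z₂ = 0) ∧
      σ ≠ RingEquiv.refl F ∧ σ a' = a' ∧ σ b' = b' ∧
      Cfsg.IsFieldAutPOmegaOf (Cfsg.quadFormMinus m F a' b') σ ((ψ.symm.trans x).trans ψ))
    {r : ℕ} (hr : r.Prime) (hxr : orderOf x = r)
    (A : Subgroup (MulAut (Cfsg.POmega F Q₀)))
    (hA : A = Cfsg.autSubgroupOf (fun β : Cfsg.POmega F Q₀ ≃* Cfsg.POmega F Q₀ =>
      ∃ g : GL IM F, g ∈ Cfsg.Geo.quadSimilarityGroup (F := F) Q₀ ∧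
        Cfsg.PreservesSingularClassesMinus m a b (g : Matrix IM IM F) ∧
        Cfsg.IsInducedBySemilinearPOmega Q₀ g (RingEquiv.refl F) β))
    (hδ : δ ∈ A) : orderOf (δ * x) = r ↔ Cfsg.IsConjUnder A x (δ * x) := by
  subst hQ₀
  have hQ : (polarBilin (minusQF F m a b)).Nondegenerate :=
    Cfsg.Agent.S0288.nondeg (F := F) a b hab m
  have hne := exists_ne_of_nondeg (minusQF F m a b) hQ (by rw [card_minus]; omega)
  rw [inndiag_eq_odd h2 a b hab hne] at hA
  subst hA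
  constructor
  · intro hord
    obtain ⟨a', b', ψ, σ, hab', hσ1, ha', hb', hfield⟩ := hx
    exact core_conj_odd' h2 hm a b a' b' hab hab' σ ha' hb' hne _
      (Cfsg.Agent.S0288.coe_minusQF m a' b') ψ x δ hfield hr hxr hδ hord
  · rintro ⟨h, -, heq⟩
    rw [heq, AutPSL.orderOf_conj', hxr]

end s2737odd

end

section

open Matrix QuadraticMap Module
open Cfsg.Agent.Lib.H11.ConfOrth
open Cfsg.Agent.Lib.H13 Cfsg.Agent.Lib.H13.HypPairs Cfsg.Agent.Lib.H13.PlusTS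

section presplus2

variable {K : Type*} [Field K] [Fintype K] [CharP K 2] {d : ℕ}

local notation "KK" => (Fin d ⊕ Fin d)

/-- the parity of `U ∩ gU` for an isometry `g` of the hyperbolic form in characteristic two -/
theorem parity_iso2 (h : Fintype.card K ≠ 2 ∨ d ≠ 2)
    (g : ↥(Cfsg.isometryGroup K (Cfsg.quadFormPlus d K)))
    (U : Submodule K (KK → K)) (hU : ∀ u ∈ U, plusQF K d u = 0) (hfr : finrank K U = d) :
    Even (d - finrank K ↥(U ⊓ U.map (Matrix.mulVecLin ((g : GL KK K) : Matrix KK KK K)))) ↔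
      g ∈ Cfsg.Omega K (Cfsg.quadFormPlus d K) := by
  obtain ⟨vs, hvs, -, hmap⟩ := Cfsg.Agent.Lib.H13.MaxTS.exists_refl_list (plusQF K d) (U0 K d)
    U0_ts U0_perp _ U hU (by rw [hfr, finrank_U0]) rfl
  have hvs' : ∀ v ∈ vs, plusQF K d v ≠ 0 := fun v hv => by rw [hvs v hv]; exact one_ne_zero
  obtain ⟨h0, hh0⟩ := exists_of_list (plusQF K d) vs hvs'
  obtain ⟨hh, hhval⟩ : ∃ hh : ↥(Cfsg.isometryGroup K (Cfsg.quadFormPlus d K)), hh.1 = h0.1 :=
    ⟨⟨h0.1, by rw [← Cfsg.Agent.S0287.coe_plusQF]; exact h0.2⟩, rfl⟩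
  have hhU : U.map (Matrix.mulVecLin ((hh.1 : GL KK K) : Matrix KK KK K)) = U0 K d := by
    rw [hhval, hh0]; exact hmap
  obtain ⟨g', hg'⟩ : ∃ g' : ↥(Cfsg.isometryGroup K (Cfsg.quadFormPlus d K)),
      g' = hh * g * hh⁻¹ := ⟨_, rfl⟩
  have hkey : finrank K ↥(U ⊓ U.map (Matrix.mulVecLin ((g : GL KK K) : Matrix KK KK K))) =
      finrank K ↥(U0 K d ⊓ (U0 K d).map
        (Matrix.mulVecLin ((g' : GL KK K) : Matrix KK KK K))) := by
    rw [← finrank_inf_map hh.1 U, ← map_mul_GL, hhU]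
    have h5 : hh.1 * g.1 = g'.1 * hh.1 := by
      rw [← Subgroup.coe_mul, ← Subgroup.coe_mul, hg']
      congr 1
      group
    rw [h5, map_mul_GL, hhU]
  rw [hkey, even_iff_mem_Omega h g', hg']
  have hn : (Cfsg.Omega K (Cfsg.quadFormPlus d K)).Normal := inferInstance
  constructor
  · intro h1
    have := hn.conj_mem _ h1 hh⁻¹
    have e : hh⁻¹ * (hh * g * hh⁻¹) * hh⁻¹⁻¹ = g := by group
    rwa [e] at this
  · intro h1
    exact hn.conj_mem _ h1 hh

/-- an isometry of the hyperbolic form in characteristic two preserves the two classes iff it lies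
in `Ω` -/
theorem pres_iso2 (h : Fintype.card K ≠ 2 ∨ d ≠ 2)
    (g : ↥(Cfsg.isometryGroup K (Cfsg.quadFormPlus d K))) :
    Cfsg.PreservesSingularClasses (⇑(plusQF K d)) ((g : GL KK K) : Matrix KK KK K) ↔
      g ∈ Cfsg.Omega K (Cfsg.quadFormPlus d K) := by
  unfold Cfsg.PreservesSingularClasses Cfsg.SameParityClass Cfsg.imageSubmodule
  rw [Matrix.toLin'_apply']
  constructor
  · intro h1
    have h3 := h1 (U0 K d) U0_isMax
    rw [finrank_U0] at h3
    exact (parity_iso2 h g (U0 K d) U0_ts finrank_U0).1 h3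
  · intro h1 U hU
    have hfr := finrank_of_isMax U hU
    rw [hfr]
    exact (parity_iso2 h g U hU.1 hfr).2 h1

end presplus2

end

section

open Matrix QuadraticMap Module
open Cfsg.Agent.Lib.H11.ConfOrth
open Cfsg.Agent.Lib.H13 Cfsg.Agent.Lib.H13.HypPairs Cfsg.Agent.Lib.H13.PlusTS

section transL

variable {K : Type*} [Field K] {ι ι' : Type} [Fintype ι] [DecidableEq ι] [Fintype ι']
  [DecidableEq ι']
variable (Q : (ι → K) → K) (P : (ι' → K) → K) (L : (ι → K) ≃ₗ[K] (ι' → K))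
  (hL : ∀ x, P (L x) = Q x)

/-- the matrix of `L ∘ s ∘ L⁻¹` -/
noncomputable def transGL (s : GL ι K) : GL ι' K :=
  glOfEquiv ((L.symm.trans (Char2Mat.toEquiv s)).trans L)

theorem transGL_mulVec (s : GL ι K) (y : ι' → K) :
    (transGL L s).1 *ᵥ y = L (s.1 *ᵥ L.symm y) := by
  unfold transGL
  rw [glOfEquiv_mulVec]
  simp [Char2Mat.toEquiv_apply]

theorem transGL_comm (s : GL ι K) (x : ι → K) : L (s.1 *ᵥ x) = (transGL L s).1 *ᵥ L x := by
  rw [transGL_mulVec, LinearEquiv.symm_apply_apply]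

theorem transGL_mul (s t : GL ι K) : transGL L (s * t) = transGL L s * transGL L t := by
  apply Units.ext
  apply Matrix.ext_iff_mulVec.mpr
  intro y
  rw [Units.val_mul, ← Matrix.mulVec_mulVec, transGL_mulVec, transGL_mulVec, transGL_mulVec,
    LinearEquiv.symm_apply_apply, Units.val_mul, ← Matrix.mulVec_mulVec]

theorem transGL_symm (s : GL ι K) : transGL L.symm (transGL L s) = s := by
  apply Units.ext
  apply Matrix.ext_iff_mulVec.mpr
  intro y
  rw [transGL_mulVec, transGL_mulVec, LinearEquiv.symm_symm, LinearEquiv.symm_apply_apply,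
    LinearEquiv.symm_apply_apply]

include hL in
theorem transGL_mem {s : GL ι K} (hs : s ∈ Cfsg.isometryGroup K Q) :
    transGL L s ∈ Cfsg.isometryGroup K P := by
  rw [Cfsg.Agent.Lib.H11.ConfOrth.mem_iso_iff] at hs ⊢
  intro y
  rw [transGL_mulVec, hL, hs, ← hL, LinearEquiv.apply_symm_apply]

include hL in
theorem hL_symm : ∀ y, Q (L.symm y) = P y := by
  intro y
  rw [← hL, LinearEquiv.apply_symm_apply]

/-- the isomorphism of isometry groups induced by a linear isometry -/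
noncomputable def transIso : ↥(Cfsg.isometryGroup K Q) ≃* ↥(Cfsg.isometryGroup K P) where
  toFun s := ⟨transGL L s.1, transGL_mem Q P L hL s.2⟩
  invFun s := ⟨transGL L.symm s.1, transGL_mem P Q L.symm (hL_symm Q P L hL) s.2⟩
  left_inv s := Subtype.ext (transGL_symm L s.1)
  right_inv s := by
    apply Subtype.ext
    have := transGL_symm L.symm s.1
    rwa [LinearEquiv.symm_symm] at this
  map_mul' s t := Subtype.ext (transGL_mul L s.1 t.1)

theorem transIso_val (s : ↥(Cfsg.isometryGroup K Q)) :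
    (transIso Q P L hL s).1 = transGL L s.1 := rfl

end transL

section reflbase

variable {F K : Type*} [Field F] [Field K] [Algebra F K] {ι : Type} [Fintype ι] [DecidableEq ι]

omit [Fintype ι] in
theorem single_alg (j : ι) :
    (fun i => algebraMap F K ((Pi.single j (1 : F) : ι → F) i)) = Pi.single j (1 : K) := by
  funext i
  by_cases h : i = j
  · subst h; simp
  · simp [Pi.single_eq_of_ne h]

theorem refl_baseChange (Q : QuadraticForm F (ι → F)) (QK : QuadraticForm K (ι → K))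
    (hQ : ∀ x : ι → F, QK (fun i => algebraMap F K (x i)) = algebraMap F K (Q x)) (v : ι → F) :
    (Cfsg.reflectionMatrix ⇑Q v).map (algebraMap F K) =
      Cfsg.reflectionMatrix ⇑QK (fun i => algebraMap F K (v i)) := by
  have hpol : ∀ x y : ι → F, QuadraticMap.polar ⇑QK (fun i => algebraMap F K (x i))
      (fun i => algebraMap F K (y i)) = algebraMap F K (QuadraticMap.polar ⇑Q x y) := by
    intro x y
    unfold QuadraticMap.polar
    have : (fun i => algebraMap F K (x i)) + (fun i => algebraMap F K (y i)) =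
        fun i => algebraMap F K ((x + y) i) := by
      funext i
      simp
    rw [this, hQ, hQ, hQ, map_sub, map_sub]
  ext i j
  unfold Cfsg.reflectionMatrix Cfsg.polarVec
  simp only [Matrix.sub_apply, Matrix.smul_apply, Matrix.vecMulVec_apply, Matrix.map_apply,
    smul_eq_mul, Matrix.one_apply]
  rw [← single_alg (F := F) (K := K) j, hpol, hQ, map_sub, map_mul, map_mul, map_inv₀]
  congr 1
  split_ifs <;> simp

end reflbase

end

section

open Matrix QuadraticMap Module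
open Cfsg.Agent.Lib.H11.ConfOrth
open Cfsg.Agent.Lib.H13 Cfsg.Agent.Lib.H13.HypPairs Cfsg.Agent.Lib.H13.PlusTS

section nondegtrans

variable {K : Type*} [Field K] {ι ι' : Type} [Fintype ι] [DecidableEq ι] [Fintype ι']
  [DecidableEq ι']

/-- non-degeneracy is transported along linear isometries -/
theorem nondeg_of_iso (Q : QuadraticForm K (ι → K)) (P : QuadraticForm K (ι' → K))
    (L : (ι → K) ≃ₗ[K] (ι' → K)) (hL : ∀ x, P (L x) = Q x)
    (hP : (polarBilin P).Nondegenerate) : (polarBilin Q).Nondegenerate := by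
  have hpol : ∀ x y, QuadraticMap.polar (⇑Q) x y = QuadraticMap.polar (⇑P) (L x) (L y) := by
    intro x y
    unfold QuadraticMap.polar
    rw [← hL, ← hL, ← hL, map_add]
  have hsep : ∀ x, (∀ y, polarBilin Q x y = 0) → x = 0 := by
    intro x hx
    have h1 : L x = 0 := by
      apply hP.1
      intro y
      have := hx (L.symm y)
      rw [polarBilin_apply_apply, hpol, LinearEquiv.apply_symm_apply] at this
      rw [polarBilin_apply_apply]
      exact this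
    exact L.map_eq_zero_iff.1 h1
  refine ⟨hsep, ?_⟩
  intro y hy
  apply hsep
  intro x
  have := hy x
  rw [polarBilin_apply_apply] at this ⊢
  rw [QuadraticMap.polar_comm]
  exact this

end nondegtrans

section critK

universe u

variable {F : Type u} [Field F] [Fintype F] [CharP F 2] {m : ℕ}

local notation "IM" => ((Fin m ⊕ Fin m) ⊕ Fin 2)
local notation "IP" => (Fin (m + 1) ⊕ Fin (m + 1))

/-- characteristic two: an isometry of the minus-type form preserves the two classes over a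
quadratic extension iff it lies in `Ω` -/
theorem pres_minus_ext2 (hm : 3 ≤ m) (a b : F)
    (hab : ∀ z₁ z₂ : F, z₁ ^ 2 + a * z₁ * z₂ + b * z₂ ^ 2 = 0 → z₁ = 0 ∧ z₂ = 0)
    (s : ↥(Cfsg.isometryGroup F ⇑(minusQF F m a b)))
    (K : Type*) [Field K] [Algebra F K] (hK : finrank F K = 2) :
    Cfsg.PreservesSingularClasses (Cfsg.quadFormMinus m K (algebraMap F K a) (algebraMap F K b))
      (((s.1 : GL IM F) : Matrix IM IM F).map (algebraMap F K)) ↔
      s ∈ Cfsg.Omega F ⇑(minusQF F m a b) := by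
  classical
  have : Module.Finite F K := Module.finite_of_finrank_pos (by rw [hK]; norm_num)
  have : Finite K := Module.finite_of_finite F
  let _ : Fintype K := Fintype.ofFinite K
  have hcardK : Fintype.card K = Fintype.card F ^ 2 := by
    rw [Module.card_eq_pow_finrank (K := F) (V := K), hK]
  have hinj : Function.Injective (algebraMap F K) := (algebraMap F K).injective
  have h2K : (2 : K) = 0 := by
    have : (2 : K) = algebraMap F K 2 := (map_ofNat (algebraMap F K) 2).symm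
    rw [this, CharTwo.two_eq_zero, map_zero]
  haveI : CharP K 2 := CharTwo.of_one_ne_zero_of_two_eq_zero one_ne_zero h2K
  obtain ⟨ρ, hρ⟩ := exists_root_of_aniso (K := K) rfl hcardK a b hab
  obtain ⟨ha0, -⟩ := aniso_char2 a b hab
  have hρne : ρ ≠ -algebraMap F K a - ρ := by
    intro h
    have h5 : algebraMap F K a = 0 := by linear_combination h - ρ * h2K
    exact ha0 (hinj (by rw [h5, map_zero]))
  generalize hQdef' : minusQF F m a b = Q at s ⊢
  have hQdef : Q = minusQF F m a b := hQdef'.symm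
  set QK := minusQF K m (algebraMap F K a) (algebraMap F K b) with hQKdef
  have hQ : (polarBilin Q).Nondegenerate := by
    rw [hQdef]; exact Cfsg.Agent.S0288.nondeg (F := F) a b hab m
  have hcard : Fintype.card IM = 2 * (m + 1) := card_minus
  have hcond : Nat.card F ≠ 2 ∨ Fintype.card IM ≠ 4 := Or.inr (by rw [hcard]; omega)
  have hcondK : Nat.card K ≠ 2 ∨ Fintype.card IM ≠ 4 := Or.inr (by rw [hcard]; omega)
  have hcondP : Fintype.card K ≠ 2 ∨ m + 1 ≠ 2 := Or.inr (by omega)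
  obtain ⟨vs, hvs, hs⟩ := exists_list_top Q hQ hcond s
  have hΩF := Char2Omega.mem_Omega_iff_list_even Q hQ hcond vs hvs s hs
  have hQKalg : ∀ x : IM → F, QK (fun i => algebraMap F K (x i)) = algebraMap F K (Q x) := by
    rw [hQdef]; exact minusQF_alg a b
  set vsK : List (IM → K) := vs.map (fun v => fun i => algebraMap F K (v i)) with hvsK
  have hvsK0 : ∀ w ∈ vsK, QK w ≠ 0 := by
    intro w hw
    rw [hvsK, List.mem_map] at hw
    obtain ⟨v, hv, rfl⟩ := hw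
    rw [hQKalg]
    intro h
    exact hvs v hv (hinj (by rw [h, map_zero]))
  obtain ⟨sK, hsK⟩ := exists_of_list QK vsK hvsK0
  have hmat : ((sK : GL IM K) : Matrix IM IM K) =
      ((s.1 : GL IM F) : Matrix IM IM F).map (algebraMap F K) := by
    rw [hs, hsK]
    have h1 := map_list_prod (RingHom.mapMatrix (m := IM) (algebraMap F K))
      (vs.map (fun v => Cfsg.reflectionMatrix ⇑Q v))
    rw [RingHom.mapMatrix_apply] at h1
    rw [h1, hvsK, List.map_map, List.map_map]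
    congr 1
    apply List.map_congr_left
    intro v _
    simp only [Function.comp_apply, RingHom.mapMatrix_apply]
    rw [refl_baseChange Q QK hQKalg v]
  -- the splitting isometry
  have hsum : ρ + (-algebraMap F K a - ρ) = -algebraMap F K a := by ring
  have hprod : ρ * (-algebraMap F K a - ρ) = algebraMap F K b := by linear_combination -hρ
  set L := Cfsg.Agent.Lib.H11.ConfOrth.splitEquiv (m := m) ρ (-algebraMap F K a - ρ) hρne with hLdef
  have hL0 : ∀ x, plusQF K (m + 1) (L x) =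
      Cfsg.quadFormMinus m K (algebraMap F K a) (algebraMap F K b) x := by
    intro x
    rw [hLdef, Cfsg.Agent.Lib.H11.ConfOrth.splitEquiv_apply]
    exact plus_splitLin _ _ ρ _ hsum hprod x
  have hL : ∀ x, plusQF K (m + 1) (L x) = QK x := by
    intro x
    rw [hL0, hQKdef, minusQF_apply]
  have hQKnd : (polarBilin QK).Nondegenerate :=
    nondeg_of_iso QK (plusQF K (m + 1)) L hL (Cfsg.Agent.S0287.nondeg (F := K) (m + 1))
  have hΩK := Char2Omega.mem_Omega_iff_list_even QK hQKnd hcondK vsK hvsK0 sK hsK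
  have hlen : vsK.length = vs.length := by rw [hvsK, List.length_map]
  set Θ := transIso ⇑QK ⇑(plusQF K (m + 1)) L hL with hΘ
  have hΘΩ := Cfsg.Agent.Lib.H11.IsoReindex.mem_commutator_iff Θ sK
  have K1 := fun g => pres_iso2 (K := K) (d := m + 1) hcondP g
  rw [← Cfsg.Agent.S0287.coe_plusQF] at K1
  have hK1 := K1 (Θ sK)
  have hT1 : Cfsg.PreservesSingularClasses
      (Cfsg.quadFormMinus m K (algebraMap F K a) (algebraMap F K b))
      ((sK : GL IM K) : Matrix IM IM K) ↔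
      Cfsg.PreservesSingularClasses (⇑(plusQF K (m + 1)))
        (((Θ sK : ↥(Cfsg.isometryGroup K ⇑(plusQF K (m + 1)))) : GL IP K) : Matrix IP IP K) := by
    constructor
    · intro h
      exact pres_transport _ _ L hL0 _ _ (fun x => transGL_comm L sK.1 x) h
    · intro h
      refine pres_transport _ _ L.symm (fun y => ?_) _ _ (fun y => ?_) h
      · rw [← hL0, LinearEquiv.apply_symm_apply]
      · show L.symm ((transGL L sK.1).1 *ᵥ y) = _
        rw [transGL_mulVec, LinearEquiv.symm_apply_apply]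
  rw [← hmat, hT1, hK1]
  show Θ sK ∈ commutator _ ↔ _
  rw [hΘΩ]
  show sK ∈ Cfsg.Omega K ⇑QK ↔ _
  rw [hΩK, hlen, ← hΩF]

end critK

end

section

open Matrix QuadraticMap Module
open Cfsg.Agent.Lib.H11.ConfOrth
open Cfsg.Agent.Lib.H13 Cfsg.Agent.Lib.H13.HypPairs Cfsg.Agent.Lib.H13.PlusTS

section pscscalar

variable {K : Type*} [Field K] {ι : Type} [Fintype ι] [DecidableEq ι]

theorem pres_smul (Q : (ι → K) → K) (c : K) (hc : c ≠ 0) (M : Matrix ι ι K) :
    Cfsg.PreservesSingularClasses Q (c • M) ↔ Cfsg.PreservesSingularClasses Q M := by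
  unfold Cfsg.PreservesSingularClasses Cfsg.imageSubmodule
  have h1 : ∀ U : Submodule K (ι → K), U.map (Matrix.toLin' (c • M)) = U.map (Matrix.toLin' M) := by
    intro U
    rw [map_smul]
    exact Submodule.map_smul _ _ c hc
  constructor
  · intro h U hU
    have := h U hU
    rwa [h1] at this
  · intro h U hU
    rw [h1]
    exact h U hU

end pscscalar

section crit2

universe u

variable {F : Type u} [Field F] [Fintype F] [CharP F 2] {m : ℕ}

local notation "IM" => ((Fin m ⊕ Fin m) ⊕ Fin 2)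

theorem presMinus_iff2 (hm : 3 ≤ m) (a b : F)
    (hab : ∀ z₁ z₂ : F, z₁ ^ 2 + a * z₁ * z₂ + b * z₂ ^ 2 = 0 → z₁ = 0 ∧ z₂ = 0)
    (s : ↥(Cfsg.isometryGroup F ⇑(minusQF F m a b))) :
    Cfsg.PreservesSingularClassesMinus m a b ((s.1 : GL IM F) : Matrix IM IM F) ↔
      s ∈ Cfsg.Omega F ⇑(minusQF F m a b) := by
  constructor
  · rintro ⟨K, hKf, hKa, hfr, hpres⟩
    exact (pres_minus_ext2 hm a b hab s K hfr).1 hpres
  · intro h
    obtain ⟨K, hKf, hKa, hfr⟩ := exists_quadExt a b hab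
    exact ⟨K, hKf, hKa, hfr, (pres_minus_ext2 hm a b hab s K hfr).2 h⟩

/-- characteristic two: a similarity preserves the two classes iff it induces an inner
automorphism -/
theorem presMinus_iff_inn (hm : 3 ≤ m) (a b : F)
    (hab : ∀ z₁ z₂ : F, z₁ ^ 2 + a * z₁ * z₂ + b * z₂ ^ 2 = 0 → z₁ = 0 ∧ z₂ = 0)
    (g : ↥(Sim ⇑(minusQF F m a b))) :
    Cfsg.PreservesSingularClassesMinus m a b ((g.1 : GL IM F) : Matrix IM IM F) ↔
      Phi ⇑(minusQF F m a b) g ∈ Cfsg.Inn (Cfsg.POmega F ⇑(minusQF F m a b)) := by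
  have hQ : (polarBilin (minusQF F m a b)).Nondegenerate :=
    Cfsg.Agent.S0288.nondeg (F := F) a b hab m
  have hcard : Fintype.card IM = 2 * (m + 1) := card_minus
  have hc7 : 7 ≤ Fintype.card IM := by rw [hcard]; omega
  obtain ⟨c, s, hs, hg⟩ := sim_eq_scalar_mul2 (minusQF F m a b) hQ hc7 g
  have hcS : Matrix.GeneralLinearGroup.scalar IM c ∈ Sim ⇑(minusQF F m a b) :=
    Zs_le_sim' _ ((mem_Zs_iff _).2 ⟨c, rfl⟩)
  have hg' : g = ⟨Matrix.GeneralLinearGroup.scalar IM c, hcS⟩ *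
      Subgroup.inclusion (iso_le_sim ⇑(minusQF F m a b)) ⟨s, hs⟩ := Subtype.ext hg
  have hPhi : Phi ⇑(minusQF F m a b) g = PhiO (minusQF F m a b) ⟨s, hs⟩ := by
    rw [hg', map_mul, Phi_scalarA _ hQ hc7, one_mul]
    rfl
  rw [hPhi, mem_inn_iff2 _ hQ hc7, ← presMinus_iff2 hm a b hab ⟨s, hs⟩]
  have hmat : ((g.1 : GL IM F) : Matrix IM IM F) = (c : F) • (s : Matrix IM IM F) := by
    rw [hg, Units.val_mul, Matrix.GeneralLinearGroup.coe_scalar]
    ext i j
    simp [Matrix.scalar_apply, Matrix.diagonal_mul]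
  unfold Cfsg.PreservesSingularClassesMinus
  have hms : ∀ (K : Type u) [Field K] [Algebra F K],
      ((c : F) • (s : Matrix IM IM F)).map (algebraMap F K) =
        algebraMap F K (c : F) • (s : Matrix IM IM F).map (algebraMap F K) := by
    intro K _ _
    ext i j
    simp [Matrix.map_apply, Matrix.smul_apply]
  constructor
  · rintro ⟨K, hKf, hKa, hfr, hpres⟩
    refine ⟨K, hKf, hKa, hfr, ?_⟩
    rw [hmat, hms K] at hpres
    exact (pres_smul _ _ (by
      intro h0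
      exact c.ne_zero ((algebraMap F K).injective (by rw [h0, map_zero]))) _).1 hpres
  · rintro ⟨K, hKf, hKa, hfr, hpres⟩
    refine ⟨K, hKf, hKa, hfr, ?_⟩
    rw [hmat, hms K]
    exact (pres_smul _ _ (by
      intro h0
      exact c.ne_zero ((algebraMap F K).injective (by rw [h0, map_zero]))) _).2 hpres

/-- `Inndiag` of the minus-type group in characteristic two is `Inn` -/
theorem inndiag_eq_two (hm : 3 ≤ m) (a b : F)
    (hab : ∀ z₁ z₂ : F, z₁ ^ 2 + a * z₁ * z₂ + b * z₂ ^ 2 = 0 → z₁ = 0 ∧ z₂ = 0) :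
    Cfsg.autSubgroupOf (fun β : Cfsg.POmega F ⇑(minusQF F m a b) ≃*
        Cfsg.POmega F ⇑(minusQF F m a b) =>
      ∃ g : GL IM F, g ∈ Cfsg.Geo.quadSimilarityGroup (F := F) ⇑(minusQF F m a b) ∧
        Cfsg.PreservesSingularClassesMinus m a b (g : Matrix IM IM F) ∧
        Cfsg.IsInducedBySemilinearPOmega ⇑(minusQF F m a b) g (RingEquiv.refl F) β) =
      Cfsg.Inn (Cfsg.POmega F ⇑(minusQF F m a b)) := by
  have h1 : Cfsg.autSubgroupOf (fun β : Cfsg.POmega F ⇑(minusQF F m a b) ≃*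
        Cfsg.POmega F ⇑(minusQF F m a b) =>
      ∃ g : GL IM F, g ∈ Cfsg.Geo.quadSimilarityGroup (F := F) ⇑(minusQF F m a b) ∧
        Cfsg.PreservesSingularClassesMinus m a b (g : Matrix IM IM F) ∧
        Cfsg.IsInducedBySemilinearPOmega ⇑(minusQF F m a b) g (RingEquiv.refl F) β) =
      ((Cfsg.Inn (Cfsg.POmega F ⇑(minusQF F m a b))).comap (Phi ⇑(minusQF F m a b))).map
        (Phi ⇑(minusQF F m a b)) := by
    unfold Cfsg.autSubgroupOf
    apply closure_image_eq_map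
    intro β
    constructor
    · rintro ⟨g, hg, hpres, hind⟩
      exact ⟨⟨g, hg⟩, (presMinus_iff_inn hm a b hab ⟨g, hg⟩).1 hpres,
        (induced_iff _ g hg β).1 hind⟩
    · rintro ⟨g, hgD, rfl⟩
      exact ⟨g.1, g.2, (presMinus_iff_inn hm a b hab g).2 hgD, (induced_iff _ g.1 g.2 _).2 rfl⟩
  rw [h1, Subgroup.map_comap_eq, inf_eq_right]
  rw [inn_eq]
  rintro _ ⟨g, -, rfl⟩
  exact ⟨g, rfl⟩

end crit2

end

section

open Matrix QuadraticMap Module
open Cfsg.Agent.Lib.H11.ConfOrth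
open Cfsg.Agent.Lib.H13 Cfsg.Agent.Lib.H13.HypPairs Cfsg.Agent.Lib.H13.PlusTS

section two

variable {F : Type*} [Field F] [Fintype F] [CharP F 2] {ι : Type} [Fintype ι] [DecidableEq ι]
variable (Q : QuadraticForm F (ι → F))
variable (hQ : (polarBilin Q).Nondegenerate) (hcard : 7 ≤ Fintype.card ι)

include hQ hcard in
theorem map_comap_inn :
    ((Cfsg.Inn (Cfsg.POmega F ⇑Q)).comap (Phi ⇑Q)).map (Phi ⇑Q) = Cfsg.Inn (Cfsg.POmega F ⇑Q) := by
  rw [Subgroup.map_comap_eq, inf_eq_right, inn_eq]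
  rintro _ ⟨g, -, rfl⟩
  exact ⟨g, rfl⟩

include hQ hcard in
/-- characteristic two: multiplying by a reflection moves a similarity into the preimage of
`Inn` -/
theorem inn_dichotomy2 (ρ : ↥(Sim ⇑Q)) (v : ι → F) (hv : Q v ≠ 0) (hρ : ρ.1 = (reflG Q v hv).1)
    (k : ↥(Sim ⇑Q)) :
    k ∈ (Cfsg.Inn (Cfsg.POmega F ⇑Q)).comap (Phi ⇑Q) ∨
      k * ρ ∈ (Cfsg.Inn (Cfsg.POmega F ⇑Q)).comap (Phi ⇑Q) := by
  obtain ⟨c, s, hs, hk⟩ := sim_eq_scalar_mul2 Q hQ hcard k
  have hcS : Matrix.GeneralLinearGroup.scalar ι c ∈ Sim ⇑Q :=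
    Zs_le_sim' _ ((mem_Zs_iff _).2 ⟨c, rfl⟩)
  have hk' : k = ⟨Matrix.GeneralLinearGroup.scalar ι c, hcS⟩ *
      Subgroup.inclusion (iso_le_sim ⇑Q) ⟨s, hs⟩ := Subtype.ext hk
  have hρ' : ρ = Subgroup.inclusion (iso_le_sim ⇑Q) (reflG Q v hv) := Subtype.ext hρ
  have hPhi : Phi ⇑Q k = PhiO Q ⟨s, hs⟩ := by
    rw [hk', map_mul, Phi_scalarA _ hQ hcard, one_mul]
    rfl
  have hPhi2 : Phi ⇑Q (k * ρ) = PhiO Q (⟨s, hs⟩ * reflG Q v hv) := by
    rw [map_mul, hPhi, hρ', map_mul]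
    rfl
  have hcond : Nat.card F ≠ 2 ∨ Fintype.card ι ≠ 4 := Or.inr (by omega)
  rw [Subgroup.mem_comap, Subgroup.mem_comap, hPhi, hPhi2, mem_inn_iff2 _ hQ hcard,
    mem_inn_iff2 _ hQ hcard]
  rcases Char2Omega.abel_cases Q hQ hcond v hv ⟨s, hs⟩ with h | h
  · exact Or.inl h
  · right
    have hn : (Cfsg.Omega F ⇑Q).Normal := inferInstance
    have := hn.conj_mem _ h (reflG Q v hv)⁻¹
    have e : (reflG Q v hv)⁻¹ * (reflG Q v hv * ⟨s, hs⟩) * (reflG Q v hv)⁻¹⁻¹ =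
        ⟨s, hs⟩ * reflG Q v hv := by group
    rwa [e] at this

end two

section s2737two

universe u

variable {F : Type u} [Field F] [Fintype F] [CharP F 2] {m : ℕ}

local notation "IM" => ((Fin m ⊕ Fin m) ⊕ Fin 2)

theorem core_conj_two' (hm : 3 ≤ m) (a' b' : F)
    (hab' : ∀ z₁ z₂ : F, z₁ ^ 2 + a' * z₁ * z₂ + b' * z₂ ^ 2 = 0 → z₁ = 0 ∧ z₂ = 0)
    (σ : F ≃+* F) (ha' : σ a' = a') (hb' : σ b' = b')
    (Q₀ : (IM → F) → F)
    (Q₁ : (IM → F) → F) (hQ₁ : ⇑(minusQF F m a' b') = Q₁)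
    (ψ : Cfsg.POmega F Q₀ ≃* Cfsg.POmega F Q₁)
    (x δ : MulAut (Cfsg.POmega F Q₀))
    (hfield : Cfsg.IsFieldAutPOmegaOf Q₁ σ ((ψ.symm.trans x).trans ψ))
    {r : ℕ} (hr : r.Prime) (hxr : orderOf x = r)
    (hδ : δ ∈ Cfsg.Inn (Cfsg.POmega F Q₀))
    (hord : orderOf (δ * x) = r) :
    Cfsg.IsConjUnder (Cfsg.Inn (Cfsg.POmega F Q₀)) x (δ * x) := by
  subst hQ₁
  have hQ' : (polarBilin (minusQF F m a' b')).Nondegenerate :=
    Cfsg.Agent.S0288.nondeg (F := F) a' b' hab' m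
  have hcard : Fintype.card IM = 2 * (m + 1) := card_minus
  have hc7 : 7 ≤ Fintype.card IM := by rw [hcard]; omega
  have hne' := exists_ne_of_nondeg (minusQF F m a' b') hQ' (by rw [card_minus]; omega)
  have hall' : Cfsg.gammaPOmega F ⇑(minusQF F m a' b') = ⊤ := hall_minus hm a' b' hab'
  have hσQ' : SigEq σ (minusQF F m a' b') := sigEq_minus σ a' b' ha' hb'
  obtain ⟨v, hv, ρ, hρσ, hρ⟩ := exists_fixed_refl (minusQF F m a' b') hσQ' hne'
  have hT : (Cfsg.Inn (Cfsg.POmega F Q₀)).map (MulAut.congr ψ).toMonoidHom =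
      ((Cfsg.Inn (Cfsg.POmega F ⇑(minusQF F m a' b'))).comap (Phi ⇑(minusQF F m a' b'))).map
        (Phi ⇑(minusQF F m a' b')) := by
    rw [map_comap_inn _ hQ' hc7, map_inn_congr]
  exact core_conj_gen Q₀ (minusQF F m a' b') hQ' hc7 hall' σ hσQ'
    (fun Q'' h1 h3 h4 => fixSim_minus σ a' b' ha' hb' hab' Q'' h1 h3 h4) _
    ((Cfsg.Inn (Cfsg.POmega F ⇑(minusQF F m a' b'))).comap (Phi ⇑(minusQF F m a' b'))) ψ hT ρ hρσ
    (inn_dichotomy2 (minusQF F m a' b') hQ' hc7 ρ v hv hρ) x δ hfield hr hxr hδ hord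

/-- S2737 in characteristic two -/
theorem s2737_two (hm : 3 ≤ m) (a b : F)
    (hab : ∀ z₁ z₂ : F, z₁ ^ 2 + a * z₁ * z₂ + b * z₂ ^ 2 = 0 → z₁ = 0 ∧ z₂ = 0)
    (Q₀ : (IM → F) → F) (hQ₀ : ⇑(minusQF F m a b) = Q₀)
    (x δ : MulAut (Cfsg.POmega F Q₀))
    (hx : ∃ (a' b' : F) (ψ : Cfsg.POmega F Q₀ ≃* Cfsg.POmega F (Cfsg.quadFormMinus m F a' b'))
      (σ : F ≃+* F),
      (∀ z₁ z₂ : F, z₁ ^ 2 + a' * z₁ * z₂ + b' * z₂ ^ 2 = 0 → z₁ = 0 ∧ z₂ = 0) ∧
      σ ≠ RingEquiv.refl F ∧ σ a' = a' ∧ σ b' = b' ∧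
      Cfsg.IsFieldAutPOmegaOf (Cfsg.quadFormMinus m F a' b') σ ((ψ.symm.trans x).trans ψ))
    {r : ℕ} (hr : r.Prime) (hxr : orderOf x = r)
    (A : Subgroup (MulAut (Cfsg.POmega F Q₀)))
    (hA : A = Cfsg.autSubgroupOf (fun β : Cfsg.POmega F Q₀ ≃* Cfsg.POmega F Q₀ =>
      ∃ g : GL IM F, g ∈ Cfsg.Geo.quadSimilarityGroup (F := F) Q₀ ∧
        Cfsg.PreservesSingularClassesMinus m a b (g : Matrix IM IM F) ∧
        Cfsg.IsInducedBySemilinearPOmega Q₀ g (RingEquiv.refl F) β))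
    (hδ : δ ∈ A) : orderOf (δ * x) = r ↔ Cfsg.IsConjUnder A x (δ * x) := by
  subst hQ₀
  rw [inndiag_eq_two hm a b hab] at hA
  subst hA
  constructor
  · intro hord
    obtain ⟨a', b', ψ, σ, hab', hσ1, ha', hb', hfield⟩ := hx
    exact core_conj_two' hm a' b' hab' σ ha' hb' _ _
      (Cfsg.Agent.S0288.coe_minusQF m a' b') ψ x δ hfield hr hxr hδ hord
  · rintro ⟨h, -, heq⟩
    rw [heq, AutPSL.orderOf_conj', hxr]

end s2737two

end

end Cfsg.Agent.Lib.H13.AutPO
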