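import Mathlib
import Cfsg.Agent.Lib.H13.AutPO12

/-!
Automorphisms of `PΩ(Q)`, part 13 (helper13): centralisers and classes of field automorphisms of the minus-type groups.
`hP8_odd` (modulo inner automorphisms every element of `ker delta` is represented by a matrix over the fixed field), `mult_upSim`,
`mult_simEquiv`, `hcomp_odd`, `core_cent_gen`, `core_split_gen`, `order_dvd_f`, `descend_minus`, `s2716_odd`; characteristic two:
`isoEquivE`, `up_mem_Omega_iff`, `hcomp_two`, `splitClassCount_self`, `s2716_two`.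
-/

set_option autoImplicit false
set_option linter.unusedSectionVars false
set_option linter.unusedVariables false
set_option linter.unusedSimpArgs false
set_option linter.deprecated false

namespace Cfsg.Agent.Lib.H13.AutPO

section

open Matrix QuadraticMap Module
open Cfsg.Agent.Lib.H11.ConfOrth
open Cfsg.Agent.Lib.H13 Cfsg.Agent.Lib.H13.HypPairs Cfsg.Agent.Lib.H13.PlusTS

section dminusfix

variable {F : Type*} [Field F] {m : ℕ}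

local notation "IM" => ((Fin m ⊕ Fin m) ⊕ Fin 2)

theorem dMinusM_map (σ : F ≃+* F) (a b ν c₁ c₂ : F) :
    (dMinusM (m := m) a b ν c₁ c₂).map σ = dMinusM (σ a) (σ b) (σ ν) (σ c₁) (σ c₂) := by
  unfold dMinusM
  rw [Matrix.fromBlocks_map]
  congr 1
  · ext i j
    rcases i with i | i <;> rcases j with j | j <;>
      by_cases h : i = j <;> simp [Matrix.diagonal_apply, h]
  · ext i j; simp
  · ext i j; simp
  · ext i j
    fin_cases i <;> fin_cases j <;> simp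

end dminusfix

section p8odd

variable {F : Type*} [Field F] [Fintype F] {m : ℕ}

local notation "IM" => ((Fin m ⊕ Fin m) ⊕ Fin 2)

/-- odd characteristic: modulo `Z Ω`, every element of `ker delta` is represented by a matrix
fixed by `σ` -/
theorem hP8_odd (h2 : (2 : F) ≠ 0) (hm : 3 ≤ m) (a b : F)
    (hab : ∀ z₁ z₂ : F, z₁ ^ 2 + a * z₁ * z₂ + b * z₂ ^ 2 = 0 → z₁ = 0 ∧ z₂ = 0)
    (σ : F ≃+* F) (ha : σ a = a) (hb : σ b = b) {r : ℕ} (hrodd : Odd r) (hσ : orderOf σ = r)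
    (hne : ∃ v, minusQF F m a b v ≠ 0) (g : ↥(Sim ⇑(minusQF F m a b)))
    (hg : g ∈ DD (minusQF F m a b) (m + 1) hne) :
    ∃ g' ∈ DD (minusQF F m a b) (m + 1) hne, glmap σ g'.1 = g'.1 ∧
      Phi ⇑(minusQF F m a b) (g * g'⁻¹) ∈ Cfsg.Inn (Cfsg.POmega F ⇑(minusQF F m a b)) := by
  classical
  have hQ : (polarBilin (minusQF F m a b)).Nondegenerate :=
    Cfsg.Agent.S0288.nondeg (F := F) a b hab m
  have hcard : Fintype.card IM = 2 * (m + 1) := card_minus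
  have hc7 : 7 ≤ Fintype.card IM := by rw [hcard]; omega
  have hker := ker_Phi_all (minusQF F m a b) hQ hc7
  have hσQ : SigEq σ (minusQF F m a b) := sigEq_minus σ a b ha hb
  haveI : Fintype (AutPSL.fixF σ) := Fintype.ofFinite _
  have hns := exists_nonsquare_coe σ h2 hrodd hσ
  -- Step 1: an element `k₁` fixed by `σ` with `delta = 1` and multiplier in the class of `mult g`
  have step1 : ∃ k₁ ∈ DD (minusQF F m a b) (m + 1) hne, glmap σ k₁.1 = k₁.1 ∧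
      IsSquare ((mult (⇑(minusQF F m a b)) hne (g * k₁⁻¹) : Fˣ) : F) := by
    by_cases hsq : IsSquare ((mult (⇑(minusQF F m a b)) hne g : Fˣ) : F)
    · refine ⟨1, Subgroup.one_mem _, by rw [Subgroup.coe_one, map_one], ?_⟩
      rw [inv_one, mul_one]
      exact hsq
    · obtain ⟨x₀, hx₀, hx₀ns⟩ := hns
      set a₁ : AutPSL.fixF σ := ⟨a, (AutPSL.mem_fixF_iff σ a).2 ha⟩ with ha₁
      set b₁ : AutPSL.fixF σ := ⟨b, (AutPSL.mem_fixF_iff σ b).2 hb⟩ with hb₁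
      obtain ⟨c₁, c₂, hc⟩ := exists_binary_eq (two_ne_zero_fix (σ := σ) h2) a₁ b₁
        (aniso_fix σ a₁ b₁ hab) x₀
      have hx₀F : (x₀ : F) ≠ 0 := fun h => hx₀ (Subtype.ext h)
      set ν : Fˣ := Units.mk0 (x₀ : F) hx₀F with hν
      have hνeq : (c₁ : F) ^ 2 + a * (c₁ : F) * (c₂ : F) + b * (c₂ : F) ^ 2 = (ν : F) := by
        have := congrArg (fun y : AutPSL.fixF σ => (y : F)) hc
        simp only [Subfield.coe_add, Subfield.coe_mul, SubmonoidClass.coe_pow] at this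
        exact this
      set k₁ : ↥(Sim ⇑(minusQF F m a b)) :=
        ⟨dMinus a b ν (c₁ : F) (c₂ : F) hνeq, dMinus_mem a b ν _ _ hνeq⟩ with hk₁
      have hk₁d : delta (minusQF F m a b) hne (m + 1) k₁ = 1 := dMinus_delta a b hne ν _ _ hνeq
      have hk₁m : mult (⇑(minusQF F m a b)) hne k₁ = ν := dMinus_mult a b hne ν _ _ hνeq
      refine ⟨k₁, (mem_DD _ _ hne _).2 hk₁d, ?_, ?_⟩
      · apply Units.ext
        rw [glmap_val]
        show (dMinusM a b (ν : F) (c₁ : F) (c₂ : F)).map σ = dMinusM a b (ν : F) (c₁ : F) (c₂ : F)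
        rw [dMinusM_map, ha, hb, (AutPSL.mem_fixF_iff σ _).1 c₁.2, (AutPSL.mem_fixF_iff σ _).1 c₂.2]
        congr 1
        exact (AutPSL.mem_fixF_iff σ _).1 x₀.2
      · rw [map_mul, map_inv, hk₁m, Units.val_mul, Units.val_inv_eq_inv_val]
        have hν0 : (ν : F) ≠ 0 := ν.ne_zero
        have hgm0 : ((mult (⇑(minusQF F m a b)) hne g : Fˣ) : F) ≠ 0 := Units.ne_zero _
        obtain ⟨u, hu⟩ := isSquare_mul_of_nonsquare h2 (ν : F) _ hx₀ns hsq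
        refine ⟨u * (ν : F)⁻¹, ?_⟩
        field_simp
        linear_combination hu
  obtain ⟨k₁, hk₁D, hk₁σ, hsq⟩ := step1
  -- `g k₁⁻¹` lies in `Z SO`
  have hg₁D : g * k₁⁻¹ ∈ DD (minusQF F m a b) (m + 1) hne :=
    Subgroup.mul_mem _ hg (Subgroup.inv_mem _ hk₁D)
  have hpsi : psi (minusQF F m a b) hne (m + 1) hQ h2 hcard (g * k₁⁻¹) = 1 := by
    rw [psi_eq_one_iff]
    exact ⟨hsq, (mem_DD _ _ hne _).1 hg₁D⟩
  rw [psi_eq_one_iff'] at hpsi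
  obtain ⟨c, s, hs, hgs⟩ := hpsi
  by_cases hsω : s ∈ Cfsg.Geo.omegaGL ⇑(minusQF F m a b)
  · refine ⟨k₁, hk₁D, hk₁σ, ?_⟩
    rw [inn_eq]
    exact (mem_comap_map (minusQF F m a b) hker (Cfsg.Geo.omegaGL ⇑(minusQF F m a b))
      (g * k₁⁻¹)).2 ⟨c, s, hsω, hgs⟩
  · obtain ⟨s₀, hs₀, hs₀ω⟩ := exists_so_not_omega (minusQF F m a b) hσQ hQ h2 (by omega) hns
    have hs₀O := ((mem_sO_iff (down (minusQF F m a b) hσQ) s₀).1 hs₀).1
    have hs₀det := ((mem_sO_iff (down (minusQF F m a b) hσQ) s₀).1 hs₀).2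
    have hs₀S : s₀ ∈ Sim ⇑(down (minusQF F m a b) hσQ) := iso_le_sim _ hs₀O
    have htso : upGL s₀ ∈ Cfsg.specialIsometryGL F ⇑(minusQF F m a b) := by
      rw [mem_sO_iff]
      refine ⟨upGL_mem_iso (minusQF F m a b) hσQ s₀ hs₀O, ?_⟩
      rw [det_upGL, hs₀det]
      rfl
    set T : ↥(Sim ⇑(minusQF F m a b)) := upSim (minusQF F m a b) hσQ ⟨s₀, hs₀S⟩ with hT
    have hTval : T.1 = upGL s₀ := rfl
    have hTD : T ∈ DD (minusQF F m a b) (m + 1) hne := by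
      rw [mem_DD]
      have := (mem_sO_iff' (minusQF F m a b) hne (m + 1) T).1 (by rw [hTval]; exact htso)
      exact this.2
    refine ⟨T * k₁, Subgroup.mul_mem _ hTD hk₁D, ?_, ?_⟩
    · rw [Subgroup.coe_mul, map_mul, hk₁σ, hTval, glmap_upGL]
    · rw [inn_eq]
      refine (mem_comap_map (minusQF F m a b) hker (Cfsg.Geo.omegaGL ⇑(minusQF F m a b))
        (g * (T * k₁)⁻¹)).2 ⟨c, s * (upGL s₀)⁻¹, ?_, ?_⟩
      · rw [mul_mem_omegaGL_iff (minusQF F m a b) hQ h2 (by omega) s (upGL s₀)⁻¹ hs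
          (Subgroup.inv_mem _ htso)]
        constructor
        · intro h; exact absurd h hsω
        · intro h
          exfalso
          apply hs₀ω
          have := Subgroup.inv_mem _ h
          rwa [inv_inv] at this
      · have e1 : g * (T * k₁)⁻¹ = (g * k₁⁻¹) * T⁻¹ := by group
        rw [e1, Subgroup.coe_mul, hgs, Subgroup.coe_inv, hTval, mul_assoc]

end p8odd

end

section

open Matrix QuadraticMap Module
open Cfsg.Agent.Lib.H11.ConfOrth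
open Cfsg.Agent.Lib.H13 Cfsg.Agent.Lib.H13.HypPairs Cfsg.Agent.Lib.H13.PlusTS

section multup

variable {F : Type*} [Field F] {ι : Type} [Fintype ι] [DecidableEq ι]
variable {σ : F ≃+* F} (Q : QuadraticForm F (ι → F)) (hσQ : SigEq σ Q)

theorem mult_upSim (hne : ∃ v, Q v ≠ 0) (hne₀ : ∃ v, down Q hσQ v ≠ 0)
    (k : ↥(Sim ⇑(down Q hσQ))) :
    ((mult (⇑Q) hne (upSim Q hσQ k) : Fˣ) : F) =
      ((mult (⇑(down Q hσQ)) hne₀ k : (AutPSL.fixF σ)ˣ) : AutPSL.fixF σ) := by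
  set c := mult (⇑(down Q hσQ)) hne₀ k with hc
  have hc0 : ((c : AutPSL.fixF σ) : F) ≠ 0 := by
    intro h
    exact c.ne_zero (Subtype.ext h)
  have h0 : mult (⇑Q) hne (upSim Q hσQ k) = Units.mk0 _ hc0 := by
    apply mult_eq
    have h1 : Q.comp (Matrix.toLin' (upGL (σ := σ) k.1).1) = ((c : AutPSL.fixF σ) : F) • Q := by
      apply qf_ext_of_upV (σ := σ)
      intro v
      rw [QuadraticMap.comp_apply, Matrix.toLin'_apply, upGL_mulVec, _root_.smul_apply,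
        smul_eq_mul, ← down_apply Q hσQ, ← down_apply Q hσQ, mult_spec (⇑(down Q hσQ)) hne₀ k]
      rfl
    intro v
    have := congrArg (fun R : QuadraticForm F (ι → F) => R v) h1
    show Q ((upGL (σ := σ) k.1).1 *ᵥ v) = _
    simpa [QuadraticMap.comp_apply, Matrix.toLin'_apply] using this
  rw [h0, Units.val_mk0]

end multup

section multequiv

variable {K₁ : Type*} [Field K₁] {K₂ : Type*} [Field K₂] {ι : Type} [Fintype ι] [DecidableEq ι]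
variable (Q₁ : (ι → K₁) → K₁) (Q₂ : (ι → K₂) → K₂) (e : K₁ ≃+* K₂)

theorem mult_simEquiv (hQ : ∀ v, Q₂ (fun i => e (v i)) = e (Q₁ v)) (hne₁ : ∃ v, Q₁ v ≠ 0)
    (hne₂ : ∃ v, Q₂ v ≠ 0) (g : ↥(Sim Q₁)) :
    ((mult Q₂ hne₂ (simEquiv Q₁ Q₂ e hQ g) : K₂ˣ) : K₂) = e ((mult Q₁ hne₁ g : K₁ˣ) : K₁) := by
  have h0 : mult Q₂ hne₂ (simEquiv Q₁ Q₂ e hQ g) = Units.map (e : K₁ →* K₂) (mult Q₁ hne₁ g) := by
    apply mult_eq
    intro w
    have hw : w = fun i => e (e.symm (w i)) := by funext i; simp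
    rw [hw, simEquiv_val, glMapEquiv_mulVec, hQ, hQ, mult_spec Q₁ hne₁ g, map_mul]
    rfl
  rw [h0]
  rfl

theorem det_glMapEquiv (g : GL ι K₁) :
    ((glMapEquiv e g : GL ι K₂) : Matrix ι ι K₂).det = e ((g : Matrix ι ι K₁).det) := by
  rw [glMapEquiv_val]
  exact ((e : K₁ →+* K₂).map_det g.1).symm

end multequiv

section hcompodd

variable {F : Type*} [Field F] [Fintype F] {ι : Type} [Fintype ι] [DecidableEq ι]
variable {σ : F ≃+* F} (Q : QuadraticForm F (ι → F)) (hσQ : SigEq σ Q)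

/-- compatibility of the kernels of `delta` over the field, its fixed field and an isomorphic copy
of the fixed field -/
theorem hcomp_odd (hne : ∃ v, Q v ≠ 0) (d : ℕ)
    {K₂ : Type*} [Field K₂] [Fintype K₂] (Q₂ : QuadraticForm K₂ (ι → K₂)) (hne₂ : ∃ v, Q₂ v ≠ 0)
    (e : AutPSL.fixF σ ≃+* K₂) (hQe : ∀ v, Q₂ (fun i => e (v i)) = e (down Q hσQ v)) :
    (DD Q d hne).comap (upSim Q hσQ) =
      (DD Q₂ d hne₂).comap (simEquiv ⇑(down Q hσQ) ⇑Q₂ e hQe).toMonoidHom := by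
  classical
  obtain ⟨v₀, hv₀⟩ := exists_upV_ne (σ := σ) Q hne
  have hne₀ : ∃ v, down Q hσQ v ≠ 0 := by
    refine ⟨v₀, fun h => hv₀ ?_⟩
    rw [← down_apply Q hσQ, h]
    rfl
  ext k
  have key1 : upSim Q hσQ k ∈ DD Q d hne ↔
      (k.1 : Matrix ι ι (AutPSL.fixF σ)).det =
        ((mult (⇑(down Q hσQ)) hne₀ k : (AutPSL.fixF σ)ˣ) : AutPSL.fixF σ) ^ d := by
    rw [mem_DD, delta_eq_one_iff, upSim_val, det_upGL, mult_upSim Q hσQ hne hne₀ k,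
      ← SubmonoidClass.coe_pow]
    exact Subtype.ext_iff.symm
  have key2 : simEquiv ⇑(down Q hσQ) ⇑Q₂ e hQe k ∈ DD Q₂ d hne₂ ↔
      (k.1 : Matrix ι ι (AutPSL.fixF σ)).det =
        ((mult (⇑(down Q hσQ)) hne₀ k : (AutPSL.fixF σ)ˣ) : AutPSL.fixF σ) ^ d := by
    rw [mem_DD, delta_eq_one_iff, simEquiv_val, det_glMapEquiv,
      mult_simEquiv ⇑(down Q hσQ) ⇑Q₂ e hQe hne₀ hne₂ k, ← map_pow]
    exact e.injective.eq_iff
  rw [Subgroup.mem_comap, Subgroup.mem_comap, key1]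
  exact key2.symm

end hcompodd

end

section

open Matrix QuadraticMap Module
open Cfsg.Agent.Lib.H11.ConfOrth
open Cfsg.Agent.Lib.H13 Cfsg.Agent.Lib.H13.HypPairs Cfsg.Agent.Lib.H13.PlusTS

section core2716

variable {F : Type*} [Field F] [Fintype F] {ι : Type} [Fintype ι] [DecidableEq ι]

theorem stdAut_of_field (Q₀ : (ι → F) → F) (Q' : QuadraticForm F (ι → F)) (σ : F ≃+* F)
    (hσQ' : SigEq σ Q') (ψ : Cfsg.POmega F Q₀ ≃* Cfsg.POmega F ⇑Q')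
    (x : MulAut (Cfsg.POmega F Q₀))
    (hfield : Cfsg.IsFieldAutPOmegaOf ⇑Q' σ ((ψ.symm.trans x).trans ψ)) :
    MulAut.congr ψ x = stdAut Q' σ hσQ' := by
  rw [congr_apply_eq]
  exact eq_stdAut_of_isField Q' σ hσQ' _ hfield

theorem order_sigma_of_field (Q₀ : (ι → F) → F) (Q' : QuadraticForm F (ι → F))
    (hQ' : (polarBilin Q').Nondegenerate) (hc7 : 7 ≤ Fintype.card ι)
    (hall' : Cfsg.gammaPOmega F ⇑Q' = ⊤) (σ : F ≃+* F) (hσQ' : SigEq σ Q')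
    (ψ : Cfsg.POmega F Q₀ ≃* Cfsg.POmega F ⇑Q') (x : MulAut (Cfsg.POmega F Q₀))
    (hfield : Cfsg.IsFieldAutPOmegaOf ⇑Q' σ ((ψ.symm.trans x).trans ψ))
    {r : ℕ} (hxr : orderOf x = r) : orderOf σ = r := by
  rw [← orderOf_stdAutA Q' σ hQ' hc7 hall' hσQ', ← stdAut_of_field Q₀ Q' σ hσQ' ψ x hfield,
    MulEquiv.orderOf_eq, hxr]

/-- the centraliser statement, generic form -/
theorem core_cent_gen [Nonempty ι] (Q₀ : (ι → F) → F) (Q' : QuadraticForm F (ι → F))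
    (hQ' : (polarBilin Q').Nondegenerate) (hc7 : 7 ≤ Fintype.card ι)
    (σ : F ≃+* F) (hσQ' : SigEq σ Q')
    (A : Subgroup (MulAut (Cfsg.POmega F Q₀))) (Dt' : Subgroup ↥(Sim ⇑Q'))
    (ψ : Cfsg.POmega F Q₀ ≃* Cfsg.POmega F ⇑Q')
    (hT : A.map (MulAut.congr ψ).toMonoidHom = Dt'.map (Phi ⇑Q'))
    (hZ : (Phi ⇑Q').ker ≤ Dt')
    (x : MulAut (Cfsg.POmega F Q₀))
    (hfield : Cfsg.IsFieldAutPOmegaOf ⇑Q' σ ((ψ.symm.trans x).trans ψ))
    {r : ℕ} (hr : 0 < r) (hσr : orderOf σ = r)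
    {K₂ : Type*} [Field K₂] (Q₂ : (ι → K₂) → K₂) (e : AutPSL.fixF σ ≃+* K₂)
    (hQe : ∀ v, Q₂ (fun i => e (v i)) = e (down Q' hσQ' v))
    (hker₂ : (Phi Q₂).ker = (Zs ι K₂).subgroupOf (Sim Q₂))
    (Dt₂ : Subgroup ↥(Sim Q₂))
    (hcomp : Dt'.comap (upSim Q' hσQ') =
      Dt₂.comap (simEquiv ⇑(down Q' hσQ') Q₂ e hQe).toMonoidHom) :
    Nonempty (↥(A ⊓ Subgroup.centralizer {x}) ≃* ↥(Dt₂.map (Phi Q₂))) := by
  have hx' := stdAut_of_field Q₀ Q' σ hσQ' ψ x hfield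
  obtain ⟨E1⟩ := centralizer_map_equiv (MulAut.congr ψ) A x
  have h : A.map (MulAut.congr ψ).toMonoidHom ⊓ Subgroup.centralizer {MulAut.congr ψ x} =
      Dt'.map (Phi ⇑Q') ⊓ Subgroup.centralizer {stdAut Q' σ hσQ'} := by
    rw [hT, hx']
  obtain ⟨E2⟩ := centralizer_D_equiv Q' hσQ' (ker_Phi_all Q' hQ' hc7) (exists_neO Q' hQ' hc7) hr hσr
    Dt' hZ Q₂ e hQe hker₂ Dt₂ hcomp
  exact ⟨(E1.trans (MulEquiv.subgroupCongr h)).trans E2⟩

/-- the class-splitting statement, generic form -/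
theorem core_split_gen (Q₀ : (ι → F) → F) (Q' : QuadraticForm F (ι → F))
    (σ : F ≃+* F) (hσQ' : SigEq σ Q')
    (A : Subgroup (MulAut (Cfsg.POmega F Q₀))) (Dt' : Subgroup ↥(Sim ⇑Q'))
    (ψ : Cfsg.POmega F Q₀ ≃* Cfsg.POmega F ⇑Q')
    (hT : A.map (MulAut.congr ψ).toMonoidHom = Dt'.map (Phi ⇑Q'))
    (hInnA : Cfsg.Inn (Cfsg.POmega F Q₀) ≤ A)
    (x : MulAut (Cfsg.POmega F Q₀))
    (hfield : Cfsg.IsFieldAutPOmegaOf ⇑Q' σ ((ψ.symm.trans x).trans ψ))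
    (hP8 : ∀ g ∈ Dt', ∃ g' ∈ Dt', glmap σ g'.1 = g'.1 ∧
      Phi ⇑Q' (g * g'⁻¹) ∈ Cfsg.Inn (Cfsg.POmega F ⇑Q')) :
    Cfsg.splitClassCount A (Cfsg.Inn (Cfsg.POmega F Q₀)) x = 1 := by
  have hx' := stdAut_of_field Q₀ Q' σ hσQ' ψ x hfield
  have hInn' : Cfsg.Inn (Cfsg.POmega F ⇑Q') ≤ Dt'.map (Phi ⇑Q') := by
    rw [← hT, ← map_inn_congr ψ]
    exact Subgroup.map_mono hInnA
  rw [← splitClassCount_map (MulAut.congr ψ) A _ hInnA x, hT, map_inn_congr, hx']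
  exact split_D Q' hσQ' Dt' hInn' hP8

end core2716

end

section

open Matrix QuadraticMap Module
open Cfsg.Agent.Lib.H11.ConfOrth
open Cfsg.Agent.Lib.H13 Cfsg.Agent.Lib.H13.HypPairs Cfsg.Agent.Lib.H13.PlusTS

section arith2716

variable {F : Type*} [Field F] [Fintype F]

/-- the order of a field automorphism divides the exponent -/
theorem order_dvd_f {p f : ℕ} [Fact p.Prime] (hF : Fintype.card F = p ^ f) (σ : F ≃+* F) :
    orderOf σ ∣ f := by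
  haveI := charP_of_card hF
  have h := orderOf_dvd_natCard σ
  rwa [AutPSL.card_ringAut p hF] at h

end arith2716

section descend

variable {F : Type*} [Field F] [Fintype F] {m : ℕ}

local notation "IM" => ((Fin m ⊕ Fin m) ⊕ Fin 2)

/-- the data over an isomorphic copy of the fixed field -/
theorem descend_minus {p f : ℕ} [Fact p.Prime] (hF : Fintype.card F = p ^ f)
    (a' b' : F)
    (hab' : ∀ z₁ z₂ : F, z₁ ^ 2 + a' * z₁ * z₂ + b' * z₂ ^ 2 = 0 → z₁ = 0 ∧ z₂ = 0)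
    (σ : F ≃+* F) (ha' : σ a' = a') (hb' : σ b' = b')
    (hσQ' : SigEq σ (minusQF F m a' b'))
    {r : ℕ} (hr : 0 < r) (hσr : orderOf σ = r)
    (F₀ : Type*) [Field F₀] [Fintype F₀] (hF₀ : Fintype.card F₀ = p ^ (f / r)) :
    ∃ (e : AutPSL.fixF σ ≃+* F₀) (a₀ b₀ : F₀),
      (∀ z₁ z₂ : F₀, z₁ ^ 2 + a₀ * z₁ * z₂ + b₀ * z₂ ^ 2 = 0 → z₁ = 0 ∧ z₂ = 0) ∧
      (∀ v, minusQF F₀ m a₀ b₀ (fun i => e (v i)) = e (down (minusQF F m a' b') hσQ' v)) := by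
  haveI : Fintype (AutPSL.fixF σ) := Fintype.ofFinite _
  have hce : Fintype.card (AutPSL.fixF σ) = Fintype.card F₀ := by
    rw [hF₀, ← AutPSL.card_fixF' σ hr hσr hF, Nat.card_eq_fintype_card]
  let e : AutPSL.fixF σ ≃+* F₀ := FiniteField.ringEquivOfCardEq hce
  set a₁ : AutPSL.fixF σ := ⟨a', (AutPSL.mem_fixF_iff σ a').2 ha'⟩ with ha₁
  set b₁ : AutPSL.fixF σ := ⟨b', (AutPSL.mem_fixF_iff σ b').2 hb'⟩ with hb₁
  have han := aniso_fix σ a₁ b₁ hab'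
  refine ⟨e, e a₁, e b₁, ?_, ?_⟩
  · intro z₁ z₂ h
    have h' : (e.symm z₁) ^ 2 + a₁ * (e.symm z₁) * (e.symm z₂) + b₁ * (e.symm z₂) ^ 2 = 0 := by
      apply e.injective
      rw [map_zero, map_add, map_add, map_mul, map_mul, map_mul, map_pow, map_pow,
        e.apply_symm_apply, e.apply_symm_apply]
      exact h
    obtain ⟨h1, h2⟩ := han _ _ h'
    constructor
    · have := congrArg e h1
      rwa [e.apply_symm_apply, map_zero] at this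
    · have := congrArg e h2
      rwa [e.apply_symm_apply, map_zero] at this
  · intro v
    rw [down_minus σ a' b' hσQ' a₁ b₁ rfl rfl, minusQF_apply, minusQF_apply]
    exact quadFormMinus_map m (e : AutPSL.fixF σ →+* F₀) a₁ b₁ v

end descend

section s2716odd

universe u v

variable {F : Type u} [Field F] [Fintype F] {m : ℕ}

local notation "IM" => ((Fin m ⊕ Fin m) ⊕ Fin 2)

theorem core_2716_odd (h2 : (2 : F) ≠ 0) (hm : 3 ≤ m) {p f : ℕ} [Fact p.Prime]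
    (hF : Fintype.card F = p ^ f) (a b a' b' : F)
    (hab : ∀ z₁ z₂ : F, z₁ ^ 2 + a * z₁ * z₂ + b * z₂ ^ 2 = 0 → z₁ = 0 ∧ z₂ = 0)
    (hab' : ∀ z₁ z₂ : F, z₁ ^ 2 + a' * z₁ * z₂ + b' * z₂ ^ 2 = 0 → z₁ = 0 ∧ z₂ = 0)
    (σ : F ≃+* F) (ha' : σ a' = a') (hb' : σ b' = b')
    (hne : ∃ v, minusQF F m a b v ≠ 0)
    (Q₁ : (IM → F) → F) (hQ₁ : ⇑(minusQF F m a' b') = Q₁)
    (ψ : Cfsg.POmega F ⇑(minusQF F m a b) ≃* Cfsg.POmega F Q₁)
    (x : MulAut (Cfsg.POmega F ⇑(minusQF F m a b)))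
    (hfield : Cfsg.IsFieldAutPOmegaOf Q₁ σ ((ψ.symm.trans x).trans ψ))
    {r : ℕ} (hr : r.Prime) (hxr : orderOf x = r)
    (F₀ : Type v) [Field F₀] [Fintype F₀] (hF₀ : Fintype.card F₀ = p ^ (f / r)) :
    Odd r ∧ r ∣ f ∧
    (∃ a₀ b₀ : F₀, (∀ z₁ z₂ : F₀, z₁ ^ 2 + a₀ * z₁ * z₂ + b₀ * z₂ ^ 2 = 0 → z₁ = 0 ∧ z₂ = 0) ∧
      (2 : F₀) ≠ 0 ∧ ∀ hne₂ : ∃ v, minusQF F₀ m a₀ b₀ v ≠ 0,
      Nonempty (↥((DD (minusQF F m a b) (m + 1) hne).map (Phi ⇑(minusQF F m a b)) ⊓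
        Subgroup.centralizer {x}) ≃*
        ↥((DD (minusQF F₀ m a₀ b₀) (m + 1) hne₂).map (Phi ⇑(minusQF F₀ m a₀ b₀))))) ∧
    Cfsg.splitClassCount ((DD (minusQF F m a b) (m + 1) hne).map (Phi ⇑(minusQF F m a b)))
      (Cfsg.Inn (Cfsg.POmega F ⇑(minusQF F m a b))) x = 1 := by
  subst hQ₁
  have hQ : (polarBilin (minusQF F m a b)).Nondegenerate :=
    Cfsg.Agent.S0288.nondeg (F := F) a b hab m
  have hQ' : (polarBilin (minusQF F m a' b')).Nondegenerate :=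
    Cfsg.Agent.S0288.nondeg (F := F) a' b' hab' m
  have hcard : Fintype.card IM = 2 * (m + 1) := card_minus
  have hc7 : 7 ≤ Fintype.card IM := by rw [hcard]; omega
  have hne' := exists_ne_of_nondeg (minusQF F m a' b') hQ' (by rw [card_minus]; omega)
  have hall : Cfsg.gammaPOmega F ⇑(minusQF F m a b) = ⊤ := hall_minus hm a b hab
  have hall' : Cfsg.gammaPOmega F ⇑(minusQF F m a' b') = ⊤ := hall_minus hm a' b' hab'
  have hσQ' : SigEq σ (minusQF F m a' b') := sigEq_minus σ a' b' ha' hb'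
  obtain ⟨L, hL0⟩ := minus_iso (m := m) a b a' b' hab hab'
  have hL : ∀ v, minusQF F m a b (L.1 *ᵥ v) = minusQF F m a' b' v := by
    intro v
    rw [minusQF_apply, minusQF_apply]
    exact hL0 v
  have hn := DD_map_normal (minusQF F m a b) (m + 1) hne hall
  have hT := DD_transport (minusQF F m a b) (minusQF F m a' b') hne hne' (m + 1) L hL hn ψ
  have hσr : orderOf σ = r :=
    order_sigma_of_field _ (minusQF F m a' b') hQ' hc7 hall' σ hσQ' ψ x hfield hxr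
  have hrodd : Odd r := by
    apply hr.odd_of_ne_two
    rintro rfl
    exact order_ne_two_of_aniso σ hσr a' b' ha' hb' hab'
  have hrf : r ∣ f := by
    rw [← hσr]
    exact order_dvd_f hF σ
  obtain ⟨e, a₀, b₀, hab₀, hQe⟩ := descend_minus hF a' b' hab' σ ha' hb' hσQ' hr.pos hσr F₀ hF₀
  have h2₀ : (2 : F₀) ≠ 0 := by
    intro h
    apply two_ne_zero_fix (σ := σ) h2
    apply e.injective
    rw [map_zero, map_ofNat]
    exact h
  have hQ₂ : (polarBilin (minusQF F₀ m a₀ b₀)).Nondegenerate :=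
    Cfsg.Agent.S0288.nondeg (F := F₀) a₀ b₀ hab₀ m
  have hker₂ := ker_Phi_all (minusQF F₀ m a₀ b₀) hQ₂ hc7
  have hZ := ker_Phi_le_DD (minusQF F m a' b') hQ' hc7 (m + 1) hcard hne'
  have hInnA := inn_le_DD_map (minusQF F m a b) hQ h2 (m + 1) (by omega) hcard hne
  haveI : Nonempty IM := ⟨Sum.inr 0⟩
  refine ⟨hrodd, hrf, ⟨a₀, b₀, hab₀, h2₀, fun hne₂ => ?_⟩, ?_⟩
  · exact core_cent_gen _ (minusQF F m a' b') hQ' hc7 σ hσQ' _ (DD (minusQF F m a' b') (m + 1) hne')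
      ψ hT hZ x hfield hr.pos hσr _ e hQe hker₂ (DD (minusQF F₀ m a₀ b₀) (m + 1) hne₂)
      (hcomp_odd (minusQF F m a' b') hσQ' hne' (m + 1) (minusQF F₀ m a₀ b₀) hne₂ e hQe)
  · exact core_split_gen _ (minusQF F m a' b') σ hσQ' _ (DD (minusQF F m a' b') (m + 1) hne')
      ψ hT hInnA x hfield
      (fun g hg => hP8_odd h2 hm a' b' hab' σ ha' hb' hrodd hσr hne' g hg)

/-- S2716 in odd characteristic -/
theorem s2716_odd (h2 : (2 : F) ≠ 0) (hm : 3 ≤ m) {p f : ℕ} [Fact p.Prime]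
    (hF : Fintype.card F = p ^ f) (a b : F)
    (hab : ∀ z₁ z₂ : F, z₁ ^ 2 + a * z₁ * z₂ + b * z₂ ^ 2 = 0 → z₁ = 0 ∧ z₂ = 0)
    (Q₀ : (IM → F) → F) (hQ₀ : ⇑(minusQF F m a b) = Q₀)
    (x : MulAut (Cfsg.POmega F Q₀))
    (hx : ∃ (a' b' : F) (ψ : Cfsg.POmega F Q₀ ≃* Cfsg.POmega F (Cfsg.quadFormMinus m F a' b'))
      (σ : F ≃+* F),
      (∀ z₁ z₂ : F, z₁ ^ 2 + a' * z₁ * z₂ + b' * z₂ ^ 2 = 0 → z₁ = 0 ∧ z₂ = 0) ∧
      σ ≠ RingEquiv.refl F ∧ σ a' = a' ∧ σ b' = b' ∧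
      Cfsg.IsFieldAutPOmegaOf (Cfsg.quadFormMinus m F a' b') σ ((ψ.symm.trans x).trans ψ))
    {r : ℕ} (hr : r.Prime) (hxr : orderOf x = r)
    (F₀ : Type v) [Field F₀] [Fintype F₀] (hF₀ : Fintype.card F₀ = p ^ (f / r))
    (A : Subgroup (MulAut (Cfsg.POmega F Q₀)))
    (hA : A = Cfsg.autSubgroupOf (fun β : Cfsg.POmega F Q₀ ≃* Cfsg.POmega F Q₀ =>
      ∃ g : GL IM F, g ∈ Cfsg.Geo.quadSimilarityGroup (F := F) Q₀ ∧
        Cfsg.PreservesSingularClassesMinus m a b (g : Matrix IM IM F) ∧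
        Cfsg.IsInducedBySemilinearPOmega Q₀ g (RingEquiv.refl F) β)) :
    Odd r ∧ r ∣ f ∧
    (∃ a₀ b₀ : F₀, (∀ z₁ z₂ : F₀, z₁ ^ 2 + a₀ * z₁ * z₂ + b₀ * z₂ ^ 2 = 0 → z₁ = 0 ∧ z₂ = 0) ∧
      ∀ (Q₂ : (IM → F₀) → F₀) (hQ₂ : ⇑(minusQF F₀ m a₀ b₀) = Q₂)
        (B : Subgroup (MulAut (Cfsg.POmega F₀ Q₂)))
        (hB : B = Cfsg.autSubgroupOf (fun β : Cfsg.POmega F₀ Q₂ ≃* Cfsg.POmega F₀ Q₂ =>
          ∃ g : GL IM F₀, g ∈ Cfsg.Geo.quadSimilarityGroup (F := F₀) Q₂ ∧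
            Cfsg.PreservesSingularClassesMinus m a₀ b₀ (g : Matrix IM IM F₀) ∧
            Cfsg.IsInducedBySemilinearPOmega Q₂ g (RingEquiv.refl F₀) β)),
        Nonempty (↥(A ⊓ Subgroup.centralizer {x}) ≃* ↥B)) ∧
    Cfsg.splitClassCount A (Cfsg.Inn (Cfsg.POmega F Q₀)) x = 1 := by
  subst hQ₀
  have hQ : (polarBilin (minusQF F m a b)).Nondegenerate :=
    Cfsg.Agent.S0288.nondeg (F := F) a b hab m
  have hne := exists_ne_of_nondeg (minusQF F m a b) hQ (by rw [card_minus]; omega)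
  rw [inndiag_eq_odd h2 a b hab hne] at hA
  subst hA
  obtain ⟨a', b', ψ, σ, hab', hσ1, ha', hb', hfield⟩ := hx
  obtain ⟨h1, h2', ⟨a₀, b₀, hab₀, h2₀, H⟩, h4⟩ := core_2716_odd h2 hm hF a b a' b' hab hab' σ ha' hb'
    hne _ (Cfsg.Agent.S0288.coe_minusQF m a' b') ψ x hfield hr hxr F₀ hF₀
  refine ⟨h1, h2', ⟨a₀, b₀, hab₀, ?_⟩, h4⟩
  intro Q₂ hQ₂ B hB
  subst hQ₂
  have hQ₂ : (polarBilin (minusQF F₀ m a₀ b₀)).Nondegenerate :=
    Cfsg.Agent.S0288.nondeg (F := F₀) a₀ b₀ hab₀ m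
  have hne₂ := exists_ne_of_nondeg (minusQF F₀ m a₀ b₀) hQ₂ (by rw [card_minus]; omega)
  rw [inndiag_eq_odd h2₀ a₀ b₀ hab₀ hne₂] at hB
  subst hB
  exact H hne₂

end s2716odd

end

section

open Matrix QuadraticMap Module
open Cfsg.Agent.Lib.H11.ConfOrth
open Cfsg.Agent.Lib.H13 Cfsg.Agent.Lib.H13.HypPairs Cfsg.Agent.Lib.H13.PlusTS

section isoequivE

variable {K₁ : Type*} [Field K₁] {K₂ : Type*} [Field K₂] {ι : Type} [Fintype ι] [DecidableEq ι]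
variable (Q₁ : (ι → K₁) → K₁) (Q₂ : (ι → K₂) → K₂) (e : K₁ ≃+* K₂)

theorem mem_iso_glMapEquiv (hQ : ∀ v, Q₂ (fun i => e (v i)) = e (Q₁ v)) (g : GL ι K₁)
    (hg : g ∈ Cfsg.isometryGroup K₁ Q₁) : glMapEquiv e g ∈ Cfsg.isometryGroup K₂ Q₂ := by
  rw [Cfsg.Agent.Lib.H11.ConfOrth.mem_iso_iff] at hg ⊢
  intro w
  have hw : w = fun i => e (e.symm (w i)) := by funext i; simp
  rw [hw, glMapEquiv_mulVec, hQ, hQ, hg]

/-- the isometry groups of corresponding forms over isomorphic fields -/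
def isoEquivE (hQ : ∀ v, Q₂ (fun i => e (v i)) = e (Q₁ v)) :
    ↥(Cfsg.isometryGroup K₁ Q₁) ≃* ↥(Cfsg.isometryGroup K₂ Q₂) where
  toFun g := ⟨glMapEquiv e g.1, mem_iso_glMapEquiv Q₁ Q₂ e hQ g.1 g.2⟩
  invFun g := ⟨(glMapEquiv e).symm g.1,
    mem_iso_glMapEquiv Q₂ Q₁ e.symm (hQ_symm Q₁ Q₂ e hQ) g.1 g.2⟩
  left_inv g := Subtype.ext ((glMapEquiv e).symm_apply_apply g.1)
  right_inv g := Subtype.ext ((glMapEquiv e).apply_symm_apply g.1)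
  map_mul' g h := Subtype.ext (map_mul (glMapEquiv e) g.1 h.1)

theorem isoEquivE_val (hQ : ∀ v, Q₂ (fun i => e (v i)) = e (Q₁ v))
    (g : ↥(Cfsg.isometryGroup K₁ Q₁)) : (isoEquivE Q₁ Q₂ e hQ g).1 = glMapEquiv e g.1 := rfl

theorem isoEquivE_mem_Omega_iff (hQ : ∀ v, Q₂ (fun i => e (v i)) = e (Q₁ v))
    (s : ↥(Cfsg.isometryGroup K₁ Q₁)) :
    isoEquivE Q₁ Q₂ e hQ s ∈ Cfsg.Omega K₂ Q₂ ↔ s ∈ Cfsg.Omega K₁ Q₁ :=
  Cfsg.Agent.Lib.H11.IsoReindex.mem_commutator_iff (isoEquivE Q₁ Q₂ e hQ) s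

end isoequivE

section upomega

variable {F : Type*} [Field F] [Fintype F] [CharP F 2] {ι : Type} [Fintype ι] [DecidableEq ι]
variable {σ : F ≃+* F} (Q : QuadraticForm F (ι → F)) (hσQ : SigEq σ Q)

/-- characteristic two: an isometry over the fixed field lies in `Ω` iff it does over the field -/
theorem up_mem_Omega_iff (hQ : (polarBilin Q).Nondegenerate) (hc7 : 7 ≤ Fintype.card ι)
    (s : GL ι (AutPSL.fixF σ)) (hs : s ∈ Cfsg.isometryGroup (AutPSL.fixF σ) ⇑(down Q hσQ)) :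
    (⟨upGL s, upGL_mem_iso Q hσQ s hs⟩ : ↥(Cfsg.isometryGroup F ⇑Q)) ∈ Cfsg.Omega F ⇑Q ↔
      (⟨s, hs⟩ : ↥(Cfsg.isometryGroup (AutPSL.fixF σ) ⇑(down Q hσQ))) ∈
        Cfsg.Omega (AutPSL.fixF σ) ⇑(down Q hσQ) := by
  haveI : Fintype (AutPSL.fixF σ) := Fintype.ofFinite _
  have hnd₀ := down_nondeg Q hσQ hQ
  have hcond : Nat.card F ≠ 2 ∨ Fintype.card ι ≠ 4 := Or.inr (by omega)
  have hcond₀ : Nat.card (AutPSL.fixF σ) ≠ 2 ∨ Fintype.card ι ≠ 4 := Or.inr (by omega)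
  obtain ⟨us, hus, hprod⟩ := PlusTS.exists_list_top (down Q hσQ) hnd₀ hcond₀ ⟨s, hs⟩
  have h1 := Char2Omega.mem_Omega_iff_list_even (down Q hσQ) hnd₀ hcond₀ us hus ⟨s, hs⟩ hprod
  have hus' : ∀ v ∈ us.map (upV σ), Q v ≠ 0 := by
    intro v hv
    rw [List.mem_map] at hv
    obtain ⟨u, hu, rfl⟩ := hv
    intro h0
    apply hus u hu
    apply Subtype.ext
    rw [down_apply Q hσQ, h0]
    rfl
  have h2 := Char2Omega.mem_Omega_iff_list_even Q hQ hcond (us.map (upV σ)) hus'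
    ⟨upGL s, upGL_mem_iso Q hσQ s hs⟩ (upGL_list Q hσQ s us hprod)
  rw [h1, h2, List.length_map]

end upomega

section hcomptwo

variable {F : Type*} [Field F] [Fintype F] [CharP F 2] {ι : Type} [Fintype ι] [DecidableEq ι]
variable {σ : F ≃+* F} (Q : QuadraticForm F (ι → F)) (hσQ : SigEq σ Q)

/-- characteristic two: compatibility of the preimages of `Inn` over the field, its fixed field
and an isomorphic copy of the fixed field -/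
theorem hcomp_two (hQ : (polarBilin Q).Nondegenerate) (hc7 : 7 ≤ Fintype.card ι)
    {K₂ : Type*} [Field K₂] [Fintype K₂] [CharP K₂ 2] (Q₂ : QuadraticForm K₂ (ι → K₂))
    (hQ₂ : (polarBilin Q₂).Nondegenerate)
    (e : AutPSL.fixF σ ≃+* K₂) (hQe : ∀ v, Q₂ (fun i => e (v i)) = e (down Q hσQ v)) :
    ((Cfsg.Inn (Cfsg.POmega F ⇑Q)).comap (Phi ⇑Q)).comap (upSim Q hσQ) =
      ((Cfsg.Inn (Cfsg.POmega K₂ ⇑Q₂)).comap (Phi ⇑Q₂)).comap
        (simEquiv ⇑(down Q hσQ) ⇑Q₂ e hQe).toMonoidHom := by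
  haveI : Fintype (AutPSL.fixF σ) := Fintype.ofFinite _
  have hnd₀ := down_nondeg Q hσQ hQ
  ext k
  rw [Subgroup.mem_comap, Subgroup.mem_comap, Subgroup.mem_comap, Subgroup.mem_comap]
  obtain ⟨c, s, hs, hk⟩ := sim_eq_scalar_mul2 (down Q hσQ) hnd₀ hc7 k
  -- the left side
  have hcS : Matrix.GeneralLinearGroup.scalar ι
      (Units.map (AutPSL.fixF σ).subtype.toMonoidHom c) ∈ Sim ⇑Q :=
    Zs_le_sim' _ ((mem_Zs_iff _).2 ⟨_, rfl⟩)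
  have hup : upSim Q hσQ k = ⟨_, hcS⟩ *
      Subgroup.inclusion (iso_le_sim ⇑Q) ⟨upGL s, upGL_mem_iso Q hσQ s hs⟩ := by
    apply Subtype.ext
    rw [upSim_val, hk, upGL_mul, upGL_scalar]
    rfl
  have hPhi1 : Phi ⇑Q (upSim Q hσQ k) = PhiO Q ⟨upGL s, upGL_mem_iso Q hσQ s hs⟩ := by
    rw [hup, map_mul, Phi_scalarA _ hQ hc7, one_mul]
    rfl
  -- the right side
  have hcS₂ : Matrix.GeneralLinearGroup.scalar ι
      (Units.map (e : AutPSL.fixF σ →* K₂) c) ∈ Sim ⇑Q₂ :=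
    Zs_le_sim' _ ((mem_Zs_iff _).2 ⟨_, rfl⟩)
  have hdn : (simEquiv ⇑(down Q hσQ) ⇑Q₂ e hQe) k = ⟨_, hcS₂⟩ *
      Subgroup.inclusion (iso_le_sim ⇑Q₂)
        (isoEquivE ⇑(down Q hσQ) ⇑Q₂ e hQe ⟨s, hs⟩) := by
    apply Subtype.ext
    rw [simEquiv_val, hk, map_mul, glMapEquiv_scalar']
    rfl
  have hPhi2 : Phi ⇑Q₂ ((simEquiv ⇑(down Q hσQ) ⇑Q₂ e hQe).toMonoidHom k) =
      PhiO Q₂ (isoEquivE ⇑(down Q hσQ) ⇑Q₂ e hQe ⟨s, hs⟩) := by
    show Phi ⇑Q₂ ((simEquiv ⇑(down Q hσQ) ⇑Q₂ e hQe) k) = _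
    rw [hdn, map_mul, Phi_scalarA _ hQ₂ hc7, one_mul]
    rfl
  rw [hPhi1, hPhi2, mem_inn_iff2 _ hQ hc7, mem_inn_iff2 _ hQ₂ hc7, up_mem_Omega_iff Q hσQ hQ hc7,
    isoEquivE_mem_Omega_iff]

end hcomptwo

end

section

open Matrix QuadraticMap Module
open Cfsg.Agent.Lib.H11.ConfOrth
open Cfsg.Agent.Lib.H13 Cfsg.Agent.Lib.H13.HypPairs Cfsg.Agent.Lib.H13.PlusTS

section splitself

variable {A : Type*} [Group A]

theorem splitClassCount_self (K : Subgroup A) [K.Normal] (x : A) :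
    Cfsg.splitClassCount K K x = 1 := by
  rw [AutPSL.splitClassCount_eq K K le_rfl x, Subgroup.relIndex_eq_one]
  exact le_sup_left

end splitself

section s2716two

universe u v

variable {F : Type u} [Field F] [Fintype F] [CharP F 2] {m : ℕ}

local notation "IM" => ((Fin m ⊕ Fin m) ⊕ Fin 2)

theorem core_2716_two (hm : 3 ≤ m) {p f : ℕ} [Fact p.Prime]
    (hF : Fintype.card F = p ^ f) (a' b' : F)
    (hab' : ∀ z₁ z₂ : F, z₁ ^ 2 + a' * z₁ * z₂ + b' * z₂ ^ 2 = 0 → z₁ = 0 ∧ z₂ = 0)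
    (σ : F ≃+* F) (ha' : σ a' = a') (hb' : σ b' = b')
    (Q₀ : (IM → F) → F)
    (Q₁ : (IM → F) → F) (hQ₁ : ⇑(minusQF F m a' b') = Q₁)
    (ψ : Cfsg.POmega F Q₀ ≃* Cfsg.POmega F Q₁)
    (x : MulAut (Cfsg.POmega F Q₀))
    (hfield : Cfsg.IsFieldAutPOmegaOf Q₁ σ ((ψ.symm.trans x).trans ψ))
    {r : ℕ} (hr : r.Prime) (hxr : orderOf x = r)
    (F₀ : Type v) [Field F₀] [Fintype F₀] (hF₀ : Fintype.card F₀ = p ^ (f / r)) :
    Odd r ∧ r ∣ f ∧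
    (∃ a₀ b₀ : F₀, (∀ z₁ z₂ : F₀, z₁ ^ 2 + a₀ * z₁ * z₂ + b₀ * z₂ ^ 2 = 0 → z₁ = 0 ∧ z₂ = 0) ∧
      (2 : F₀) = 0 ∧
      Nonempty (↥(Cfsg.Inn (Cfsg.POmega F Q₀) ⊓ Subgroup.centralizer {x}) ≃*
        ↥(Cfsg.Inn (Cfsg.POmega F₀ ⇑(minusQF F₀ m a₀ b₀))))) := by
  subst hQ₁
  have hQ' : (polarBilin (minusQF F m a' b')).Nondegenerate :=
    Cfsg.Agent.S0288.nondeg (F := F) a' b' hab' m
  have hcard : Fintype.card IM = 2 * (m + 1) := card_minus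
  have hc7 : 7 ≤ Fintype.card IM := by rw [hcard]; omega
  have hall' : Cfsg.gammaPOmega F ⇑(minusQF F m a' b') = ⊤ := hall_minus hm a' b' hab'
  have hσQ' : SigEq σ (minusQF F m a' b') := sigEq_minus σ a' b' ha' hb'
  have hT : (Cfsg.Inn (Cfsg.POmega F Q₀)).map (MulAut.congr ψ).toMonoidHom =
      ((Cfsg.Inn (Cfsg.POmega F ⇑(minusQF F m a' b'))).comap (Phi ⇑(minusQF F m a' b'))).map
        (Phi ⇑(minusQF F m a' b')) := by
    rw [map_comap_inn _ hQ' hc7, map_inn_congr]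
  have hσr : orderOf σ = r :=
    order_sigma_of_field _ (minusQF F m a' b') hQ' hc7 hall' σ hσQ' ψ x hfield hxr
  have hrodd : Odd r := by
    apply hr.odd_of_ne_two
    rintro rfl
    exact order_ne_two_of_aniso σ hσr a' b' ha' hb' hab'
  have hrf : r ∣ f := by
    rw [← hσr]
    exact order_dvd_f hF σ
  obtain ⟨e, a₀, b₀, hab₀, hQe⟩ := descend_minus hF a' b' hab' σ ha' hb' hσQ' hr.pos hσr F₀ hF₀
  have h2₀ : (2 : F₀) = 0 := by
    have h : (2 : AutPSL.fixF σ) = 0 := CharTwo.two_eq_zero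
    have := congrArg e h
    rwa [map_zero, map_ofNat] at this
  haveI : CharP F₀ 2 := CharTwo.of_one_ne_zero_of_two_eq_zero one_ne_zero h2₀
  have hQ₂ : (polarBilin (minusQF F₀ m a₀ b₀)).Nondegenerate :=
    Cfsg.Agent.S0288.nondeg (F := F₀) a₀ b₀ hab₀ m
  have hker₂ := ker_Phi_all (minusQF F₀ m a₀ b₀) hQ₂ hc7
  have hZ : (Phi ⇑(minusQF F m a' b')).ker ≤
      (Cfsg.Inn (Cfsg.POmega F ⇑(minusQF F m a' b'))).comap (Phi ⇑(minusQF F m a' b')) := by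
    intro g hg
    rw [Subgroup.mem_comap, MonoidHom.mem_ker.1 hg]
    exact Subgroup.one_mem _
  haveI : Nonempty IM := ⟨Sum.inr 0⟩
  refine ⟨hrodd, hrf, a₀, b₀, hab₀, h2₀, ?_⟩
  have := core_cent_gen Q₀ (minusQF F m a' b') hQ' hc7 σ hσQ' _
    ((Cfsg.Inn (Cfsg.POmega F ⇑(minusQF F m a' b'))).comap (Phi ⇑(minusQF F m a' b')))
    ψ hT hZ x hfield hr.pos hσr _ e hQe hker₂
    ((Cfsg.Inn (Cfsg.POmega F₀ ⇑(minusQF F₀ m a₀ b₀))).comap (Phi ⇑(minusQF F₀ m a₀ b₀)))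
    (hcomp_two (minusQF F m a' b') hσQ' hQ' hc7 (minusQF F₀ m a₀ b₀) hQ₂ e hQe)
  rwa [map_comap_inn _ hQ₂ hc7] at this

/-- S2716 in characteristic two -/
theorem s2716_two (hm : 3 ≤ m) {p f : ℕ} [Fact p.Prime]
    (hF : Fintype.card F = p ^ f) (a b : F)
    (hab : ∀ z₁ z₂ : F, z₁ ^ 2 + a * z₁ * z₂ + b * z₂ ^ 2 = 0 → z₁ = 0 ∧ z₂ = 0)
    (Q₀ : (IM → F) → F) (hQ₀ : ⇑(minusQF F m a b) = Q₀)
    (x : MulAut (Cfsg.POmega F Q₀))
    (hx : ∃ (a' b' : F) (ψ : Cfsg.POmega F Q₀ ≃* Cfsg.POmega F (Cfsg.quadFormMinus m F a' b'))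
      (σ : F ≃+* F),
      (∀ z₁ z₂ : F, z₁ ^ 2 + a' * z₁ * z₂ + b' * z₂ ^ 2 = 0 → z₁ = 0 ∧ z₂ = 0) ∧
      σ ≠ RingEquiv.refl F ∧ σ a' = a' ∧ σ b' = b' ∧
      Cfsg.IsFieldAutPOmegaOf (Cfsg.quadFormMinus m F a' b') σ ((ψ.symm.trans x).trans ψ))
    {r : ℕ} (hr : r.Prime) (hxr : orderOf x = r)
    (F₀ : Type v) [Field F₀] [Fintype F₀] (hF₀ : Fintype.card F₀ = p ^ (f / r))
    (A : Subgroup (MulAut (Cfsg.POmega F Q₀)))
    (hA : A = Cfsg.autSubgroupOf (fun β : Cfsg.POmega F Q₀ ≃* Cfsg.POmega F Q₀ =>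
      ∃ g : GL IM F, g ∈ Cfsg.Geo.quadSimilarityGroup (F := F) Q₀ ∧
        Cfsg.PreservesSingularClassesMinus m a b (g : Matrix IM IM F) ∧
        Cfsg.IsInducedBySemilinearPOmega Q₀ g (RingEquiv.refl F) β)) :
    Odd r ∧ r ∣ f ∧
    (∃ a₀ b₀ : F₀, (∀ z₁ z₂ : F₀, z₁ ^ 2 + a₀ * z₁ * z₂ + b₀ * z₂ ^ 2 = 0 → z₁ = 0 ∧ z₂ = 0) ∧
      ∀ (Q₂ : (IM → F₀) → F₀) (hQ₂ : ⇑(minusQF F₀ m a₀ b₀) = Q₂)
        (B : Subgroup (MulAut (Cfsg.POmega F₀ Q₂)))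
        (hB : B = Cfsg.autSubgroupOf (fun β : Cfsg.POmega F₀ Q₂ ≃* Cfsg.POmega F₀ Q₂ =>
          ∃ g : GL IM F₀, g ∈ Cfsg.Geo.quadSimilarityGroup (F := F₀) Q₂ ∧
            Cfsg.PreservesSingularClassesMinus m a₀ b₀ (g : Matrix IM IM F₀) ∧
            Cfsg.IsInducedBySemilinearPOmega Q₂ g (RingEquiv.refl F₀) β)),
        Nonempty (↥(A ⊓ Subgroup.centralizer {x}) ≃* ↥B)) ∧
    Cfsg.splitClassCount A (Cfsg.Inn (Cfsg.POmega F Q₀)) x = 1 := by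
  subst hQ₀
  rw [inndiag_eq_two hm a b hab] at hA
  subst hA
  obtain ⟨a', b', ψ, σ, hab', hσ1, ha', hb', hfield⟩ := hx
  obtain ⟨h1, h2', a₀, b₀, hab₀, h2₀, H⟩ := core_2716_two hm hF a' b' hab' σ ha' hb'
    _ _ (Cfsg.Agent.S0288.coe_minusQF m a' b') ψ x hfield hr hxr F₀ hF₀
  refine ⟨h1, h2', ⟨a₀, b₀, hab₀, ?_⟩, splitClassCount_self _ x⟩
  intro Q₂ hQ₂ B hB
  subst hQ₂
  haveI : CharP F₀ 2 := CharTwo.of_one_ne_zero_of_two_eq_zero one_ne_zero h2₀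
  rw [inndiag_eq_two hm a₀ b₀ hab₀] at hB
  subst hB
  exact H

end s2716two

end

end Cfsg.Agent.Lib.H13.AutPO
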