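import Mathlib
import Cfsg.Agent.Lib.H13.AutPO13

/-!
Automorphisms of `PΩ(Q)`, part 14 (helper13): coset conjugacy for field and graph-field automorphisms of the plus-type groups.
`exists_twist` (the twisted form of a cocycle of norm one), `rel_lang` (Lang's theorem relative to a second cocycle), `exists_scalar_PN_one`,
`gmS`, `conj_of_cocycle`, `DownPlus`/`DownMinus`, `fixSim_trichotomy` (among three forms fixed by `σ` two are similar over the fixed field),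
`cocycle_alt`, `coset_conj_two` (involutory field automorphism: elements of order two in the cosets of the field and graph-field
automorphisms), `as_up_odd`, `ts_le_of_minus_down`, `fixSim_plus_odd`, `inndiag_plus_eq_odd`, `inndiag_plus_eq_two`, `coset_conj_key`,
`hall_plus`, `s2736_odd`, `s2736_two`.
-/

set_option autoImplicit false
set_option linter.unusedSectionVars false
set_option linter.unusedVariables false
set_option linter.unusedSimpArgs false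
set_option linter.deprecated false

namespace Cfsg.Agent.Lib.H13.AutPO

section

open Matrix QuadraticMap Module
open Cfsg.Agent.Lib.H11.ConfOrth
open Cfsg.Agent.Lib.H13 Cfsg.Agent.Lib.H13.HypPairs Cfsg.Agent.Lib.H13.PlusTS

section twist

variable {F : Type*} [Field F] [Fintype F] {ι : Type} [Fintype ι] [DecidableEq ι]
variable (Q : QuadraticForm F (ι → F)) (σ : F ≃+* F)

omit [Fintype F] in
theorem twistForm_apply (h : GL ι F) (l : F) (v : ι → F) :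
    (l⁻¹ • Q.comp (Matrix.toLin' h.1)) v = l⁻¹ * Q (h.1 *ᵥ v) := by
  rw [QuadraticMap.smul_apply, QuadraticMap.comp_apply, Matrix.toLin'_apply, smul_eq_mul]

/-- the twisted form attached to a cocycle of norm one -/
theorem exists_twist (hQ : (polarBilin Q).Nondegenerate) (hne : ∃ v, Q v ≠ 0) (hσQ : SigEq σ Q)
    {r : ℕ} (hr : 0 < r) (hσ : orderOf σ = r)
    (g : GL ι F) (hg : g ∈ Sim ⇑Q) (hN : PN σ g r = 1) :
    ∃ (h : GL ι F) (l : F), l ≠ 0 ∧ g * glmap σ h = h ∧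
      (polarBilin (l⁻¹ • Q.comp (Matrix.toLin' h.1))).Nondegenerate ∧
      SigEq σ (l⁻¹ • Q.comp (Matrix.toLin' h.1)) := by
  obtain ⟨c, hc⟩ := hg
  have hσr : σ ^ r = 1 := by rw [← hσ, pow_orderOf_eq_one]
  have hNc : AutPSL.Nm σ r (c : F) = 1 := by
    obtain ⟨v, hv⟩ := hne
    have h1 := PN_mult Q σ hσQ g c hc r v
    rw [hN, hσr, Units.val_one] at h1
    have h2 : vmap (1 : F ≃+* F) v = v := rfl
    rw [h2, Matrix.one_mulVec, RingAut.one_apply] at h1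
    have h3 : (AutPSL.Nm σ r (c : F) - 1) * Q v = 0 := by linear_combination -h1
    rcases mul_eq_zero.1 h3 with h4 | h4
    · linear_combination h4
    · exact absurd h4 hv
  obtain ⟨l, hl0, hl⟩ := AutPSL.hilbert90_scalar σ hr hσ (c : F) hNc
  obtain ⟨h, hh⟩ := hilbert90_GLι σ hr hσ g hN
  have hσl : σ l ≠ 0 := (map_ne_zero σ).2 hl0
  refine ⟨h, l, hl0, hh, nondeg_smul_comp Q hQ h l⁻¹ (inv_ne_zero hl0), ?_⟩
  intro u
  rw [twistForm_apply, twistForm_apply]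
  have e1 : h.1 *ᵥ vmap σ u = g.1 *ᵥ vmap σ (h.1 *ᵥ u) := by
    conv_lhs => rw [← hh]
    rw [Units.val_mul, glmap_val, ← Matrix.mulVec_mulVec, map_mulVec_vmap]
  rw [e1, hc, hσQ, map_mul, map_inv₀]
  have hc' : (c : F) = l * (σ l)⁻¹ := (eq_mul_inv_iff_mul_eq₀ hσl).2 hl
  rw [hc']
  field_simp

omit [Fintype F] in
/-- Lang's theorem relative to a second cocycle: two cocycles whose twisted forms are similar
over the fixed field are cohomologous -/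
theorem rel_lang (g₁ g₂ h₁ h₂ k₀ : GL ι F) (hh₁ : g₁ * glmap σ h₁ = h₁)
    (hh₂ : g₂ * glmap σ h₂ = h₂) (hk₀ : glmap σ k₀ = k₀) (c : F) (hc : c ≠ 0)
    (hk : ∀ v, Q (h₁.1 *ᵥ (k₀.1 *ᵥ v)) = c * Q (h₂.1 *ᵥ v)) :
    h₁ * k₀ * h₂⁻¹ ∈ Sim ⇑Q ∧ g₁ * glmap σ (h₁ * k₀ * h₂⁻¹) = h₁ * k₀ * h₂⁻¹ * g₂ := by
  constructor
  · refine ⟨Units.mk0 c hc, fun v => ?_⟩
    rw [Units.val_mk0, Units.val_mul, Units.val_mul, ← Matrix.mulVec_mulVec,
      ← Matrix.mulVec_mulVec, hk, mulVec_inv_mulVec]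
  · have e1 : glmap σ h₁ = g₁⁻¹ * h₁ := by rw [eq_inv_mul_iff_mul_eq]; exact hh₁
    have e2 : glmap σ h₂ = g₂⁻¹ * h₂ := by rw [eq_inv_mul_iff_mul_eq]; exact hh₂
    rw [map_mul, map_mul, map_inv, e1, e2, hk₀]
    group

end twist

end

section

open Matrix QuadraticMap Module
open Cfsg.Agent.Lib.H11.ConfOrth
open Cfsg.Agent.Lib.H13 Cfsg.Agent.Lib.H13.HypPairs Cfsg.Agent.Lib.H13.PlusTS

section adjust

variable {F : Type*} [Field F] [Fintype F] {ι : Type} [Fintype ι] [DecidableEq ι]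
variable (Q : QuadraticForm F (ι → F)) (σ : F ≃+* F)
variable (hQ : (polarBilin Q).Nondegenerate) (hcard : 7 ≤ Fintype.card ι)

include hQ hcard in
/-- an element of the coset of the standard field automorphism whose `r`-th power is trivial is
represented by a cocycle of norm one -/
theorem exists_scalar_PN_one (hσQ : SigEq σ Q) {r : ℕ} (hr : 0 < r) (hσ : orderOf σ = r)
    (g₀ : ↥(Sim ⇑Q)) (hpow : (Phi ⇑Q g₀ * stdAut Q σ hσQ) ^ r = 1) :
    ∃ g₁ : ↥(Sim ⇑Q), Phi ⇑Q g₁ = Phi ⇑Q g₀ ∧ PN σ g₁.1 r = 1 := by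
  have hne := exists_neO Q hQ hcard
  have hσr : σ ^ r = 1 := by rw [← hσ, pow_orderOf_eq_one]
  rw [Phi_mul_stdAut, semiAut_pow] at hpow
  obtain ⟨-, hz⟩ := semi_ker_all Q hQ hcard _ _ _ hpow
  obtain ⟨c, hc⟩ := (mem_Zs_iff _).1 hz
  -- `c` is fixed by `σ`
  have hcσ : σ (c : F) = c := by
    have h1 := PN_succ_right σ g₀.1 r
    rw [PN_succ, hc, hσr] at h1
    have h3 : glmap (1 : F ≃+* F) g₀.1 = g₀.1 := glmap_refl _
    rw [h3] at h1
    have h4 : glmap σ (Matrix.GeneralLinearGroup.scalar ι c) =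
        Matrix.GeneralLinearGroup.scalar ι (Units.map (σ : F →* F) c) := by
      apply Units.ext
      rw [glmap_val, Matrix.GeneralLinearGroup.coe_scalar, Matrix.GeneralLinearGroup.coe_scalar]
      ext a b
      rw [Matrix.map_apply, Matrix.scalar_apply, Matrix.scalar_apply, Matrix.diagonal_apply,
        Matrix.diagonal_apply]
      split_ifs
      · rfl
      · exact map_zero σ
    rw [h4, ← Matrix.GeneralLinearGroup.scalar_commute] at h1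
    have h5 := mul_right_cancel h1
    have hne' : Nonempty ι := by
      rw [← Fintype.card_pos_iff]; omega
    obtain ⟨i⟩ := hne'
    have h6 := congrArg (fun M : GL ι F => (M : Matrix ι ι F) i i) h5
    simp only [Matrix.GeneralLinearGroup.coe_scalar, Matrix.scalar_apply,
      Matrix.diagonal_apply_eq] at h6
    exact h6
  -- adjust by a scalar
  have hc0 : ((c⁻¹ : Fˣ) : F) ≠ 0 := Units.ne_zero _
  have hcσ' : σ ((c⁻¹ : Fˣ) : F) = ((c⁻¹ : Fˣ) : F) := by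
    rw [Units.val_inv_eq_inv_val, map_inv₀, hcσ]
  obtain ⟨d, hd0, hd⟩ := AutPSL.Nm_surjective σ hr hσ _ hc0 hcσ'
  set du : Fˣ := Units.mk0 d hd0 with hdu
  have hdS : Matrix.GeneralLinearGroup.scalar ι du ∈ Sim ⇑Q :=
    Zs_le_sim' Q ((mem_Zs_iff _).2 ⟨du, rfl⟩)
  refine ⟨⟨Matrix.GeneralLinearGroup.scalar ι du, hdS⟩ * g₀, ?_, ?_⟩
  · rw [map_mul, Phi_scalarA Q hQ hcard, one_mul]
  · have h1 := PN_scalar_mul σ du g₀.1 r
    rw [Subgroup.coe_mul]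
    show PN σ (Matrix.GeneralLinearGroup.scalar ι du * g₀.1) r = 1
    rw [h1, hc, ← map_mul]
    have : Units.mk0 (AutPSL.Nm σ r (du : F)) (AutPSL.Nm_ne_zero σ r du.ne_zero) * c = 1 := by
      apply Units.ext
      rw [Units.val_mul, Units.val_mk0, hdu, Units.val_mk0, hd, Units.val_one,
        Units.inv_mul]
    rw [this, map_one]

end adjust

section gms

variable {F : Type*} [Field F] [Fintype F] {ι : Type} [Fintype ι] [DecidableEq ι]
variable (Q : QuadraticForm F (ι → F)) (σ : F ≃+* F) (hσQ : SigEq σ Q)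

include hσQ in
theorem glmap_mem_sim (k : ↥(Sim ⇑Q)) : glmap σ k.1 ∈ Sim ⇑Q := by
  have := conj_mem_sim ⇑Q (pair_one_of_sigEq Q σ hσQ) k
  rwa [one_mul, inv_one, mul_one] at this

/-- the entrywise action of `σ` on the similarity group of a form with coefficients fixed by `σ` -/
def gmS (k : ↥(Sim ⇑Q)) : ↥(Sim ⇑Q) := ⟨glmap σ k.1, glmap_mem_sim Q σ hσQ k⟩

theorem stdAut_mul_Phi' (k : ↥(Sim ⇑Q)) :
    stdAut Q σ hσQ * Phi ⇑Q k = Phi ⇑Q (gmS Q σ hσQ k) * stdAut Q σ hσQ := by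
  rw [stdAut_mul_Phi, Phi_mul_stdAut]
  rfl

theorem Phi_gmS (k : ↥(Sim ⇑Q)) :
    Phi ⇑Q (gmS Q σ hσQ k) = stdAut Q σ hσQ * Phi ⇑Q k * (stdAut Q σ hσQ)⁻¹ := by
  rw [stdAut_mul_Phi', mul_inv_cancel_right]

/-- from the cocycle relation to conjugacy of automorphisms -/
theorem conj_of_cocycle (g₁ ρ k : ↥(Sim ⇑Q)) (h : g₁.1 * glmap σ k.1 = k.1 * ρ.1) :
    Phi ⇑Q g₁ * stdAut Q σ hσQ =
      Phi ⇑Q k * (Phi ⇑Q ρ * stdAut Q σ hσQ) * (Phi ⇑Q k)⁻¹ := by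
  rw [eq_mul_inv_iff_mul_eq, mul_assoc, stdAut_mul_Phi', ← mul_assoc, ← map_mul, ← mul_assoc,
    ← map_mul]
  congr 2
  exact Subtype.ext h

end gms

end

section

open Matrix QuadraticMap Module
open Cfsg.Agent.Lib.H11.ConfOrth
open Cfsg.Agent.Lib.H13 Cfsg.Agent.Lib.H13.HypPairs Cfsg.Agent.Lib.H13.PlusTS

section trich

variable {F : Type*} [Field F] [Fintype F] {ι : Type} [Fintype ι] [DecidableEq ι]
variable (σ : F ≃+* F)

/-- the descent of the form is of plus type -/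
def DownPlus (d : ℕ) (Q : QuadraticForm F (ι → F)) (hσQ : SigEq σ Q) : Prop :=
  ∃ Φ : (ι → AutPSL.fixF σ) ≃ₗ[AutPSL.fixF σ] (Fin d ⊕ Fin d → AutPSL.fixF σ),
    ∀ v, down Q hσQ v = Cfsg.quadFormPlus d (AutPSL.fixF σ) (Φ v)

/-- the descent of the form is of minus type -/
def DownMinus (d : ℕ) (Q : QuadraticForm F (ι → F)) (hσQ : SigEq σ Q) : Prop :=
  ∃ ζ : AutPSL.fixF σ, (∀ t : AutPSL.fixF σ, t ^ 2 + t + ζ ≠ 0) ∧
    ∃ Φ : (ι → AutPSL.fixF σ) ≃ₗ[AutPSL.fixF σ] ((Fin (d - 1) ⊕ Fin (d - 1)) ⊕ Fin 2 → AutPSL.fixF σ),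
      ∀ v, down Q hσQ v = Cfsg.quadFormMinus (d - 1) (AutPSL.fixF σ) 1 ζ (Φ v)

theorem down_cases (d : ℕ) (hd : 1 ≤ d) (hcard : Fintype.card ι = 2 * d)
    (Q : QuadraticForm F (ι → F)) (hQ : (polarBilin Q).Nondegenerate) (hσQ : SigEq σ Q) :
    DownPlus σ d Q hσQ ∨ DownMinus σ d Q hσQ := by
  haveI : Fintype (AutPSL.fixF σ) := Fintype.ofFinite _
  have hfr : finrank (AutPSL.fixF σ) (ι → AutPSL.fixF σ) = 2 * d := by
    rw [Module.finrank_fintype_fun_eq_card, hcard]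
  exact MinusClass.classify (down Q hσQ) (down_nondeg Q hσQ hQ) (d := d) hd hfr

theorem fixSim_of_plus_plus (d : ℕ) (Q₁ Q₂ : QuadraticForm F (ι → F))
    (hσ₁ : SigEq σ Q₁) (hσ₂ : SigEq σ Q₂) (h₁ : DownPlus σ d Q₁ hσ₁) (h₂ : DownPlus σ d Q₂ hσ₂) :
    FixSim Q₁ σ Q₂ := by
  obtain ⟨Φ₁, hΦ₁⟩ := h₁
  obtain ⟨Φ₂, hΦ₂⟩ := h₂
  apply fixSim_of_down Q₁ σ hσ₁ Q₂ hσ₂ (Φ₁.trans Φ₂.symm) 1 one_ne_zero
  intro v
  rw [hΦ₂, LinearEquiv.trans_apply, LinearEquiv.apply_symm_apply, hΦ₁, one_mul]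

theorem fixSim_of_minus_minus (d : ℕ) (Q₁ Q₂ : QuadraticForm F (ι → F))
    (hσ₁ : SigEq σ Q₁) (hσ₂ : SigEq σ Q₂) (h₁ : DownMinus σ d Q₁ hσ₁)
    (h₂ : DownMinus σ d Q₂ hσ₂) : FixSim Q₁ σ Q₂ := by
  haveI : Fintype (AutPSL.fixF σ) := Fintype.ofFinite _
  obtain ⟨ζ₁, hζ₁, Φ₁, hΦ₁⟩ := h₁
  obtain ⟨ζ₂, hζ₂, Φ₂, hΦ₂⟩ := h₂
  obtain ⟨L₀, hL₀⟩ := minus_iso (m := d - 1) (1 : AutPSL.fixF σ) ζ₂ 1 ζ₁ (aniso_of_as ζ₂ hζ₂)
    (aniso_of_as ζ₁ hζ₁)
  apply fixSim_of_down Q₁ σ hσ₁ Q₂ hσ₂ (Φ₁.trans ((Char2Mat.toEquiv L₀).trans Φ₂.symm)) 1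
    one_ne_zero
  intro v
  rw [hΦ₂, LinearEquiv.trans_apply, LinearEquiv.trans_apply, LinearEquiv.apply_symm_apply,
    Char2Mat.toEquiv_apply, hL₀, hΦ₁, one_mul]

/-- among three non-degenerate forms fixed by `σ` two are similar over the fixed field -/
theorem fixSim_trichotomy (d : ℕ) (hd : 1 ≤ d) (hcard : Fintype.card ι = 2 * d)
    (Q₁ Q₂ Q₃ : QuadraticForm F (ι → F))
    (hQ₁ : (polarBilin Q₁).Nondegenerate) (hQ₂ : (polarBilin Q₂).Nondegenerate)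
    (hQ₃ : (polarBilin Q₃).Nondegenerate)
    (hσ₁ : SigEq σ Q₁) (hσ₂ : SigEq σ Q₂) (hσ₃ : SigEq σ Q₃) :
    FixSim Q₁ σ Q₂ ∨ FixSim Q₁ σ Q₃ ∨ FixSim Q₂ σ Q₃ := by
  rcases down_cases σ d hd hcard Q₁ hQ₁ hσ₁ with p₁ | m₁ <;>
  rcases down_cases σ d hd hcard Q₂ hQ₂ hσ₂ with p₂ | m₂ <;>
  rcases down_cases σ d hd hcard Q₃ hQ₃ hσ₃ with p₃ | m₃
  · exact Or.inl (fixSim_of_plus_plus σ d Q₁ Q₂ hσ₁ hσ₂ p₁ p₂)
  · exact Or.inl (fixSim_of_plus_plus σ d Q₁ Q₂ hσ₁ hσ₂ p₁ p₂)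
  · exact Or.inr (Or.inl (fixSim_of_plus_plus σ d Q₁ Q₃ hσ₁ hσ₃ p₁ p₃))
  · exact Or.inr (Or.inr (fixSim_of_minus_minus σ d Q₂ Q₃ hσ₂ hσ₃ m₂ m₃))
  · exact Or.inr (Or.inr (fixSim_of_plus_plus σ d Q₂ Q₃ hσ₂ hσ₃ p₂ p₃))
  · exact Or.inr (Or.inl (fixSim_of_minus_minus σ d Q₁ Q₃ hσ₁ hσ₃ m₁ m₃))
  · exact Or.inl (fixSim_of_minus_minus σ d Q₁ Q₂ hσ₁ hσ₂ m₁ m₂)
  · exact Or.inl (fixSim_of_minus_minus σ d Q₁ Q₂ hσ₁ hσ₂ m₁ m₂)

end trich

end

section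

open Matrix QuadraticMap Module
open Cfsg.Agent.Lib.H11.ConfOrth
open Cfsg.Agent.Lib.H13 Cfsg.Agent.Lib.H13.HypPairs Cfsg.Agent.Lib.H13.PlusTS

section grp

variable {G : Type*} [Group G] (A S : Subgroup G) [A.Normal] (φ b : G)

theorem comm_core (hb : φ * b = b * φ) (hbS : b ∈ S)
    (hdich : ∀ a ∈ S, a ∈ A ∨ a * b ∈ A) (a : G) (ha : a ∈ S) :
    a * φ * a⁻¹ * φ⁻¹ ∈ A := by
  have key : ∀ a ∈ A, a * φ * a⁻¹ * φ⁻¹ ∈ A := by
    intro a ha
    have h1 : φ * a⁻¹ * φ⁻¹ ∈ A := Subgroup.Normal.conj_mem inferInstance _ (A.inv_mem ha) φ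
    have := A.mul_mem ha h1
    have e : a * (φ * a⁻¹ * φ⁻¹) = a * φ * a⁻¹ * φ⁻¹ := by group
    rwa [e] at this
  rcases hdich a ha with h | h
  · exact key a h
  · have := key _ h
    have e : a * b * φ * (a * b)⁻¹ * φ⁻¹ = a * (b * φ) * b⁻¹ * a⁻¹ * φ⁻¹ := by group
    rw [e, ← hb] at this
    have e2 : a * (φ * b) * b⁻¹ * a⁻¹ * φ⁻¹ = a * φ * a⁻¹ * φ⁻¹ := by group
    rwa [e2] at this

theorem cocycle_core (hb : φ * b = b * φ) (hbS : b ∈ S) (hbA : b ∉ A)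
    (hdich : ∀ a ∈ S, a ∈ A ∨ a * b ∈ A) (g : G)
    (h : (∃ a ∈ S, g * φ = a * φ * a⁻¹) ∨ (∃ a ∈ S, g * φ = a * (b * φ) * a⁻¹)) :
    (g ∈ A → ∃ a ∈ S, a ∈ A ∧ g * φ = a * φ * a⁻¹) ∧
      (g ∉ A → ∃ a ∈ S, a ∈ A ∧ g * φ = a * (b * φ) * a⁻¹) := by
  rcases h with ⟨a, haS, ha⟩ | ⟨a, haS, ha⟩
  · have hg : g = a * φ * a⁻¹ * φ⁻¹ := by rw [← ha]; group
    have hgA : g ∈ A := by rw [hg]; exact comm_core A S φ b hb hbS hdich a haS
    refine ⟨fun _ => ?_, fun h => absurd hgA h⟩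
    rcases hdich a haS with h1 | h1
    · exact ⟨a, haS, h1, ha⟩
    · refine ⟨a * b, S.mul_mem haS hbS, h1, ?_⟩
      rw [ha]
      have e : a * b * φ * (a * b)⁻¹ = a * (b * φ) * b⁻¹ * a⁻¹ := by group
      rw [e, ← hb]
      group
  · have hg : g = a * b * a⁻¹ * (a * φ * a⁻¹ * φ⁻¹) := by
      have : g = a * (b * φ) * a⁻¹ * φ⁻¹ := by rw [← ha]; group
      rw [this]; group
    have hc := comm_core A S φ b hb hbS hdich a haS
    have hgA : g ∉ A := by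
      intro hgA
      apply hbA
      have h1 : a * b * a⁻¹ ∈ A := by
        have := A.mul_mem hgA (A.inv_mem hc)
        rw [hg] at this
        have e : a * b * a⁻¹ * (a * φ * a⁻¹ * φ⁻¹) * (a * φ * a⁻¹ * φ⁻¹)⁻¹ = a * b * a⁻¹ := by
          group
        rwa [e] at this
      have h2 := Subgroup.Normal.conj_mem inferInstance _ h1 a⁻¹
      have e : a⁻¹ * (a * b * a⁻¹) * a⁻¹⁻¹ = b := by group
      rwa [e] at h2
    refine ⟨fun h => absurd h hgA, fun _ => ?_⟩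
    rcases hdich a haS with h1 | h1
    · exact ⟨a, haS, h1, ha⟩
    · refine ⟨a * b, S.mul_mem haS hbS, h1, ?_⟩
      rw [ha]
      have e0 : b * (b * φ) * b⁻¹ = b * φ := by
        conv_lhs => rw [← hb]
        group
      calc a * (b * φ) * a⁻¹ = a * (b * (b * φ) * b⁻¹) * a⁻¹ := by rw [e0]
        _ = a * b * (b * φ) * (a * b)⁻¹ := by group

end grp

section cocycle2

variable {F : Type*} [Field F] [Fintype F] {ι : Type} [Fintype ι] [DecidableEq ι]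
variable (Q : QuadraticForm F (ι → F)) (σ : F ≃+* F)
variable (hQ : (polarBilin Q).Nondegenerate) (hcard : 7 ≤ Fintype.card ι)

include hQ hcard in
/-- a cocycle of norm one for an involutory field automorphism is cohomologous to the trivial
cocycle or to the given cocycle `ρ` -/
theorem cocycle_alt (hσQ : SigEq σ Q) (hσ : orderOf σ = 2) {d : ℕ} (hd : 1 ≤ d)
    (hc : Fintype.card ι = 2 * d)
    (ρ : ↥(Sim ⇑Q)) (hρσ : glmap σ ρ.1 = ρ.1) (hρ2 : ρ.1 * ρ.1 = 1)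
    (hρno : ∀ k : ↥(Sim ⇑Q), ρ.1 * glmap σ k.1 ≠ k.1)
    (g₁ : ↥(Sim ⇑Q)) (hN : PN σ g₁.1 2 = 1) :
    (∃ k : ↥(Sim ⇑Q), g₁.1 * glmap σ k.1 = k.1) ∨
      (∃ k : ↥(Sim ⇑Q), g₁.1 * glmap σ k.1 = k.1 * ρ.1) := by
  have hne := exists_neO Q hQ hcard
  have hNρ : PN σ ρ.1 2 = 1 := by
    rw [PN_succ, PN_succ, PN_zero, map_one, mul_one, hρσ, hρ2]
  obtain ⟨hg, lg, hlg, hhg, hndg, hσg⟩ :=
    exists_twist Q σ hQ hne hσQ (by norm_num) hσ g₁.1 g₁.2 hN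
  obtain ⟨hr, lr, hlr, hhr, hndr, hσr⟩ :=
    exists_twist Q σ hQ hne hσQ (by norm_num) hσ ρ.1 ρ.2 hNρ
  have h11 : (1 : GL ι F) * glmap σ 1 = 1 := by rw [map_one, mul_one]
  rcases fixSim_trichotomy σ d hd hc Q _ _ hQ hndr hndg hσQ hσr hσg with
    ⟨k₀, c₀, hc₀, hk₀σ, hk₀⟩ | ⟨k₀, c₀, hc₀, hk₀σ, hk₀⟩ | ⟨k₀, c₀, hc₀, hk₀σ, hk₀⟩
  · exfalso
    have hk : ∀ v, Q (hr.1 *ᵥ (k₀.1 *ᵥ v)) = (lr * c₀) * Q ((1 : GL ι F).1 *ᵥ v) := by
      intro v
      have := hk₀ v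
      rw [twistForm_apply] at this
      rw [Units.val_one, Matrix.one_mulVec, mul_assoc, ← this, ← mul_assoc, mul_inv_cancel₀ hlr,
        one_mul]
    obtain ⟨hS, hrel⟩ := rel_lang Q σ ρ.1 1 hr 1 k₀ hhr h11 hk₀σ (lr * c₀)
      (mul_ne_zero hlr hc₀) hk
    rw [mul_one] at hrel
    exact hρno ⟨_, hS⟩ hrel
  · left
    have hk : ∀ v, Q (hg.1 *ᵥ (k₀.1 *ᵥ v)) = (lg * c₀) * Q ((1 : GL ι F).1 *ᵥ v) := by
      intro v
      have := hk₀ v
      rw [twistForm_apply] at this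
      rw [Units.val_one, Matrix.one_mulVec, mul_assoc, ← this, ← mul_assoc, mul_inv_cancel₀ hlg,
        one_mul]
    obtain ⟨hS, hrel⟩ := rel_lang Q σ g₁.1 1 hg 1 k₀ hhg h11 hk₀σ (lg * c₀)
      (mul_ne_zero hlg hc₀) hk
    rw [mul_one] at hrel
    exact ⟨⟨_, hS⟩, hrel⟩
  · right
    have hk : ∀ v, Q (hg.1 *ᵥ (k₀.1 *ᵥ v)) = (lg * c₀ * lr⁻¹) * Q (hr.1 *ᵥ v) := by
      intro v
      have := hk₀ v
      rw [twistForm_apply, twistForm_apply] at this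
      have e : Q (hg.1 *ᵥ (k₀.1 *ᵥ v)) = lg * (lg⁻¹ * Q (hg.1 *ᵥ (k₀.1 *ᵥ v))) := by
        rw [← mul_assoc, mul_inv_cancel₀ hlg, one_mul]
      rw [e, this]
      ring
    obtain ⟨hS, hrel⟩ := rel_lang Q σ g₁.1 ρ.1 hg hr k₀ hhg hhr hk₀σ (lg * c₀ * lr⁻¹)
      (mul_ne_zero (mul_ne_zero hlg hc₀) (inv_ne_zero hlr)) hk
    exact ⟨⟨_, hS⟩, hrel⟩

end cocycle2

end

section

open Matrix QuadraticMap Module
open Cfsg.Agent.Lib.H11.ConfOrth
open Cfsg.Agent.Lib.H13 Cfsg.Agent.Lib.H13.HypPairs Cfsg.Agent.Lib.H13.PlusTS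

section cosettwo

variable {F : Type*} [Field F] [Fintype F] {ι : Type} [Fintype ι] [DecidableEq ι]
variable (Q : QuadraticForm F (ι → F)) (σ : F ≃+* F)
variable (hQ : (polarBilin Q).Nondegenerate) (hcard : 7 ≤ Fintype.card ι)

include hQ hcard in
/-- involutory field automorphism: the elements of order two in the cosets of the standard field
automorphism and of the graph-field automorphism -/
theorem coset_conj_two (hσQ : SigEq σ Q) (hσ : orderOf σ = 2) {d : ℕ} (hd : 1 ≤ d)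
    (hc : Fintype.card ι = 2 * d)
    (A : Subgroup (MulAut (Cfsg.POmega F ⇑Q))) [A.Normal]
    (ρ : ↥(Sim ⇑Q)) (hρσ : glmap σ ρ.1 = ρ.1) (hρ2 : ρ.1 * ρ.1 = 1) (hρA : Phi ⇑Q ρ ∉ A)
    (hdich : ∀ k : ↥(Sim ⇑Q), Phi ⇑Q k ∈ A ∨ Phi ⇑Q (k * ρ) ∈ A)
    (g₀ : ↥(Sim ⇑Q)) (hpow : (Phi ⇑Q g₀ * stdAut Q σ hσQ) ^ 2 = 1) :
    (Phi ⇑Q g₀ ∈ A → ∃ a ∈ (Phi ⇑Q).range, a ∈ A ∧
        Phi ⇑Q g₀ * stdAut Q σ hσQ = a * stdAut Q σ hσQ * a⁻¹) ∧
      (Phi ⇑Q g₀ ∉ A → ∃ a ∈ (Phi ⇑Q).range, a ∈ A ∧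
        Phi ⇑Q g₀ * stdAut Q σ hσQ = a * (Phi ⇑Q ρ * stdAut Q σ hσQ) * a⁻¹) := by
  have hb : stdAut Q σ hσQ * Phi ⇑Q ρ = Phi ⇑Q ρ * stdAut Q σ hσQ :=
    Phi_comm_of_fixed Q σ hσQ ρ hρσ
  have hbS : Phi ⇑Q ρ ∈ (Phi ⇑Q).range := ⟨ρ, rfl⟩
  have hdich' : ∀ a ∈ (Phi ⇑Q).range, a ∈ A ∨ a * Phi ⇑Q ρ ∈ A := by
    rintro _ ⟨k, rfl⟩
    rw [← map_mul]
    exact hdich k
  obtain ⟨g₁, hg₁, hN⟩ := exists_scalar_PN_one Q σ hQ hcard hσQ (by norm_num) hσ g₀ hpow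
  have hρno : ∀ k : ↥(Sim ⇑Q), ρ.1 * glmap σ k.1 ≠ k.1 := by
    intro k hk
    apply hρA
    have h1 : ρ.1 * glmap σ k.1 = k.1 * (1 : ↥(Sim ⇑Q)).1 := by
      rw [hk, Subgroup.coe_one, mul_one]
    have h2 := conj_of_cocycle Q σ hσQ ρ 1 k h1
    rw [map_one, one_mul] at h2
    have h3 : Phi ⇑Q ρ = Phi ⇑Q k * stdAut Q σ hσQ * (Phi ⇑Q k)⁻¹ * (stdAut Q σ hσQ)⁻¹ := by
      rw [← h2]; group
    rw [h3]
    exact comm_core A (Phi ⇑Q).range _ _ hb hbS hdich' _ ⟨k, rfl⟩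
  rw [← hg₁]
  apply cocycle_core A (Phi ⇑Q).range _ _ hb hbS hρA hdich'
  rcases cocycle_alt Q σ hQ hcard hσQ hσ hd hc ρ hρσ hρ2 hρno g₁ hN with ⟨k, hk⟩ | ⟨k, hk⟩
  · left
    refine ⟨Phi ⇑Q k, ⟨k, rfl⟩, ?_⟩
    have h1 : g₁.1 * glmap σ k.1 = k.1 * (1 : ↥(Sim ⇑Q)).1 := by
      rw [hk, Subgroup.coe_one, mul_one]
    have h2 := conj_of_cocycle Q σ hσQ g₁ 1 k h1
    rwa [map_one, one_mul] at h2
  · right
    exact ⟨Phi ⇑Q k, ⟨k, rfl⟩, conj_of_cocycle Q σ hσQ g₁ ρ k hk⟩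

include hQ hcard in
/-- the field automorphism part -/
theorem coset_conj_two_field (hσQ : SigEq σ Q) (hσ : orderOf σ = 2) {d : ℕ} (hd : 1 ≤ d)
    (hc : Fintype.card ι = 2 * d)
    (A : Subgroup (MulAut (Cfsg.POmega F ⇑Q))) [A.Normal] (hA : A ≤ (Phi ⇑Q).range)
    (ρ : ↥(Sim ⇑Q)) (hρσ : glmap σ ρ.1 = ρ.1) (hρ2 : ρ.1 * ρ.1 = 1) (hρA : Phi ⇑Q ρ ∉ A)
    (hdich : ∀ k : ↥(Sim ⇑Q), Phi ⇑Q k ∈ A ∨ Phi ⇑Q (k * ρ) ∈ A)
    (δ₀ : MulAut (Cfsg.POmega F ⇑Q)) (hδ₀ : δ₀ ∈ A) (hpow : (δ₀ * stdAut Q σ hσQ) ^ 2 = 1) :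
    ∃ a ∈ A, δ₀ * stdAut Q σ hσQ = a * stdAut Q σ hσQ * a⁻¹ := by
  obtain ⟨g₀, rfl⟩ := hA hδ₀
  obtain ⟨a, -, haA, ha⟩ := (coset_conj_two Q σ hQ hcard hσQ hσ hd hc A ρ hρσ hρ2 hρA hdich g₀
    hpow).1 hδ₀
  exact ⟨a, haA, ha⟩

include hQ hcard in
/-- the graph-field automorphism part -/
theorem coset_conj_two_graph (hσQ : SigEq σ Q) (hσ : orderOf σ = 2) {d : ℕ} (hd : 1 ≤ d)
    (hc : Fintype.card ι = 2 * d)
    (A : Subgroup (MulAut (Cfsg.POmega F ⇑Q))) [A.Normal] (hA : A ≤ (Phi ⇑Q).range)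
    (ρ : ↥(Sim ⇑Q)) (hρσ : glmap σ ρ.1 = ρ.1) (hρ2 : ρ.1 * ρ.1 = 1) (hρA : Phi ⇑Q ρ ∉ A)
    (hdich : ∀ k : ↥(Sim ⇑Q), Phi ⇑Q k ∈ A ∨ Phi ⇑Q (k * ρ) ∈ A)
    (δ₀ : MulAut (Cfsg.POmega F ⇑Q)) (hδ₀ : δ₀ ∈ A)
    (hpow : (δ₀ * (Phi ⇑Q ρ * stdAut Q σ hσQ)) ^ 2 = 1) :
    ∃ a ∈ A, δ₀ * (Phi ⇑Q ρ * stdAut Q σ hσQ) = a * (Phi ⇑Q ρ * stdAut Q σ hσQ) * a⁻¹ := by
  obtain ⟨g₀, rfl⟩ := hA hδ₀
  have hnot : Phi ⇑Q (g₀ * ρ) ∉ A := by
    intro h
    apply hρA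
    rw [map_mul] at h
    have := A.mul_mem (A.inv_mem hδ₀) h
    rwa [inv_mul_cancel_left] at this
  have hpow' : (Phi ⇑Q (g₀ * ρ) * stdAut Q σ hσQ) ^ 2 = 1 := by
    rw [map_mul, mul_assoc]
    exact hpow
  obtain ⟨a, -, haA, ha⟩ := (coset_conj_two Q σ hQ hcard hσQ hσ hd hc A ρ hρσ hρ2 hρA hdich
    (g₀ * ρ) hpow').2 hnot
  refine ⟨a, haA, ?_⟩
  rw [← ha, map_mul, mul_assoc]

end cosettwo

end

section

open Matrix QuadraticMap Module
open Cfsg.Agent.Lib.H11.ConfOrth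
open Cfsg.Agent.Lib.H13 Cfsg.Agent.Lib.H13.HypPairs Cfsg.Agent.Lib.H13.PlusTS

section plusbasic

variable {F : Type*} [Field F] {m : ℕ}

theorem sigEq_plus (σ : F ≃+* F) : SigEq σ (plusQF F m) := by
  intro v
  rw [plusQF_apply, plusQF_apply]
  exact quadFormPlus_map m (σ : F →+* F) v

theorem down_plus (σ : F ≃+* F) (hσQ : SigEq σ (plusQF F m))
    (v : Fin m ⊕ Fin m → AutPSL.fixF σ) :
    down (plusQF F m) hσQ v = plusQF (AutPSL.fixF σ) m v := by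
  apply Subtype.ext
  rw [down_apply, plusQF_apply, plusQF_apply]
  exact quadFormPlus_map m (AutPSL.fixF σ).subtype v

end plusbasic

section anisoup

variable {F : Type*} [Field F] [Fintype F]

/-- an Artin–Schreier polynomial without roots in the fixed field of an automorphism of odd order
has no roots -/
theorem as_up_odd (σ : F ≃+* F) {r : ℕ} (hr : Odd r) (hσ : orderOf σ = r) (ζ : AutPSL.fixF σ)
    (hζ : ∀ t : AutPSL.fixF σ, t ^ 2 + t + ζ ≠ 0) : ∀ t : F, t ^ 2 + t + (ζ : F) ≠ 0 := by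
  intro t ht
  have hζσ : σ (ζ : F) = ζ := (AutPSL.mem_fixF_iff σ _).1 ζ.2
  have hnf : σ t ≠ t := by
    intro h
    apply hζ ⟨t, (AutPSL.mem_fixF_iff σ t).2 h⟩
    apply Subtype.ext
    simp only [Subfield.coe_add, SubmonoidClass.coe_pow, ZeroMemClass.coe_zero]
    exact ht
  have h1 : σ t ^ 2 + σ t + (ζ : F) = 0 := by
    have := congrArg σ ht
    rwa [map_add, map_add, map_pow, hζσ, map_zero] at this
  have h2 : (σ t - t) * (σ t + t + 1) = 0 := by linear_combination h1 - ht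
  have h3 : σ t = -1 - t := by
    rcases mul_eq_zero.1 h2 with h | h
    · exact absurd (sub_eq_zero.1 h) hnf
    · linear_combination h
  have h4 : σ (σ t) = t := by
    rw [h3, map_sub, map_neg, map_one, h3]; ring
  have h5 : ∀ j : ℕ, (σ ^ (2 * j)) t = t := by
    intro j
    induction j with
    | zero => rfl
    | succ j ih =>
      have : σ ^ (2 * (j + 1)) = σ ^ (2 * j) * (σ * σ) := by
        rw [mul_add, pow_add, mul_one, pow_two]
      rw [this, RingAut.mul_apply, RingAut.mul_apply, h4, ih]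
  obtain ⟨j, hj⟩ := hr
  have h6 : (σ ^ r) t = σ t := by
    rw [hj, pow_succ', RingAut.mul_apply, h5]
  have h7 : σ ^ r = 1 := by rw [← hσ, pow_orderOf_eq_one]
  rw [h7] at h6
  exact hnf h6.symm

end anisoup

section minusdown

variable {F : Type*} [Field F] [Fintype F] {ι : Type} [Fintype ι] [DecidableEq ι]
variable {σ : F ≃+* F}

/-- if the descended form is of minus type with a binary part that stays anisotropic, the totally
singular subspaces of the form have dimension less than half the dimension -/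
theorem ts_le_of_minus_down (Q' : QuadraticForm F (ι → F)) (hσQ' : SigEq σ Q') (d : ℕ)
    (ζ : AutPSL.fixF σ) (hζF : ∀ t : F, t ^ 2 + t + (ζ : F) ≠ 0)
    (Φ : (ι → AutPSL.fixF σ) ≃ₗ[AutPSL.fixF σ] ((Fin d ⊕ Fin d) ⊕ Fin 2 → AutPSL.fixF σ))
    (hΦ : ∀ v, down Q' hσQ' v = Cfsg.quadFormMinus d (AutPSL.fixF σ) 1 ζ (Φ v))
    (U : Submodule F (ι → F)) (hU : ∀ x ∈ U, Q' x = 0) : finrank F U ≤ d := by
  have hcard : Fintype.card ι = Fintype.card ((Fin d ⊕ Fin d) ⊕ Fin 2) := by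
    have h1 := Φ.finrank_eq
    rwa [Module.finrank_fintype_fun_eq_card, Module.finrank_fintype_fun_eq_card] at h1
  set e : ι ≃ (Fin d ⊕ Fin d) ⊕ Fin 2 := Fintype.equivOfCardEq hcard with he
  set T₀ : (ι → AutPSL.fixF σ) ≃ₗ[AutPSL.fixF σ] (ι → AutPSL.fixF σ) :=
    Φ.trans (LinearEquiv.funCongrLeft (AutPSL.fixF σ) (AutPSL.fixF σ) e) with hT₀
  set k : GL ι F := upGL (glOfEquiv T₀) with hk
  have hQk : ∀ x : ι → F, Q' x = Cfsg.quadFormMinus d F 1 (ζ : F) ((k.1 *ᵥ x) ∘ e.symm) := by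
    set P : QuadraticForm F (ι → F) :=
      Cfsg.Agent.Lib.H11.IsoReindex.trQF e.symm (minusQF F d 1 (ζ : F)) with hP
    have hPv : ∀ x : ι → F, P x = Cfsg.quadFormMinus d F 1 (ζ : F) (x ∘ e.symm) := by
      intro x
      rw [hP]
      show minusQF F d 1 (ζ : F) (x ∘ e.symm) = _
      rw [minusQF_apply]
    have hQP : Q' = P.comp (Matrix.toLin' k.1) := by
      apply qf_ext_of_upV (σ := σ)
      intro v
      rw [QuadraticMap.comp_apply, Matrix.toLin'_apply, hk, upGL_mulVec, glOfEquiv_mulVec, hPv,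
        ← down_apply Q' hσQ', hΦ]
      have e1 : (upV σ (T₀ v)) ∘ e.symm = fun j => (AutPSL.fixF σ).subtype (Φ v j) := by
        funext j
        rw [hT₀]
        simp [upV, LinearEquiv.funCongrLeft]
      rw [e1]
      have := quadFormMinus_map d (AutPSL.fixF σ).subtype 1 ζ (Φ v)
      rw [map_one] at this
      exact this.symm
    intro x
    rw [hQP, QuadraticMap.comp_apply, Matrix.toLin'_apply, hPv]
  set Ψ : (ι → F) ≃ₗ[F] ((Fin d ⊕ Fin d) ⊕ Fin 2 → F) :=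
    (Char2Mat.toEquiv k).trans (LinearEquiv.funCongrLeft F F e.symm) with hΨ
  have hts : ∀ y ∈ U.map (Ψ : (ι → F) →ₗ[F] ((Fin d ⊕ Fin d) ⊕ Fin 2 → F)),
      minusQF F d 1 (ζ : F) y = 0 := by
    rintro _ ⟨x, hx, rfl⟩
    rw [minusQF_apply]
    have := hQk x
    rw [hU x hx] at this
    rw [this]
    congr 1
  have h3 := no_ts_minus d 1 (ζ : F) (aniso_of_as _ hζF) _ hts
  rwa [LinearEquiv.finrank_map_eq] at h3

end minusdown

section fixsimplus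

variable {F : Type*} [Field F] [Fintype F] {m : ℕ}

/-- the classification hypothesis of `lang_GO` for the plus-type form and a field automorphism of
odd order -/
theorem fixSim_plus_odd (hm : 1 ≤ m) (σ : F ≃+* F) {r : ℕ} (hr : Odd r) (hσ : orderOf σ = r)
    (Q' : QuadraticForm F (Fin m ⊕ Fin m → F)) (hQ' : (polarBilin Q').Nondegenerate)
    (hσQ' : SigEq σ Q')
    (hsim : ∃ (h : GL (Fin m ⊕ Fin m) F) (l : F), l ≠ 0 ∧
      ∀ v, Q' v = l * plusQF F m (h.1 *ᵥ v)) :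
    FixSim (plusQF F m) σ Q' := by
  have hcard : Fintype.card (Fin m ⊕ Fin m) = 2 * m := by simp; ring
  have hP : DownPlus σ m (plusQF F m) (sigEq_plus σ) := by
    refine ⟨LinearEquiv.refl _ _, fun v => ?_⟩
    rw [down_plus, plusQF_apply]
    rfl
  rcases down_cases σ m hm hcard Q' hQ' hσQ' with hp | ⟨ζ, hζ, Φ, hΦ⟩
  · exact fixSim_of_plus_plus σ m _ _ _ _ hP hp
  · exfalso
    obtain ⟨h, l, hl, hQh⟩ := hsim
    -- a totally singular subspace of dimension `m`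
    set U : Submodule F (Fin m ⊕ Fin m → F) :=
      (PlusTS.U0 F m).map ((Char2Mat.toEquiv h⁻¹ : (Fin m ⊕ Fin m → F) ≃ₗ[F] (Fin m ⊕ Fin m → F)) :
        (Fin m ⊕ Fin m → F) →ₗ[F] (Fin m ⊕ Fin m → F)) with hU
    have hUts : ∀ x ∈ U, Q' x = 0 := by
      rintro _ ⟨u, hu, rfl⟩
      rw [hQh, LinearEquiv.coe_coe, Char2Mat.toEquiv_apply, mulVec_inv_mulVec, PlusTS.U0_ts u hu,
        mul_zero]
    have hUfin : finrank F U = m := by
      rw [hU, LinearEquiv.finrank_map_eq, PlusTS.finrank_U0]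
    have := ts_le_of_minus_down Q' hσQ' (m - 1) ζ (as_up_odd σ hr hσ ζ hζ) Φ hΦ U hUts
    omega

end fixsimplus

end

section

open Matrix QuadraticMap Module
open Cfsg.Agent.Lib.H11.ConfOrth
open Cfsg.Agent.Lib.H13 Cfsg.Agent.Lib.H13.HypPairs Cfsg.Agent.Lib.H13.PlusTS

section plusodd

variable {F : Type*} [Field F] [Fintype F] {m : ℕ}

local notation "KK" => (Fin m ⊕ Fin m)

/-- `Inndiag` of the plus-type group in odd characteristic is the image of the kernel of `delta` -/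
theorem inndiag_plus_eq_odd (h2 : (2 : F) ≠ 0) (hne : ∃ v, plusQF F m v ≠ 0) :
    Cfsg.autSubgroupOf (fun β : Cfsg.POmega F ⇑(plusQF F m) ≃* Cfsg.POmega F ⇑(plusQF F m) =>
      ∃ g : GL KK F, g ∈ Cfsg.Geo.quadSimilarityGroup (F := F) ⇑(plusQF F m) ∧
        Cfsg.PreservesSingularClasses ⇑(plusQF F m) (g : Matrix KK KK F) ∧
        Cfsg.IsInducedBySemilinearPOmega ⇑(plusQF F m) g (RingEquiv.refl F) β) =
      (DD (plusQF F m) m hne).map (Phi ⇑(plusQF F m)) := by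
  unfold Cfsg.autSubgroupOf
  apply closure_image_eq_map
  intro β
  constructor
  · rintro ⟨g, hg, hpres, hind⟩
    exact ⟨⟨g, hg⟩, (mem_DD _ m hne _).2 ((pres_iff h2 hne ⟨g, hg⟩).1 hpres),
      (induced_iff _ g hg β).1 hind⟩
  · rintro ⟨g, hgD, rfl⟩
    exact ⟨g.1, g.2, (pres_iff h2 hne g).2 ((mem_DD _ m hne _).1 hgD),
      (induced_iff _ g.1 g.2 _).2 rfl⟩

end plusodd

section plustwo

variable {F : Type*} [Field F] [Fintype F] [CharP F 2] {m : ℕ}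

local notation "KK" => (Fin m ⊕ Fin m)

theorem pres_iso2' (h : Fintype.card F ≠ 2 ∨ m ≠ 2)
    (g : ↥(Cfsg.isometryGroup F ⇑(plusQF F m))) :
    Cfsg.PreservesSingularClasses ⇑(plusQF F m) ((g : GL KK F) : Matrix KK KK F) ↔
      g ∈ Cfsg.Omega F ⇑(plusQF F m) := by
  have key : ∀ (Q₀ : (KK → F) → F), Q₀ = Cfsg.quadFormPlus m F →
      ∀ g : ↥(Cfsg.isometryGroup F Q₀),
        Cfsg.PreservesSingularClasses ⇑(plusQF F m) ((g : GL KK F) : Matrix KK KK F) ↔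
          g ∈ Cfsg.Omega F Q₀ := by
    rintro Q₀ rfl g
    exact pres_iso2 h g
  exact key _ (Cfsg.Agent.S0287.coe_plusQF m) g

/-- characteristic two: a similarity of the hyperbolic form preserves the two classes iff it
induces an inner automorphism -/
theorem presPlus_iff_inn (hm : 4 ≤ m) (g : ↥(Sim ⇑(plusQF F m))) :
    Cfsg.PreservesSingularClasses ⇑(plusQF F m) ((g.1 : GL KK F) : Matrix KK KK F) ↔
      Phi ⇑(plusQF F m) g ∈ Cfsg.Inn (Cfsg.POmega F ⇑(plusQF F m)) := by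
  have hQ : (polarBilin (plusQF F m)).Nondegenerate := Cfsg.Agent.S0287.nondeg (F := F) m
  have hcard : Fintype.card KK = 2 * m := card_plus
  have hc7 : 7 ≤ Fintype.card KK := by rw [hcard]; omega
  obtain ⟨c, s, hs, hg⟩ := sim_eq_scalar_mul2 (plusQF F m) hQ hc7 g
  have hcS : Matrix.GeneralLinearGroup.scalar KK c ∈ Sim ⇑(plusQF F m) :=
    Zs_le_sim' _ ((mem_Zs_iff _).2 ⟨c, rfl⟩)
  have hg' : g = ⟨Matrix.GeneralLinearGroup.scalar KK c, hcS⟩ *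
      Subgroup.inclusion (iso_le_sim ⇑(plusQF F m)) ⟨s, hs⟩ := Subtype.ext hg
  have hPhi : Phi ⇑(plusQF F m) g = PhiO (plusQF F m) ⟨s, hs⟩ := by
    rw [hg', map_mul, Phi_scalarA _ hQ hc7, one_mul]
    rfl
  rw [hPhi, mem_inn_iff2 _ hQ hc7, ← pres_iso2' (Or.inr (by omega)) ⟨s, hs⟩]
  have hmat : ((g.1 : GL KK F) : Matrix KK KK F) = (c : F) • (s : Matrix KK KK F) := by
    rw [hg, Units.val_mul, Matrix.GeneralLinearGroup.coe_scalar]
    ext i j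
    simp [Matrix.scalar_apply, Matrix.diagonal_mul]
  rw [hmat]
  exact pres_smul _ _ c.ne_zero _

/-- `Inndiag` of the plus-type group in characteristic two is `Inn` -/
theorem inndiag_plus_eq_two (hm : 4 ≤ m) :
    Cfsg.autSubgroupOf (fun β : Cfsg.POmega F ⇑(plusQF F m) ≃* Cfsg.POmega F ⇑(plusQF F m) =>
      ∃ g : GL KK F, g ∈ Cfsg.Geo.quadSimilarityGroup (F := F) ⇑(plusQF F m) ∧
        Cfsg.PreservesSingularClasses ⇑(plusQF F m) (g : Matrix KK KK F) ∧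
        Cfsg.IsInducedBySemilinearPOmega ⇑(plusQF F m) g (RingEquiv.refl F) β) =
      Cfsg.Inn (Cfsg.POmega F ⇑(plusQF F m)) := by
  have h1 : Cfsg.autSubgroupOf (fun β : Cfsg.POmega F ⇑(plusQF F m) ≃*
        Cfsg.POmega F ⇑(plusQF F m) =>
      ∃ g : GL KK F, g ∈ Cfsg.Geo.quadSimilarityGroup (F := F) ⇑(plusQF F m) ∧
        Cfsg.PreservesSingularClasses ⇑(plusQF F m) (g : Matrix KK KK F) ∧
        Cfsg.IsInducedBySemilinearPOmega ⇑(plusQF F m) g (RingEquiv.refl F) β) =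
      ((Cfsg.Inn (Cfsg.POmega F ⇑(plusQF F m))).comap (Phi ⇑(plusQF F m))).map
        (Phi ⇑(plusQF F m)) := by
    unfold Cfsg.autSubgroupOf
    apply closure_image_eq_map
    intro β
    constructor
    · rintro ⟨g, hg, hpres, hind⟩
      exact ⟨⟨g, hg⟩, (presPlus_iff_inn hm ⟨g, hg⟩).1 hpres, (induced_iff _ g hg β).1 hind⟩
    · rintro ⟨g, hgD, rfl⟩
      exact ⟨g.1, g.2, (presPlus_iff_inn hm g).2 hgD, (induced_iff _ g.1 g.2 _).2 rfl⟩
  rw [h1, Subgroup.map_comap_eq, inf_eq_right]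
  rw [inn_eq]
  rintro _ ⟨g, -, rfl⟩
  exact ⟨g, rfl⟩

end plustwo

end

section

open Matrix QuadraticMap Module
open Cfsg.Agent.Lib.H11.ConfOrth
open Cfsg.Agent.Lib.H13 Cfsg.Agent.Lib.H13.HypPairs Cfsg.Agent.Lib.H13.PlusTS

section fixedvec

variable {F : Type*} [Field F] [Fintype F] {ι : Type} [Fintype ι] [DecidableEq ι]
variable (Q : QuadraticForm F (ι → F)) (σ : F ≃+* F) (hσQ : SigEq σ Q)

include hσQ in
/-- the reflection in a vector fixed by `σ` is fixed by `σ` -/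
theorem glmap_refl_of_fixed (v : ι → F) (hv : Q v ≠ 0) (hvσ : ∀ i, σ (v i) = v i)
    (ρ : GL ι F) (hρ : (ρ : Matrix ι ι F) = Cfsg.reflectionMatrix ⇑Q v) : glmap σ ρ = ρ := by
  set u₀ : ι → AutPSL.fixF σ := fun i => ⟨v i, (AutPSL.mem_fixF_iff σ _).2 (hvσ i)⟩ with hu₀
  have hvu : v = upV σ u₀ := rfl
  have hu₀' : down Q hσQ u₀ ≠ 0 := by
    intro h
    apply hv
    rw [hvu, ← down_apply Q hσQ, h]
    rfl
  have h1 : ρ = upGL (reflG (down Q hσQ) u₀ hu₀').1 := by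
    apply Units.ext
    rw [hρ, upGL_val, hvu, refl_up Q hσQ]
    rfl
  rw [h1]
  exact glmap_upGL _

end fixedvec

section key2736

variable {F : Type*} [Field F] [Fintype F] {ι : Type} [Fintype ι] [DecidableEq ι]
variable (Q : QuadraticForm F (ι → F))
variable (hQ : (polarBilin Q).Nondegenerate) (hcard : 7 ≤ Fintype.card ι)
variable (hall : Cfsg.gammaPOmega F ⇑Q = ⊤)

include hQ hcard hall in
/-- coset conjugacy for field and graph-field automorphisms: the generic statement -/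
theorem coset_conj_key (hσall : ∀ σ : F ≃+* F, SigEq σ Q) {d : ℕ} (hd : 1 ≤ d)
    (hc : Fintype.card ι = 2 * d)
    (A : Subgroup (MulAut (Cfsg.POmega F ⇑Q))) [A.Normal] (hA : A ≤ (Phi ⇑Q).range)
    (hrefl : ∀ (v : ι → F) (hv : Q v ≠ 0) (ρ : ↥(Sim ⇑Q)), ρ.1 = (reflG Q v hv).1 →
      Phi ⇑Q ρ ∉ A ∧ ∀ k : ↥(Sim ⇑Q), Phi ⇑Q k ∈ A ∨ Phi ⇑Q (k * ρ) ∈ A)
    (hclodd : ∀ (σ : F ≃+* F) (r : ℕ), Odd r → orderOf σ = r →
      ∀ Q' : QuadraticForm F (ι → F), (polarBilin Q').Nondegenerate → SigEq σ Q' →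
      (∃ (h : GL ι F) (l : F), l ≠ 0 ∧ ∀ v, Q' v = l * Q (h.1 *ᵥ v)) → FixSim Q σ Q')
    (x δ : MulAut (Cfsg.POmega F ⇑Q))
    (hx : Cfsg.IsFieldAutClassPOmega ⇑Q x ∨
      ∃ (α γ φ : MulAut (Cfsg.POmega F ⇑Q)) (σ : F ≃+* F) (v : ι → F) (rr : GL ι F),
        σ ≠ RingEquiv.refl F ∧ Q v ≠ 0 ∧ (∀ i, σ (v i) = v i) ∧
        (rr : Matrix ι ι F) = Cfsg.reflectionMatrix ⇑Q v ∧
        Cfsg.IsInducedBySemilinearPOmega ⇑Q rr (RingEquiv.refl F) γ ∧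
        Cfsg.IsFieldAutPOmegaOf ⇑Q σ φ ∧ α * x * α⁻¹ = γ * φ)
    {r : ℕ} (hr : r.Prime) (hxr : orderOf x = r) (hδ : δ ∈ A) :
    orderOf (δ * x) = r ↔ Cfsg.IsConjUnder A x (δ * x) := by
  have hne := exists_neO Q hQ hcard
  constructor
  · intro hord
    rcases hx with ⟨α, φ, σ, hσ1, hφ, hx₀⟩ | ⟨α, γ, φ, σ, v, rr, hσ1, hv, hvσ, hrr, hγ, hφ, hx₀⟩
    · -- field automorphisms
      rw [eq_stdAut_of_isField Q σ (hσall σ) φ hφ] at hx₀
      have hσr : orderOf σ = r := by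
        rw [← orderOf_stdAutA Q σ hQ hcard hall (hσall σ), ← hx₀, AutPSL.orderOf_conj', hxr]
      obtain ⟨v, hv, ρ, hρσ, hρ⟩ := exists_fixed_refl Q (hσall σ) hne
      obtain ⟨hρA, hdich⟩ := hrefl v hv ρ hρ
      refine AutPSL.conj_reduce A α x δ _ hx₀ hδ ?_ hord
      intro δ₀ hδ₀ hpow
      rcases hr.eq_two_or_odd' with h2 | hodd
      · subst h2
        have hρ2 : ρ.1 * ρ.1 = 1 := by
          apply Units.ext
          rw [Units.val_mul, hρ, reflG_val, refl_mul_self Q v hv]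
          rfl
        exact coset_conj_two_field Q σ hQ hcard (hσall σ) hσr hd hc A hA ρ hρσ hρ2 hρA hdich
          δ₀ hδ₀ hpow
      · obtain ⟨g₀, rfl⟩ := hA hδ₀
        obtain ⟨h, hh, heq⟩ := coset_conj_D Q σ hQ hcard (hσall σ) hr.pos hσr
          (hclodd σ r hodd hσr) (A.comap (Phi ⇑Q)) ρ hρσ
          (fun k => by
            rw [Subgroup.mem_comap, Subgroup.mem_comap]
            exact hdich k) g₀ hpow
        exact ⟨Phi ⇑Q h, hh, heq⟩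
    · -- graph-field automorphisms
      rw [eq_stdAut_of_isField Q σ (hσall σ) φ hφ] at hx₀
      have hrrS : rr ∈ Sim ⇑Q := by
        apply iso_le_sim
        have : rr = (reflG Q v hv).1 := by
          apply Units.ext
          rw [hrr, reflG_val]
        rw [this]
        exact (reflG Q v hv).2
      set ρ : ↥(Sim ⇑Q) := ⟨rr, hrrS⟩ with hρdef
      have hρ : ρ.1 = (reflG Q v hv).1 := by
        apply Units.ext
        rw [hρdef, hrr, reflG_val]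
      have hγeq : γ = Phi ⇑Q ρ := (induced_iff _ rr hrrS γ).1 hγ
      rw [hγeq] at hx₀
      have hρσ : glmap σ ρ.1 = ρ.1 := glmap_refl_of_fixed Q σ (hσall σ) v hv hvσ rr hrr
      obtain ⟨hρA, hdich⟩ := hrefl v hv ρ hρ
      have hρ2 : ρ.1 * ρ.1 = 1 := by
        apply Units.ext
        rw [Units.val_mul, hρ, reflG_val, refl_mul_self Q v hv]
        rfl
      have hb2 : Phi ⇑Q ρ * Phi ⇑Q ρ = 1 := by
        rw [← map_mul]
        have : ρ * ρ = 1 := Subtype.ext hρ2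
        rw [this, map_one]
      have hcomm : Commute (Phi ⇑Q ρ) (stdAut Q σ (hσall σ)) :=
        (Phi_comm_of_fixed Q σ (hσall σ) ρ hρσ).symm
      -- the order of `x₀`
      have hx₀r : (Phi ⇑Q ρ * stdAut Q σ (hσall σ)) ^ r = 1 := by
        rw [← hx₀, ← hxr, ← AutPSL.orderOf_conj' α x, pow_orderOf_eq_one]
      have hσr : orderOf σ = r := by
        have h1 := congrArg (psiA Q hQ hcard hall) hx₀r
        rw [map_pow, map_one, Phi_mul_stdAut, psiA_apply] at h1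
        have h2 := orderOf_dvd_of_pow_eq_one h1
        rcases (Nat.dvd_prime hr).1 h2 with h3 | h3
        · exfalso
          apply hσ1
          rw [orderOf_eq_one_iff] at h3
          rw [h3]; rfl
        · exact h3
      have hr2 : r = 2 := by
        rcases hr.eq_two_or_odd' with h2 | ⟨j, hj⟩
        · exact h2
        · exfalso
          apply hρA
          rw [hcomm.mul_pow] at hx₀r
          have h1 : stdAut Q σ (hσall σ) ^ r = 1 := by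
            rw [← hσr, ← orderOf_stdAutA Q σ hQ hcard hall (hσall σ), pow_orderOf_eq_one]
          rw [h1, mul_one, hj, pow_succ, pow_mul, pow_two, hb2, one_pow, one_mul] at hx₀r
          rw [hx₀r]
          exact A.one_mem
      subst hr2
      refine AutPSL.conj_reduce A α x δ _ hx₀ hδ ?_ hord
      intro δ₀ hδ₀ hpow
      exact coset_conj_two_graph Q σ hQ hcard (hσall σ) hσr hd hc A hA ρ hρσ hρ2 hρA hdich
        δ₀ hδ₀ hpow
  · rintro ⟨h, -, heq⟩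
    rw [heq, AutPSL.orderOf_conj', hxr]

end key2736

end

section

open Matrix QuadraticMap Module
open Cfsg.Agent.Lib.H11.ConfOrth
open Cfsg.Agent.Lib.H13 Cfsg.Agent.Lib.H13.HypPairs Cfsg.Agent.Lib.H13.PlusTS

section hallplus

variable {F : Type*} [Field F] [Fintype F] {m : ℕ}

theorem hall_plus (hm : 5 ≤ m) : Cfsg.gammaPOmega F ⇑(plusQF F m) = ⊤ := by
  have hQ : (polarBilin (plusQF F m)).Nondegenerate := Cfsg.Agent.S0287.nondeg (F := F) m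
  have hcard : Fintype.card (Fin m ⊕ Fin m) = 2 * m := card_plus
  apply gamma_eq_top _ hQ (by rw [hcard]; omega)
  left
  rw [hcard]; omega

end hallplus

section reflD

variable {F : Type*} [Field F] [Fintype F] {ι : Type} [Fintype ι] [DecidableEq ι]
variable (Q : QuadraticForm F (ι → F)) (hQ : (polarBilin Q).Nondegenerate)
variable (hcard7 : 7 ≤ Fintype.card ι) (d : ℕ) (hcard : Fintype.card ι = 2 * d)
variable (hne : ∃ v, Q v ≠ 0)

include hQ hcard7 hcard in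
/-- odd characteristic: a reflection does not induce an element of the image of `ker delta` -/
theorem refl_not_mem_DD_map (h2 : (2 : F) ≠ 0) (ρ : ↥(Sim ⇑Q)) (v : ι → F) (hv : Q v ≠ 0)
    (hρ : ρ.1 = (reflG Q v hv).1) : Phi ⇑Q ρ ∉ (DD Q d hne).map (Phi ⇑Q) := by
  have hρd : delta Q hne d ρ = -1 := by
    have : ρ = oS Q (reflG Q v hv).1 (reflG Q v hv).2 := Subtype.ext hρ
    rw [this, delta_oS]
    apply Units.ext
    rw [Matrix.GeneralLinearGroup.val_det_apply, reflG_val, PlusTS.det_reflectionMatrix Q v hv]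
    simp
  rintro ⟨g, hg, hgeq⟩
  have h1 : g⁻¹ * ρ ∈ (Phi ⇑Q).ker := by
    rw [MonoidHom.mem_ker, map_mul, map_inv, hgeq, inv_mul_cancel]
  have h2' := ker_Phi_le_DD Q hQ hcard7 d hcard hne h1
  have h3 : ρ ∈ DD Q d hne := by
    have := (DD Q d hne).mul_mem hg h2'
    rwa [mul_inv_cancel_left] at this
  rw [mem_DD, hρd] at h3
  have h4 := congrArg (fun u : Fˣ => (u : F)) h3
  simp only [Units.val_neg, Units.val_one] at h4
  apply h2
  linear_combination -h4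

end reflD

section s2736

universe u

variable {F : Type u} [Field F] [Fintype F] {m : ℕ}

local notation "KK" => (Fin m ⊕ Fin m)

/-- S2736 in odd characteristic -/
theorem s2736_odd (h2 : (2 : F) ≠ 0) (hm : 5 ≤ m)
    (Q₀ : (KK → F) → F) (hQ₀ : ⇑(plusQF F m) = Q₀)
    (x δ : MulAut (Cfsg.POmega F Q₀))
    (hx : Cfsg.IsFieldAutClassPOmega Q₀ x ∨
      ∃ (α γ φ : MulAut (Cfsg.POmega F Q₀)) (σ : F ≃+* F) (v : KK → F) (rr : GL KK F),
        σ ≠ RingEquiv.refl F ∧ Q₀ v ≠ 0 ∧ (∀ i, σ (v i) = v i) ∧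
        (rr : Matrix KK KK F) = Cfsg.reflectionMatrix Q₀ v ∧
        Cfsg.IsInducedBySemilinearPOmega Q₀ rr (RingEquiv.refl F) γ ∧
        Cfsg.IsFieldAutPOmegaOf Q₀ σ φ ∧ α * x * α⁻¹ = γ * φ)
    {r : ℕ} (hr : r.Prime) (hxr : orderOf x = r)
    (A : Subgroup (MulAut (Cfsg.POmega F Q₀)))
    (hA : A = Cfsg.autSubgroupOf (fun β : Cfsg.POmega F Q₀ ≃* Cfsg.POmega F Q₀ =>
      ∃ g : GL KK F, g ∈ Cfsg.Geo.quadSimilarityGroup (F := F) Q₀ ∧
        Cfsg.PreservesSingularClasses Q₀ (g : Matrix KK KK F) ∧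
        Cfsg.IsInducedBySemilinearPOmega Q₀ g (RingEquiv.refl F) β))
    (hδ : δ ∈ A) : orderOf (δ * x) = r ↔ Cfsg.IsConjUnder A x (δ * x) := by
  subst hQ₀
  have hQ : (polarBilin (plusQF F m)).Nondegenerate := Cfsg.Agent.S0287.nondeg (F := F) m
  have hcard : Fintype.card KK = 2 * m := card_plus
  have hc7 : 7 ≤ Fintype.card KK := by rw [hcard]; omega
  have hne := exists_ne_of_nondeg (plusQF F m) hQ (by rw [hcard]; omega)
  have hall : Cfsg.gammaPOmega F ⇑(plusQF F m) = ⊤ := hall_plus hm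
  rw [inndiag_plus_eq_odd h2 hne] at hA
  subst hA
  haveI := DD_map_normal (plusQF F m) m hne hall
  refine coset_conj_key (plusQF F m) hQ hc7 hall (fun σ => sigEq_plus σ) (d := m) (by omega)
    hcard _ ?_ ?_ ?_ x δ hx hr hxr hδ
  · rintro _ ⟨g, -, rfl⟩
    exact ⟨g, rfl⟩
  · intro v hv ρ hρ
    refine ⟨refl_not_mem_DD_map (plusQF F m) hQ hc7 m hcard hne h2 ρ v hv hρ, fun k => ?_⟩
    rcases DD_dichotomy (plusQF F m) hQ m hcard hne ρ v hv hρ k with h | h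
    · exact Or.inl (Subgroup.mem_map_of_mem _ h)
    · exact Or.inr (Subgroup.mem_map_of_mem _ h)
  · intro σ r' hodd hσr Q' hQ' hσQ' hsim
    exact fixSim_plus_odd (by omega) σ hodd hσr Q' hQ' hσQ' hsim

/-- S2736 in characteristic two -/
theorem s2736_two [CharP F 2] (hm : 5 ≤ m)
    (Q₀ : (KK → F) → F) (hQ₀ : ⇑(plusQF F m) = Q₀)
    (x δ : MulAut (Cfsg.POmega F Q₀))
    (hx : Cfsg.IsFieldAutClassPOmega Q₀ x ∨
      ∃ (α γ φ : MulAut (Cfsg.POmega F Q₀)) (σ : F ≃+* F) (v : KK → F) (rr : GL KK F),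
        σ ≠ RingEquiv.refl F ∧ Q₀ v ≠ 0 ∧ (∀ i, σ (v i) = v i) ∧
        (rr : Matrix KK KK F) = Cfsg.reflectionMatrix Q₀ v ∧
        Cfsg.IsInducedBySemilinearPOmega Q₀ rr (RingEquiv.refl F) γ ∧
        Cfsg.IsFieldAutPOmegaOf Q₀ σ φ ∧ α * x * α⁻¹ = γ * φ)
    {r : ℕ} (hr : r.Prime) (hxr : orderOf x = r)
    (A : Subgroup (MulAut (Cfsg.POmega F Q₀)))
    (hA : A = Cfsg.autSubgroupOf (fun β : Cfsg.POmega F Q₀ ≃* Cfsg.POmega F Q₀ =>
      ∃ g : GL KK F, g ∈ Cfsg.Geo.quadSimilarityGroup (F := F) Q₀ ∧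
        Cfsg.PreservesSingularClasses Q₀ (g : Matrix KK KK F) ∧
        Cfsg.IsInducedBySemilinearPOmega Q₀ g (RingEquiv.refl F) β))
    (hδ : δ ∈ A) : orderOf (δ * x) = r ↔ Cfsg.IsConjUnder A x (δ * x) := by
  subst hQ₀
  have hQ : (polarBilin (plusQF F m)).Nondegenerate := Cfsg.Agent.S0287.nondeg (F := F) m
  have hcard : Fintype.card KK = 2 * m := card_plus
  have hc7 : 7 ≤ Fintype.card KK := by rw [hcard]; omega
  have hall : Cfsg.gammaPOmega F ⇑(plusQF F m) = ⊤ := hall_plus hm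
  rw [inndiag_plus_eq_two (by omega)] at hA
  subst hA
  refine coset_conj_key (plusQF F m) hQ hc7 hall (fun σ => sigEq_plus σ) (d := m) (by omega)
    hcard _ ?_ ?_ ?_ x δ hx hr hxr hδ
  · rw [inn_eq]
    rintro _ ⟨g, -, rfl⟩
    exact ⟨g, rfl⟩
  · intro v hv ρ hρ
    constructor
    · intro h
      have hρ' : ρ = Subgroup.inclusion (iso_le_sim ⇑(plusQF F m)) (reflG (plusQF F m) v hv) :=
        Subtype.ext hρ
      have h1 : Phi ⇑(plusQF F m) ρ = PhiO (plusQF F m) (reflG (plusQF F m) v hv) := by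
        rw [hρ']; rfl
      rw [h1, mem_inn_iff2 _ hQ hc7] at h
      exact Char2Omega.refl_not_mem (plusQF F m) hQ v hv h
    · intro k
      exact inn_dichotomy2 (plusQF F m) hQ hc7 ρ v hv hρ k
  · intro σ r' hodd hσr Q' hQ' hσQ' hsim
    exact fixSim_plus_odd (by omega) σ hodd hσr Q' hQ' hσQ' hsim

end s2736

end

end Cfsg.Agent.Lib.H13.AutPO
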