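import Mathlib
import Cfsg.Agent.Lib.H13.AutPO14

/-!
Automorphisms of `PΩ(Q)`, part 15 (helper13): graph-field automorphisms of order two of the plus-type groups.
`ringAut_comm`, `ringAut_involution_unique`, `gf_conj` (every graph-field automorphism of order two is conjugate under the inner
automorphisms to the standard one `Phi ρ₀ * stdAut σ₀`), the twisted form `twQ` (a minus-type form over the fixed field whose
extension of scalars is the reindexed plus-type form), `simReindex` (transport along a reindexing), `gf_cent_desc`, `descend_conj`,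
`gf_cent_le_inn` (the centraliser of the standard graph-field automorphism in the inner-diagonal group), `relIndex_inn_four`,
`gf_count` (number of classes), `s2717_odd`, `s2717_two`.
-/

set_option autoImplicit false
set_option linter.unusedSectionVars false
set_option linter.unusedVariables false
set_option linter.unusedSimpArgs false
set_option linter.deprecated false

namespace Cfsg.Agent.Lib.H13.AutPO

section

open Matrix QuadraticMap Module
open Cfsg.Agent.Lib.H11.ConfOrth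
open Cfsg.Agent.Lib.H13 Cfsg.Agent.Lib.H13.HypPairs Cfsg.Agent.Lib.H13.PlusTS

section autF

variable {F : Type*} [Field F] [Fintype F] {p : ℕ} [Fact p.Prime] [CharP F p]

theorem ringAut_comm {f : ℕ} (hF : Fintype.card F = p ^ f) (σ τ : F ≃+* F) : σ * τ = τ * σ := by
  obtain ⟨i, rfl⟩ := Subgroup.mem_zpowers_iff.1 (frob_generates hF σ)
  obtain ⟨j, rfl⟩ := Subgroup.mem_zpowers_iff.1 (frob_generates hF τ)
  rw [← _root_.zpow_add, ← _root_.zpow_add, add_comm]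

/-- the automorphism group of a finite field has at most one involution -/
theorem ringAut_involution_unique {f : ℕ} (hF : Fintype.card F = p ^ f) (σ σ' : F ≃+* F)
    (hσ : orderOf σ = 2) (hσ' : orderOf σ' = 2) : σ = σ' := by
  classical
  haveI : IsCyclic (F ≃+* F) := ⟨⟨frobeniusEquiv F p, fun τ => frob_generates hF τ⟩⟩
  haveI : Finite (F ≃+* F) := by
    apply Nat.finite_of_card_ne_zero
    rw [AutPSL.card_ringAut p hF]
    rintro rfl
    rw [pow_zero] at hF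
    have := Fintype.one_lt_card (α := F)
    omega
  haveI : Fintype (F ≃+* F) := Fintype.ofFinite _
  by_contra hne
  have h1 : σ ≠ 1 := by
    intro h
    rw [h, orderOf_one] at hσ
    omega
  have h1' : σ' ≠ 1 := by
    intro h
    rw [h, orderOf_one] at hσ'
    omega
  have hs : σ ^ 2 = 1 := by rw [← hσ, pow_orderOf_eq_one]
  have hs' : σ' ^ 2 = 1 := by rw [← hσ', pow_orderOf_eq_one]
  have hsub : ({1, σ, σ'} : Finset (F ≃+* F)) ⊆
      Finset.univ.filter (fun a : F ≃+* F => a ^ 2 = 1) := by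
    intro a ha
    rw [Finset.mem_filter]
    refine ⟨Finset.mem_univ _, ?_⟩
    simp only [Finset.mem_insert, Finset.mem_singleton] at ha
    rcases ha with rfl | rfl | rfl
    · exact one_pow 2
    · exact hs
    · exact hs'
  have hcard : ({1, σ, σ'} : Finset (F ≃+* F)).card = 3 := by
    rw [Finset.card_insert_of_notMem, Finset.card_insert_of_notMem, Finset.card_singleton]
    · simpa using hne
    · simp only [Finset.mem_insert, Finset.mem_singleton, not_or]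
      exact ⟨fun h => h1 h.symm, fun h => h1' h.symm⟩
  have h3 := Finset.card_le_card hsub
  have h4 := IsCyclic.card_pow_eq_one_le (α := F ≃+* F) (n := 2) (by norm_num)
  omega

end autF

section stdcomm

variable {F : Type*} [Field F] [Fintype F] {ι : Type} [Fintype ι] [DecidableEq ι]
variable (Q : QuadraticForm F (ι → F))

theorem stdAut_mul_stdAut (σ τ : F ≃+* F) (hσ : SigEq σ Q) (hτ : SigEq τ Q)
    (hστ : SigEq (τ.trans σ) Q) :
    stdAut Q σ hσ * stdAut Q τ hτ = stdAut Q (τ.trans σ) hστ := by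
  unfold stdAut
  rw [semiAut_mul]
  apply semiAut_congr
  · rw [map_one, mul_one]
  · rfl

end stdcomm

end

section

open Matrix QuadraticMap Module
open Cfsg.Agent.Lib.H11.ConfOrth
open Cfsg.Agent.Lib.H13 Cfsg.Agent.Lib.H13.HypPairs Cfsg.Agent.Lib.H13.PlusTS

section formphi

variable {F : Type*} [Field F] [Fintype F] {ι : Type} [Fintype ι] [DecidableEq ι]
variable (Q : QuadraticForm F (ι → F))

omit [Fintype F] in
/-- the matrix part of a semisimilarity of a form fixed by the field automorphism is a similarity -/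
theorem sim_of_pair {g : GL ι F} {τ : F ≃+* F} (hτ : SigEq τ Q)
    (hp : Cfsg.IsSemisimilarityPair ⇑Q g τ) : g ∈ Sim ⇑Q := by
  obtain ⟨c, hc⟩ := hp
  refine ⟨c, fun v => ?_⟩
  have h1 := hc (vmap τ.symm v)
  have h2 : (fun i => τ (vmap τ.symm v i)) = v := vmap_vmap_symm τ v
  rw [h2] at h1
  rw [h1, ← hτ, vmap_vmap_symm]

variable (hall : Cfsg.gammaPOmega F ⇑Q = ⊤)

include hall in
/-- every automorphism is an inner-diagonal-graph automorphism times a standard field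
automorphism -/
theorem exists_Phi_std (hσall : ∀ σ : F ≃+* F, SigEq σ Q) (β : MulAut (Cfsg.POmega F ⇑Q)) :
    ∃ (g : ↥(Sim ⇑Q)) (τ : F ≃+* F), β = Phi ⇑Q g * stdAut Q τ (hσall τ) := by
  obtain ⟨g, τ, hp, rfl⟩ := exists_formO Q hall β
  refine ⟨⟨g, sim_of_pair Q (hσall τ) hp⟩, τ, ?_⟩
  rw [Phi_mul_stdAut]

end formphi

section grp2

variable {G : Type*} [Group G] (A S : Subgroup G) [A.Normal] [S.Normal]

/-- in a group whose quotient by `A` is abelian of the shape considered, the conjugates of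
`b φ` lie in the coset `A b φ` -/
theorem coset_of_conj (φ b : G) (hb : φ * b = b * φ) (hbS : b ∈ S) (hbA : b ∉ A) (hb2 : b * b = 1)
    (hdich : ∀ a ∈ S, a ∈ A ∨ a * b ∈ A)
    (hφ : ∀ α : G, α * φ * α⁻¹ * φ⁻¹ ∈ A)
    (α b' : G) (hb'S : b' ∈ S) (hb'A : b' ∉ A) :
    α * (b' * φ) * α⁻¹ * (b * φ)⁻¹ ∈ A := by
  have h1 : α * b' * α⁻¹ ∈ S := Subgroup.Normal.conj_mem inferInstance _ hb'S α
  have h2 : α * b' * α⁻¹ ∉ A := by
    intro h
    apply hb'A
    have := Subgroup.Normal.conj_mem (inferInstance : A.Normal) _ h α⁻¹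
    have e : α⁻¹ * (α * b' * α⁻¹) * α⁻¹⁻¹ = b' := by group
    rwa [e] at this
  have h3 : α * b' * α⁻¹ * b ∈ A := by
    rcases hdich _ h1 with h | h
    · exact absurd h h2
    · exact h
  have hbinv : b⁻¹ = b := inv_eq_of_mul_eq_one_left hb2
  have h4 : b * (α * φ * α⁻¹ * φ⁻¹) * b⁻¹ ∈ A :=
    Subgroup.Normal.conj_mem inferInstance _ (hφ α) b
  have h5 := A.mul_mem h3 h4
  have e : α * (b' * φ) * α⁻¹ * (b * φ)⁻¹ =
      α * b' * α⁻¹ * b * (b * (α * φ * α⁻¹ * φ⁻¹) * b⁻¹) := by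
    have e1 : (b * φ)⁻¹ = φ⁻¹ * b := by
      rw [_root_.mul_inv_rev, hbinv]
    have e2 : b * (b * (α * φ * α⁻¹ * φ⁻¹) * b⁻¹) = α * φ * α⁻¹ * φ⁻¹ * b := by
      rw [hbinv]
      calc b * (b * (α * φ * α⁻¹ * φ⁻¹) * b) = (b * b) * (α * φ * α⁻¹ * φ⁻¹) * b := by group
        _ = α * φ * α⁻¹ * φ⁻¹ * b := by rw [hb2, one_mul]
    rw [e1, mul_assoc (α * b' * α⁻¹) b, e2]
    group
  rw [e]
  exact h5

end grp2

section gf

variable {F : Type*} [Field F] [Fintype F] {ι : Type} [Fintype ι] [DecidableEq ι]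
variable (Q : QuadraticForm F (ι → F))
variable (hQ : (polarBilin Q).Nondegenerate) (hcard : 7 ≤ Fintype.card ι)
variable (hall : Cfsg.gammaPOmega F ⇑Q = ⊤)

include hQ hcard hall in
/-- commutators with the standard field automorphism lie in `A` -/
theorem comm_std_mem (hσall : ∀ σ : F ≃+* F, SigEq σ Q)
    (hcomm : ∀ σ τ : F ≃+* F, σ * τ = τ * σ)
    (A : Subgroup (MulAut (Cfsg.POmega F ⇑Q))) [A.Normal]
    (σ : F ≃+* F) (ρ : ↥(Sim ⇑Q)) (hρσ : glmap σ ρ.1 = ρ.1)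
    (hdich : ∀ k : ↥(Sim ⇑Q), Phi ⇑Q k ∈ A ∨ Phi ⇑Q (k * ρ) ∈ A)
    (α : MulAut (Cfsg.POmega F ⇑Q)) :
    α * stdAut Q σ (hσall σ) * α⁻¹ * (stdAut Q σ (hσall σ))⁻¹ ∈ A := by
  obtain ⟨g, τ, rfl⟩ := exists_Phi_std Q hall hσall α
  have hb : stdAut Q σ (hσall σ) * Phi ⇑Q ρ = Phi ⇑Q ρ * stdAut Q σ (hσall σ) :=
    Phi_comm_of_fixed Q σ (hσall σ) ρ hρσ
  have hdich' : ∀ a ∈ (Phi ⇑Q).range, a ∈ A ∨ a * Phi ⇑Q ρ ∈ A := by
    rintro _ ⟨k, rfl⟩
    rw [← map_mul]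
    exact hdich k
  have h1 := comm_core A (Phi ⇑Q).range _ _ hb ⟨ρ, rfl⟩ hdich' (Phi ⇑Q g) ⟨g, rfl⟩
  have hc : stdAut Q τ (hσall τ) * stdAut Q σ (hσall σ) =
      stdAut Q σ (hσall σ) * stdAut Q τ (hσall τ) := by
    rw [stdAut_mul_stdAut Q τ σ (hσall τ) (hσall σ) (hσall _),
      stdAut_mul_stdAut Q σ τ (hσall σ) (hσall τ) (hσall _)]
    have e : σ.trans τ = τ.trans σ := hcomm τ σ
    unfold stdAut
    exact semiAut_congr _ rfl e _ _
  have e : Phi ⇑Q g * stdAut Q τ (hσall τ) * stdAut Q σ (hσall σ) *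
      (Phi ⇑Q g * stdAut Q τ (hσall τ))⁻¹ * (stdAut Q σ (hσall σ))⁻¹ =
      Phi ⇑Q g * stdAut Q σ (hσall σ) * (Phi ⇑Q g)⁻¹ * (stdAut Q σ (hσall σ))⁻¹ := by
    rw [mul_assoc (Phi ⇑Q g), hc]
    group
  rw [e]
  exact h1

end gf

end

section

open Matrix QuadraticMap Module
open Cfsg.Agent.Lib.H11.ConfOrth
open Cfsg.Agent.Lib.H13 Cfsg.Agent.Lib.H13.HypPairs Cfsg.Agent.Lib.H13.PlusTS

section gf3

variable {F : Type*} [Field F] [Fintype F] {ι : Type} [Fintype ι] [DecidableEq ι]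
variable (Q : QuadraticForm F (ι → F))
variable (hQ : (polarBilin Q).Nondegenerate) (hcard : 7 ≤ Fintype.card ι)
variable (hall : Cfsg.gammaPOmega F ⇑Q = ⊤)

include hQ hcard hall in
/-- the field automorphism underlying an involutory automorphism in a non-trivial field coset is an
involution -/
theorem gf_sigma_order (hσall : ∀ σ : F ≃+* F, SigEq σ Q)
    (x α : MulAut (Cfsg.POmega F ⇑Q)) (σ : F ≃+* F) (hσ1 : σ ≠ RingEquiv.refl F) (g : ↥(Sim ⇑Q))
    (hx₀ : α * x * α⁻¹ = Phi ⇑Q g * stdAut Q σ (hσall σ)) (hx2 : orderOf x = 2) :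
    orderOf σ = 2 := by
  have hx₀r : (Phi ⇑Q g * stdAut Q σ (hσall σ)) ^ 2 = 1 := by
    rw [← hx₀, ← hx2, ← AutPSL.orderOf_conj' α x, pow_orderOf_eq_one]
  have h1 := congrArg (psiA Q hQ hcard hall) hx₀r
  rw [map_pow, map_one, Phi_mul_stdAut, psiA_apply] at h1
  have h2 := orderOf_dvd_of_pow_eq_one h1
  rcases (Nat.dvd_prime Nat.prime_two).1 h2 with h3 | h3
  · exfalso
    apply hσ1
    rw [orderOf_eq_one_iff] at h3
    rw [h3]; rfl
  · exact h3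

include hQ hcard hall in
/-- every involutory graph-field automorphism is conjugate, under `A`, to a standard one -/
theorem gf_conj (hσall : ∀ σ : F ≃+* F, SigEq σ Q)
    (hcomm : ∀ σ τ : F ≃+* F, σ * τ = τ * σ)
    {d : ℕ} (hd : 1 ≤ d) (hc : Fintype.card ι = 2 * d)
    (A : Subgroup (MulAut (Cfsg.POmega F ⇑Q))) [A.Normal] (hA : A ≤ (Phi ⇑Q).range)
    (hrefl : ∀ (v : ι → F) (hv : Q v ≠ 0) (ρ : ↥(Sim ⇑Q)), ρ.1 = (reflG Q v hv).1 →
      Phi ⇑Q ρ ∉ A ∧ ∀ k : ↥(Sim ⇑Q), Phi ⇑Q k ∈ A ∨ Phi ⇑Q (k * ρ) ∈ A)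
    (x : MulAut (Cfsg.POmega F ⇑Q))
    (hx : ∃ (α γ φ : MulAut (Cfsg.POmega F ⇑Q)) (σ : F ≃+* F) (v : ι → F) (rr : GL ι F),
        σ ≠ RingEquiv.refl F ∧ Q v ≠ 0 ∧ (∀ i, σ (v i) = v i) ∧
        (rr : Matrix ι ι F) = Cfsg.reflectionMatrix ⇑Q v ∧
        Cfsg.IsInducedBySemilinearPOmega ⇑Q rr (RingEquiv.refl F) γ ∧
        Cfsg.IsFieldAutPOmegaOf ⇑Q σ φ ∧ α * x * α⁻¹ = γ * φ)
    (hx2 : orderOf x = 2)
    (v₀ : ι → F) (hv₀ : Q v₀ ≠ 0)
    (hv₀σ : ∀ (σ : F ≃+* F) (i : ι), σ (v₀ i) = v₀ i) (ρ₀ : ↥(Sim ⇑Q))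
    (hρ₀ : ρ₀.1 = (reflG Q v₀ hv₀).1) :
    ∃ σ₀ : F ≃+* F, orderOf σ₀ = 2 ∧
      ∃ a ∈ A, x = a * (Phi ⇑Q ρ₀ * stdAut Q σ₀ (hσall σ₀)) * a⁻¹ := by
  obtain ⟨α, γ, φ, σ, v, rr, hσ1, hv, hvσ, hrr, hγ, hφ, hx₀⟩ := hx
  rw [eq_stdAut_of_isField Q σ (hσall σ) φ hφ] at hx₀
  have hrrS : rr ∈ Sim ⇑Q := by
    apply iso_le_sim
    have : rr = (reflG Q v hv).1 := by
      apply Units.ext
      rw [hrr, reflG_val]
    rw [this]
    exact (reflG Q v hv).2
  obtain ⟨ρ, hρdef⟩ : ∃ ρ : ↥(Sim ⇑Q), ρ = ⟨rr, hrrS⟩ := ⟨_, rfl⟩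
  have hρ : ρ.1 = (reflG Q v hv).1 := by
    apply Units.ext
    rw [hρdef, hrr, reflG_val]
  have hγeq : γ = Phi ⇑Q ρ := by
    rw [hρdef]
    exact (induced_iff _ rr hrrS γ).1 hγ
  rw [hγeq] at hx₀
  have hσ2 : orderOf σ = 2 := gf_sigma_order Q hQ hcard hall hσall x α σ hσ1 ρ hx₀ hx2
  refine ⟨σ, hσ2, ?_⟩
  obtain ⟨hρA, hdich⟩ := hrefl v hv ρ hρ
  obtain ⟨hρ₀A, hdich₀⟩ := hrefl v₀ hv₀ ρ₀ hρ₀
  have hρ₀σ : glmap σ ρ₀.1 = ρ₀.1 := by
    apply glmap_refl_of_fixed Q σ (hσall σ) v₀ hv₀ (hv₀σ σ) ρ₀.1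
    rw [hρ₀, reflG_val]
  have hρ₀2 : ρ₀.1 * ρ₀.1 = 1 := by
    apply Units.ext
    rw [Units.val_mul, hρ₀, reflG_val, refl_mul_self Q v₀ hv₀]
    rfl
  have hb2 : Phi ⇑Q ρ₀ * Phi ⇑Q ρ₀ = 1 := by
    rw [← map_mul]
    have : ρ₀ * ρ₀ = 1 := Subtype.ext hρ₀2
    rw [this, map_one]
  have hb : stdAut Q σ (hσall σ) * Phi ⇑Q ρ₀ = Phi ⇑Q ρ₀ * stdAut Q σ (hσall σ) :=
    Phi_comm_of_fixed Q σ (hσall σ) ρ₀ hρ₀σ
  have hSn : (Phi ⇑Q).range.Normal := range_Phi_normalA Q hQ hcard hall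
  have hdich' : ∀ a ∈ (Phi ⇑Q).range, a ∈ A ∨ a * Phi ⇑Q ρ₀ ∈ A := by
    rintro _ ⟨k, rfl⟩
    rw [← map_mul]
    exact hdich₀ k
  have hφc : ∀ β : MulAut (Cfsg.POmega F ⇑Q),
      β * stdAut Q σ (hσall σ) * β⁻¹ * (stdAut Q σ (hσall σ))⁻¹ ∈ A :=
    fun β => comm_std_mem Q hQ hcard hall hσall hcomm A σ ρ₀ hρ₀σ hdich₀ β
  have hx' : x = α⁻¹ * (Phi ⇑Q ρ * stdAut Q σ (hσall σ)) * α⁻¹⁻¹ := by
    rw [← hx₀]; group
  have hδ₀ : x * (Phi ⇑Q ρ₀ * stdAut Q σ (hσall σ))⁻¹ ∈ A := by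
    rw [hx']
    exact coset_of_conj A (Phi ⇑Q).range (stdAut Q σ (hσall σ)) (Phi ⇑Q ρ₀) hb ⟨ρ₀, rfl⟩ hρ₀A hb2
      hdich' hφc α⁻¹ (Phi ⇑Q ρ) ⟨ρ, rfl⟩ hρA
  have hpow : (x * (Phi ⇑Q ρ₀ * stdAut Q σ (hσall σ))⁻¹ *
      (Phi ⇑Q ρ₀ * stdAut Q σ (hσall σ))) ^ 2 = 1 := by
    rw [inv_mul_cancel_right, ← hx2, pow_orderOf_eq_one]
  obtain ⟨a, haA, ha⟩ := coset_conj_two_graph Q σ hQ hcard (hσall σ) hσ2 hd hc A hA ρ₀ hρ₀σ hρ₀2
    hρ₀A hdich₀ _ hδ₀ hpow
  refine ⟨a, haA, ?_⟩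
  rw [← ha, inv_mul_cancel_right]

end gf3

end

section

open Matrix QuadraticMap Module
open Cfsg.Agent.Lib.H11.ConfOrth
open Cfsg.Agent.Lib.H13 Cfsg.Agent.Lib.H13.HypPairs Cfsg.Agent.Lib.H13.PlusTS

section conjsemi

variable {F : Type*} [Field F] [Fintype F] {ι : Type} [Fintype ι] [DecidableEq ι]
variable (Q Q' : (ι → F) → F) (L : GL ι F) (hL : ∀ v, Q (L.1 *ᵥ v) = Q' v)

/-- transport of a semilinear automorphism along a linear isometry between two forms -/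
theorem conjLP_semiAut (g : GL ι F) (σ : F ≃+* F) (hp' : Cfsg.IsSemisimilarityPair Q' g σ)
    (hp : Cfsg.IsSemisimilarityPair Q (L * g * (glmap σ L)⁻¹) σ) :
    MulAut.congr (conjLP Q Q' L hL) (semiAut Q' g σ hp') =
      semiAut Q (L * g * (glmap σ L)⁻¹) σ hp := by
  apply MulEquiv.ext
  intro y
  obtain ⟨y', rfl⟩ := (conjLP Q Q' L hL).surjective y
  show conjLP Q Q' L hL (semiAut Q' g σ hp' ((conjLP Q Q' L hL).symm (conjLP Q Q' L hL y'))) = _
  rw [MulEquiv.symm_apply_apply]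
  induction y' using QuotientGroup.induction_on with
  | H s =>
    rw [semiAut_mk, conjLP_mk, conjLP_mk, semiAut_mk]
    congr 1
    apply Subtype.ext
    apply Subtype.ext
    rw [commutatorCongr_val, conjLO_val, semiOmega_val, semiOmega_val, commutatorCongr_val,
      conjLO_val, map_mul, map_mul, map_inv]
    group

end conjsemi

section twist

variable {F : Type*} [Field F] [Fintype F] {ι : Type} [Fintype ι] [DecidableEq ι]
variable (Q Q' : QuadraticForm F (ι → F)) (σ : F ≃+* F)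

/-- twisting: if `g σ(h) = h`, then conjugation by `h` carries the standard field automorphism of
the form `Q ∘ h` to `g σ` -/
theorem twist_std (hσQ : SigEq σ Q) (hσQ' : SigEq σ Q') (g : ↥(Sim ⇑Q)) (h : GL ι F)
    (hgh : g.1 * glmap σ h = h) (hL : ∀ v, Q (h.1 *ᵥ v) = Q' v) :
    MulAut.congr (conjLP ⇑Q ⇑Q' h hL) (stdAut Q' σ hσQ') = Phi ⇑Q g * stdAut Q σ hσQ := by
  have e : h * 1 * (glmap σ h)⁻¹ = g.1 := by
    rw [mul_one]
    exact mul_inv_eq_of_eq_mul hgh.symm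
  have hp : Cfsg.IsSemisimilarityPair ⇑Q (h * 1 * (glmap σ h)⁻¹) σ := by
    rw [e]
    exact pair_of_sim Q σ hσQ g
  rw [Phi_mul_stdAut]
  unfold stdAut
  rw [conjLP_semiAut ⇑Q ⇑Q' h hL 1 σ _ hp]
  exact semiAut_congr ⇑Q e rfl _ _

/-- the inverse direction -/
theorem twist_std_symm (hσQ : SigEq σ Q) (hσQ' : SigEq σ Q') (g : ↥(Sim ⇑Q)) (h : GL ι F)
    (hgh : g.1 * glmap σ h = h) (hL : ∀ v, Q (h.1 *ᵥ v) = Q' v) :
    MulAut.congr (conjLP ⇑Q ⇑Q' h hL).symm (Phi ⇑Q g * stdAut Q σ hσQ) = stdAut Q' σ hσQ' := by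
  rw [← twist_std Q Q' σ hσQ hσQ' g h hgh hL]
  apply MulEquiv.ext
  intro y
  show (conjLP ⇑Q ⇑Q' h hL).symm ((conjLP ⇑Q ⇑Q' h hL) (stdAut Q' σ hσQ'
    ((conjLP ⇑Q ⇑Q' h hL).symm ((conjLP ⇑Q ⇑Q' h hL).symm.symm y)))) = _
  rw [MulEquiv.symm_apply_apply, MulEquiv.symm_symm, MulEquiv.symm_apply_apply]

end twist

section corecent

variable {F : Type*} [Field F] [Fintype F] {ι : Type} [Fintype ι] [DecidableEq ι]

/-- the centraliser statement, generic form, for an automorphism which an identification carries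
to a standard field automorphism -/
theorem core_cent_gen' [Nonempty ι] (Q₀ : (ι → F) → F) (Q' : QuadraticForm F (ι → F))
    (hQ' : (polarBilin Q').Nondegenerate) (hc7 : 7 ≤ Fintype.card ι)
    (σ : F ≃+* F) (hσQ' : SigEq σ Q')
    (A : Subgroup (MulAut (Cfsg.POmega F Q₀))) (Dt' : Subgroup ↥(Sim ⇑Q'))
    (ψ : Cfsg.POmega F Q₀ ≃* Cfsg.POmega F ⇑Q')
    (hT : A.map (MulAut.congr ψ).toMonoidHom = Dt'.map (Phi ⇑Q'))
    (hZ : (Phi ⇑Q').ker ≤ Dt')
    (x : MulAut (Cfsg.POmega F Q₀))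
    (hx' : MulAut.congr ψ x = stdAut Q' σ hσQ')
    {r : ℕ} (hr : 0 < r) (hσr : orderOf σ = r)
    {K₂ : Type*} [Field K₂] (Q₂ : (ι → K₂) → K₂) (e : AutPSL.fixF σ ≃+* K₂)
    (hQe : ∀ v, Q₂ (fun i => e (v i)) = e (down Q' hσQ' v))
    (hker₂ : (Phi Q₂).ker = (Zs ι K₂).subgroupOf (Sim Q₂))
    (Dt₂ : Subgroup ↥(Sim Q₂))
    (hcomp : Dt'.comap (upSim Q' hσQ') =
      Dt₂.comap (simEquiv ⇑(down Q' hσQ') Q₂ e hQe).toMonoidHom) :
    Nonempty (↥(A ⊓ Subgroup.centralizer {x}) ≃* ↥(Dt₂.map (Phi Q₂))) := by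
  obtain ⟨E1⟩ := centralizer_map_equiv (MulAut.congr ψ) A x
  have h : A.map (MulAut.congr ψ).toMonoidHom ⊓ Subgroup.centralizer {MulAut.congr ψ x} =
      Dt'.map (Phi ⇑Q') ⊓ Subgroup.centralizer {stdAut Q' σ hσQ'} := by
    rw [hT, hx']
  obtain ⟨E2⟩ := centralizer_D_equiv Q' hσQ' (ker_Phi_all Q' hQ' hc7) (exists_neO Q' hQ' hc7) hr hσr
    Dt' hZ Q₂ e hQe hker₂ Dt₂ hcomp
  exact ⟨(E1.trans (MulEquiv.subgroupCongr h)).trans E2⟩

end corecent

end

section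

open Matrix QuadraticMap Module
open Cfsg.Agent.Lib.H11.ConfOrth
open Cfsg.Agent.Lib.H13 Cfsg.Agent.Lib.H13.HypPairs Cfsg.Agent.Lib.H13.PlusTS

section data

variable {F : Type*} [Field F] {n : ℕ}

local notation "IM" => ((Fin n ⊕ Fin n) ⊕ Fin 2)
local notation "IP" => (Fin (n + 1) ⊕ Fin (n + 1))

/-- the reindexing of the coordinates of the minus-type form as coordinates of the plus-type form
of the same dimension -/
def idxE (n : ℕ) : ((Fin n ⊕ Fin n) ⊕ Fin 2) ≃ (Fin (n + 1) ⊕ Fin (n + 1)) where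
  toFun := Sum.elim (Sum.elim (fun i => Sum.inl i.castSucc) (fun i => Sum.inr i.castSucc))
    (fun k => if k = 0 then Sum.inl (Fin.last n) else Sum.inr (Fin.last n))
  invFun := Sum.elim (Fin.lastCases (Sum.inr 0) (fun i => Sum.inl (Sum.inl i)))
    (Fin.lastCases (Sum.inr 1) (fun i => Sum.inl (Sum.inr i)))
  left_inv := by
    rintro ((i | i) | k)
    · simp
    · simp
    · fin_cases k <;> simp
  right_inv := by
    rintro (j | j)
    · refine Fin.lastCases ?_ (fun i => ?_) j <;> simp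
    · refine Fin.lastCases ?_ (fun i => ?_) j <;> simp

@[simp] theorem idxE_inl_inl (i : Fin n) : idxE n (Sum.inl (Sum.inl i)) = Sum.inl i.castSucc := rfl
@[simp] theorem idxE_inl_inr (i : Fin n) : idxE n (Sum.inl (Sum.inr i)) = Sum.inr i.castSucc := rfl
@[simp] theorem idxE_inr_zero : idxE n (Sum.inr 0) = Sum.inl (Fin.last n) := rfl
@[simp] theorem idxE_inr_one : idxE n (Sum.inr 1) = Sum.inr (Fin.last n) := rfl

/-- the twisting linear equivalence -/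
noncomputable def twT (ρ ρ' : F) (hne : ρ ≠ ρ') : (IP → F) ≃ₗ[F] (IP → F) :=
  (LinearEquiv.funCongrLeft F F (idxE n)).trans
    (Cfsg.Agent.Lib.H11.ConfOrth.splitEquiv ρ ρ' hne)

theorem twT_apply (ρ ρ' : F) (hne : ρ ≠ ρ') (w : IP → F) :
    twT ρ ρ' hne w = splitLin ρ ρ' (fun k => w (idxE n k)) := rfl

/-- the twisting matrix -/
noncomputable def twH (ρ ρ' : F) (hne : ρ ≠ ρ') : GL IP F := glOfEquiv (twT ρ ρ' hne)

theorem twH_mulVec (ρ ρ' : F) (hne : ρ ≠ ρ') (w : IP → F) :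
    (twH ρ ρ' hne).1 *ᵥ w = splitLin ρ ρ' (fun k => w (idxE n k)) :=
  glOfEquiv_mulVec _ _

theorem twH_inl_cast (ρ ρ' : F) (hne : ρ ≠ ρ') (w : IP → F) (i : Fin n) :
    ((twH ρ ρ' hne).1 *ᵥ w) (Sum.inl i.castSucc) = w (Sum.inl i.castSucc) := by
  rw [twH_mulVec, splitLin_inl_cast]
  rfl

theorem twH_inr_cast (ρ ρ' : F) (hne : ρ ≠ ρ') (w : IP → F) (i : Fin n) :
    ((twH ρ ρ' hne).1 *ᵥ w) (Sum.inr i.castSucc) = w (Sum.inr i.castSucc) := by
  rw [twH_mulVec, splitLin_inr_cast]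
  rfl

theorem twH_inl_last (ρ ρ' : F) (hne : ρ ≠ ρ') (w : IP → F) :
    ((twH ρ ρ' hne).1 *ᵥ w) (Sum.inl (Fin.last n)) =
      w (Sum.inl (Fin.last n)) - ρ * w (Sum.inr (Fin.last n)) := by
  rw [twH_mulVec, splitLin_inl_last]
  rfl

theorem twH_inr_last (ρ ρ' : F) (hne : ρ ≠ ρ') (w : IP → F) :
    ((twH ρ ρ' hne).1 *ᵥ w) (Sum.inr (Fin.last n)) =
      w (Sum.inl (Fin.last n)) - ρ' * w (Sum.inr (Fin.last n)) := by
  rw [twH_mulVec, splitLin_inr_last]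
  rfl

theorem twH_plus (ρ ρ' : F) (hne : ρ ≠ ρ') (a b : F) (hsum : ρ + ρ' = -a) (hprod : ρ * ρ' = b)
    (w : IP → F) :
    plusQF F (n + 1) ((twH ρ ρ' hne).1 *ᵥ w) = minusQF F n a b (fun k => w (idxE n k)) := by
  rw [twH_mulVec, plus_splitLin a b ρ ρ' hsum hprod, minusQF_apply]

/-- the vector whose reflection interchanges the last hyperbolic pair -/
def swV (F : Type*) [Field F] (n : ℕ) : Fin (n + 1) ⊕ Fin (n + 1) → F :=
  Pi.single (Sum.inl (Fin.last n)) 1 - Pi.single (Sum.inr (Fin.last n)) 1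

theorem swV_Q : plusQF F (n + 1) (swV F n) = -1 :=
  (PlusLevi.hypPair_plusQF (Fin.last n)).Q_minus

theorem swV_ne : plusQF F (n + 1) (swV F n) ≠ 0 := by
  rw [swV_Q]
  exact neg_ne_zero.2 one_ne_zero

theorem swV_fixed (σ : F ≃+* F) (i : IP) : σ (swV F n i) = swV F n i := by
  unfold swV
  simp only [Pi.sub_apply, Pi.single_apply]
  split_ifs <;> simp

theorem sw_mulVec (w : IP → F) :
    Cfsg.reflectionMatrix ⇑(plusQF F (n + 1)) (swV F n) *ᵥ w =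
      fun k => w (Equiv.swap (Sum.inl (Fin.last n)) (Sum.inr (Fin.last n)) k) := by
  rw [Cfsg.Agent.Lib.H4.reflectionMatrix_mulVec, swV_Q]
  have hp : QuadraticMap.polar (⇑(plusQF F (n + 1))) (swV F n) w =
      w (Sum.inr (Fin.last n)) - w (Sum.inl (Fin.last n)) :=
    (PlusLevi.hypPair_plusQF (Fin.last n)).polar_minus w
  rw [hp]
  funext k
  by_cases hka : k = Sum.inl (Fin.last n)
  · subst hka
    rw [Equiv.swap_apply_left]
    simp [swV]
  · by_cases hkb : k = Sum.inr (Fin.last n)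
    · subst hkb
      rw [Equiv.swap_apply_right]
      simp [swV]
    · rw [Equiv.swap_apply_of_ne_of_ne hka hkb]
      simp [swV, Pi.single_apply, hka, hkb]

/-- the cocycle relation for the twisting matrix -/
theorem sw_twH (σ : F ≃+* F) (ρ ρ' : F) (hne : ρ ≠ ρ') (hσρ : σ ρ = ρ') (hσρ' : σ ρ' = ρ) :
    (reflG (plusQF F (n + 1)) (swV F n) swV_ne).1 * glmap σ (twH ρ ρ' hne) = twH ρ ρ' hne := by
  apply Units.ext
  rw [Units.val_mul, glmap_val, reflG_val]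
  apply Matrix.ext_iff_mulVec.mpr
  intro w
  obtain ⟨u, rfl⟩ : ∃ u, vmap σ u = w := ⟨vmap σ.symm w, vmap_vmap_symm σ w⟩
  rw [← Matrix.mulVec_mulVec, map_mulVec_vmap, sw_mulVec]
  funext k
  rcases k with j | j
  · refine Fin.lastCases ?_ (fun i => ?_) j
    · rw [Equiv.swap_apply_left, vmap_apply, twH_inr_last, twH_inl_last, map_sub, map_mul, hσρ']
      rfl
    · rw [Equiv.swap_apply_of_ne_of_ne (by simp) (by simp), vmap_apply, twH_inl_cast,
        twH_inl_cast]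
      rfl
  · refine Fin.lastCases ?_ (fun i => ?_) j
    · rw [Equiv.swap_apply_right, vmap_apply, twH_inl_last, twH_inr_last, map_sub, map_mul, hσρ]
      rfl
    · rw [Equiv.swap_apply_of_ne_of_ne (by simp) (by simp), vmap_apply, twH_inr_cast,
        twH_inr_cast]
      rfl

end data

end

section

open Matrix QuadraticMap Module
open Cfsg.Agent.Lib.H11.ConfOrth
open Cfsg.Agent.Lib.H13 Cfsg.Agent.Lib.H13.HypPairs Cfsg.Agent.Lib.H13.PlusTS
open Cfsg.Agent.Lib.H11.IsoReindex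

section nondegcomp

variable {F : Type*} [Field F] {ι : Type} [Fintype ι] [DecidableEq ι]

theorem nondeg_of_comp_eq (Q Q' : QuadraticForm F (ι → F)) (h : GL ι F)
    (hL : ∀ v, Q (h.1 *ᵥ v) = Q' v) (hQ : (polarBilin Q).Nondegenerate) :
    (polarBilin Q').Nondegenerate := by
  have e : Q' = (1 : F) • Q.comp (Matrix.toLin' h.1) := by
    ext v
    rw [QuadraticMap.smul_apply, QuadraticMap.comp_apply, Matrix.toLin'_apply, one_smul, hL]
  rw [e]
  exact nondeg_smul_comp Q hQ h 1 one_ne_zero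

end nondegcomp

section twform

variable {F : Type*} [Field F] {n : ℕ}

local notation "IM" => ((Fin n ⊕ Fin n) ⊕ Fin 2)
local notation "IP" => (Fin (n + 1) ⊕ Fin (n + 1))

/-- the minus-type form, with the coordinates of the plus-type form -/
noncomputable def twQ (n : ℕ) (a b : F) :
    QuadraticForm F (Fin (n + 1) ⊕ Fin (n + 1) → F) :=
  trQF (idxE n) (minusQF F n a b)

theorem twQ_apply (a b : F) (w : IP → F) :
    twQ n a b w = minusQF F n a b (fun k => w (idxE n k)) := rfl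

theorem twQ_comp (ρ ρ' : F) (hne : ρ ≠ ρ') (a b : F) (hsum : ρ + ρ' = -a) (hprod : ρ * ρ' = b)
    (w : IP → F) : plusQF F (n + 1) ((twH ρ ρ' hne).1 *ᵥ w) = twQ n a b w :=
  twH_plus ρ ρ' hne a b hsum hprod w

theorem sigEq_twQ (σ : F ≃+* F) (a b : F) (ha : σ a = a) (hb : σ b = b) :
    SigEq σ (twQ n a b) := by
  intro v
  rw [twQ_apply, twQ_apply]
  exact sigEq_minus σ a b ha hb (fun k => v (idxE n k))

theorem nondeg_twQ [Finite F] (ρ ρ' : F) (hne : ρ ≠ ρ') (a b : F) (hsum : ρ + ρ' = -a)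
    (hprod : ρ * ρ' = b) : (polarBilin (twQ n a b)).Nondegenerate :=
  nondeg_of_comp_eq (plusQF F (n + 1)) (twQ n a b) (twH ρ ρ' hne)
    (twQ_comp ρ ρ' hne a b hsum hprod) (Cfsg.Agent.S0287.nondeg (F := F) (n + 1))

theorem nondeg_twQ' [Finite F] (a b : F)
    (hab : ∀ z₁ z₂ : F, z₁ ^ 2 + a * z₁ * z₂ + b * z₂ ^ 2 = 0 → z₁ = 0 ∧ z₂ = 0) :
    (polarBilin (twQ n a b)).Nondegenerate :=
  nondeg_trQF (idxE n) (minusQF F n a b) (Cfsg.Agent.S0288.nondeg (F := F) a b hab n)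

theorem down_twQ (σ : F ≃+* F) (a b : F) (hσQ : SigEq σ (twQ n a b))
    (hσQm : SigEq σ (minusQF F n a b)) (v : IP → AutPSL.fixF σ) :
    down (twQ n a b) hσQ v = down (minusQF F n a b) hσQm (fun k => v (idxE n k)) :=
  Subtype.ext rfl

end twform

section descendtw

variable {F : Type*} [Field F] [Fintype F] {n : ℕ}

local notation "IM" => ((Fin n ⊕ Fin n) ⊕ Fin 2)
local notation "IP" => (Fin (n + 1) ⊕ Fin (n + 1))

/-- the data over an isomorphic copy of the fixed field, for the twisted form -/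
theorem descend_tw {p f : ℕ} [Fact p.Prime] (hF : Fintype.card F = p ^ f)
    (σ : F ≃+* F) (hσ2 : orderOf σ = 2) (ρ : F) (hρ : ρ ≠ σ ρ) (a b : F)
    (hsum : ρ + σ ρ = -a) (hprod : ρ * σ ρ = b)
    (hσQ : SigEq σ (twQ n a b))
    (F₀ : Type*) [Field F₀] [Fintype F₀] (hF₀ : Fintype.card F₀ = p ^ (f / 2)) :
    ∃ (e : AutPSL.fixF σ ≃+* F₀) (a₀ b₀ : F₀),
      (∀ z₁ z₂ : F₀, z₁ ^ 2 + a₀ * z₁ * z₂ + b₀ * z₂ ^ 2 = 0 → z₁ = 0 ∧ z₂ = 0) ∧
      (∀ v, twQ n a₀ b₀ (fun i => e (v i)) = e (down (twQ n a b) hσQ v)) := by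
  haveI : Fintype (AutPSL.fixF σ) := Fintype.ofFinite _
  have hce : Fintype.card (AutPSL.fixF σ) = Fintype.card F₀ := by
    rw [hF₀, ← AutPSL.card_fixF' σ (by norm_num) hσ2 hF, Nat.card_eq_fintype_card]
  let e : AutPSL.fixF σ ≃+* F₀ := FiniteField.ringEquivOfCardEq hce
  have hσσ : ∀ x, σ (σ x) = x := by
    intro x
    have h1 : σ ^ 2 = 1 := by rw [← hσ2, pow_orderOf_eq_one]
    have h2 := congrArg (fun τ : F ≃+* F => τ x) h1
    simpa [pow_two, RingAut.mul_apply] using h2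
  have ha : σ a = a := by
    have : a = -(ρ + σ ρ) := by rw [hsum, neg_neg]
    rw [this, map_neg, map_add, hσσ, add_comm]
  have hb : σ b = b := by
    rw [← hprod, map_mul, hσσ, mul_comm]
  set a₁ : AutPSL.fixF σ := ⟨a, (AutPSL.mem_fixF_iff σ a).2 ha⟩ with ha₁
  set b₁ : AutPSL.fixF σ := ⟨b, (AutPSL.mem_fixF_iff σ b).2 hb⟩ with hb₁
  have han : ∀ z₁ z₂ : AutPSL.fixF σ, z₁ ^ 2 + a₁ * z₁ * z₂ + b₁ * z₂ ^ 2 = 0 →
      z₁ = 0 ∧ z₂ = 0 := by
    intro z₁ z₂ h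
    have h1 := congrArg (fun x : AutPSL.fixF σ => (x : F)) h
    simp only [Subfield.coe_add, Subfield.coe_mul, SubmonoidClass.coe_pow,
      ZeroMemClass.coe_zero] at h1
    have hz₁ : σ (z₁ : F) = z₁ := (AutPSL.mem_fixF_iff σ _).1 z₁.2
    have hz₂ : σ (z₂ : F) = z₂ := (AutPSL.mem_fixF_iff σ _).1 z₂.2
    have hfac : ((z₁ : F) - ρ * z₂) * ((z₁ : F) - σ ρ * z₂) = 0 := by
      have ha' : (a₁ : F) = -(ρ + σ ρ) := by
        show a = _
        rw [hsum, neg_neg]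
      have hb' : (b₁ : F) = ρ * σ ρ := hprod.symm
      rw [ha', hb'] at h1
      linear_combination h1
    have hz₂0 : (z₂ : F) = 0 := by
      rcases mul_eq_zero.1 hfac with h3 | h3
      · have h4 := congrArg σ h3
        rw [map_sub, map_mul, hz₁, hz₂, map_zero] at h4
        have h5 : (ρ - σ ρ) * (z₂ : F) = 0 := by linear_combination h4 - h3
        rcases mul_eq_zero.1 h5 with h6 | h6
        · exact absurd (sub_eq_zero.1 h6) hρ
        · exact h6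
      · have h4 := congrArg σ h3
        rw [map_sub, map_mul, hz₁, hz₂, map_zero, hσσ] at h4
        have h5 : (ρ - σ ρ) * (z₂ : F) = 0 := by linear_combination h3 - h4
        rcases mul_eq_zero.1 h5 with h6 | h6
        · exact absurd (sub_eq_zero.1 h6) hρ
        · exact h6
    have hz₁0 : (z₁ : F) = 0 := by
      rw [hz₂0] at h1
      have : (z₁ : F) ^ 2 = 0 := by linear_combination h1
      exact pow_eq_zero_iff (two_ne_zero) |>.1 this
    exact ⟨Subtype.ext hz₁0, Subtype.ext hz₂0⟩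
  refine ⟨e, e a₁, e b₁, ?_, ?_⟩
  · intro z₁ z₂ h
    have h' : (e.symm z₁) ^ 2 + a₁ * (e.symm z₁) * (e.symm z₂) + b₁ * (e.symm z₂) ^ 2 = 0 := by
      apply e.injective
      rw [map_zero, map_add, map_add, map_mul, map_mul, map_mul, map_pow, map_pow,
        e.apply_symm_apply, e.apply_symm_apply]
      exact h
    obtain ⟨h1, h2⟩ := han _ _ h'
    constructor
    · have := congrArg e h1
      rwa [e.apply_symm_apply, map_zero] at this
    · have := congrArg e h2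
      rwa [e.apply_symm_apply, map_zero] at this
  · intro v
    have hσQm : SigEq σ (minusQF F n a b) := sigEq_minus σ a b ha hb
    rw [down_twQ σ a b hσQ hσQm, down_minus σ a b hσQm a₁ b₁ rfl rfl, twQ_apply, minusQF_apply,
      minusQF_apply]
    exact quadFormMinus_map n (e : AutPSL.fixF σ →+* F₀) a₁ b₁ (fun k => v (idxE n k))

end descendtw

end

section

open Matrix QuadraticMap Module
open Cfsg.Agent.Lib.H11.ConfOrth
open Cfsg.Agent.Lib.H13 Cfsg.Agent.Lib.H13.HypPairs Cfsg.Agent.Lib.H13.PlusTS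
open Cfsg.Agent.Lib.H11.IsoReindex

section simreindex

variable {K : Type*} [Field K] {ι κ : Type} [Fintype ι] [DecidableEq ι] [Fintype κ]
  [DecidableEq κ]

theorem tr_reindex_mulVec (e : ι ≃ κ) (Q : (ι → K) → K) (g : GL ι K) (x : κ → K) :
    tr e Q ((glReindex e g).1 *ᵥ x) = Q (g.1 *ᵥ (x ∘ e)) := by
  rw [glReindex_mulVec, tr]
  congr 1
  funext i
  simp

theorem reindex_mem_sim (e : ι ≃ κ) (Q : (ι → K) → K) (g : GL ι K) :
    glReindex e g ∈ Sim (tr e Q) ↔ g ∈ Sim Q := by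
  constructor
  · rintro ⟨c, hc⟩
    refine ⟨c, fun v => ?_⟩
    have h1 := hc (v ∘ e.symm)
    rw [tr_reindex_mulVec] at h1
    have h2 : (v ∘ e.symm) ∘ e = v := by funext i; simp
    rw [h2] at h1
    rw [h1, tr, h2]
  · rintro ⟨c, hc⟩
    refine ⟨c, fun x => ?_⟩
    rw [tr_reindex_mulVec, hc]
    rfl

/-- the similarity groups of a form and of its reindexed version -/
noncomputable def simReindex (e : ι ≃ κ) (Q : (ι → K) → K) : ↥(Sim Q) ≃* ↥(Sim (tr e Q)) where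
  toFun g := ⟨glReindex e g.1, (reindex_mem_sim e Q g.1).2 g.2⟩
  invFun g := ⟨(glReindex e).symm g.1, by
    rw [← reindex_mem_sim e Q, MulEquiv.apply_symm_apply]
    exact g.2⟩
  left_inv g := Subtype.ext ((glReindex e).symm_apply_apply g.1)
  right_inv g := Subtype.ext ((glReindex e).apply_symm_apply g.1)
  map_mul' g h := Subtype.ext (map_mul (glReindex e) g.1 h.1)

theorem simReindex_val (e : ι ≃ κ) (Q : (ι → K) → K) (g : ↥(Sim Q)) :
    (simReindex e Q g).1 = glReindex e g.1 := rfl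

theorem mult_simReindex (e : ι ≃ κ) (Q : (ι → K) → K) (hne : ∃ v, Q v ≠ 0)
    (hne' : ∃ v, tr e Q v ≠ 0) (g : ↥(Sim Q)) :
    mult (tr e Q) hne' (simReindex e Q g) = mult Q hne g := by
  apply mult_eq
  intro x
  rw [simReindex_val, tr_reindex_mulVec, mult_spec Q hne]
  rfl

theorem det_glReindex (e : ι ≃ κ) (g : GL ι K) :
    ((glReindex e g : GL κ K) : Matrix κ κ K).det = (g : Matrix ι ι K).det := by
  rw [glReindex_val, Matrix.det_reindex_self]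

theorem glReindex_scalar (e : ι ≃ κ) (c : Kˣ) :
    glReindex e (Matrix.GeneralLinearGroup.scalar ι c) = Matrix.GeneralLinearGroup.scalar κ c := by
  apply Units.ext
  rw [glReindex_val, Matrix.GeneralLinearGroup.coe_scalar, Matrix.GeneralLinearGroup.coe_scalar]
  ext i j
  simp [Matrix.scalar_apply, Matrix.diagonal_apply]

theorem map_Zs_simReindex (e : ι ≃ κ) (Q : (ι → K) → K) :
    ((Zs ι K).subgroupOf (Sim Q)).map (simReindex e Q).toMonoidHom =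
      (Zs κ K).subgroupOf (Sim (tr e Q)) := by
  ext g
  constructor
  · rintro ⟨g', hg', rfl⟩
    rw [SetLike.mem_coe, Subgroup.mem_subgroupOf, mem_Zs_iff] at hg'
    rw [Subgroup.mem_subgroupOf, mem_Zs_iff]
    obtain ⟨c, hc⟩ := hg'
    refine ⟨c, ?_⟩
    show (simReindex e Q g').1 = _
    rw [simReindex_val, hc, glReindex_scalar]
  · intro hg
    rw [Subgroup.mem_subgroupOf, mem_Zs_iff] at hg
    obtain ⟨c, hc⟩ := hg
    refine ⟨(simReindex e Q).symm g, ?_, (simReindex e Q).apply_symm_apply g⟩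
    rw [SetLike.mem_coe, Subgroup.mem_subgroupOf, mem_Zs_iff]
    refine ⟨c, ?_⟩
    apply (glReindex e).injective
    rw [← simReindex_val, MulEquiv.apply_symm_apply, hc, glReindex_scalar]

end simreindex

section reindexDD

variable {K : Type*} [Field K] [Fintype K] {ι κ : Type} [Fintype ι] [DecidableEq ι] [Fintype κ]
  [DecidableEq κ]

/-- the version of `simReindex` for bundled quadratic forms -/
noncomputable def simReindexQF (e : ι ≃ κ) (Q : QuadraticForm K (ι → K)) :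
    ↥(Sim ⇑Q) ≃* ↥(Sim ⇑(trQF e Q)) := simReindex e ⇑Q

theorem simReindexQF_val (e : ι ≃ κ) (Q : QuadraticForm K (ι → K)) (g : ↥(Sim ⇑Q)) :
    (simReindexQF e Q g).1 = glReindex e g.1 := rfl

theorem mult_simReindexQF (e : ι ≃ κ) (Q : QuadraticForm K (ι → K)) (hne : ∃ v, Q v ≠ 0)
    (hne' : ∃ v, trQF e Q v ≠ 0) (g : ↥(Sim ⇑Q)) :
    mult (⇑(trQF e Q)) hne' (simReindexQF e Q g) = mult (⇑Q) hne g :=
  mult_simReindex e ⇑Q hne hne' g

theorem map_Zs_simReindexQF (e : ι ≃ κ) (Q : QuadraticForm K (ι → K)) :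
    ((Zs ι K).subgroupOf (Sim ⇑Q)).map (simReindexQF e Q).toMonoidHom =
      (Zs κ K).subgroupOf (Sim ⇑(trQF e Q)) :=
  map_Zs_simReindex e ⇑Q

theorem delta_simReindex (e : ι ≃ κ) (Q : QuadraticForm K (ι → K)) (hne : ∃ v, Q v ≠ 0)
    (hne' : ∃ v, trQF e Q v ≠ 0) (d : ℕ) (g : ↥(Sim ⇑Q)) :
    delta (trQF e Q) hne' d (simReindexQF e Q g) = delta Q hne d g := by
  rw [delta_apply, delta_apply, mult_simReindexQF e Q hne hne' g]
  congr 1
  apply Units.ext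
  rw [Matrix.GeneralLinearGroup.val_det_apply, Matrix.GeneralLinearGroup.val_det_apply,
    simReindexQF_val]
  exact det_glReindex e g.1

theorem DD_map_simReindex (e : ι ≃ κ) (Q : QuadraticForm K (ι → K)) (hne : ∃ v, Q v ≠ 0)
    (hne' : ∃ v, trQF e Q v ≠ 0) (d : ℕ) :
    (DD Q d hne).map (simReindexQF e Q).toMonoidHom = DD (trQF e Q) d hne' := by
  ext k
  constructor
  · rintro ⟨k', hk', rfl⟩
    rw [mem_DD]
    show delta (trQF e Q) hne' d (simReindexQF e Q k') = 1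
    rw [delta_simReindex e Q hne hne' d k']
    exact (mem_DD Q d hne k').1 hk'
  · intro hk
    refine ⟨(simReindexQF e Q).symm k, ?_, (simReindexQF e Q).apply_symm_apply k⟩
    rw [SetLike.mem_coe, mem_DD, ← delta_simReindex e Q hne hne' d, MulEquiv.apply_symm_apply]
    exact (mem_DD (trQF e Q) d hne' k).1 hk

/-- the image of `ker delta` for a form and for its reindexed version -/
theorem reindex_DD_equiv (e : ι ≃ κ) (Q : QuadraticForm K (ι → K)) (hne : ∃ v, Q v ≠ 0)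
    (hne' : ∃ v, trQF e Q v ≠ 0) (d : ℕ)
    (hker : (Phi ⇑Q).ker = (Zs ι K).subgroupOf (Sim ⇑Q))
    (hker' : (Phi ⇑(trQF e Q)).ker = (Zs κ K).subgroupOf (Sim ⇑(trQF e Q))) :
    Nonempty (↥((DD (trQF e Q) d hne').map (Phi ⇑(trQF e Q))) ≃*
      ↥((DD Q d hne).map (Phi ⇑Q))) := by
  set Θ := simReindexQF e Q with hΘ
  have hk : (Phi ⇑Q).ker = ((Phi ⇑(trQF e Q)).comp Θ.toMonoidHom).ker := by
    rw [← MonoidHom.comap_ker, hker', hker, ← map_Zs_simReindexQF e Q,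
      Subgroup.comap_map_eq_self_of_injective Θ.injective]
  obtain ⟨E⟩ := map_equiv_of_ker_eq (Phi ⇑Q) ((Phi ⇑(trQF e Q)).comp Θ.toMonoidHom) hk
    (DD Q d hne)
  have h2 : (DD Q d hne).map ((Phi ⇑(trQF e Q)).comp Θ.toMonoidHom) =
      (DD (trQF e Q) d hne').map (Phi ⇑(trQF e Q)) := by
    rw [← Subgroup.map_map, DD_map_simReindex e Q hne hne' d]
  exact ⟨(E.trans (MulEquiv.subgroupCongr h2)).symm⟩

end reindexDD

section reindexInn

variable {K : Type*} [Field K] {ι κ : Type} [Fintype ι] [DecidableEq ι] [Fintype κ]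
  [DecidableEq κ]

/-- the isomorphism `PΩ(Q) ≃* PΩ(tr e Q)` -/
noncomputable def reindexP (e : ι ≃ κ) (Q : (ι → K) → K) :
    Cfsg.POmega K Q ≃* Cfsg.POmega K (tr e Q) :=
  Cfsg.Agent.Lib.H11.OmegaSimple.centerQuotCongr
    (Cfsg.Agent.Lib.H11.OmegaSimple.commutatorCongr (isoEquiv e Q))

theorem reindex_inn_equiv (e : ι ≃ κ) (Q : (ι → K) → K) :
    Nonempty (↥(Cfsg.Inn (Cfsg.POmega K (tr e Q))) ≃* ↥(Cfsg.Inn (Cfsg.POmega K Q))) := by
  have h := map_inn_congr (reindexP e Q)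
  have hinj : Function.Injective (MulAut.congr (reindexP e Q)).toMonoidHom :=
    (MulAut.congr (reindexP e Q)).injective
  have e1 := Subgroup.equivMapOfInjective (Cfsg.Inn (Cfsg.POmega K Q)) _ hinj
  exact ⟨(e1.trans (MulEquiv.subgroupCongr h)).symm⟩

end reindexInn

end

section

open Matrix QuadraticMap Module
open Cfsg.Agent.Lib.H11.ConfOrth
open Cfsg.Agent.Lib.H13 Cfsg.Agent.Lib.H13.HypPairs Cfsg.Agent.Lib.H13.PlusTS
open Cfsg.Agent.Lib.H11.IsoReindex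

section part3

universe u v

variable {F : Type u} [Field F] [Fintype F] {n : ℕ}

local notation "IM" => ((Fin n ⊕ Fin n) ⊕ Fin 2)
local notation "IP" => (Fin (n + 1) ⊕ Fin (n + 1))

/-- the reflection interchanging the last hyperbolic pair, as a similarity -/
noncomputable def swR (F : Type u) [Field F] (n : ℕ) : ↥(Sim ⇑(plusQF F (n + 1))) :=
  Subgroup.inclusion (iso_le_sim ⇑(plusQF F (n + 1)))
    (reflG (plusQF F (n + 1)) (swV F n) swV_ne)

omit [Fintype F] in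
theorem swR_val : (swR F n).1 = (reflG (plusQF F (n + 1)) (swV F n) swV_ne).1 := rfl

/-- the standard graph-field automorphism -/
noncomputable def gfStd (σ : F ≃+* F) : MulAut (Cfsg.POmega F ⇑(plusQF F (n + 1))) :=
  Phi ⇑(plusQF F (n + 1)) (swR F n) * stdAut (plusQF F (n + 1)) σ (sigEq_plus σ)

omit [Fintype F] in
theorem sigma_sigma (σ : F ≃+* F) (hσ2 : orderOf σ = 2) (x : F) : σ (σ x) = x := by
  have h1 : σ ^ 2 = 1 := by rw [← hσ2, pow_orderOf_eq_one]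
  have h2 := congrArg (fun τ : F ≃+* F => τ x) h1
  simpa [pow_two, RingAut.mul_apply] using h2

omit [Fintype F] in
theorem exists_moved (σ : F ≃+* F) (hσ2 : orderOf σ = 2) : ∃ ρ : F, ρ ≠ σ ρ := by
  by_contra hcon
  push Not at hcon
  have : σ = 1 := by
    ext x
    exact (hcon x).symm
  rw [this, orderOf_one] at hσ2
  omega

/-- the twisting isomorphism carries the standard graph-field automorphism to a standard field
automorphism -/
theorem gf_std_twist (σ : F ≃+* F) (hσ2 : orderOf σ = 2) (ρ : F) (hρ : ρ ≠ σ ρ) (a b : F)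
    (hsum : ρ + σ ρ = -a) (hprod : ρ * σ ρ = b) (hσQ' : SigEq σ (twQ n a b)) :
    MulAut.congr (conjLP ⇑(plusQF F (n + 1)) ⇑(twQ n a b) (twH ρ (σ ρ) hρ)
      (twQ_comp ρ (σ ρ) hρ a b hsum hprod)).symm (gfStd σ) = stdAut (twQ n a b) σ hσQ' :=
  twist_std_symm (plusQF F (n + 1)) (twQ n a b) σ (sigEq_plus σ) hσQ' (swR F n) (twH ρ (σ ρ) hρ)
    (sw_twH σ ρ (σ ρ) hρ rfl (sigma_sigma σ hσ2 ρ)) (twQ_comp ρ (σ ρ) hρ a b hsum hprod)

omit [Fintype F] in
theorem card_IP : Fintype.card IP = 2 * (n + 1) := card_plus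

/-- the centraliser of the standard graph-field automorphism, odd characteristic -/
theorem gf_cent_odd (h2 : (2 : F) ≠ 0) (hn : 4 ≤ n) {p f : ℕ} [Fact p.Prime]
    (hF : Fintype.card F = p ^ f) (σ : F ≃+* F) (hσ2 : orderOf σ = 2)
    (hne : ∃ v, plusQF F (n + 1) v ≠ 0)
    (F₀ : Type v) [Field F₀] [Fintype F₀] (hF₀ : Fintype.card F₀ = p ^ (f / 2)) :
    ∃ a₀ b₀ : F₀, (∀ z₁ z₂ : F₀, z₁ ^ 2 + a₀ * z₁ * z₂ + b₀ * z₂ ^ 2 = 0 → z₁ = 0 ∧ z₂ = 0) ∧
      (2 : F₀) ≠ 0 ∧ ∀ hne₂ : ∃ v, minusQF F₀ n a₀ b₀ v ≠ 0,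
      Nonempty (↥((DD (plusQF F (n + 1)) (n + 1) hne).map (Phi ⇑(plusQF F (n + 1))) ⊓
        Subgroup.centralizer {gfStd σ}) ≃*
        ↥((DD (minusQF F₀ n a₀ b₀) (n + 1) hne₂).map (Phi ⇑(minusQF F₀ n a₀ b₀)))) := by
  obtain ⟨ρ, hρ⟩ := exists_moved σ hσ2
  obtain ⟨a, hsum⟩ : ∃ a : F, ρ + σ ρ = -a := ⟨-(ρ + σ ρ), by rw [neg_neg]⟩
  obtain ⟨b, hprod⟩ : ∃ b : F, ρ * σ ρ = b := ⟨_, rfl⟩
  have hσσ := sigma_sigma σ hσ2
  have ha : σ a = a := by
    have : a = -(ρ + σ ρ) := by rw [hsum, neg_neg]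
    rw [this, map_neg, map_add, hσσ, add_comm]
  have hb : σ b = b := by
    rw [← hprod, map_mul, hσσ, mul_comm]
  have hσQ' : SigEq σ (twQ n a b) := sigEq_twQ σ a b ha hb
  have hQ : (polarBilin (plusQF F (n + 1))).Nondegenerate :=
    Cfsg.Agent.S0287.nondeg (F := F) (n + 1)
  have hQ' : (polarBilin (twQ n a b)).Nondegenerate := nondeg_twQ ρ (σ ρ) hρ a b hsum hprod
  have hcard : Fintype.card IP = 2 * (n + 1) := card_plus
  have hc7 : 7 ≤ Fintype.card IP := by rw [hcard]; omega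
  have hne' := exists_ne_of_nondeg (twQ n a b) hQ' (by rw [hcard]; omega)
  have hall : Cfsg.gammaPOmega F ⇑(plusQF F (n + 1)) = ⊤ := hall_plus (by omega)
  have hL := twQ_comp (n := n) ρ (σ ρ) hρ a b hsum hprod
  have hnorm := DD_map_normal (plusQF F (n + 1)) (n + 1) hne hall
  set ψ := (conjLP ⇑(plusQF F (n + 1)) ⇑(twQ n a b) (twH ρ (σ ρ) hρ) hL).symm with hψ
  have hT := DD_transport (plusQF F (n + 1)) (twQ n a b) hne hne' (n + 1) (twH ρ (σ ρ) hρ) hL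
    hnorm ψ
  have hx' : MulAut.congr ψ (gfStd σ) = stdAut (twQ n a b) σ hσQ' :=
    gf_std_twist σ hσ2 ρ hρ a b hsum hprod hσQ'
  obtain ⟨e, a₀, b₀, hab₀, hQe⟩ := descend_tw hF σ hσ2 ρ hρ a b hsum hprod hσQ' F₀ hF₀
  have h2₀ : (2 : F₀) ≠ 0 := by
    intro h
    apply two_ne_zero_fix (σ := σ) h2
    apply e.injective
    rw [map_zero, map_ofNat]
    exact h
  have hQm : (polarBilin (minusQF F₀ n a₀ b₀)).Nondegenerate :=
    Cfsg.Agent.S0288.nondeg (F := F₀) a₀ b₀ hab₀ n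
  have hQ₂ : (polarBilin (twQ n a₀ b₀)).Nondegenerate := nondeg_twQ' a₀ b₀ hab₀
  have hne₂' := exists_ne_of_nondeg (twQ n a₀ b₀) hQ₂ (by rw [hcard]; omega)
  have hker₂ := ker_Phi_all (twQ n a₀ b₀) hQ₂ hc7
  have hZ := ker_Phi_le_DD (twQ n a b) hQ' hc7 (n + 1) hcard hne'
  haveI : Nonempty IP := ⟨Sum.inl 0⟩
  refine ⟨a₀, b₀, hab₀, h2₀, fun hne₂ => ?_⟩
  obtain ⟨E1⟩ := core_cent_gen' _ (twQ n a b) hQ' hc7 σ hσQ' _ (DD (twQ n a b) (n + 1) hne')
    ψ hT hZ (gfStd σ) hx' (by norm_num : 0 < 2) hσ2 _ e hQe hker₂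
    (DD (twQ n a₀ b₀) (n + 1) hne₂')
    (hcomp_odd (twQ n a b) hσQ' hne' (n + 1) (twQ n a₀ b₀) hne₂' e hQe)
  have hcm : Fintype.card IM = 2 * (n + 1) := card_minus
  have hc7m : 7 ≤ Fintype.card IM := by rw [hcm]; omega
  obtain ⟨E2⟩ := reindex_DD_equiv (idxE n) (minusQF F₀ n a₀ b₀) hne₂ hne₂' (n + 1)
    (ker_Phi_all (minusQF F₀ n a₀ b₀) hQm hc7m) hker₂
  exact ⟨E1.trans E2⟩

omit [Fintype F] in
theorem reindex_inn_equivQF {K : Type*} [Field K] {ι κ : Type} [Fintype ι] [DecidableEq ι]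
    [Fintype κ] [DecidableEq κ] (e : ι ≃ κ) (Q : QuadraticForm K (ι → K)) :
    Nonempty (↥(Cfsg.Inn (Cfsg.POmega K ⇑(trQF e Q))) ≃* ↥(Cfsg.Inn (Cfsg.POmega K ⇑Q))) :=
  reindex_inn_equiv e ⇑Q

/-- the centraliser of the standard graph-field automorphism, characteristic two -/
theorem gf_cent_two [CharP F 2] (hn : 4 ≤ n) {p f : ℕ} [Fact p.Prime]
    (hF : Fintype.card F = p ^ f) (σ : F ≃+* F) (hσ2 : orderOf σ = 2)
    (F₀ : Type v) [Field F₀] [Fintype F₀] (hF₀ : Fintype.card F₀ = p ^ (f / 2)) :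
    ∃ a₀ b₀ : F₀, (∀ z₁ z₂ : F₀, z₁ ^ 2 + a₀ * z₁ * z₂ + b₀ * z₂ ^ 2 = 0 → z₁ = 0 ∧ z₂ = 0) ∧
      (2 : F₀) = 0 ∧
      Nonempty (↥(Cfsg.Inn (Cfsg.POmega F ⇑(plusQF F (n + 1))) ⊓
        Subgroup.centralizer {gfStd σ}) ≃*
        ↥(Cfsg.Inn (Cfsg.POmega F₀ ⇑(minusQF F₀ n a₀ b₀)))) := by
  obtain ⟨ρ, hρ⟩ := exists_moved σ hσ2
  obtain ⟨a, hsum⟩ : ∃ a : F, ρ + σ ρ = -a := ⟨-(ρ + σ ρ), by rw [neg_neg]⟩
  obtain ⟨b, hprod⟩ : ∃ b : F, ρ * σ ρ = b := ⟨_, rfl⟩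
  have hσσ := sigma_sigma σ hσ2
  have ha : σ a = a := by
    have : a = -(ρ + σ ρ) := by rw [hsum, neg_neg]
    rw [this, map_neg, map_add, hσσ, add_comm]
  have hb : σ b = b := by
    rw [← hprod, map_mul, hσσ, mul_comm]
  have hσQ' : SigEq σ (twQ n a b) := sigEq_twQ σ a b ha hb
  have hQ' : (polarBilin (twQ n a b)).Nondegenerate := nondeg_twQ ρ (σ ρ) hρ a b hsum hprod
  have hcard : Fintype.card IP = 2 * (n + 1) := card_plus
  have hc7 : 7 ≤ Fintype.card IP := by rw [hcard]; omega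
  have hL := twQ_comp (n := n) ρ (σ ρ) hρ a b hsum hprod
  set ψ := (conjLP ⇑(plusQF F (n + 1)) ⇑(twQ n a b) (twH ρ (σ ρ) hρ) hL).symm with hψ
  have hT : (Cfsg.Inn (Cfsg.POmega F ⇑(plusQF F (n + 1)))).map (MulAut.congr ψ).toMonoidHom =
      ((Cfsg.Inn (Cfsg.POmega F ⇑(twQ n a b))).comap (Phi ⇑(twQ n a b))).map
        (Phi ⇑(twQ n a b)) := by
    rw [map_comap_inn _ hQ' hc7, map_inn_congr]
  have hx' : MulAut.congr ψ (gfStd σ) = stdAut (twQ n a b) σ hσQ' :=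
    gf_std_twist σ hσ2 ρ hρ a b hsum hprod hσQ'
  obtain ⟨e, a₀, b₀, hab₀, hQe⟩ := descend_tw hF σ hσ2 ρ hρ a b hsum hprod hσQ' F₀ hF₀
  have h2₀ : (2 : F₀) = 0 := by
    have h : (2 : AutPSL.fixF σ) = 0 := CharTwo.two_eq_zero
    have := congrArg e h
    rwa [map_zero, map_ofNat] at this
  haveI : CharP F₀ 2 := CharTwo.of_one_ne_zero_of_two_eq_zero one_ne_zero h2₀
  have hQ₂ : (polarBilin (twQ n a₀ b₀)).Nondegenerate := nondeg_twQ' a₀ b₀ hab₀
  have hker₂ := ker_Phi_all (twQ n a₀ b₀) hQ₂ hc7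
  have hZ : (Phi ⇑(twQ n a b)).ker ≤
      (Cfsg.Inn (Cfsg.POmega F ⇑(twQ n a b))).comap (Phi ⇑(twQ n a b)) := by
    intro g hg
    rw [Subgroup.mem_comap, MonoidHom.mem_ker.1 hg]
    exact Subgroup.one_mem _
  haveI : Nonempty IP := ⟨Sum.inl 0⟩
  refine ⟨a₀, b₀, hab₀, h2₀, ?_⟩
  have := core_cent_gen' _ (twQ n a b) hQ' hc7 σ hσQ' _
    ((Cfsg.Inn (Cfsg.POmega F ⇑(twQ n a b))).comap (Phi ⇑(twQ n a b)))
    ψ hT hZ (gfStd σ) hx' (by norm_num : 0 < 2) hσ2 _ e hQe hker₂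
    ((Cfsg.Inn (Cfsg.POmega F₀ ⇑(twQ n a₀ b₀))).comap (Phi ⇑(twQ n a₀ b₀)))
    (hcomp_two (twQ n a b) hσQ' hQ' hc7 (twQ n a₀ b₀) hQ₂ e hQe)
  rw [map_comap_inn _ hQ₂ hc7] at this
  obtain ⟨E1⟩ := this
  obtain ⟨E2⟩ := reindex_inn_equivQF (idxE n) (minusQF F₀ n a₀ b₀)
  exact ⟨E1.trans E2⟩

end part3

end

section

open Matrix QuadraticMap Module
open Cfsg.Agent.Lib.H11.ConfOrth
open Cfsg.Agent.Lib.H13 Cfsg.Agent.Lib.H13.HypPairs Cfsg.Agent.Lib.H13.PlusTS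

section arith

variable {F : Type*} [Field F] [Fintype F] {p f : ℕ} [Fact p.Prime]

/-- the involutory automorphism of a finite field is the power map -/
theorem sigma_eq_pow (hF : Fintype.card F = p ^ f) (hf : 1 ≤ f) (σ : F ≃+* F)
    (hσ2 : orderOf σ = 2) (x : F) : σ x = x ^ (p ^ (f / 2)) := by
  haveI := charP_of_card hF
  have h2f : 2 ∣ f := by rw [← hσ2]; exact order_dvd_f hF σ
  obtain ⟨k, rfl⟩ := h2f
  have hk : 1 ≤ k := by omega
  have hfr : orderOf (frobeniusEquiv F p) = 2 * k := orderOf_frob hF hf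
  have hτ : orderOf ((frobeniusEquiv F p) ^ k) = 2 := by
    rw [orderOf_pow' _ (by omega), hfr]
    have : Nat.gcd (2 * k) k = k := Nat.gcd_eq_right (Dvd.intro_left 2 rfl)
    rw [this]
    exact Nat.mul_div_cancel 2 (by omega)
  have h := ringAut_involution_unique hF σ _ hσ2 hτ
  rw [h, frob_pow_apply]
  congr 2
  omega

theorem exists_half (h2 : (2 : F) ≠ 0) (hF : Fintype.card F = p ^ f) (σ : F ≃+* F)
    (hσ2 : orderOf σ = 2) :
    ∃ t : ℕ, p ^ (f / 2) = 2 * t + 1 ∧ Fintype.card F / 2 = 2 * t * (t + 1) := by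
  have h2f : 2 ∣ f := by rw [← hσ2]; exact order_dvd_f hF σ
  obtain ⟨k, rfl⟩ := h2f
  have hodd : Odd (Fintype.card F) := card_odd_of_two_ne_zero h2
  have e : p ^ (2 * k) = (p ^ k) ^ 2 := by rw [← pow_mul, mul_comm]
  have hq₀odd : Odd (p ^ k) := by
    rw [hF, e] at hodd
    exact (Nat.odd_pow_iff (by norm_num)).1 hodd
  obtain ⟨t, ht⟩ := hq₀odd
  refine ⟨t, ?_, ?_⟩
  · rw [Nat.mul_div_cancel_left k (by norm_num)]
    exact ht
  · rw [hF, e, ht]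
    have : (2 * t + 1) ^ 2 = 2 * (2 * t * (t + 1)) + 1 := by ring
    rw [this]
    omega

omit [Fintype F] in
theorem neg_one_pow_eq_one_iff (h2 : (2 : F) ≠ 0) (t : ℕ) : (-1 : F) ^ t = 1 ↔ Even t := by
  constructor
  · intro h
    by_contra hodd
    rw [Nat.not_even_iff_odd] at hodd
    rw [hodd.neg_one_pow] at h
    apply h2
    linear_combination -h
  · intro h
    exact h.neg_one_pow

/-- an element of norm `-1` is a square iff `q₀ ≡ 1 (mod 4)` -/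
theorem isSquare_norm_neg_one_iff (h2 : (2 : F) ≠ 0) (hF : Fintype.card F = p ^ f) (hf : 1 ≤ f)
    (σ : F ≃+* F) (hσ2 : orderOf σ = 2) (u : F) (hu : u * σ u = -1) :
    IsSquare u ↔ p ^ (f / 2) % 4 = 1 := by
  obtain ⟨t, ht, hcard⟩ := exists_half h2 hF σ hσ2
  have hu0 : u ≠ 0 := by
    rintro rfl
    rw [zero_mul] at hu
    have : (1 : F) = 0 := by linear_combination hu
    exact one_ne_zero this
  have hpow : u ^ (2 * t + 2) = -1 := by
    rw [sigma_eq_pow hF hf σ hσ2 u, ht] at hu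
    rw [← hu]
    ring
  rw [FiniteField.isSquare_iff (ringChar_ne_two_of h2) hu0, hcard]
  have e : 2 * t * (t + 1) = (2 * t + 2) * t := by ring
  rw [e, pow_mul, hpow, neg_one_pow_eq_one_iff h2, ht]
  constructor
  · rintro ⟨s, rfl⟩
    omega
  · intro h
    rw [Nat.even_iff]
    omega

/-- a non-zero element negated by the involution is a square iff `q₀ ≡ 3 (mod 4)` -/
theorem isSquare_anti_iff (h2 : (2 : F) ≠ 0) (hF : Fintype.card F = p ^ f) (hf : 1 ≤ f)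
    (σ : F ≃+* F) (hσ2 : orderOf σ = 2) (c : F) (hc0 : c ≠ 0) (hc : σ c = -c) :
    IsSquare c ↔ p ^ (f / 2) % 4 = 3 := by
  obtain ⟨t, ht, hcard⟩ := exists_half h2 hF σ hσ2
  have hpow : c ^ (2 * t) = -1 := by
    rw [sigma_eq_pow hF hf σ hσ2 c, ht, pow_succ] at hc
    have : c * (c ^ (2 * t) + 1) = 0 := by linear_combination hc
    rcases mul_eq_zero.1 this with h | h
    · exact absurd h hc0
    · linear_combination h
  rw [FiniteField.isSquare_iff (ringChar_ne_two_of h2) hc0, hcard, pow_mul, hpow,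
    neg_one_pow_eq_one_iff h2, ht]
  constructor
  · rintro ⟨s, hs⟩
    omega
  · intro h
    rw [Nat.even_iff]
    omega

omit [Fintype F] in
theorem exists_anti (h2 : (2 : F) ≠ 0) (σ : F ≃+* F) (hσ2 : orderOf σ = 2) :
    ∃ c : F, c ≠ 0 ∧ σ c = -c := by
  obtain ⟨ρ, hρ⟩ := exists_moved σ hσ2
  refine ⟨ρ - σ ρ, sub_ne_zero.2 hρ, ?_⟩
  rw [map_sub, sigma_sigma σ hσ2]
  ring

theorem exists_norm_neg_one (σ : F ≃+* F) (hσ2 : orderOf σ = 2) : ∃ u : F, u * σ u = -1 := by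
  obtain ⟨d, -, hd⟩ := AutPSL.Nm_surjective σ (by norm_num : 0 < 2) hσ2 (-1 : F)
    (neg_ne_zero.2 one_ne_zero) (by rw [map_neg, map_one])
  refine ⟨d, ?_⟩
  rw [← hd]
  simp [AutPSL.Nm, Finset.prod_range_succ]

end arith

end

section

open Matrix QuadraticMap Module
open Cfsg.Agent.Lib.H11.ConfOrth
open Cfsg.Agent.Lib.H13 Cfsg.Agent.Lib.H13.HypPairs Cfsg.Agent.Lib.H13.PlusTS

section countgrp

variable {G : Type*} [Group G]

/-- counting lemma: a subgroup `A` with `|A : I| = 4`, a subgroup `C` of `A`, both `I` and `C`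
inside a subgroup `B` not containing `A` -/
theorem count_two_or_four (A I C B : Subgroup G) (hIA : I ≤ A) (hCA : C ≤ A)
    (h4 : I.relIndex A = 4) (hIB : I ≤ B) (hCB : C ≤ B) (hAB : ¬ A ≤ B) :
    (C ≤ I → (I ⊔ C).relIndex A = 4) ∧ (¬ C ≤ I → (I ⊔ C).relIndex A = 2) := by
  have hIS : I ≤ I ⊔ C := le_sup_left
  have hSA : I ⊔ C ≤ A := sup_le hIA hCA
  have hSB : I ⊔ C ≤ B := sup_le hIB hCB
  have hmul := Subgroup.relIndex_mul_relIndex I (I ⊔ C) A hIS hSA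
  rw [h4] at hmul
  have h1 : (I ⊔ C).relIndex A ≠ 1 := by
    intro h
    rw [Subgroup.relIndex_eq_one] at h
    exact hAB (le_trans h hSB)
  constructor
  · intro hCI
    have : I ⊔ C = I := sup_eq_left.2 hCI
    rw [this]
    exact h4
  · intro hCI
    have h2 : I.relIndex (I ⊔ C) ≠ 1 := by
      intro h
      rw [Subgroup.relIndex_eq_one] at h
      exact hCI (le_trans le_sup_right h)
    have hx : I.relIndex (I ⊔ C) ∣ 4 := Dvd.intro _ hmul
    have hxle : I.relIndex (I ⊔ C) ≤ 4 := Nat.le_of_dvd (by norm_num) hx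
    generalize I.relIndex (I ⊔ C) = x at *
    generalize (I ⊔ C).relIndex A = y at *
    interval_cases x
    · omega
    · omega
    · omega
    · omega
    · omega

end countgrp

section sqsub

variable {F : Type*} [Field F] [Fintype F] [DecidableEq F] {ι : Type} [Fintype ι] [DecidableEq ι]
variable (Q : QuadraticForm F (ι → F)) (hne : ∃ v, Q v ≠ 0)

/-- the similarities with square multiplier -/
noncomputable def sqSub : Subgroup ↥(Sim ⇑Q) :=
  ((quadraticChar F).toUnitHom.comp (mult (⇑Q) hne)).ker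

theorem mem_sqSub (g : ↥(Sim ⇑Q)) : g ∈ sqSub Q hne ↔ IsSquare (mult (⇑Q) hne g : F) := by
  unfold sqSub
  rw [MonoidHom.mem_ker, MonoidHom.comp_apply, qc_eq_one_iff]

theorem ker_le_sqSub (hker : (Phi ⇑Q).ker = (Zs ι F).subgroupOf (Sim ⇑Q)) :
    (Phi ⇑Q).ker ≤ sqSub Q hne := by
  intro g hg
  rw [hker, Subgroup.mem_subgroupOf, mem_Zs_iff] at hg
  obtain ⟨c, hc⟩ := hg
  have : g = zS Q c := Subtype.ext hc
  rw [this, mem_sqSub, mult_zS, Units.val_pow_eq_pow_val]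
  exact ⟨(c : F), by ring⟩

theorem inn_le_sqSub_map : Cfsg.Inn (Cfsg.POmega F ⇑Q) ≤ (sqSub Q hne).map (Phi ⇑Q) := by
  rw [inn_eq]
  apply Subgroup.map_mono
  intro g hg
  rw [Subgroup.mem_subgroupOf] at hg
  have h1 := omegaGL_le_iso ⇑Q hg
  have h2 := (mult_eq_one_iff (⇑Q) hne g).2 h1
  rw [mem_sqSub, h2, Units.val_one]
  exact ⟨1, by ring⟩

omit [Fintype F] [DecidableEq F] in
theorem mem_map_Phi_iff (S : Subgroup ↥(Sim ⇑Q)) (hS : (Phi ⇑Q).ker ≤ S) (g : ↥(Sim ⇑Q)) :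
    Phi ⇑Q g ∈ S.map (Phi ⇑Q) ↔ g ∈ S := by
  constructor
  · rintro ⟨s, hs, hsg⟩
    have h1 : s⁻¹ * g ∈ (Phi ⇑Q).ker := by
      rw [MonoidHom.mem_ker, map_mul, map_inv, hsg, inv_mul_cancel]
    have := S.mul_mem hs (hS h1)
    rwa [mul_inv_cancel_left] at this
  · intro h
    exact ⟨g, h, rfl⟩

end sqsub

section upinn

variable {F : Type*} [Field F] [Fintype F] {ι : Type} [Fintype ι] [DecidableEq ι]
variable {σ : F ≃+* F} (Q : QuadraticForm F (ι → F)) (hσQ : SigEq σ Q)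
variable (hQ : (polarBilin Q).Nondegenerate) (h2 : (2 : F) ≠ 0) (hc7 : 7 ≤ Fintype.card ι)
variable (d : ℕ) (hcard : Fintype.card ι = 2 * d) (hσ2 : orderOf σ = 2)

include hQ h2 hc7 hcard hσ2 in
/-- over the fixed field of an involution: the similarities with `delta = 1` and square multiplier
induce inner automorphisms of the group over the big field -/
theorem up_inn_of_sq (hne₀ : ∃ v, down Q hσQ v ≠ 0) (k : ↥(Sim ⇑(down Q hσQ)))
    (hk : delta (down Q hσQ) hne₀ d k = 1)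
    (hsq : IsSquare ((mult (⇑(down Q hσQ)) hne₀ k : (AutPSL.fixF σ)ˣ) : AutPSL.fixF σ)) :
    Phi ⇑Q (upSim Q hσQ k) ∈ Cfsg.Inn (Cfsg.POmega F ⇑Q) := by
  classical
  haveI : Fintype (AutPSL.fixF σ) := Fintype.ofFinite _
  have hnd₀ := down_nondeg Q hσQ hQ
  have h2₀ := two_ne_zero_fix (σ := σ) h2
  have hker := ker_Phi_all Q hQ hc7
  have hpsi : psi (down Q hσQ) hne₀ d hnd₀ h2₀ hcard k = 1 := by
    rw [psi_eq_one_iff]
    exact ⟨hsq, hk⟩
  rw [psi_eq_one_iff'] at hpsi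
  obtain ⟨c, s, hs, hks⟩ := hpsi
  have hω : upGL s ∈ Cfsg.Geo.omegaGL ⇑Q :=
    upGL_mem_omega_of_sq Q hσQ hQ h2 (by omega) (fun x => isSquare_coe_of_two σ h2 hσ2 x) s hs
  rw [inn_eq, ← Subgroup.mem_comap, mem_comap_map Q hker]
  refine ⟨Units.map (AutPSL.fixF σ).subtype.toMonoidHom c, upGL s, hω, ?_⟩
  rw [upSim_val, hks, upGL_mul, upGL_scalar]

include hQ h2 hc7 hcard hσ2 in
/-- if moreover one similarity with `delta = 1` and non-square multiplier induces an inner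
automorphism, then all similarities with `delta = 1` do -/
theorem up_inn_all (hne₀ : ∃ v, down Q hσQ v ≠ 0) (k₁ : ↥(Sim ⇑(down Q hσQ)))
    (hk₁ : delta (down Q hσQ) hne₀ d k₁ = 1)
    (hk₁ns : ¬ IsSquare ((mult (⇑(down Q hσQ)) hne₀ k₁ : (AutPSL.fixF σ)ˣ) : AutPSL.fixF σ))
    (hk₁inn : Phi ⇑Q (upSim Q hσQ k₁) ∈ Cfsg.Inn (Cfsg.POmega F ⇑Q))
    (k : ↥(Sim ⇑(down Q hσQ))) (hk : delta (down Q hσQ) hne₀ d k = 1) :
    Phi ⇑Q (upSim Q hσQ k) ∈ Cfsg.Inn (Cfsg.POmega F ⇑Q) := by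
  classical
  haveI : Fintype (AutPSL.fixF σ) := Fintype.ofFinite _
  have h2₀ := two_ne_zero_fix (σ := σ) h2
  by_cases hsq : IsSquare ((mult (⇑(down Q hσQ)) hne₀ k : (AutPSL.fixF σ)ˣ) : AutPSL.fixF σ)
  · exact up_inn_of_sq Q hσQ hQ h2 hc7 d hcard hσ2 hne₀ k hk hsq
  · have hd : delta (down Q hσQ) hne₀ d (k * k₁⁻¹) = 1 := by
      rw [map_mul, map_inv, hk, hk₁, inv_one, mul_one]
    have hsq' : IsSquare ((mult (⇑(down Q hσQ)) hne₀ (k * k₁⁻¹) : (AutPSL.fixF σ)ˣ) :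
        AutPSL.fixF σ) := by
      rw [map_mul, map_inv, Units.val_mul, Units.val_inv_eq_inv_val]
      set x := ((mult (⇑(down Q hσQ)) hne₀ k : (AutPSL.fixF σ)ˣ) : AutPSL.fixF σ) with hx
      set y := ((mult (⇑(down Q hσQ)) hne₀ k₁ : (AutPSL.fixF σ)ˣ) : AutPSL.fixF σ) with hy
      have hy0 : y ≠ 0 := Units.ne_zero _
      obtain ⟨u, hu⟩ := isSquare_mul_of_nonsquare h2₀ x y hsq hk₁ns
      refine ⟨u * y⁻¹, ?_⟩
      field_simp
      linear_combination hu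
    have h1 := up_inn_of_sq Q hσQ hQ h2 hc7 d hcard hσ2 hne₀ (k * k₁⁻¹) hd hsq'
    have h3 := Subgroup.mul_mem _ h1 hk₁inn
    rw [← map_mul, ← map_mul, inv_mul_cancel_right] at h3
    exact h3

end upinn

end

section

open Matrix QuadraticMap Module
open Cfsg.Agent.Lib.H11.ConfOrth
open Cfsg.Agent.Lib.H13 Cfsg.Agent.Lib.H13.HypPairs Cfsg.Agent.Lib.H13.PlusTS

section inniffneg

variable {F : Type*} [Field F] [Fintype F] {ι : Type} [Fintype ι] [DecidableEq ι]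
variable (Q : QuadraticForm F (ι → F))
variable (hQ : (polarBilin Q).Nondegenerate) (hcard : 7 ≤ Fintype.card ι)

include hQ hcard in
/-- when `-1 ∈ Ω`, a scalar multiple of an isometry induces an inner automorphism iff the isometry
lies in `Ω` -/
theorem mem_inn_iff_neg (hneg : negOne ι F ∈ Cfsg.Geo.omegaGL ⇑Q) (c : Fˣ)
    (s : ↥(Cfsg.isometryGroup F ⇑Q)) (g : ↥(Sim ⇑Q))
    (hg : g.1 = Matrix.GeneralLinearGroup.scalar ι c * s.1) :
    Phi ⇑Q g ∈ Cfsg.Inn (Cfsg.POmega F ⇑Q) ↔ s ∈ Cfsg.Omega F ⇑Q := by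
  have hne := exists_neO Q hQ hcard
  have hker := ker_Phi_all Q hQ hcard
  rw [inn_eq, ← Subgroup.mem_comap, mem_comap_map Q hker]
  constructor
  · rintro ⟨c', ω, hω, hgω⟩
    have h1 : s.1 = Matrix.GeneralLinearGroup.scalar ι (c⁻¹ * c') * ω := by
      rw [hg] at hgω
      rw [map_mul, mul_assoc, ← hgω, ← mul_assoc, ← map_mul, inv_mul_cancel, map_one, one_mul]
    have h3 : s.1 ∈ Cfsg.Geo.omegaGL ⇑Q := by
      rw [h1]
      apply scalar_mul_mem' Q hne hneg _ ω hω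
      rw [← h1]
      exact s.2
    obtain ⟨_, h4⟩ := (mem_omegaGL_iff (⇑Q) s.1).1 h3
    exact h4
  · intro h
    exact ⟨c, s.1, (mem_omegaGL_iff (⇑Q) s.1).2 ⟨s.2, h⟩, hg⟩

end inniffneg

section diagN

variable {F : Type*} [Field F] {n : ℕ}

local notation "IP" => (Fin (n + 1) ⊕ Fin (n + 1))

/-- the diagonal matrix `diag(c, …, c, u)` -/
def dD (c u : F) (hc : c ≠ 0) (hu : u ≠ 0) : GL (Fin (n + 1)) F :=
  ⟨Matrix.diagonal (Fin.snoc (α := fun _ => F) (fun _ : Fin n => c) u),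
    Matrix.diagonal (Fin.snoc (α := fun _ => F) (fun _ : Fin n => c⁻¹) u⁻¹),
    by
      rw [Matrix.diagonal_mul_diagonal, ← Matrix.diagonal_one]
      congr 1
      funext j
      refine Fin.lastCases ?_ (fun i => ?_) j
      · simp [hu]
      · simp [hc],
    by
      rw [Matrix.diagonal_mul_diagonal, ← Matrix.diagonal_one]
      congr 1
      funext j
      refine Fin.lastCases ?_ (fun i => ?_) j
      · simp [hu]
      · simp [hc]⟩

theorem dD_det (c u : F) (hc : c ≠ 0) (hu : u ≠ 0) :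
    ((dD (n := n) c u hc hu : GL (Fin (n + 1)) F) : Matrix (Fin (n + 1)) (Fin (n + 1)) F).det =
      c ^ n * u := by
  show (Matrix.diagonal _).det = _
  rw [Matrix.det_diagonal, Fin.prod_univ_castSucc]
  simp

/-- the diagonal entries of the Levi element of `diag(c, …, c, u)` -/
def eD (c u : F) : Fin (n + 1) ⊕ Fin (n + 1) → F :=
  Sum.elim (Fin.snoc (α := fun _ => F) (fun _ : Fin n => c) u)
    (Fin.snoc (α := fun _ => F) (fun _ : Fin n => c⁻¹) u⁻¹)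

theorem leviM_dD (c u : F) (hc : c ≠ 0) (hu : u ≠ 0) :
    PlusLevi.leviM (dD (n := n) c u hc hu) = Matrix.diagonal (eD c u) := by
  unfold PlusLevi.leviM
  have h1 : ((dD (n := n) c u hc hu : GL (Fin (n + 1)) F) :
      Matrix (Fin (n + 1)) (Fin (n + 1)) F) =
      Matrix.diagonal (Fin.snoc (α := fun _ => F) (fun _ : Fin n => c) u) := rfl
  have h2 : (((dD (n := n) c u hc hu)⁻¹ : GL (Fin (n + 1)) F) :
      Matrix (Fin (n + 1)) (Fin (n + 1)) F) =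
      Matrix.diagonal (Fin.snoc (α := fun _ => F) (fun _ : Fin n => c⁻¹) u⁻¹) := rfl
  rw [h1, h2, Matrix.diagonal_transpose, Matrix.fromBlocks_diagonal]
  rfl

/-- the similarity `c · diag(c, …, c, u; c⁻¹, …, c⁻¹, u⁻¹)` -/
noncomputable def gN (c u : F) (hc : c ≠ 0) (hu : u ≠ 0) : GL IP F :=
  Matrix.GeneralLinearGroup.scalar IP (Units.mk0 c hc) * (PlusLevi.levi (dD c u hc hu)).1

theorem gN_mulVec (c u : F) (hc : c ≠ 0) (hu : u ≠ 0) (w : IP → F) :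
    (gN c u hc hu).1 *ᵥ w = fun k => c * (eD c u k * w k) := by
  unfold gN
  rw [Units.val_mul, ← Matrix.mulVec_mulVec, scalar_mulVec, PlusLevi.levi_val, leviM_dD]
  funext k
  rw [Pi.smul_apply, Matrix.mulVec_diagonal, smul_eq_mul, Units.val_mk0]

/-- the relation between the diagonal similarity and the reflection -/
theorem sw_gN (σ : F ≃+* F) (c u : F) (hc : c ≠ 0) (hu : u ≠ 0) (hσc : σ c = -c)
    (hσu : u * σ u = -1) :
    (reflG (plusQF F (n + 1)) (swV F n) swV_ne).1 * glmap σ (gN c u hc hu) =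
      gN c u hc hu * (reflG (plusQF F (n + 1)) (swV F n) swV_ne).1 := by
  have hσu' : σ u = -u⁻¹ := by
    field_simp
    linear_combination hσu
  have hσui : σ u⁻¹ = -u := by
    rw [map_inv₀, hσu', inv_neg, inv_inv]
  have hσci : σ c⁻¹ = -c⁻¹ := by
    rw [map_inv₀, hσc, inv_neg]
  apply Units.ext
  rw [Units.val_mul, Units.val_mul, glmap_val, reflG_val]
  apply Matrix.ext_iff_mulVec.mpr
  intro w
  obtain ⟨v, rfl⟩ : ∃ v, vmap σ v = w := ⟨vmap σ.symm w, vmap_vmap_symm σ w⟩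
  rw [← Matrix.mulVec_mulVec, ← Matrix.mulVec_mulVec, map_mulVec_vmap, sw_mulVec, sw_mulVec,
    gN_mulVec, gN_mulVec]
  funext k
  simp only [vmap_apply, map_mul]
  rcases k with j | j
  · refine Fin.lastCases ?_ (fun i => ?_) j
    · rw [Equiv.swap_apply_left]
      simp only [eD, Sum.elim_inl, Sum.elim_inr, Fin.snoc_last]
      rw [hσc, hσui]
      ring
    · rw [Equiv.swap_apply_of_ne_of_ne (by simp) (by simp)]
      simp only [eD, Sum.elim_inl, Fin.snoc_castSucc]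
      rw [hσc]
      ring
  · refine Fin.lastCases ?_ (fun i => ?_) j
    · rw [Equiv.swap_apply_right]
      simp only [eD, Sum.elim_inl, Sum.elim_inr, Fin.snoc_last]
      rw [hσc, hσu']
      ring
    · rw [Equiv.swap_apply_of_ne_of_ne (by simp) (by simp)]
      simp only [eD, Sum.elim_inr, Fin.snoc_castSucc]
      rw [hσc, hσci]
      ring

end diagN

end

section

open Matrix QuadraticMap Module
open Cfsg.Agent.Lib.H11.ConfOrth
open Cfsg.Agent.Lib.H13 Cfsg.Agent.Lib.H13.HypPairs Cfsg.Agent.Lib.H13.PlusTS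

section deltadown

variable {F : Type*} [Field F] [Fintype F] {ι : Type} [Fintype ι] [DecidableEq ι]
variable {σ : F ≃+* F} (Q : QuadraticForm F (ι → F)) (hσQ : SigEq σ Q)

theorem delta_down_iff (hne : ∃ v, Q v ≠ 0) (hne₀ : ∃ v, down Q hσQ v ≠ 0) (d : ℕ)
    (k : ↥(Sim ⇑(down Q hσQ))) :
    upSim Q hσQ k ∈ DD Q d hne ↔ delta (down Q hσQ) hne₀ d k = 1 := by
  rw [mem_DD, delta_eq_one_iff, delta_eq_one_iff, upSim_val, det_upGL,
    mult_upSim Q hσQ hne hne₀ k, ← SubmonoidClass.coe_pow]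
  exact Subtype.ext_iff.symm

end deltadown

section congrcancel

variable {X Y : Type*} [Group X] [Group Y] (Λ : X ≃* Y)

theorem congr_congr_symm (γ : MulAut Y) : MulAut.congr Λ (MulAut.congr Λ.symm γ) = γ := by
  apply MulEquiv.ext
  intro y
  show Λ (Λ.symm (γ (Λ.symm.symm (Λ.symm y)))) = γ y
  rw [MulEquiv.apply_symm_apply, MulEquiv.symm_symm, MulEquiv.apply_symm_apply]

theorem congr_symm_congr (γ : MulAut X) : MulAut.congr Λ.symm (MulAut.congr Λ γ) = γ := by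
  apply MulEquiv.ext
  intro y
  show Λ.symm (Λ (γ (Λ.symm (Λ.symm.symm y)))) = γ y
  rw [MulEquiv.symm_apply_apply, MulEquiv.symm_symm, MulEquiv.symm_apply_apply]

end congrcancel

section gNs

universe u

variable {F : Type u} [Field F] [Fintype F] {n : ℕ}

local notation "IP" => (Fin (n + 1) ⊕ Fin (n + 1))

/-- the diagonal similarity, as an element of the similarity group -/
noncomputable def gNs (c u : F) (hc : c ≠ 0) (hu : u ≠ 0) : ↥(Sim ⇑(plusQF F (n + 1))) :=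
  zS (plusQF F (n + 1)) (Units.mk0 c hc) *
    oS (plusQF F (n + 1)) (PlusLevi.levi (dD c u hc hu)).1 (PlusLevi.levi (dD c u hc hu)).2

omit [Fintype F] in
theorem gNs_val (c u : F) (hc : c ≠ 0) (hu : u ≠ 0) :
    (gNs (n := n) c u hc hu).1 = gN c u hc hu := rfl

omit [Fintype F] in
theorem levi_dD_det (c u : F) (hc : c ≠ 0) (hu : u ≠ 0) :
    Matrix.GeneralLinearGroup.det ((PlusLevi.levi (dD (n := n) c u hc hu)).1 : GL IP F) = 1 := by
  apply Units.ext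
  rw [Matrix.GeneralLinearGroup.val_det_apply, PlusLevi.levi_val, Units.val_one]
  unfold PlusLevi.leviM
  rw [Matrix.det_fromBlocks_zero₂₁, Matrix.det_transpose, ← Matrix.det_mul,
    ← Units.val_mul, mul_inv_cancel, Units.val_one, Matrix.det_one]

omit [Fintype F] in
theorem gNs_mult (hne : ∃ v, plusQF F (n + 1) v ≠ 0) (c u : F) (hc : c ≠ 0) (hu : u ≠ 0) :
    mult (⇑(plusQF F (n + 1))) hne (gNs c u hc hu) = (Units.mk0 c hc) ^ 2 := by
  unfold gNs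
  rw [map_mul, mult_zS, mult_oS, mul_one]

omit [Fintype F] in
theorem gNs_mem_DD (hne : ∃ v, plusQF F (n + 1) v ≠ 0) (c u : F) (hc : c ≠ 0) (hu : u ≠ 0) :
    gNs c u hc hu ∈ DD (plusQF F (n + 1)) (n + 1) hne := by
  rw [mem_DD]
  unfold gNs
  rw [map_mul, delta_zS _ hne (n + 1) card_plus, delta_oS, one_mul, levi_dD_det]

/-- the diagonal similarity commutes with the standard graph-field automorphism -/
theorem gNs_comm (σ : F ≃+* F) (c u : F) (hc : c ≠ 0) (hu : u ≠ 0) (hσc : σ c = -c)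
    (hσu : u * σ u = -1) :
    gfStd σ * Phi ⇑(plusQF F (n + 1)) (gNs c u hc hu) =
      Phi ⇑(plusQF F (n + 1)) (gNs c u hc hu) * gfStd σ := by
  unfold gfStd
  rw [Phi_mul_stdAut, semiAut_Phi_comm]
  congr 2
  apply Subtype.ext
  show (swR F n).1 * glmap σ (gNs c u hc hu).1 * ((swR F n).1)⁻¹ = (gNs c u hc hu).1
  rw [gNs_val, swR_val, sw_gN σ c u hc hu hσc hσu, mul_inv_cancel_right]

end gNs

end

section

open Matrix QuadraticMap Module
open Cfsg.Agent.Lib.H11.ConfOrth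
open Cfsg.Agent.Lib.H13 Cfsg.Agent.Lib.H13.HypPairs Cfsg.Agent.Lib.H13.PlusTS

section corecentdesc

variable {F : Type*} [Field F] [Fintype F] {ι : Type} [Fintype ι] [DecidableEq ι]

/-- description of the elements of the centraliser, generic form -/
theorem core_cent_desc (Q₀ : (ι → F) → F) (Q' : QuadraticForm F (ι → F))
    (hQ' : (polarBilin Q').Nondegenerate) (hc7 : 7 ≤ Fintype.card ι)
    (σ : F ≃+* F) (hσQ' : SigEq σ Q')
    (A : Subgroup (MulAut (Cfsg.POmega F Q₀))) (Dt' : Subgroup ↥(Sim ⇑Q'))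
    (ψ : Cfsg.POmega F Q₀ ≃* Cfsg.POmega F ⇑Q')
    (hT : A.map (MulAut.congr ψ).toMonoidHom = Dt'.map (Phi ⇑Q'))
    (hZ : (Phi ⇑Q').ker ≤ Dt')
    (x : MulAut (Cfsg.POmega F Q₀))
    (hx' : MulAut.congr ψ x = stdAut Q' σ hσQ')
    {r : ℕ} (hr : 0 < r) (hσr : orderOf σ = r)
    (γ : MulAut (Cfsg.POmega F Q₀)) (hγ : γ ∈ A ⊓ Subgroup.centralizer {x}) :
    ∃ k : ↥(Sim ⇑(down Q' hσQ')), upSim Q' hσQ' k ∈ Dt' ∧
      MulAut.congr ψ γ = Phi ⇑Q' (upSim Q' hσQ' k) := by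
  have h1 : MulAut.congr ψ γ ∈ Dt'.map (Phi ⇑Q') ⊓
      Subgroup.centralizer {stdAut Q' σ hσQ'} := by
    constructor
    · rw [← hT]
      exact Subgroup.mem_map_of_mem _ hγ.1
    · rw [← hx', ← map_centralizer_equiv]
      exact Subgroup.mem_map_of_mem _ hγ.2
  rw [centralizer_D Q' σ hσQ' (ker_Phi_all Q' hQ' hc7) (exists_neO Q' hQ' hc7) hr hσr Dt' hZ] at h1
  obtain ⟨k, hk, hkeq⟩ := h1
  exact ⟨k, hk, hkeq.symm⟩

end corecentdesc

section centdesc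

universe u

variable {F : Type u} [Field F] [Fintype F] {n : ℕ}

local notation "IP" => (Fin (n + 1) ⊕ Fin (n + 1))

/-- description of the elements of the centraliser of the standard graph-field automorphism -/
theorem gf_cent_desc (hn : 4 ≤ n) (σ : F ≃+* F) (hσ2 : orderOf σ = 2)
    (hne : ∃ v, plusQF F (n + 1) v ≠ 0)
    (ρ : F) (hρ : ρ ≠ σ ρ) (a b : F) (hsum : ρ + σ ρ = -a) (hprod : ρ * σ ρ = b)
    (hσQ' : SigEq σ (twQ n a b)) (hne' : ∃ v, twQ n a b v ≠ 0)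
    (γ : MulAut (Cfsg.POmega F ⇑(plusQF F (n + 1))))
    (hγ : γ ∈ (DD (plusQF F (n + 1)) (n + 1) hne).map (Phi ⇑(plusQF F (n + 1))) ⊓
      Subgroup.centralizer {gfStd σ}) :
    ∃ k : ↥(Sim ⇑(down (twQ n a b) hσQ')),
      upSim (twQ n a b) hσQ' k ∈ DD (twQ n a b) (n + 1) hne' ∧
      γ = MulAut.congr (conjLP ⇑(plusQF F (n + 1)) ⇑(twQ n a b) (twH ρ (σ ρ) hρ)
        (twQ_comp ρ (σ ρ) hρ a b hsum hprod))
        (Phi ⇑(twQ n a b) (upSim (twQ n a b) hσQ' k)) := by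
  have hQ' : (polarBilin (twQ n a b)).Nondegenerate := nondeg_twQ ρ (σ ρ) hρ a b hsum hprod
  have hcard : Fintype.card IP = 2 * (n + 1) := card_plus
  have hc7 : 7 ≤ Fintype.card IP := by rw [hcard]; omega
  have hall : Cfsg.gammaPOmega F ⇑(plusQF F (n + 1)) = ⊤ := hall_plus (by omega)
  have hL := twQ_comp (n := n) ρ (σ ρ) hρ a b hsum hprod
  have hnorm := DD_map_normal (plusQF F (n + 1)) (n + 1) hne hall
  set Λ := conjLP ⇑(plusQF F (n + 1)) ⇑(twQ n a b) (twH ρ (σ ρ) hρ) hL with hΛ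
  have hT := DD_transport (plusQF F (n + 1)) (twQ n a b) hne hne' (n + 1) (twH ρ (σ ρ) hρ) hL
    hnorm Λ.symm
  have hx' : MulAut.congr Λ.symm (gfStd σ) = stdAut (twQ n a b) σ hσQ' :=
    gf_std_twist σ hσ2 ρ hρ a b hsum hprod hσQ'
  have hker' := ker_Phi_all (twQ n a b) hQ' hc7
  have hZ := ker_Phi_le_DD (twQ n a b) hQ' hc7 (n + 1) hcard hne'
  obtain ⟨k, hk, hkeq⟩ := core_cent_desc _ (twQ n a b) hQ' hc7 σ hσQ' _
    (DD (twQ n a b) (n + 1) hne') Λ.symm hT hZ (gfStd σ) hx' (by norm_num : 0 < 2) hσ2 γ hγ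
  refine ⟨k, hk, ?_⟩
  rw [← hkeq, congr_congr_symm]

/-- the centraliser consists of automorphisms induced by similarities with square multiplier -/
theorem gf_cent_le_sq [DecidableEq F] (h2 : (2 : F) ≠ 0) (hn : 4 ≤ n) (σ : F ≃+* F)
    (hσ2 : orderOf σ = 2) (hne : ∃ v, plusQF F (n + 1) v ≠ 0) :
    (DD (plusQF F (n + 1)) (n + 1) hne).map (Phi ⇑(plusQF F (n + 1))) ⊓
      Subgroup.centralizer {gfStd σ} ≤
      (sqSub (plusQF F (n + 1)) hne).map (Phi ⇑(plusQF F (n + 1))) := by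
  intro γ hγ
  obtain ⟨ρ, hρ⟩ := exists_moved σ hσ2
  obtain ⟨a, hsum⟩ : ∃ a : F, ρ + σ ρ = -a := ⟨-(ρ + σ ρ), by rw [neg_neg]⟩
  obtain ⟨b, hprod⟩ : ∃ b : F, ρ * σ ρ = b := ⟨_, rfl⟩
  have hσσ := sigma_sigma σ hσ2
  have ha : σ a = a := by
    have : a = -(ρ + σ ρ) := by rw [hsum, neg_neg]
    rw [this, map_neg, map_add, hσσ, add_comm]
  have hb : σ b = b := by
    rw [← hprod, map_mul, hσσ, mul_comm]
  have hσQ' : SigEq σ (twQ n a b) := sigEq_twQ σ a b ha hb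
  have hQ' : (polarBilin (twQ n a b)).Nondegenerate := nondeg_twQ ρ (σ ρ) hρ a b hsum hprod
  have hcard : Fintype.card IP = 2 * (n + 1) := card_plus
  have hne' := exists_ne_of_nondeg (twQ n a b) hQ' (by rw [hcard]; omega)
  haveI : Fintype (AutPSL.fixF σ) := Fintype.ofFinite _
  have hnd₀ := down_nondeg (twQ n a b) hσQ' hQ'
  have hne₀ := exists_ne_of_nondeg (down (twQ n a b) hσQ') hnd₀ (by rw [hcard]; omega)
  obtain ⟨k, hk, rfl⟩ := gf_cent_desc hn σ hσ2 hne ρ hρ a b hsum hprod hσQ' hne' γ hγ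
  rw [conjLP_Phi]
  refine ⟨_, ?_, rfl⟩
  rw [SetLike.mem_coe, mem_sqSub,
    mult_conjL (plusQF F (n + 1)) (twQ n a b) hne hne' (twH ρ (σ ρ) hρ)
      (twQ_comp ρ (σ ρ) hρ a b hsum hprod),
    mult_upSim (twQ n a b) hσQ' hne' hne₀ k]
  exact isSquare_coe_of_two σ h2 hσ2 _

end centdesc

end

section

open Matrix QuadraticMap Module
open Cfsg.Agent.Lib.H11.ConfOrth
open Cfsg.Agent.Lib.H13 Cfsg.Agent.Lib.H13.HypPairs Cfsg.Agent.Lib.H13.PlusTS

section descendconj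

variable {F : Type*} [Field F] [Fintype F] {ι : Type} [Fintype ι] [DecidableEq ι]
variable {σ : F ≃+* F} (Q Q' : QuadraticForm F (ι → F))

/-- a similarity of `Q` whose conjugate under the twisting matrix is fixed by `σ` comes from a
similarity of the descended twisted form -/
theorem descend_conj (hne : ∃ v, Q v ≠ 0) (h : GL ι F) (hL : ∀ v, Q (h.1 *ᵥ v) = Q' v)
    (hσQ' : SigEq σ Q') (N : ↥(Sim ⇑Q))
    (hτ : σ ((mult (⇑Q) hne N : Fˣ) : F) = ((mult (⇑Q) hne N : Fˣ) : F))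
    (hM : glmap σ (h⁻¹ * N.1 * h) = h⁻¹ * N.1 * h) :
    ∃ k₁ : ↥(Sim ⇑(down Q' hσQ')), conjLSim ⇑Q ⇑Q' h hL (upSim Q' hσQ' k₁) = N := by
  obtain ⟨k, hk⟩ := exists_upGL_of_fixed (σ := σ) (h⁻¹ * N.1 * h) hM
  have hτ0 : ((mult (⇑Q) hne N : Fˣ) : F) ≠ 0 := Units.ne_zero _
  have hτ0' : (⟨((mult (⇑Q) hne N : Fˣ) : F), (AutPSL.mem_fixF_iff σ _).2 hτ⟩ : AutPSL.fixF σ) ≠ 0 := by
    intro h0
    apply hτ0
    exact congrArg Subtype.val h0
  have hkS : k ∈ Sim ⇑(down Q' hσQ') := by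
    refine ⟨Units.mk0 _ hτ0', fun v => ?_⟩
    apply Subtype.ext
    rw [down_apply, ← upGL_mulVec, hk]
    show Q' ((h⁻¹ * N.1 * h).1 *ᵥ upV σ v) = ((mult (⇑Q) hne N : Fˣ) : F) * Q' (upV σ v)
    rw [← hL, ← hL, Matrix.mulVec_mulVec, ← Units.val_mul]
    have e : h * (h⁻¹ * N.1 * h) = N.1 * h := by group
    rw [e, Units.val_mul, ← Matrix.mulVec_mulVec, mult_spec (⇑Q) hne N]
  refine ⟨⟨k, hkS⟩, Subtype.ext ?_⟩
  rw [conjLSim_val, upSim_val]
  show h * upGL k * h⁻¹ = N.1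
  rw [hk]
  group

end descendconj

end

section

open Matrix QuadraticMap Module
open Cfsg.Agent.Lib.H11.ConfOrth
open Cfsg.Agent.Lib.H13 Cfsg.Agent.Lib.H13.HypPairs Cfsg.Agent.Lib.H13.PlusTS

section countfour

universe u

variable {F : Type u} [Field F] [Fintype F] {n : ℕ}

local notation "IP" => (Fin (n + 1) ⊕ Fin (n + 1))

set_option maxHeartbeats 1600000 in
/-- if the diagonal similarity induces an inner automorphism, the whole centraliser consists of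
inner automorphisms -/
theorem gf_cent_le_inn (h2 : (2 : F) ≠ 0) (hn : 4 ≤ n) (σ : F ≃+* F) (hσ2 : orderOf σ = 2)
    (hne : ∃ v, plusQF F (n + 1) v ≠ 0) (c u : F) (hc : c ≠ 0) (hu : u ≠ 0) (hσc : σ c = -c)
    (hσu : u * σ u = -1)
    (hinn : Phi ⇑(plusQF F (n + 1)) (gNs c u hc hu) ∈
      Cfsg.Inn (Cfsg.POmega F ⇑(plusQF F (n + 1)))) :
    (DD (plusQF F (n + 1)) (n + 1) hne).map (Phi ⇑(plusQF F (n + 1))) ⊓
      Subgroup.centralizer {gfStd σ} ≤ Cfsg.Inn (Cfsg.POmega F ⇑(plusQF F (n + 1))) := by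
  intro γ hγ
  obtain ⟨ρ, hρ⟩ := exists_moved σ hσ2
  obtain ⟨a, hsum⟩ : ∃ a : F, ρ + σ ρ = -a := ⟨-(ρ + σ ρ), by rw [neg_neg]⟩
  obtain ⟨b, hprod⟩ : ∃ b : F, ρ * σ ρ = b := ⟨_, rfl⟩
  have hσσ := sigma_sigma σ hσ2
  have ha : σ a = a := by
    have : a = -(ρ + σ ρ) := by rw [hsum, neg_neg]
    rw [this, map_neg, map_add, hσσ, add_comm]
  have hb : σ b = b := by
    rw [← hprod, map_mul, hσσ, mul_comm]
  have hσQ' : SigEq σ (twQ n a b) := sigEq_twQ σ a b ha hb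
  have hQ' : (polarBilin (twQ n a b)).Nondegenerate := nondeg_twQ ρ (σ ρ) hρ a b hsum hprod
  have hcard : Fintype.card IP = 2 * (n + 1) := card_plus
  have hc7 : 7 ≤ Fintype.card IP := by rw [hcard]; omega
  have hne' := exists_ne_of_nondeg (twQ n a b) hQ' (by rw [hcard]; omega)
  haveI : Fintype (AutPSL.fixF σ) := Fintype.ofFinite _
  have hnd₀ := down_nondeg (twQ n a b) hσQ' hQ'
  have hne₀ := exists_ne_of_nondeg (down (twQ n a b) hσQ') hnd₀ (by rw [hcard]; omega)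
  have hL := twQ_comp (n := n) ρ (σ ρ) hρ a b hsum hprod
  obtain ⟨k, hk, rfl⟩ := gf_cent_desc hn σ hσ2 hne ρ hρ a b hsum hprod hσQ' hne' γ hγ
  set Λ := conjLP ⇑(plusQF F (n + 1)) ⇑(twQ n a b) (twH ρ (σ ρ) hρ) hL with hΛ
  suffices hsuff : Phi ⇑(twQ n a b) (upSim (twQ n a b) hσQ' k) ∈
      Cfsg.Inn (Cfsg.POmega F ⇑(twQ n a b)) by
    rw [← map_inn_congr Λ]
    exact Subgroup.mem_map_of_mem _ hsuff
  -- the special element
  have hτ : σ ((mult (⇑(plusQF F (n + 1))) hne (gNs c u hc hu) : Fˣ) : F) =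
      ((mult (⇑(plusQF F (n + 1))) hne (gNs c u hc hu) : Fˣ) : F) := by
    rw [gNs_mult, Units.val_pow_eq_pow_val, Units.val_mk0, map_pow, hσc]
    ring
  have hRh := sw_twH (n := n) σ ρ (σ ρ) hρ rfl (hσσ ρ)
  have hRN := sw_gN (n := n) σ c u hc hu hσc hσu
  have hM : glmap σ ((twH (n := n) ρ (σ ρ) hρ)⁻¹ * (gNs (n := n) c u hc hu).1 *
      twH (n := n) ρ (σ ρ) hρ) =
      (twH (n := n) ρ (σ ρ) hρ)⁻¹ * (gNs (n := n) c u hc hu).1 * twH (n := n) ρ (σ ρ) hρ := by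
    have e1 : glmap σ (twH (n := n) ρ (σ ρ) hρ) =
        ((reflG (plusQF F (n + 1)) (swV F n) swV_ne).1)⁻¹ * twH ρ (σ ρ) hρ := by
      rw [eq_inv_mul_iff_mul_eq]
      exact hRh
    have e2 : glmap σ (gN (n := n) c u hc hu) =
        ((reflG (plusQF F (n + 1)) (swV F n) swV_ne).1)⁻¹ * gN c u hc hu *
          (reflG (plusQF F (n + 1)) (swV F n) swV_ne).1 := by
      rw [mul_assoc, eq_inv_mul_iff_mul_eq]
      exact hRN
    rw [map_mul, map_mul, map_inv, gNs_val, e1, e2]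
    group
  obtain ⟨k₁, hk₁⟩ := descend_conj (plusQF F (n + 1)) (twQ n a b) hne (twH ρ (σ ρ) hρ) hL hσQ'
    (gNs c u hc hu) hτ hM
  have hk₁D : upSim (twQ n a b) hσQ' k₁ ∈ DD (twQ n a b) (n + 1) hne' := by
    rw [mem_DD, ← delta_conjL (plusQF F (n + 1)) (twQ n a b) hne hne' (n + 1)
      (twH ρ (σ ρ) hρ) hL, hk₁]
    exact (mem_DD _ _ hne _).1 (gNs_mem_DD hne c u hc hu)
  have hk₁d := (delta_down_iff (twQ n a b) hσQ' hne' hne₀ (n + 1) k₁).1 hk₁D
  have hk₁m : (((mult (⇑(down (twQ n a b) hσQ')) hne₀ k₁ : (AutPSL.fixF σ)ˣ) :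
      AutPSL.fixF σ) : F) = c * c := by
    rw [← mult_upSim (twQ n a b) hσQ' hne' hne₀ k₁,
      ← mult_conjL (plusQF F (n + 1)) (twQ n a b) hne hne' (twH ρ (σ ρ) hρ) hL, hk₁, gNs_mult,
      Units.val_pow_eq_pow_val, Units.val_mk0, pow_two]
  have hk₁ns : ¬ IsSquare ((mult (⇑(down (twQ n a b) hσQ')) hne₀ k₁ : (AutPSL.fixF σ)ˣ) :
      AutPSL.fixF σ) := by
    rintro ⟨w, hw⟩
    have h3 := congrArg (fun y : AutPSL.fixF σ => (y : F)) hw
    simp only [Subfield.coe_mul] at h3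
    rw [hk₁m] at h3
    have hwσ : σ (w : F) = w := (AutPSL.mem_fixF_iff σ _).1 w.2
    have h4 : (c - w) * (c + w) = 0 := by linear_combination h3
    have h5 : σ c = c := by
      rcases mul_eq_zero.1 h4 with h | h
      · have : c = w := by linear_combination h
        rw [this, hwσ]
      · have : c = -w := by linear_combination h
        rw [this, map_neg, hwσ]
    rw [hσc] at h5
    apply hc
    have h6 : (2 : F) * c = 0 := by linear_combination -h5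
    rcases mul_eq_zero.1 h6 with h | h
    · exact absurd h h2
    · exact h
  have hk₁inn : Phi ⇑(twQ n a b) (upSim (twQ n a b) hσQ' k₁) ∈
      Cfsg.Inn (Cfsg.POmega F ⇑(twQ n a b)) := by
    have e : MulAut.congr Λ (Phi ⇑(twQ n a b) (upSim (twQ n a b) hσQ' k₁)) =
        Phi ⇑(plusQF F (n + 1)) (gNs c u hc hu) := by
      rw [hΛ, conjLP_Phi, hk₁]
    have e' : Phi ⇑(twQ n a b) (upSim (twQ n a b) hσQ' k₁) =
        MulAut.congr Λ.symm (Phi ⇑(plusQF F (n + 1)) (gNs c u hc hu)) := by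
      rw [← e, congr_symm_congr]
    rw [e', ← map_inn_congr Λ.symm]
    exact Subgroup.mem_map_of_mem _ hinn
  exact up_inn_all (twQ n a b) hσQ' hQ' h2 hc7 (n + 1) hcard hσ2 hne₀ k₁ hk₁d hk₁ns hk₁inn k
    ((delta_down_iff (twQ n a b) hσQ' hne' hne₀ (n + 1) k).1 hk)

end countfour

end

section

open Matrix QuadraticMap Module
open Cfsg.Agent.Lib.H11.ConfOrth
open Cfsg.Agent.Lib.H13 Cfsg.Agent.Lib.H13.HypPairs Cfsg.Agent.Lib.H13.PlusTS

section countfinal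

universe u

variable {F : Type u} [Field F] [Fintype F] {n : ℕ}

local notation "IP" => (Fin (n + 1) ⊕ Fin (n + 1))

theorem isSquare_pow_iff_of_nonsquare (c : F) (hc : ¬ IsSquare c) (n : ℕ) :
    IsSquare (c ^ n) ↔ Even n := by
  have hc0 : c ≠ 0 := by
    rintro rfl
    exact hc ⟨0, by simp⟩
  constructor
  · intro h
    by_contra hodd
    rw [Nat.not_even_iff_odd] at hodd
    obtain ⟨k, rfl⟩ := hodd
    apply hc
    have hk0 : (c ^ k) * (c ^ k) ≠ 0 := mul_ne_zero (pow_ne_zero _ hc0) (pow_ne_zero _ hc0)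
    have h5 : c ^ (2 * k + 1) = c * ((c ^ k) * (c ^ k)) := by ring
    rw [h5, isSquare_mul_iff _ _ hc0 hk0] at h
    exact h.2 ⟨_, rfl⟩
  · intro h
    exact h.isSquare_pow _

/-- the index of the inner automorphism group in the inner-diagonal group is four -/
theorem relIndex_inn_four (h2 : (2 : F) ≠ 0) (hn : 4 ≤ n) (hne : ∃ v, plusQF F (n + 1) v ≠ 0)
    (hc4 : Fintype.card F % 4 = 1) :
    (Cfsg.Inn (Cfsg.POmega F ⇑(plusQF F (n + 1)))).relIndex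
      ((DD (plusQF F (n + 1)) (n + 1) hne).map (Phi ⇑(plusQF F (n + 1)))) = 4 := by
  classical
  have hodd : Odd (Fintype.card F) := card_odd_of_two_ne_zero h2
  have hA := inndiag_plus_eq_odd (m := n + 1) h2 hne
  obtain ⟨-, hZ4, hV4⟩ := plus_inndiag_aux hodd (by omega : 4 ≤ n + 1) ⇑(plusQF F (n + 1)) rfl
    ((DD (plusQF F (n + 1)) (n + 1) hne).map (Phi ⇑(plusQF F (n + 1)))) hA.symm
  by_cases hm : Odd (n + 1)
  · obtain ⟨φ, hsurj, hker⟩ := hZ4 ⟨hm, hc4⟩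
    unfold Subgroup.relIndex
    rw [← hker, Subgroup.index_ker, MonoidHom.range_eq_top.2 hsurj, Subgroup.card_top]
    simp [Nat.card_eq_fintype_card]
  · rw [Nat.not_odd_iff_even] at hm
    obtain ⟨φ, hsurj, hker⟩ := hV4 hm
    unfold Subgroup.relIndex
    rw [← hker, Subgroup.index_ker, MonoidHom.range_eq_top.2 hsurj, Subgroup.card_top]
    simp [Nat.card_eq_fintype_card]

/-- the diagonal similarity induces an inner automorphism iff `c ^ n * u` is a square -/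
theorem gNs_inn_iff (h2 : (2 : F) ≠ 0) (hn : 4 ≤ n) (hc4 : Fintype.card F % 4 = 1)
    (c u : F) (hc : c ≠ 0) (hu : u ≠ 0) :
    Phi ⇑(plusQF F (n + 1)) (gNs c u hc hu) ∈ Cfsg.Inn (Cfsg.POmega F ⇑(plusQF F (n + 1))) ↔
      IsSquare (c ^ n * u) := by
  have hQ : (polarBilin (plusQF F (n + 1))).Nondegenerate :=
    Cfsg.Agent.S0287.nondeg (F := F) (n + 1)
  have hcard : Fintype.card IP = 2 * (n + 1) := card_plus
  have hc7 : 7 ≤ Fintype.card IP := by rw [hcard]; omega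
  have hodd : Odd (Fintype.card F) := card_odd_of_two_ne_zero h2
  have hneg : negOne IP F ∈ Cfsg.Geo.omegaGL ⇑(plusQF F (n + 1)) := by
    rw [negOne_mem_plus_iff (F := F) (m := n + 1) rfl hodd (by omega),
      pow_mod_four_eq_one_iff hodd]
    rintro ⟨-, h⟩
    omega
  rw [mem_inn_iff_neg (plusQF F (n + 1)) hQ hc7 hneg (Units.mk0 c hc)
    (PlusLevi.levi (dD c u hc hu)) (gNs c u hc hu) rfl,
    PlusLevi.levi_mem_iff (by omega) (Or.inr (by omega)), dD_det]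

/-- the number of classes into which the class of the standard graph-field automorphism splits -/
theorem gf_count (h2 : (2 : F) ≠ 0) (hn : 4 ≤ n) {p f : ℕ} [Fact p.Prime]
    (hF : Fintype.card F = p ^ f) (hf : 1 ≤ f) (σ : F ≃+* F) (hσ2 : orderOf σ = 2)
    (hne : ∃ v, plusQF F (n + 1) v ≠ 0) :
    ((Odd (n + 1) ∧ p ^ (f / 2) % 4 = 1) →
      Cfsg.splitClassCount ((DD (plusQF F (n + 1)) (n + 1) hne).map (Phi ⇑(plusQF F (n + 1))))
        (Cfsg.Inn (Cfsg.POmega F ⇑(plusQF F (n + 1)))) (gfStd σ) = 4) ∧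
    (¬ (Odd (n + 1) ∧ p ^ (f / 2) % 4 = 1) →
      Cfsg.splitClassCount ((DD (plusQF F (n + 1)) (n + 1) hne).map (Phi ⇑(plusQF F (n + 1))))
        (Cfsg.Inn (Cfsg.POmega F ⇑(plusQF F (n + 1)))) (gfStd σ) = 2) := by
  classical
  have hQ : (polarBilin (plusQF F (n + 1))).Nondegenerate :=
    Cfsg.Agent.S0287.nondeg (F := F) (n + 1)
  have hcard : Fintype.card IP = 2 * (n + 1) := card_plus
  have hc7 : 7 ≤ Fintype.card IP := by rw [hcard]; omega
  have hker := ker_Phi_all (plusQF F (n + 1)) hQ hc7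
  obtain ⟨t, ht, hhalf⟩ := exists_half h2 hF σ hσ2
  have hodd : Odd (Fintype.card F) := card_odd_of_two_ne_zero h2
  have hc4 : Fintype.card F % 4 = 1 := by
    obtain ⟨s, hs⟩ := hodd
    have h1 : Fintype.card F = 4 * (t * (t + 1)) + 1 := by
      have : Fintype.card F / 2 = s := by omega
      rw [this] at hhalf
      rw [hs, hhalf]
      ring
    omega
  obtain ⟨c, hc, hσc⟩ := exists_anti h2 σ hσ2
  obtain ⟨u, hσu⟩ := exists_norm_neg_one σ hσ2
  have hu : u ≠ 0 := by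
    rintro rfl
    rw [zero_mul] at hσu
    have : (1 : F) = 0 := by linear_combination hσu
    exact one_ne_zero this
  have hInnA := inn_le_DD_map (plusQF F (n + 1)) hQ h2 (n + 1) (by omega) hcard hne
  haveI := inn_normal (Cfsg.POmega F ⇑(plusQF F (n + 1)))
  have h4 := relIndex_inn_four h2 hn hne hc4
  -- the subgroup `B`
  have hIB := inn_le_sqSub_map (plusQF F (n + 1)) hne
  have hCB := gf_cent_le_sq h2 hn σ hσ2 hne
  have hAB : ¬ (DD (plusQF F (n + 1)) (n + 1) hne).map (Phi ⇑(plusQF F (n + 1))) ≤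
      (sqSub (plusQF F (n + 1)) hne).map (Phi ⇑(plusQF F (n + 1))) := by
    intro hle
    obtain ⟨ν, hν⟩ := exists_nonsquare_unit (F := F) h2
    have h1 : Phi ⇑(plusQF F (n + 1)) ⟨dPlus ν, dPlus_mem ν⟩ ∈
        (DD (plusQF F (n + 1)) (n + 1) hne).map (Phi ⇑(plusQF F (n + 1))) :=
      Subgroup.mem_map_of_mem _ ((mem_DD _ _ hne _).2 (dPlus_delta hne ν))
    have h3 := hle h1
    rw [mem_map_Phi_iff _ _ (ker_le_sqSub _ hne hker), mem_sqSub, dPlus_mult] at h3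
    exact hν h3
  obtain ⟨hfour, htwo⟩ := count_two_or_four _ _
    ((DD (plusQF F (n + 1)) (n + 1) hne).map (Phi ⇑(plusQF F (n + 1))) ⊓
      Subgroup.centralizer {gfStd σ}) _ hInnA inf_le_left h4 hIB hCB hAB
  rw [AutPSL.splitClassCount_eq _ _ hInnA]
  -- the arithmetic
  have hiff := gNs_inn_iff (n := n) h2 hn hc4 c u hc hu
  have hN2 := isSquare_norm_neg_one_iff h2 hF hf σ hσ2 u hσu
  have hN3 := isSquare_anti_iff h2 hF hf σ hσ2 c hc hσc
  have hcn0 : c ^ n ≠ 0 := pow_ne_zero _ hc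
  have hsq : IsSquare (c ^ n * u) ↔ (Odd (n + 1) ∧ p ^ (f / 2) % 4 = 1) := by
    rw [isSquare_mul_iff _ _ hcn0 hu, hN2]
    have hq : p ^ (f / 2) % 4 = 1 ∨ p ^ (f / 2) % 4 = 3 := by omega
    rcases hq with hq | hq
    · have hcns : ¬ IsSquare c := by rw [hN3]; omega
      rw [isSquare_pow_iff_of_nonsquare c hcns n]
      constructor
      · intro h
        refine ⟨?_, hq⟩
        have := h.2 hq
        exact Even.add_one this
      · rintro ⟨h, -⟩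
        have hev : Even n := by
          rcases Nat.even_or_odd n with h' | h'
          · exact h'
          · exfalso
            have := Odd.add_odd h' odd_one
            rw [← Nat.not_odd_iff_even] at this
            exact this h
        exact ⟨fun _ => hq, fun _ => hev⟩
    · have hcs : IsSquare c := by rw [hN3]; exact hq
      constructor
      · intro h
        exfalso
        have := h.1 (hcs.pow n)
        omega
      · rintro ⟨-, h⟩
        omega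
  constructor
  · intro hcond
    apply hfour
    exact gf_cent_le_inn h2 hn σ hσ2 hne c u hc hu hσc hσu (hiff.2 (hsq.2 hcond))
  · intro hcond
    apply htwo
    intro hle
    apply hcond
    rw [← hsq, ← hiff]
    apply hle
    refine ⟨Subgroup.mem_map_of_mem _ (gNs_mem_DD hne c u hc hu), ?_⟩
    show _ ∈ Subgroup.centralizer {gfStd σ}
    rw [Subgroup.mem_centralizer_iff]
    intro y hy
    rw [Set.mem_singleton_iff] at hy
    rw [hy]
    exact gNs_comm σ c u hc hu hσc hσu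

end countfinal

end

section

open Matrix QuadraticMap Module
open Cfsg.Agent.Lib.H11.ConfOrth
open Cfsg.Agent.Lib.H13 Cfsg.Agent.Lib.H13.HypPairs Cfsg.Agent.Lib.H13.PlusTS

section conjtransport

variable {G : Type*} [Group G]

theorem map_conj_of_normal (A : Subgroup G) [A.Normal] (a : G) :
    A.map (MulAut.conj a).toMonoidHom = A := by
  ext y
  constructor
  · rintro ⟨z, hz, rfl⟩
    show a * z * a⁻¹ ∈ A
    exact Subgroup.Normal.conj_mem inferInstance z hz a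
  · intro hy
    refine ⟨a⁻¹ * y * a⁻¹⁻¹, Subgroup.Normal.conj_mem inferInstance y hy a⁻¹, ?_⟩
    show a * (a⁻¹ * y * a⁻¹⁻¹) * a⁻¹ = y
    group

/-- transport of the centraliser and of the class count along a conjugation -/
theorem conj_transport (A K : Subgroup G) [A.Normal] [K.Normal] (hKA : K ≤ A) (a x₀ : G) :
    Nonempty (↥(A ⊓ Subgroup.centralizer {a * x₀ * a⁻¹}) ≃* ↥(A ⊓ Subgroup.centralizer {x₀})) ∧
      Cfsg.splitClassCount A K (a * x₀ * a⁻¹) = Cfsg.splitClassCount A K x₀ := by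
  constructor
  · obtain ⟨E⟩ := centralizer_map_equiv (MulAut.conj a) A x₀
    rw [map_conj_of_normal A a] at E
    exact ⟨E.symm⟩
  · have h := splitClassCount_map (MulAut.conj a) A K hKA x₀
    rw [map_conj_of_normal A a, map_conj_of_normal K a] at h
    exact h

end conjtransport

section s2717

universe u v

variable {F : Type u} [Field F] [Fintype F] {n : ℕ}

local notation "IM" => ((Fin n ⊕ Fin n) ⊕ Fin 2)
local notation "IP" => (Fin (n + 1) ⊕ Fin (n + 1))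

/-- the defining property of graph-field automorphisms, for a general form -/
def GFProp {ι : Type} [Fintype ι] [DecidableEq ι] (Q₀ : (ι → F) → F)
    (y : MulAut (Cfsg.POmega F Q₀)) : Prop :=
  ∃ (α γ φ : MulAut (Cfsg.POmega F Q₀)) (σ : F ≃+* F) (v : ι → F) (rr : GL ι F),
    σ ≠ RingEquiv.refl F ∧ Q₀ v ≠ 0 ∧ (∀ i, σ (v i) = v i) ∧
    (rr : Matrix ι ι F) = Cfsg.reflectionMatrix Q₀ v ∧
    Cfsg.IsInducedBySemilinearPOmega Q₀ rr (RingEquiv.refl F) γ ∧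
    Cfsg.IsFieldAutPOmegaOf Q₀ σ φ ∧ α * y * α⁻¹ = γ * φ

set_option maxHeartbeats 1600000 in
/-- S2717 in odd characteristic -/
theorem s2717_odd (h2 : (2 : F) ≠ 0) (hn : 4 ≤ n) {p f : ℕ} [Fact p.Prime]
    (hF : Fintype.card F = p ^ f) (hf : 1 ≤ f)
    (Q₀ : (IP → F) → F) (hQ₀ : ⇑(plusQF F (n + 1)) = Q₀)
    (x : MulAut (Cfsg.POmega F Q₀)) (hx : GFProp Q₀ x) (hx2 : orderOf x = 2)
    (F₀ : Type v) [Field F₀] [Fintype F₀] (hF₀ : Fintype.card F₀ = p ^ (f / 2))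
    (A : Subgroup (MulAut (Cfsg.POmega F Q₀)))
    (hA : A = Cfsg.autSubgroupOf (fun β : Cfsg.POmega F Q₀ ≃* Cfsg.POmega F Q₀ =>
      ∃ g : GL IP F, g ∈ Cfsg.Geo.quadSimilarityGroup (F := F) Q₀ ∧
        Cfsg.PreservesSingularClasses Q₀ (g : Matrix IP IP F) ∧
        Cfsg.IsInducedBySemilinearPOmega Q₀ g (RingEquiv.refl F) β)) :
    Even f ∧
    (∀ y : MulAut (Cfsg.POmega F Q₀), GFProp Q₀ y → orderOf y = 2 → Cfsg.IsConjUnder A x y) ∧
    (∃ a₀ b₀ : F₀, (∀ z₁ z₂ : F₀, z₁ ^ 2 + a₀ * z₁ * z₂ + b₀ * z₂ ^ 2 = 0 → z₁ = 0 ∧ z₂ = 0) ∧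
      ∀ (Q₂ : (IM → F₀) → F₀) (hQ₂ : ⇑(minusQF F₀ n a₀ b₀) = Q₂)
        (B : Subgroup (MulAut (Cfsg.POmega F₀ Q₂)))
        (hB : B = Cfsg.autSubgroupOf (fun β : Cfsg.POmega F₀ Q₂ ≃* Cfsg.POmega F₀ Q₂ =>
          ∃ g : GL IM F₀, g ∈ Cfsg.Geo.quadSimilarityGroup (F := F₀) Q₂ ∧
            Cfsg.PreservesSingularClassesMinus n a₀ b₀ (g : Matrix IM IM F₀) ∧
            Cfsg.IsInducedBySemilinearPOmega Q₂ g (RingEquiv.refl F₀) β)),
        Nonempty (↥(A ⊓ Subgroup.centralizer {x}) ≃* ↥B)) ∧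
    (p = 2 → Cfsg.splitClassCount A (Cfsg.Inn (Cfsg.POmega F Q₀)) x = 1) ∧
    ((p ≠ 2 ∧ Odd (n + 1) ∧ p ^ (f / 2) % 4 = 1) →
      Cfsg.splitClassCount A (Cfsg.Inn (Cfsg.POmega F Q₀)) x = 4) ∧
    ((p ≠ 2 ∧ ¬ (Odd (n + 1) ∧ p ^ (f / 2) % 4 = 1)) →
      Cfsg.splitClassCount A (Cfsg.Inn (Cfsg.POmega F Q₀)) x = 2) := by
  subst hQ₀
  have hQ : (polarBilin (plusQF F (n + 1))).Nondegenerate :=
    Cfsg.Agent.S0287.nondeg (F := F) (n + 1)
  have hcard : Fintype.card IP = 2 * (n + 1) := card_plus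
  have hc7 : 7 ≤ Fintype.card IP := by rw [hcard]; omega
  have hne := exists_ne_of_nondeg (plusQF F (n + 1)) hQ (by rw [hcard]; omega)
  have hall : Cfsg.gammaPOmega F ⇑(plusQF F (n + 1)) = ⊤ := hall_plus (by omega)
  rw [inndiag_plus_eq_odd h2 hne] at hA
  subst hA
  haveI := DD_map_normal (plusQF F (n + 1)) (n + 1) hne hall
  haveI := inn_normal (Cfsg.POmega F ⇑(plusQF F (n + 1)))
  haveI := charP_of_card hF
  have hInnA := inn_le_DD_map (plusQF F (n + 1)) hQ h2 (n + 1) (by omega) hcard hne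
  have hA' : (DD (plusQF F (n + 1)) (n + 1) hne).map (Phi ⇑(plusQF F (n + 1))) ≤
      (Phi ⇑(plusQF F (n + 1))).range := by
    rintro _ ⟨g, -, rfl⟩
    exact ⟨g, rfl⟩
  have hrefl : ∀ (v : IP → F) (hv : plusQF F (n + 1) v ≠ 0) (ρ : ↥(Sim ⇑(plusQF F (n + 1)))),
      ρ.1 = (reflG (plusQF F (n + 1)) v hv).1 →
      Phi ⇑(plusQF F (n + 1)) ρ ∉ (DD (plusQF F (n + 1)) (n + 1) hne).map
        (Phi ⇑(plusQF F (n + 1))) ∧
      ∀ k : ↥(Sim ⇑(plusQF F (n + 1))),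
        Phi ⇑(plusQF F (n + 1)) k ∈ (DD (plusQF F (n + 1)) (n + 1) hne).map
          (Phi ⇑(plusQF F (n + 1))) ∨
        Phi ⇑(plusQF F (n + 1)) (k * ρ) ∈ (DD (plusQF F (n + 1)) (n + 1) hne).map
          (Phi ⇑(plusQF F (n + 1))) := by
    intro v hv ρ hρ
    refine ⟨refl_not_mem_DD_map (plusQF F (n + 1)) hQ hc7 (n + 1) hcard hne h2 ρ v hv hρ,
      fun k => ?_⟩
    rcases DD_dichotomy (plusQF F (n + 1)) hQ (n + 1) hcard hne ρ v hv hρ k with h | h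
    · exact Or.inl (Subgroup.mem_map_of_mem _ h)
    · exact Or.inr (Subgroup.mem_map_of_mem _ h)
  have hconj : ∀ y : MulAut (Cfsg.POmega F ⇑(plusQF F (n + 1))),
      GFProp ⇑(plusQF F (n + 1)) y → orderOf y = 2 →
      ∃ σ₀ : F ≃+* F, orderOf σ₀ = 2 ∧
        ∃ a ∈ (DD (plusQF F (n + 1)) (n + 1) hne).map (Phi ⇑(plusQF F (n + 1))),
          y = a * gfStd σ₀ * a⁻¹ := by
    intro y hy hy2
    exact gf_conj (plusQF F (n + 1)) hQ hc7 hall (fun σ => sigEq_plus σ) (ringAut_comm hF)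
      (d := n + 1) (by omega) hcard _ hA' hrefl y hy hy2 (swV F n) swV_ne
      (fun σ i => swV_fixed σ i) (swR F n) swR_val
  obtain ⟨σ₀, hσ₀, a, haA, hxa⟩ := hconj x hx hx2
  obtain ⟨hE, hcount⟩ := conj_transport
    ((DD (plusQF F (n + 1)) (n + 1) hne).map (Phi ⇑(plusQF F (n + 1))))
    (Cfsg.Inn (Cfsg.POmega F ⇑(plusQF F (n + 1)))) hInnA a (gfStd σ₀)
  rw [← hxa] at hE hcount
  have hp2 : p ≠ 2 := by
    rintro rfl
    apply h2
    exact CharTwo.two_eq_zero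
  obtain ⟨h5, h6⟩ := gf_count h2 hn hF hf σ₀ hσ₀ hne
  refine ⟨?_, ?_, ?_, ?_, ?_, ?_⟩
  · rw [even_iff_two_dvd, ← hσ₀]
    exact order_dvd_f hF σ₀
  · intro y hy hy2
    obtain ⟨σ₁, hσ₁, b, hbA, hyb⟩ := hconj y hy hy2
    have : σ₁ = σ₀ := ringAut_involution_unique hF σ₁ σ₀ hσ₁ hσ₀
    subst this
    refine ⟨b * a⁻¹, Subgroup.mul_mem _ hbA (Subgroup.inv_mem _ haA), ?_⟩
    rw [hyb, hxa]
    group
  · obtain ⟨a₀, b₀, hab₀, h2₀, H⟩ := gf_cent_odd h2 hn hF σ₀ hσ₀ hne F₀ hF₀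
    refine ⟨a₀, b₀, hab₀, ?_⟩
    intro Q₂ hQ₂ B hB
    subst hQ₂
    have hQ₂ : (polarBilin (minusQF F₀ n a₀ b₀)).Nondegenerate :=
      Cfsg.Agent.S0288.nondeg (F := F₀) a₀ b₀ hab₀ n
    have hne₂ := exists_ne_of_nondeg (minusQF F₀ n a₀ b₀) hQ₂ (by rw [card_minus]; omega)
    rw [inndiag_eq_odd h2₀ a₀ b₀ hab₀ hne₂] at hB
    subst hB
    obtain ⟨E1⟩ := hE
    obtain ⟨E2⟩ := H hne₂
    exact ⟨E1.trans E2⟩
  · intro h
    exact absurd h hp2
  · rintro ⟨-, h⟩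
    rw [hcount]
    exact h5 h
  · rintro ⟨-, h⟩
    rw [hcount]
    exact h6 h

set_option maxHeartbeats 1600000 in
/-- S2717 in characteristic two -/
theorem s2717_two [CharP F 2] (hn : 4 ≤ n) {p f : ℕ} [Fact p.Prime]
    (hF : Fintype.card F = p ^ f) (hf : 1 ≤ f)
    (Q₀ : (IP → F) → F) (hQ₀ : ⇑(plusQF F (n + 1)) = Q₀)
    (x : MulAut (Cfsg.POmega F Q₀)) (hx : GFProp Q₀ x) (hx2 : orderOf x = 2)
    (F₀ : Type v) [Field F₀] [Fintype F₀] (hF₀ : Fintype.card F₀ = p ^ (f / 2))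
    (A : Subgroup (MulAut (Cfsg.POmega F Q₀)))
    (hA : A = Cfsg.autSubgroupOf (fun β : Cfsg.POmega F Q₀ ≃* Cfsg.POmega F Q₀ =>
      ∃ g : GL IP F, g ∈ Cfsg.Geo.quadSimilarityGroup (F := F) Q₀ ∧
        Cfsg.PreservesSingularClasses Q₀ (g : Matrix IP IP F) ∧
        Cfsg.IsInducedBySemilinearPOmega Q₀ g (RingEquiv.refl F) β)) :
    Even f ∧
    (∀ y : MulAut (Cfsg.POmega F Q₀), GFProp Q₀ y → orderOf y = 2 → Cfsg.IsConjUnder A x y) ∧
    (∃ a₀ b₀ : F₀, (∀ z₁ z₂ : F₀, z₁ ^ 2 + a₀ * z₁ * z₂ + b₀ * z₂ ^ 2 = 0 → z₁ = 0 ∧ z₂ = 0) ∧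
      ∀ (Q₂ : (IM → F₀) → F₀) (hQ₂ : ⇑(minusQF F₀ n a₀ b₀) = Q₂)
        (B : Subgroup (MulAut (Cfsg.POmega F₀ Q₂)))
        (hB : B = Cfsg.autSubgroupOf (fun β : Cfsg.POmega F₀ Q₂ ≃* Cfsg.POmega F₀ Q₂ =>
          ∃ g : GL IM F₀, g ∈ Cfsg.Geo.quadSimilarityGroup (F := F₀) Q₂ ∧
            Cfsg.PreservesSingularClassesMinus n a₀ b₀ (g : Matrix IM IM F₀) ∧
            Cfsg.IsInducedBySemilinearPOmega Q₂ g (RingEquiv.refl F₀) β)),
        Nonempty (↥(A ⊓ Subgroup.centralizer {x}) ≃* ↥B)) ∧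
    (p = 2 → Cfsg.splitClassCount A (Cfsg.Inn (Cfsg.POmega F Q₀)) x = 1) ∧
    ((p ≠ 2 ∧ Odd (n + 1) ∧ p ^ (f / 2) % 4 = 1) →
      Cfsg.splitClassCount A (Cfsg.Inn (Cfsg.POmega F Q₀)) x = 4) ∧
    ((p ≠ 2 ∧ ¬ (Odd (n + 1) ∧ p ^ (f / 2) % 4 = 1)) →
      Cfsg.splitClassCount A (Cfsg.Inn (Cfsg.POmega F Q₀)) x = 2) := by
  subst hQ₀
  have hQ : (polarBilin (plusQF F (n + 1))).Nondegenerate :=
    Cfsg.Agent.S0287.nondeg (F := F) (n + 1)
  have hcard : Fintype.card IP = 2 * (n + 1) := card_plus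
  have hc7 : 7 ≤ Fintype.card IP := by rw [hcard]; omega
  have hall : Cfsg.gammaPOmega F ⇑(plusQF F (n + 1)) = ⊤ := hall_plus (by omega)
  rw [inndiag_plus_eq_two (by omega)] at hA
  subst hA
  haveI := inn_normal (Cfsg.POmega F ⇑(plusQF F (n + 1)))
  have hp2 : p = 2 := by
    have h1 : CharP F p := charP_of_card hF
    exact CharP.eq F h1 ‹CharP F 2›
  subst hp2
  have hA' : Cfsg.Inn (Cfsg.POmega F ⇑(plusQF F (n + 1))) ≤
      (Phi ⇑(plusQF F (n + 1))).range := by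
    rw [inn_eq]
    rintro _ ⟨g, -, rfl⟩
    exact ⟨g, rfl⟩
  have hrefl : ∀ (v : IP → F) (hv : plusQF F (n + 1) v ≠ 0) (ρ : ↥(Sim ⇑(plusQF F (n + 1)))),
      ρ.1 = (reflG (plusQF F (n + 1)) v hv).1 →
      Phi ⇑(plusQF F (n + 1)) ρ ∉ Cfsg.Inn (Cfsg.POmega F ⇑(plusQF F (n + 1))) ∧
      ∀ k : ↥(Sim ⇑(plusQF F (n + 1))),
        Phi ⇑(plusQF F (n + 1)) k ∈ Cfsg.Inn (Cfsg.POmega F ⇑(plusQF F (n + 1))) ∨
        Phi ⇑(plusQF F (n + 1)) (k * ρ) ∈ Cfsg.Inn (Cfsg.POmega F ⇑(plusQF F (n + 1))) := by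
    intro v hv ρ hρ
    constructor
    · intro h
      have hρ' : ρ = Subgroup.inclusion (iso_le_sim ⇑(plusQF F (n + 1)))
          (reflG (plusQF F (n + 1)) v hv) := Subtype.ext hρ
      have h1 : Phi ⇑(plusQF F (n + 1)) ρ =
          PhiO (plusQF F (n + 1)) (reflG (plusQF F (n + 1)) v hv) := by
        rw [hρ']; rfl
      rw [h1, mem_inn_iff2 _ hQ hc7] at h
      exact Char2Omega.refl_not_mem (plusQF F (n + 1)) hQ v hv h
    · intro k
      exact inn_dichotomy2 (plusQF F (n + 1)) hQ hc7 ρ v hv hρ k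
  have hconj : ∀ y : MulAut (Cfsg.POmega F ⇑(plusQF F (n + 1))),
      GFProp ⇑(plusQF F (n + 1)) y → orderOf y = 2 →
      ∃ σ₀ : F ≃+* F, orderOf σ₀ = 2 ∧
        ∃ a ∈ Cfsg.Inn (Cfsg.POmega F ⇑(plusQF F (n + 1))), y = a * gfStd σ₀ * a⁻¹ := by
    intro y hy hy2
    exact gf_conj (plusQF F (n + 1)) hQ hc7 hall (fun σ => sigEq_plus σ) (ringAut_comm hF)
      (d := n + 1) (by omega) hcard _ hA' hrefl y hy hy2 (swV F n) swV_ne
      (fun σ i => swV_fixed σ i) (swR F n) swR_val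
  obtain ⟨σ₀, hσ₀, a, haA, hxa⟩ := hconj x hx hx2
  obtain ⟨hE, -⟩ := conj_transport (Cfsg.Inn (Cfsg.POmega F ⇑(plusQF F (n + 1))))
    (Cfsg.Inn (Cfsg.POmega F ⇑(plusQF F (n + 1)))) le_rfl a (gfStd σ₀)
  rw [← hxa] at hE
  refine ⟨?_, ?_, ?_, ?_, ?_, ?_⟩
  · rw [even_iff_two_dvd, ← hσ₀]
    exact order_dvd_f hF σ₀
  · intro y hy hy2
    obtain ⟨σ₁, hσ₁, b, hbA, hyb⟩ := hconj y hy hy2
    have : σ₁ = σ₀ := ringAut_involution_unique hF σ₁ σ₀ hσ₁ hσ₀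
    subst this
    refine ⟨b * a⁻¹, Subgroup.mul_mem _ hbA (Subgroup.inv_mem _ haA), ?_⟩
    rw [hyb, hxa]
    group
  · obtain ⟨a₀, b₀, hab₀, h2₀, H⟩ := gf_cent_two hn hF σ₀ hσ₀ F₀ hF₀
    refine ⟨a₀, b₀, hab₀, ?_⟩
    intro Q₂ hQ₂ B hB
    subst hQ₂
    haveI : CharP F₀ 2 := CharTwo.of_one_ne_zero_of_two_eq_zero one_ne_zero h2₀
    rw [inndiag_eq_two (by omega) a₀ b₀ hab₀] at hB
    subst hB
    obtain ⟨E1⟩ := hE
    obtain ⟨E2⟩ := H
    exact ⟨E1.trans E2⟩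
  · intro _
    exact splitClassCount_self _ x
  · rintro ⟨h, -⟩
    exact absurd rfl h
  · rintro ⟨h, -⟩
    exact absurd rfl h

end s2717

end

end Cfsg.Agent.Lib.H13.AutPO
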