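import Mathlib
import Cfsg.Agent.Lib.H13.AutPO15

/-!
Automorphisms of `PΩ(Q)`, part 16 (helper13): local balance for field automorphisms of prime order.
`HasNPC` (a nontrivial normal subgroup of order prime to `p`), `pPrimeCore_ne_bot_iff`, `hasNPC_subgroup_iff`, `card_eqLocus_eq`,
`exists_involution_omega` (an involution in `Ω` which is not a scalar), `mem_zpowers_of_fix` (Galois correspondence for one automorphism),
`resF` (restriction of an automorphism to the fixed field of a commuting one), `stdHom`, `cent_M_le` (automorphisms commuting with the standard field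
automorphism and centralising `Ω` over the fixed field are its powers), `Msub` (the image of `Ω` over the fixed field: simple, of even order),
`inn_cent_le_Msub` (odd order: the fixed points are `Ω` over the fixed field), `core_std`, `exists_std_conj`, `balance_gen`, `s2731_gen`.
-/

set_option autoImplicit false
set_option linter.unusedSectionVars false
set_option linter.unusedVariables false
set_option linter.unusedSimpArgs false
set_option linter.deprecated false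

namespace Cfsg.Agent.Lib.H13.AutPO

section

open Matrix QuadraticMap Module
open Cfsg.Agent.Lib.H11.ConfOrth
open Cfsg.Agent.Lib.H13 Cfsg.Agent.Lib.H13.HypPairs Cfsg.Agent.Lib.H13.PlusTS

section npc

variable {G : Type*} [Group G]

/-- the group has a nontrivial normal subgroup of order prime to `p` -/
def HasNPC (p : ℕ) (G : Type*) [Group G] : Prop :=
  ∃ N : Subgroup G, N.Normal ∧ (Nat.card N).Coprime p ∧ N ≠ ⊥

theorem pPrimeCore_ne_bot_iff (p : ℕ) : Cfsg.pPrimeCore p G ≠ ⊥ ↔ HasNPC p G := by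
  constructor
  · intro h
    by_contra hcon
    apply h
    rw [eq_bot_iff]
    apply sSup_le
    rintro N ⟨hN, hcop⟩
    by_contra hne
    apply hcon
    refine ⟨N, hN, hcop, ?_⟩
    rintro rfl
    exact hne le_rfl
  · rintro ⟨N, hN, hcop, hne⟩ h
    apply hne
    rw [eq_bot_iff, ← h]
    exact le_sSup (a := N) ⟨hN, hcop⟩

theorem hasNPC_of_equiv {H : Type*} [Group H] (p : ℕ) (e : G ≃* H) (h : HasNPC p G) :
    HasNPC p H := by
  obtain ⟨N, hN, hcop, hne⟩ := h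
  refine ⟨N.map e.toMonoidHom, Subgroup.Normal.map hN _ e.surjective, ?_, ?_⟩
  · rw [← Nat.card_congr (Subgroup.equivMapOfInjective N e.toMonoidHom e.injective).toEquiv]
    exact hcop
  · intro h
    apply hne
    rw [eq_bot_iff] at h ⊢
    intro x hx
    have := h (Subgroup.mem_map_of_mem e.toMonoidHom hx)
    rw [Subgroup.mem_bot] at this ⊢
    exact e.injective (this.trans (map_one e).symm)

theorem hasNPC_congr {H : Type*} [Group H] (p : ℕ) (e : G ≃* H) : HasNPC p G ↔ HasNPC p H :=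
  ⟨hasNPC_of_equiv p e, hasNPC_of_equiv p e.symm⟩

/-- nontrivial normal `p'`-subgroups of a subgroup, seen in the ambient group -/
theorem hasNPC_subgroup_iff (p : ℕ) (C : Subgroup G) :
    HasNPC p ↥C ↔ ∃ R : Subgroup G, R ≤ C ∧ (∀ c ∈ C, ∀ ρ ∈ R, c * ρ * c⁻¹ ∈ R) ∧
      (Nat.card R).Coprime p ∧ R ≠ ⊥ := by
  constructor
  · rintro ⟨N, hN, hcop, hne⟩
    refine ⟨N.map C.subtype, ?_, ?_, ?_, ?_⟩
    · rintro _ ⟨x, -, rfl⟩
      exact x.2
    · rintro c hc _ ⟨x, hx, rfl⟩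
      refine ⟨⟨c, hc⟩ * x * ⟨c, hc⟩⁻¹, hN.conj_mem x hx ⟨c, hc⟩, ?_⟩
      simp
    · rw [← Nat.card_congr (Subgroup.equivMapOfInjective N C.subtype
        (Subgroup.subtype_injective C)).toEquiv]
      exact hcop
    · intro h
      apply hne
      rw [eq_bot_iff] at h ⊢
      intro x hx
      have := h (Subgroup.mem_map_of_mem C.subtype hx)
      rw [Subgroup.mem_bot] at this ⊢
      exact Subtype.ext this
  · rintro ⟨R, hRC, hnorm, hcop, hne⟩
    refine ⟨R.subgroupOf C, ?_, ?_, ?_⟩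
    · constructor
      intro n hn g
      rw [Subgroup.mem_subgroupOf] at hn ⊢
      simp only [Subgroup.coe_mul, Subgroup.coe_inv]
      exact hnorm g.1 g.2 n.1 hn
    · rw [Nat.card_congr (Subgroup.subgroupOfEquivOfLe hRC).toEquiv]
      exact hcop
    · intro h
      apply hne
      rw [eq_bot_iff] at h ⊢
      intro x hx
      have h1 : (⟨x, hRC hx⟩ : ↥C) ∈ R.subgroupOf C := by
        rw [Subgroup.mem_subgroupOf]
        exact hx
      have := h h1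
      rw [Subgroup.mem_bot] at this ⊢
      exact congrArg Subtype.val this

/-- two subgroups normalising each other with trivial intersection commute -/
theorem commute_of_inf_eq_bot (R N : Subgroup G) (h1 : ∀ n ∈ N, ∀ ρ ∈ R, n * ρ * n⁻¹ ∈ R)
    (h2 : ∀ ρ ∈ R, ∀ n ∈ N, ρ * n * ρ⁻¹ ∈ N) (h : R ⊓ N = ⊥) (ρ : G) (hρ : ρ ∈ R) (n : G)
    (hn : n ∈ N) : ρ * n = n * ρ := by
  have h3 : ρ * n * ρ⁻¹ * n⁻¹ ∈ R ⊓ N := by
    constructor
    · have := R.mul_mem hρ (R.inv_mem (h1 n hn ρ hρ))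
      have e : ρ * (n * ρ * n⁻¹)⁻¹ = ρ * n * ρ⁻¹ * n⁻¹ := by group
      rwa [e] at this
    · exact N.mul_mem (h2 ρ hρ n hn) (N.inv_mem hn)
  rw [h, Subgroup.mem_bot] at h3
  calc ρ * n = (ρ * n * ρ⁻¹ * n⁻¹) * (n * ρ) := by group
    _ = n * ρ := by rw [h3, one_mul]

/-- fixed points of an automorphism of a centreless group and inner automorphisms commuting
with it -/
theorem card_eqLocus_eq (hinj : Function.Injective (MulAut.conj : G →* MulAut G))
    (x : MulAut G) :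
    Nat.card ↥(MonoidHom.eqLocus x.toMonoidHom (MonoidHom.id G)) =
      Nat.card ↥(Cfsg.Inn G ⊓ Subgroup.centralizer {x}) := by
  have key : ∀ k : G, MulAut.conj k ∈ Subgroup.centralizer {x} ↔ x k = k := by
    intro k
    rw [Subgroup.mem_centralizer_iff]
    constructor
    · intro h
      have h1 := h x (Set.mem_singleton _)
      apply hinj
      have h2 : x * MulAut.conj k * x⁻¹ = MulAut.conj (x k) := by
        ext y
        simp [MulAut.conj_apply]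
      rw [← h2, h1]
      group
    · intro h y hy
      rw [Set.mem_singleton_iff] at hy
      subst hy
      have h2 : y * MulAut.conj k * y⁻¹ = MulAut.conj (y k) := by
        ext z
        simp [MulAut.conj_apply]
      rw [h] at h2
      calc y * MulAut.conj k = (y * MulAut.conj k * y⁻¹) * y := by group
        _ = MulAut.conj k * y := by rw [h2]
  apply Nat.card_congr
  refine Equiv.ofBijective (fun k => ⟨MulAut.conj k.1, ⟨k.1, rfl⟩, (key k.1).2 k.2⟩) ⟨?_, ?_⟩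
  · intro a b hab
    apply Subtype.ext
    apply hinj
    exact congrArg Subtype.val hab
  · rintro ⟨_, ⟨k, rfl⟩, hk⟩
    exact ⟨⟨k, (key k).1 hk⟩, rfl⟩

end npc

end

section

open Matrix QuadraticMap Module
open Cfsg.Agent.Lib.H11.ConfOrth
open Cfsg.Agent.Lib.H13 Cfsg.Agent.Lib.H13.HypPairs Cfsg.Agent.Lib.H13.PlusTS

section invol

variable {F : Type*} [Field F] [Fintype F] {ι : Type} [Fintype ι] [DecidableEq ι]
  (Q : QuadraticForm F (ι → F))

omit [Fintype F] in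
/-- reflections in orthogonal vectors commute -/
theorem refl_comm_orth (a b : ι → F) (hab : polar (⇑Q) a b = 0) :
    Cfsg.reflectionMatrix ⇑Q a * Cfsg.reflectionMatrix ⇑Q b =
      Cfsg.reflectionMatrix ⇑Q b * Cfsg.reflectionMatrix ⇑Q a := by
  have hba : polar (⇑Q) b a = 0 := by rw [QuadraticMap.polar_comm]; exact hab
  apply Matrix.ext_iff_mulVec.mpr
  intro x
  rw [← Matrix.mulVec_mulVec, ← Matrix.mulVec_mulVec]
  simp only [Cfsg.Agent.Lib.H4.reflectionMatrix_mulVec, QuadraticMap.polar_sub_right,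
    QuadraticMap.polar_smul_right, hab, hba, smul_eq_mul, mul_zero, sub_zero]
  abel

/-- three mutually orthogonal hyperbolic pairs, general index type -/
theorem exists_three_pairs_all (hQ : (polarBilin Q).Nondegenerate) (hcard : 7 ≤ Fintype.card ι) :
    ∃ e₁ f₁ e₂ f₂ e₃ f₃ : ι → F, Q e₁ = 0 ∧ Q f₁ = 0 ∧ Q e₂ = 0 ∧ Q f₂ = 0 ∧ Q e₃ = 0 ∧
      Q f₃ = 0 ∧ polar (⇑Q) e₁ f₁ = 1 ∧ polar (⇑Q) e₂ f₂ = 1 ∧ polar (⇑Q) e₃ f₃ = 1 ∧
      polar (⇑Q) e₁ e₂ = 0 ∧ polar (⇑Q) e₁ f₂ = 0 ∧ polar (⇑Q) f₁ e₂ = 0 ∧ polar (⇑Q) f₁ f₂ = 0 ∧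
      polar (⇑Q) e₃ e₁ = 0 ∧ polar (⇑Q) e₃ f₁ = 0 ∧ polar (⇑Q) e₃ e₂ = 0 ∧ polar (⇑Q) e₃ f₂ = 0 ∧
      polar (⇑Q) f₃ e₁ = 0 ∧ polar (⇑Q) f₃ f₁ = 0 ∧ polar (⇑Q) f₃ e₂ = 0 ∧
      polar (⇑Q) f₃ f₂ = 0 := by
  set e := Fintype.equivFin ι with he
  obtain ⟨e₁, f₁, e₂, f₂, e₃, f₃, h⟩ :=
    Cfsg.Agent.Lib.H11.SiegelGen.exists_three_pairs (Cfsg.Agent.Lib.H11.IsoReindex.trQF e Q)
      (Cfsg.Agent.Lib.H11.IsoReindex.nondeg_trQF e Q hQ) hcard
  exact ⟨e₁ ∘ e, f₁ ∘ e, e₂ ∘ e, f₂ ∘ e, e₃ ∘ e, f₃ ∘ e, h⟩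

omit [Fintype F] in
theorem Q_hyp_add (e f : ι → F) (he : Q e = 0) (hf : Q f = 0) (hef : polar (⇑Q) e f = 1) :
    Q (e + f) = 1 := by
  have := polar (⇑Q) e f
  have h1 : Q (e + f) = polar (⇑Q) e f + Q e + Q f := by
    unfold polar; ring
  rw [h1, he, hf, hef]; ring

/-- an involution in `Ω(Q)` which is not a scalar -/
theorem exists_involution_omega (hQ : (polarBilin Q).Nondegenerate) (h2 : (2 : F) ≠ 0)
    (hcard : 7 ≤ Fintype.card ι) :
    ∃ g ∈ Cfsg.Geo.omegaGL ⇑Q, g * g = 1 ∧ g ∉ Zs ι F := by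
  obtain ⟨e₁, f₁, e₂, f₂, e₃, f₃, he₁, hf₁, he₂, hf₂, he₃, hf₃, h11, h22, h33, h12ee, h12ef,
    h12fe, h12ff, h3e1, h3f1, h3e2, h3f2, h3'e1, h3'f1, h3'e2, h3'f2⟩ :=
    exists_three_pairs_all Q hQ hcard
  have hu : Q (e₁ + f₁) = 1 := Q_hyp_add Q e₁ f₁ he₁ hf₁ h11
  have hv : Q (e₂ + f₂) = 1 := Q_hyp_add Q e₂ f₂ he₂ hf₂ h22
  have hu0 : Q (e₁ + f₁) ≠ 0 := by rw [hu]; exact one_ne_zero
  have hv0 : Q (e₂ + f₂) ≠ 0 := by rw [hv]; exact one_ne_zero
  have huv : polar (⇑Q) (e₁ + f₁) (e₂ + f₂) = 0 := by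
    rw [polar_add_left, polar_add_right, polar_add_right, h12ee, h12ef, h12fe, h12ff]
    ring
  set g : ↥(Cfsg.isometryGroup F ⇑Q) := reflG Q (e₁ + f₁) hu0 * reflG Q (e₂ + f₂) hv0 with hg
  have hgval : ((g : GL ι F) : Matrix ι ι F) =
      ([e₁ + f₁, e₂ + f₂].map (fun v => Cfsg.reflectionMatrix ⇑Q v)).prod := by
    simp [hg, reflG_val]
  have hvs : ∀ v ∈ [e₁ + f₁, e₂ + f₂], Q v ≠ 0 := by
    intro v hv'
    simp only [List.mem_cons, List.not_mem_nil, or_false] at hv'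
    rcases hv' with rfl | rfl
    · exact hu0
    · exact hv0
  have hgm : ((g : GL ι F) : Matrix ι ι F) =
      Cfsg.reflectionMatrix ⇑Q (e₁ + f₁) * Cfsg.reflectionMatrix ⇑Q (e₂ + f₂) := by
    simp [hg, reflG_val]
  refine ⟨g.1, ?_, ?_, ?_⟩
  · rw [omegaGL_iff_list Q hQ h2 (by omega) g.1 g.2 _ hvs hgval]
    refine ⟨⟨1, rfl⟩, ?_⟩
    simp only [List.map_cons, List.map_nil, List.prod_cons, List.prod_nil, hu, hv, mul_one]
    exact ⟨1, by ring⟩
  · apply Units.ext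
    rw [Units.val_mul, Units.val_one, hgm]
    calc Cfsg.reflectionMatrix ⇑Q (e₁ + f₁) * Cfsg.reflectionMatrix ⇑Q (e₂ + f₂) *
          (Cfsg.reflectionMatrix ⇑Q (e₁ + f₁) * Cfsg.reflectionMatrix ⇑Q (e₂ + f₂))
        = Cfsg.reflectionMatrix ⇑Q (e₁ + f₁) * (Cfsg.reflectionMatrix ⇑Q (e₂ + f₂) *
          Cfsg.reflectionMatrix ⇑Q (e₁ + f₁)) * Cfsg.reflectionMatrix ⇑Q (e₂ + f₂) := by
            simp only [Matrix.mul_assoc]
      _ = Cfsg.reflectionMatrix ⇑Q (e₁ + f₁) * (Cfsg.reflectionMatrix ⇑Q (e₁ + f₁) *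
          Cfsg.reflectionMatrix ⇑Q (e₂ + f₂)) * Cfsg.reflectionMatrix ⇑Q (e₂ + f₂) := by
            rw [refl_comm_orth Q _ _ huv]
      _ = (Cfsg.reflectionMatrix ⇑Q (e₁ + f₁) * Cfsg.reflectionMatrix ⇑Q (e₁ + f₁)) *
          (Cfsg.reflectionMatrix ⇑Q (e₂ + f₂) * Cfsg.reflectionMatrix ⇑Q (e₂ + f₂)) := by
            simp only [Matrix.mul_assoc]
      _ = 1 := by rw [refl_mul_self Q _ hu0, refl_mul_self Q _ hv0, Matrix.mul_one]
  · intro hz
    obtain ⟨c, hc⟩ := (mem_Zs_iff _).1 hz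
    have hfix : ∀ (w x : ι → F), polar (⇑Q) x w = 0 →
        Cfsg.reflectionMatrix ⇑Q w *ᵥ x = x := by
      intro w x hwx
      rw [Cfsg.Agent.Lib.H4.reflectionMatrix_mulVec, polar_comm, hwx, mul_zero, zero_smul, sub_zero]
    have h1 : (g.1 : Matrix ι ι F) *ᵥ e₃ = e₃ := by
      rw [hgm, ← Matrix.mulVec_mulVec,
        hfix (e₂ + f₂) e₃ (by rw [polar_add_right, h3e2, h3f2, add_zero]),
        hfix (e₁ + f₁) e₃ (by rw [polar_add_right, h3e1, h3f1, add_zero])]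
    have h2' : (g.1 : Matrix ι ι F) *ᵥ (e₁ + f₁) = -(e₁ + f₁) := by
      rw [hgm, ← Matrix.mulVec_mulVec, hfix (e₂ + f₂) (e₁ + f₁) huv,
        Cfsg.Agent.Lib.H4.reflectionMatrix_mulVec, Cfsg.Agent.Lib.H4.polar_self, hu]
      simp only [inv_one, one_mul, mul_one]
      module
    rw [hc, scalar_mulVec] at h1 h2'
    have he₃0 : e₃ ≠ 0 := by
      rintro rfl
      rw [polar_zero_left] at h33
      exact zero_ne_one h33
    have hu00 : e₁ + f₁ ≠ 0 := by
      intro h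
      rw [h, map_zero] at hu
      exact zero_ne_one hu
    have hc1 : (c : F) = 1 := by
      have : ((c : F) - 1) • e₃ = 0 := by rw [sub_smul, h1, one_smul, sub_self]
      rcases smul_eq_zero.1 this with h | h
      · exact sub_eq_zero.1 h
      · exact absurd h he₃0
    have hc2 : (c : F) = -1 := by
      have : ((c : F) + 1) • (e₁ + f₁) = 0 := by rw [add_smul, h2', one_smul, neg_add_cancel]
      rcases smul_eq_zero.1 this with h | h
      · exact eq_neg_of_add_eq_zero_left h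
      · exact absurd h hu00
    apply h2
    rw [hc1] at hc2
    linear_combination hc2

end invol

end

section

open Matrix QuadraticMap Module
open Cfsg.Agent.Lib.H11.ConfOrth
open Cfsg.Agent.Lib.H13 Cfsg.Agent.Lib.H13.HypPairs Cfsg.Agent.Lib.H13.PlusTS

section galois

variable {F : Type*} [Field F]

/-- an automorphism of a finite field fixing the fixed field of `σ` is a power of `σ` -/
theorem mem_zpowers_of_fix [Finite F] (σ τ : F ≃+* F)
    (h : ∀ x : F, σ x = x → τ x = x) : τ ∈ Subgroup.zpowers σ := by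
  haveI : Finite (F ≃+* F) := Finite.of_injective (fun σ => (σ : F → F)) DFunLike.coe_injective
  have hb := FixedPoints.toAlgHom_bijective (Subgroup.zpowers σ) F
  let a : F →ₐ[FixedPoints.subfield (Subgroup.zpowers σ) F] F :=
    { (τ : F →+* F) with
      commutes' := by
        intro r
        apply h
        exact r.2 ⟨σ, Subgroup.mem_zpowers σ⟩ }
  obtain ⟨g, hg⟩ := hb.2 a
  have : (g : F ≃+* F) = τ := by
    ext x
    have := congrArg (fun b : F →ₐ[FixedPoints.subfield (Subgroup.zpowers σ) F] F => b x) hg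
    exact this
  rw [← this]
  exact g.2

variable (σ τ : F ≃+* F) (hc : ∀ x, τ (σ x) = σ (τ x))

include hc in
theorem comm_symm (x : F) : τ.symm (σ x) = σ (τ.symm x) := by
  apply τ.injective
  rw [RingEquiv.apply_symm_apply, hc, RingEquiv.apply_symm_apply]

/-- the restriction of `τ` to the fixed field of `σ` (`τ` commuting with `σ`) -/
def resF : AutPSL.fixF σ ≃+* AutPSL.fixF σ where
  toFun x := ⟨τ x.1, (AutPSL.mem_fixF_iff σ _).2 (by
    rw [← hc, (AutPSL.mem_fixF_iff σ _).1 x.2])⟩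
  invFun x := ⟨τ.symm x.1, (AutPSL.mem_fixF_iff σ _).2 (by
    rw [← comm_symm σ τ hc, (AutPSL.mem_fixF_iff σ _).1 x.2])⟩
  left_inv x := Subtype.ext (τ.symm_apply_apply x.1)
  right_inv x := Subtype.ext (τ.apply_symm_apply x.1)
  map_mul' x y := Subtype.ext (map_mul τ x.1 y.1)
  map_add' x y := Subtype.ext (map_add τ x.1 y.1)

theorem resF_coe (x : AutPSL.fixF σ) : ((resF σ τ hc x : AutPSL.fixF σ) : F) = τ x := rfl

theorem fix_of_resF_refl (h : resF σ τ hc = RingEquiv.refl _) (x : F) (hx : σ x = x) :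
    τ x = x := by
  have h1 := RingEquiv.congr_fun h ⟨x, (AutPSL.mem_fixF_iff σ x).2 hx⟩
  exact congrArg Subtype.val h1

variable {ι : Type} [Fintype ι] [DecidableEq ι]

theorem glmap_upGL_res (k : GL ι (AutPSL.fixF σ)) :
    glmap τ (upGL k) = upGL (glmap (resF σ τ hc) k) := by
  apply Units.ext
  rw [glmap_val, upGL_val, upGL_val, glmap_val]
  ext i j
  rfl

theorem vmap_upV_res (v : ι → AutPSL.fixF σ) :
    vmap τ (upV σ v) = upV σ (vmap (resF σ τ hc) v) := rfl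

theorem sigEq_res (Q : QuadraticForm F (ι → F)) (hσQ : SigEq σ Q) (hτQ : SigEq τ Q) :
    SigEq (resF σ τ hc) (down Q hσQ) := by
  intro v
  apply Subtype.ext
  rw [down_apply, resF_coe, down_apply, ← vmap_upV_res, hτQ]

end galois

end

section

open Matrix QuadraticMap Module
open Cfsg.Agent.Lib.H11.ConfOrth
open Cfsg.Agent.Lib.H13 Cfsg.Agent.Lib.H13.HypPairs Cfsg.Agent.Lib.H13.PlusTS

section stdhom

variable {F : Type*} [Field F] [Fintype F] {ι : Type} [Fintype ι] [DecidableEq ι]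
variable (Q : QuadraticForm F (ι → F))

/-- the standard field automorphisms as a homomorphism -/
noncomputable def stdHom (hσall : ∀ σ : F ≃+* F, SigEq σ Q) :
    (F ≃+* F) →* MulAut (Cfsg.POmega F ⇑Q) where
  toFun σ := stdAut Q σ (hσall σ)
  map_one' := semiAut_one ⇑Q _
  map_mul' σ τ := (stdAut_mul_stdAut Q σ τ (hσall σ) (hσall τ) (hσall _)).symm

theorem stdHom_apply (hσall : ∀ σ : F ≃+* F, SigEq σ Q) (σ : F ≃+* F) :
    stdHom Q hσall σ = stdAut Q σ (hσall σ) := rfl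

omit [Fintype F] in
/-- an element of `Ω` with scalar matrix is central -/
theorem central_of_scalar (s : ↥(Cfsg.Omega F ⇑Q)) (hs : s.1.1 ∈ Zs ι F) :
    s ∈ Subgroup.center ↥(Cfsg.Omega F ⇑Q) := by
  rw [Subgroup.mem_center_iff]
  intro t
  obtain ⟨c, hc⟩ := (mem_Zs_iff _).1 hs
  apply Subtype.ext
  apply Subtype.ext
  show t.1.1 * s.1.1 = s.1.1 * t.1.1
  rw [hc, Matrix.GeneralLinearGroup.scalar_commute]

end stdhom

section maincomp

variable {F : Type*} [Field F] [Fintype F] {ι : Type} [Fintype ι] [DecidableEq ι]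
variable (Q : QuadraticForm F (ι → F))
variable (hQ : (polarBilin Q).Nondegenerate) (hcard : 7 ≤ Fintype.card ι)
variable (hall : Cfsg.gammaPOmega F ⇑Q = ⊤)

include hQ hcard hall in
/-- an automorphism commuting with the standard field automorphism `φ` of `σ` and centralising the
image of `Ω` over the fixed field is a power of `φ` -/
theorem cent_M_le (hσall : ∀ σ : F ≃+* F, SigEq σ Q) (hcomm : ∀ σ τ : F ≃+* F, σ * τ = τ * σ)
    (σ : F ≃+* F) {r : ℕ} (hr : 0 < r) (hσ : orderOf σ = r)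
    (ρ : MulAut (Cfsg.POmega F ⇑Q))
    (hρφ : ρ * stdAut Q σ (hσall σ) = stdAut Q σ (hσall σ) * ρ)
    (hρM : ∀ ω₀ : ↥(Sim ⇑(down Q (hσall σ))),
      ω₀.1 ∈ Cfsg.Geo.omegaGL ⇑(down Q (hσall σ)) →
      ρ * Phi ⇑Q (upSim Q (hσall σ) ω₀) = Phi ⇑Q (upSim Q (hσall σ) ω₀) * ρ) :
    ρ ∈ Subgroup.zpowers (stdAut Q σ (hσall σ)) := by
  classical
  haveI : Fintype (AutPSL.fixF σ) := Fintype.ofFinite _
  haveI : Nonempty ι := by rw [← Fintype.card_pos_iff]; omega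
  have hker := ker_Phi_all Q hQ hcard
  have hQ₀ := down_nondeg Q (hσall σ) hQ
  obtain ⟨g, τ, rfl⟩ := exists_Phi_std Q hall hσall ρ
  have hc : ∀ x, τ (σ x) = σ (τ x) := fun x => RingEquiv.congr_fun (hcomm τ σ) x
  have hstd : stdAut Q τ (hσall τ) * stdAut Q σ (hσall σ) =
      stdAut Q σ (hσall σ) * stdAut Q τ (hσall τ) := by
    rw [← stdHom_apply Q hσall, ← stdHom_apply Q hσall, ← map_mul, ← map_mul, hcomm]
  have hg : Phi ⇑Q g * stdAut Q σ (hσall σ) = stdAut Q σ (hσall σ) * Phi ⇑Q g := by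
    have h1 : Phi ⇑Q g * stdAut Q σ (hσall σ) * stdAut Q τ (hσall τ) =
        stdAut Q σ (hσall σ) * Phi ⇑Q g * stdAut Q τ (hσall τ) := by
      calc Phi ⇑Q g * stdAut Q σ (hσall σ) * stdAut Q τ (hσall τ)
          = Phi ⇑Q g * (stdAut Q τ (hσall τ) * stdAut Q σ (hσall σ)) := by rw [hstd, mul_assoc]
        _ = (Phi ⇑Q g * stdAut Q τ (hσall τ)) * stdAut Q σ (hσall σ) := by rw [mul_assoc]
        _ = stdAut Q σ (hσall σ) * (Phi ⇑Q g * stdAut Q τ (hσall τ)) := hρφ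
        _ = _ := by rw [mul_assoc]
    exact mul_right_cancel h1
  have hmem : Phi ⇑Q g ∈ (Phi ⇑Q).range ⊓ Subgroup.centralizer {stdAut Q σ (hσall σ)} := by
    refine ⟨⟨g, rfl⟩, ?_⟩
    show _ ∈ Subgroup.centralizer {stdAut Q σ (hσall σ)}
    rw [Subgroup.mem_centralizer_iff]
    intro h hh
    rw [Set.mem_singleton_iff] at hh
    subst hh
    exact hg.symm
  rw [centralizer_stdAut Q (hσall σ) hker (exists_neO Q hQ hcard) hr hσ] at hmem
  obtain ⟨g₀, hg₀⟩ := hmem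
  rw [MonoidHom.comp_apply] at hg₀
  set τ₀ := resF σ τ hc with hτ₀def
  have hτ₀ : SigEq τ₀ (down Q (hσall σ)) := sigEq_res σ τ hc Q (hσall σ) (hσall τ)
  have hp₀ := pair_of_sim (down Q (hσall σ)) τ₀ hτ₀ g₀
  have hθ : semiAut ⇑(down Q (hσall σ)) g₀.1 τ₀ hp₀ = 1 := by
    apply MulEquiv.ext
    intro x
    induction x using QuotientGroup.induction_on with
    | H s =>
      rw [semiAut_mk, MulAut.one_apply]
      symm
      apply QuotientGroup.eq.2
      apply central_of_scalar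
      set ω₀ : ↥(Sim ⇑(down Q (hσall σ))) := ⟨s.1.1, iso_le_sim _ s.1.2⟩ with hω₀
      have hω₀mem : ω₀.1 ∈ Cfsg.Geo.omegaGL ⇑(down Q (hσall σ)) :=
        (mem_omegaGL_iff _ _).2 ⟨s.1.2, s.2⟩
      have h1 := hρM ω₀ hω₀mem
      rw [← hg₀, mul_assoc, stdAut_mul_Phi' Q τ (hσall τ), ← mul_assoc, ← mul_assoc] at h1
      have h2 := mul_right_cancel h1
      have h3 : gmS Q τ (hσall τ) (upSim Q (hσall σ) ω₀) =
          upSim Q (hσall σ) (gmS (down Q (hσall σ)) τ₀ hτ₀ ω₀) :=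
        Subtype.ext (glmap_upGL_res σ τ hc ω₀.1)
      rw [h3, ← map_mul, ← map_mul, ← map_mul, ← map_mul] at h2
      have h4 : (ω₀ * g₀)⁻¹ * (g₀ * gmS (down Q (hσall σ)) τ₀ hτ₀ ω₀) ∈
          ((Phi ⇑Q).comp (upSim Q (hσall σ))).ker := by
        rw [MonoidHom.mem_ker, map_mul, map_inv, MonoidHom.comp_apply, MonoidHom.comp_apply, h2,
          inv_mul_cancel]
      rw [ker_Phi_upSim Q (hσall σ) hker, Subgroup.mem_subgroupOf] at h4
      obtain ⟨c, hc'⟩ := (mem_Zs_iff _).1 h4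
      rw [mem_Zs_iff]
      refine ⟨c, ?_⟩
      have h5 : (ω₀.1 * g₀.1)⁻¹ * (g₀.1 * glmap τ₀ ω₀.1) =
          Matrix.GeneralLinearGroup.scalar ι c := hc'
      show (s.1.1)⁻¹ * (g₀.1 * glmap τ₀ s.1.1 * g₀.1⁻¹) = _
      have h6 : (s.1.1)⁻¹ * (g₀.1 * glmap τ₀ s.1.1 * g₀.1⁻¹) =
          g₀.1 * ((ω₀.1 * g₀.1)⁻¹ * (g₀.1 * glmap τ₀ ω₀.1)) * g₀.1⁻¹ := by
        rw [hω₀]
        group
      rw [h6, h5, ← Matrix.GeneralLinearGroup.scalar_commute, mul_inv_cancel_right]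
  obtain ⟨hτ₀1, hg₀Z⟩ := semi_ker_all (down Q (hσall σ)) hQ₀ hcard g₀.1 τ₀ hp₀ hθ
  have hτmem : τ ∈ Subgroup.zpowers σ :=
    mem_zpowers_of_fix σ τ (fun x hx => fix_of_resF_refl σ τ hc hτ₀1 x hx)
  have hPhi1 : Phi ⇑Q g = 1 := by
    rw [← hg₀, ← MonoidHom.mem_ker, hker, Subgroup.mem_subgroupOf, upSim_val, upGL_mem_Zs_iff]
    exact hg₀Z
  rw [hPhi1, one_mul, ← stdHom_apply Q hσall, ← stdHom_apply Q hσall, ← MonoidHom.map_zpowers]
  exact Subgroup.mem_map_of_mem _ hτmem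

end maincomp

end

section

open Matrix QuadraticMap Module
open Cfsg.Agent.Lib.H11.ConfOrth
open Cfsg.Agent.Lib.H13 Cfsg.Agent.Lib.H13.HypPairs Cfsg.Agent.Lib.H13.PlusTS

section upomega2

variable {F : Type*} [Field F] {ι : Type} [Fintype ι] [DecidableEq ι]
variable {σ : F ≃+* F} (Q : QuadraticForm F (ι → F)) (hσQ : SigEq σ Q)

/-- extension of scalars on the isometry groups -/
noncomputable def upIso : ↥(Cfsg.isometryGroup (AutPSL.fixF σ) ⇑(down Q hσQ)) →*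
    ↥(Cfsg.isometryGroup F ⇑Q) where
  toFun k := ⟨upGL k.1, upGL_mem_iso Q hσQ k.1 k.2⟩
  map_one' := Subtype.ext upGL_one
  map_mul' k k' := Subtype.ext (upGL_mul k.1 k'.1)

theorem upGL_mem_omegaGL (k : GL ι (AutPSL.fixF σ))
    (hk : k ∈ Cfsg.Geo.omegaGL ⇑(down Q hσQ)) : upGL k ∈ Cfsg.Geo.omegaGL ⇑Q := by
  obtain ⟨h, hs⟩ := (mem_omegaGL_iff _ k).1 hk
  rw [mem_omegaGL_iff]
  refine ⟨upGL_mem_iso Q hσQ k h, ?_⟩
  have h1 : (commutator ↥(Cfsg.isometryGroup (AutPSL.fixF σ) ⇑(down Q hσQ))).map (upIso Q hσQ) ≤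
      commutator ↥(Cfsg.isometryGroup F ⇑Q) := by
    rw [commutator_def, commutator_def, Subgroup.map_commutator]
    exact Subgroup.commutator_mono le_top le_top
  exact h1 (Subgroup.mem_map_of_mem _ hs)

/-- a matrix over the fixed field whose extension is an isometry is an isometry -/
theorem mem_iso_of_upGL (k : GL ι (AutPSL.fixF σ)) (hk : upGL k ∈ Cfsg.isometryGroup F ⇑Q) :
    k ∈ Cfsg.isometryGroup (AutPSL.fixF σ) ⇑(down Q hσQ) := by
  rw [Cfsg.Agent.Lib.H11.ConfOrth.mem_iso_iff] at hk ⊢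
  intro v
  apply Subtype.ext
  rw [down_apply, down_apply, ← upGL_mulVec, hk]

end upomega2

section squares2

variable {F : Type*} [Field F] [Fintype F] {σ : F ≃+* F}

/-- a non-square of the fixed field of an automorphism of odd order stays a non-square -/
theorem isSquare_of_coe (h2 : (2 : F) ≠ 0) {r : ℕ} (hr : Odd r) (hσ : orderOf σ = r)
    (x : AutPSL.fixF σ) (hx : IsSquare (x : F)) : IsSquare x := by
  classical
  by_contra hxn
  haveI : Fintype (AutPSL.fixF σ) := Fintype.ofFinite _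
  have hr0 : 0 < r := hr.pos
  have hq := AutPSL.card_fixF σ hr0 hσ
  rw [Nat.card_eq_fintype_card] at hq
  set q₀ := Fintype.card (AutPSL.fixF σ) with hq₀
  have hodd : Odd (Fintype.card F) := card_odd_of_two_ne_zero h2
  have hq₀odd : Odd q₀ := by
    rw [← hq] at hodd
    exact (Nat.odd_pow_iff (by omega)).1 hodd
  have h2' : (2 : AutPSL.fixF σ) ≠ 0 := two_ne_zero_fix h2
  have hx0 : x ≠ 0 := by
    rintro rfl
    exact hxn ⟨0, by simp⟩
  have hxm : x ^ (q₀ / 2) = -1 := by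
    rcases FiniteField.pow_dichotomy (ringChar_ne_two_of h2') hx0 with h | h
    · exact absurd ((FiniteField.isSquare_iff (ringChar_ne_two_of h2') hx0).2 h) hxn
    · exact h
  have hxmF : (x : F) ^ (q₀ / 2) = -1 := by
    have h3 := congrArg (fun y : AutPSL.fixF σ => (y : F)) hxm
    simpa using h3
  have hxF : (x : F) ≠ 0 := fun h => hx0 (Subtype.ext h)
  rw [FiniteField.isSquare_iff (ringChar_ne_two_of h2) hxF, ← hq] at hx
  have hq₀2 : 2 ≤ q₀ := by
    have : 1 < Fintype.card (AutPSL.fixF σ) := Fintype.one_lt_card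
    omega
  set S := ∑ i ∈ Finset.range r, q₀ ^ i with hS
  have hS1 : S * (q₀ - 1) = q₀ ^ r - 1 := by
    have := Nat.geomSum_eq hq₀2 r
    rw [hS, this]
    exact Nat.div_mul_cancel (Nat.sub_one_dvd_pow_sub_one q₀ r)
  obtain ⟨t, ht⟩ := hq₀odd
  have e1 : q₀ ^ r / 2 = (q₀ / 2) * S := by
    have h5 : q₀ / 2 = t := by omega
    have h6 : q₀ - 1 = 2 * t := by omega
    rw [h5]
    rw [h6] at hS1
    have hpos : 0 < q₀ ^ r := pow_pos (by omega) r
    have : q₀ ^ r = 2 * (t * S) + 1 := by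
      have : S * (2 * t) = 2 * (t * S) := by ring
      omega
    rw [this]
    omega
  rw [e1, pow_mul, hxmF] at hx
  have hSodd : Odd S := by
    rw [Nat.odd_iff, hS, AutPSp.geom_parity_odd q₀ r ⟨t, ht⟩]
    exact Nat.odd_iff.1 hr
  rw [hSodd.neg_one_pow] at hx
  apply h2
  linear_combination -hx

/-- for `σ` of odd order, an element whose square is fixed is fixed -/
theorem fixed_of_sq_fixed (h2 : (2 : F) ≠ 0) {r : ℕ} (hr : Odd r) (hσ : orderOf σ = r)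
    (c : F) (hc : σ (c ^ 2) = c ^ 2) : σ c = c := by
  have h1 : (σ c - c) * (σ c + c) = 0 := by
    rw [map_pow] at hc
    linear_combination hc
  rcases mul_eq_zero.1 h1 with h | h
  · exact sub_eq_zero.1 h
  · have hneg : σ c = -c := eq_neg_of_add_eq_zero_left h
    have hpow : ∀ k : ℕ, (σ ^ k) c = (-1) ^ k * c := by
      intro k
      induction k with
      | zero => simp
      | succ k ih =>
        rw [pow_succ', RingAut.mul_apply, ih, map_mul, map_pow, map_neg, map_one, hneg]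
        ring
    have h3 := hpow r
    rw [← hσ, pow_orderOf_eq_one, hσ, hr.neg_one_pow] at h3
    have h4 : c = 0 := by
      have h5 : (2 : F) * c = 0 := by
        have : (1 : F ≃+* F) c = c := rfl
        rw [this] at h3
        linear_combination h3
      rcases mul_eq_zero.1 h5 with h6 | h6
      · exact absurd h6 h2
      · exact h6
    rw [h4, map_zero]

end squares2

end

section

open Matrix QuadraticMap Module
open Cfsg.Agent.Lib.H11.ConfOrth
open Cfsg.Agent.Lib.H13 Cfsg.Agent.Lib.H13.HypPairs Cfsg.Agent.Lib.H13.PlusTS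

section conjinj

variable {F : Type*} [Field F] {ι : Type} [Fintype ι] [DecidableEq ι]
variable (Q : QuadraticForm F (ι → F))

theorem conj_mk_eq (s : ↥(Cfsg.Omega F ⇑Q)) :
    MulAut.conj (QuotientGroup.mk s : Cfsg.POmega F ⇑Q) =
      Phi ⇑Q ⟨s.1.1, iso_le_sim ⇑Q s.1.2⟩ := by
  apply MulEquiv.ext
  intro y
  induction y using QuotientGroup.induction_on with
  | H t =>
    rw [Phi_mk, MulAut.conj_apply, ← QuotientGroup.mk_mul, ← QuotientGroup.mk_inv,
      ← QuotientGroup.mk_mul]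
    congr 1

/-- `PΩ(Q)` has trivial centre -/
theorem conj_injective_pomega (hker : (Phi ⇑Q).ker = (Zs ι F).subgroupOf (Sim ⇑Q)) :
    Function.Injective (MulAut.conj : Cfsg.POmega F ⇑Q →* MulAut (Cfsg.POmega F ⇑Q)) := by
  rw [injective_iff_map_eq_one]
  intro x hx
  induction x using QuotientGroup.induction_on with
  | H s =>
    rw [conj_mk_eq, ← MonoidHom.mem_ker, hker, Subgroup.mem_subgroupOf] at hx
    exact (QuotientGroup.eq_one_iff s).2 (central_of_scalar Q s hx)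

/-- `Ω` is normal in the similarity group -/
theorem omega_conj_mem (g ω : ↥(Sim ⇑Q)) (hω : ω.1 ∈ Cfsg.Geo.omegaGL ⇑Q) :
    (g * ω * g⁻¹).1 ∈ Cfsg.Geo.omegaGL ⇑Q := by
  obtain ⟨h, hs⟩ := (mem_omegaGL_iff _ _).1 hω
  have h1 := conjOmega_val ⇑Q g ⟨⟨ω.1, h⟩, hs⟩
  rw [mem_omegaGL_iff]
  refine ⟨?_, ?_⟩
  · have := (conjOmega ⇑Q g ⟨⟨ω.1, h⟩, hs⟩).1.2
    rw [h1] at this
    exact this
  · have := (conjOmega ⇑Q g ⟨⟨ω.1, h⟩, hs⟩).2
    convert this using 1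
    apply Subtype.ext
    exact h1.symm

end conjinj

section Msub

variable {F : Type*} [Field F] [Fintype F] {ι : Type} [Fintype ι] [DecidableEq ι]
variable {σ : F ≃+* F} (Q : QuadraticForm F (ι → F)) (hσQ : SigEq σ Q)

/-- the image in `Aut(PΩ(Q))` of `Ω` over the fixed field -/
noncomputable def Msub : Subgroup (MulAut (Cfsg.POmega F ⇑Q)) :=
  ((Cfsg.Geo.omegaGL ⇑(down Q hσQ)).subgroupOf (Sim ⇑(down Q hσQ))).map
    ((Phi ⇑Q).comp (upSim Q hσQ))

theorem mem_Msub_iff (β : MulAut (Cfsg.POmega F ⇑Q)) :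
    β ∈ Msub Q hσQ ↔ ∃ ω₀ : ↥(Sim ⇑(down Q hσQ)),
      ω₀.1 ∈ Cfsg.Geo.omegaGL ⇑(down Q hσQ) ∧ Phi ⇑Q (upSim Q hσQ ω₀) = β := by
  unfold Msub
  constructor
  · rintro ⟨ω₀, hω₀, rfl⟩
    exact ⟨ω₀, Subgroup.mem_subgroupOf.1 hω₀, rfl⟩
  · rintro ⟨ω₀, hω₀, rfl⟩
    exact ⟨ω₀, Subgroup.mem_subgroupOf.2 hω₀, rfl⟩

theorem Msub_le_inn : Msub Q hσQ ≤ Cfsg.Inn (Cfsg.POmega F ⇑Q) := by
  rw [inn_eq]
  intro β hβ
  obtain ⟨ω₀, hω₀, rfl⟩ := (mem_Msub_iff Q hσQ β).1 hβ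
  refine ⟨upSim Q hσQ ω₀, ?_, rfl⟩
  rw [SetLike.mem_coe, Subgroup.mem_subgroupOf, upSim_val]
  exact upGL_mem_omegaGL Q hσQ ω₀.1 hω₀

theorem Msub_le_cent : Msub Q hσQ ≤ Subgroup.centralizer {stdAut Q σ hσQ} := by
  intro β hβ
  obtain ⟨ω₀, hω₀, rfl⟩ := (mem_Msub_iff Q hσQ β).1 hβ
  rw [Subgroup.mem_centralizer_iff]
  intro h hh
  rw [Set.mem_singleton_iff] at hh
  subst hh
  exact Phi_upSim_comm Q hσQ ω₀

theorem Msub_conj (s₀ : ↥(Sim ⇑(down Q hσQ))) (μ : MulAut (Cfsg.POmega F ⇑Q))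
    (hμ : μ ∈ Msub Q hσQ) :
    Phi ⇑Q (upSim Q hσQ s₀) * μ * (Phi ⇑Q (upSim Q hσQ s₀))⁻¹ ∈ Msub Q hσQ := by
  obtain ⟨ω₀, hω₀, rfl⟩ := (mem_Msub_iff Q hσQ μ).1 hμ
  rw [mem_Msub_iff]
  refine ⟨s₀ * ω₀ * s₀⁻¹, omega_conj_mem (down Q hσQ) s₀ ω₀ hω₀, ?_⟩
  rw [map_mul, map_mul, map_inv, map_mul, map_mul, map_inv]

variable (hQ : (polarBilin Q).Nondegenerate) (h2 : (2 : F) ≠ 0) (hcard : 7 ≤ Fintype.card ι)

include hQ h2 hcard in
theorem Msub_simple : IsSimpleGroup ↥(Msub Q hσQ) := by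
  classical
  haveI : Fintype (AutPSL.fixF σ) := Fintype.ofFinite _
  haveI : Nonempty ι := by rw [← Fintype.card_pos_iff]; omega
  have hker := ker_Phi_all Q hQ hcard
  have hQ₀ := down_nondeg Q hσQ hQ
  have hker₀ := ker_Phi_all (down Q hσQ) hQ₀ hcard
  have hk : ((Phi ⇑Q).comp (upSim Q hσQ)).ker = (Phi ⇑(down Q hσQ)).ker := by
    rw [ker_Phi_upSim Q hσQ hker, hker₀]
  obtain ⟨E1⟩ := map_equiv_of_ker_eq ((Phi ⇑Q).comp (upSim Q hσQ)) (Phi ⇑(down Q hσQ)) hk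
    ((Cfsg.Geo.omegaGL ⇑(down Q hσQ)).subgroupOf (Sim ⇑(down Q hσQ)))
  have h3 : ((Cfsg.Geo.omegaGL ⇑(down Q hσQ)).subgroupOf (Sim ⇑(down Q hσQ))).map
      (Phi ⇑(down Q hσQ)) = Cfsg.Inn (Cfsg.POmega (AutPSL.fixF σ) ⇑(down Q hσQ)) :=
    (inn_eq _).symm
  have E2 := MonoidHom.ofInjective (conj_injective_pomega (down Q hσQ) hker₀)
  haveI := Cfsg.Agent.Lib.H11.OmegaSimple.simple_general (down Q hσQ) hQ₀
    (two_ne_zero_fix h2) hcard
  exact ((E1.trans (MulEquiv.subgroupCongr h3)).trans E2.symm).isSimpleGroup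

include hQ h2 hcard in
theorem two_dvd_card_Msub : 2 ∣ Nat.card ↥(Msub Q hσQ) := by
  classical
  haveI : Fintype (AutPSL.fixF σ) := Fintype.ofFinite _
  haveI : Nonempty ι := by rw [← Fintype.card_pos_iff]; omega
  have hker := ker_Phi_all Q hQ hcard
  have hQ₀ := down_nondeg Q hσQ hQ
  obtain ⟨g, hg, hgg, hgZ⟩ := exists_involution_omega (down Q hσQ) hQ₀ (two_ne_zero_fix h2) hcard
  set ω₀ : ↥(Sim ⇑(down Q hσQ)) := ⟨g, omegaGL_le_sim _ hg⟩ with hω₀
  have hmem : Phi ⇑Q (upSim Q hσQ ω₀) ∈ Msub Q hσQ := (mem_Msub_iff Q hσQ _).2 ⟨ω₀, hg, rfl⟩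
  have hne : Phi ⇑Q (upSim Q hσQ ω₀) ≠ 1 := by
    intro h
    have h1 : ω₀ ∈ ((Phi ⇑Q).comp (upSim Q hσQ)).ker := h
    rw [ker_Phi_upSim Q hσQ hker, Subgroup.mem_subgroupOf] at h1
    exact hgZ h1
  have hsq : Phi ⇑Q (upSim Q hσQ ω₀) ^ 2 = 1 := by
    rw [_root_.sq, ← map_mul, ← map_mul]
    have : ω₀ * ω₀ = 1 := Subtype.ext hgg
    rw [this, map_one, map_one]
  have hord : orderOf (⟨Phi ⇑Q (upSim Q hσQ ω₀), hmem⟩ : ↥(Msub Q hσQ)) = 2 := by
    apply orderOf_eq_prime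
    · apply Subtype.ext
      exact hsq
    · intro h
      exact hne (congrArg Subtype.val h)
  rw [← hord]
  exact orderOf_dvd_natCard _

end Msub

end

section

open Matrix QuadraticMap Module
open Cfsg.Agent.Lib.H11.ConfOrth
open Cfsg.Agent.Lib.H13 Cfsg.Agent.Lib.H13.HypPairs Cfsg.Agent.Lib.H13.PlusTS

section NleM

variable {F : Type*} [Field F] [Fintype F] {ι : Type} [Fintype ι] [DecidableEq ι]
variable {σ : F ≃+* F} (Q : QuadraticForm F (ι → F)) (hσQ : SigEq σ Q)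
variable (hQ : (polarBilin Q).Nondegenerate) (h2 : (2 : F) ≠ 0) (hcard : 7 ≤ Fintype.card ι)

omit [Fintype F] in
theorem upGL_inv (k : GL ι (AutPSL.fixF σ)) : upGL k⁻¹ = (upGL k)⁻¹ := by
  unfold upGL
  rw [map_inv]

include hQ h2 hcard in
/-- for `σ` of odd order the inner automorphisms commuting with the standard field automorphism
come from `Ω` over the fixed field -/
theorem inn_cent_le_Msub {r : ℕ} (hr : Odd r) (hσ : orderOf σ = r) :
    Cfsg.Inn (Cfsg.POmega F ⇑Q) ⊓ Subgroup.centralizer {stdAut Q σ hσQ} ≤ Msub Q hσQ := by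
  classical
  haveI : Fintype (AutPSL.fixF σ) := Fintype.ofFinite _
  haveI : Nonempty ι := by rw [← Fintype.card_pos_iff]; omega
  have hker := ker_Phi_all Q hQ hcard
  have hQ₀ := down_nondeg Q hσQ hQ
  have h2' : (2 : AutPSL.fixF σ) ≠ 0 := two_ne_zero_fix h2
  rintro β ⟨hβI, hβC⟩
  have h1 : β ∈ (Phi ⇑Q).range ⊓ Subgroup.centralizer {stdAut Q σ hσQ} := by
    refine ⟨?_, hβC⟩
    rw [inn_eq] at hβI
    obtain ⟨ω, -, rfl⟩ := hβI
    exact ⟨ω, rfl⟩
  rw [centralizer_stdAut Q hσQ hker (exists_neO Q hQ hcard) hr.pos hσ] at h1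
  obtain ⟨s₀, hs₀⟩ := h1
  rw [MonoidHom.comp_apply] at hs₀
  rw [inn_eq] at hβI
  obtain ⟨ω, hω, hωβ⟩ := hβI
  rw [SetLike.mem_coe, Subgroup.mem_subgroupOf] at hω
  have h3 : ω⁻¹ * upSim Q hσQ s₀ ∈ (Phi ⇑Q).ker := by
    rw [MonoidHom.mem_ker, map_mul, map_inv, hωβ, hs₀, inv_mul_cancel]
  rw [hker, Subgroup.mem_subgroupOf] at h3
  obtain ⟨c, hc⟩ := (mem_Zs_iff _).1 h3
  have hc' : upGL s₀.1 = ω.1 * Matrix.GeneralLinearGroup.scalar ι c := by
    have h4 : (ω.1)⁻¹ * upGL s₀.1 = Matrix.GeneralLinearGroup.scalar ι c := hc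
    rw [← h4]
    group
  obtain ⟨v₀, hv₀⟩ := exists_upV_ne (σ := σ) Q (exists_neO Q hQ hcard)
  have hωiso : ∀ x, Q (ω.1.1 *ᵥ x) = Q x :=
    (Cfsg.Agent.Lib.H11.ConfOrth.mem_iso_iff _ _).1 (omegaGL_le_iso _ hω)
  have hcsq : (c : F) ^ 2 * Q (upV σ v₀) = Q (upV σ (s₀.1.1 *ᵥ v₀)) := by
    rw [← upGL_mulVec, hc', Units.val_mul, ← Matrix.mulVec_mulVec, hωiso, scalar_mulVec,
      QuadraticMap.map_smul, smul_eq_mul]
    ring
  have hfix : σ ((c : F) ^ 2) = (c : F) ^ 2 := by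
    have e : (c : F) ^ 2 = Q (upV σ (s₀.1.1 *ᵥ v₀)) / Q (upV σ v₀) := by
      rw [← hcsq]
      field_simp
    rw [e, map_div₀, ← down_apply Q hσQ, ← down_apply Q hσQ,
      (AutPSL.mem_fixF_iff σ _).1 (SetLike.coe_mem _),
      (AutPSL.mem_fixF_iff σ _).1 (SetLike.coe_mem _)]
  have hσc : σ (c : F) = c := fixed_of_sq_fixed h2 hr hσ c hfix
  have hc0 : (⟨(c : F), (AutPSL.mem_fixF_iff σ _).2 hσc⟩ : AutPSL.fixF σ) ≠ 0 := by
    intro h
    exact c.ne_zero (congrArg Subtype.val h)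
  set c₀ : (AutPSL.fixF σ)ˣ := Units.mk0 _ hc0 with hc₀
  have hc₀c : Units.map (AutPSL.fixF σ).subtype.toMonoidHom c₀ = c := Units.ext rfl
  set ω₀ : GL ι (AutPSL.fixF σ) := (Matrix.GeneralLinearGroup.scalar ι c₀)⁻¹ * s₀.1 with hω₀
  have hup : upGL ω₀ = ω.1 := by
    rw [hω₀, upGL_mul, upGL_inv, upGL_scalar, hc₀c, hc',
      ← Matrix.GeneralLinearGroup.scalar_commute, inv_mul_cancel_left]
  have hω₀iso : ω₀ ∈ Cfsg.isometryGroup (AutPSL.fixF σ) ⇑(down Q hσQ) :=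
    mem_iso_of_upGL Q hσQ ω₀ (by rw [hup]; exact omegaGL_le_iso _ hω)
  obtain ⟨us, hus, hrep⟩ := exists_refl_list (down Q hσQ) hQ₀ h2' ω₀ hω₀iso
  have hrepF := upGL_list Q hσQ ω₀ us hrep
  have hvs : ∀ v ∈ us.map (upV σ), Q v ≠ 0 := by
    intro v hv
    obtain ⟨u, hu, rfl⟩ := List.mem_map.1 hv
    intro h
    apply hus u hu
    apply Subtype.ext
    rw [down_apply, h]
    rfl
  rw [hup] at hrepF
  obtain ⟨heven, hsq⟩ := (omegaGL_iff_list Q hQ h2 (by omega) ω.1 (omegaGL_le_iso _ hω) _ hvs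
    hrepF).1 hω
  rw [List.length_map] at heven
  rw [list_prod_up Q hσQ] at hsq
  have hsq₀ := isSquare_of_coe h2 hr hσ _ hsq
  have hω₀Ω : ω₀ ∈ Cfsg.Geo.omegaGL ⇑(down Q hσQ) :=
    (omegaGL_iff_list (down Q hσQ) hQ₀ h2' (by omega) ω₀ hω₀iso us hus hrep).2 ⟨heven, hsq₀⟩
  rw [mem_Msub_iff]
  refine ⟨⟨ω₀, omegaGL_le_sim _ hω₀Ω⟩, hω₀Ω, ?_⟩
  rw [← hωβ]
  congr 1
  exact Subtype.ext hup

end NleM

end

section

open Matrix QuadraticMap Module
open Cfsg.Agent.Lib.H11.ConfOrth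
open Cfsg.Agent.Lib.H13 Cfsg.Agent.Lib.H13.HypPairs Cfsg.Agent.Lib.H13.PlusTS

section corestd

variable {F : Type*} [Field F] [Fintype F] {ι : Type} [Fintype ι] [DecidableEq ι]
variable (Q : QuadraticForm F (ι → F))
variable (hQ : (polarBilin Q).Nondegenerate) (h2 : (2 : F) ≠ 0) (hcard : 7 ≤ Fintype.card ι)
variable (hall : Cfsg.gammaPOmega F ⇑Q = ⊤)

include hQ h2 hcard hall in
/-- local balance for the standard field automorphism of prime order `p`: the centraliser has a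
nontrivial normal `p'`-subgroup iff the group of fixed points has order prime to `p` -/
theorem core_std (hσall : ∀ σ : F ≃+* F, SigEq σ Q) (hcomm : ∀ σ τ : F ≃+* F, σ * τ = τ * σ)
    (σ : F ≃+* F) {p : ℕ} (hp : p.Prime) (hσ : orderOf σ = p)
    (A : Subgroup (MulAut (Cfsg.POmega F ⇑Q))) (hInnA : Cfsg.Inn (Cfsg.POmega F ⇑Q) ≤ A) :
    HasNPC p ↥(A ⊓ Subgroup.centralizer {stdAut Q σ (hσall σ)}) ↔
      (Nat.card ↥(Cfsg.Inn (Cfsg.POmega F ⇑Q) ⊓
        Subgroup.centralizer {stdAut Q σ (hσall σ)})).Coprime p := by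
  classical
  haveI : Nonempty ι := by rw [← Fintype.card_pos_iff]; omega
  haveI := inn_normal (Cfsg.POmega F ⇑Q)
  have hker := ker_Phi_all Q hQ hcard
  have hMN : Msub Q (hσall σ) ≤ Cfsg.Inn (Cfsg.POmega F ⇑Q) ⊓
      Subgroup.centralizer {stdAut Q σ (hσall σ)} :=
    le_inf (Msub_le_inn Q (hσall σ)) (Msub_le_cent Q (hσall σ))
  have hNC : Cfsg.Inn (Cfsg.POmega F ⇑Q) ⊓ Subgroup.centralizer {stdAut Q σ (hσall σ)} ≤
      A ⊓ Subgroup.centralizer {stdAut Q σ (hσall σ)} := inf_le_inf hInnA le_rfl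
  have hNnorm : ∀ c ∈ Subgroup.centralizer {stdAut Q σ (hσall σ)},
      ∀ ν ∈ Cfsg.Inn (Cfsg.POmega F ⇑Q) ⊓ Subgroup.centralizer {stdAut Q σ (hσall σ)},
      c * ν * c⁻¹ ∈ Cfsg.Inn (Cfsg.POmega F ⇑Q) ⊓
        Subgroup.centralizer {stdAut Q σ (hσall σ)} := by
    intro c hc ν hν
    exact ⟨Subgroup.Normal.conj_mem inferInstance ν hν.1 c,
      Subgroup.mul_mem _ (Subgroup.mul_mem _ hc hν.2) (Subgroup.inv_mem _ hc)⟩
  have hsimp := Msub_simple Q (hσall σ) hQ h2 hcard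
  rw [hasNPC_subgroup_iff]
  constructor
  · rintro ⟨R, hRC, hnorm, hcop, hne⟩
    have hkey : ∀ S : Subgroup (MulAut (Cfsg.POmega F ⇑Q)),
        S ≤ Subgroup.centralizer {stdAut Q σ (hσall σ)} →
        (∀ ρ ∈ S, ∀ μ ∈ Msub Q (hσall σ), ρ * μ = μ * ρ) → (Nat.card S).Coprime p → S = ⊥ := by
      intro S hSC hSM hScop
      have hle : S ≤ Subgroup.zpowers (stdAut Q σ (hσall σ)) := by
        intro ρ hρ
        refine cent_M_le Q hQ hcard hall hσall hcomm σ hp.pos hσ ρ ?_ ?_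
        · have := hSC hρ
          rw [Subgroup.mem_centralizer_iff] at this
          exact (this _ (Set.mem_singleton _)).symm
        · intro ω₀ hω₀
          exact hSM ρ hρ _ ((mem_Msub_iff Q (hσall σ) _).2 ⟨ω₀, hω₀, rfl⟩)
      have hd : Nat.card S ∣ p := by
        have := Subgroup.card_dvd_of_le hle
        rwa [Nat.card_zpowers, orderOf_stdAutA Q σ hQ hcard hall (hσall σ), hσ] at this
      have h1 : Nat.card S = 1 := Nat.Coprime.eq_one_of_dvd hScop hd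
      exact Subgroup.card_eq_one.1 h1
    have hM' : ((R ⊓ (Cfsg.Inn (Cfsg.POmega F ⇑Q) ⊓
        Subgroup.centralizer {stdAut Q σ (hσall σ)})).subgroupOf (Msub Q (hσall σ))).Normal := by
      constructor
      intro n hn g
      rw [Subgroup.mem_subgroupOf] at hn ⊢
      simp only [Subgroup.coe_mul, Subgroup.coe_inv]
      have hgN := hMN g.2
      exact ⟨hnorm g.1 (hNC hgN) n.1 hn.1,
        Subgroup.mul_mem _ (Subgroup.mul_mem _ hgN hn.2) (Subgroup.inv_mem _ hgN)⟩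
    rcases hM'.eq_bot_or_eq_top with hbot | htop
    · exfalso
      rw [Subgroup.subgroupOf_eq_bot] at hbot
      have hinf : (R ⊓ (Cfsg.Inn (Cfsg.POmega F ⇑Q) ⊓
          Subgroup.centralizer {stdAut Q σ (hσall σ)})) ⊓ Msub Q (hσall σ) = ⊥ :=
        disjoint_iff.1 hbot
      have hR₂ : R ⊓ (Cfsg.Inn (Cfsg.POmega F ⇑Q) ⊓
          Subgroup.centralizer {stdAut Q σ (hσall σ)}) = ⊥ := by
        apply hkey
        · exact le_trans inf_le_right inf_le_right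
        · intro ρ hρ μ hμ
          refine commute_of_inf_eq_bot _ _ ?_ ?_ hinf ρ hρ μ hμ
          · intro n hn ρ' hρ'
            have hnN := hMN hn
            exact ⟨hnorm n (hNC hnN) ρ' hρ'.1,
              Subgroup.mul_mem _ (Subgroup.mul_mem _ hnN hρ'.2) (Subgroup.inv_mem _ hnN)⟩
          · intro ρ' hρ' n hn
            have h1 : ρ' ∈ (Phi ⇑Q).range ⊓ Subgroup.centralizer {stdAut Q σ (hσall σ)} := by
              refine ⟨?_, hρ'.2.2⟩
              have := hρ'.2.1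
              rw [inn_eq] at this
              obtain ⟨ω, -, rfl⟩ := this
              exact ⟨ω, rfl⟩
            rw [centralizer_stdAut Q (hσall σ) hker (exists_neO Q hQ hcard) hp.pos hσ] at h1
            obtain ⟨s₀, rfl⟩ := h1
            exact Msub_conj Q (hσall σ) s₀ n hn
        · exact Nat.Coprime.coprime_dvd_left (Subgroup.card_dvd_of_le inf_le_left) hcop
      have hRbot : R = ⊥ := by
        apply hkey R (le_trans hRC inf_le_right) _ hcop
        intro ρ hρ μ hμ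
        refine commute_of_inf_eq_bot R _ ?_ ?_ hR₂ ρ hρ μ (hMN hμ)
        · intro n hn ρ' hρ'
          exact hnorm n (hNC hn) ρ' hρ'
        · intro ρ' hρ' n hn
          exact hNnorm ρ' (hRC hρ').2 n hn
      exact hne hRbot
    · rw [Subgroup.subgroupOf_eq_top] at htop
      have hMR : Msub Q (hσall σ) ≤ R := le_trans htop inf_le_left
      have hMcop : (Nat.card ↥(Msub Q (hσall σ))).Coprime p :=
        Nat.Coprime.coprime_dvd_left (Subgroup.card_dvd_of_le hMR) hcop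
      by_cases hp2 : p = 2
      · exfalso
        subst hp2
        have h2d := two_dvd_card_Msub Q (hσall σ) hQ h2 hcard
        have := Nat.dvd_gcd h2d (dvd_refl 2)
        rw [Nat.Coprime] at hMcop
        rw [hMcop] at this
        omega
      · have hodd : Odd p := hp.odd_of_ne_two hp2
        have hNM := inn_cent_le_Msub Q (hσall σ) hQ h2 hcard hodd hσ
        have hEq : Cfsg.Inn (Cfsg.POmega F ⇑Q) ⊓ Subgroup.centralizer {stdAut Q σ (hσall σ)} =
            Msub Q (hσall σ) := le_antisymm hNM hMN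
        rw [hEq]
        exact hMcop
  · intro hcop
    refine ⟨_, hNC, ?_, hcop, ?_⟩
    · intro c hc ν hν
      exact hNnorm c hc.2 ν hν
    · intro hbot
      have hMbot : Msub Q (hσall σ) = ⊥ := by
        rw [eq_bot_iff, ← hbot]
        exact hMN
      haveI := hsimp
      obtain ⟨x, hx⟩ := exists_ne (1 : ↥(Msub Q (hσall σ)))
      apply hx
      apply Subtype.ext
      have h5 : (x : MulAut (Cfsg.POmega F ⇑Q)) ∈ (⊥ : Subgroup _) := by
        rw [← hMbot]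
        exact x.2
      exact Subgroup.mem_bot.1 h5

end corestd

end

section

open Matrix QuadraticMap Module
open Cfsg.Agent.Lib.H11.ConfOrth
open Cfsg.Agent.Lib.H13 Cfsg.Agent.Lib.H13.HypPairs Cfsg.Agent.Lib.H13.PlusTS

section balance

variable {F : Type*} [Field F] [Fintype F] {ι : Type} [Fintype ι] [DecidableEq ι]
variable (Q : QuadraticForm F (ι → F))

theorem stdAut_isField (σ : F ≃+* F) (hσQ : SigEq σ Q) :
    Cfsg.IsFieldAutPOmegaOf ⇑Q σ (stdAut Q σ hσQ) := by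
  intro s s' hs
  have h1 := (semi_induced_iff ⇑Q 1 σ (pair_one_of_sigEq Q σ hσQ) (stdAut Q σ hσQ)).2 rfl
  apply h1 s s'
  rw [hs, Units.val_one, inv_one, Units.val_one, Matrix.one_mul, Matrix.mul_one]

variable (hQ : (polarBilin Q).Nondegenerate) (h2 : (2 : F) ≠ 0) (hcard : 7 ≤ Fintype.card ι)
variable (hall : Cfsg.gammaPOmega F ⇑Q = ⊤)

include hQ h2 hcard hall in
/-- an automorphism of prime order outside `PGO` is `PGO`-conjugate to a standard field
automorphism -/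
theorem exists_std_conj (hσall : ∀ σ : F ≃+* F, SigEq σ Q) {p : ℕ} (hp : p.Prime)
    (hcl : ∀ σ : F ≃+* F, orderOf σ = p → ∀ Q' : QuadraticForm F (ι → F),
      (polarBilin Q').Nondegenerate → SigEq σ Q' →
      (∃ (h : GL ι F) (l : F), l ≠ 0 ∧ ∀ v, Q' v = l * Q (h.1 *ᵥ v)) → FixSim Q σ Q')
    (x : MulAut (Cfsg.POmega F ⇑Q)) (hxp : orderOf x = p) (hx : x ∉ (Phi ⇑Q).range) :
    ∃ σ : F ≃+* F, orderOf σ = p ∧ σ ≠ RingEquiv.refl F ∧
      ∃ a ∈ (Phi ⇑Q).range, x = a * stdAut Q σ (hσall σ) * a⁻¹ := by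
  obtain ⟨g, σ, rfl⟩ := exists_Phi_std Q hall hσall x
  have hσ1 : σ ≠ 1 := by
    rintro rfl
    apply hx
    have : stdAut Q 1 (hσall 1) = 1 := map_one (stdHom Q hσall)
    rw [this, mul_one]
    exact ⟨g, rfl⟩
  have hσp : orderOf σ = p := by
    have h1 : (Phi ⇑Q g * stdAut Q σ (hσall σ)) ^ p = 1 := by
      rw [← hxp]; exact pow_orderOf_eq_one _
    have h3 := congrArg (psiA Q hQ hcard hall) h1
    rw [map_pow, map_one, Phi_mul_stdAut, psiA_apply] at h3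
    have := orderOf_dvd_of_pow_eq_one h3
    rcases (Nat.dvd_prime hp).1 this with h | h
    · exact absurd (orderOf_eq_one_iff.1 h) hσ1
    · exact h
  refine ⟨σ, hσp, hσ1, ?_⟩
  have hfield : Cfsg.IsFieldAutClassPOmega ⇑Q (stdAut Q σ (hσall σ)) :=
    ⟨1, stdAut Q σ (hσall σ), σ, hσ1, stdAut_isField Q σ (hσall σ), by group⟩
  have hord : orderOf (stdAut Q σ (hσall σ)) = p := by
    rw [orderOf_stdAutA Q σ hQ hcard hall (hσall σ), hσp]
  obtain ⟨a, ha, hxa⟩ := (field_conj_main Q hQ h2 hcard hall hσall hp hcl (stdAut Q σ (hσall σ))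
    (Phi ⇑Q g) hfield hord ⟨g, rfl⟩).1 hxp
  exact ⟨a, ha, hxa⟩

include hQ h2 hcard hall in
/-- local balance for automorphisms of prime order outside `PGO` -/
theorem balance_gen (hσall : ∀ σ : F ≃+* F, SigEq σ Q) (hcomm : ∀ σ τ : F ≃+* F, σ * τ = τ * σ)
    {p : ℕ} (hp : p.Prime)
    (hcl : ∀ σ : F ≃+* F, orderOf σ = p → ∀ Q' : QuadraticForm F (ι → F),
      (polarBilin Q').Nondegenerate → SigEq σ Q' →
      (∃ (h : GL ι F) (l : F), l ≠ 0 ∧ ∀ v, Q' v = l * Q (h.1 *ᵥ v)) → FixSim Q σ Q')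
    (A : Subgroup (MulAut (Cfsg.POmega F ⇑Q))) (hInnA : Cfsg.Inn (Cfsg.POmega F ⇑Q) ≤ A)
    (x : MulAut (Cfsg.POmega F ⇑Q)) (hxp : orderOf x = p) (hx : x ∉ (Phi ⇑Q).range) :
    Cfsg.pPrimeCore p ↥(A ⊓ Subgroup.centralizer {x}) ≠ ⊥ ↔
      (Cfsg.IsFieldAutClassPOmega ⇑Q x ∧ Nat.Coprime p (Nat.card
        ↥(MonoidHom.eqLocus x.toMonoidHom (MonoidHom.id (Cfsg.POmega F ⇑Q))))) := by
  classical
  haveI : Nonempty ι := by rw [← Fintype.card_pos_iff]; omega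
  haveI := inn_normal (Cfsg.POmega F ⇑Q)
  have hker := ker_Phi_all Q hQ hcard
  obtain ⟨σ, hσp, hσ1, a, -, hxa⟩ := exists_std_conj Q hQ h2 hcard hall hσall hp hcl x hxp hx
  have hfield : Cfsg.IsFieldAutClassPOmega ⇑Q x := by
    refine ⟨a⁻¹, stdAut Q σ (hσall σ), σ, hσ1, stdAut_isField Q σ (hσall σ), ?_⟩
    rw [hxa]; group
  rw [pPrimeCore_ne_bot_iff, card_eqLocus_eq (conj_injective_pomega Q hker) x, Nat.coprime_comm]
  -- transport to the standard automorphism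
  obtain ⟨E1⟩ := centralizer_map_equiv (MulAut.conj a⁻¹) A x
  have hx' : MulAut.conj a⁻¹ x = stdAut Q σ (hσall σ) := by
    rw [hxa, MulAut.conj_apply]; group
  rw [hx'] at E1
  have hInnA' : Cfsg.Inn (Cfsg.POmega F ⇑Q) ≤ A.map (MulAut.conj a⁻¹).toMonoidHom := by
    rw [← map_conj_of_normal (Cfsg.Inn (Cfsg.POmega F ⇑Q)) a⁻¹]
    exact Subgroup.map_mono hInnA
  obtain ⟨E2, -⟩ := conj_transport (Cfsg.Inn (Cfsg.POmega F ⇑Q)) (Cfsg.Inn (Cfsg.POmega F ⇑Q))
    le_rfl a (stdAut Q σ (hσall σ))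
  rw [← hxa] at E2
  obtain ⟨E2⟩ := E2
  rw [hasNPC_congr p E1, core_std Q hQ h2 hcard hall hσall hcomm σ hp hσp _ hInnA',
    Nat.card_congr E2.toEquiv]
  exact ⟨fun h => ⟨hfield, h⟩, fun h => h.2⟩

end balance

end

section

open Matrix QuadraticMap Module
open Cfsg.Agent.Lib.H11.ConfOrth
open Cfsg.Agent.Lib.H13 Cfsg.Agent.Lib.H13.HypPairs Cfsg.Agent.Lib.H13.PlusTS

section s2731

variable {F : Type*} [Field F] [Fintype F]

/-- S2731, for a form given with an equation to the odd-dimensional standard form -/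
theorem s2731_gen {r : ℕ} [Fact r.Prime] [CharP F r] (hodd : Odd (Fintype.card F)) {m : ℕ}
    (hm : 3 ≤ m) (Q₀ : ((Unit ⊕ (Fin m ⊕ Fin m)) → F) → F)
    (hQ₀ : ⇑(Cfsg.Agent.S0286.oddQF F m) = Q₀)
    (A : Subgroup (MulAut (Cfsg.POmega F Q₀)))
    (hinn : ∀ k : Cfsg.POmega F Q₀, MulAut.conj k ∈ A) {p : ℕ} (hp : p.Prime)
    (x : MulAut (Cfsg.POmega F Q₀)) (hord : orderOf x = p)
    (hnot : ¬ Cfsg.IsSimilarityInducedAutPOmega Q₀ x) :
    Cfsg.pPrimeCore p ↥(A ⊓ Subgroup.centralizer {x}) ≠ ⊥ ↔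
      (Cfsg.IsFieldAutClassPOmega Q₀ x ∧ Nat.Coprime p (Nat.card
        ↥(MonoidHom.eqLocus x.toMonoidHom (MonoidHom.id (Cfsg.POmega F Q₀))))) := by
  subst hQ₀
  have h2 := two_ne_zero_of_odd hodd
  have hQ := Cfsg.Agent.S0286.nondeg (F := F) h2 m
  have hcard : Fintype.card (Unit ⊕ (Fin m ⊕ Fin m)) = 2 * m + 1 := by
    simp; ring
  have hc7 : 7 ≤ Fintype.card (Unit ⊕ (Fin m ⊕ Fin m)) := by rw [hcard]; omega
  have hall : Cfsg.gammaPOmega F ⇑(Cfsg.Agent.S0286.oddQF F m) = ⊤ := by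
    apply gamma_eq_top _ hQ hc7
    by_cases h4 : 4 ≤ m
    · left
      show 9 ≤ Fintype.card (Unit ⊕ (Fin m ⊕ Fin m))
      rw [hcard]; omega
    · apply noTriality_of_card_le _ hQ
      show Fintype.card (Unit ⊕ (Fin m ⊕ Fin m)) ≤ 7
      rw [hcard]; omega
  obtain ⟨n, -, hF⟩ := FiniteField.card F r
  have hcomm : ∀ σ τ : F ≃+* F, σ * τ = τ * σ := ringAut_comm (p := r) hF
  refine balance_gen (Cfsg.Agent.S0286.oddQF F m) hQ h2 hc7 hall (sigEq_odd m) hcomm hp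
    (fun σ _ Q' hQ' hσQ' _ => fixSim_odd _ σ m hcard hQ (sigEq_odd m σ) Q' hQ' hσQ') A ?_ x hord ?_
  · rintro _ ⟨k, rfl⟩
    exact hinn k
  · rintro ⟨g, rfl⟩
    apply hnot
    exact ⟨g.1, g.2, (induced_iff _ g.1 g.2 _).2 rfl⟩

end s2731

end

end Cfsg.Agent.Lib.H13.AutPO
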