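import Mathlib
import Cfsg.Agent.Lib.H13.AutPSU4
import Cfsg.Agent.Lib.H2.SLGen

/-!
Automorphisms of `PSU_n(q)`, part 5: the automorphism induced on the Levi subgroup, semilinearity on `P(E)` through the theorem
for `PSL_k`, Siegel transformations, the scalars on the transvection groups.
-/

set_option autoImplicit false
set_option linter.unusedSectionVars false
set_option linter.unusedVariables false
set_option linter.unusedSimpArgs false
set_option linter.deprecated false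

namespace Cfsg.Agent.Lib.H13.AutPSU

section

open Matrix

variable {F : Type*} [Field F] {n q : ℕ} {D : UF F q} {k r : ℕ}

theorem sl_transvection_pow {i j : Fin k} (hij : i ≠ j) (c : F) (m : ℕ) :
    (SpecialLinearGroup.transvection hij c) ^ m = SpecialLinearGroup.transvection hij (m • c) := by
  induction m with
  | zero =>
    rw [pow_zero, zero_smul, SpecialLinearGroup.transvection_coeff_zero]
  | succ m ih =>
    rw [pow_succ, ih]
    apply Subtype.ext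
    change Matrix.transvection i j (m • c) * Matrix.transvection i j c = Matrix.transvection i j ((m + 1) • c)
    rw [Matrix.transvection_mul_transvection_same _ _ hij, add_smul, one_smul]

theorem sl_transvection_pow_p (p : ℕ) [CharP F p] {i j : Fin k} (hij : i ≠ j) (c : F) :
    (SpecialLinearGroup.transvection hij c) ^ p = 1 := by
  rw [sl_transvection_pow, nsmul_eq_mul, CharP.cast_eq_zero, zero_mul,
    SpecialLinearGroup.transvection_coeff_zero]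

theorem Frame.inE_zero (b : Frame D n k r) : b.InE 0 := ⟨0, by rw [mulVec_zero]⟩
theorem Frame.inE'_zero (b : Frame D n k r) : b.InE' 0 := ⟨0, by rw [mulVec_zero]⟩

/-- multiplying by a central element stays in the Levi subgroup -/
theorem InL.mul_center (hn : 2 ≤ n) {B : Frame D n k r} {s z : ↥(Cfsg.SU n F q)} (hs : InL B s)
    (hz : z ∈ Subgroup.center ↥(Cfsg.SU n F q)) : InL B (s * z) := by
  obtain ⟨c, hc⟩ := scalar_of_mem_center D hn hz
  obtain ⟨c', hc'⟩ := scalar_of_mem_center D hn (inv_mem hz)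
  obtain ⟨h1, h2, h3, h4⟩ := hs
  refine ⟨?_, ?_, ?_, ?_⟩
  · intro x hx
    rw [sv_mul, hc, sv_smul]
    exact (h1 x hx).smul B c
  · intro x hx
    rw [sv_mul, hc, sv_smul]
    exact (h2 x hx).smul B c
  · intro x hx
    rw [_root_.mul_inv_rev, sv_mul, hc']
    exact (h3 x hx).smul B c'
  · intro x hx
    rw [_root_.mul_inv_rev, sv_mul, hc']
    exact (h4 x hx).smul B c'

variable [Fintype F] (p : ℕ) [Fact p.Prime] [CharP F p]

include D p in
/-- lifting a `p`-element of `PSU` to a `p`-element of `SU` -/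
theorem exists_p_lift (hn : 2 ≤ n) {x : Cfsg.PSU n F q} {m : ℕ} (hx : x ^ (p ^ m) = 1) :
    ∃ s : ↥(Cfsg.SU n F q), pr s = x ∧ s ^ (p ^ m) = 1 := by
  obtain ⟨s0, rfl⟩ := pr_surjective x
  have hz : s0 ^ (p ^ m) ∈ Subgroup.center ↥(Cfsg.SU n F q) := by
    rw [← pr_eq_one_iff, map_pow]; exact hx
  have hcop : (Nat.card ↥(Subgroup.center ↥(Cfsg.SU n F q))).Coprime (p ^ m) := by
    apply Nat.Coprime.pow_right
    rw [Nat.coprime_comm, Nat.Prime.coprime_iff_not_dvd (Fact.out : p.Prime)]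
    intro hdvd
    obtain ⟨z, hz⟩ := exists_prime_orderOf_dvd_card' p hdvd
    have h1 : z ^ (p ^ 1) = 1 := by rw [pow_one, ← hz, pow_orderOf_eq_one]
    have h2 : (z : ↥(Cfsg.SU n F q)) = 1 :=
      eq_one_of_center_of_pow D hn p z.2 (k := 1) (by
        have := congrArg Subtype.val h1
        simpa using this)
    have h3 : z = 1 := Subtype.ext h2
    rw [h3, orderOf_one] at hz
    exact (Fact.out : p.Prime).one_lt.ne hz
  obtain ⟨z1, hz1⟩ := (powCoprime hcop).surjective ⟨_, hz⟩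
  have hz1' : (z1 : ↥(Cfsg.SU n F q)) ^ (p ^ m) = s0 ^ (p ^ m) := by
    have := congrArg Subtype.val hz1
    simpa using this
  refine ⟨s0 * (z1 : ↥(Cfsg.SU n F q))⁻¹, ?_, ?_⟩
  · rw [map_mul, map_inv, pr_eq_one_iff.2 z1.2, inv_one, mul_one]
  · have hcomm : Commute s0 (z1 : ↥(Cfsg.SU n F q))⁻¹ := by
      have := Subgroup.mem_center_iff.1 (inv_mem z1.2) s0
      exact this
    rw [hcomm.mul_pow, inv_pow, hz1', mul_inv_cancel]

include p in
/-- automorphisms fixing the frame preserve the Levi subgroup -/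
theorem FixFr.inL (hn : 3 ≤ n) {B : Frame D n k r} (hr : r ≤ 1)
    {θ : Cfsg.PSU n F q ≃* Cfsg.PSU n F q} (h : FixFr B θ) {s t : ↥(Cfsg.SU n F q)}
    (hs : InL B s) (hst : θ (pr s) = pr t) : InL B t := by
  have hst' : θ (pr s⁻¹) = pr t⁻¹ := by rw [map_inv, map_inv, hst, map_inv]
  have keyE : ∀ {s t : ↥(Cfsg.SU n F q)}, (∀ x, B.InE x → B.InE (sv s x)) → θ (pr s) = pr t →
      ∀ y, B.InE y → B.InE (sv t y) := by
    intro s t hs hst y hy
    by_cases hy0 : y = 0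
    · rw [hy0, sv_zero]; exact B.inE_zero
    have hyy : H D y y = 0 := by
      obtain ⟨a, rfl⟩ := hy
      exact B.H_Be_Be a a
    obtain ⟨y0, hy00, hy0', hi⟩ := exists_img (D := D) p hn θ.symm hy0 hyy
    have hy0E : B.InE y0 := h.symm.inE p hn hr hy0 hy hy00 hy0' hi
    have hi' : Img D θ y0 y := by
      have := hi.symm
      rwa [MulEquiv.symm_symm] at this
    have h2 := img_sv hi' hy0' hyy hst
    exact h.inE p hn hr (sv_ne_zero s hy00) (hs y0 hy0E) (sv_ne_zero t hy0)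
      (by rw [H_sv, hyy]) h2
  have keyE' : ∀ {s t : ↥(Cfsg.SU n F q)}, (∀ x, B.InE' x → B.InE' (sv s x)) → θ (pr s) = pr t →
      ∀ y, B.InE' y → B.InE' (sv t y) := by
    intro s t hs hst y hy
    by_cases hy0 : y = 0
    · rw [hy0, sv_zero]; exact B.inE'_zero
    have hyy : H D y y = 0 := by
      obtain ⟨a, rfl⟩ := hy
      exact B.H_Bf_Bf a a
    obtain ⟨y0, hy00, hy0', hi⟩ := exists_img (D := D) p hn θ.symm hy0 hyy
    have hy0E : B.InE' y0 := h.symm.inE' p hn hr hy0 hy hy00 hy0' hi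
    have hi' : Img D θ y0 y := by
      have := hi.symm
      rwa [MulEquiv.symm_symm] at this
    have h2 := img_sv hi' hy0' hyy hst
    exact h.inE' p hn hr (sv_ne_zero s hy00) (hs y0 hy0E) (sv_ne_zero t hy0)
      (by rw [H_sv, hyy]) h2
  exact ⟨keyE hs.1 hst, keyE' hs.2.1 hst, keyE hs.2.2.1 hst', keyE' hs.2.2.2 hst'⟩

include p in
/-- the image of `SL_k` in `PSU` is invariant -/
theorem FixFr.range_Lam (hn : 3 ≤ n) (hk : 2 ≤ k) {B : Frame D n k r} (hr : r ≤ 1)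
    {θ : Cfsg.PSU n F q ≃* Cfsg.PSU n F q} (h : FixFr B θ) (γ : SpecialLinearGroup (Fin k) F) :
    ∃ γ' : SpecialLinearGroup (Fin k) F, pr (Lam B γ') = θ (pr (Lam B γ)) := by
  haveI : Nontrivial (Fin k) := Fin.nontrivial_iff_two_le.2 hk
  refine Cfsg.Agent.Lib.H2.SL_transvection_induction
    (fun γ => ∃ γ' : SpecialLinearGroup (Fin k) F, pr (Lam B γ') = θ (pr (Lam B γ))) ?_ ?_ γ
  · intro i j hij c
    have h1 : (θ (pr (Lam B (SpecialLinearGroup.transvection hij c)))) ^ (p ^ 1) = 1 := by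
      rw [pow_one, ← map_pow, ← map_pow, ← map_pow, sl_transvection_pow_p p, map_one, map_one, map_one]
    obtain ⟨t, ht, htp⟩ := exists_p_lift (D := D) p (by omega) h1
    have hL : InL B t := h.inL p hn hr (inL_Lam B _) ht.symm
    obtain ⟨γ', hγ'⟩ := exists_Lam_of_pow p B hr hL htp
    exact ⟨γ', by rw [← hγ', ht]⟩
  · rintro A A' ⟨γ₁, h1⟩ ⟨γ₂, h2⟩
    exact ⟨γ₁ * γ₂, by rw [map_mul, map_mul, h1, h2, map_mul, map_mul, map_mul]⟩

end

section

open Matrix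

variable {F : Type*} [Field F] {n q : ℕ} {D : UF F q} {k r : ℕ}

theorem par_Be_iff (B : Frame D n k r) {a a' : Fin k → F} :
    Par (B.Be *ᵥ a) (B.Be *ᵥ a') ↔ Par a a' := by
  constructor
  · rintro ⟨c, hc, h⟩
    refine ⟨c, hc, ?_⟩
    apply B.Be_injective
    change B.Be *ᵥ a' = B.Be *ᵥ (c • a)
    rw [mulVec_smul]
    exact h
  · rintro ⟨c, hc, rfl⟩
    exact ⟨c, hc, by rw [mulVec_smul]⟩

theorem par_Bf_iff (B : Frame D n k r) {a a' : Fin k → F} :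
    Par (B.Bf *ᵥ a) (B.Bf *ᵥ a') ↔ Par a a' := by
  constructor
  · rintro ⟨c, hc, h⟩
    refine ⟨c, hc, ?_⟩
    apply B.Bf_injective
    change B.Bf *ᵥ a' = B.Bf *ᵥ (c • a)
    rw [mulVec_smul]
    exact h
  · rintro ⟨c, hc, rfl⟩
    exact ⟨c, hc, by rw [mulVec_smul]⟩

/-- the kernel of `SL_k → PSU` is central -/
theorem mk_eq_of_pr_Lam_eq (hn : 2 ≤ n) (B : Frame D n k r) {g g' : SpecialLinearGroup (Fin k) F}
    (h : pr (Lam B g) = pr (Lam B g')) :
    (QuotientGroup.mk g : ProjectiveSpecialLinearGroup (Fin k) F) = QuotientGroup.mk g' := by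
  rw [pr_eq_pr_iff] at h
  obtain ⟨c, hc⟩ := scalar_of_mem_center D hn h
  have h1 : ∀ a : Fin k → F, (g' : Matrix (Fin k) (Fin k) F) *ᵥ a =
      c • ((g : Matrix (Fin k) (Fin k) F) *ᵥ a) := by
    intro a
    apply B.Be_injective
    change B.Be *ᵥ _ = B.Be *ᵥ _
    rw [← sv_Lam_e, mulVec_smul, ← sv_Lam_e]
    have := hc (B.Be *ᵥ a)
    rw [sv_mul] at this
    have h2 := congrArg (sv (Lam B g)) this
    rw [sv_sv_inv, sv_smul] at h2
    exact h2
  have h2 : (g' : Matrix (Fin k) (Fin k) F) = c • (g : Matrix (Fin k) (Fin k) F) := by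
    apply Matrix.toLin'.injective
    apply LinearMap.ext
    intro a
    rw [Matrix.toLin'_apply, h1, Matrix.toLin'_apply, smul_mulVec]
  rw [AutPSL.mk_eq_mk_iff]
  refine ⟨c, ?_, h2⟩
  have h3 := congrArg Matrix.det h2
  rw [det_smul, g.2, g'.2, mul_one, Fintype.card_fin] at h3
  exact h3.symm

variable [Fintype F] (p : ℕ) [Fact p.Prime] [CharP F p]

section beta

variable (hn : 3 ≤ n) (hk : 2 ≤ k) {B : Frame D n k r} (hr : r ≤ 1)
  {θ : Cfsg.PSU n F q ≃* Cfsg.PSU n F q} (h : FixFr B θ)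

/-- a lift of the action of `θ` on the image of `SL_k` -/
noncomputable def liftSL (γ : SpecialLinearGroup (Fin k) F) : SpecialLinearGroup (Fin k) F :=
  Classical.choose (h.range_Lam p hn hk hr γ)

theorem liftSL_spec (γ : SpecialLinearGroup (Fin k) F) :
    pr (Lam B (liftSL p hn hk hr h γ)) = θ (pr (Lam B γ)) :=
  Classical.choose_spec (h.range_Lam p hn hk hr γ)

/-- the induced homomorphism `SL_k → PSL_k` -/
noncomputable def beta0 : SpecialLinearGroup (Fin k) F →* ProjectiveSpecialLinearGroup (Fin k) F where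
  toFun γ := QuotientGroup.mk (liftSL p hn hk hr h γ)
  map_one' := by
    apply mk_eq_of_pr_Lam_eq (by omega) B
    rw [liftSL_spec, map_one, map_one, map_one]
  map_mul' γ δ := by
    rw [← QuotientGroup.mk_mul]
    apply mk_eq_of_pr_Lam_eq (by omega) B
    rw [liftSL_spec, map_mul, map_mul, map_mul, map_mul, map_mul, liftSL_spec, liftSL_spec]

theorem beta0_apply (γ : SpecialLinearGroup (Fin k) F) :
    beta0 p hn hk hr h γ = QuotientGroup.mk (liftSL p hn hk hr h γ) := rfl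

include p hn hk hr h in
/-- if `γ` fixes every point then so does its lift -/
theorem liftSL_par_of_par {γ : SpecialLinearGroup (Fin k) F} {a a' : Fin k → F}
    (ha : a ≠ 0) (ha' : a' ≠ 0) (hi : Img D θ (B.Be *ᵥ a) (B.Be *ᵥ a'))
    (hγ : Par a ((γ : Matrix (Fin k) (Fin k) F) *ᵥ a)) :
    Par a' ((liftSL p hn hk hr h γ : Matrix (Fin k) (Fin k) F) *ᵥ a') := by
  have hv : H D (B.Be *ᵥ a) (B.Be *ᵥ a) = 0 := B.H_Be_Be a a
  have hv' : H D (B.Be *ᵥ a') (B.Be *ᵥ a') = 0 := B.H_Be_Be a' a'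
  have h1 := img_sv hi hv hv' (liftSL_spec p hn hk hr h γ).symm
  rw [sv_Lam_e, sv_Lam_e] at h1
  have h2 : Img D θ (B.Be *ᵥ a) (B.Be *ᵥ ((liftSL p hn hk hr h γ : Matrix (Fin k) (Fin k) F) *ᵥ a')) :=
    h1.par_left (B.H_Be_Be _ _) ((par_Be_iff B).2 hγ).symm
  have hne : (liftSL p hn hk hr h γ : Matrix (Fin k) (Fin k) F) *ᵥ a' ≠ 0 := by
    intro h0
    have h3 := congrArg (fun x => ((liftSL p hn hk hr h γ)⁻¹ : SpecialLinearGroup (Fin k) F).1 *ᵥ x) h0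
    simp only [mulVec_mulVec, sl_inv_mul, one_mulVec, mulVec_zero] at h3
    exact ha' h3
  have h3 := Img.unique hn hi h2 ((B.Be_eq_zero).not.2 ha') hv' ((B.Be_eq_zero).not.2 hne)
    (B.H_Be_Be _ _)
  exact (par_Be_iff B).1 h3

end beta

end

section

open Matrix

variable {F : Type*} [Field F] {n q : ℕ} {D : UF F q} {k r : ℕ}

variable [Fintype F] (p : ℕ) [Fact p.Prime] [CharP F p]

include p in
/-- images of points of `P(E)` -/
theorem FixFr.exists_img_E (hn : 3 ≤ n) {B : Frame D n k r} (hr : r ≤ 1)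
    {θ : Cfsg.PSU n F q ≃* Cfsg.PSU n F q} (h : FixFr B θ) {a : Fin k → F} (ha : a ≠ 0) :
    ∃ a' : Fin k → F, a' ≠ 0 ∧ Img D θ (B.Be *ᵥ a) (B.Be *ᵥ a') := by
  have hv0 : B.Be *ᵥ a ≠ 0 := (B.Be_eq_zero).not.2 ha
  obtain ⟨x', hx0', hx', hi⟩ := exists_img (D := D) p hn θ hv0 (B.H_Be_Be a a)
  obtain ⟨a', rfl⟩ := h.inE p hn hr hv0 ⟨a, rfl⟩ hx0' hx' hi
  exact ⟨a', fun h0 => hx0' (by rw [h0, mulVec_zero]), hi⟩

include p in
theorem FixFr.exists_img_E' (hn : 3 ≤ n) {B : Frame D n k r} (hr : r ≤ 1)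
    {θ : Cfsg.PSU n F q ≃* Cfsg.PSU n F q} (h : FixFr B θ) {a : Fin k → F} (ha : a ≠ 0) :
    ∃ a' : Fin k → F, a' ≠ 0 ∧ Img D θ (B.Bf *ᵥ a) (B.Bf *ᵥ a') := by
  have hv0 : B.Bf *ᵥ a ≠ 0 := (B.Bf_eq_zero).not.2 ha
  obtain ⟨x', hx0', hx', hi⟩ := exists_img (D := D) p hn θ hv0 (B.H_Bf_Bf a a)
  obtain ⟨a', rfl⟩ := h.inE' p hn hr hv0 ⟨a, rfl⟩ hx0' hx' hi
  exact ⟨a', fun h0 => hx0' (by rw [h0, mulVec_zero]), hi⟩

include p in
/-- preimages of points of `P(E)` -/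
theorem FixFr.exists_preimg_E (hn : 3 ≤ n) {B : Frame D n k r} (hr : r ≤ 1)
    {θ : Cfsg.PSU n F q ≃* Cfsg.PSU n F q} (h : FixFr B θ) {a' : Fin k → F} (ha' : a' ≠ 0) :
    ∃ a : Fin k → F, a ≠ 0 ∧ Img D θ (B.Be *ᵥ a) (B.Be *ᵥ a') := by
  obtain ⟨a, ha, hi⟩ := h.symm.exists_img_E p hn hr ha'
  refine ⟨a, ha, ?_⟩
  have := hi.symm
  rwa [MulEquiv.symm_symm] at this

section beta

variable (hn : 3 ≤ n) (hk : 2 ≤ k) {B : Frame D n k r} (hr : r ≤ 1)
  {θ : Cfsg.PSU n F q ≃* Cfsg.PSU n F q} (h : FixFr B θ)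

theorem mk_eq_one_of_par {γ : SpecialLinearGroup (Fin k) F} (hk : 2 ≤ k)
    (hγ : ∀ a : Fin k → F, a ≠ 0 → Par a ((γ : Matrix (Fin k) (Fin k) F) *ᵥ a)) :
    (QuotientGroup.mk γ : ProjectiveSpecialLinearGroup (Fin k) F) = 1 := by
  obtain ⟨-, c, hc0, hc⟩ := AutPSL.scalar_of_par hk (SpecialLinearGroup.toGL γ) (RingEquiv.refl F)
    (fun v hv => hγ v hv)
  have hc' : (γ : Matrix (Fin k) (Fin k) F) = c • 1 := hc
  rw [← QuotientGroup.mk_one, eq_comm, AutPSL.mk_eq_mk_iff]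
  refine ⟨c, ?_, ?_⟩
  · have h3 := congrArg Matrix.det hc'
    rw [det_smul, det_one, γ.2, mul_one, Fintype.card_fin] at h3
    exact h3.symm
  · rw [hc']; rfl

include p hn hk hr h in
theorem beta0_center {γ : SpecialLinearGroup (Fin k) F}
    (hγ : γ ∈ Subgroup.center (SpecialLinearGroup (Fin k) F)) : beta0 p hn hk hr h γ = 1 := by
  rw [beta0_apply]
  apply mk_eq_one_of_par hk
  intro a' ha'
  obtain ⟨a, ha, hi⟩ := h.exists_preimg_E p hn hr ha'
  apply liftSL_par_of_par p hn hk hr h ha ha' hi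
  rw [Matrix.SpecialLinearGroup.mem_center_iff] at hγ
  obtain ⟨c, hc, hγ'⟩ := hγ
  have hc0 : c ≠ 0 := by
    rintro rfl
    rw [Fintype.card_fin, zero_pow (by omega)] at hc
    exact zero_ne_one hc
  refine ⟨c, hc0, ?_⟩
  rw [← hγ']
  simp [Matrix.scalar_apply, Matrix.smul_eq_diagonal_mul]

/-- the induced endomorphism of `PSL_k` -/
noncomputable def betaHom :
    ProjectiveSpecialLinearGroup (Fin k) F →* ProjectiveSpecialLinearGroup (Fin k) F :=
  QuotientGroup.lift _ (beta0 p hn hk hr h) (fun γ hγ => beta0_center p hn hk hr h hγ)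

theorem betaHom_mk (γ : SpecialLinearGroup (Fin k) F) :
    betaHom p hn hk hr h (QuotientGroup.mk γ) = QuotientGroup.mk (liftSL p hn hk hr h γ) := rfl

theorem betaHom_surjective : Function.Surjective (betaHom p hn hk hr h) := by
  intro x
  induction x using QuotientGroup.induction_on with
  | H δ =>
    obtain ⟨γ, hγ⟩ := h.symm.range_Lam p hn hk hr δ
    refine ⟨QuotientGroup.mk γ, ?_⟩
    rw [betaHom_mk]
    apply mk_eq_of_pr_Lam_eq (by omega) B
    rw [liftSL_spec, hγ, MulEquiv.apply_symm_apply]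

/-- the induced automorphism of `PSL_k` -/
noncomputable def betaEquiv :
    ProjectiveSpecialLinearGroup (Fin k) F ≃* ProjectiveSpecialLinearGroup (Fin k) F :=
  MulEquiv.ofBijective (betaHom p hn hk hr h)
    ⟨Finite.injective_iff_surjective.2 (betaHom_surjective p hn hk hr h),
      betaHom_surjective p hn hk hr h⟩

theorem betaEquiv_mk (γ : SpecialLinearGroup (Fin k) F) :
    betaEquiv p hn hk hr h (QuotientGroup.mk γ) = QuotientGroup.mk (liftSL p hn hk hr h γ) := rfl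

end beta

end

section

open Matrix

variable {F : Type*} [Field F] {n q : ℕ} {D : UF F q} {k r : ℕ}

theorem tv_inv (u φ : Fin k → F) (h : φ ⬝ᵥ u = 0) :
    (AutPSL.tv u φ h)⁻¹ = AutPSL.tv u (-φ) (by rw [neg_dotProduct, h, neg_zero]) := by
  symm
  apply eq_inv_of_mul_eq_one_right
  apply Subtype.ext
  change AutPSL.tm u φ * AutPSL.tm u (-φ) = 1
  rw [AutPSL.tm_mul_right _ _ _ h, add_neg_cancel, AutPSL.tm_zero_right]

theorem smv_par {g : GL (Fin k) F} {σ : F ≃+* F} {x y : Fin k → F}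
    (h : Par (smv (g : Matrix (Fin k) (Fin k) F) σ x) (smv (g : Matrix (Fin k) (Fin k) F) σ y)) :
    Par x y := by
  obtain ⟨c, hc, h⟩ := h
  refine ⟨σ.symm c, fun h0 => hc (by simpa using congrArg σ h0), ?_⟩
  apply smv_injective g σ
  rw [h, smv_smul, RingEquiv.apply_symm_apply]

theorem par_smv {g : GL (Fin k) F} {σ : F ≃+* F} {x y : Fin k → F} (h : Par x y) :
    Par (smv (g : Matrix (Fin k) (Fin k) F) σ x) (smv (g : Matrix (Fin k) (Fin k) F) σ y) := by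
  obtain ⟨c, hc, rfl⟩ := h
  exact ⟨σ c, fun h0 => hc (by simpa using h0), smv_smul _ _ _ _⟩

theorem smv_ne_zero {g : GL (Fin k) F} {σ : F ≃+* F} {x : Fin k → F} (hx : x ≠ 0) :
    smv (g : Matrix (Fin k) (Fin k) F) σ x ≠ 0 := by
  intro h
  apply hx
  apply smv_injective g σ
  rw [h, smv_zero]

variable [Fintype F] (p : ℕ) [Fact p.Prime] [CharP F p]

section beta

variable (hn : 3 ≤ n) (hk : 2 ≤ k) {B : Frame D n k r} (hr : r ≤ 1)
  {θ : Cfsg.PSU n F q ≃* Cfsg.PSU n F q} (h : FixFr B θ)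

include p hn hk hr h in
/-- the untwisted case -/
theorem semilinear_of_typeA {g : GL (Fin k) F} {σ : F ≃+* F}
    (hβ : betaEquiv p hn hk hr h = (AutPSL.desc (AutPSL.fieldAut σ)).trans (AutPSL.desc (AutPSL.conjGL g)))
    {a : Fin k → F} (ha : a ≠ 0) :
    Img D θ (B.Be *ᵥ a) (B.Be *ᵥ smv (g : Matrix (Fin k) (Fin k) F) σ a) := by
  obtain ⟨a', ha', hi⟩ := h.exists_img_E p hn hr ha
  suffices hp : Par a' (smv (g : Matrix (Fin k) (Fin k) F) σ a) from
    hi.par_right (B.H_Be_Be a' a') ((par_Be_iff B).2 hp)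
  by_contra hnp
  obtain ⟨a₁, rfl⟩ := smv_surjective g σ a'
  have ha₁ : a₁ ≠ 0 := by
    rintro rfl
    exact ha' (smv_zero _ _)
  have hnp' : ¬ AutPSL.Par a a₁ := by
    intro hp
    apply hnp
    have : Par a a₁ := hp
    exact (par_smv this).symm
  obtain ⟨x, hx1, hx0⟩ := AutPSL.exists_dual_of_not_par ha₁ hnp'
  have hxa : x ⬝ᵥ a = 0 := by rw [dotProduct_comm]; exact hx0
  obtain ⟨γ, hγ⟩ : ∃ γ, γ = AutPSL.tv a x hxa := ⟨_, rfl⟩
  have hγa : (γ : Matrix (Fin k) (Fin k) F) *ᵥ a = a := by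
    rw [hγ, AutPSL.tv_coe, AutPSL.tm_mulVec, hxa, zero_smul, add_zero]
  have hγa₁ : (γ : Matrix (Fin k) (Fin k) F) *ᵥ a₁ = a₁ + a := by
    rw [hγ, AutPSL.tv_coe, AutPSL.tm_mulVec, dotProduct_comm, hx1, one_smul]
  have h1 := liftSL_par_of_par p hn hk hr h ha ha' hi (γ := γ) (by rw [hγa]; exact Par.refl a)
  have h2 : (QuotientGroup.mk (liftSL p hn hk hr h γ) : ProjectiveSpecialLinearGroup (Fin k) F) =
      QuotientGroup.mk (semiSL g σ γ) := by
    rw [← betaEquiv_mk, hβ, MulEquiv.trans_apply, AutPSL.desc_mk, AutPSL.desc_mk]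
    rfl
  obtain ⟨c, hck, hc⟩ := (AutPSL.mk_eq_mk_iff _ _).1 h2
  have hc0 : c ≠ 0 := by
    rintro rfl
    rw [zero_pow (by omega)] at hck
    exact zero_ne_one hck
  have h3 : Par (smv (g : Matrix (Fin k) (Fin k) F) σ a₁)
      (smv (g : Matrix (Fin k) (Fin k) F) σ a₁ + smv (g : Matrix (Fin k) (Fin k) F) σ a) := by
    rw [← smv_add, ← hγa₁, ← semiSL_mulVec, hc, smul_mulVec]
    obtain ⟨d, hd, hd'⟩ := h1
    refine ⟨c * d, mul_ne_zero hc0 hd, ?_⟩
    rw [hd', smul_smul]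
  obtain ⟨d, hd, hd'⟩ := h3
  have h4 : smv (g : Matrix (Fin k) (Fin k) F) σ a = (d - 1) • smv (g : Matrix (Fin k) (Fin k) F) σ a₁ := by
    rw [sub_smul, one_smul, ← hd']; abel
  have hd1 : d - 1 ≠ 0 := by
    intro h0
    rw [h0, zero_smul] at h4
    exact smv_ne_zero ha h4
  exact hnp ⟨d - 1, hd1, h4⟩

include p hn hk hr h in
/-- the twisted case is impossible -/
theorem not_typeB (hk3 : 3 ≤ k) {g : GL (Fin k) F} {σ : F ≃+* F}
    (hβ : betaEquiv p hn hk hr h = (AutPSL.desc AutPSL.invT).trans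
      ((AutPSL.desc (AutPSL.fieldAut σ)).trans (AutPSL.desc (AutPSL.conjGL g)))) : False := by
  obtain ⟨i₀⟩ : Nonempty (Fin k) := ⟨⟨0, by omega⟩⟩
  obtain ⟨a, ha⟩ : ∃ a : Fin k → F, a = Pi.single i₀ 1 := ⟨_, rfl⟩
  have ha0 : a ≠ 0 := by
    rw [ha]; intro h0
    have := congrFun h0 i₀
    simp at this
  have hi : Img D θ (B.Be *ᵥ a) (B.Be *ᵥ a) := by
    rw [ha, B.Be_single]; exact h.1 i₀
  obtain ⟨y, hy⟩ := smv_surjective g σ a
  have hy0 : y ≠ 0 := by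
    rintro rfl
    rw [smv_zero] at hy
    exact ha0 hy.symm
  obtain ⟨i, hi0⟩ := Function.ne_iff.1 hy0
  simp only [Pi.zero_apply] at hi0
  obtain ⟨u, hu⟩ : ∃ u : Fin k → F, u = Pi.single i 1 := ⟨_, rfl⟩
  have huy : u ⬝ᵥ y = y i := by rw [hu, single_dotProduct, one_mul]
  obtain ⟨φ, hφ0, hφu, hφa⟩ := AutPSL.exists_ker₂ hk3 u a
  have hφu' : φ ⬝ᵥ u = 0 := by rw [dotProduct_comm]; exact hφu
  have hφa' : φ ⬝ᵥ a = 0 := by rw [dotProduct_comm]; exact hφa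
  obtain ⟨γ, hγ⟩ : ∃ γ, γ = AutPSL.tv u φ hφu' := ⟨_, rfl⟩
  have hγa : (γ : Matrix (Fin k) (Fin k) F) *ᵥ a = a := by
    rw [hγ, AutPSL.tv_coe, AutPSL.tm_mulVec, hφa', zero_smul, add_zero]
  have h1 := liftSL_par_of_par p hn hk hr h ha0 ha0 hi (γ := γ) (by rw [hγa]; exact Par.refl a)
  have h2 : (QuotientGroup.mk (liftSL p hn hk hr h γ) : ProjectiveSpecialLinearGroup (Fin k) F) =
      QuotientGroup.mk (semiSL g σ (AutPSL.invT γ)) := by
    rw [← betaEquiv_mk, hβ, MulEquiv.trans_apply, MulEquiv.trans_apply, AutPSL.desc_mk,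
      AutPSL.desc_mk, AutPSL.desc_mk]
    rfl
  obtain ⟨c, hck, hc⟩ := (AutPSL.mk_eq_mk_iff _ _).1 h2
  have hc0 : c ≠ 0 := by
    rintro rfl
    rw [zero_pow (by omega)] at hck
    exact zero_ne_one hck
  have hinv : ((AutPSL.invT γ : SpecialLinearGroup (Fin k) F) : Matrix (Fin k) (Fin k) F) *ᵥ y =
      y + (u ⬝ᵥ y) • (-φ) := by
    rw [AutPSL.invT_coe, hγ, tv_inv, AutPSL.tv_coe, AutPSL.transpose_tm, AutPSL.tm_mulVec]
  have h3 : Par (smv (g : Matrix (Fin k) (Fin k) F) σ y)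
      (smv (g : Matrix (Fin k) (Fin k) F) σ (y + (u ⬝ᵥ y) • (-φ))) := by
    rw [← hinv, ← semiSL_mulVec, hc, smul_mulVec, hy]
    obtain ⟨d, hd, hd'⟩ := h1
    refine ⟨c * d, mul_ne_zero hc0 hd, ?_⟩
    rw [hd', smul_smul]
  obtain ⟨d, hd, hd'⟩ := smv_par h3
  have h4 : φ = ((1 - d) / (u ⬝ᵥ y)) • y := by
    have hne : u ⬝ᵥ y ≠ 0 := by rw [huy]; exact hi0
    have h5 : (u ⬝ᵥ y) • φ = (1 - d) • y := by
      rw [sub_smul, one_smul, ← hd']
      simp
    rw [div_eq_inv_mul, ← smul_smul, ← h5, smul_smul, inv_mul_cancel₀ hne, one_smul]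
  apply hφ0
  have h6 : φ ⬝ᵥ u = ((1 - d) / (u ⬝ᵥ y)) * (y ⬝ᵥ u) := by
    conv_lhs => rw [h4, smul_dotProduct, smul_eq_mul]
  rw [hφu', dotProduct_comm y u] at h6
  have hne : u ⬝ᵥ y ≠ 0 := by rw [huy]; exact hi0
  have h7 : (1 - d) / (u ⬝ᵥ y) = 0 := by
    rcases mul_eq_zero.1 h6.symm with h8 | h8
    · exact h8
    · exact absurd h8 hne
  rw [h4, h7, zero_smul]

include p hn hk hr h in
/-- the point map on `P(E)` is induced by a semilinear map -/
theorem FixFr.exists_semilinear_E :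
    ∃ (g : GL (Fin k) F) (σ : F ≃+* F), ∀ a : Fin k → F, a ≠ 0 →
      Img D θ (B.Be *ᵥ a) (B.Be *ᵥ smv (g : Matrix (Fin k) (Fin k) F) σ a) := by
  rcases Nat.lt_or_ge k 3 with hk2 | hk3
  · have hk2' : k = 2 := by omega
    subst hk2'
    obtain ⟨g, σ, hβ⟩ := AutPSL.main2 p (betaEquiv p hn hk hr h)
    exact ⟨g, σ, fun a ha => semilinear_of_typeA p hn hk hr h hβ ha⟩
  · obtain ⟨g, σ, hβ | hβ⟩ := AutPSL.main3 hk3 p (betaEquiv p hn hk hr h)
    · exact ⟨g, σ, fun a ha => semilinear_of_typeA p hn hk hr h hβ ha⟩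
    · exact (not_typeB p hn hk hr h hk3 hβ).elim

end beta

end

section

open Matrix

variable {F : Type*} [Field F] {n q : ℕ} {D : UF F q} {k r : ℕ}

/-- applying a field automorphism to the coordinates -/
def sg {m : ℕ} (σ : F ≃+* F) (x : Fin m → F) : Fin m → F := fun i => σ (x i)

theorem sg_add {m : ℕ} (σ : F ≃+* F) (x y : Fin m → F) : sg σ (x + y) = sg σ x + sg σ y := by
  ext i; simp [sg]

theorem sg_smul {m : ℕ} (σ : F ≃+* F) (c : F) (x : Fin m → F) : sg σ (c • x) = σ c • sg σ x := by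
  ext i; simp [sg]

theorem sg_zero {m : ℕ} (σ : F ≃+* F) : sg σ (0 : Fin m → F) = 0 := by
  ext i; simp [sg]

theorem sg_sum {m : ℕ} {ι : Type*} (σ : F ≃+* F) (s : Finset ι) (v : ι → Fin m → F) :
    sg σ (∑ i ∈ s, v i) = ∑ i ∈ s, sg σ (v i) := by
  ext j
  simp [sg, map_sum]

theorem sg_symm_sg {m : ℕ} (σ : F ≃+* F) (x : Fin m → F) : sg σ.symm (sg σ x) = x := by
  ext i; simp [sg]

theorem sg_sg_symm {m : ℕ} (σ : F ≃+* F) (x : Fin m → F) : sg σ (sg σ.symm x) = x := by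
  ext i; simp [sg]

theorem sg_single {m : ℕ} (σ : F ≃+* F) (i : Fin m) : sg σ (Pi.single i (1 : F)) = Pi.single i 1 := by
  ext j
  by_cases h : j = i
  · subst h; simp [sg]
  · simp [sg, Pi.single_eq_of_ne h]

theorem sg_ne_zero {m : ℕ} (σ : F ≃+* F) {x : Fin m → F} (hx : x ≠ 0) : sg σ x ≠ 0 := by
  intro h
  apply hx
  rw [← sg_symm_sg σ x, h, sg_zero]

theorem H_sg {m : ℕ} (σ : F ≃+* F) (x y : Fin m → F) : H D (sg σ x) (sg σ y) = σ (H D x y) := by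
  simp only [H, cj, sg, dotProduct, map_sum, map_mul, tau_sig]

theorem smv_eq_sg (g : Matrix (Fin n) (Fin n) F) (σ : F ≃+* F) (x : Fin n → F) :
    smv g σ x = g *ᵥ sg σ x := rfl

theorem sg_mulVec {m l : ℕ} (σ : F ≃+* F) (M : Matrix (Fin m) (Fin l) F) (x : Fin l → F) :
    sg σ (M *ᵥ x) = (M.map σ) *ᵥ sg σ x := by
  ext i
  simp [sg, mulVec, dotProduct, map_sum]

/-- applying a field automorphism to a frame -/
def Frame.map (b : Frame D n k r) (σ : F ≃+* F) : Frame D n k r where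
  e i := sg σ (b.e i)
  f i := sg σ (b.f i)
  w i := sg σ (b.w i)
  ee i j := by rw [H_sg, b.ee, map_zero]
  ff i j := by rw [H_sg, b.ff, map_zero]
  ef i j := by
    rw [H_sg, b.ef]
    split_ifs <;> simp
  we i j := by rw [H_sg, b.we, map_zero]
  wf i j := by rw [H_sg, b.wf, map_zero]
  ww i j := by
    rw [H_sg, b.ww]
    split_ifs <;> simp
  complete x := by
    have h1 := b.complete (sg σ.symm x)
    have h2 := congrArg (sg σ) h1
    rw [sg_sg_symm, sg_add, sg_add, sg_sum, sg_sum, sg_sum] at h2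
    simp only [sg_smul] at h2
    have e1 : ∀ y : Fin n → F, σ (H D (sg σ.symm x) y) = H D x (sg σ y) := by
      intro y
      rw [← H_sg, sg_sg_symm]
    simp only [e1] at h2
    exact h2

theorem Frame.map_Be (b : Frame D n k r) (σ : F ≃+* F) : (b.map σ).Be = b.Be.map σ := rfl
theorem Frame.map_Bf (b : Frame D n k r) (σ : F ≃+* F) : (b.map σ).Bf = b.Bf.map σ := rfl
theorem Frame.map_Bw (b : Frame D n k r) (σ : F ≃+* F) : (b.map σ).Bw = b.Bw.map σ := rfl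

theorem Frame.sg_Be (b : Frame D n k r) (σ : F ≃+* F) (a : Fin k → F) :
    sg σ (b.Be *ᵥ a) = (b.map σ).Be *ᵥ sg σ a := by
  rw [sg_mulVec, Frame.map_Be]

theorem Frame.sg_Bf (b : Frame D n k r) (σ : F ≃+* F) (a : Fin k → F) :
    sg σ (b.Bf *ᵥ a) = (b.map σ).Bf *ᵥ sg σ a := by
  rw [sg_mulVec, Frame.map_Bf]

theorem Frame.sg_Bw (b : Frame D n k r) (σ : F ≃+* F) (a : Fin r → F) :
    sg σ (b.Bw *ᵥ a) = (b.map σ).Bw *ᵥ sg σ a := by
  rw [sg_mulVec, Frame.map_Bw]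

/-- the element of `GU` realising `γ₀ ∘ σ` on `E` in the frame `B` -/
noncomputable def normS (B : Frame D n k r) (γ₀ : GL (Fin k) F) (σ : F ≃+* F) : GL (Fin n) F :=
  RU B (B.map σ) (γ₀ : Matrix (Fin k) (Fin k) F) ((γ₀⁻¹ : GL (Fin k) F) : Matrix (Fin k) (Fin k) F) 1 1
    (by rw [← Units.val_mul, mul_inv_cancel, Units.val_one])
    (by rw [← Units.val_mul, inv_mul_cancel, Units.val_one]) (Matrix.mul_one 1) (Matrix.mul_one 1)

theorem normS_mem (B : Frame D n k r) (γ₀ : GL (Fin k) F) (σ : F ≃+* F) :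
    normS B γ₀ σ ∈ Cfsg.GU n F q :=
  RU_mem _ _ _ _ _ _ _ _ _ _ (by rw [ct_one, Matrix.one_mul])

theorem smv_normS_e (B : Frame D n k r) (γ₀ : GL (Fin k) F) (σ : F ≃+* F) (a : Fin k → F) :
    smv (normS B γ₀ σ : Matrix (Fin n) (Fin n) F) σ (B.Be *ᵥ a) =
      B.Be *ᵥ smv (γ₀ : Matrix (Fin k) (Fin k) F) σ a := by
  rw [smv_eq_sg, B.sg_Be]
  change R B (B.map σ) _ _ _ *ᵥ _ = _
  rw [R_mulVec_e]
  rfl

theorem smv_normS_f (B : Frame D n k r) (γ₀ : GL (Fin k) F) (σ : F ≃+* F) (a : Fin k → F) :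
    smv (normS B γ₀ σ : Matrix (Fin n) (Fin n) F) σ (B.Bf *ᵥ a) =
      B.Bf *ᵥ (ct D ((γ₀⁻¹ : GL (Fin k) F) : Matrix (Fin k) (Fin k) F) *ᵥ sg σ a) := by
  rw [smv_eq_sg, B.sg_Bf]
  change R B (B.map σ) _ _ _ *ᵥ _ = _
  rw [R_mulVec_f]

variable [Fintype F] (p : ℕ) [Fact p.Prime] [CharP F p]

include p in
/-- normalisation: the point map becomes trivial on `P(E)` -/
theorem FixFr.exists_fix_E (hn : 3 ≤ n) (hk : 2 ≤ k) {B : Frame D n k r} (hr : r ≤ 1)
    {θ : Cfsg.PSU n F q ≃* Cfsg.PSU n F q} (h : FixFr B θ) :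
    ∃ (g : GL (Fin n) F) (hg : g ∈ Cfsg.GU n F q) (σ : F ≃+* F),
      FixFr B (θ.trans (cU hg σ).symm) ∧
      ∀ a : Fin k → F, a ≠ 0 → Img D (θ.trans (cU hg σ).symm) (B.Be *ᵥ a) (B.Be *ᵥ a) := by
  obtain ⟨γ₀, σ, hγ⟩ := h.exists_semilinear_E p hn hk hr
  have hg := normS_mem B γ₀ σ
  have hall : ∀ a : Fin k → F, a ≠ 0 →
      Img D (θ.trans (cU hg σ).symm) (B.Be *ᵥ a) (B.Be *ᵥ a) := by
    intro a ha
    have h1 := img_cU (D := D) (B.H_Be_Be a a) hg σ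
    rw [smv_normS_e] at h1
    exact (hγ a ha).trans h1.symm
  have hsingle : ∀ i : Fin k, (Pi.single i (1 : F) : Fin k → F) ≠ 0 := by
    intro i h0
    have := congrFun h0 i
    simp at this
  refine ⟨_, hg, σ, ⟨?_, ?_⟩, hall⟩
  · intro i
    have := hall (Pi.single i 1) (hsingle i)
    rwa [B.Be_single] at this
  · intro i
    -- the image of `f i` under the normalising map is proportional to `f i`
    have h1 := img_cU (D := D) (B.ff i i) hg σ
    suffices hp : Par (B.f i) (smv (normS B γ₀ σ : Matrix (Fin n) (Fin n) F) σ (B.f i)) by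
      have h2 : Img D (cU hg σ) (B.f i) (B.f i) := h1.par_right (by rw [H_smv D hg, B.ff, map_zero]) hp.symm
      exact (h.2 i).trans h2.symm
    -- diagonal shape of γ₀
    have hd : ∀ j : Fin k, Par (B.e j) (smv (normS B γ₀ σ : Matrix (Fin n) (Fin n) F) σ (B.e j)) := by
      intro j
      have h3 := hγ (Pi.single j 1) (hsingle j)
      rw [← smv_normS_e, B.Be_single] at h3
      exact Img.unique hn (h.1 j) h3 (B.e_ne_zero j) (B.ee j j)
        (by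
          intro h0
          have := smv_injective (normS B γ₀ σ) σ (h0.trans (smv_zero _ _).symm)
          exact B.e_ne_zero j this)
        (by rw [H_smv D hg, B.ee, map_zero])
    obtain ⟨c, hc⟩ : ∃ c : Fin k → F,
        smv (normS B γ₀ σ : Matrix (Fin n) (Fin n) F) σ (B.f i) = B.Bf *ᵥ c := by
      rw [← B.Bf_single, smv_normS_f]
      exact ⟨_, rfl⟩
    have hcj : ∀ j, j ≠ i → c j = 0 := by
      intro j hj
      obtain ⟨d, hd0, hd'⟩ := hd j
      have h4 : H D (smv (normS B γ₀ σ : Matrix (Fin n) (Fin n) F) σ (B.f i))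
          (smv (normS B γ₀ σ : Matrix (Fin n) (Fin n) F) σ (B.e j)) = 0 := by
        rw [H_smv D hg, B.fe, if_neg (Ne.symm hj), map_zero]
      rw [hd', hc, H_smul_right, B.H_Bf_e] at h4
      rcases mul_eq_zero.1 h4 with h5 | h5
      · exact absurd ((map_eq_zero D.τ).1 h5) hd0
      · exact h5
    have hc' : c = c i • Pi.single i 1 := by
      ext j
      by_cases hj : j = i
      · subst hj; simp
      · rw [hcj j hj]; simp [Pi.single_eq_of_ne hj]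
    have hci : c i ≠ 0 := by
      intro h0
      rw [hc', h0, zero_smul, mulVec_zero] at hc
      have := smv_injective (normS B γ₀ σ) σ (hc.trans (smv_zero _ _).symm)
      exact B.f_ne_zero i this
    refine ⟨c i, hci, ?_⟩
    rw [hc]
    have h5 : B.Bf *ᵥ c = B.Bf *ᵥ (c i • Pi.single i 1) := congrArg _ hc'
    rw [h5, mulVec_smul, B.Bf_single]

include p in
/-- if the point map is trivial on `P(E)` it is trivial on `P(E')` -/
theorem FixFr.fix_E' (hn : 3 ≤ n) {B : Frame D n k r} (hr : r ≤ 1)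
    {θ : Cfsg.PSU n F q ≃* Cfsg.PSU n F q} (h : FixFr B θ)
    (hE : ∀ a : Fin k → F, a ≠ 0 → Img D θ (B.Be *ᵥ a) (B.Be *ᵥ a))
    {a : Fin k → F} (ha : a ≠ 0) : Img D θ (B.Bf *ᵥ a) (B.Bf *ᵥ a) := by
  obtain ⟨a', ha', hi⟩ := h.exists_img_E' p hn hr ha
  have hperp : ∀ w : Fin k → F, H D w a = 0 → H D w a' = 0 := by
    intro w hw
    by_cases hw0 : w = 0
    · rw [hw0, H_zero_left]
    have := (Img.perp p hn (hE w hw0) hi ((B.Be_eq_zero).not.2 hw0) (B.H_Be_Be w w)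
      ((B.Bf_eq_zero).not.2 ha) (B.H_Bf_Bf a a) ((B.Be_eq_zero).not.2 hw0) (B.H_Be_Be w w)
      ((B.Bf_eq_zero).not.2 ha') (B.H_Bf_Bf a' a')).1 (by rw [B.H_Be_Bf]; exact hw)
    rwa [B.H_Be_Bf] at this
  obtain ⟨c, hc⟩ := mem_span_of_perp D ha hperp
  have hc0 : c ≠ 0 := by
    rintro rfl
    rw [zero_smul] at hc
    exact ha' hc
  have hp : Par a a' := ⟨c, hc0, hc⟩
  exact hi.par_right (B.H_Bf_Bf a' a') ((par_Bf_iff B).2 hp).symm

end

section

open Matrix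

variable {F : Type*} [Field F] {n q : ℕ} {D : UF F q} {k r : ℕ}

theorem Lam_injective (B : Frame D n k r) : Function.Injective (Lam B) := by
  intro g g' h
  apply Subtype.ext
  apply Matrix.toLin'.injective
  apply LinearMap.ext
  intro a
  rw [Matrix.toLin'_apply, Matrix.toLin'_apply]
  apply B.Be_injective
  change B.Be *ᵥ _ = B.Be *ᵥ _
  rw [← sv_Lam_e, ← sv_Lam_e, h]

theorem sl_mulVec_ne_zero (γ : SpecialLinearGroup (Fin k) F) {a : Fin k → F} (ha : a ≠ 0) :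
    (γ : Matrix (Fin k) (Fin k) F) *ᵥ a ≠ 0 := by
  intro h0
  have h3 := congrArg (fun x => ((γ⁻¹ : SpecialLinearGroup (Fin k) F) : Matrix (Fin k) (Fin k) F) *ᵥ x) h0
  simp only [mulVec_mulVec, sl_inv_mul, one_mulVec, mulVec_zero] at h3
  exact ha h3

theorem sl_coe_pow (γ : SpecialLinearGroup (Fin k) F) (m : ℕ) :
    ((γ ^ m : SpecialLinearGroup (Fin k) F) : Matrix (Fin k) (Fin k) F) =
      (γ : Matrix (Fin k) (Fin k) F) ^ m := by
  induction m with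
  | zero => rfl
  | succ m ih => rw [pow_succ, pow_succ, sl_coe_mul, ih]

variable [Fintype F] (p : ℕ) [Fact p.Prime] [CharP F p]

include p in
/-- after normalisation, `θ` fixes the images of the `p`-elements of `SL_k` -/
theorem FixFr.fix_Lam_of_pow (hn : 3 ≤ n) (hk : 2 ≤ k) {B : Frame D n k r} (hr : r ≤ 1)
    {θ : Cfsg.PSU n F q ≃* Cfsg.PSU n F q} (h : FixFr B θ)
    (hE : ∀ a : Fin k → F, a ≠ 0 → Img D θ (B.Be *ᵥ a) (B.Be *ᵥ a))
    {γ : SpecialLinearGroup (Fin k) F} {m : ℕ} (hγ : γ ^ (p ^ m) = 1) :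
    θ (pr (Lam B γ)) = pr (Lam B γ) := by
  have hx : (θ (pr (Lam B γ))) ^ (p ^ m) = 1 := by
    rw [← map_pow, ← map_pow, ← map_pow, hγ, map_one, map_one, map_one]
  obtain ⟨t, ht, htp⟩ := exists_p_lift (D := D) p (by omega) hx
  have hL : InL B t := h.inL p hn hr (inL_Lam B γ) ht.symm
  obtain ⟨γt, rfl⟩ := exists_Lam_of_pow p B hr hL htp
  have hγt : γt ^ (p ^ m) = 1 := by
    apply Lam_injective B
    rw [map_pow, htp, map_one]
  rw [← ht]
  congr 2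
  -- γt = γ
  have hpar : ∀ a : Fin k → F, a ≠ 0 →
      AutPSL.Par a (((γ⁻¹ * γt : SpecialLinearGroup (Fin k) F) : Matrix (Fin k) (Fin k) F) *ᵥ a) := by
    intro a ha
    have h1 := img_sv (hE a ha) (B.H_Be_Be a a) (B.H_Be_Be a a) ht.symm
    rw [sv_Lam_e, sv_Lam_e] at h1
    have h2 := hE _ (sl_mulVec_ne_zero γ ha)
    have h3 := Img.unique hn h2 h1 ((B.Be_eq_zero).not.2 (sl_mulVec_ne_zero γ ha)) (B.H_Be_Be _ _)
      ((B.Be_eq_zero).not.2 (sl_mulVec_ne_zero γt ha)) (B.H_Be_Be _ _)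
    obtain ⟨c, hc, hc'⟩ := (par_Be_iff B).1 h3
    refine ⟨c, hc, ?_⟩
    rw [sl_coe_mul, ← mulVec_mulVec, hc', mulVec_smul, mulVec_mulVec, sl_inv_mul, one_mulVec]
  obtain ⟨-, c, hc0, hc⟩ := AutPSL.scalar_of_par hk (SpecialLinearGroup.toGL (γ⁻¹ * γt))
    (RingEquiv.refl F) hpar
  have hc' : ((γ⁻¹ * γt : SpecialLinearGroup (Fin k) F) : Matrix (Fin k) (Fin k) F) = c • 1 := hc
  have h4 : (γt : Matrix (Fin k) (Fin k) F) = c • (γ : Matrix (Fin k) (Fin k) F) := by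
    have h5 : γt = γ * (γ⁻¹ * γt) := by group
    conv_lhs => rw [h5, sl_coe_mul, hc']
    rw [Matrix.mul_smul, Matrix.mul_one]
  have h6 : c ^ (p ^ m) = 1 := by
    have h7 := congrArg (fun M : Matrix (Fin k) (Fin k) F => M ^ (p ^ m)) h4
    simp only [smul_pow] at h7
    rw [← sl_coe_pow, ← sl_coe_pow, hγt, hγ, sl_coe_one] at h7
    obtain ⟨i⟩ : Nonempty (Fin k) := ⟨⟨0, by omega⟩⟩
    have h8 := congrFun (congrFun h7 i) i
    simp only [Matrix.smul_apply, Matrix.one_apply_eq, smul_eq_mul, mul_one] at h8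
    exact h8.symm
  have hc1 : c = 1 := eq_one_of_pow_p p h6
  apply Subtype.ext
  rw [h4, hc1, one_smul]

/-- Siegel elements: `ELOK` -/
theorem ELOK_siegel (B : Frame D n k r) {a b' : Fin k → F} (hab : H D a b' = 0) :
    ELOK D (B.Be *ᵥ a) (B.Bf *ᵥ b') 0 := by
  refine ⟨B.H_Be_Be a a, ?_, ?_⟩
  · rw [B.H_Bf_Be, H_eq_zero_symm D hab]
  · rw [map_zero, B.H_Bf_Bf, add_zero, add_zero]

theorem sv_siegel_e (B : Frame D n k r) {a b' : Fin k → F} (hab : H D a b' = 0) (x : Fin k → F) :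
    sv (EL D (B.Be *ᵥ a) (B.Bf *ᵥ b') 0) (B.Be *ᵥ x) = B.Be *ᵥ (x - H D x b' • a) := by
  rw [sv_EL D (ELOK_siegel B hab), B.H_Be_Be, B.H_Be_Bf, zero_smul, zero_mul, zero_smul, add_zero,
    add_zero, mulVec_sub, mulVec_smul]

theorem sv_siegel_f (B : Frame D n k r) {a b' : Fin k → F} (hab : H D a b' = 0) (x : Fin k → F) :
    sv (EL D (B.Be *ᵥ a) (B.Bf *ᵥ b') 0) (B.Bf *ᵥ x) = B.Bf *ᵥ (x + H D x a • b') := by
  rw [sv_EL D (ELOK_siegel B hab), B.H_Bf_Bf, B.H_Bf_Be, zero_smul, zero_mul, zero_smul, add_zero,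
    sub_zero, mulVec_add, mulVec_smul]

theorem sv_siegel_w (B : Frame D n k r) {a b' : Fin k → F} (hab : H D a b' = 0) (x : Fin r → F) :
    sv (EL D (B.Be *ᵥ a) (B.Bf *ᵥ b') 0) (B.Bw *ᵥ x) = B.Bw *ᵥ x := by
  rw [sv_EL D (ELOK_siegel B hab), B.H_Bw_Be, B.H_Bw_Bf, zero_smul, zero_smul, mul_zero, zero_smul,
    add_zero, sub_zero, add_zero]

theorem siegel_inv (B : Frame D n k r) {a b' : Fin k → F} (hab : H D a b' = 0) :
    (EL D (B.Be *ᵥ a) (B.Bf *ᵥ b') 0)⁻¹ = EL D (B.Be *ᵥ a) (B.Bf *ᵥ (-b')) 0 := by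
  rw [EL_inv D (ELOK_siegel B hab), map_zero, mulVec_neg]

theorem inL_siegel (B : Frame D n k r) {a b' : Fin k → F} (hab : H D a b' = 0) :
    InL B (EL D (B.Be *ᵥ a) (B.Bf *ᵥ b') 0) := by
  have hab' : H D a (-b') = 0 := by rw [H_neg_right, hab, neg_zero]
  refine ⟨?_, ?_, ?_, ?_⟩
  · rintro x ⟨y, rfl⟩
    exact ⟨_, sv_siegel_e B hab y⟩
  · rintro x ⟨y, rfl⟩
    exact ⟨_, sv_siegel_f B hab y⟩
  · rintro x ⟨y, rfl⟩
    rw [siegel_inv B hab]
    exact ⟨_, sv_siegel_e B hab' y⟩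
  · rintro x ⟨y, rfl⟩
    rw [siegel_inv B hab]
    exact ⟨_, sv_siegel_f B hab' y⟩

include p in
/-- after normalisation, `θ` fixes the Siegel elements -/
theorem FixFr.fix_siegel (hn : 3 ≤ n) (hk : 2 ≤ k) {B : Frame D n k r} (hr : r ≤ 1)
    {θ : Cfsg.PSU n F q ≃* Cfsg.PSU n F q} (h : FixFr B θ)
    (hE : ∀ a : Fin k → F, a ≠ 0 → Img D θ (B.Be *ᵥ a) (B.Be *ᵥ a))
    {a b' : Fin k → F} (hab : H D a b' = 0) :
    θ (pr (EL D (B.Be *ᵥ a) (B.Bf *ᵥ b') 0)) = pr (EL D (B.Be *ᵥ a) (B.Bf *ᵥ b') 0) := by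
  have hp : (EL D (B.Be *ᵥ a) (B.Bf *ᵥ b') 0) ^ (p ^ 2) = 1 :=
    Qg_pow D p (B.H_Be_Be a a) (EL_mem_Qg D (ELOK_siegel B hab))
  obtain ⟨γ, hγ⟩ := exists_Lam_of_pow p B hr (inL_siegel B hab) hp
  have hγp : γ ^ (p ^ 2) = 1 := by
    apply Lam_injective B
    rw [map_pow, ← hγ, hp, map_one]
  rw [hγ]
  exact h.fix_Lam_of_pow p hn hk hr hE hγp

end

section

open Matrix

variable {F : Type*} [Field F] {n q : ℕ} {D : UF F q} {k r : ℕ}

/-- injectivity of the parametrisation of a transvection group -/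
theorem tr_inj (hn : 2 ≤ n) {e : Fin n → F} (he0 : e ≠ 0) (he : H D e e = 0) {c c' : F}
    (hc : Skew D c) (hc' : Skew D c') (h : pr (EL D e 0 c) = pr (EL D e 0 c')) : c = c' := by
  by_contra hne
  have h1 : pr (EL D e 0 c * EL D e 0 (-c')) = 1 := by
    rw [map_mul, h, ← map_mul, tr_mul_tr D he hc' (hc'.neg D), add_neg_cancel, EL_zero D he, map_one]
  rw [tr_mul_tr D he hc (hc'.neg D), pr_eq_one_iff] at h1
  exact tr_not_mem_center D hn he0 he (hc.add D (hc'.neg D))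
    (by rw [← sub_eq_add_neg]; exact sub_ne_zero.2 hne) h1

/-- scaling the centre of a transvection -/
theorem tr_smul {e : Fin n → F} (he : H D e e = 0) {c l : F} (hc : Skew D c) (hl : l ≠ 0) :
    EL D (l • e) 0 c = EL D e 0 (l * D.τ l * c) := by
  have hfix : D.τ (l * D.τ l) = l * D.τ l := fixed_mul_tau D l
  have hc2 : Skew D (l * D.τ l * c) := hc.mul_fixed D hfix
  have h1 := EL_smul D ((ELOK_zero_iff D).2 ⟨he, hc2⟩) hl
  rw [smul_zero] at h1
  rw [← h1]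
  congr 1
  have hτl : D.τ l ≠ 0 := (map_ne_zero D.τ).2 hl
  field_simp

/-- a dual vector for the standard form -/
theorem exists_H_dual {m : ℕ} {a a₂ : Fin m → F} (ha : a ≠ 0) (h : ¬ Par a₂ a) :
    ∃ b : Fin m → F, H D a b = -1 ∧ H D a₂ b = 0 := by
  have h' : ¬ AutPSL.Par a₂ a := h
  obtain ⟨x, hx1, hx2⟩ := AutPSL.exists_dual_of_not_par ha h'
  refine ⟨-cj D x, ?_, ?_⟩
  · unfold H
    rw [cj_neg, cj_cj, dotProduct_neg, hx1]
  · unfold H
    rw [cj_neg, cj_cj, dotProduct_neg, hx2, neg_zero]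

/-- a vector not parallel to a given one -/
theorem exists_not_par {m : ℕ} (hm : 2 ≤ m) (a : Fin m → F) :
    ∃ y : Fin m → F, y ≠ 0 ∧ ¬ Par a y ∧ ¬ Par y a := by
  obtain ⟨ψ, hψ0, hψ⟩ := AutPSL.exists_perp hm a
  obtain ⟨i, hi⟩ := Function.ne_iff.1 hψ0
  simp only [Pi.zero_apply] at hi
  have hy : ψ ⬝ᵥ (Pi.single i 1 : Fin m → F) = ψ i := by
    rw [dotProduct_single, mul_one]
  have hy0 : (Pi.single i (1 : F) : Fin m → F) ≠ 0 := by
    intro h0
    have := congrFun h0 i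
    simp at this
  refine ⟨Pi.single i 1, hy0, ?_, ?_⟩
  · rintro ⟨c, hc, h⟩
    rw [h, dotProduct_smul, hψ, smul_zero] at hy
    exact hi hy.symm
  · rintro ⟨c, hc, h⟩
    have h2 : ψ ⬝ᵥ a = c * ψ i := by rw [h, dotProduct_smul, hy, smul_eq_mul]
    rw [hψ] at h2
    rcases mul_eq_zero.1 h2.symm with h3 | h3
    · exact hc h3
    · exact hi h3

/-- swapping the two halves of a frame -/
def Frame.swap (b : Frame D n k r) : Frame D n k r where
  e := b.f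
  f := b.e
  w := b.w
  ee := b.ff
  ff := b.ee
  ef := b.fe
  we := b.wf
  wf := b.we
  ww := b.ww
  complete x := by
    have := b.complete x
    rw [add_comm (∑ i, H D x (b.f i) • b.e i)] at this
    exact this

theorem Frame.swap_Be (b : Frame D n k r) : b.swap.Be = b.Bf := rfl
theorem Frame.swap_Bf (b : Frame D n k r) : b.swap.Bf = b.Be := rfl
theorem Frame.swap_Bw (b : Frame D n k r) : b.swap.Bw = b.Bw := rfl

variable [Fintype F] (p : ℕ) [Fact p.Prime] [CharP F p]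

theorem FixFr.swap {B : Frame D n k r} {θ : Cfsg.PSU n F q ≃* Cfsg.PSU n F q} (h : FixFr B θ) :
    FixFr B.swap θ := ⟨h.2, h.1⟩

/-- equivariance of the action on transvection groups -/
theorem eps_conj {θ : Cfsg.PSU n F q ≃* Cfsg.PSU n F q} {v : Fin n → F} (hv : H D v v = 0)
    {c c' : F} (hc : Skew D c) (hc' : Skew D c') (h : θ (pr (EL D v 0 c)) = pr (EL D v 0 c'))
    {g : ↥(Cfsg.SU n F q)} (hg : θ (pr g) = pr g) :
    θ (pr (EL D (sv g v) 0 c)) = pr (EL D (sv g v) 0 c') := by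
  have h1 := EL_conj D ((ELOK_zero_iff D).2 ⟨hv, hc⟩) g
  have h2 := EL_conj D ((ELOK_zero_iff D).2 ⟨hv, hc'⟩) g
  rw [sv_zero] at h1 h2
  rw [← h1, ← h2]
  calc θ (pr (g * EL D v 0 c * g⁻¹)) = θ (pr g) * θ (pr (EL D v 0 c)) * (θ (pr g))⁻¹ := by
        simp only [map_mul, map_inv]
    _ = pr g * pr (EL D v 0 c') * (pr g)⁻¹ := by rw [hg, h]
    _ = pr (g * EL D v 0 c' * g⁻¹) := by simp only [map_mul, map_inv]

include p in
/-- after normalisation `θ` acts on all transvection groups with centre in `E` by one scalar -/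
theorem FixFr.exists_eps (hn : 3 ≤ n) (hk : 2 ≤ k) {B : Frame D n k r} (hr : r ≤ 1)
    {θ : Cfsg.PSU n F q ≃* Cfsg.PSU n F q} (h : FixFr B θ)
    (hE : ∀ a : Fin k → F, a ≠ 0 → Img D θ (B.Be *ᵥ a) (B.Be *ᵥ a)) :
    ∃ m : F, D.τ m = m ∧ m ≠ 0 ∧ ∀ a : Fin k → F, a ≠ 0 → ∀ c, Skew D c →
      θ (pr (EL D (B.Be *ᵥ a) 0 c)) = pr (EL D (B.Be *ᵥ a) 0 (m * c)) := by
  -- existence of the image parameter
  have hex : ∀ a : Fin k → F, a ≠ 0 → ∀ c, Skew D c →
      ∃ c', Skew D c' ∧ θ (pr (EL D (B.Be *ᵥ a) 0 c)) = pr (EL D (B.Be *ᵥ a) 0 c') := by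
    intro a ha c hc
    have h1 : θ (pr (EL D (B.Be *ᵥ a) 0 c)) ∈ Tb D (B.Be *ᵥ a) := by
      have := hE a ha
      unfold Img at this
      rw [← this]
      exact Subgroup.mem_map_of_mem _ ((mem_Tb D (B.H_Be_Be a a)).2 ⟨c, hc, rfl⟩)
    exact (mem_Tb D (B.H_Be_Be a a)).1 h1
  -- transfer between nonparallel vectors, one direction
  have hadd : ∀ a a₂ : Fin k → F, a ≠ 0 → ¬ Par a₂ a → ∀ c c', Skew D c → Skew D c' →
      θ (pr (EL D (B.Be *ᵥ a) 0 c)) = pr (EL D (B.Be *ᵥ a) 0 c') →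
      θ (pr (EL D (B.Be *ᵥ (a + a₂)) 0 c)) = pr (EL D (B.Be *ᵥ (a + a₂)) 0 c') := by
    intro a a₂ ha hnp c c' hc hc' hcc
    obtain ⟨b', hb1, hb2⟩ := exists_H_dual (D := D) ha hnp
    have h1 := eps_conj (B.H_Be_Be a a) hc hc' hcc (h.fix_siegel p hn hk hr hE hb2)
    rw [sv_siegel_e B hb2, hb1, neg_smul, one_smul, sub_neg_eq_add] at h1
    exact h1
  have hne_add : ∀ a a₂ : Fin k → F, ¬ Par a₂ a → a + a₂ ≠ 0 := by
    intro a a₂ hnp h0
    apply hnp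
    refine ⟨-1, by simp, ?_⟩
    rw [neg_smul, one_smul, eq_neg_iff_add_eq_zero]
    exact h0
  -- transfer between nonparallel vectors
  have htr : ∀ a a₂ : Fin k → F, a ≠ 0 → a₂ ≠ 0 → ¬ Par a₂ a → ¬ Par a a₂ → ∀ c c', Skew D c →
      Skew D c' → θ (pr (EL D (B.Be *ᵥ a) 0 c)) = pr (EL D (B.Be *ᵥ a) 0 c') →
      θ (pr (EL D (B.Be *ᵥ a₂) 0 c)) = pr (EL D (B.Be *ᵥ a₂) 0 c') := by
    intro a a₂ ha ha₂ hnp hnp' c c' hc hc' hcc
    have h1 := hadd a a₂ ha hnp c c' hc hc' hcc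
    obtain ⟨c'', hc'', h2⟩ := hex a₂ ha₂ c hc
    have h3 := hadd a₂ a ha₂ hnp' c c'' hc hc'' h2
    rw [add_comm a₂ a, h1] at h3
    have h4 := tr_inj (by omega) ((B.Be_eq_zero).not.2 (hne_add a a₂ hnp)) (B.H_Be_Be _ _) hc' hc'' h3
    rw [h4]
    exact h2
  -- transfer between arbitrary nonzero vectors
  have hall : ∀ a a₂ : Fin k → F, a ≠ 0 → a₂ ≠ 0 → ∀ c c', Skew D c →
      Skew D c' → θ (pr (EL D (B.Be *ᵥ a) 0 c)) = pr (EL D (B.Be *ᵥ a) 0 c') →
      θ (pr (EL D (B.Be *ᵥ a₂) 0 c)) = pr (EL D (B.Be *ᵥ a₂) 0 c') := by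
    intro a a₂ ha ha₂ c c' hc hc' hcc
    by_cases hp : Par a a₂
    · obtain ⟨y, hy0, hy1, hy2⟩ := exists_not_par hk a
      have h1 := htr a y ha hy0 hy2 hy1 c c' hc hc' hcc
      refine htr y a₂ hy0 ha₂ ?_ ?_ c c' hc hc' h1
      · intro h2
        exact hy1 (hp.trans h2)
      · intro h2
        exact hy2 (h2.trans hp.symm)
    · have hp' : ¬ Par a₂ a := fun h2 => hp h2.symm
      exact htr a a₂ ha ha₂ hp' hp c c' hc hc' hcc
  -- the reference vector and parameter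
  obtain ⟨c₀, hc₀, hc₀0⟩ := exists_skew_ne_zero D
  obtain ⟨i₀⟩ : Nonempty (Fin k) := ⟨⟨0, by omega⟩⟩
  obtain ⟨a₀, ha₀⟩ : ∃ a₀ : Fin k → F, a₀ = Pi.single i₀ 1 := ⟨_, rfl⟩
  have ha₀0 : a₀ ≠ 0 := by
    rw [ha₀]; intro h0
    have := congrFun h0 i₀
    simp at this
  obtain ⟨c₀', hc₀', h0⟩ := hex a₀ ha₀0 c₀ hc₀
  have hc₀'0 : c₀' ≠ 0 := by
    rintro rfl
    rw [EL_zero D (B.H_Be_Be a₀ a₀), map_one] at h0
    have h1 := θ.injective (h0.trans (map_one θ).symm)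
    exact tr_not_mem_center D (by omega) ((B.Be_eq_zero).not.2 ha₀0) (B.H_Be_Be a₀ a₀) hc₀ hc₀0
      (pr_eq_one_iff.1 h1)
  refine ⟨c₀' / c₀, fixed_div_skew D hc₀' hc₀, div_ne_zero hc₀'0 hc₀0, ?_⟩
  intro a ha c hc
  by_cases hc0 : c = 0
  · rw [hc0, mul_zero, EL_zero D (B.H_Be_Be a a), map_one, map_one]
  -- c = x c₀ with x fixed
  have hx : D.τ (c / c₀) = c / c₀ := fixed_div_skew D hc hc₀
  have hx0 : c / c₀ ≠ 0 := div_ne_zero hc0 hc₀0
  obtain ⟨l, hl⟩ := D.nm_surj (c / c₀) hx hx0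
  have hl0 : l ≠ 0 := by
    rintro rfl
    rw [zero_mul] at hl
    exact hx0 hl.symm
  have hla : l • a ≠ 0 := smul_ne_zero hl0 ha
  have h1 := hall a₀ (l • a) ha₀0 hla c₀ c₀' hc₀ hc₀' h0
  rw [mulVec_smul, tr_smul (B.H_Be_Be a a) hc₀ hl0, tr_smul (B.H_Be_Be a a) hc₀' hl0, hl] at h1
  have e1 : c / c₀ * c₀ = c := div_mul_cancel₀ c hc₀0
  have e2 : c / c₀ * c₀' = c₀' / c₀ * c := by field_simp
  rw [e1, e2] at h1
  exact h1

end

end Cfsg.Agent.Lib.H13.AutPSU
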