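import Mathlib
import Cfsg.Agent.Lib.H13.AutPSU5

/-!
Automorphisms of `PSU_n(q)`, part 6: normal forms, orbits of the fixed subgroup on points, every automorphism is semilinear when
the Witt index is at least two.
-/

set_option autoImplicit false
set_option linter.unusedSectionVars false
set_option linter.unusedVariables false
set_option linter.unusedSimpArgs false
set_option linter.deprecated false

namespace Cfsg.Agent.Lib.H13.AutPSU

section

open Matrix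

variable {F : Type*} [Field F] {n q : ℕ} {D : UF F q} {k r : ℕ}

/-- the diagonal element acting by `μ` on `E`, `τ(μ)⁻¹` on `E'`, `ν` on `W` -/
noncomputable def dgU (B : Frame D n k r) (μ ν : F) (hμ : μ ≠ 0) (hν : ν ≠ 0) : GL (Fin n) F :=
  RU B B (μ • (1 : Matrix (Fin k) (Fin k) F)) (μ⁻¹ • (1 : Matrix (Fin k) (Fin k) F))
    (ν • (1 : Matrix (Fin r) (Fin r) F)) (ν⁻¹ • (1 : Matrix (Fin r) (Fin r) F))
    (by rw [Matrix.smul_mul, Matrix.mul_smul, Matrix.one_mul, smul_smul, mul_inv_cancel₀ hμ, one_smul])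
    (by rw [Matrix.smul_mul, Matrix.mul_smul, Matrix.one_mul, smul_smul, inv_mul_cancel₀ hμ, one_smul])
    (by rw [Matrix.smul_mul, Matrix.mul_smul, Matrix.one_mul, smul_smul, mul_inv_cancel₀ hν, one_smul])
    (by rw [Matrix.smul_mul, Matrix.mul_smul, Matrix.one_mul, smul_smul, inv_mul_cancel₀ hν, one_smul])

theorem dgU_mem (B : Frame D n k r) (μ ν : F) (hμ : μ ≠ 0) (hν : ν ≠ 0) (hν1 : ν * D.τ ν = 1) :
    dgU B μ ν hμ hν ∈ Cfsg.GU n F q := by
  apply RU_mem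
  rw [ct_smul, ct_one, Matrix.smul_mul, Matrix.mul_smul, Matrix.one_mul, smul_smul, mul_comm, hν1,
    one_smul]

theorem dgU_mulVec_e (B : Frame D n k r) (μ ν : F) (hμ : μ ≠ 0) (hν : ν ≠ 0) (a : Fin k → F) :
    (dgU B μ ν hμ hν : Matrix (Fin n) (Fin n) F) *ᵥ (B.Be *ᵥ a) = μ • (B.Be *ᵥ a) := by
  change R B B _ _ _ *ᵥ _ = _
  rw [R_mulVec_e, smul_mulVec, one_mulVec, mulVec_smul]

theorem dgU_mulVec_f (B : Frame D n k r) (μ ν : F) (hμ : μ ≠ 0) (hν : ν ≠ 0) (a : Fin k → F) :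
    (dgU B μ ν hμ hν : Matrix (Fin n) (Fin n) F) *ᵥ (B.Bf *ᵥ a) = (D.τ μ)⁻¹ • (B.Bf *ᵥ a) := by
  change R B B _ _ _ *ᵥ _ = _
  rw [R_mulVec_f, ct_smul, ct_one, smul_mulVec, one_mulVec, mulVec_smul, map_inv₀]

theorem dgU_mulVec_w (B : Frame D n k r) (μ ν : F) (hμ : μ ≠ 0) (hν : ν ≠ 0) (a : Fin r → F) :
    (dgU B μ ν hμ hν : Matrix (Fin n) (Fin n) F) *ᵥ (B.Bw *ᵥ a) = ν • (B.Bw *ᵥ a) := by
  change R B B _ _ _ *ᵥ _ = _
  rw [R_mulVec_w, smul_mulVec, one_mulVec, mulVec_smul]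

theorem skew_inv {c : F} (hc : Skew D c) : Skew D c⁻¹ := by
  have hc' : D.τ c = -c := hc
  change D.τ c⁻¹ = -c⁻¹
  rw [map_inv₀, hc', inv_neg]

variable [Fintype F] (p : ℕ) [Fact p.Prime] [CharP F p]

/-- the image of a point moved by a transvection -/
theorem img_tr {θ : Cfsg.PSU n F q ≃* Cfsg.PSU n F q} {v x x' : Fin n → F} (hv : H D v v = 0)
    (hx : H D x x = 0) (hx' : H D x' x' = 0) (hi : Img D θ x x') {c c' : F} (hc : Skew D c)
    (hc' : Skew D c') (h : θ (pr (EL D v 0 c)) = pr (EL D v 0 c')) :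
    Img D θ (x + (c * H D x v) • v) (x' + (c' * H D x' v) • v) := by
  have := img_sv hi hx hx' h
  rwa [sv_tr D hv hc, sv_tr D hv hc'] at this

include p in
/-- the scalars on `E` and `E'` are inverse to each other -/
theorem FixFr.eps_mul (hn : 3 ≤ n) (hk : 2 ≤ k) {B : Frame D n k r}
    {θ : Cfsg.PSU n F q ≃* Cfsg.PSU n F q} (h : FixFr B θ) {m m' : F}
    (hm : ∀ a : Fin k → F, a ≠ 0 → ∀ c, Skew D c →
      θ (pr (EL D (B.Be *ᵥ a) 0 c)) = pr (EL D (B.Be *ᵥ a) 0 (m * c)))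
    (hm' : ∀ a : Fin k → F, a ≠ 0 → ∀ c, Skew D c →
      θ (pr (EL D (B.Bf *ᵥ a) 0 c)) = pr (EL D (B.Bf *ᵥ a) 0 (m' * c)))
    (hmf : D.τ m = m) (hmf' : D.τ m' = m') : m * m' = 1 := by
  obtain ⟨i⟩ : Nonempty (Fin k) := ⟨⟨0, by omega⟩⟩
  obtain ⟨c, hc, hc0⟩ := exists_skew_ne_zero D
  have hsingle : (Pi.single i (1 : F) : Fin k → F) ≠ 0 := by
    intro h0
    have := congrFun h0 i
    simp at this
  have h1 := hm _ hsingle c hc
  have h2 := hm' _ hsingle c⁻¹ (skew_inv hc)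
  rw [B.Be_single] at h1
  rw [B.Bf_single] at h2
  have hfe : H D (B.f i) (B.e i) = 1 := by rw [B.fe, if_pos rfl]
  have hef : H D (B.e i) (B.f i) = 1 := by rw [B.ef, if_pos rfl]
  have i1 := img_tr (B.ee i i) (B.ff i i) (B.ff i i) (h.2 i) hc (hc.mul_fixed D hmf) h1
  have i2 := img_tr (B.ff i i) (B.ee i i) (B.ee i i) (h.1 i) (skew_inv hc)
    ((skew_inv hc).mul_fixed D hmf') h2
  rw [hfe, mul_one, mul_one] at i1
  rw [hef, mul_one, mul_one] at i2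
  -- the two source points are proportional
  have hpar : Par (B.e i + c⁻¹ • B.f i) (B.f i + c • B.e i) := by
    refine ⟨c, hc0, ?_⟩
    rw [smul_add, smul_smul, mul_inv_cancel₀ hc0, one_smul, add_comm]
  have hiso2 : H D (B.e i + c⁻¹ • B.f i) (B.e i + c⁻¹ • B.f i) = 0 := by
    have hc' : D.τ c = -c := hc
    simp only [H_add_left, H_add_right, H_smul_left, H_smul_right, B.ee, B.ff, hef, hfe, mul_zero,
      add_zero, zero_add, mul_one, map_inv₀, hc', inv_neg]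
    ring
  have i3 := i2.par_left hiso2 hpar
  have hz1 : H D (B.f i + (m * c) • B.e i) (B.f i + (m * c) • B.e i) = 0 := by
    have hc' : D.τ c = -c := hc
    simp only [H_add_left, H_add_right, H_smul_left, H_smul_right, B.ee, B.ff, hef, hfe, mul_zero,
      add_zero, zero_add, mul_one, map_mul, hmf, hc']
    ring
  have hz2 : H D (B.e i + (m' * c⁻¹) • B.f i) (B.e i + (m' * c⁻¹) • B.f i) = 0 := by
    have hc' : D.τ c = -c := hc
    simp only [H_add_left, H_add_right, H_smul_left, H_smul_right, B.ee, B.ff, hef, hfe, mul_zero,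
      add_zero, zero_add, mul_one, map_mul, hmf', map_inv₀, hc', inv_neg]
    ring
  have hn1 : B.f i + (m * c) • B.e i ≠ 0 := by
    intro h0
    have := congrArg (fun x => H D x (B.e i)) h0
    simp only [H_add_left, H_smul_left, B.ee, hfe, mul_zero, add_zero, H_zero_left] at this
    exact one_ne_zero this
  have hn2 : B.e i + (m' * c⁻¹) • B.f i ≠ 0 := by
    intro h0
    have := congrArg (fun x => H D x (B.f i)) h0
    simp only [H_add_left, H_smul_left, B.ff, hef, mul_zero, add_zero, H_zero_left] at this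
    exact one_ne_zero this
  obtain ⟨d, hd0, hd⟩ := Img.unique hn i1 i3 hn1 hz1 hn2 hz2
  have e1 := congrArg (fun x => H D x (B.f i)) hd
  have e2 := congrArg (fun x => H D x (B.e i)) hd
  simp only [H_add_left, H_smul_left, B.ff, B.ee, hef, hfe, mul_zero, add_zero, zero_add,
    mul_one] at e1 e2
  -- e1 : 1 = d * (m * c), e2 : m' * c⁻¹ = d
  rw [← e2] at e1
  have : m' * c⁻¹ * (m * c) = m * m' := by field_simp
  rw [← this, ← e1]

end

section

open Matrix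

variable {F : Type*} [Field F] {n q : ℕ} {D : UF F q} {k r : ℕ}

variable [Fintype F] (p : ℕ) [Fact p.Prime] [CharP F p]

/-- the first normal form: frame, `P(E)`, `P(E')` and the transvection groups with centres in
`E ∪ E'` are fixed -/
def Norm1 (B : Frame D n k r) (θ : Cfsg.PSU n F q ≃* Cfsg.PSU n F q) : Prop :=
  FixFr B θ ∧ (∀ a : Fin k → F, a ≠ 0 → Img D θ (B.Be *ᵥ a) (B.Be *ᵥ a)) ∧
  (∀ a : Fin k → F, a ≠ 0 → Img D θ (B.Bf *ᵥ a) (B.Bf *ᵥ a)) ∧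
  (∀ a : Fin k → F, a ≠ 0 → ∀ c, Skew D c →
    θ (pr (EL D (B.Be *ᵥ a) 0 c)) = pr (EL D (B.Be *ᵥ a) 0 c)) ∧
  (∀ a : Fin k → F, a ≠ 0 → ∀ c, Skew D c →
    θ (pr (EL D (B.Bf *ᵥ a) 0 c)) = pr (EL D (B.Bf *ᵥ a) 0 c))

theorem cU_tr {g : GL (Fin n) F} (hg : g ∈ Cfsg.GU n F q) {v : Fin n → F} (hv : H D v v = 0)
    {c : F} (hc : Skew D c) :
    cU hg (RingEquiv.refl F) (pr (EL D v 0 c)) =
      pr (EL D ((g : Matrix (Fin n) (Fin n) F) *ᵥ v) 0 c) := by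
  rw [cU_pr, semiSU_tr D hv hc hg (RingEquiv.refl F), smv_refl]
  rfl

include p in
theorem FixFr.exists_norm1 (hn : 3 ≤ n) (hk : 2 ≤ k) {B : Frame D n k r} (hr : r ≤ 1)
    {θ : Cfsg.PSU n F q ≃* Cfsg.PSU n F q} (h : FixFr B θ)
    (hE : ∀ a : Fin k → F, a ≠ 0 → Img D θ (B.Be *ᵥ a) (B.Be *ᵥ a)) :
    ∃ (g : GL (Fin n) F) (hg : g ∈ Cfsg.GU n F q),
      Norm1 B (θ.trans (cU hg (RingEquiv.refl F)).symm) := by
  have hE' : ∀ a : Fin k → F, a ≠ 0 → Img D θ (B.Bf *ᵥ a) (B.Bf *ᵥ a) :=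
    fun a ha => h.fix_E' p hn hr hE ha
  obtain ⟨m, hmf, hm0, hm⟩ := h.exists_eps p hn hk hr hE
  obtain ⟨m', hmf', hm0', hm'⟩ := h.swap.exists_eps p hn hk hr (B := B.swap) hE'
  simp only [Frame.swap_Be] at hm'
  have hmm : m * m' = 1 := h.eps_mul p hn hk hm hm' hmf hmf'
  obtain ⟨μ, hμ⟩ := D.nm_surj m hmf hm0
  have hμ0 : μ ≠ 0 := by
    rintro rfl
    rw [zero_mul] at hμ
    exact hm0 hμ.symm
  have hτμ0 : D.τ μ ≠ 0 := (map_ne_zero D.τ).2 hμ0
  have hg := dgU_mem B μ 1 hμ0 one_ne_zero (by rw [map_one, mul_one])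
  refine ⟨_, hg, ?_⟩
  have iE : ∀ a : Fin k → F, Img D (cU hg (RingEquiv.refl F)) (B.Be *ᵥ a) (B.Be *ᵥ a) := by
    intro a
    have h1 := img_cU (D := D) (B.H_Be_Be a a) hg (RingEquiv.refl F)
    rw [smv_refl, dgU_mulVec_e] at h1
    refine h1.par_right ?_ ⟨μ⁻¹, inv_ne_zero hμ0, by rw [smul_smul, inv_mul_cancel₀ hμ0, one_smul]⟩
    rw [H_smul_left, H_smul_right, B.H_Be_Be, mul_zero, mul_zero]
  have iE' : ∀ a : Fin k → F, Img D (cU hg (RingEquiv.refl F)) (B.Bf *ᵥ a) (B.Bf *ᵥ a) := by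
    intro a
    have h1 := img_cU (D := D) (B.H_Bf_Bf a a) hg (RingEquiv.refl F)
    rw [smv_refl, dgU_mulVec_f] at h1
    refine h1.par_right ?_ ⟨D.τ μ, hτμ0, by rw [smul_smul, mul_inv_cancel₀ hτμ0, one_smul]⟩
    rw [H_smul_left, H_smul_right, B.H_Bf_Bf, mul_zero, mul_zero]
  refine ⟨⟨?_, ?_⟩, ?_, ?_, ?_, ?_⟩
  · intro i
    have := iE (Pi.single i 1)
    rw [B.Be_single] at this
    exact (h.1 i).trans this.symm
  · intro i
    have := iE' (Pi.single i 1)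
    rw [B.Bf_single] at this
    exact (h.2 i).trans this.symm
  · intro a ha
    exact (hE a ha).trans (iE a).symm
  · intro a ha
    exact (hE' a ha).trans (iE' a).symm
  · intro a ha c hc
    rw [MulEquiv.trans_apply, hm a ha c hc, MulEquiv.symm_apply_eq,
      cU_tr hg (B.H_Be_Be a a) hc, dgU_mulVec_e, tr_smul (B.H_Be_Be a a) hc hμ0, hμ]
  · intro a ha c hc
    rw [MulEquiv.trans_apply, hm' a ha c hc, MulEquiv.symm_apply_eq,
      cU_tr hg (B.H_Bf_Bf a a) hc, dgU_mulVec_f,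
      tr_smul (B.H_Bf_Bf a a) hc (inv_ne_zero hτμ0), map_inv₀, D.hτ2]
    congr 3
    have : m' = m⁻¹ := by
      field_simp
      rw [mul_comm]; exact hmm
    rw [this, ← hμ]
    field_simp

end

section

open Matrix

variable {F : Type*} [Field F] {n q : ℕ} {D : UF F q} {k r : ℕ}

variable [Fintype F] (p : ℕ) [Fact p.Prime] [CharP F p]

/-- in the first normal form, all isotropic points of `E ⊕ E'` are fixed -/
theorem Norm1.fix_EE' {B : Frame D n k r} {θ : Cfsg.PSU n F q ≃* Cfsg.PSU n F q}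
    (h : Norm1 B θ) (a a' : Fin k → F)
    (hiso : H D (B.Be *ᵥ a + B.Bf *ᵥ a') (B.Be *ᵥ a + B.Bf *ᵥ a') = 0)
    (hne : B.Be *ᵥ a + B.Bf *ᵥ a' ≠ 0) :
    Img D θ (B.Be *ᵥ a + B.Bf *ᵥ a') (B.Be *ᵥ a + B.Bf *ᵥ a') := by
  obtain ⟨hfix, hE, hE', hT, hT'⟩ := h
  by_cases ha : a = 0
  · subst ha
    rw [mulVec_zero, zero_add] at hne ⊢
    exact hE' a' (fun h0 => hne (by rw [h0, mulVec_zero]))
  by_cases ha' : a' = 0
  · subst ha'
    rw [mulVec_zero, add_zero] at hne ⊢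
    exact hE a ha
  have htsk : H D a a' + H D a' a = 0 := by
    simp only [H_add_left, H_add_right, B.H_Be_Be, B.H_Bf_Bf, B.H_Be_Bf, B.H_Bf_Be, zero_add,
      add_zero] at hiso
    rw [add_comm]; exact hiso
  have hsk : Skew D (H D a' a) := by
    change D.τ (H D a' a) = - H D a' a
    rw [H_symm]
    linear_combination htsk
  by_cases ht : H D a' a = 0
  · -- orthogonal case
    obtain ⟨z₀, hz₀⟩ := exists_H_eq_one D ha'
    obtain ⟨s₀, hs₀, hs₀0⟩ := exists_skew_ne_zero D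
    have hs₀' : D.τ s₀ = -s₀ := hs₀
    obtain ⟨z, hz⟩ : ∃ z : Fin k → F, z = (-s₀) • z₀ := ⟨_, rfl⟩
    have hza' : H D a' z = s₀ := by
      rw [hz, H_smul_right, ← H_symm, hz₀, map_one, mul_one, map_neg, hs₀', neg_neg]
    have hz0 : z ≠ 0 := by
      rintro rfl
      rw [H_zero_right] at hza'
      exact hs₀0 hza'.symm
    have haz : a + z ≠ 0 := by
      intro h0
      have h1 : z = -a := by
        have := eq_neg_of_add_eq_zero_left h0
        rw [this, neg_neg]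
      rw [h1, H_neg_right, ht, neg_zero] at hza'
      exact hs₀0 hza'.symm
    have hinv : Skew D s₀⁻¹ := skew_inv hs₀
    have hinvn : Skew D (-s₀⁻¹) := hinv.neg D
    -- first step
    have i1 := img_tr (B.H_Be_Be z z) (B.H_Bf_Bf a' a') (B.H_Bf_Bf a' a') (hE' a' ha') hinvn hinvn
      (hT z hz0 _ hinvn)
    rw [B.H_Bf_Be, hza', neg_mul, inv_mul_cancel₀ hs₀0, neg_smul, one_smul] at i1
    have hy1 : H D (B.Bf *ᵥ a' + -(B.Be *ᵥ z)) (B.Bf *ᵥ a' + -(B.Be *ᵥ z)) = 0 := by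
      simp only [H_add_left, H_add_right, H_neg_left, H_neg_right, B.H_Be_Be, B.H_Bf_Bf, B.H_Be_Bf,
        B.H_Bf_Be, hza', neg_zero, add_zero, zero_add]
      rw [← H_symm D a' z, hza', hs₀']
      ring
    have i2 := img_tr (B.H_Be_Be (a + z) (a + z)) hy1 hy1 i1 hinv hinv (hT (a + z) haz _ hinv)
    have e1 : H D (B.Bf *ᵥ a' + -(B.Be *ᵥ z)) (B.Be *ᵥ (a + z)) = s₀ := by
      rw [H_add_left, H_neg_left, B.H_Be_Be, B.H_Bf_Be, H_add_right, ht, hza', zero_add, neg_zero,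
        add_zero]
    rw [e1, inv_mul_cancel₀ hs₀0, one_smul, mulVec_add] at i2
    have e2 : B.Bf *ᵥ a' + -(B.Be *ᵥ z) + (B.Be *ᵥ a + B.Be *ᵥ z) = B.Be *ᵥ a + B.Bf *ᵥ a' := by
      abel
    rw [e2] at i2
    exact i2
  · -- nonorthogonal case
    have hinv : Skew D (H D a' a)⁻¹ := skew_inv hsk
    have i1 := img_tr (B.H_Be_Be a a) (B.H_Bf_Bf a' a') (B.H_Bf_Bf a' a') (hE' a' ha') hinv hinv
      (hT a ha _ hinv)
    rw [B.H_Bf_Be, inv_mul_cancel₀ ht, one_smul, add_comm] at i1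
    exact i1

end

section

open Matrix

variable {F : Type*} [Field F] {n q : ℕ} {D : UF F q} {k r : ℕ}

namespace Frame

variable (b : Frame D n k r)

/-- decomposition of a vector in a frame -/
theorem decomp (x : Fin n → F) :
    x = b.Be *ᵥ (fun i => H D x (b.f i)) + b.Bf *ᵥ (fun i => H D x (b.e i)) +
      b.Bw *ᵥ (fun j => H D x (b.w j)) := by
  rw [b.Be_mulVec, b.Bf_mulVec, b.Bw_mulVec]
  exact b.complete x

/-- the form in frame coordinates -/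
theorem H_comb (a₁ a₁' a₂ a₂' : Fin k → F) (c₁ c₂ : Fin r → F) :
    H D (b.Be *ᵥ a₁ + b.Bf *ᵥ a₁' + b.Bw *ᵥ c₁) (b.Be *ᵥ a₂ + b.Bf *ᵥ a₂' + b.Bw *ᵥ c₂) =
      H D a₁ a₂' + H D a₁' a₂ + H D c₁ c₂ := by
  simp only [H_add_left, H_add_right, b.H_Be_Be, b.H_Bf_Bf, b.H_Be_Bf, b.H_Bf_Be, b.H_Be_Bw,
    b.H_Bf_Bw, b.H_Bw_Be, b.H_Bw_Bf, b.H_Bw_Bw]
  ring

theorem H_comb_e (a₁ a₁' a₂ : Fin k → F) (c₁ : Fin r → F) :
    H D (b.Be *ᵥ a₁ + b.Bf *ᵥ a₁' + b.Bw *ᵥ c₁) (b.Be *ᵥ a₂) = H D a₁' a₂ := by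
  have := b.H_comb a₁ a₁' a₂ 0 c₁ 0
  simp only [mulVec_zero, add_zero, H_zero_right, zero_add] at this
  exact this

theorem H_comb_f (a₁ a₁' a₂' : Fin k → F) (c₁ : Fin r → F) :
    H D (b.Be *ᵥ a₁ + b.Bf *ᵥ a₁' + b.Bw *ᵥ c₁) (b.Bf *ᵥ a₂') = H D a₁ a₂' := by
  have := b.H_comb a₁ a₁' 0 a₂' c₁ 0
  simp only [mulVec_zero, add_zero, H_zero_right, zero_add] at this
  exact this

end Frame

/-- the standard form in dimension at most one is anisotropic -/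
theorem H_self_ne_zero_of_le_one (hr : r ≤ 1) {c : Fin r → F} (hc : c ≠ 0) : H D c c ≠ 0 := by
  rcases Nat.lt_or_ge r 1 with hr0 | hr1
  · have : r = 0 := by omega
    subst this
    exact absurd (Subsingleton.elim c 0) hc
  · have : r = 1 := by omega
    subst this
    have hc0 : c 0 ≠ 0 := by
      intro h0
      apply hc
      ext j
      rw [Subsingleton.elim j 0, h0]; rfl
    unfold H
    simp only [dotProduct, Fin.sum_univ_one, cj]
    exact mul_ne_zero hc0 ((map_ne_zero D.τ).2 hc0)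

/-- an auxiliary isotropic vector of `E ⊕ E'` linked to a given pair -/
theorem exists_link (hk : 2 ≤ k) {a a' : Fin k → F} (ht : H D a a' ≠ 0) :
    ∃ b b' : Fin k → F, H D a b' = 1 ∧ H D a' b = -1 ∧ H D b b' + H D b' b = 0 := by
  obtain ⟨β, hβ0, hβ⟩ := AutPSL.exists_perp hk (cj D a')
  have hβa' : H D β a' = 0 := hβ
  have ha'β : H D a' β = 0 := H_eq_zero_symm D hβa'
  have hnp : ¬ Par a β := by
    rintro ⟨c, hc, rfl⟩
    rw [H_smul_left] at hβa'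
    rcases mul_eq_zero.1 hβa' with h1 | h1
    · exact hc h1
    · exact ht h1
  obtain ⟨b₀, hb₀1, hb₀2⟩ := exists_H_dual (D := D) hβ0 hnp
  have hτt : D.τ (H D a a') ≠ 0 := (map_ne_zero D.τ).2 ht
  have haa' : H D a' a = D.τ (H D a a') := (H_symm D a a').symm
  refine ⟨(-(H D a a')⁻¹) • a + β, (D.τ (H D a a'))⁻¹ • a' + (-(D.τ (H D a a'))⁻¹) • b₀,
    ?_, ?_, ?_⟩
  · simp only [H_add_right, H_smul_right, hb₀2, mul_zero, add_zero, map_inv₀, D.hτ2]
    field_simp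
  · simp only [H_add_right, H_smul_right, ha'β, add_zero, map_neg, map_inv₀, haa']
    field_simp
  · have e1 : H D ((-(H D a a')⁻¹) • a + β)
        ((D.τ (H D a a'))⁻¹ • a' + (-(D.τ (H D a a'))⁻¹) • b₀) = 0 := by
      simp only [H_add_left, H_add_right, H_smul_left, H_smul_right, hb₀1, hb₀2, hβa', map_neg,
        map_inv₀, D.hτ2, mul_zero, add_zero]
      field_simp
      ring
    rw [e1, H_eq_zero_symm D e1, add_zero]

variable [Fintype F] (p : ℕ) [Fact p.Prime] [CharP F p]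

include p in
/-- in the first normal form, the image of a point has the same `E`- and `E'`-components -/
theorem Norm1.img_W (hn : 3 ≤ n) (hk : 2 ≤ k) (hr : r ≤ 1) {B : Frame D n k r}
    {θ : Cfsg.PSU n F q ≃* Cfsg.PSU n F q} (h : Norm1 B θ) (a a' : Fin k → F) (c : Fin r → F)
    (hiso : H D (B.Be *ᵥ a + B.Bf *ᵥ a' + B.Bw *ᵥ c) (B.Be *ᵥ a + B.Bf *ᵥ a' + B.Bw *ᵥ c) = 0)
    (hc : c ≠ 0) :
    ∃ c' : Fin r → F, Img D θ (B.Be *ᵥ a + B.Bf *ᵥ a' + B.Bw *ᵥ c)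
      (B.Be *ᵥ a + B.Bf *ᵥ a' + B.Bw *ᵥ c') ∧ H D c' c' = H D c c := by
  have hE := h.2.1
  have hE' := h.2.2.1
  rw [B.H_comb] at hiso
  have hcc := H_self_ne_zero_of_le_one (D := D) hr hc
  have ht : H D a a' ≠ 0 := by
    intro h0
    rw [h0, H_eq_zero_symm D h0, zero_add, zero_add] at hiso
    exact hcc hiso
  have ht' : H D a' a ≠ 0 := fun h0 => ht (H_eq_zero_symm D h0)
  have ha : a ≠ 0 := by rintro rfl; exact ht (H_zero_left D _)
  have ha' : a' ≠ 0 := by rintro rfl; exact ht (H_zero_right D _)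
  obtain ⟨x, hx⟩ : ∃ x, x = B.Be *ᵥ a + B.Bf *ᵥ a' + B.Bw *ᵥ c := ⟨_, rfl⟩
  have hxx : H D x x = 0 := by rw [hx, B.H_comb]; exact hiso
  have hx0 : x ≠ 0 := by
    intro h0
    have := B.H_comb_e a a' a c
    rw [← hx, h0, H_zero_left] at this
    exact ht' this.symm
  obtain ⟨y, hy0, hyy, hi⟩ := exists_img (D := D) p hn θ hx0 hxx
  obtain ⟨b, hb⟩ : ∃ b : Fin k → F, b = fun i => H D y (B.f i) := ⟨_, rfl⟩
  obtain ⟨b', hb'⟩ : ∃ b' : Fin k → F, b' = fun i => H D y (B.e i) := ⟨_, rfl⟩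
  obtain ⟨d, hd⟩ : ∃ d : Fin r → F, d = fun j => H D y (B.w j) := ⟨_, rfl⟩
  have hy : y = B.Be *ᵥ b + B.Bf *ᵥ b' + B.Bw *ᵥ d := by rw [hb, hb', hd]; exact B.decomp y
  -- the E'-component
  have hp1 : ∀ z : Fin k → F, z ≠ 0 → (H D z a' = 0 ↔ H D z b' = 0) := by
    intro z hz
    have := Img.perp p hn hi (hE z hz) hx0 hxx ((B.Be_eq_zero).not.2 hz) (B.H_Be_Be z z) hy0 hyy
      ((B.Be_eq_zero).not.2 hz) (B.H_Be_Be z z)
    rw [hx, hy, B.H_comb_e, B.H_comb_e] at this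
    constructor
    · intro h1
      exact H_eq_zero_symm D (this.1 (H_eq_zero_symm D h1))
    · intro h1
      exact H_eq_zero_symm D (this.2 (H_eq_zero_symm D h1))
  have hp2 : ∀ z : Fin k → F, z ≠ 0 → (H D z a = 0 ↔ H D z b = 0) := by
    intro z hz
    have := Img.perp p hn hi (hE' z hz) hx0 hxx ((B.Bf_eq_zero).not.2 hz) (B.H_Bf_Bf z z) hy0 hyy
      ((B.Bf_eq_zero).not.2 hz) (B.H_Bf_Bf z z)
    rw [hx, hy, B.H_comb_f, B.H_comb_f] at this
    constructor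
    · intro h1
      exact H_eq_zero_symm D (this.1 (H_eq_zero_symm D h1))
    · intro h1
      exact H_eq_zero_symm D (this.2 (H_eq_zero_symm D h1))
  obtain ⟨l', hl'⟩ := mem_span_of_perp D ha' (fun z hz => by
    by_cases hz0 : z = 0
    · rw [hz0, H_zero_left]
    · exact (hp1 z hz0).1 hz)
  obtain ⟨l, hl⟩ := mem_span_of_perp D ha (fun z hz => by
    by_cases hz0 : z = 0
    · rw [hz0, H_zero_left]
    · exact (hp2 z hz0).1 hz)
  have hl0 : l ≠ 0 := by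
    rintro rfl
    rw [zero_smul] at hl
    apply ha
    apply H_nondeg_right D
    intro z
    by_cases hz0 : z = 0
    · rw [hz0, H_zero_left]
    · exact (hp2 z hz0).2 (by rw [hl, H_zero_right])
  -- rescale
  obtain ⟨y₁, hy₁⟩ : ∃ y₁, y₁ = l⁻¹ • y := ⟨_, rfl⟩
  have hy₁' : y₁ = B.Be *ᵥ a + B.Bf *ᵥ ((l⁻¹ * l') • a') + B.Bw *ᵥ (l⁻¹ • d) := by
    rw [hy₁, hy, hl, hl', smul_add, smul_add, ← mulVec_smul, ← mulVec_smul, ← mulVec_smul, smul_smul,
      smul_smul, inv_mul_cancel₀ hl0, one_smul]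
  have hi₁ : Img D θ x y₁ := hi.par_right hyy ⟨l⁻¹, inv_ne_zero hl0, hy₁⟩
  have hy₁0 : y₁ ≠ 0 := by
    rw [hy₁]; exact smul_ne_zero (inv_ne_zero hl0) hy0
  have hy₁y₁ : H D y₁ y₁ = 0 := by
    rw [hy₁, H_smul_left, H_smul_right, hyy, mul_zero, mul_zero]
  -- the linking point
  obtain ⟨b₂, b₂', h1, h2, h3⟩ := exists_link (D := D) hk ht
  have hb₂' : b₂' ≠ 0 := by
    rintro rfl
    rw [H_zero_right] at h1
    exact zero_ne_one h1
  have hy₂0 : B.Be *ᵥ b₂ + B.Bf *ᵥ b₂' ≠ 0 := by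
    intro h0
    have := congrArg (fun v => H D (B.Be *ᵥ a) v) h0
    simp only [H_add_right, B.H_Be_Be, B.H_Be_Bf, H_zero_right, zero_add] at this
    rw [h1] at this
    exact one_ne_zero this
  have hy₂y₂ : H D (B.Be *ᵥ b₂ + B.Bf *ᵥ b₂') (B.Be *ᵥ b₂ + B.Bf *ᵥ b₂') = 0 := by
    simp only [H_add_left, H_add_right, B.H_Be_Be, B.H_Bf_Bf, B.H_Be_Bf, B.H_Bf_Be, zero_add,
      add_zero]
    rw [add_comm]; exact h3
  have hfix₂ := h.fix_EE' b₂ b₂' hy₂y₂ hy₂0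
  have hperp := (Img.perp p hn hi₁ hfix₂ hx0 hxx hy₂0 hy₂y₂ hy₁0 hy₁y₁ hy₂0 hy₂y₂).1 (by
    rw [hx]
    have := B.H_comb a a' b₂ b₂' c 0
    simp only [mulVec_zero, add_zero, H_zero_right] at this
    rw [this, h1, h2]; ring)
  rw [hy₁'] at hperp
  have e1 := B.H_comb a ((l⁻¹ * l') • a') b₂ b₂' (l⁻¹ • d) 0
  simp only [mulVec_zero, add_zero, H_zero_right] at e1
  rw [e1, h1, H_smul_left, h2] at hperp
  have hm : l⁻¹ * l' = 1 := by linear_combination -hperp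
  rw [hm, one_smul] at hy₁'
  refine ⟨l⁻¹ • d, by rw [← hx, ← hy₁']; exact hi₁, ?_⟩
  rw [hy₁', B.H_comb] at hy₁y₁
  linear_combination hy₁y₁ - hiso

end

section

open Matrix

variable {F : Type*} [Field F] {n q : ℕ} {D : UF F q} {k r : ℕ}

/-- the elements of `SU` whose image in `PSU` is fixed by `θ` -/
def Gfix (θ : Cfsg.PSU n F q ≃* Cfsg.PSU n F q) : Subgroup ↥(Cfsg.SU n F q) :=
  MonoidHom.eqLocus (θ.toMonoidHom.comp pr) pr

theorem mem_Gfix {θ : Cfsg.PSU n F q ≃* Cfsg.PSU n F q} {g : ↥(Cfsg.SU n F q)} :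
    g ∈ Gfix θ ↔ θ (pr g) = pr g := Iff.rfl

theorem img_of_mem_Gfix {θ : Cfsg.PSU n F q ≃* Cfsg.PSU n F q} {g : ↥(Cfsg.SU n F q)}
    (hg : g ∈ Gfix θ) {x : Fin n → F} (hx : H D x x = 0) (hi : Img D θ x x) :
    Img D θ (sv g x) (sv g x) := img_sv hi hx hx hg

/-- a point in frame coordinates -/
def Pt (B : Frame D n k r) (a a' : Fin k → F) (c : Fin r → F) : Fin n → F :=
  B.Be *ᵥ a + B.Bf *ᵥ a' + B.Bw *ᵥ c

theorem H_Pt (B : Frame D n k r) (a₁ a₁' a₂ a₂' : Fin k → F) (c₁ c₂ : Fin r → F) :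
    H D (Pt B a₁ a₁' c₁) (Pt B a₂ a₂' c₂) = H D a₁ a₂' + H D a₁' a₂ + H D c₁ c₂ := B.H_comb _ _ _ _ _ _

variable [Fintype F] (p : ℕ) [Fact p.Prime] [CharP F p]

theorem sv_siegel_Pt (B : Frame D n k r) {a b' : Fin k → F} (hab : H D a b' = 0)
    (x x' : Fin k → F) (c : Fin r → F) :
    sv (EL D (B.Be *ᵥ a) (B.Bf *ᵥ b') 0) (Pt B x x' c) =
      Pt B (x - H D x b' • a) (x' + H D x' a • b') c := by
  unfold Pt
  rw [sv_add, sv_add, sv_siegel_e B hab, sv_siegel_f B hab, sv_siegel_w B hab]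


section orbits

variable (hn : 3 ≤ n) (hk : 2 ≤ k) (hr : r ≤ 1) {B : Frame D n k r}
  {θ : Cfsg.PSU n F q ≃* Cfsg.PSU n F q} (h : Norm1 B θ)

include p hn hk hr h in
theorem Norm1.siegel_mem {a b' : Fin k → F} (hab : H D a b' = 0) :
    EL D (B.Be *ᵥ a) (B.Bf *ᵥ b') 0 ∈ Gfix θ :=
  h.1.fix_siegel p hn hk hr h.2.1 hab

include p hn hk hr h in
/-- moving the `E'`-component -/
theorem Norm1.orbit1 {a a' a'' : Fin k → F} (c : Fin r → F) (ht : H D a a' ≠ 0)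
    (h1 : H D a a' = H D a a'') : ∃ g ∈ Gfix θ, sv g (Pt B a a' c) = Pt B a a'' c := by
  have hτ : D.τ (H D a a') ≠ 0 := (map_ne_zero D.τ).2 ht
  have hab : H D a ((D.τ (H D a a'))⁻¹ • (a'' - a')) = 0 := by
    rw [H_smul_right, H_sub_right, ← h1, sub_self, mul_zero]
  refine ⟨_, h.siegel_mem p hn hk hr hab, ?_⟩
  rw [sv_siegel_Pt B hab, hab, zero_smul, sub_zero, ← H_symm D a a', smul_smul,
    mul_inv_cancel₀ hτ, one_smul]
  congr 1
  abel

include p hn hk hr h in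
/-- moving the `E`-component -/
theorem Norm1.orbit2 {a a₂ a' : Fin k → F} (c : Fin r → F) (ht : H D a a' ≠ 0)
    (h1 : H D a a' = H D a₂ a') : ∃ g ∈ Gfix θ, sv g (Pt B a a' c) = Pt B a₂ a' c := by
  have hab : H D ((H D a a')⁻¹ • (a - a₂)) a' = 0 := by
    rw [H_smul_left, H_sub_left, ← h1, sub_self, mul_zero]
  refine ⟨_, h.siegel_mem p hn hk hr hab, ?_⟩
  rw [sv_siegel_Pt B hab, H_eq_zero_symm D hab, zero_smul, add_zero, smul_smul,
    mul_inv_cancel₀ ht, one_smul]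
  congr 1
  abel

include p hn hk hr h in
/-- transitivity on pairs with the same pairing, nonparallel case -/
theorem Norm1.orbit3_aux {a a' b b' : Fin k → F} (c : Fin r → F) (ht : H D a a' ≠ 0)
    (h1 : H D a a' = H D b b') (hnp : ¬ Par a b) :
    ∃ g ∈ Gfix θ, sv g (Pt B a a' c) = Pt B b b' c := by
  have ha : a ≠ 0 := by rintro rfl; exact ht (H_zero_left D _)
  have hb : b ≠ 0 := by rintro rfl; rw [H_zero_left] at h1; exact ht h1
  have hnp' : ¬ Par b a := fun h2 => hnp h2.symm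
  obtain ⟨d₁, hd₁, hd₁'⟩ := exists_H_dual (D := D) ha hnp'
  obtain ⟨d₂, hd₂, hd₂'⟩ := exists_H_dual (D := D) hb hnp
  obtain ⟨a'', ha''⟩ : ∃ a'' : Fin k → F, a'' = (-(D.τ (H D a a'))) • (d₁ + d₂) := ⟨_, rfl⟩
  have e1 : H D a a'' = H D a a' := by
    rw [ha'', H_smul_right, H_add_right, hd₁, hd₂', map_neg, D.hτ2]; ring
  have e2 : H D b a'' = H D a a' := by
    rw [ha'', H_smul_right, H_add_right, hd₁', hd₂, map_neg, D.hτ2]; ring
  obtain ⟨g₁, hg₁, hs₁⟩ := h.orbit1 p hn hk hr c ht e1.symm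
  obtain ⟨g₂, hg₂, hs₂⟩ := h.orbit2 p hn hk hr (a := a) (a₂ := b) (a' := a'') c (by rw [e1]; exact ht)
    (by rw [e1, e2])
  obtain ⟨g₃, hg₃, hs₃⟩ := h.orbit1 p hn hk hr (a := b) (a' := a'') (a'' := b') c
    (by rw [e2]; exact ht) (by rw [e2, h1])
  refine ⟨g₃ * g₂ * g₁, mul_mem (mul_mem hg₃ hg₂) hg₁, ?_⟩
  rw [sv_mul, sv_mul, hs₁, hs₂, hs₃]

include p hn hk hr h in
/-- transitivity on pairs with the same pairing -/
theorem Norm1.orbit3 {a a' b b' : Fin k → F} (c : Fin r → F) (ht : H D a a' ≠ 0)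
    (h1 : H D a a' = H D b b') : ∃ g ∈ Gfix θ, sv g (Pt B a a' c) = Pt B b b' c := by
  by_cases hp : Par a b
  · obtain ⟨y, hy0, hy1, hy2⟩ := exists_not_par hk a
    obtain ⟨x, hx⟩ := exists_H_eq_one D hy0
    obtain ⟨y', hy'⟩ : ∃ y' : Fin k → F, y' = (D.τ (H D a a')) • x := ⟨_, rfl⟩
    have e1 : H D y y' = H D a a' := by
      rw [hy', H_smul_right, D.hτ2, ← H_symm D x y, hx, map_one, mul_one]
    obtain ⟨g₁, hg₁, hs₁⟩ := h.orbit3_aux p hn hk hr (b := y) (b' := y') c ht e1.symm hy1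
    obtain ⟨g₂, hg₂, hs₂⟩ := h.orbit3_aux p hn hk hr (a := y) (a' := y') (b := b) (b' := b') c
      (by rw [e1]; exact ht) (by rw [e1, h1]) (fun h2 => hy1 (hp.trans h2.symm))
    exact ⟨g₂ * g₁, mul_mem hg₂ hg₁, by rw [sv_mul, hs₁, hs₂]⟩
  · exact h.orbit3_aux p hn hk hr c ht h1 hp

include p hn hk hr h in
/-- changing the pairing by a transvection -/
theorem Norm1.orbit4 {a a' : Fin k → F} (c : Fin r → F) (ht : H D a a' ≠ 0) {t₀ : F}
    (h1 : H D a a' + D.τ (H D a a') = t₀ + D.τ t₀) :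
    ∃ g ∈ Gfix θ, ∃ a₁ : Fin k → F, sv g (Pt B a a' c) = Pt B a₁ a' c ∧ H D a₁ a' = t₀ := by
  have ha : a ≠ 0 := by rintro rfl; exact ht (H_zero_left D _)
  have hτ : D.τ (H D a a') ≠ 0 := (map_ne_zero D.τ).2 ht
  obtain ⟨s, hs⟩ : ∃ s : F, s = (t₀ - H D a a') / (H D a a' * D.τ (H D a a')) := ⟨_, rfl⟩
  have hsk : Skew D s := by
    change D.τ s = -s
    rw [hs, map_div₀, map_mul, map_sub, D.hτ2]
    have : D.τ t₀ - D.τ (H D a a') = -(t₀ - H D a a') := by linear_combination -h1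
    rw [this, mul_comm, neg_div]
  refine ⟨EL D (B.Be *ᵥ a) 0 s, h.2.2.2.1 a ha s hsk, (1 + s * D.τ (H D a a')) • a, ?_, ?_⟩
  · rw [sv_tr D (B.H_Be_Be a a) hsk]
    have e1 : H D (Pt B a a' c) (B.Be *ᵥ a) = D.τ (H D a a') := by
      unfold Pt
      rw [B.H_comb_e, H_symm]
    rw [e1]
    unfold Pt
    rw [mulVec_smul, add_smul, one_smul]
    abel
  · rw [H_smul_left, hs]
    field_simp
    ring

include p hn hk hr h in
/-- transitivity on isotropic points with a given nonzero `W`-component -/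
theorem Norm1.orbit5 {a a' b b' : Fin k → F} {c : Fin r → F} (hc : c ≠ 0)
    (h1 : H D (Pt B a a' c) (Pt B a a' c) = 0) (h2 : H D (Pt B b b' c) (Pt B b b' c) = 0) :
    ∃ g ∈ Gfix θ, sv g (Pt B a a' c) = Pt B b b' c := by
  rw [H_Pt] at h1 h2
  have hcc := H_self_ne_zero_of_le_one (D := D) hr hc
  have ht : H D a a' ≠ 0 := by
    intro h0
    rw [h0, H_eq_zero_symm D h0, zero_add, zero_add] at h1
    exact hcc h1
  have e1 : H D a a' + D.τ (H D a a') = H D b b' + D.τ (H D b b') := by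
    rw [H_symm, H_symm]
    linear_combination h1 - h2
  obtain ⟨g₁, hg₁, a₁, hs₁, ha₁⟩ := h.orbit4 p hn hk hr c ht e1
  have ht₁ : H D a₁ a' ≠ 0 := by
    rw [ha₁]
    intro h0
    rw [h0, H_eq_zero_symm D h0, zero_add, zero_add] at h2
    exact hcc h2
  obtain ⟨g₂, hg₂, hs₂⟩ := h.orbit3 p hn hk hr (a := a₁) (a' := a') (b := b) (b' := b') c ht₁ ha₁
  exact ⟨g₂ * g₁, mul_mem hg₂ hg₁, by rw [sv_mul, hs₁, hs₂]⟩

end orbits

end

section

open Matrix

variable {F : Type*} [Field F] {n q : ℕ} {D : UF F q} {k r : ℕ}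

theorem gmap_mem_GU (σ : F ≃+* F) {g : GL (Fin n) F} (hg : g ∈ Cfsg.GU n F q) :
    AutPSL.gmap σ g ∈ Cfsg.GU n F q := by
  intro u v
  change Cfsg.hermForm n F q (((AutPSL.gmap σ g : GL (Fin n) F) : Matrix (Fin n) (Fin n) F) *ᵥ u)
    (((AutPSL.gmap σ g : GL (Fin n) F) : Matrix (Fin n) (Fin n) F) *ᵥ v) = _
  rw [AutPSL.gmap_coe]
  have hu : u = fun i => σ (σ.symm (u i)) := by ext i; simp
  have hv : v = fun i => σ (σ.symm (v i)) := by ext i; simp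
  rw [hu, hv, ← map_mulVec_sig, ← map_mulVec_sig, hermForm_sig, hermForm_sig]
  congr 1
  exact hg _ _

/-- automorphisms of `PSU` induced by semilinear unitary maps -/
def IsSemi (θ : Cfsg.PSU n F q ≃* Cfsg.PSU n F q) : Prop :=
  ∃ (g : GL (Fin n) F) (hg : g ∈ Cfsg.GU n F q) (σ : F ≃+* F), θ = cU hg σ

theorem isSemi_cU {g : GL (Fin n) F} (hg : g ∈ Cfsg.GU n F q) (σ : F ≃+* F) : IsSemi (cU hg σ) :=
  ⟨g, hg, σ, rfl⟩

theorem IsSemi.trans {θ θ' : Cfsg.PSU n F q ≃* Cfsg.PSU n F q} (h : IsSemi θ) (h' : IsSemi θ') :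
    IsSemi (θ.trans θ') := by
  obtain ⟨g, hg, σ, rfl⟩ := h
  obtain ⟨g', hg', σ', rfl⟩ := h'
  refine ⟨g' * AutPSL.gmap σ' g, mul_mem hg' (gmap_mem_GU σ' hg), σ.trans σ', ?_⟩
  ext x
  obtain ⟨s, rfl⟩ := pr_surjective x
  rw [MulEquiv.trans_apply, cU_pr, cU_pr, cU_pr]
  congr 1
  apply mat_injective
  rw [mat_semiSU, mat_semiSU, mat_semiSU, _root_.mul_inv_rev, Units.val_mul, Units.val_mul,
    ← map_inv, AutPSL.gmap_coe, AutPSL.gmap_coe]
  have e1 : ((g : Matrix (Fin n) (Fin n) F) * (mat s).map σ *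
      ((g⁻¹ : GL (Fin n) F) : Matrix (Fin n) (Fin n) F)).map σ' =
      (g : Matrix (Fin n) (Fin n) F).map σ' * ((mat s).map σ).map σ' *
      ((g⁻¹ : GL (Fin n) F) : Matrix (Fin n) (Fin n) F).map σ' := by
    rw [Matrix.map_mul, Matrix.map_mul]
  rw [e1]
  have e2 : ((mat s).map σ).map σ' = (mat s).map (σ.trans σ') := by
    ext i j; rfl
  rw [e2]
  simp only [Matrix.mul_assoc]

theorem isSemi_refl : IsSemi (MulEquiv.refl (Cfsg.PSU n F q)) := by
  refine ⟨1, one_mem _, RingEquiv.refl F, ?_⟩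
  ext x
  obtain ⟨s, rfl⟩ := pr_surjective x
  rw [cU_pr, MulEquiv.refl_apply]
  congr 1
  apply mat_injective
  rw [mat_semiSU]
  simp

/-- if `θ` followed by the inverse of a semilinear automorphism is semilinear, so is `θ` -/
theorem IsSemi.of_trans_symm {θ δ : Cfsg.PSU n F q ≃* Cfsg.PSU n F q} (hδ : IsSemi δ)
    (h : IsSemi (θ.trans δ.symm)) : IsSemi θ := by
  have : θ = (θ.trans δ.symm).trans δ := by
    ext x
    simp
  rw [this]
  exact h.trans hδ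

end

section

open Matrix

variable {F : Type*} [Field F] {n q : ℕ} {D : UF F q} {k r : ℕ}

variable [Fintype F] (p : ℕ) [Fact p.Prime] [CharP F p]

theorem Norm1.symm {B : Frame D n k r} {θ : Cfsg.PSU n F q ≃* Cfsg.PSU n F q}
    (h : Norm1 B θ) : Norm1 B θ.symm := by
  obtain ⟨h1, h2, h3, h4, h5⟩ := h
  refine ⟨h1.symm, fun a ha => (h2 a ha).symm, fun a ha => (h3 a ha).symm, ?_, ?_⟩
  · intro a ha c hc
    rw [MulEquiv.symm_apply_eq, h4 a ha c hc]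
  · intro a ha c hc
    rw [MulEquiv.symm_apply_eq, h5 a ha c hc]

theorem Norm1.trans {B : Frame D n k r} {θ θ' : Cfsg.PSU n F q ≃* Cfsg.PSU n F q}
    (h : Norm1 B θ) (h' : Norm1 B θ') : Norm1 B (θ.trans θ') := by
  obtain ⟨h1, h2, h3, h4, h5⟩ := h
  obtain ⟨h1', h2', h3', h4', h5'⟩ := h'
  refine ⟨h1.trans h1', fun a ha => (h2 a ha).trans (h2' a ha),
    fun a ha => (h3 a ha).trans (h3' a ha), ?_, ?_⟩
  · intro a ha c hc
    rw [MulEquiv.trans_apply, h4 a ha c hc, h4' a ha c hc]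
  · intro a ha c hc
    rw [MulEquiv.trans_apply, h5 a ha c hc, h5' a ha c hc]

/-- the diagonal elements acting only on `W` are in the first normal form -/
theorem norm1_dgU (B : Frame D n k r) {ν : F} (hν : ν ≠ 0) (hν1 : ν * D.τ ν = 1) :
    Norm1 B (cU (dgU_mem B 1 ν one_ne_zero hν hν1) (RingEquiv.refl F)) := by
  have hg := dgU_mem B 1 ν one_ne_zero hν hν1
  have iE : ∀ a : Fin k → F, Img D (cU hg (RingEquiv.refl F)) (B.Be *ᵥ a) (B.Be *ᵥ a) := by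
    intro a
    have h1 := img_cU (D := D) (B.H_Be_Be a a) hg (RingEquiv.refl F)
    rwa [smv_refl, dgU_mulVec_e, one_smul] at h1
  have iE' : ∀ a : Fin k → F, Img D (cU hg (RingEquiv.refl F)) (B.Bf *ᵥ a) (B.Bf *ᵥ a) := by
    intro a
    have h1 := img_cU (D := D) (B.H_Bf_Bf a a) hg (RingEquiv.refl F)
    rwa [smv_refl, dgU_mulVec_f, map_one, inv_one, one_smul] at h1
  refine ⟨⟨?_, ?_⟩, fun a _ => iE a, fun a _ => iE' a, ?_, ?_⟩
  · intro i
    have := iE (Pi.single i 1)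
    rwa [B.Be_single] at this
  · intro i
    have := iE' (Pi.single i 1)
    rwa [B.Bf_single] at this
  · intro a ha c hc
    rw [cU_tr hg (B.H_Be_Be a a) hc, dgU_mulVec_e, one_smul]
  · intro a ha c hc
    rw [cU_tr hg (B.H_Bf_Bf a a) hc, dgU_mulVec_f, map_one, inv_one, one_smul]

theorem img_dgU_Pt (B : Frame D n k r) {ν : F} (hν : ν ≠ 0) (hν1 : ν * D.τ ν = 1)
    (a a' : Fin k → F) (c : Fin r → F) (hiso : H D (Pt B a a' c) (Pt B a a' c) = 0) :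
    Img D (cU (dgU_mem B 1 ν one_ne_zero hν hν1) (RingEquiv.refl F)) (Pt B a a' c)
      (Pt B a a' (ν • c)) := by
  have h1 := img_cU (D := D) hiso (dgU_mem B 1 ν one_ne_zero hν hν1) (RingEquiv.refl F)
  rw [smv_refl] at h1
  have e : (dgU B 1 ν one_ne_zero hν : Matrix (Fin n) (Fin n) F) *ᵥ (Pt B a a' c) =
      Pt B a a' (ν • c) := by
    unfold Pt
    rw [mulVec_add, mulVec_add, dgU_mulVec_e, dgU_mulVec_f, dgU_mulVec_w, map_one, inv_one,
      one_smul, one_smul, mulVec_smul]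
  rwa [e] at h1

theorem Pt_smul (B : Frame D n k r) (t : F) (a a' : Fin k → F) (c : Fin r → F) :
    t • Pt B a a' c = Pt B (t • a) (t • a') (t • c) := by
  unfold Pt
  rw [smul_add, smul_add, mulVec_smul, mulVec_smul, mulVec_smul]

theorem Pt_zero (B : Frame D n k r) (a a' : Fin k → F) :
    Pt B a a' 0 = B.Be *ᵥ a + B.Bf *ᵥ a' := by
  unfold Pt
  rw [mulVec_zero, add_zero]

theorem exists_Pt (B : Frame D n k r) (x : Fin n → F) : ∃ a a' c, x = Pt B a a' c :=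
  ⟨_, _, _, B.decomp x⟩

include p in
/-- second normalisation: all points are fixed -/
theorem Norm1.exists_norm2 (hn : 3 ≤ n) (hk : 2 ≤ k) (hr : r ≤ 1) {B : Frame D n k r}
    {θ : Cfsg.PSU n F q ≃* Cfsg.PSU n F q} (h : Norm1 B θ) :
    ∃ (g : GL (Fin n) F) (hg : g ∈ Cfsg.GU n F q),
      ∀ x : Fin n → F, x ≠ 0 → H D x x = 0 →
        Img D (θ.trans (cU hg (RingEquiv.refl F)).symm) x x := by
  obtain ⟨i₀⟩ : Nonempty (Fin k) := ⟨⟨0, by omega⟩⟩
  obtain ⟨c₀, hc₀⟩ : ∃ c₀ : Fin r → F, c₀ = fun _ => 1 := ⟨_, rfl⟩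
  have hfix1 : D.τ (-(H D c₀ c₀)) = -(H D c₀ c₀) := by rw [map_neg, H_symm]
  obtain ⟨t₀, ht₀⟩ := D.tr_surj _ hfix1
  obtain ⟨a₀, ha₀⟩ : ∃ a₀ : Fin k → F, a₀ = Pi.single i₀ 1 := ⟨_, rfl⟩
  obtain ⟨a₀', ha₀'⟩ : ∃ a₀' : Fin k → F, a₀' = t₀ • Pi.single i₀ 1 := ⟨_, rfl⟩
  have e1 : H D a₀ a₀' = D.τ t₀ := by
    rw [ha₀, ha₀', H_smul_right, H_single_right]
    simp
  have hiso₀ : H D (Pt B a₀ a₀' c₀) (Pt B a₀ a₀' c₀) = 0 := by
    rw [H_Pt, ← H_symm D a₀ a₀', e1, D.hτ2]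
    linear_combination ht₀
  -- the scalar
  have key : ∃ ν : F, ν ≠ 0 ∧ ν * D.τ ν = 1 ∧ Img D θ (Pt B a₀ a₀' c₀) (Pt B a₀ a₀' (ν • c₀)) := by
    by_cases hc0 : c₀ = 0
    · refine ⟨1, one_ne_zero, by rw [map_one, mul_one], ?_⟩
      rw [one_smul, hc0, Pt_zero]
      have hne : B.Be *ᵥ a₀ + B.Bf *ᵥ a₀' ≠ 0 := by
        intro h0
        have h2 := B.H_comb_f a₀ a₀' a₀ 0
        rw [mulVec_zero, add_zero, h0, H_zero_left, ha₀, H_single_right] at h2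
        simp at h2
      refine h.fix_EE' a₀ a₀' ?_ hne
      rw [← Pt_zero, ← hc0]
      exact hiso₀
    · obtain ⟨c', hc', hcc'⟩ := h.img_W p hn hk hr a₀ a₀' c₀ hiso₀ hc0
      have hr1 : r = 1 := by
        rcases Nat.eq_zero_or_pos r with h0 | h0
        · subst h0
          exact absurd (Subsingleton.elim c₀ 0) hc0
        · omega
      subst hr1
      have hcv : c' = c' 0 • c₀ := by
        ext j
        rw [Subsingleton.elim j 0, hc₀]
        simp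
      have hcc := H_self_ne_zero_of_le_one (D := D) hr hc0
      have hν1 : c' 0 * D.τ (c' 0) = 1 := by
        have h3 : H D c' c' = (c' 0 * D.τ (c' 0)) * H D c₀ c₀ := by
          conv_lhs => rw [hcv]
          rw [H_smul_left, H_smul_right]
          ring
        rw [hcc'] at h3
        have h4 : (c' 0 * D.τ (c' 0) - 1) * H D c₀ c₀ = 0 := by linear_combination -h3
        rcases mul_eq_zero.1 h4 with h5 | h5
        · linear_combination h5
        · exact absurd h5 hcc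
      have hν0 : c' 0 ≠ 0 := by
        intro h0
        rw [h0, zero_mul] at hν1
        exact zero_ne_one hν1
      refine ⟨c' 0, hν0, hν1, ?_⟩
      rw [← hcv]
      exact hc'
  obtain ⟨ν, hν0, hν1, hi₀⟩ := key
  have hg := dgU_mem B 1 ν one_ne_zero hν0 hν1
  refine ⟨_, hg, ?_⟩
  have hN : Norm1 B (θ.trans (cU hg (RingEquiv.refl F)).symm) :=
    h.trans (norm1_dgU B hν0 hν1).symm
  have hi₀' : Img D (θ.trans (cU hg (RingEquiv.refl F)).symm) (Pt B a₀ a₀' c₀) (Pt B a₀ a₀' c₀) :=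
    hi₀.trans (img_dgU_Pt B hν0 hν1 a₀ a₀' c₀ hiso₀).symm
  intro x hx0 hxx
  obtain ⟨b, b', d, hx⟩ := exists_Pt B x
  by_cases hd : d = 0
  · rw [hx, hd, Pt_zero]
    rw [hx, hd, Pt_zero] at hx0 hxx
    exact hN.fix_EE' b b' hxx hx0
  · have hr1 : r = 1 := by
      rcases Nat.eq_zero_or_pos r with h0 | h0
      · subst h0
        exact absurd (Subsingleton.elim d 0) hd
      · omega
    subst hr1
    have hdv : d = d 0 • c₀ := by
      ext j
      rw [Subsingleton.elim j 0, hc₀]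
      simp
    have hd0 : d 0 ≠ 0 := by
      intro h0
      apply hd
      rw [hdv, h0, zero_smul]
    have hc0 : c₀ ≠ 0 := by
      intro h0
      apply hd
      rw [hdv, h0, smul_zero]
    obtain ⟨y, hy⟩ : ∃ y, y = Pt B ((d 0)⁻¹ • b) ((d 0)⁻¹ • b') c₀ := ⟨_, rfl⟩
    have hyx : y = (d 0)⁻¹ • x := by
      have hinv : (d 0)⁻¹ • d = c₀ := by
        ext j
        rw [Subsingleton.elim j 0, hc₀]
        simp [hd0]
      rw [hy, hx, Pt_smul, hinv]
    have hyy : H D y y = 0 := by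
      rw [hyx, H_smul_left, H_smul_right, hxx, mul_zero, mul_zero]
    rw [hy] at hyy
    obtain ⟨g, hg, hsg⟩ := hN.orbit5 p hn hk hr hc0 hiso₀ hyy
    have h6 := img_of_mem_Gfix hg hiso₀ hi₀'
    rw [hsg, ← hy] at h6
    have hpar : Par y x := by
      refine ⟨d 0, hd0, ?_⟩
      rw [hyx, smul_smul, mul_inv_cancel₀ hd0, one_smul]
    rw [← hy] at hyy
    exact (h6.par_left hyy hpar).par_right hyy hpar

end

section

open Matrix

variable {F : Type*} [Field F] {n q : ℕ} {D : UF F q} {k r : ℕ}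

variable [Fintype F] (p : ℕ) [Fact p.Prime] [CharP F p]

include p in
/-- every automorphism of `PSU_n(q)` is induced by a semilinear unitary map, provided the Witt
index is at least two -/
theorem isSemi_of_frame (hn : 3 ≤ n) (hk : 2 ≤ k) (hr : r ≤ 1) (B : Frame D n k r)
    (θ : Cfsg.PSU n F q ≃* Cfsg.PSU n F q) : IsSemi θ := by
  obtain ⟨g₁, hg₁, h1e, h1f⟩ := exists_frame_fix (D := D) p hn B hr θ
  have hF1 : FixFr B (θ.trans (cU hg₁ (RingEquiv.refl F)).symm) := ⟨h1e, h1f⟩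
  obtain ⟨g₂, hg₂, σ, hF2, hE2⟩ := hF1.exists_fix_E p hn hk hr
  obtain ⟨g₃, hg₃, hN3⟩ := hF2.exists_norm1 p hn hk hr hE2
  obtain ⟨g₄, hg₄, hall⟩ := hN3.exists_norm2 p hn hk hr
  have h5 := eq_refl_of_img (D := D) hn _ hall
  apply IsSemi.of_trans_symm (isSemi_cU hg₁ (RingEquiv.refl F))
  apply IsSemi.of_trans_symm (isSemi_cU hg₂ σ)
  apply IsSemi.of_trans_symm (isSemi_cU hg₃ (RingEquiv.refl F))
  apply IsSemi.of_trans_symm (isSemi_cU hg₄ (RingEquiv.refl F))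
  rw [h5]
  exact isSemi_refl

include p in
theorem isSemi_of_four_le (hn : 4 ≤ n) (θ : Cfsg.PSU n F q ≃* Cfsg.PSU n F q) (D : UF F q) :
    IsSemi θ := by
  obtain ⟨k, r, B, hr⟩ := exists_frame D n
  have hd := B.dim_eq
  exact isSemi_of_frame (D := D) p (by omega) (by omega) hr B θ

end

end Cfsg.Agent.Lib.H13.AutPSU
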