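import Mathlib
import Cfsg.Agent.Lib.H13.AutPSU6

/-!
Automorphisms of `PSU_n(q)`, part 7: the case `n = 3` (coordinates on `Q_e`, torus action, semilinearity), and the final
theorem `isSemi_of_card`: every automorphism of a simple `PSU_n(q)` is induced by a semilinear unitary map.
-/

set_option autoImplicit false
set_option linter.unusedSectionVars false
set_option linter.unusedVariables false
set_option linter.unusedSimpArgs false
set_option linter.deprecated false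

namespace Cfsg.Agent.Lib.H13.AutPSU

section

open Matrix

variable {F : Type*} [Field F] {n q : ℕ} {D : UF F q} {k r : ℕ}

theorem sv_sum {ι : Type*} (s : ↥(Cfsg.SU n F q)) (t : Finset ι) (v : ι → Fin n → F) :
    sv s (∑ i ∈ t, v i) = ∑ i ∈ t, sv s (v i) := by
  unfold sv
  rw [mulVec_sum]

/-- two elements of `SU` agreeing on a frame are equal -/
theorem Frame.ext_sv' (B : Frame D n k r) {s t : ↥(Cfsg.SU n F q)}
    (he : ∀ i, sv s (B.e i) = sv t (B.e i)) (hf : ∀ i, sv s (B.f i) = sv t (B.f i))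
    (hw : ∀ i, sv s (B.w i) = sv t (B.w i)) : s = t := by
  apply ext_sv
  intro x
  rw [B.complete x]
  simp only [sv_add, sv_sum, sv_smul, he, hf, hw]

/-- decomposition in a frame of rank one -/
theorem Frame.decomp1 (B : Frame D n 1 1) (x : Fin n → F) :
    x = H D x (B.f 0) • B.e 0 + H D x (B.e 0) • B.f 0 + H D x (B.w 0) • B.w 0 := by
  have h := B.complete x
  rw [Fin.sum_univ_one, Fin.sum_univ_one, Fin.sum_univ_one] at h
  exact h

/-- the condition on the coordinates of an element of `Q_e` -/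
def UOK (D : UF F q) (a b : F) : Prop := b + D.τ b + a * D.τ a = 0

theorem UOK.elok (B : Frame D n 1 1) {a b : F} (h : UOK D a b) :
    ELOK D (B.e 0) (a • B.w 0) b := by
  refine ⟨B.ee 0 0, ?_, ?_⟩
  · rw [H_smul_left, B.we, mul_zero]
  · rw [H_smul_left, H_smul_right, B.ww, if_pos rfl, mul_one]
    exact h

theorem UOK.zero_iff {b : F} : UOK D 0 b ↔ Skew D b := by
  unfold UOK Skew
  rw [zero_mul, add_zero]
  constructor
  · intro h; linear_combination h
  · intro h; linear_combination h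

theorem UOK.mul {a b a' b' : F} (h : UOK D a b) (h' : UOK D a' b') :
    UOK D (a + a') (b + b' - a' * D.τ a) := by
  unfold UOK at *
  simp only [map_add, map_sub, map_mul, D.hτ2]
  linear_combination h + h'

theorem exists_UOK (D : UF F q) (a : F) : ∃ b, UOK D a b := by
  obtain ⟨b, hb⟩ := D.tr_surj (-(a * D.τ a)) (by rw [map_neg, fixed_mul_tau])
  exact ⟨b, by unfold UOK; linear_combination hb⟩

/-- the elements of `Q_e` in coordinates -/
noncomputable def uu (B : Frame D n 1 1) (a b : F) : ↥(Cfsg.SU n F q) :=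
  EL D (B.e 0) (a • B.w 0) b

theorem sv_uu (B : Frame D n 1 1) {a b : F} (h : UOK D a b) (x : Fin n → F) :
    sv (uu B a b) x = x + (H D x (B.e 0) * a) • B.w 0 - (D.τ a * H D x (B.w 0)) • B.e 0 +
      (b * H D x (B.e 0)) • B.e 0 := by
  unfold uu
  rw [sv_EL D (h.elok B), H_smul_right, smul_smul]

theorem sv_uu_e (B : Frame D n 1 1) {a b : F} (h : UOK D a b) :
    sv (uu B a b) (B.e 0) = B.e 0 := by
  rw [sv_uu B h, B.ee, B.ew]
  simp

theorem sv_uu_w (B : Frame D n 1 1) {a b : F} (h : UOK D a b) :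
    sv (uu B a b) (B.w 0) = B.w 0 - D.τ a • B.e 0 := by
  rw [sv_uu B h, B.we, B.ww, if_pos rfl]
  simp

theorem sv_uu_f (B : Frame D n 1 1) {a b : F} (h : UOK D a b) :
    sv (uu B a b) (B.f 0) = B.f 0 + a • B.w 0 + b • B.e 0 := by
  rw [sv_uu B h, B.fe, if_pos rfl, B.fw]
  simp

theorem uu_mul (B : Frame D n 1 1) {a b a' b' : F} (h : UOK D a b) (h' : UOK D a' b') :
    uu B a b * uu B a' b' = (uu B (a + a') (b + b' - a' * D.τ a) : ↥(Cfsg.SU n F q)) := by
  unfold uu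
  rw [EL_mul D (h.elok B) (h'.elok B), ← add_smul, H_smul_left, H_smul_right, B.ww, if_pos rfl,
    mul_one]

theorem uu_zero (B : Frame D n 1 1) : (uu B 0 0 : ↥(Cfsg.SU n F q)) = 1 := by
  unfold uu
  rw [zero_smul, EL_zero D (B.ee 0 0)]

theorem uu_mem_Qg (B : Frame D n 1 1) {a b : F} (h : UOK D a b) :
    (uu B a b : ↥(Cfsg.SU n F q)) ∈ Qg D (B.e 0) := EL_mem_Qg D (h.elok B)

theorem uu_inj (B : Frame D n 1 1) {a b a' b' : F} (h : UOK D a b) (h' : UOK D a' b')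
    (heq : (uu B a b : ↥(Cfsg.SU n F q)) = uu B a' b') : a = a' ∧ b = b' := by
  have h1 := congrArg (fun s => sv s (B.f 0)) heq
  simp only [sv_uu_f B h, sv_uu_f B h'] at h1
  have h2 := congrArg (fun v => H D v (B.w 0)) h1
  have h3 := congrArg (fun v => H D v (B.f 0)) h1
  simp only [H_add_left, H_smul_left, B.fw, B.ww, B.ew, B.ff, B.wf, B.ef, if_true] at h2 h3
  constructor
  · linear_combination h2
  · linear_combination h3

theorem uu_tr (B : Frame D n 1 1) (b : F) :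
    (uu B 0 b : ↥(Cfsg.SU n F q)) = EL D (B.e 0) 0 b := by
  unfold uu
  rw [zero_smul]

/-- an element fixing `e` and acting trivially on `e^⊥/e` lies in `Q_e` -/
theorem eq_uu_of_fix (B : Frame D n 1 1) {s : ↥(Cfsg.SU n F q)} (hs : sv s (B.e 0) = B.e 0)
    (hw : H D (sv s (B.w 0)) (B.w 0) = 1) : ∃ a b, UOK D a b ∧ s = uu B a b := by
  obtain ⟨c, hc⟩ : ∃ c, c = H D (sv s (B.w 0)) (B.f 0) := ⟨_, rfl⟩
  have h1 : H D (sv s (B.w 0)) (B.e 0) = 0 := by
    conv_lhs => rw [← hs]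
    rw [H_sv, B.we]
  have hsw : sv s (B.w 0) = B.w 0 + c • B.e 0 := by
    have := B.decomp1 (sv s (B.w 0))
    rw [h1, hw, ← hc, zero_smul, add_zero, one_smul] at this
    rw [this]; abel
  obtain ⟨y, hy⟩ : ∃ y, y = sv s (B.f 0) := ⟨_, rfl⟩
  have h2 : H D y (B.e 0) = 1 := by
    rw [hy]
    conv_lhs => rw [← hs]
    rw [H_sv, B.fe, if_pos rfl]
  have h3 : H D y y = 0 := by rw [hy, H_sv, B.ff]
  have h4 : H D y (B.w 0) = -D.τ c := by
    have : H D y (sv s (B.w 0)) = 0 := by rw [hy, H_sv, B.fw]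
    rw [hsw, H_add_right, H_smul_right, h2, mul_one] at this
    linear_combination this
  obtain ⟨b, hb⟩ : ∃ b, b = H D y (B.f 0) := ⟨_, rfl⟩
  have hyd : y = b • B.e 0 + B.f 0 + (-D.τ c) • B.w 0 := by
    have := B.decomp1 y
    rw [h2, h4, ← hb, one_smul] at this
    exact this
  have hU : UOK D (-D.τ c) b := by
    unfold UOK
    have h5 := h3
    rw [hyd] at h5
    simp only [H_add_left, H_add_right, H_smul_left, H_smul_right, B.ee, B.ef, B.ew, B.fe, B.ff,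
      B.fw, B.we, B.wf, B.ww, if_true, map_neg, D.hτ2] at h5
    rw [map_neg, D.hτ2]
    linear_combination h5
  refine ⟨-D.τ c, b, hU, ?_⟩
  apply B.ext_sv'
  · intro i
    rw [Subsingleton.elim i 0, hs, sv_uu_e B hU]
  · intro i
    rw [Subsingleton.elim i 0, ← hy, sv_uu_f B hU, hyd]
    abel
  · intro i
    rw [Subsingleton.elim i 0, hsw, sv_uu_w B hU, map_neg, D.hτ2, neg_smul, sub_neg_eq_add]

theorem sv_pow_smul {s : ↥(Cfsg.SU n F q)} {e : Fin n → F} {μ : F} (h : sv s e = μ • e) (m : ℕ) :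
    sv (s ^ m) e = μ ^ m • e := by
  induction m with
  | zero => rw [pow_zero, pow_zero, sv_one, one_smul]
  | succ m ih => rw [pow_succ, sv_mul, h, sv_smul, ih, smul_smul, pow_succ, mul_comm]

variable [Fintype F] (p : ℕ) [Fact p.Prime] [CharP F p]

include p in
/-- a `p`-element stabilising the point `e` lies in `Q_e` -/
theorem eq_uu_of_pow (B : Frame D n 1 1) {s : ↥(Cfsg.SU n F q)} {m : ℕ} (hm : s ^ (p ^ m) = 1)
    {μ : F} (hs : sv s (B.e 0) = μ • B.e 0) : ∃ a b, UOK D a b ∧ s = uu B a b := by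
  have he0 := B.e_ne_zero 0
  have hμ : μ = 1 := by
    apply eq_one_of_pow_p p (m := m)
    have h1 := sv_pow_smul hs (p ^ m)
    rw [hm, sv_one] at h1
    have h2 : (μ ^ p ^ m - 1) • B.e 0 = 0 := by rw [sub_smul, one_smul, ← h1, sub_self]
    rcases smul_eq_zero.1 h2 with h3 | h3
    · exact sub_eq_zero.1 h3
    · exact absurd h3 he0
  rw [hμ, one_smul] at hs
  -- the action on `e^⊥ / e`
  have h1 : ∀ j : ℕ, H D (sv (s ^ j) (B.w 0)) (B.e 0) = 0 := by
    intro j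
    have : sv (s ^ j) (B.e 0) = B.e 0 := by
      have h0 : sv s (B.e 0) = (1 : F) • B.e 0 := by rw [one_smul]; exact hs
      have := sv_pow_smul h0 j
      rwa [one_pow, one_smul] at this
    conv_lhs => rw [← this]
    rw [H_sv, B.we]
  obtain ⟨ν, hν⟩ : ∃ ν, ν = H D (sv s (B.w 0)) (B.w 0) := ⟨_, rfl⟩
  have h2 : ∀ j : ℕ, H D (sv (s ^ j) (B.w 0)) (B.w 0) = ν ^ j := by
    intro j
    induction j with
    | zero => rw [pow_zero, pow_zero, sv_one, B.ww, if_pos rfl]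
    | succ j ih =>
      have hd := B.decomp1 (sv (s ^ j) (B.w 0))
      rw [h1 j, ih, zero_smul, add_zero] at hd
      rw [pow_succ', sv_mul, hd, sv_add, sv_smul, sv_smul, hs, H_add_left, H_smul_left, H_smul_left,
        B.ew, mul_zero, zero_add, ← hν, pow_succ]
  have hν1 : ν = 1 := by
    apply eq_one_of_pow_p p (m := m)
    rw [← h2, hm, sv_one, B.ww, if_pos rfl]
  exact eq_uu_of_fix B hs (by rw [← hν, hν1])

end

section

open Matrix

variable {F : Type*} [Field F] {n q : ℕ} {D : UF F q} {k r : ℕ}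

/-- if `pr s` conjugates a nontrivial transvection with centre `e` into `Tb e'`, then `s e ∥ e'` -/
theorem par_of_conj_mem (hn : 3 ≤ n) {e e' : Fin n → F} (he0 : e ≠ 0) (he : H D e e = 0)
    (he0' : e' ≠ 0) (he' : H D e' e' = 0) {s : ↥(Cfsg.SU n F q)} {a : F} (ha : Skew D a)
    (ha0 : a ≠ 0) (h : pr s * pr (EL D e 0 a) * (pr s)⁻¹ ∈ Tb D e') : Par (sv s e) e' := by
  have hse : H D (sv s e) (sv s e) = 0 := by rw [H_sv, he]
  have hse0 : sv s e ≠ 0 := sv_ne_zero s he0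
  rw [← map_inv, ← map_mul, ← map_mul, EL_conj D ((ELOK_zero_iff D).2 ⟨he, ha⟩), sv_zero] at h
  obtain ⟨a', ha', h2⟩ := (mem_Tb D he').1 h
  have ha0' : a' ≠ 0 := by
    rintro rfl
    rw [EL_zero D he', map_one] at h2
    exact tr_not_mem_center D (by omega) hse0 hse ha ha0 (pr_eq_one_iff.1 h2)
  exact par_of_common D hn hse0 hse he0' he' ha ha' ha0 ha0' h2

variable [Fintype F] (p : ℕ) [Fact p.Prime] [CharP F p]

include p in
/-- an automorphism fixing the point `e` preserves the image of `Q_e` -/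
theorem exists_uu_image (hn : 3 ≤ n) (B : Frame D n 1 1) {θ : Cfsg.PSU n F q ≃* Cfsg.PSU n F q}
    (hθ : Img D θ (B.e 0) (B.e 0)) {a b : F} (h : UOK D a b) :
    ∃ a' b', UOK D a' b' ∧ θ (pr (uu B a b)) = pr (uu B a' b') := by
  have he := B.ee 0 0
  have he0 := B.e_ne_zero 0
  have hpow : (θ (pr (uu B a b))) ^ (p ^ 2) = 1 := by
    rw [← map_pow, ← map_pow, Qg_pow D p he (uu_mem_Qg B h), map_one, map_one]
  obtain ⟨s', hs', hs'pow⟩ := exists_p_lift (D := D) p (by omega) hpow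
  obtain ⟨c, hc, hc0⟩ := exists_skew_ne_zero D
  have h1 : θ.symm (pr (EL D (B.e 0) 0 c)) ∈ Tb D (B.e 0) := by
    have h2 := hθ.symm
    unfold Img at h2
    rw [← h2]
    exact Subgroup.mem_map_of_mem _ ((mem_Tb D he).2 ⟨c, hc, rfl⟩)
  obtain ⟨c', hc', h3⟩ := (mem_Tb D he).1 h1
  have h4 : pr (uu B a b) * θ.symm (pr (EL D (B.e 0) 0 c)) * (pr (uu B a b))⁻¹ =
      θ.symm (pr (EL D (B.e 0) 0 c)) := by
    rw [h3, ← map_inv, ← map_mul, ← map_mul]
    congr 1
    rw [Tg_comm D he (sv_uu_e B h) ((mem_Tg D he).2 ⟨c', hc', rfl⟩), mul_inv_cancel_right]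
  have h5 := congrArg θ h4
  rw [map_mul, map_mul, map_inv, MulEquiv.apply_symm_apply, ← hs'] at h5
  have h6 : Par (sv s' (B.e 0)) (B.e 0) := by
    apply par_of_conj_mem hn he0 he he0 he hc hc0
    rw [h5]
    exact (mem_Tb D he).2 ⟨c, hc, rfl⟩
  obtain ⟨μ, hμ0, hμ⟩ := h6
  have hs'e : sv s' (B.e 0) = μ⁻¹ • B.e 0 := by
    conv_rhs => rw [hμ]
    rw [smul_smul, inv_mul_cancel₀ hμ0, one_smul]
  obtain ⟨a', b', hU, rfl⟩ := eq_uu_of_pow p B hs'pow hs'e
  exact ⟨a', b', hU, hs'.symm⟩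

end

section

open Matrix

variable {F : Type*} [Field F] {q : ℕ} (D : UF F q)

/-- the character of the torus on `Q_e / T_e` -/
def chi (l : F) : F := D.τ l ^ 2 / l
/-- the norm, the character of the torus on `T_e` -/
def nrm (l : F) : F := l * D.τ l

theorem chi_fixed {l : F} (h : D.τ l = l) (hl : l ≠ 0) : chi D l = l := by
  unfold chi
  rw [h]
  field_simp

theorem tau_chi (l : F) : D.τ (chi D l) = l ^ 2 / D.τ l := by
  unfold chi
  rw [map_div₀, map_pow, D.hτ2]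

theorem chi_zero : chi D 0 = 0 := by
  unfold chi
  rw [div_zero]

/-- there is an element whose cube is not in the fixed field -/
theorem exists_cube_not_fixed [Fintype F] (hF : Fintype.card F = q ^ 2) (hq : 2 < q) :
    ∃ l : F, l ≠ 0 ∧ D.τ l ^ 3 ≠ l ^ 3 := by
  classical
  obtain ⟨g, hg⟩ := IsCyclic.exists_generator (α := Fˣ)
  have hord : orderOf g = q ^ 2 - 1 := by
    rw [orderOf_eq_card_of_forall_mem_zpowers hg, Nat.card_eq_fintype_card, Fintype.card_units, hF]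
  refine ⟨g, g.ne_zero, ?_⟩
  intro h1
  rw [D.hτ, ← pow_mul] at h1
  have h3 : g ^ (q * 3 - 3) = 1 := by
    apply Units.ext
    rw [Units.val_pow_eq_pow_val, Units.val_one]
    have hg0 : (g : F) ^ 3 ≠ 0 := pow_ne_zero _ g.ne_zero
    have : (g : F) ^ (q * 3 - 3) * (g : F) ^ 3 = 1 * (g : F) ^ 3 := by
      rw [← pow_add, Nat.sub_add_cancel (by omega), h1, one_mul]
    exact mul_right_cancel₀ hg0 this
  have h4 := orderOf_dvd_of_pow_eq_one h3
  rw [hord] at h4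
  have h5 : q ^ 2 - 1 ≤ q * 3 - 3 := Nat.le_of_dvd (by omega) h4
  have : q * 3 < q ^ 2 + 2 := by nlinarith
  omega

/-- the abstract properties of the map induced on `Q_e` by an automorphism fixing the points
`e` and `f` -/
structure RelOK (Rl : F → F → F → F → Prop) : Prop where
  ex : ∀ a b, UOK D a b → ∃ a' b', Rl a b a' b'
  ok : ∀ {a b a' b'}, Rl a b a' b' → UOK D a b ∧ UOK D a' b'
  un : ∀ {a b a' b' a'' b''}, Rl a b a' b' → Rl a b a'' b'' → a' = a'' ∧ b' = b''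
  mul : ∀ {a₁ b₁ a₁' b₁' a₂ b₂ a₂' b₂'}, Rl a₁ b₁ a₁' b₁' → Rl a₂ b₂ a₂' b₂' →
    Rl (a₁ + a₂) (b₁ + b₂ - a₂ * D.τ a₁) (a₁' + a₂') (b₁' + b₂' - a₂' * D.τ a₁')
  z : ∀ {b a' b'}, Rl 0 b a' b' → a' = 0
  z' : ∀ {a b b'}, Rl a b 0 b' → a = 0
  tor : ∀ l : F, l ≠ 0 → ∃ c' d' : F, ∀ {a b a' b'}, Rl a b a' b' →
    Rl (chi D l * a) (nrm D l * b) (c' * a') (d' * b')

variable {D}

/-- the induced map on `Q_e / T_e` is semilinear -/
theorem RelOK.semilinear [Fintype F] (hF : Fintype.card F = q ^ 2) (hq : 2 < q)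
    {Rl : F → F → F → F → Prop} (h : RelOK D Rl) :
    ∃ (α : F) (σ : F ≃+* F), α ≠ 0 ∧ ∀ {a b a' b'}, Rl a b a' b' → a' = α * σ a := by
  classical
  choose bb hbb using exists_UOK D
  have hex : ∀ a, ∃ a' b', Rl a (bb a) a' b' := fun a => h.ex a (bb a) (hbb a)
  choose A Bv hAB using hex
  have hA : ∀ {a b a' b'}, Rl a b a' b' → a' = A a := by
    intro a b a' b' hr
    have hs : UOK D 0 (b - bb a) := by
      have h1 := (h.ok hr).1
      have h2 := hbb a
      unfold UOK at *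
      simp only [map_sub, zero_mul, add_zero]
      linear_combination h1 - h2
    obtain ⟨a₀, s', hr0⟩ := h.ex 0 _ hs
    have ha₀ : a₀ = 0 := h.z hr0
    subst ha₀
    have hm := h.mul (hAB a) hr0
    have e2 : bb a + (b - bb a) - 0 * D.τ a = b := by ring
    rw [add_zero, e2, add_zero] at hm
    exact (h.un hr hm).1
  have hadd : ∀ a a', A (a + a') = A a + A a' := by
    intro a a'
    exact (hA (h.mul (hAB a) (hAB a'))).symm
  have hA0 : A 0 = 0 := by
    have := hadd 0 0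
    rw [add_zero] at this
    linear_combination -this
  have hinj : ∀ a, A a = 0 → a = 0 := by
    intro a ha
    have := hAB a
    rw [ha] at this
    exact h.z' this
  have htor : ∀ l, l ≠ 0 → ∃ c', ∀ a, A (chi D l * a) = c' * A a := by
    intro l hl
    obtain ⟨c', d', hcd⟩ := h.tor l hl
    exact ⟨c', fun a => (hA (hcd (hAB a))).symm⟩
  obtain ⟨R, hR⟩ : ∃ R : Set F, R = {c | ∃ c', ∀ a, A (c * a) = c' * A a} := ⟨_, rfl⟩
  have hR0 : (0 : F) ∈ R := by
    rw [hR]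
    exact ⟨0, fun a => by rw [zero_mul, zero_mul, hA0]⟩
  have hRadd : ∀ c d, c ∈ R → d ∈ R → c + d ∈ R := by
    intro c d hc hd
    rw [hR] at hc hd ⊢
    obtain ⟨c', hc⟩ := hc
    obtain ⟨d', hd⟩ := hd
    exact ⟨c' + d', fun a => by rw [add_mul, hadd, hc, hd, add_mul]⟩
  have hRmul : ∀ c d, c ∈ R → d ∈ R → c * d ∈ R := by
    intro c d hc hd
    rw [hR] at hc hd ⊢
    obtain ⟨c', hc⟩ := hc
    obtain ⟨d', hd⟩ := hd
    exact ⟨c' * d', fun a => by rw [mul_assoc, hc, hd, mul_assoc]⟩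
  have hRK : ∀ c, D.τ c = c → c ∈ R := by
    intro c hc
    by_cases hc0 : c = 0
    · rw [hc0]; exact hR0
    · obtain ⟨c', hc'⟩ := htor c hc0
      rw [chi_fixed D hc hc0] at hc'
      rw [hR]
      exact ⟨c', hc'⟩
  obtain ⟨l₀, hl₀, hl₀3⟩ := exists_cube_not_fixed D hF hq
  obtain ⟨c₀', hc₀'⟩ := htor l₀ hl₀
  obtain ⟨c₀, hc₀⟩ : ∃ c₀, c₀ = chi D l₀ := ⟨_, rfl⟩
  have hc₀R : c₀ ∈ R := by
    rw [hR, hc₀]
    exact ⟨c₀', hc₀'⟩
  have hτl : D.τ l₀ ≠ 0 := (map_ne_zero D.τ).2 hl₀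
  have hc₀nf : D.τ c₀ ≠ c₀ := by
    rw [hc₀, tau_chi]
    unfold chi
    intro heq
    apply hl₀3
    field_simp at heq
    linear_combination -heq
  have hall : ∀ x, x ∈ R := by
    intro x
    have hden : c₀ - D.τ c₀ ≠ 0 := sub_ne_zero.2 (Ne.symm hc₀nf)
    obtain ⟨k₂, hk₂d⟩ : ∃ k₂, k₂ = (x - D.τ x) / (c₀ - D.τ c₀) := ⟨_, rfl⟩
    have hk₂ : D.τ k₂ = k₂ := by
      rw [hk₂d]
      exact fixed_div_skew D (skew_sub D x) (skew_sub D c₀)
    have hk₂' : k₂ * (c₀ - D.τ c₀) = x - D.τ x := by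
      rw [hk₂d]; field_simp
    obtain ⟨k₁, hk₁d⟩ : ∃ k₁, k₁ = x - k₂ * c₀ := ⟨_, rfl⟩
    have hk₁ : D.τ k₁ = k₁ := by
      rw [hk₁d, map_sub, map_mul, hk₂]
      linear_combination hk₂'
    have hx : x = k₁ + k₂ * c₀ := by rw [hk₁d]; ring
    rw [hx]
    exact hRadd _ _ (hRK _ hk₁) (hRmul _ _ (hRK _ hk₂) hc₀R)
  have hα : A 1 ≠ 0 := fun h0 => one_ne_zero (hinj 1 h0)
  obtain ⟨α, hαd⟩ : ∃ α, α = A 1 := ⟨_, rfl⟩
  rw [← hαd] at hα
  have hsl : ∀ c a, A (c * a) = (A c / α) * A a := by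
    intro c a
    have hc := hall c
    rw [hR] at hc
    obtain ⟨c', hc'⟩ := hc
    have h1 := hc' 1
    rw [mul_one, ← hαd] at h1
    rw [hc' a, h1]
    field_simp
  let σ₀ : F →+* F :=
    { toFun := fun c => A c / α
      map_one' := by
        change A 1 / α = 1
        rw [← hαd]; exact div_self hα
      map_mul' := by
        intro c d
        change A (c * d) / α = (A c / α) * (A d / α)
        rw [hsl c d]; ring
      map_zero' := by
        change A 0 / α = 0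
        rw [hA0, zero_div]
      map_add' := by
        intro c d
        change A (c + d) / α = A c / α + A d / α
        rw [hadd, add_div] }
  have hbij : Function.Bijective σ₀ := Finite.injective_iff_bijective.1 σ₀.injective
  refine ⟨α, RingEquiv.ofBijective σ₀ hbij, hα, ?_⟩
  intro a b a' b' hr
  rw [hA hr]
  change A a = α * (A a / α)
  field_simp

end

section

open Matrix

variable {F : Type*} [Field F] {q : ℕ} {D : UF F q}

/-- every skew element is of the form `a - τ a` -/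
theorem exists_sub_tau {s : F} (hs : Skew D s) : ∃ a, a - D.τ a = s := by
  obtain ⟨c₀, hc₀, hc₀0⟩ := exists_skew_ne_zero D
  obtain ⟨a₀, ha₀⟩ := D.tr_surj (s / c₀) (fixed_div_skew D hs hc₀)
  have hc₀' : D.τ c₀ = -c₀ := hc₀
  refine ⟨c₀ * a₀, ?_⟩
  rw [map_mul, hc₀']
  have : c₀ * (a₀ + D.τ a₀) = s := by rw [ha₀]; field_simp
  linear_combination this

/-- if the induced map on `Q_e / T_e` is trivial, the map on `Q_e` is trivial -/
theorem RelOK.trivial_of_id [Fintype F] (hF : Fintype.card F = q ^ 2) (hq : 2 < q)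
    {Rl : F → F → F → F → Prop} (h : RelOK D Rl)
    (hid : ∀ {a b a' b'}, Rl a b a' b' → a' = a) : ∀ {a b a' b'}, Rl a b a' b' → b' = b := by
  classical
  choose bb hbb using exists_UOK D
  have hex : ∀ a, ∃ b', Rl a (bb a) a b' := by
    intro a
    obtain ⟨a', b', hr⟩ := h.ex a (bb a) (hbb a)
    have := hid hr
    subst this
    exact ⟨b', hr⟩
  choose Bv hB using hex
  -- step 1 : trivial on the centre
  have h1 : ∀ {s s'}, Rl 0 s 0 s' → s' = s := by
    intro s s' hr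
    have hs : Skew D s := UOK.zero_iff.1 (h.ok hr).1
    obtain ⟨a, ha⟩ := exists_sub_tau hs
    have m1 := h.mul (hB a) (hB 1)
    have m2 := h.mul (hB 1) (hB a)
    have m3 := h.mul m2 hr
    have e1 : (1 : F) + a + 0 = a + 1 := by ring
    have e2 : bb 1 + bb a - a * D.τ 1 + s - 0 * D.τ (1 + a) = bb a + bb 1 - 1 * D.τ a := by
      rw [map_one]; linear_combination -ha
    rw [e1, e2] at m3
    have := (h.un m1 m3).2
    rw [map_one] at this
    linear_combination -this + ha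
  have h1' : ∀ s, Skew D s → Rl 0 s 0 s := by
    intro s hs
    obtain ⟨a₀, s', hr⟩ := h.ex 0 s (UOK.zero_iff.2 hs)
    have := hid hr
    subst this
    have := h1 hr
    subst this
    exact hr
  -- step 2
  obtain ⟨δ, hδ⟩ : ∃ δ : F → F, δ = fun a => Bv a - bb a := ⟨_, rfl⟩
  have h2 : ∀ {a b a' b'}, Rl a b a' b' → b' - b = δ a := by
    intro a b a' b' hr
    have ha := hid hr
    subst ha
    have hs : Skew D (b - bb a') := by
      have h3 := (h.ok hr).1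
      have h4 := hbb a'
      unfold UOK at h3 h4
      change D.τ (b - bb a') = -(b - bb a')
      rw [map_sub]
      linear_combination h3 - h4
    have hm := h.mul (hB a') (h1' _ hs)
    have e2 : bb a' + (b - bb a') - 0 * D.τ a' = b := by ring
    rw [add_zero, e2] at hm
    have := (h.un hr hm).2
    rw [hδ]
    change b' - b = Bv a' - bb a'
    rw [this]; ring
  have hBδ : ∀ a, Bv a = bb a + δ a := by
    intro a
    rw [hδ]
    change Bv a = bb a + (Bv a - bb a)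
    ring
  -- step 3 : additivity
  have h3 : ∀ a a', δ (a + a') = δ a + δ a' := by
    intro a a'
    have := h2 (h.mul (hB a) (hB a'))
    rw [← this, hBδ a, hBδ a']
    ring
  have hδ0 : δ 0 = 0 := by
    have := h3 0 0
    rw [add_zero] at this
    linear_combination -this
  have hδneg : ∀ a, δ (-a) = -δ a := by
    intro a
    have := h3 a (-a)
    rw [add_neg_cancel, hδ0] at this
    linear_combination -this
  -- step 4 : the torus
  have h4 : ∀ l, l ≠ 0 → ∀ a, δ (chi D l * a) = nrm D l * δ a := by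
    intro l hl a
    obtain ⟨c', d', hcd⟩ := h.tor l hl
    obtain ⟨s, hs, hs0⟩ := exists_skew_ne_zero D
    have hd' : d' = nrm D l := by
      have h5 := hcd (h1' s hs)
      rw [mul_zero, mul_zero] at h5
      have := h1 h5
      exact mul_right_cancel₀ hs0 this
    have h6 := h2 (hcd (hB a))
    rw [← h6, hd', hBδ a]
    ring
  -- step 5
  obtain ⟨l₀, hl₀, hl₀3⟩ := exists_cube_not_fixed D hF hq
  have hτl : D.τ l₀ ≠ 0 := (map_ne_zero D.τ).2 hl₀
  obtain ⟨l₁, hl₁⟩ : ∃ l₁, l₁ = l₀ / D.τ l₀ := ⟨_, rfl⟩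
  have hl₁0 : l₁ ≠ 0 := by rw [hl₁]; exact div_ne_zero hl₀ hτl
  have hn1 : nrm D l₁ = 1 := by
    unfold nrm
    rw [hl₁, map_div₀, D.hτ2]
    field_simp
  have hc1 : chi D l₁ ≠ 1 := by
    unfold chi
    rw [hl₁, map_div₀, D.hτ2]
    intro heq
    apply hl₀3
    field_simp at heq
    linear_combination heq
  have hδall : ∀ a, δ a = 0 := by
    intro a
    have hne : chi D l₁ - 1 ≠ 0 := sub_ne_zero.2 hc1
    obtain ⟨a₁, ha₁⟩ : ∃ a₁, a₁ = a / (chi D l₁ - 1) := ⟨_, rfl⟩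
    have e : a = chi D l₁ * a₁ + -a₁ := by
      rw [ha₁]; field_simp; ring
    rw [e, h3, hδneg, h4 l₁ hl₁0, hn1, one_mul, add_neg_cancel]
  intro a b a' b' hr
  have := h2 hr
  rw [hδall] at this
  linear_combination this

end

section

open Matrix

variable {F : Type*} [Field F] {n q : ℕ} {D : UF F q} {k r : ℕ}

/-- determinant of the diagonal elements -/
theorem det_dgU (B : Frame D n k r) (μ ν : F) (hμ : μ ≠ 0) (hν : ν ≠ 0) :
    (dgU B μ ν hμ hν : Matrix (Fin n) (Fin n) F).det = μ ^ k * D.τ (μ⁻¹ ^ k) * ν ^ r := by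
  change (R B B (μ • (1 : Matrix (Fin k) (Fin k) F)) (ct D (μ⁻¹ • (1 : Matrix (Fin k) (Fin k) F)))
    (ν • (1 : Matrix (Fin r) (Fin r) F))).det = _
  rw [det_R, det_ct, det_smul, det_smul, det_smul, det_one, det_one, Fintype.card_fin,
    Fintype.card_fin, mul_one, mul_one, mul_one]

theorem tor_aux {l : F} (hl : l ≠ 0) : D.τ l / l ≠ 0 ∧ (D.τ l / l) * D.τ (D.τ l / l) = 1 := by
  have hτl : D.τ l ≠ 0 := (map_ne_zero D.τ).2 hl
  refine ⟨div_ne_zero hτl hl, ?_⟩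
  rw [map_div₀, D.hτ2]
  field_simp

/-- the torus element `e ↦ l e`, `f ↦ τ(l)⁻¹ f`, `w ↦ (τ l / l) w` -/
noncomputable def tor (B : Frame D n 1 1) (l : F) (hl : l ≠ 0) : ↥(Cfsg.SU n F q) :=
  mkSU D (dgU B l (D.τ l / l) hl (tor_aux hl).1 : Matrix (Fin n) (Fin n) F)
    (by
      have hτl : D.τ l ≠ 0 := (map_ne_zero D.τ).2 hl
      rw [det_dgU, pow_one, pow_one, pow_one, map_inv₀]
      field_simp)
    ((H_eq_one_iff_ct D _).2 ((mem_GU_iff_ct _).1 (dgU_mem B l (D.τ l / l) hl (tor_aux hl).1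
      (tor_aux hl).2)))

theorem sv_tor_e (B : Frame D n 1 1) (l : F) (hl : l ≠ 0) :
    sv (tor B l hl) (B.e 0) = l • B.e 0 := by
  unfold tor
  rw [sv_mkSU, ← B.Be_single, dgU_mulVec_e]

theorem sv_tor_f (B : Frame D n 1 1) (l : F) (hl : l ≠ 0) :
    sv (tor B l hl) (B.f 0) = (D.τ l)⁻¹ • B.f 0 := by
  unfold tor
  rw [sv_mkSU, ← B.Bf_single, dgU_mulVec_f]

theorem sv_tor_w (B : Frame D n 1 1) (l : F) (hl : l ≠ 0) :
    sv (tor B l hl) (B.w 0) = (D.τ l / l) • B.w 0 := by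
  unfold tor
  rw [sv_mkSU, ← B.Bw_single, dgU_mulVec_w]

/-- conjugating `Q_e` by an element of the Borel subgroup which is diagonal on `e, w` -/
theorem conj_uu (B : Frame D n 1 1) {s : ↥(Cfsg.SU n F q)} {l ν : F} (hl : l ≠ 0)
    (hse : sv s (B.e 0) = l • B.e 0) (hsw : sv s (B.w 0) = ν • B.w 0) {a b : F}
    (h : UOK D a b) :
    UOK D (D.τ l * ν * a) (l * D.τ l * b) ∧
      s * uu B a b * s⁻¹ = uu B (D.τ l * ν * a) (l * D.τ l * b) := by
  have hτl : D.τ l ≠ 0 := (map_ne_zero D.τ).2 hl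
  have hν1 : ν * D.τ ν = 1 := by
    have h1 : H D (sv s (B.w 0)) (sv s (B.w 0)) = 1 := by rw [H_sv, B.ww, if_pos rfl]
    rw [hsw, H_smul_left, H_smul_right, B.ww, if_pos rfl, mul_one] at h1
    exact h1
  have hU : UOK D (D.τ l * ν * a) (l * D.τ l * b) := by
    unfold UOK at h ⊢
    simp only [map_mul, D.hτ2]
    linear_combination (l * D.τ l) * h + (l * D.τ l * a * D.τ a) * hν1
  refine ⟨hU, ?_⟩
  unfold uu
  rw [EL_conj D (h.elok B), hse, sv_smul, hsw]
  have h2 := EL_smul D (hU.elok B) hl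
  rw [← h2]
  congr 1
  · rw [smul_smul, smul_smul]
    congr 1
    field_simp
  · field_simp

/-- an element stabilising the points `e` and `f` stabilises `w` -/
theorem stab_w (B : Frame D n 1 1) {s : ↥(Cfsg.SU n F q)} {l l' : F} (hl : l ≠ 0) (hl' : l' ≠ 0)
    (hse : sv s (B.e 0) = l • B.e 0) (hsf : sv s (B.f 0) = l' • B.f 0) :
    ∃ ν : F, sv s (B.w 0) = ν • B.w 0 := by
  have h1 : H D (sv s (B.w 0)) (B.e 0) = 0 := by
    have h2 : H D (sv s (B.w 0)) (sv s (B.e 0)) = 0 := by rw [H_sv, B.we]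
    rw [hse, H_smul_right] at h2
    rcases mul_eq_zero.1 h2 with h3 | h3
    · exact absurd h3 ((map_ne_zero D.τ).2 hl)
    · exact h3
  have h1' : H D (sv s (B.w 0)) (B.f 0) = 0 := by
    have h2 : H D (sv s (B.w 0)) (sv s (B.f 0)) = 0 := by rw [H_sv, B.wf]
    rw [hsf, H_smul_right] at h2
    rcases mul_eq_zero.1 h2 with h3 | h3
    · exact absurd h3 ((map_ne_zero D.τ).2 hl')
    · exact h3
  refine ⟨H D (sv s (B.w 0)) (B.w 0), ?_⟩
  have := B.decomp1 (sv s (B.w 0))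
  rw [h1, h1', zero_smul, zero_smul, zero_add, zero_add] at this
  exact this

variable [Fintype F] (p : ℕ) [Fact p.Prime] [CharP F p]

/-- stabilisers of a fixed point are preserved -/
theorem stab_image (hn : 3 ≤ n) {θ : Cfsg.PSU n F q ≃* Cfsg.PSU n F q} {e : Fin n → F}
    (he0 : e ≠ 0) (he : H D e e = 0) (hθ : Img D θ e e) {s s' : ↥(Cfsg.SU n F q)}
    (hss' : θ (pr s) = pr s') {l : F} (hl : l ≠ 0) (hse : sv s e = l • e) :
    ∃ l' : F, l' ≠ 0 ∧ sv s' e = l' • e := by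
  have i1 : Img D θ (sv s e) (sv s' e) := img_sv hθ he he hss'
  have i2 : Img D θ (sv s e) e := hθ.par_left he ⟨l, hl, hse⟩
  exact Img.unique hn i2 i1 he0 he (sv_ne_zero s' he0) (by rw [H_sv, he])

/-- the relation induced by `θ` on the coordinates of `Q_e` -/
def URel (B : Frame D n 1 1) (θ : Cfsg.PSU n F q ≃* Cfsg.PSU n F q) (a b a' b' : F) : Prop :=
  UOK D a b ∧ UOK D a' b' ∧ θ (pr (uu B a b)) = pr (uu B a' b')

theorem pr_uu_inj (hn : 2 ≤ n) (B : Frame D n 1 1) {a b a' b' : F} (h : UOK D a b)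
    (h' : UOK D a' b') (heq : pr (uu B a b) = pr (uu B a' b')) : a = a' ∧ b = b' :=
  uu_inj B h h' (eq_of_pr_eq_of_fix D hn heq (B.e_ne_zero 0) (sv_uu_e B h) (sv_uu_e B h'))

theorem mem_Tb_uu (B : Frame D n 1 1) {x : Cfsg.PSU n F q} (hx : x ∈ Tb D (B.e 0)) :
    ∃ c, UOK D 0 c ∧ x = pr (uu B 0 c) := by
  obtain ⟨c, hc, rfl⟩ := (mem_Tb D (B.ee 0 0)).1 hx
  exact ⟨c, UOK.zero_iff.2 hc, by rw [uu_tr]⟩

theorem uu_mem_Tb (B : Frame D n 1 1) {c : F} (hc : UOK D 0 c) :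
    pr (uu B 0 c) ∈ Tb D (B.e 0) := by
  rw [uu_tr]
  exact (mem_Tb D (B.ee 0 0)).2 ⟨c, UOK.zero_iff.1 hc, rfl⟩

include p in
theorem urel_ok (hn : 3 ≤ n) (B : Frame D n 1 1) {θ : Cfsg.PSU n F q ≃* Cfsg.PSU n F q}
    (hθ : FixFr B θ) : RelOK D (URel B θ) := by
  have he := B.ee 0 0
  have he0 := B.e_ne_zero 0
  have hθe : Img D θ (B.e 0) (B.e 0) := hθ.1 0
  refine ⟨?_, ?_, ?_, ?_, ?_, ?_, ?_⟩
  · intro a b h
    obtain ⟨a', b', h', heq⟩ := exists_uu_image p hn B hθe h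
    exact ⟨a', b', h, h', heq⟩
  · intro a b a' b' h
    exact ⟨h.1, h.2.1⟩
  · intro a b a' b' a'' b'' h h'
    exact pr_uu_inj (by omega) B h.2.1 h'.2.1 (h.2.2.symm.trans h'.2.2)
  · intro a₁ b₁ a₁' b₁' a₂ b₂ a₂' b₂' h₁ h₂
    refine ⟨h₁.1.mul h₂.1, h₁.2.1.mul h₂.2.1, ?_⟩
    rw [← uu_mul B h₁.1 h₂.1, ← uu_mul B h₁.2.1 h₂.2.1, map_mul, map_mul, map_mul, h₁.2.2, h₂.2.2]
  · intro b a' b' h
    have h1 : θ (pr (uu B 0 b)) ∈ Tb D (B.e 0) := by
      have h2 := hθe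
      unfold Img at h2
      rw [← h2]
      exact Subgroup.mem_map_of_mem _ (uu_mem_Tb B h.1)
    obtain ⟨c, hc, h3⟩ := mem_Tb_uu B h1
    rw [h.2.2] at h3
    exact (pr_uu_inj (by omega) B h.2.1 hc h3).1
  · intro a b b' h
    have h1 : θ.symm (pr (uu B 0 b')) ∈ Tb D (B.e 0) := by
      have h2 := hθe.symm
      unfold Img at h2
      rw [← h2]
      exact Subgroup.mem_map_of_mem _ (uu_mem_Tb B h.2.1)
    obtain ⟨c, hc, h3⟩ := mem_Tb_uu B h1
    rw [← h.2.2, MulEquiv.symm_apply_apply] at h3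
    exact (pr_uu_inj (by omega) B h.1 hc h3).1
  · intro l hl
    obtain ⟨s', hs'⟩ := pr_surjective (θ (pr (tor B l hl)))
    have hτl : D.τ l ≠ 0 := (map_ne_zero D.τ).2 hl
    obtain ⟨l', hl', hs'e⟩ := stab_image hn he0 he hθe hs'.symm hl (sv_tor_e B l hl)
    obtain ⟨l'', hl'', hs'f⟩ := stab_image hn (B.f_ne_zero 0) (B.ff 0 0) (hθ.2 0) hs'.symm
      (inv_ne_zero hτl) (sv_tor_f B l hl)
    obtain ⟨ν', hs'w⟩ := stab_w B hl' hl'' hs'e hs'f
    refine ⟨D.τ l' * ν', l' * D.τ l', ?_⟩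
    intro a b a' b' h
    obtain ⟨hU1, hc1⟩ := conj_uu B hl (sv_tor_e B l hl) (sv_tor_w B l hl) h.1
    obtain ⟨hU2, hc2⟩ := conj_uu B hl' hs'e hs'w h.2.1
    have e1 : D.τ l * (D.τ l / l) * a = chi D l * a := by
      unfold chi; field_simp
    have e2 : l * D.τ l * b = nrm D l * b := rfl
    rw [e1, e2] at hU1 hc1
    refine ⟨hU1, ?_, ?_⟩
    · have := hU2
      rwa [mul_assoc (D.τ l') ν' a'] at this ⊢
    · rw [← hc1, map_mul, map_mul, map_mul, map_mul, map_inv, map_inv, h.2.2, ← hs', ← map_inv,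
        ← map_mul, ← map_mul, hc2]

end

section

open Matrix

variable {F : Type*} [Field F] {n q : ℕ} {D : UF F q} {k r : ℕ}

/-- the element of `GU` realising `μ ∘ σ` on `E`, `τ(μ)⁻¹ ∘ σ` on `E'` and `σ` on `W` -/
noncomputable def dgS (B : Frame D n k r) (σ : F ≃+* F) (μ : F) (hμ : μ ≠ 0) : GL (Fin n) F :=
  RU B (B.map σ) (μ • (1 : Matrix (Fin k) (Fin k) F)) (μ⁻¹ • (1 : Matrix (Fin k) (Fin k) F)) 1 1
    (by rw [Matrix.smul_mul, Matrix.mul_smul, Matrix.one_mul, smul_smul, mul_inv_cancel₀ hμ, one_smul])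
    (by rw [Matrix.smul_mul, Matrix.mul_smul, Matrix.one_mul, smul_smul, inv_mul_cancel₀ hμ, one_smul])
    (Matrix.mul_one 1) (Matrix.mul_one 1)

theorem dgS_mem (B : Frame D n k r) (σ : F ≃+* F) (μ : F) (hμ : μ ≠ 0) :
    dgS B σ μ hμ ∈ Cfsg.GU n F q :=
  RU_mem _ _ _ _ _ _ _ _ _ _ (by rw [ct_one, Matrix.one_mul])

theorem smv_dgS_e (B : Frame D n k r) (σ : F ≃+* F) (μ : F) (hμ : μ ≠ 0) (a : Fin k → F) :
    smv (dgS B σ μ hμ : Matrix (Fin n) (Fin n) F) σ (B.Be *ᵥ a) = μ • (B.Be *ᵥ sg σ a) := by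
  rw [smv_eq_sg, B.sg_Be]
  change R B (B.map σ) _ _ _ *ᵥ _ = _
  rw [R_mulVec_e, smul_mulVec, one_mulVec, mulVec_smul]

theorem smv_dgS_f (B : Frame D n k r) (σ : F ≃+* F) (μ : F) (hμ : μ ≠ 0) (a : Fin k → F) :
    smv (dgS B σ μ hμ : Matrix (Fin n) (Fin n) F) σ (B.Bf *ᵥ a) =
      (D.τ μ)⁻¹ • (B.Bf *ᵥ sg σ a) := by
  rw [smv_eq_sg, B.sg_Bf]
  change R B (B.map σ) _ _ _ *ᵥ _ = _
  rw [R_mulVec_f, ct_smul, ct_one, smul_mulVec, one_mulVec, mulVec_smul, map_inv₀]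

theorem smv_dgS_w (B : Frame D n k r) (σ : F ≃+* F) (μ : F) (hμ : μ ≠ 0) (c : Fin r → F) :
    smv (dgS B σ μ hμ : Matrix (Fin n) (Fin n) F) σ (B.Bw *ᵥ c) = B.Bw *ᵥ sg σ c := by
  rw [smv_eq_sg, B.sg_Bw]
  change R B (B.map σ) _ _ _ *ᵥ _ = _
  rw [R_mulVec_w, one_mulVec]

theorem smv_dgS_e0 (B : Frame D n k r) (σ : F ≃+* F) (μ : F) (hμ : μ ≠ 0) (i : Fin k) :
    smv (dgS B σ μ hμ : Matrix (Fin n) (Fin n) F) σ (B.e i) = μ • B.e i := by
  rw [← B.Be_single, smv_dgS_e, sg_single]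

theorem smv_dgS_f0 (B : Frame D n k r) (σ : F ≃+* F) (μ : F) (hμ : μ ≠ 0) (i : Fin k) :
    smv (dgS B σ μ hμ : Matrix (Fin n) (Fin n) F) σ (B.f i) = (D.τ μ)⁻¹ • B.f i := by
  rw [← B.Bf_single, smv_dgS_f, sg_single]

theorem smv_dgS_w0 (B : Frame D n k r) (σ : F ≃+* F) (μ : F) (hμ : μ ≠ 0) (i : Fin r) :
    smv (dgS B σ μ hμ : Matrix (Fin n) (Fin n) F) σ (B.w i) = B.w i := by
  rw [← B.Bw_single, smv_dgS_w, sg_single]

/-- the action of the standard semilinear maps on `Q_e` -/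
theorem cU_uu (B : Frame D n 1 1) (σ : F ≃+* F) (μ : F) (hμ : μ ≠ 0) {a b : F} (h : UOK D a b) :
    UOK D (D.τ μ * σ a) (μ * D.τ μ * σ b) ∧
      cU (dgS_mem B σ μ hμ) σ (pr (uu B a b)) = pr (uu B (D.τ μ * σ a) (μ * D.τ μ * σ b)) := by
  have hτμ : D.τ μ ≠ 0 := (map_ne_zero D.τ).2 hμ
  have hU : UOK D (D.τ μ * σ a) (μ * D.τ μ * σ b) := by
    unfold UOK at h ⊢
    have h1 := congrArg σ h
    simp only [map_add, map_mul, map_zero, ← tau_sig (D := D)] at h1
    simp only [map_mul, D.hτ2]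
    linear_combination (μ * D.τ μ) * h1
  refine ⟨hU, ?_⟩
  rw [cU_pr]
  congr 1
  unfold uu
  rw [semiSU_EL D (h.elok B) (dgS_mem B σ μ hμ) σ, smv_dgS_e0, smv_smul, smv_dgS_w0]
  have h2 := EL_smul D (hU.elok B) hμ
  rw [← h2]
  congr 1
  · rw [smul_smul]
    congr 1
    field_simp
  · field_simp

theorem UOK_of_iso (B : Frame D n 1 1) {a b : F}
    (h : H D (b • B.e 0 + B.f 0 + a • B.w 0) (b • B.e 0 + B.f 0 + a • B.w 0) = 0) : UOK D a b := by
  unfold UOK
  simp only [H_add_left, H_add_right, H_smul_left, H_smul_right, B.ee, B.ef, B.ew, B.fe, B.ff,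
    B.fw, B.we, B.wf, B.ww, if_true] at h
  linear_combination h

variable [Fintype F] (p : ℕ) [Fact p.Prime] [CharP F p]

include p in
/-- every automorphism of `PSU_3(q)`, `q > 2`, is induced by a semilinear unitary map -/
theorem isSemi_of_rank_one (hF : Fintype.card F = q ^ 2) (hq : 2 < q) (hn : 3 ≤ n)
    (B : Frame D n 1 1) (θ : Cfsg.PSU n F q ≃* Cfsg.PSU n F q) : IsSemi θ := by
  obtain ⟨g₁, hg₁, h1e, h1f⟩ := exists_frame_fix (D := D) p hn B (le_refl 1) θ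
  obtain ⟨θ₁, hθ₁⟩ : ∃ θ₁, θ₁ = θ.trans (cU hg₁ (RingEquiv.refl F)).symm := ⟨_, rfl⟩
  have hF1 : FixFr B θ₁ := by rw [hθ₁]; exact ⟨h1e, h1f⟩
  have hR1 := urel_ok p hn B hF1
  obtain ⟨α, σ, hα, hsl⟩ := hR1.semilinear hF hq
  have hμ : D.τ α ≠ 0 := (map_ne_zero D.τ).2 hα
  obtain ⟨Φ, hΦd⟩ : ∃ Φ, Φ = cU (dgS_mem B σ (D.τ α) hμ) σ := ⟨_, rfl⟩
  have hΦ : FixFr B Φ := by
    rw [hΦd]
    constructor
    · intro i
      have h1 := img_cU (D := D) (B.ee i i) (dgS_mem B σ (D.τ α) hμ) σ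
      rw [smv_dgS_e0] at h1
      refine h1.par_right ?_ ⟨(D.τ α)⁻¹, inv_ne_zero hμ, by
        rw [smul_smul, inv_mul_cancel₀ hμ, one_smul]⟩
      rw [H_smul_left, H_smul_right, B.ee, mul_zero, mul_zero]
    · intro i
      have h1 := img_cU (D := D) (B.ff i i) (dgS_mem B σ (D.τ α) hμ) σ
      rw [smv_dgS_f0, D.hτ2] at h1
      refine h1.par_right ?_ ⟨α, hα, by rw [smul_smul, mul_inv_cancel₀ hα, one_smul]⟩
      rw [H_smul_left, H_smul_right, B.ff, mul_zero, mul_zero]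
  obtain ⟨θ₂, hθ₂⟩ : ∃ θ₂, θ₂ = θ₁.trans Φ.symm := ⟨_, rfl⟩
  have hF2 : FixFr B θ₂ := by rw [hθ₂]; exact hF1.trans hΦ.symm
  have hR2 := urel_ok p hn B hF2
  have hid : ∀ {a b a' b'}, URel B θ₂ a b a' b' → a' = a := by
    intro a b a' b' h
    have h1 : θ₁ (pr (uu B a b)) = Φ (pr (uu B a' b')) := by
      rw [← h.2.2, hθ₂, MulEquiv.trans_apply, MulEquiv.apply_symm_apply]
    obtain ⟨hU, h2⟩ := cU_uu B σ (D.τ α) hμ h.2.1
    rw [hΦd, h2] at h1
    have h3 := hsl ⟨h.1, hU, h1⟩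
    rw [D.hτ2] at h3
    exact σ.injective (mul_left_cancel₀ hα h3)
  have htriv : ∀ {a b a' b'}, URel B θ₂ a b a' b' → b' = b := hR2.trivial_of_id hF hq hid
  have hfix : ∀ a b, UOK D a b → θ₂ (pr (uu B a b)) = pr (uu B a b) := by
    intro a b h
    obtain ⟨a', b', hr⟩ := hR2.ex a b h
    have h1 := hid hr
    subst h1
    have h2 := htriv hr
    subst h2
    exact hr.2.2
  have hall : ∀ x : Fin n → F, x ≠ 0 → H D x x = 0 → Img D θ₂ x x := by
    intro x hx0 hxx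
    by_cases hxe : H D x (B.e 0) = 0
    · have hd := B.decomp1 x
      rw [hxe, zero_smul, add_zero] at hd
      have hxw : H D x (B.w 0) = 0 := by
        have h1 := hxx
        conv at h1 => lhs; rw [hd]
        simp only [H_add_left, H_add_right, H_smul_left, H_smul_right, B.ee, B.ew, B.we, B.ww,
          if_true] at h1
        have h2 : H D x (B.w 0) * D.τ (H D x (B.w 0)) = 0 := by linear_combination h1
        rcases mul_eq_zero.1 h2 with h3 | h3
        · exact h3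
        · exact (map_eq_zero D.τ).1 h3
      rw [hxw, zero_smul, add_zero] at hd
      have hc0 : H D x (B.f 0) ≠ 0 := by
        intro h0
        rw [h0, zero_smul] at hd
        exact hx0 hd
      have hpar : Par (B.e 0) x := ⟨_, hc0, hd⟩
      exact ((hF2.1 0).par_left (B.ee 0 0) hpar).par_right (B.ee 0 0) hpar
    · obtain ⟨t, ht⟩ : ∃ t, t = H D x (B.e 0) := ⟨_, rfl⟩
      rw [← ht] at hxe
      obtain ⟨x', hx'⟩ : ∃ x', x' = t⁻¹ • x := ⟨_, rfl⟩
      have hx'e : H D x' (B.e 0) = 1 := by rw [hx', H_smul_left, ← ht, inv_mul_cancel₀ hxe]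
      have hx'x' : H D x' x' = 0 := by rw [hx', H_smul_left, H_smul_right, hxx, mul_zero, mul_zero]
      have hd := B.decomp1 x'
      rw [hx'e, one_smul] at hd
      obtain ⟨a, ha⟩ : ∃ a, a = H D x' (B.w 0) := ⟨_, rfl⟩
      obtain ⟨b, hb⟩ : ∃ b, b = H D x' (B.f 0) := ⟨_, rfl⟩
      rw [← ha, ← hb] at hd
      have hU : UOK D a b := by
        apply UOK_of_iso B
        rw [← hd]
        exact hx'x'
      have h1 : sv (uu B a b) (B.f 0) = x' := by
        rw [sv_uu_f B hU, hd]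
        abel
      have h2 := img_sv (hF2.2 0) (B.ff 0 0) (B.ff 0 0) (hfix a b hU)
      rw [h1] at h2
      have hpar : Par x' x := ⟨t, hxe, by rw [hx', smul_smul, mul_inv_cancel₀ hxe, one_smul]⟩
      exact (h2.par_left hx'x' hpar).par_right hx'x' hpar
  have h5 := eq_refl_of_img (D := D) hn θ₂ hall
  apply IsSemi.of_trans_symm (isSemi_cU hg₁ (RingEquiv.refl F))
  rw [← hθ₁]
  apply IsSemi.of_trans_symm (isSemi_cU (dgS_mem B σ (D.τ α) hμ) σ)
  rw [← hΦd, ← hθ₂, h5]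
  exact isSemi_refl

include p in
/-- every automorphism of `PSU_n(q)` is induced by a semilinear unitary map -/
theorem isSemi_all (hF : Fintype.card F = q ^ 2) (hn : 3 ≤ n) (hnq : ¬ (n = 3 ∧ q = 2))
    (hq2 : 2 ≤ q) (D : UF F q) (θ : Cfsg.PSU n F q ≃* Cfsg.PSU n F q) : IsSemi θ := by
  obtain ⟨k, r, B, hr⟩ := exists_frame D n
  have hd := B.dim_eq
  by_cases h4 : 4 ≤ n
  · exact isSemi_of_frame (D := D) p hn (by omega) hr B θ
  · have hn3 : n = 3 := by omega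
    have hk : k = 1 := by omega
    have hr1 : r = 1 := by omega
    subst hk hr1
    have hq : 2 < q := by
      rcases Nat.lt_or_ge 2 q with h | h
      · exact h
      · exact absurd ⟨hn3, by omega⟩ hnq
    exact isSemi_of_rank_one p hF hq hn B θ

end

section

open Matrix

variable {F : Type*} [Field F] {n q : ℕ}

theorem charP_of_card_sq [Fintype F] {p f : ℕ} [Fact p.Prime] (hq : q = p ^ f)
    (hF : Fintype.card F = q ^ 2) : CharP F p := by
  have : Fintype.card F = p ^ (2 * f) := by rw [hF, hq, ← pow_mul, mul_comm]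
  exact charP_of_card_eq_prime_pow this

/-- every automorphism of a simple `PSU_n(q)` is induced by a semilinear unitary map -/
theorem isSemi_of_card [Fintype F] {p f : ℕ} [Fact p.Prime] (hq : q = p ^ f)
    (hF : Fintype.card F = q ^ 2) (hn : 3 ≤ n) (hs : ¬ (n = 3 ∧ q = 2))
    (θ : Cfsg.PSU n F q ≃* Cfsg.PSU n F q) : IsSemi θ := by
  haveI : CharP F p := charP_of_card_sq hq hF
  exact isSemi_all p hF hn hs (two_le_q hq hF) (UF.ofCard hq hF) θ

theorem map_refl (M : Matrix (Fin n) (Fin n) F) : M.map (RingEquiv.refl F) = M := by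
  ext i j; rfl

theorem isInnerDiagonal_cU {g : GL (Fin n) F} (hg : g ∈ Cfsg.GU n F q) :
    Cfsg.IsInnerDiagonalAutPSU (cU hg (RingEquiv.refl F)) := by
  refine ⟨g, hg, ?_⟩
  intro s s' h
  apply isInduced_cU hg (RingEquiv.refl F) s s'
  rw [h, map_refl]

theorem isFieldAut_cU (σ : F ≃+* F) :
    Cfsg.IsFieldAutPSUOf σ (cU (one_mem (Cfsg.GU n F q)) σ) := by
  intro s s' h
  apply isInduced_cU (one_mem (Cfsg.GU n F q)) σ s s'
  rw [h, inv_one, Units.val_one, Matrix.one_mul, Matrix.mul_one]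

theorem cU_factor {g : GL (Fin n) F} (hg : g ∈ Cfsg.GU n F q) (σ : F ≃+* F) :
    cU hg σ = cU hg (RingEquiv.refl F) * cU (one_mem (Cfsg.GU n F q)) σ := by
  ext x
  obtain ⟨s, rfl⟩ := pr_surjective x
  rw [MulAut.mul_apply, cU_pr, cU_pr, cU_pr]
  congr 1
  apply mat_injective
  rw [mat_semiSU, mat_semiSU, mat_semiSU, map_refl, inv_one, Units.val_one, Matrix.one_mul,
    Matrix.mul_one]

end

end Cfsg.Agent.Lib.H13.AutPSU
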