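import Mathlib
import Cfsg.Agent.Lib.H13.AutPSU7
import Cfsg.Agent.Lib.H2.Unitary6

/-!
Automorphisms of `PSU_n(q)`, part 8: the homomorphisms `cGU : GU → Aut(PSU)` and `fU : Aut(F) → Aut(PSU)`, the field
automorphism component `psiU : Aut(PSU) → Aut(F)` with kernel the image of `GU`, the outer automorphism group (`outU`) and the
order of the automorphism group (`card_autU`).
-/

set_option autoImplicit false
set_option linter.unusedSectionVars false
set_option linter.unusedVariables false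
set_option linter.unusedSimpArgs false
set_option linter.deprecated false

namespace Cfsg.Agent.Lib.H13.AutPSU

section

open Matrix

variable {F : Type*} [Field F] {n q : ℕ} {D : UF F q}

theorem cU_congr {g g' : GL (Fin n) F} (hg : g ∈ Cfsg.GU n F q) (hg' : g' ∈ Cfsg.GU n F q)
    {σ σ' : F ≃+* F} (h1 : g = g') (h2 : σ = σ') : cU hg σ = cU hg' σ' := by
  subst h1 h2
  rfl

/-- composition of semilinear automorphisms -/
theorem cU_trans {g g' : GL (Fin n) F} (hg : g ∈ Cfsg.GU n F q) (hg' : g' ∈ Cfsg.GU n F q)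
    (σ σ' : F ≃+* F) :
    (cU hg σ).trans (cU hg' σ') =
      cU (mul_mem hg' (gmap_mem_GU σ' hg)) (σ.trans σ') := by
  ext x
  obtain ⟨s, rfl⟩ := pr_surjective x
  rw [MulEquiv.trans_apply, cU_pr, cU_pr, cU_pr]
  congr 1
  apply mat_injective
  rw [mat_semiSU, mat_semiSU, mat_semiSU, _root_.mul_inv_rev, Units.val_mul, Units.val_mul,
    ← map_inv, AutPSL.gmap_coe, AutPSL.gmap_coe]
  have e1 : ((g : Matrix (Fin n) (Fin n) F) * (mat s).map σ *
      ((g⁻¹ : GL (Fin n) F) : Matrix (Fin n) (Fin n) F)).map σ' =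
      (g : Matrix (Fin n) (Fin n) F).map σ' * ((mat s).map σ).map σ' *
      ((g⁻¹ : GL (Fin n) F) : Matrix (Fin n) (Fin n) F).map σ' := by
    rw [Matrix.map_mul, Matrix.map_mul]
  rw [e1]
  have e2 : ((mat s).map σ).map σ' = (mat s).map (σ.trans σ') := by
    ext i j; rfl
  rw [e2]
  simp only [Matrix.mul_assoc]

theorem cU_one_refl : cU (one_mem (Cfsg.GU n F q)) (RingEquiv.refl F) = MulEquiv.refl _ := by
  ext x
  obtain ⟨s, rfl⟩ := pr_surjective x
  rw [cU_pr, MulEquiv.refl_apply]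
  congr 1
  apply mat_injective
  rw [mat_semiSU]
  simp [map_refl]

theorem gmap_refl (g : GL (Fin n) F) : AutPSL.gmap (RingEquiv.refl F) g = g := by
  apply Units.ext
  rw [AutPSL.gmap_coe, map_refl]

/-- the inner-diagonal automorphisms, as a homomorphism from `GU` -/
noncomputable def cGU : ↥(Cfsg.GU n F q) →* MulAut (Cfsg.PSU n F q) where
  toFun g := cU g.2 (RingEquiv.refl F)
  map_one' := cU_one_refl
  map_mul' g g' := by
    change cU (g * g').2 (RingEquiv.refl F) = (cU g'.2 (RingEquiv.refl F)).trans (cU g.2 (RingEquiv.refl F))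
    rw [cU_trans]
    apply cU_congr
    · change (g : GL (Fin n) F) * (g' : GL (Fin n) F) = _
      rw [gmap_refl]
    · rfl

theorem cGU_apply (g : ↥(Cfsg.GU n F q)) : cGU g = cU g.2 (RingEquiv.refl F) := rfl

/-- the standard field automorphisms, as a homomorphism from `Aut F` -/
noncomputable def fU : (F ≃+* F) →* MulAut (Cfsg.PSU n F q) where
  toFun σ := cU (one_mem (Cfsg.GU n F q)) σ
  map_one' := cU_one_refl
  map_mul' σ σ' := by
    change cU (one_mem (Cfsg.GU n F q)) (σ * σ') =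
      (cU (one_mem (Cfsg.GU n F q)) σ').trans (cU (one_mem (Cfsg.GU n F q)) σ)
    rw [cU_trans]
    apply cU_congr
    · rw [map_one, mul_one]
    · rfl

theorem fU_apply (σ : F ≃+* F) : fU (n := n) (q := q) σ = cU (one_mem (Cfsg.GU n F q)) σ := rfl

theorem cU_eq_mul {g : GL (Fin n) F} (hg : g ∈ Cfsg.GU n F q) (σ : F ≃+* F) :
    cU hg σ = cGU ⟨g, hg⟩ * fU σ := by
  rw [cGU_apply, fU_apply]
  exact cU_factor hg σ

/-- the commutation relation -/
theorem fU_mul_cGU (σ : F ≃+* F) (g : ↥(Cfsg.GU n F q)) :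
    fU σ * cGU g = cGU (⟨AutPSL.gmap σ (g : GL (Fin n) F), gmap_mem_GU σ g.2⟩ : ↥(Cfsg.GU n F q)) *
      fU σ := by
  rw [← cU_eq_mul (gmap_mem_GU σ g.2) σ]
  change (cU g.2 (RingEquiv.refl F)).trans (cU (one_mem (Cfsg.GU n F q)) σ) = _
  rw [cU_trans]
  apply cU_congr
  · rw [one_mul]
  · rfl

/-- a semilinear unitary map fixing all isotropic points is a scalar -/
theorem scalar_of_fix_all (hn : 3 ≤ n) {g : GL (Fin n) F} (hg : g ∈ Cfsg.GU n F q) (σ : F ≃+* F)
    (h : ∀ x : Fin n → F, x ≠ 0 → H D x x = 0 → Par x (smv (g : Matrix (Fin n) (Fin n) F) σ x)) :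
    σ = RingEquiv.refl F ∧ ∃ c : F, ∀ x, (g : Matrix (Fin n) (Fin n) F) *ᵥ x = c • x := by
  obtain ⟨e, he0, he⟩ := exists_isotropic D (by omega : 2 ≤ n)
  obtain ⟨f, hf, hfe, hef⟩ := exists_partner D he0 he
  have hf0 : f ≠ 0 := by
    rintro rfl
    rw [H_zero_left] at hfe
    exact zero_ne_one hfe
  obtain ⟨le, hle0, hle⟩ := h e he0 he
  obtain ⟨lf, hlf0, hlf⟩ := h f hf0 hf
  obtain ⟨T, hT⟩ : ∃ T : (Fin n → F) → (Fin n → F), T = smv (g : Matrix (Fin n) (Fin n) F) σ :=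
    ⟨_, rfl⟩
  rw [← hT] at hle hlf
  have hTH : ∀ x y, H D (T x) (T y) = σ (H D x y) := by
    intro x y; rw [hT]; exact H_smv D hg σ x y
  have hτle : D.τ le ≠ 0 := (map_ne_zero D.τ).2 hle0
  have hτlf : D.τ lf ≠ 0 := (map_ne_zero D.τ).2 hlf0
  -- the main computation
  have key : ∀ (w' : Fin n → F) (b : F), H D w' e = 0 → H D w' f = 0 →
      b + D.τ b + H D w' w' = 0 → T w' = lf • w' ∧ σ b * le = lf * b := by
    intro w' b hw'e hw'f hb
    have hew' : H D e w' = 0 := H_eq_zero_symm D hw'e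
    have hfw' : H D f w' = 0 := H_eq_zero_symm D hw'f
    obtain ⟨x, hx⟩ : ∃ x, x = f + w' + b • e := ⟨_, rfl⟩
    have hxx : H D x x = 0 := by
      rw [hx]
      simp only [H_add_left, H_add_right, H_smul_left, H_smul_right, he, hf, hfe, hef, hw'e, hw'f,
        hew', hfw', mul_zero, mul_one, add_zero, zero_add]
      linear_combination hb
    have hxe : H D x e = 1 := by
      rw [hx]
      simp only [H_add_left, H_smul_left, he, hfe, hw'e, mul_zero, add_zero]
    have hx0 : x ≠ 0 := by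
      rintro h0
      rw [h0, H_zero_left] at hxe
      exact zero_ne_one hxe
    obtain ⟨l, hl0, hl⟩ := h x hx0 hxx
    rw [← hT] at hl
    have hTx : T x = lf • f + T w' + (σ b * le) • e := by
      rw [hx, hT, smv_add, smv_add, smv_smul, ← hT, hle, hlf, smul_smul]
    have hTw'e : H D (T w') e = 0 := by
      have h1 := hTH w' e
      rw [hw'e, map_zero, hle, H_smul_right] at h1
      rcases mul_eq_zero.1 h1 with h2 | h2
      · exact absurd h2 hτle
      · exact h2
    have hTw'f : H D (T w') f = 0 := by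
      have h1 := hTH w' f
      rw [hw'f, map_zero, hlf, H_smul_right] at h1
      rcases mul_eq_zero.1 h1 with h2 | h2
      · exact absurd h2 hτlf
      · exact h2
    have h3 : lf • f + T w' + (σ b * le) • e = l • (f + w' + b • e) := by
      rw [← hTx, hl, hx]
    have h4 := congrArg (fun v => H D v e) h3
    simp only [H_add_left, H_smul_left, he, hfe, hw'e, hTw'e, mul_zero, add_zero, mul_one] at h4
    have h5 := congrArg (fun v => H D v f) h3
    simp only [H_add_left, H_smul_left, hf, hef, hw'f, hTw'f, mul_zero, add_zero, mul_one,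
      zero_add] at h5
    refine ⟨?_, by rw [h5, h4]⟩
    have h6 : T w' = l • (f + w' + b • e) - lf • f - (σ b * le) • e := by
      rw [← h3]; abel
    rw [h6, ← h4, h5, h4]
    module
  have key2 : ∀ w' : Fin n → F, H D w' e = 0 → H D w' f = 0 → T w' = lf • w' := by
    intro w' h1 h2
    obtain ⟨b, hb⟩ := D.tr_surj (-(H D w' w')) (by rw [map_neg, H_self_fixed])
    exact (key w' b h1 h2 (by linear_combination hb)).1
  obtain ⟨w₀, hw₀0, hw₀e, hw₀f⟩ := exists_perp₂ D hn e f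
  have hσ : ∀ a, σ a = a := by
    intro a
    have h1 := key2 (a • w₀) (by rw [H_smul_left, hw₀e, mul_zero]) (by rw [H_smul_left, hw₀f, mul_zero])
    rw [hT, smv_smul, ← hT, key2 w₀ hw₀e hw₀f, smul_smul, smul_smul] at h1
    have h2 : (σ a * lf - lf * a) • w₀ = 0 := by rw [sub_smul, h1, sub_self]
    rcases smul_eq_zero.1 h2 with h3 | h3
    · have h4 : (σ a - a) * lf = 0 := by linear_combination h3
      rcases mul_eq_zero.1 h4 with h5 | h5
      · exact sub_eq_zero.1 h5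
      · exact absurd h5 hlf0
    · exact absurd h3 hw₀0
  have hσ' : σ = RingEquiv.refl F := RingEquiv.ext hσ
  obtain ⟨b₀, hb₀, hb₀0⟩ := exists_skew_ne_zero D
  have hb₀' : D.τ b₀ = -b₀ := hb₀
  have hlelf : le = lf := by
    have h1 := (key 0 b₀ (H_zero_left D _) (H_zero_left D _)
      (by rw [H_zero_left, hb₀']; ring)).2
    rw [hσ] at h1
    have h2 : b₀ * (le - lf) = 0 := by linear_combination h1
    rcases mul_eq_zero.1 h2 with h3 | h3
    · exact absurd h3 hb₀0
    · exact sub_eq_zero.1 h3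
  refine ⟨hσ', lf, ?_⟩
  intro x
  have hTx : T x = (g : Matrix (Fin n) (Fin n) F) *ᵥ x := by
    rw [hT, hσ']; rfl
  rw [← hTx]
  obtain ⟨x₀, hx₀⟩ : ∃ x₀, x₀ = x - H D x f • e - H D x e • f := ⟨_, rfl⟩
  have hx₀e : H D x₀ e = 0 := by
    rw [hx₀]
    simp only [H_sub_left, H_smul_left, he, hfe, mul_zero, mul_one, sub_zero, sub_self]
  have hx₀f : H D x₀ f = 0 := by
    rw [hx₀]
    simp only [H_sub_left, H_smul_left, hf, hef, mul_zero, mul_one, sub_zero, sub_self]
  have hxd : x = x₀ + H D x f • e + H D x e • f := by rw [hx₀]; abel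
  conv_lhs => rw [hxd]
  rw [hT, smv_add, smv_add, smv_smul, smv_smul, ← hT, key2 x₀ hx₀e hx₀f, hle, hlf, hσ, hσ, hlelf]
  conv_rhs => rw [hxd]
  module

end

section

open Matrix

variable {F : Type*} [Field F] {n q : ℕ}

/-- a trivial semilinear automorphism comes from a scalar and the trivial field automorphism -/
theorem eq_of_cU_eq_one (D : UF F q) (hn : 3 ≤ n) {g : GL (Fin n) F} (hg : g ∈ Cfsg.GU n F q)
    (σ : F ≃+* F) (h : cU hg σ = 1) :
    σ = RingEquiv.refl F ∧ ∃ c : F, ∀ x, (g : Matrix (Fin n) (Fin n) F) *ᵥ x = c • x := by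
  apply scalar_of_fix_all (D := D) hn hg σ
  intro x hx0 hxx
  have h1 := img_cU (D := D) hxx hg σ
  rw [h] at h1
  have h2 : Img D (1 : MulAut (Cfsg.PSU n F q)) x x := Img.refl x
  have h3 : smv (g : Matrix (Fin n) (Fin n) F) σ x ≠ 0 := by
    intro h0
    apply hx0
    apply smv_injective g σ
    rw [h0, smv_zero]
  exact Img.unique hn h2 h1 hx0 hxx h3 (by rw [H_smv D hg, hxx, map_zero])

theorem uniq_sigma (D : UF F q) (hn : 3 ≤ n) {g g' : ↥(Cfsg.GU n F q)} {σ σ' : F ≃+* F}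
    (h : (cGU g * fU σ : MulAut (Cfsg.PSU n F q)) = cGU g' * fU σ') : σ = σ' := by
  have h1 : (cGU (g'⁻¹ * g) * fU (σ * σ'⁻¹) : MulAut (Cfsg.PSU n F q)) = 1 := by
    rw [map_mul, map_mul, map_inv, map_inv]
    calc (cGU g')⁻¹ * cGU g * (fU σ * (fU σ')⁻¹)
        = (cGU g')⁻¹ * (cGU g * fU σ) * (fU σ')⁻¹ := by group
      _ = 1 := by rw [h]; group
  rw [← cU_eq_mul (g'⁻¹ * g).2] at h1
  have h2 := (eq_of_cU_eq_one D hn _ _ h1).1
  have h3 : σ * σ'⁻¹ = 1 := h2
  exact mul_inv_eq_one.1 h3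

section psi

variable (D : UF F q) (hn : 3 ≤ n) (hall : ∀ θ : Cfsg.PSU n F q ≃* Cfsg.PSU n F q, IsSemi θ)

include hall in
theorem exists_formU (β : MulAut (Cfsg.PSU n F q)) :
    ∃ (g : ↥(Cfsg.GU n F q)) (σ : F ≃+* F), β = cGU g * fU σ := by
  obtain ⟨g, hg, σ, rfl⟩ := hall β
  exact ⟨⟨g, hg⟩, σ, cU_eq_mul hg σ⟩

/-- the field automorphism component -/
noncomputable def psiUFun (β : MulAut (Cfsg.PSU n F q)) : F ≃+* F :=
  (exists_formU hall β).choose_spec.choose

include D hn in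
theorem psiUFun_eq {β : MulAut (Cfsg.PSU n F q)} {g : ↥(Cfsg.GU n F q)} {σ : F ≃+* F}
    (h : β = cGU g * fU σ) : psiUFun hall β = σ := by
  subst h
  have h1 := (exists_formU hall (cGU g * fU σ)).choose_spec.choose_spec
  have h2 := uniq_sigma D hn h1
  unfold psiUFun
  exact h2.symm

theorem mul_formU (g g' : ↥(Cfsg.GU n F q)) (σ σ' : F ≃+* F) :
    (cGU g * fU σ * (cGU g' * fU σ') : MulAut (Cfsg.PSU n F q)) =
      cGU (g * (⟨AutPSL.gmap σ (g' : GL (Fin n) F), gmap_mem_GU σ g'.2⟩ : ↥(Cfsg.GU n F q))) *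
        fU (σ * σ') := by
  have h2 := fU_mul_cGU σ g'
  calc (cGU g * fU σ * (cGU g' * fU σ') : MulAut (Cfsg.PSU n F q))
      = cGU g * (fU σ * cGU g') * fU σ' := by simp only [mul_assoc]
    _ = _ := by
        rw [h2, map_mul, map_mul]
        simp only [mul_assoc]

/-- the homomorphism `Aut(PSU_n(q)) → Aut(F)` -/
noncomputable def psiU : MulAut (Cfsg.PSU n F q) →* (F ≃+* F) where
  toFun := psiUFun hall
  map_one' := by
    have h : (1 : MulAut (Cfsg.PSU n F q)) = cGU 1 * fU 1 := by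
      rw [map_one, map_one, mul_one]
    rw [psiUFun_eq D hn hall h]
  map_mul' β β' := by
    obtain ⟨g, σ, h⟩ := exists_formU hall β
    obtain ⟨g', σ', h'⟩ := exists_formU hall β'
    rw [psiUFun_eq D hn hall h, psiUFun_eq D hn hall h']
    rw [h, h', mul_formU]
    rw [psiUFun_eq D hn hall rfl]

theorem psiU_apply (g : ↥(Cfsg.GU n F q)) (σ : F ≃+* F) :
    psiU D hn hall (cGU g * fU σ) = σ :=
  psiUFun_eq D hn hall rfl

theorem psiU_surjective : Function.Surjective (psiU D hn hall) := by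
  intro σ
  exact ⟨cGU 1 * fU σ, psiU_apply D hn hall 1 σ⟩

theorem psiU_ker : (psiU D hn hall).ker = (cGU (n := n) (F := F) (q := q)).range := by
  ext β
  rw [MonoidHom.mem_ker, MonoidHom.mem_range]
  constructor
  · intro h
    obtain ⟨g, σ, hβ⟩ := exists_formU hall β
    rw [hβ, psiU_apply] at h
    refine ⟨g, ?_⟩
    rw [hβ, h, map_one, mul_one]
  · rintro ⟨g, rfl⟩
    have h : cGU g = cGU g * fU (n := n) (q := q) (1 : F ≃+* F) := by
      rw [map_one, mul_one]
    rw [h, psiU_apply]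

end psi

end

section

open Matrix

variable {F : Type*} [Field F] {n q : ℕ}

/-- the inclusion `SU → GU` -/
def suGU : ↥(Cfsg.SU n F q) →* ↥(Cfsg.GU n F q) where
  toFun s := ⟨Matrix.SpecialLinearGroup.toGL s.1, s.2⟩
  map_one' := by
    apply Subtype.ext
    exact map_one _
  map_mul' s t := by
    apply Subtype.ext
    exact map_mul _ _ _

theorem suGU_coe (s : ↥(Cfsg.SU n F q)) :
    (((suGU s : ↥(Cfsg.GU n F q)) : GL (Fin n) F) : Matrix (Fin n) (Fin n) F) = mat s := rfl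

theorem suGU_inv_coe (s : ↥(Cfsg.SU n F q)) :
    ((((suGU s : ↥(Cfsg.GU n F q)) : GL (Fin n) F)⁻¹ : GL (Fin n) F) : Matrix (Fin n) (Fin n) F) =
      mat s⁻¹ := by
  have : ((suGU s : ↥(Cfsg.GU n F q)) : GL (Fin n) F)⁻¹ =
      ((suGU s⁻¹ : ↥(Cfsg.GU n F q)) : GL (Fin n) F) := by
    rw [map_inv]; rfl
  rw [this]
  rfl

theorem suGU_injective : Function.Injective (suGU : ↥(Cfsg.SU n F q) →* ↥(Cfsg.GU n F q)) := by
  intro s t h
  apply mat_injective
  rw [← suGU_coe, ← suGU_coe, h]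

theorem cGU_suGU (s : ↥(Cfsg.SU n F q)) : cGU (suGU s) = MulAut.conj (pr s) := by
  ext x
  obtain ⟨t, rfl⟩ := pr_surjective x
  rw [cGU_apply, cU_pr, MulAut.conj_apply, ← map_inv, ← map_mul, ← map_mul]
  congr 1

/-- the composite `GU → Aut(PSU) → Out(PSU)` -/
noncomputable def kapU : ↥(Cfsg.GU n F q) →* Cfsg.Out (Cfsg.PSU n F q) :=
  (QuotientGroup.mk' (Cfsg.Inn (Cfsg.PSU n F q))).comp cGU

theorem kapU_suGU (s : ↥(Cfsg.SU n F q)) : kapU (suGU s) = 1 := by
  change QuotientGroup.mk' _ (cGU _) = 1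
  rw [QuotientGroup.mk'_apply, QuotientGroup.eq_one_iff, cGU_suGU]
  exact ⟨pr s, rfl⟩

theorem kapU_of_det_eq_one {g : ↥(Cfsg.GU n F q)}
    (h : ((g : GL (Fin n) F) : Matrix (Fin n) (Fin n) F).det = 1) : kapU g = 1 := by
  have : g = suGU ⟨⟨((g : GL (Fin n) F) : Matrix (Fin n) (Fin n) F), h⟩, g.2⟩ := by
    apply Subtype.ext
    apply Units.ext
    rfl
  rw [this]
  exact kapU_suGU _

/-- the norm-one group -/
abbrev N1 (F : Type*) [Field F] (q : ℕ) : Subgroup Fˣ := (powMonoidHom (q + 1) : Fˣ →* Fˣ).ker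

theorem mem_N1 (D : UF F q) {l : Fˣ} : l ∈ N1 F q ↔ (l : F) * D.τ (l : F) = 1 := by
  rw [MonoidHom.mem_ker, powMonoidHom_apply, D.hτ, ← pow_succ', Units.ext_iff,
    Units.val_pow_eq_pow_val, Units.val_one]

theorem dg_mem (D : UF F q) (i₀ : Fin n) {l : Fˣ} (hl : l ∈ N1 F q) :
    AutPSL.dg i₀ l ∈ Cfsg.GU n F q := by
  intro u v
  change Cfsg.hermForm n F q ((Matrix.diagonal (Function.update (1 : Fin n → F) i₀ (l : F))) *ᵥ u)
    ((Matrix.diagonal (Function.update (1 : Fin n → F) i₀ (l : F))) *ᵥ v) = _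
  unfold Cfsg.hermForm
  apply Finset.sum_congr rfl
  intro i _
  rw [mulVec_diagonal, mulVec_diagonal]
  by_cases hi : i = i₀
  · subst hi
    rw [Function.update_self, mul_pow]
    have := (mem_N1 D).1 hl
    rw [D.hτ] at this
    linear_combination (u i * v i ^ q) * this
  · rw [Function.update_of_ne hi]
    simp

/-- diagonal elements of `GU` with one entry of norm one -/
noncomputable def dgN (D : UF F q) (i₀ : Fin n) : ↥(N1 F q) →* ↥(Cfsg.GU n F q) :=
  ((AutPSL.dg i₀).comp (N1 F q).subtype).codRestrict (Cfsg.GU n F q) (fun l => dg_mem D i₀ l.2)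

theorem det_mem_N1 (D : UF F q) {g : GL (Fin n) F} (hg : g ∈ Cfsg.GU n F q) :
    Matrix.GeneralLinearGroup.det g ∈ N1 F q := by
  rw [mem_N1 D]
  have h1 := (mem_GU_iff_ct (D := D) g).1 hg
  have h2 := congrArg Matrix.det h1
  rw [det_mul, det_ct, det_one] at h2
  rw [mul_comm]
  exact h2

/-- the determinant `GU → N1` -/
noncomputable def detN (D : UF F q) : ↥(Cfsg.GU n F q) →* ↥(N1 F q) :=
  ((Matrix.GeneralLinearGroup.det).comp (Cfsg.GU n F q).subtype).codRestrict (N1 F q)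
    (fun g => det_mem_N1 D g.2)

theorem detN_coe (D : UF F q) (g : ↥(Cfsg.GU n F q)) :
    (((detN D g : ↥(N1 F q)) : Fˣ) : F) = ((g : GL (Fin n) F) : Matrix (Fin n) (Fin n) F).det := rfl

theorem detN_dgN (D : UF F q) (i₀ : Fin n) (l : ↥(N1 F q)) : detN D (dgN D i₀ l) = l := by
  apply Subtype.ext
  exact AutPSL.det_dg i₀ (l : Fˣ)

theorem kapU_eq (D : UF F q) (i₀ : Fin n) (g : ↥(Cfsg.GU n F q)) :
    kapU g = kapU (dgN D i₀ (detN D g)) := by
  have h1 : g = dgN D i₀ (detN D g) * ((dgN D i₀ (detN D g))⁻¹ * g) := by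
    rw [mul_inv_cancel_left]
  have h2 : kapU ((dgN D i₀ (detN D g))⁻¹ * g) = 1 := by
    apply kapU_of_det_eq_one
    have h3 : detN D ((dgN D i₀ (detN D g))⁻¹ * g) = 1 := by
      rw [map_mul, map_inv, detN_dgN, inv_mul_cancel]
    have h4 := detN_coe D ((dgN D i₀ (detN D g))⁻¹ * g)
    rw [h3] at h4
    exact h4.symm
  conv_lhs => rw [h1]
  rw [map_mul, h2, mul_one]

theorem scalar_mem (D : UF F q) {l : Fˣ} (hl : l ∈ N1 F q) :
    Matrix.GeneralLinearGroup.scalar (Fin n) l ∈ Cfsg.GU n F q := by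
  intro u v
  change Cfsg.hermForm n F q ((Matrix.scalar (Fin n) (l : F)) *ᵥ u)
    ((Matrix.scalar (Fin n) (l : F)) *ᵥ v) = _
  unfold Cfsg.hermForm
  apply Finset.sum_congr rfl
  intro i _
  have h1 : ∀ x : Fin n → F, (Matrix.scalar (Fin n) (l : F) *ᵥ x) i = (l : F) * x i := by
    intro x
    rw [Matrix.scalar_apply, mulVec_diagonal]
  rw [h1, h1, mul_pow]
  have := (mem_N1 D).1 hl
  rw [D.hτ] at this
  linear_combination (u i * v i ^ q) * this

/-- scalar elements of `GU` -/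
noncomputable def scN (D : UF F q) : ↥(N1 F q) →* ↥(Cfsg.GU n F q) :=
  ((Matrix.GeneralLinearGroup.scalar (Fin n)).comp (N1 F q).subtype).codRestrict (Cfsg.GU n F q)
    (fun l => scalar_mem D l.2)

theorem scN_coe (D : UF F q) (l : ↥(N1 F q)) :
    (((scN (n := n) D l : ↥(Cfsg.GU n F q)) : GL (Fin n) F) : Matrix (Fin n) (Fin n) F) =
      Matrix.scalar (Fin n) ((l : Fˣ) : F) := rfl

theorem detN_scN (D : UF F q) (l : ↥(N1 F q)) : detN (n := n) D (scN D l) = l ^ n := by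
  apply Subtype.ext
  apply Units.ext
  rw [detN_coe, scN_coe, Matrix.scalar_apply, det_diagonal, Finset.prod_const, Finset.card_univ,
    Fintype.card_fin]
  simp

theorem cGU_scN (D : UF F q) (l : ↥(N1 F q)) : cGU (scN (n := n) D l) = 1 := by
  ext x
  obtain ⟨t, rfl⟩ := pr_surjective x
  rw [cGU_apply, cU_pr, MulAut.one_apply]
  congr 1
  apply mat_injective
  rw [mat_semiSU, map_refl]
  have h1 : (((scN (n := n) D l : ↥(Cfsg.GU n F q)) : GL (Fin n) F) : Matrix (Fin n) (Fin n) F) * mat t =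
      mat t * (((scN (n := n) D l : ↥(Cfsg.GU n F q)) : GL (Fin n) F) : Matrix (Fin n) (Fin n) F) := by
    rw [scN_coe]
    exact (Matrix.scalar_commute _ (fun _ => Commute.all _ _) _)
  rw [h1, Matrix.mul_assoc, ← Units.val_mul, mul_inv_cancel, Units.val_one, Matrix.mul_one]

end

section

open Matrix

variable {F : Type*} [Field F] {n q : ℕ}

/-- an element of `GU` inducing the trivial automorphism is a scalar of norm one -/
theorem exists_scN_of_cGU_eq_one (D : UF F q) (hn : 3 ≤ n) {g : ↥(Cfsg.GU n F q)}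
    (h : cGU g = 1) : ∃ l : ↥(N1 F q), g = scN D l := by
  obtain ⟨-, c, hc⟩ := eq_of_cU_eq_one D hn g.2 (RingEquiv.refl F) h
  have i₀ : Fin n := ⟨0, by omega⟩
  obtain ⟨x, hx⟩ : ∃ x : Fin n → F, x = Pi.single i₀ 1 := ⟨_, rfl⟩
  have hxx : H D x x = 1 := by
    rw [hx, H_single_right]
    simp
  have hcc : c * D.τ c = 1 := by
    have h1 := (H_eq_one_iff_ct D _).2 ((mem_GU_iff_ct (D := D) _).1 g.2) x x
    rw [hc, H_smul_left, H_smul_right, hxx, mul_one] at h1
    exact h1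
  have hc0 : c ≠ 0 := by
    rintro rfl
    rw [zero_mul] at hcc
    exact zero_ne_one hcc
  have hl : Units.mk0 c hc0 ∈ N1 F q := (mem_N1 D).2 hcc
  refine ⟨⟨Units.mk0 c hc0, hl⟩, ?_⟩
  apply Subtype.ext
  apply Units.ext
  rw [scN_coe]
  apply Matrix.toLin'.injective
  apply LinearMap.ext
  intro v
  rw [Matrix.toLin'_apply, Matrix.toLin'_apply, hc v]
  ext i
  rw [Matrix.scalar_apply, mulVec_diagonal]
  rfl

theorem cGU_ker (D : UF F q) (hn : 3 ≤ n) :
    (cGU (n := n) (F := F) (q := q)).ker = (scN D).range := by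
  ext g
  rw [MonoidHom.mem_ker, MonoidHom.mem_range]
  constructor
  · intro h
    obtain ⟨l, hl⟩ := exists_scN_of_cGU_eq_one D hn h
    exact ⟨l, hl.symm⟩
  · rintro ⟨l, rfl⟩
    exact cGU_scN D l

theorem ker_kapU_dgN (D : UF F q) (hn : 3 ≤ n) (i₀ : Fin n) :
    ((kapU (n := n) (F := F) (q := q)).comp (dgN D i₀)).ker =
      (powMonoidHom n : ↥(N1 F q) →* ↥(N1 F q)).range := by
  ext a
  rw [MonoidHom.mem_ker, MonoidHom.mem_range, MonoidHom.comp_apply]
  constructor
  · intro h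
    have h1 : cGU (dgN D i₀ a) ∈ Cfsg.Inn (Cfsg.PSU n F q) := by
      rw [← QuotientGroup.eq_one_iff]
      exact h
    obtain ⟨x, hx⟩ := h1
    obtain ⟨s, rfl⟩ := pr_surjective x
    have h2 : cGU ((suGU s)⁻¹ * dgN D i₀ a) = 1 := by
      rw [map_mul, map_inv, cGU_suGU, ← hx]
      exact inv_mul_cancel _
    obtain ⟨l, hl⟩ := exists_scN_of_cGU_eq_one D hn h2
    refine ⟨l, ?_⟩
    have h4 := congrArg (detN D) hl
    rw [detN_scN, map_mul, map_inv, detN_dgN] at h4
    have h5 : detN D (suGU s) = 1 := by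
      apply Subtype.ext
      apply Units.ext
      rw [detN_coe, suGU_coe]
      exact mat_det s
    rw [h5, inv_one, one_mul] at h4
    rw [powMonoidHom_apply]
    exact h4.symm
  · rintro ⟨u, rfl⟩
    have h1 := kapU_eq D i₀ (scN D u)
    rw [detN_scN] at h1
    rw [powMonoidHom_apply, ← h1]
    change QuotientGroup.mk' _ (cGU _) = 1
    rw [cGU_scN, map_one]

theorem range_kapU (D : UF F q) (i₀ : Fin n) :
    (kapU (n := n) (F := F) (q := q)).range = ((kapU (n := n) (F := F) (q := q)).comp (dgN D i₀)).range := by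
  ext x
  constructor
  · rintro ⟨g, rfl⟩
    exact ⟨detN D g, (kapU_eq D i₀ g).symm⟩
  · rintro ⟨a, rfl⟩
    exact ⟨dgN D i₀ a, rfl⟩

section fin

variable [Fintype F]

theorem card_N1 (hF : Fintype.card F = q ^ 2) (hq : 2 ≤ q) : Nat.card ↥(N1 F q) = q + 1 := by
  rw [IsCyclic.card_powMonoidHom_ker, Nat.card_units, Nat.card_eq_fintype_card, hF]
  have h1 : q ^ 2 - 1 = (q - 1) * (q + 1) := by
    obtain ⟨r, rfl⟩ : ∃ r, q = r + 1 := ⟨q - 1, by omega⟩
    have : (r + 1) ^ 2 = (r + 1 - 1) * (r + 1 + 1) + 1 := by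
      rw [Nat.add_sub_cancel]; ring
    rw [this, Nat.add_sub_cancel]
  rw [h1]
  exact Nat.gcd_eq_right (Dvd.intro_left _ rfl)

theorem isCyclic_range_kapU (D : UF F q) (hn : 3 ≤ n) :
    IsCyclic (kapU (n := n) (F := F) (q := q)).range := by
  have i₀ : Fin n := ⟨0, by omega⟩
  rw [range_kapU D i₀]
  exact isCyclic_of_surjective ((kapU (n := n) (F := F) (q := q)).comp (dgN D i₀)).rangeRestrict
    (MonoidHom.rangeRestrict_surjective _)

theorem card_range_kapU (D : UF F q) (hn : 3 ≤ n) (hF : Fintype.card F = q ^ 2) (hq : 2 ≤ q) :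
    Nat.card (kapU (n := n) (F := F) (q := q)).range = Nat.gcd n (q + 1) := by
  have i₀ : Fin n := ⟨0, by omega⟩
  rw [range_kapU D i₀]
  have e1 := QuotientGroup.quotientKerEquivRange ((kapU (n := n) (F := F) (q := q)).comp (dgN D i₀))
  rw [← Nat.card_congr e1.toEquiv]
  have h1 : Nat.card (↥(N1 F q) ⧸ ((kapU (n := n) (F := F) (q := q)).comp (dgN D i₀)).ker) =
      ((kapU (n := n) (F := F) (q := q)).comp (dgN D i₀)).ker.index := rfl
  rw [h1, ker_kapU_dgN D hn, IsCyclic.index_powMonoidHom_range, card_N1 hF hq, Nat.gcd_comm]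

/-- generic passage to `Out` -/
theorem out_kernelU (D : UF F q) (hn : 3 ≤ n) (hF : Fintype.card F = q ^ 2) (hq : 2 ≤ q)
    {H : Type*} [Group H] (Ψ : MulAut (Cfsg.PSU n F q) →* H)
    (hΨ : Ψ.ker = (cGU (n := n) (F := F) (q := q)).range) (hs : Function.Surjective Ψ) :
    ∃ φ : Cfsg.Out (Cfsg.PSU n F q) →* H,
      Function.Surjective φ ∧ IsCyclic φ.ker ∧ Nat.card φ.ker = Nat.gcd n (q + 1) := by
  have hle : Cfsg.Inn (Cfsg.PSU n F q) ≤ Ψ.ker := by
    rintro _ ⟨x, rfl⟩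
    obtain ⟨s, rfl⟩ := pr_surjective x
    rw [hΨ]
    exact ⟨_, cGU_suGU s⟩
  let φ := QuotientGroup.lift (Cfsg.Inn (Cfsg.PSU n F q)) Ψ hle
  have hker : φ.ker = (kapU (n := n) (F := F) (q := q)).range := by
    ext x
    obtain ⟨β, rfl⟩ := QuotientGroup.mk'_surjective _ x
    rw [MonoidHom.mem_ker]
    show Ψ β = 1 ↔ _
    rw [← MonoidHom.mem_ker, hΨ]
    constructor
    · rintro ⟨g, rfl⟩
      exact ⟨g, rfl⟩
    · rintro ⟨g, hg⟩
      have h1 : (QuotientGroup.mk' (Cfsg.Inn (Cfsg.PSU n F q))) (cGU g) =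
          QuotientGroup.mk' _ β := hg
      rw [QuotientGroup.mk'_eq_mk'] at h1
      obtain ⟨z, hz, rfl⟩ := h1
      have hz' := hle hz
      rw [hΨ] at hz'
      exact mul_mem ⟨g, rfl⟩ hz'
  refine ⟨φ, ?_, ?_, ?_⟩
  · intro h
    obtain ⟨β, rfl⟩ := hs h
    exact ⟨QuotientGroup.mk β, rfl⟩
  · rw [hker]
    exact isCyclic_range_kapU D hn
  · rw [hker]
    exact card_range_kapU D hn hF hq

end fin

end

section

open Matrix

variable {F : Type*} [Field F] {n q : ℕ} [Fintype F]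

/-- `Out(PSU_n(q))` -/
theorem outU {p f : ℕ} [Fact p.Prime] (hq : q = p ^ f) (hF : Fintype.card F = q ^ 2) (hn : 3 ≤ n)
    (hs : ¬ (n = 3 ∧ q = 2)) :
    ∃ φ : Cfsg.Out (Cfsg.PSU n F q) →* Multiplicative (ZMod (2 * f)),
      Function.Surjective φ ∧ IsCyclic φ.ker ∧ Nat.card φ.ker = Nat.gcd n (q + 1) := by
  haveI : CharP F p := charP_of_card_sq hq hF
  have hF' : Fintype.card F = p ^ (2 * f) := by rw [hF, hq, ← pow_mul, mul_comm]
  have hall := fun θ => isSemi_of_card (n := n) hq hF hn hs θ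
  obtain ⟨D⟩ : Nonempty (UF F q) := ⟨UF.ofCard hq hF⟩
  apply out_kernelU D hn hF (two_le_q hq hF)
    ((AutPSL.ringAutEquiv p hF').toMonoidHom.comp (psiU D hn hall))
  · rw [AutPSL.ker_mulEquiv_comp, psiU_ker]
  · exact (AutPSL.ringAutEquiv p hF').surjective.comp (psiU_surjective D hn hall)

theorem scN_injective (D : UF F q) (hn : 1 ≤ n) :
    Function.Injective (scN (n := n) D) := by
  intro l l' h
  have h1 := congrArg (fun g : ↥(Cfsg.GU n F q) =>
    ((g : GL (Fin n) F) : Matrix (Fin n) (Fin n) F) ⟨0, by omega⟩ ⟨0, by omega⟩) h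
  simp only [scN_coe, Matrix.scalar_apply, Matrix.diagonal_apply_eq] at h1
  exact Subtype.ext (Units.ext h1)

theorem detN_ker (D : UF F q) : (detN (n := n) D).ker = (suGU (n := n) (F := F) (q := q)).range := by
  ext g
  rw [MonoidHom.mem_ker, MonoidHom.mem_range]
  constructor
  · intro h
    have h1 : ((g : GL (Fin n) F) : Matrix (Fin n) (Fin n) F).det = 1 := by
      rw [← detN_coe D g, h]
      rfl
    refine ⟨⟨⟨((g : GL (Fin n) F) : Matrix (Fin n) (Fin n) F), h1⟩, g.2⟩, ?_⟩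
    apply Subtype.ext
    apply Units.ext
    rfl
  · rintro ⟨s, rfl⟩
    apply Subtype.ext
    apply Units.ext
    rw [detN_coe, suGU_coe]
    exact mat_det s

theorem card_GU_eq (D : UF F q) (hn : 1 ≤ n) (hF : Fintype.card F = q ^ 2) (hq : 2 ≤ q) :
    Nat.card ↥(Cfsg.GU n F q) = (q + 1) * Nat.card ↥(Cfsg.SU n F q) := by
  have hs : Function.Surjective (detN (n := n) D) := by
    intro l
    exact ⟨dgN D ⟨0, by omega⟩ l, detN_dgN D _ l⟩
  rw [AutPSL.card_of_surjective_ker _ hs, card_N1 hF hq, detN_ker,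
    ← Nat.card_congr (MonoidHom.ofInjective suGU_injective).toEquiv]

/-- the order of the automorphism group of `PSU_n(q)` -/
theorem card_autU {p f : ℕ} [Fact p.Prime] (hq : q = p ^ f) (hF : Fintype.card F = q ^ 2)
    (hn : 3 ≤ n) (hs : ¬ (n = 3 ∧ q = 2)) :
    Nat.card (MulAut (Cfsg.PSU n F q)) = Nat.gcd n (q + 1) * (2 * f) * Nat.card (Cfsg.PSU n F q) := by
  haveI : CharP F p := charP_of_card_sq hq hF
  have hF' : Fintype.card F = p ^ (2 * f) := by rw [hF, hq, ← pow_mul, mul_comm]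
  have hall := fun θ => isSemi_of_card (n := n) hq hF hn hs θ
  obtain ⟨D⟩ : Nonempty (UF F q) := ⟨UF.ofCard hq hF⟩
  have hq2 := two_le_q hq hF
  rw [AutPSL.card_of_surjective_ker _ (psiU_surjective D hn hall), psiU_ker, AutPSL.card_ringAut p hF']
  -- the order of the image of `GU`
  have h1 : Nat.card ↥(Cfsg.GU n F q) =
      Nat.card ↥(cGU (n := n) (F := F) (q := q)).range * Nat.card ↥(cGU (n := n) (F := F) (q := q)).ker := by
    rw [Subgroup.card_eq_card_quotient_mul_card_subgroup (cGU (n := n) (F := F) (q := q)).ker,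
      Nat.card_congr (QuotientGroup.quotientKerEquivRange _).toEquiv]
  have h2 : Nat.card ↥(cGU (n := n) (F := F) (q := q)).ker = q + 1 := by
    have hn1 : 1 ≤ n := by omega
    rw [cGU_ker D hn, ← Nat.card_congr (MonoidHom.ofInjective (scN_injective (n := n) D hn1)).toEquiv,
      card_N1 hF hq2]
  have h3 : Nat.card ↥(Cfsg.SU n F q) = Nat.card (Cfsg.PSU n F q) * Nat.gcd n (q + 1) := by
    rw [Subgroup.card_eq_card_quotient_mul_card_subgroup (Subgroup.center ↥(Cfsg.SU n F q)),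
      Cfsg.Agent.Lib.H2.Unitary.card_center_SU hF (by omega)]
  rw [h2, card_GU_eq D (by omega) hF hq2, h3] at h1
  have h4 : Nat.card ↥(cGU (n := n) (F := F) (q := q)).range =
      Nat.card (Cfsg.PSU n F q) * Nat.gcd n (q + 1) := by
    have : (q + 1) * (Nat.card (Cfsg.PSU n F q) * Nat.gcd n (q + 1)) =
        (q + 1) * Nat.card ↥(cGU (n := n) (F := F) (q := q)).range := by
      rw [h1]; ring
    exact (Nat.eq_of_mul_eq_mul_left (by omega) this).symm
  rw [h4]
  ring

end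

end Cfsg.Agent.Lib.H13.AutPSU
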