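import Mathlib
import Cfsg.Agent.Lib.H13.AutPSU8
import Cfsg.Agent.Lib.H13.AutPSLCentr

/-!
Automorphisms of `PSU_n(q)`, part 9: field automorphisms of prime order. Lang's theorem for `GU_n` with respect to a field
automorphism of odd order (`lang_GU`), conjugacy of the elements of prime order in a coset of a field automorphism (`s2711`), the
centraliser of a field automorphism in the inner-diagonal group and the number of classes its class splits into (`s2705`).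
-/

set_option autoImplicit false
set_option linter.unusedSectionVars false
set_option linter.unusedVariables false
set_option linter.unusedSimpArgs false
set_option linter.deprecated false

namespace Cfsg.Agent.Lib.H13.AutPSU

section

open Matrix

variable {F : Type*} [Field F] {n q : ℕ}

theorem eq_cGU_of_isInnerDiagonal {β : MulAut (Cfsg.PSU n F q)} (h : Cfsg.IsInnerDiagonalAutPSU β) :
    β ∈ (cGU (n := n) (F := F) (q := q)).range := by
  obtain ⟨g, hg, h1⟩ := h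
  refine ⟨⟨g, hg⟩, ?_⟩
  ext x
  obtain ⟨s, rfl⟩ := pr_surjective x
  rw [cGU_apply, cU_pr]
  refine (h1 s (semiSU hg (RingEquiv.refl F) s) ?_).symm
  change mat (semiSU hg (RingEquiv.refl F) s) = _
  rw [mat_semiSU, map_refl]
  rfl

theorem inndiagU_eq : Cfsg.inndiagPSU n F q = (cGU (n := n) (F := F) (q := q)).range := by
  unfold Cfsg.inndiagPSU Cfsg.autSubgroupOf
  apply le_antisymm
  · rw [Subgroup.closure_le]
    intro β hβ
    exact eq_cGU_of_isInnerDiagonal hβ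
  · rintro _ ⟨g, rfl⟩
    exact Subgroup.subset_closure (isInnerDiagonal_cU g.2)

theorem eq_fU_of_isFieldAut {σ : F ≃+* F} {φ : MulAut (Cfsg.PSU n F q)}
    (h : Cfsg.IsFieldAutPSUOf σ φ) : φ = fU σ := by
  ext x
  obtain ⟨s, rfl⟩ := pr_surjective x
  rw [fU_apply, cU_pr]
  refine h s (semiSU (one_mem _) σ s) ?_
  change mat (semiSU (one_mem (Cfsg.GU n F q)) σ s) = _
  rw [mat_semiSU, inv_one, Units.val_one, Matrix.one_mul, Matrix.mul_one]
  rfl

theorem fU_injective (D : UF F q) (hn : 3 ≤ n) :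
    Function.Injective (fU (n := n) (F := F) (q := q)) := by
  intro σ σ' h
  apply uniq_sigma (n := n) D hn (g := 1) (g' := 1)
  rw [map_one, one_mul, one_mul, h]

theorem inn_le_range_cGU :
    Cfsg.Inn (Cfsg.PSU n F q) ≤ (cGU (n := n) (F := F) (q := q)).range := by
  rintro _ ⟨y, rfl⟩
  obtain ⟨s, rfl⟩ := pr_surjective y
  exact ⟨_, cGU_suGU s⟩

theorem normal_range_cGU (D : UF F q) (hn : 3 ≤ n)
    (hall : ∀ θ : Cfsg.PSU n F q ≃* Cfsg.PSU n F q, IsSemi θ) :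
    (cGU (n := n) (F := F) (q := q)).range.Normal := by
  rw [← psiU_ker D hn hall]
  exact MonoidHom.normal_ker _

/-- the action of field automorphisms on `GU` -/
noncomputable def gmapU (σ : F ≃+* F) : ↥(Cfsg.GU n F q) →* ↥(Cfsg.GU n F q) :=
  ((AutPSL.gmap σ).comp (Cfsg.GU n F q).subtype).codRestrict (Cfsg.GU n F q)
    (fun g => gmap_mem_GU σ g.2)

theorem gmapU_coe (σ : F ≃+* F) (g : ↥(Cfsg.GU n F q)) :
    ((gmapU σ g : ↥(Cfsg.GU n F q)) : GL (Fin n) F) = AutPSL.gmap σ (g : GL (Fin n) F) := rfl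

theorem fU_mul_cGU' (σ : F ≃+* F) (g : ↥(Cfsg.GU n F q)) :
    fU σ * cGU g = cGU (gmapU σ g) * fU σ := fU_mul_cGU σ g

theorem mul_formU' (g g' : ↥(Cfsg.GU n F q)) (σ σ' : F ≃+* F) :
    (cGU g * fU σ * (cGU g' * fU σ') : MulAut (Cfsg.PSU n F q)) =
      cGU (g * gmapU σ g') * fU (σ * σ') := mul_formU g g' σ σ'

/-- partial norms in `GU` -/
noncomputable def PGU (σ : F ≃+* F) (g : ↥(Cfsg.GU n F q)) : ℕ → ↥(Cfsg.GU n F q)
  | 0 => 1
  | (i + 1) => g * gmapU σ (PGU σ g i)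

theorem PGU_coe (σ : F ≃+* F) (g : ↥(Cfsg.GU n F q)) (i : ℕ) :
    (((PGU σ g i : ↥(Cfsg.GU n F q)) : GL (Fin n) F) : Matrix (Fin n) (Fin n) F) =
      AutPSL.PM σ ((g : GL (Fin n) F) : Matrix (Fin n) (Fin n) F) i := by
  induction i with
  | zero => rfl
  | succ i ih =>
    change (((g * gmapU σ (PGU σ g i) : ↥(Cfsg.GU n F q)) : GL (Fin n) F) :
      Matrix (Fin n) (Fin n) F) = _
    rw [Subgroup.coe_mul, Units.val_mul, gmapU_coe, AutPSL.gmap_coe, ih, AutPSL.PM_succ]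

theorem pow_cGU_fU (σ : F ≃+* F) (g : ↥(Cfsg.GU n F q)) (i : ℕ) :
    (cGU g * fU σ : MulAut (Cfsg.PSU n F q)) ^ i = cGU (PGU σ g i) * fU (σ ^ i) := by
  induction i with
  | zero =>
    change _ = cGU 1 * fU 1
    rw [pow_zero, map_one, map_one, mul_one]
  | succ i ih =>
    rw [pow_succ', ih, mul_formU', ← pow_succ']
    rfl

theorem conj_cGU_fU (σ : F ≃+* F) (h : ↥(Cfsg.GU n F q)) :
    (cGU h * fU σ * (cGU h)⁻¹ : MulAut (Cfsg.PSU n F q)) = cGU (h * (gmapU σ h)⁻¹) * fU σ := by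
  rw [← map_inv, mul_assoc, fU_mul_cGU', ← mul_assoc, ← map_mul, map_inv]

/-- elements of `GU` differing by a scalar induce the same automorphism -/
theorem cGU_eq_of_smul (D : UF F q) (hn : 1 ≤ n) {g g' : ↥(Cfsg.GU n F q)} {d : F}
    (h : ((g : GL (Fin n) F) : Matrix (Fin n) (Fin n) F) =
      d • ((g' : GL (Fin n) F) : Matrix (Fin n) (Fin n) F)) : cGU g = cGU g' := by
  have hd0 : d ≠ 0 := by
    rintro rfl
    rw [zero_smul] at h
    have hdet := Matrix.GeneralLinearGroup.det_ne_zero (g : GL (Fin n) F)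
    haveI : Nonempty (Fin n) := ⟨⟨0, hn⟩⟩
    rw [h, Matrix.det_zero] at hdet
    exact hdet rfl
  -- `d` has norm one
  have hd1 : d * D.τ d = 1 := by
    have h1 := (mem_GU_iff_ct (D := D) _).1 g.2
    have h2 := (mem_GU_iff_ct (D := D) _).1 g'.2
    rw [h, ct_smul, Matrix.smul_mul, Matrix.mul_smul, h2, smul_smul] at h1
    have h3 := congrFun (congrFun h1 ⟨0, hn⟩) ⟨0, hn⟩
    simp only [Matrix.smul_apply, Matrix.one_apply_eq, smul_eq_mul, mul_one] at h3
    rw [mul_comm]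
    exact h3
  have hl : Units.mk0 d hd0 ∈ N1 F q := (mem_N1 D).2 hd1
  have h1 : g = scN D ⟨Units.mk0 d hd0, hl⟩ * g' := by
    apply Subtype.ext
    apply Units.ext
    rw [Subgroup.coe_mul, Units.val_mul, scN_coe, h, Matrix.scalar_apply,
      ← Matrix.smul_eq_diagonal_mul]
    rfl
  rw [h1, map_mul, cGU_scN, one_mul]

end

section

open Matrix

section fixdata

variable {F : Type*} [Field F] [Fintype F] {p f q : ℕ} [Fact p.Prime]

theorem dvd_of_odd_dvd_two_mul {r f : ℕ} (hr : Odd r) (h : r ∣ 2 * f) : r ∣ f := by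
  have h1 : Nat.Coprime r 2 := by
    rw [Nat.coprime_comm, Nat.coprime_two_left]
    exact hr
  rw [mul_comm] at h
  exact h1.dvd_of_dvd_mul_right h

/-- the order of a field automorphism of odd order divides `f` -/
theorem orderOf_dvd_f (hq : q = p ^ f) (hF : Fintype.card F = q ^ 2) (σ : F ≃+* F)
    (hodd : Odd (orderOf σ)) : orderOf σ ∣ f := by
  have hF' : Fintype.card F = p ^ (2 * f) := by rw [hF, hq, ← pow_mul, mul_comm]
  haveI : CharP F p := charP_of_card_eq_prime_pow hF'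
  apply dvd_of_odd_dvd_two_mul hodd
  rw [← AutPSL.card_ringAut p hF']
  exact orderOf_dvd_natCard σ

theorem card_fixU (hq : q = p ^ f) (hF : Fintype.card F = q ^ 2) (σ : F ≃+* F) {r : ℕ}
    (hr : 0 < r) (hσ : orderOf σ = r) (hodd : Odd r) :
    Nat.card (AutPSL.fixF σ) = (p ^ (f / r)) ^ 2 := by
  have hF' : Fintype.card F = p ^ (2 * f) := by rw [hF, hq, ← pow_mul, mul_comm]
  have hd : r ∣ f := by
    rw [← hσ]
    exact orderOf_dvd_f hq hF σ (hσ ▸ hodd)
  rw [AutPSL.card_fixF' σ hr hσ hF', ← pow_mul]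
  congr 1
  obtain ⟨k, rfl⟩ := hd
  rw [Nat.mul_div_cancel_left _ hr, ← mul_assoc, mul_comm 2 r, mul_assoc,
    Nat.mul_div_cancel_left _ hr, mul_comm]

theorem q_eq_pow (hq : q = p ^ f) {r : ℕ} (hd : r ∣ f) (hr : 0 < r) : q = (p ^ (f / r)) ^ r := by
  rw [← pow_mul, Nat.div_mul_cancel hd, hq]

/-- on a field with `q₀ ^ 2` elements the `q₀ ^ r`-power map, `r` odd, is the `q₀`-power map -/
theorem pow_pow_odd {K : Type*} [Field K] [Fintype K] {q₀ : ℕ} (hK : Fintype.card K = q₀ ^ 2)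
    {r : ℕ} (hodd : Odd r) (x : K) : x ^ (q₀ ^ r) = x ^ q₀ := by
  obtain ⟨k, rfl⟩ := hodd
  have h1 : ∀ k : ℕ, x ^ (q₀ ^ (2 * k)) = x := by
    intro k
    induction k with
    | zero => simp
    | succ k ih =>
      rw [mul_add, mul_one, pow_add, pow_mul, ih, ← hK, FiniteField.pow_card]
  rw [pow_succ, pow_mul, h1]

end fixdata

end

section

open Matrix

section basic

variable {F : Type*} [Field F] {q : ℕ} {n : ℕ}

theorem ct_map_sig (D : UF F q) (σ : F ≃+* F) {m l : Type*} (X : Matrix m l F) :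
    (ct D X).map σ = ct D (X.map σ) := by
  ext i j
  simp only [Matrix.map_apply, ct_apply, tau_sig]

theorem isUnit_ct (D : UF F q) {X : Matrix (Fin n) (Fin n) F} (h : IsUnit X) : IsUnit (ct D X) := by
  rw [Matrix.isUnit_iff_isUnit_det] at h ⊢
  rw [det_ct]
  exact h.map D.τ

theorem map_one_sig (σ : F ≃+* F) : (1 : Matrix (Fin n) (Fin n) F).map σ = 1 := by
  ext x y
  by_cases hxy : x = y
  · subst hxy; simp
  · simp [Matrix.one_apply_ne hxy]

end basic

section lang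

variable {F : Type*} [Field F] [Fintype F] {p f q : ℕ} [Fact p.Prime] {n : ℕ}

/-- the unitary data of the fixed field of an automorphism of odd order -/
noncomputable def fixUF (hq : q = p ^ f) (hF : Fintype.card F = q ^ 2) (σ : F ≃+* F) {r : ℕ}
    (hr : 0 < r) (hσ : orderOf σ = r) (hodd : Odd r) : UF (AutPSL.fixF σ) (p ^ (f / r)) :=
  letI : Fintype (AutPSL.fixF σ) := Fintype.ofFinite _
  UF.ofCard (p := p) (f := f / r) rfl (by
    rw [← Nat.card_eq_fintype_card]; exact card_fixU hq hF σ hr hσ hodd)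

theorem fixUF_compat (D : UF F q) (hq : q = p ^ f) (hF : Fintype.card F = q ^ 2) (σ : F ≃+* F)
    {r : ℕ} (hr : 0 < r) (hσ : orderOf σ = r) (hodd : Odd r) (x : AutPSL.fixF σ) :
    (((fixUF hq hF σ hr hσ hodd).τ x : AutPSL.fixF σ) : F) = D.τ (x : F) := by
  letI : Fintype (AutPSL.fixF σ) := Fintype.ofFinite _
  have hd : r ∣ f := by
    rw [← hσ]
    exact orderOf_dvd_f hq hF σ (hσ ▸ hodd)
  have hK : Fintype.card (AutPSL.fixF σ) = (p ^ (f / r)) ^ 2 := by
    rw [← Nat.card_eq_fintype_card]; exact card_fixU hq hF σ hr hσ hodd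
  rw [(fixUF hq hF σ hr hσ hodd).hτ, D.hτ]
  conv_rhs => rw [q_eq_pow hq hd hr]
  rw [← pow_pow_odd hK hodd x]
  rfl

/-- a `σ`-fixed invertible Hermitian matrix is `m* m` with `m` `σ`-fixed -/
theorem herm_fixed_class (D : UF F q) (hq : q = p ^ f) (hF : Fintype.card F = q ^ 2) (σ : F ≃+* F)
    {r : ℕ} (hr : 0 < r) (hσ : orderOf σ = r) (hodd : Odd r) (A : Matrix (Fin n) (Fin n) F)
    (hAσ : A.map σ = A) (hAh : ct D A = A) (hAu : IsUnit A) :
    ∃ m : Matrix (Fin n) (Fin n) F, IsUnit m ∧ m.map σ = m ∧ A = ct D m * m := by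
  classical
  obtain ⟨D₀, hD₀⟩ : ∃ D₀ : UF (AutPSL.fixF σ) (p ^ (f / r)), D₀ = fixUF hq hF σ hr hσ hodd :=
    ⟨_, rfl⟩
  have hcompat : ∀ x : AutPSL.fixF σ, ((D₀.τ x : AutPSL.fixF σ) : F) = D.τ (x : F) := by
    intro x
    rw [hD₀]
    exact fixUF_compat D hq hF σ hr hσ hodd x
  letI : Fintype (AutPSL.fixF σ) := Fintype.ofFinite _
  obtain ⟨A₀, hA₀⟩ : ∃ A₀ : Matrix (Fin n) (Fin n) (AutPSL.fixF σ),
      A₀ = Matrix.of (fun i j => (⟨A i j, (AutPSL.mem_fixF_iff σ _).2 (by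
        have := congrFun (congrFun hAσ i) j
        rwa [Matrix.map_apply] at this)⟩ : AutPSL.fixF σ)) := ⟨_, rfl⟩
  have hA₀A : A₀.map (AutPSL.fixF σ).subtype = A := by
    rw [hA₀]
    ext i j
    rfl
  have hA₀h : (A₀.map D₀.τ)ᵀ = A₀ := by
    ext i j
    rw [Matrix.transpose_apply, Matrix.map_apply, hcompat]
    have h1 := congrFun (congrFun hAh i) j
    rw [ct_apply] at h1
    rw [hA₀]
    exact h1
  have hA₀u : IsUnit A₀ := by
    rw [Matrix.isUnit_iff_isUnit_det, isUnit_iff_ne_zero]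
    intro h0
    have e1 := RingHom.map_det (AutPSL.fixF σ).subtype A₀
    rw [h0, map_zero] at e1
    have e2 : ((AutPSL.fixF σ).subtype.mapMatrix A₀) = A := hA₀A
    rw [e2] at e1
    rw [Matrix.isUnit_iff_isUnit_det, isUnit_iff_ne_zero] at hAu
    exact hAu e1.symm
  have hτ1 : D₀.τ ≠ 1 := by
    intro h
    obtain ⟨a, ha⟩ := D₀.hne
    apply ha
    rw [h, RingAut.one_apply]
  obtain ⟨m₀, hm₀u, hm₀⟩ := AutPSL.herm_class D₀.τ hτ1 D₀.hτ2 A₀ hA₀h hA₀u
  obtain ⟨m₁, hm₁⟩ : ∃ m₁ : Matrix (Fin n) (Fin n) F, m₁ = m₀.map (AutPSL.fixF σ).subtype :=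
    ⟨_, rfl⟩
  have hm₁σ : m₁.map σ = m₁ := by
    rw [hm₁]
    ext i j
    rw [Matrix.map_apply, Matrix.map_apply]
    exact (AutPSL.mem_fixF_iff σ _).1 (SetLike.coe_mem _)
  have hm₁u : IsUnit m₁ := by
    rw [Matrix.isUnit_iff_isUnit_det, isUnit_iff_ne_zero]
    have e1 := RingHom.map_det (AutPSL.fixF σ).subtype m₀
    have e2 : ((AutPSL.fixF σ).subtype.mapMatrix m₀) = m₁ := hm₁.symm
    rw [e2] at e1
    rw [← e1]
    rw [Matrix.isUnit_iff_isUnit_det, isUnit_iff_ne_zero] at hm₀u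
    intro h0
    apply hm₀u
    apply Subtype.ext
    exact h0
  have hA : A = m₁ * ct D m₁ := by
    rw [← hA₀A, hm₀, hm₁]
    ext i j
    simp only [Matrix.map_apply, Matrix.mul_apply, ct_apply, Matrix.transpose_apply]
    rw [map_sum]
    apply Finset.sum_congr rfl
    intro x _
    rw [map_mul, Subfield.subtype_apply, Subfield.subtype_apply, hcompat]
    rfl
  refine ⟨ct D m₁, isUnit_ct D hm₁u, ?_, ?_⟩
  · rw [ct_map_sig, hm₁σ]
  · rw [ct_ct]
    exact hA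

/-- **Lang's theorem for `GU_n`** with respect to a field automorphism of odd order -/
theorem lang_GU (D : UF F q) (hq : q = p ^ f) (hF : Fintype.card F = q ^ 2) (σ : F ≃+* F) {r : ℕ}
    (hr : 0 < r) (hσ : orderOf σ = r) (hodd : Odd r) (g : Matrix (Fin n) (Fin n) F)
    (hg : ct D g * g = 1) (hN : AutPSL.PM σ g r = 1) :
    ∃ k : Matrix (Fin n) (Fin n) F, ct D k * k = 1 ∧ g * k.map σ = k := by
  obtain ⟨k₁, hk₁u, hk₁⟩ := AutPSL.hilbert90_GL σ hr hσ g hN
  have hA1 : ct D k₁ * k₁ = ct D (k₁.map σ) * k₁.map σ := by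
    conv_lhs => rw [← hk₁]
    rw [ct_mul, Matrix.mul_assoc, ← Matrix.mul_assoc (ct D g), hg, Matrix.one_mul]
  have hAσ : (ct D k₁ * k₁).map σ = ct D k₁ * k₁ := by
    rw [Matrix.map_mul, ct_map_sig, ← hA1]
  have hAh : ct D (ct D k₁ * k₁) = ct D k₁ * k₁ := by
    rw [ct_mul, ct_ct]
  have hAu : IsUnit (ct D k₁ * k₁) := (isUnit_ct D hk₁u).mul hk₁u
  obtain ⟨m, hmu, hmσ, hm⟩ := herm_fixed_class D hq hF σ hr hσ hodd _ hAσ hAh hAu
  obtain ⟨mi, hmi1, hmi2⟩ : ∃ mi : Matrix (Fin n) (Fin n) F, m * mi = 1 ∧ mi * m = 1 := by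
    obtain ⟨u, rfl⟩ := hmu
    exact ⟨(u⁻¹ : (Matrix (Fin n) (Fin n) F)ˣ),
      by rw [← Units.val_mul, mul_inv_cancel, Units.val_one],
      by rw [← Units.val_mul, inv_mul_cancel, Units.val_one]⟩
  have hmiσ : mi.map σ = mi := by
    have h1 : m * mi.map σ = 1 := by
      have := congrArg (fun X : Matrix (Fin n) (Fin n) F => X.map σ) hmi1
      simp only [Matrix.map_mul, hmσ, map_one_sig] at this
      exact this
    calc mi.map σ = (mi * m) * mi.map σ := by rw [hmi2, Matrix.one_mul]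
      _ = mi := by rw [Matrix.mul_assoc, h1, Matrix.mul_one]
  refine ⟨k₁ * mi, ?_, ?_⟩
  · rw [ct_mul, Matrix.mul_assoc, ← Matrix.mul_assoc (ct D k₁), hm, Matrix.mul_assoc (ct D m),
      hmi1, Matrix.mul_one, ← ct_mul, hmi1, ct_one]
  · rw [Matrix.map_mul, hmiσ, ← Matrix.mul_assoc, hk₁]

end lang

end

section

open Matrix

section normN1

variable {F : Type*} [Field F] [Fintype F] {p f q : ℕ} [Fact p.Prime] {n : ℕ}

theorem Nm_tau (D : UF F q) (σ : F ≃+* F) (r : ℕ) (x : F) :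
    AutPSL.Nm σ r (D.τ x) = D.τ (AutPSL.Nm σ r x) := by
  unfold AutPSL.Nm
  rw [map_prod]
  apply Finset.prod_congr rfl
  intro i _
  rw [tau_sig]

theorem exists_fixed_not_tau (D : UF F q) (hq : q = p ^ f) (hF : Fintype.card F = q ^ 2)
    (σ : F ≃+* F) {r : ℕ} (hr : 0 < r) (hσ : orderOf σ = r) (hodd : Odd r) :
    ∃ a : F, σ a = a ∧ D.τ a ≠ a := by
  obtain ⟨a, ha⟩ := (fixUF hq hF σ hr hσ hodd).hne
  refine ⟨(a : F), (AutPSL.mem_fixF_iff σ _).1 a.2, ?_⟩
  rw [← fixUF_compat D hq hF σ hr hσ hodd a]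
  intro h
  exact ha (Subtype.ext h)

/-- the norm of `σ` maps the norm-one group onto the `σ`-fixed norm-one elements -/
theorem norm_one_Nm_surj (D : UF F q) (hq : q = p ^ f) (hF : Fintype.card F = q ^ 2)
    (σ : F ≃+* F) {r : ℕ} (hr : 0 < r) (hσ : orderOf σ = r) (hodd : Odd r) (c : F)
    (hc : c * D.τ c = 1) (hσc : σ c = c) :
    ∃ d : F, d * D.τ d = 1 ∧ AutPSL.Nm σ r d = c := by
  have hc0 : c ≠ 0 := by
    rintro rfl
    rw [zero_mul] at hc
    exact zero_ne_one hc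
  obtain ⟨e, he0, hσe, hce⟩ : ∃ e : F, e ≠ 0 ∧ σ e = e ∧ c * D.τ e = e := by
    by_cases h1 : 1 + c = 0
    · obtain ⟨a, haσ, haτ⟩ := exists_fixed_not_tau D hq hF σ hr hσ hodd
      refine ⟨a - D.τ a, ?_, ?_, ?_⟩
      · intro h
        apply haτ
        linear_combination -h
      · rw [map_sub, ← tau_sig, haσ]
      · rw [map_sub, D.hτ2]
        linear_combination (D.τ a - a) * h1
    · refine ⟨1 + c, h1, ?_, ?_⟩
      · rw [map_add, map_one, hσc]
      · rw [map_add, map_one]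
        linear_combination hc
  obtain ⟨e', he'0, he'⟩ := AutPSL.Nm_surjective σ hr hσ e he0 hσe
  have hτe'0 : D.τ e' ≠ 0 := (map_ne_zero_iff D.τ D.τ.injective).2 he'0
  have hτe0 : D.τ e ≠ 0 := (map_ne_zero_iff D.τ D.τ.injective).2 he0
  refine ⟨e' / D.τ e', ?_, ?_⟩
  · rw [map_div₀, D.hτ2]
    field_simp
  · rw [div_eq_mul_inv, AutPSL.Nm_mul, AutPSL.Nm_inv, Nm_tau, he']
    rw [eq_comm, eq_mul_inv_iff_mul_eq₀ hτe0]
    exact hce

end normN1

section conj

variable {F : Type*} [Field F] [Fintype F] {p f q : ℕ} [Fact p.Prime] {n : ℕ}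

/-- the key conjugacy statement for field automorphisms of `PSU_n(q)` -/
theorem unitary_field_conj (D : UF F q) (hq : q = p ^ f) (hF : Fintype.card F = q ^ 2)
    (hn : 3 ≤ n) (σ : F ≃+* F) {r : ℕ} (hr : 0 < r) (hσ : orderOf σ = r) (hodd : Odd r)
    (g : ↥(Cfsg.GU n F q))
    (h : (cGU g * fU σ : MulAut (Cfsg.PSU n F q)) ^ r = 1) :
    ∃ k : ↥(Cfsg.GU n F q),
      (cGU g * fU σ : MulAut (Cfsg.PSU n F q)) = cGU k * fU σ * (cGU k)⁻¹ := by
  have hσr : σ ^ r = 1 := by rw [← hσ, pow_orderOf_eq_one]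
  rw [pow_cGU_fU, hσr, map_one, mul_one] at h
  obtain ⟨l, hl⟩ := exists_scN_of_cGU_eq_one D hn h
  obtain ⟨c, hc⟩ : ∃ c : F, c = ((l : Fˣ) : F) := ⟨_, rfl⟩
  have hcc : c * D.τ c = 1 := by
    rw [hc]
    exact (mem_N1 D).1 l.2
  have hc0 : c ≠ 0 := by
    rintro rfl
    rw [zero_mul] at hcc
    exact zero_ne_one hcc
  have h2 : AutPSL.PM σ ((g : GL (Fin n) F) : Matrix (Fin n) (Fin n) F) r =
      c • (1 : Matrix (Fin n) (Fin n) F) := by
    rw [← PGU_coe, hl, scN_coe, hc, Matrix.smul_one_eq_diagonal]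
    rfl
  -- `c` is fixed
  have h3 : σ c = c := by
    have e1 := AutPSL.PM_succ σ ((g : GL (Fin n) F) : Matrix (Fin n) (Fin n) F) r
    have e2 := AutPSL.PM_succ_right σ ((g : GL (Fin n) F) : Matrix (Fin n) (Fin n) F) r
    rw [e1, h2, hσr] at e2
    have e3 : ((c • (1 : Matrix (Fin n) (Fin n) F)).map σ) = σ c • 1 := by
      ext x y
      by_cases hxy : x = y
      · subst hxy; simp
      · simp [Matrix.one_apply_ne hxy]
    have e4 : ((g : GL (Fin n) F) : Matrix (Fin n) (Fin n) F).map ((1 : F ≃+* F)) =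
        ((g : GL (Fin n) F) : Matrix (Fin n) (Fin n) F) := by
      ext x y; rfl
    rw [e3, e4, Matrix.mul_smul, Matrix.mul_one, Matrix.smul_mul, Matrix.one_mul] at e2
    have hne : ∃ x y, ((g : GL (Fin n) F) : Matrix (Fin n) (Fin n) F) x y ≠ 0 := by
      by_contra hcon
      push Not at hcon
      have h0 : ((g : GL (Fin n) F) : Matrix (Fin n) (Fin n) F) = 0 := by
        ext x y; exact hcon x y
      have hdet := Matrix.GeneralLinearGroup.det_ne_zero (g : GL (Fin n) F)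
      haveI : Nonempty (Fin n) := ⟨⟨0, by omega⟩⟩
      rw [h0, Matrix.det_zero] at hdet
      exact hdet rfl
    obtain ⟨x, y, hxy⟩ := hne
    have e5 := congrFun (congrFun e2 x) y
    simp only [Matrix.smul_apply, smul_eq_mul] at e5
    exact mul_right_cancel₀ hxy e5
  obtain ⟨d, hd1, hd⟩ := norm_one_Nm_surj D hq hF σ hr hσ hodd c hcc h3
  have hd0 : d ≠ 0 := by
    rintro rfl
    rw [zero_mul] at hd1
    exact zero_ne_one hd1
  have hdi : d⁻¹ * D.τ d⁻¹ = 1 := by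
    rw [map_inv₀, ← mul_inv, hd1, inv_one]
  -- normalise
  have h4 : AutPSL.PM σ (d⁻¹ • ((g : GL (Fin n) F) : Matrix (Fin n) (Fin n) F)) r = 1 := by
    rw [AutPSL.PM_smul, h2, AutPSL.Nm_inv, hd, smul_smul, inv_mul_cancel₀ hc0, one_smul]
  have h5 : ct D (d⁻¹ • ((g : GL (Fin n) F) : Matrix (Fin n) (Fin n) F)) *
      (d⁻¹ • ((g : GL (Fin n) F) : Matrix (Fin n) (Fin n) F)) = 1 := by
    rw [ct_smul, Matrix.smul_mul, Matrix.mul_smul, smul_smul,
      (mem_GU_iff_ct (D := D) _).1 g.2, mul_comm, hdi, one_smul]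
  obtain ⟨k, hk1, hk⟩ := lang_GU D hq hF σ hr hσ hodd _ h5 h4
  have hkdet : k.det ≠ 0 := by
    intro h0
    have := congrArg Matrix.det hk1
    rw [Matrix.det_mul, h0, mul_zero, Matrix.det_one] at this
    exact zero_ne_one this
  obtain ⟨kG, hkG⟩ : ∃ kG : GL (Fin n) F, (kG : Matrix (Fin n) (Fin n) F) = k :=
    ⟨Matrix.GeneralLinearGroup.mkOfDetNeZero k hkdet, rfl⟩
  have hkGU : kG ∈ Cfsg.GU n F q := by
    rw [mem_GU_iff_ct (D := D), hkG]
    exact hk1
  refine ⟨⟨kG, hkGU⟩, ?_⟩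
  rw [conj_cGU_fU]
  congr 1
  apply cGU_eq_of_smul D (by omega) (d := d)
  rw [Subgroup.coe_mul, Units.val_mul, Subgroup.coe_inv, gmapU_coe, ← map_inv, AutPSL.gmap_coe]
  change _ = d • ((kG : Matrix (Fin n) (Fin n) F) * _)
  have h6 : (kG : Matrix (Fin n) (Fin n) F).map σ *
      ((kG⁻¹ : GL (Fin n) F) : Matrix (Fin n) (Fin n) F).map σ = 1 := by
    rw [← Matrix.map_mul, ← Units.val_mul, mul_inv_cancel]
    exact map_one_sig σ
  rw [hkG] at h6 ⊢
  rw [← hk, Matrix.smul_mul, Matrix.smul_mul, Matrix.mul_assoc, h6, Matrix.mul_one, smul_smul,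
    mul_inv_cancel₀ hd0, one_smul]

end conj

end

section

open Matrix

theorem s2711 {F : Type*} [Field F] [Fintype F] {p f q : ℕ} [Fact p.Prime] (hq : q = p ^ f)
    (hf : 1 ≤ f) (hF : Fintype.card F = q ^ 2) {n : ℕ} (hn : 3 ≤ n) (hs : ¬ (n = 3 ∧ q = 2))
    (x δ : MulAut (Cfsg.PSU n F q)) (hx : Cfsg.IsFieldAutClassPSU x) {r : ℕ} (hr : r.Prime)
    (hxr : orderOf x = r) (hδ : δ ∈ Cfsg.inndiagPSU n F q) :
    orderOf (δ * x) = r ↔ Cfsg.IsConjUnder (Cfsg.inndiagPSU n F q) x (δ * x) := by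
  obtain ⟨D, -⟩ : ∃ D : UF F q, D = UF.ofCard hq hF := ⟨_, rfl⟩
  have hall := fun θ => isSemi_of_card hq hF hn hs θ
  haveI := normal_range_cGU D hn hall
  rw [inndiagU_eq] at hδ ⊢
  constructor
  · intro hord
    obtain ⟨α, φ, σ, hσ1, hσodd, hφ, hαx⟩ := hx
    have hφ' := eq_fU_of_isFieldAut hφ
    have hx₀ : α * x * α⁻¹ = fU σ := by rw [hαx, hφ']
    refine AutPSL.conj_reduce _ α x δ (fU σ) hx₀ hδ ?_ hord
    rintro δ₀ ⟨g, rfl⟩ hpow
    have hσr : orderOf σ = r := by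
      rw [← orderOf_injective fU (fU_injective D hn) σ, ← hx₀, AutPSL.orderOf_conj', hxr]
    obtain ⟨k, hk⟩ := unitary_field_conj D hq hF hn σ hr.pos hσr (hσr ▸ hσodd) g hpow
    exact ⟨cGU k, ⟨k, rfl⟩, hk⟩
  · rintro ⟨h, -, heq⟩
    rw [heq, AutPSL.orderOf_conj', hxr]

end

section

open Matrix

section mapGU

variable {F : Type*} [Field F] {K : Type*} [Field K] {n q q₀ : ℕ}

theorem map_mem_GU (D₀ : UF K q₀) (D : UF F q) (φ : K →+* F)
    (hφ : ∀ x, φ (D₀.τ x) = D.τ (φ x)) {g : GL (Fin n) K} (hg : g ∈ Cfsg.GU n K q₀) :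
    Matrix.GeneralLinearGroup.map φ g ∈ Cfsg.GU n F q := by
  rw [mem_GU_iff_ct (D := D)]
  have h1 := (mem_GU_iff_ct (D := D₀) g).1 hg
  have h2 : ct D ((g : Matrix (Fin n) (Fin n) K).map φ) =
      (ct D₀ (g : Matrix (Fin n) (Fin n) K)).map φ := by
    ext i j
    simp only [ct_apply, Matrix.map_apply, hφ]
  change ct D ((g : Matrix (Fin n) (Fin n) K).map φ) * (g : Matrix (Fin n) (Fin n) K).map φ = 1
  rw [h2, ← Matrix.map_mul, h1]
  ext x y
  by_cases hxy : x = y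
  · subst hxy; simp
  · simp [Matrix.one_apply_ne hxy]

/-- the map of unitary groups induced by a compatible homomorphism of fields -/
noncomputable def mapGU (D₀ : UF K q₀) (D : UF F q) (φ : K →+* F)
    (hφ : ∀ x, φ (D₀.τ x) = D.τ (φ x)) : ↥(Cfsg.GU n K q₀) →* ↥(Cfsg.GU n F q) :=
  ((Matrix.GeneralLinearGroup.map φ).comp (Cfsg.GU n K q₀).subtype).codRestrict (Cfsg.GU n F q)
    (fun g => map_mem_GU D₀ D φ hφ g.2)

theorem mapGU_coe (D₀ : UF K q₀) (D : UF F q) (φ : K →+* F)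
    (hφ : ∀ x, φ (D₀.τ x) = D.τ (φ x)) (g : ↥(Cfsg.GU n K q₀)) :
    (((mapGU D₀ D φ hφ g : ↥(Cfsg.GU n F q)) : GL (Fin n) F) : Matrix (Fin n) (Fin n) F) =
      ((g : GL (Fin n) K) : Matrix (Fin n) (Fin n) K).map φ := rfl

theorem mapGU_injective (D₀ : UF K q₀) (D : UF F q) (φ : K →+* F)
    (hφ : ∀ x, φ (D₀.τ x) = D.τ (φ x)) :
    Function.Injective (mapGU (n := n) D₀ D φ hφ) := by
  intro a b hab
  apply Subtype.ext
  apply Units.ext
  have h1 := congrArg (fun x : ↥(Cfsg.GU n F q) =>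
    ((x : GL (Fin n) F) : Matrix (Fin n) (Fin n) F)) hab
  simp only [mapGU_coe] at h1
  exact Matrix.map_injective φ.injective h1

end mapGU

section centr

variable {F : Type*} [Field F] {n q q₀ : ℕ} (D : UF F q) (σ : F ≃+* F)
  (D₀ : UF (AutPSL.fixF σ) q₀)
  (hc : ∀ x : AutPSL.fixF σ, (AutPSL.fixF σ).subtype (D₀.τ x) = D.τ ((AutPSL.fixF σ).subtype x))

/-- the embedding `GU_n(F^σ) → GU_n(F)` -/
noncomputable def jU : ↥(Cfsg.GU n (AutPSL.fixF σ) q₀) →* ↥(Cfsg.GU n F q) :=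
  mapGU D₀ D (AutPSL.fixF σ).subtype hc

theorem jU_coe (g : ↥(Cfsg.GU n (AutPSL.fixF σ) q₀)) (i k : Fin n) :
    (((jU D σ D₀ hc g : ↥(Cfsg.GU n F q)) : GL (Fin n) F) : Matrix (Fin n) (Fin n) F) i k =
      ((((g : GL (Fin n) (AutPSL.fixF σ)) : Matrix (Fin n) (Fin n) (AutPSL.fixF σ)) i k :
        AutPSL.fixF σ) : F) := rfl

theorem gmapU_jU (g : ↥(Cfsg.GU n (AutPSL.fixF σ) q₀)) :
    gmapU σ (jU D σ D₀ hc g) = jU D σ D₀ hc g := by
  apply Subtype.ext
  apply Units.ext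
  ext i k
  rw [gmapU_coe, AutPSL.gmap_coe, Matrix.map_apply, jU_coe]
  exact (AutPSL.mem_fixF_iff σ _).1 (SetLike.coe_mem _)

theorem smul_map_sig (σ : F ≃+* F) (a : F) (X : Matrix (Fin n) (Fin n) F) :
    (a • X).map σ = σ a • X.map σ := by
  ext x y
  simp [Matrix.map_apply]

theorem centralizer_fU (hn : 3 ≤ n) {r : ℕ} (hr : 0 < r) (hσ : orderOf σ = r) :
    (cGU (n := n) (F := F) (q := q)).range ⊓ Subgroup.centralizer {fU σ} =
      ((cGU (n := n) (F := F) (q := q)).comp (jU D σ D₀ hc)).range := by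
  ext y
  constructor
  · rintro ⟨⟨g, rfl⟩, hy2⟩
    have hcomm : fU σ * cGU g = cGU g * fU σ := Subgroup.mem_centralizer_iff.1 hy2 _ rfl
    rw [fU_mul_cGU'] at hcomm
    have h1 : cGU (gmapU σ g) = cGU g := mul_right_cancel hcomm
    have h2 : cGU (g⁻¹ * gmapU σ g) = 1 := by rw [map_mul, h1, map_inv, inv_mul_cancel]
    obtain ⟨l, hl⟩ := exists_scN_of_cGU_eq_one D hn h2
    obtain ⟨G, hG⟩ : ∃ G : Matrix (Fin n) (Fin n) F,
        G = ((g : GL (Fin n) F) : Matrix (Fin n) (Fin n) F) := ⟨_, rfl⟩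
    have hGG : ct D G * G = 1 := by
      rw [hG]
      exact (mem_GU_iff_ct (D := D) _).1 g.2
    have h5 : G.map σ = ((l : Fˣ) : F) • G := by
      have h4 := congrArg (fun x : ↥(Cfsg.GU n F q) =>
        ((x : GL (Fin n) F) : Matrix (Fin n) (Fin n) F)) hl
      simp only [Subgroup.coe_mul, Units.val_mul, gmapU_coe, AutPSL.gmap_coe, scN_coe] at h4
      have := congrArg (fun X => ((g : GL (Fin n) F) : Matrix (Fin n) (Fin n) F) * X) h4
      simp only [← Matrix.mul_assoc] at this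
      rw [Subgroup.coe_inv, AutPSL.gl_mul_inv, Matrix.one_mul, Matrix.scalar_apply,
        ← Matrix.smul_eq_mul_diagonal] at this
      rw [hG]
      exact this
    have hg0 : G ≠ 0 := by
      intro h0
      rw [h0, Matrix.mul_zero] at hGG
      haveI : Nonempty (Fin n) := ⟨⟨0, by omega⟩⟩
      have := congrFun (congrFun hGG ⟨0, by omega⟩) ⟨0, by omega⟩
      simp at this
    obtain ⟨l', hl'0, hl'⟩ := AutPSL.exists_fixed_smul σ hr hσ _ hg0 _ h5
    -- the multiplier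
    obtain ⟨μ, hμ⟩ : ∃ μ : F, μ = l' * D.τ l' := ⟨_, rfl⟩
    have hμ0 : μ ≠ 0 := by
      rw [hμ]
      exact mul_ne_zero hl'0 ((map_ne_zero_iff D.τ D.τ.injective).2 hl'0)
    have hμτ : D.τ μ = μ := by rw [hμ, map_mul, D.hτ2, mul_comm]
    have hμ1 : ct D (l' • G) * (l' • G) = μ • (1 : Matrix (Fin n) (Fin n) F) := by
      rw [ct_smul, Matrix.smul_mul, Matrix.mul_smul, smul_smul, hGG, hμ, mul_comm]
    have hμσ : σ μ = μ := by
      have e1 : (ct D (l' • G) * (l' • G)).map σ = ct D (l' • G) * (l' • G) := by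
        rw [Matrix.map_mul, ct_map_sig, hl']
      rw [hμ1, smul_map_sig] at e1
      have e2 := congrFun (congrFun e1 ⟨0, by omega⟩) ⟨0, by omega⟩
      simpa using e2
    have hμ₀τ : D₀.τ ⟨μ, (AutPSL.mem_fixF_iff σ _).2 hμσ⟩ = ⟨μ, (AutPSL.mem_fixF_iff σ _).2 hμσ⟩ := by
      apply Subtype.ext
      have := hc ⟨μ, (AutPSL.mem_fixF_iff σ _).2 hμσ⟩
      rw [Subfield.subtype_apply, Subfield.subtype_apply] at this
      rw [this]
      exact hμτ
    obtain ⟨a₀, ha₀⟩ := D₀.nm_surj ⟨μ, (AutPSL.mem_fixF_iff σ _).2 hμσ⟩ hμ₀τ (by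
      intro h0
      apply hμ0
      exact congrArg Subtype.val h0)
    have ha : (a₀ : F) * D.τ (a₀ : F) = μ := by
      have h6 := congrArg Subtype.val ha₀
      have h7 := hc a₀
      rw [Subfield.subtype_apply, Subfield.subtype_apply] at h7
      rw [← h7]
      exact h6
    have haσ : σ (a₀ : F) = a₀ := (AutPSL.mem_fixF_iff σ _).1 a₀.2
    have ha0 : (a₀ : F) ≠ 0 := by
      intro h0
      rw [h0, zero_mul] at ha
      exact hμ0 ha.symm
    obtain ⟨κ, hκ⟩ : ∃ κ : F, κ = (a₀ : F)⁻¹ * l' := ⟨_, rfl⟩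
    have hκ1 : κ * D.τ κ = 1 := by
      rw [hκ, map_mul, map_inv₀]
      have h8 : D.τ (a₀ : F) ≠ 0 := (map_ne_zero_iff D.τ D.τ.injective).2 ha0
      field_simp
      rw [← hμ, ← ha]
    have hκσ : (κ • G).map σ = κ • G := by
      rw [hκ, ← smul_smul, smul_map_sig, hl', map_inv₀, haσ]
    have hκ2 : ct D (κ • G) * (κ • G) = 1 := by
      rw [ct_smul, Matrix.smul_mul, Matrix.mul_smul, smul_smul, hGG, mul_comm, hκ1, one_smul]
    -- build the matrix over the fixed field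
    obtain ⟨M₁, hM₁d⟩ : ∃ M₁ : Matrix (Fin n) (Fin n) (AutPSL.fixF σ),
        M₁ = Matrix.of (fun i k => (⟨(κ • G) i k, (AutPSL.mem_fixF_iff σ _).2 (by
          have := congrFun (congrFun hκσ i) k
          rwa [Matrix.map_apply] at this)⟩ : AutPSL.fixF σ)) := ⟨_, rfl⟩
    have hM₁ : M₁.map (AutPSL.fixF σ).subtype = κ • G := by
      rw [hM₁d]
      ext i k
      rfl
    have hM₁u : ct D₀ M₁ * M₁ = 1 := by
      apply Matrix.map_injective (AutPSL.fixF σ).subtype.injective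
      have e1 : (ct D₀ M₁).map (AutPSL.fixF σ).subtype = ct D (M₁.map (AutPSL.fixF σ).subtype) := by
        ext i j
        simp only [ct_apply, Matrix.map_apply, hc]
      change (ct D₀ M₁ * M₁).map (AutPSL.fixF σ).subtype =
        (1 : Matrix (Fin n) (Fin n) (AutPSL.fixF σ)).map (AutPSL.fixF σ).subtype
      rw [Matrix.map_mul, e1, hM₁, hκ2]
      ext x y
      by_cases hxy : x = y
      · subst hxy; simp
      · simp [Matrix.one_apply_ne hxy]
    have hdet : M₁.det ≠ 0 := by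
      intro h0
      have := congrArg Matrix.det hM₁u
      rw [Matrix.det_mul, h0, mul_zero, Matrix.det_one] at this
      exact zero_ne_one this
    have hmem : Matrix.GeneralLinearGroup.mkOfDetNeZero M₁ hdet ∈ Cfsg.GU n (AutPSL.fixF σ) q₀ := by
      rw [mem_GU_iff_ct (D := D₀)]
      exact hM₁u
    refine ⟨⟨Matrix.GeneralLinearGroup.mkOfDetNeZero M₁ hdet, hmem⟩, ?_⟩
    change cGU (jU D σ D₀ hc _) = cGU g
    apply cGU_eq_of_smul D (by omega) (d := κ)
    rw [← hG, ← hM₁]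
    rfl
  · rintro ⟨g₁, rfl⟩
    refine Subgroup.mem_inf.2 ⟨⟨jU D σ D₀ hc g₁, rfl⟩, ?_⟩
    refine Subgroup.mem_centralizer_iff.2 ?_
    intro w hw
    rw [Set.mem_singleton_iff] at hw
    subst hw
    change fU σ * cGU (jU D σ D₀ hc g₁) = cGU (jU D σ D₀ hc g₁) * fU σ
    rw [fU_mul_cGU', gmapU_jU]

end centr

end

section

open Matrix

section kerj

variable {F : Type*} [Field F] {n q q₀ : ℕ} (D : UF F q) (σ : F ≃+* F)
  (D₀ : UF (AutPSL.fixF σ) q₀)
  (hc : ∀ x : AutPSL.fixF σ, (AutPSL.fixF σ).subtype (D₀.τ x) = D.τ ((AutPSL.fixF σ).subtype x))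

theorem ker_cGU_jU (hn : 3 ≤ n) :
    ((cGU (n := n) (F := F) (q := q)).comp (jU D σ D₀ hc)).ker =
      (Cfsg.Geo.scalars (Fin n) (AutPSL.fixF σ)).subgroupOf (Cfsg.GU n (AutPSL.fixF σ) q₀) := by
  ext g₁
  rw [MonoidHom.mem_ker, MonoidHom.comp_apply, Subgroup.mem_subgroupOf, Cfsg.Geo.mem_scalars_iff]
  constructor
  · intro h
    obtain ⟨l, hl⟩ := exists_scN_of_cGU_eq_one D hn h
    let i₀ : Fin n := ⟨0, by omega⟩
    have h1 : ∀ i k, ((((g₁ : GL (Fin n) (AutPSL.fixF σ)) :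
        Matrix (Fin n) (Fin n) (AutPSL.fixF σ)) i k : AutPSL.fixF σ) : F) =
        if i = k then ((l : Fˣ) : F) else 0 := by
      intro i k
      have := congrArg (fun X : ↥(Cfsg.GU n F q) =>
        ((X : GL (Fin n) F) : Matrix (Fin n) (Fin n) F) i k) hl
      simp only [scN_coe, Matrix.scalar_apply, Matrix.diagonal_apply] at this
      rw [← jU_coe D σ D₀ hc g₁ i k, this]
    have hu1 : ((l : Fˣ) : F) ∈ AutPSL.fixF σ := by
      have := h1 i₀ i₀
      rw [if_pos rfl] at this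
      rw [← this]
      exact SetLike.coe_mem _
    have hu2 : (((l : Fˣ)⁻¹ : Fˣ) : F) ∈ AutPSL.fixF σ := by
      rw [Units.val_inv_eq_inv_val]
      exact (AutPSL.fixF σ).inv_mem hu1
    refine ⟨⟨⟨((l : Fˣ) : F), hu1⟩, ⟨(((l : Fˣ)⁻¹ : Fˣ) : F), hu2⟩, Subtype.ext (by simp),
      Subtype.ext (by simp)⟩, ?_⟩
    ext i k
    rw [h1 i k, Matrix.smul_apply, Matrix.one_apply]
    split_ifs <;> simp
  · rintro ⟨c, hcg⟩
    have h1 : ((jU D σ D₀ hc g₁ : ↥(Cfsg.GU n F q)) : GL (Fin n) F).val =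
        ((c : AutPSL.fixF σ) : F) • (((1 : ↥(Cfsg.GU n F q)) : GL (Fin n) F) :
          Matrix (Fin n) (Fin n) F) := by
      ext i k
      rw [jU_coe, hcg, Matrix.smul_apply, Matrix.smul_apply]
      change (((c : AutPSL.fixF σ) * (1 : Matrix (Fin n) (Fin n) (AutPSL.fixF σ)) i k :
        AutPSL.fixF σ) : F) = ((c : AutPSL.fixF σ) : F) * (1 : Matrix (Fin n) (Fin n) F) i k
      rw [Matrix.one_apply, Matrix.one_apply]
      split_ifs <;> simp
    rw [cGU_eq_of_smul D (by omega) h1, map_one]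

end kerj

section congr

variable {K : Type*} [Field K] {K' : Type*} [Field K'] {n q₀ : ℕ}

/-- unitary groups of isomorphic fields -/
noncomputable def guCongr (D₁ : UF K q₀) (D₂ : UF K' q₀) (e : K ≃+* K') :
    ↥(Cfsg.GU n K q₀) ≃* ↥(Cfsg.GU n K' q₀) :=
  { toFun := mapGU D₁ D₂ (e : K →+* K') (by intro x; simp only [RingEquiv.coe_toRingHom]; rw [D₁.hτ, D₂.hτ, map_pow])
    invFun := mapGU D₂ D₁ (e.symm : K' →+* K) (by intro x; simp only [RingEquiv.coe_toRingHom]; rw [D₁.hτ, D₂.hτ, map_pow])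
    left_inv := by
      intro g
      apply Subtype.ext
      apply Units.ext
      ext i k
      simp [mapGU_coe]
    right_inv := by
      intro g
      apply Subtype.ext
      apply Units.ext
      ext i k
      simp [mapGU_coe]
    map_mul' := fun a b => map_mul _ a b }

theorem guCongr_coe (D₁ : UF K q₀) (D₂ : UF K' q₀) (e : K ≃+* K') (g : ↥(Cfsg.GU n K q₀)) :
    (((guCongr D₁ D₂ e g : ↥(Cfsg.GU n K' q₀)) : GL (Fin n) K') : Matrix (Fin n) (Fin n) K') =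
      ((g : GL (Fin n) K) : Matrix (Fin n) (Fin n) K).map e := rfl

theorem guCongr_scalars (D₁ : UF K q₀) (D₂ : UF K' q₀) (e : K ≃+* K') :
    ((Cfsg.Geo.scalars (Fin n) K).subgroupOf (Cfsg.GU n K q₀)).map
      (guCongr (n := n) D₁ D₂ e).toMonoidHom =
      (Cfsg.Geo.scalars (Fin n) K').subgroupOf (Cfsg.GU n K' q₀) := by
  ext y
  constructor
  · rintro ⟨g, hg, rfl⟩
    rw [SetLike.mem_coe] at hg
    rw [Subgroup.mem_subgroupOf, Cfsg.Geo.mem_scalars_iff] at hg ⊢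
    obtain ⟨c, hcg⟩ := hg
    refine ⟨Units.map (e : K →+* K').toMonoidHom c, ?_⟩
    change (((guCongr D₁ D₂ e g : ↥(Cfsg.GU n K' q₀)) : GL (Fin n) K') :
      Matrix (Fin n) (Fin n) K') = _
    rw [guCongr_coe, hcg]
    ext i k
    simp only [Matrix.map_apply, Matrix.smul_apply, Matrix.one_apply, smul_eq_mul]
    split_ifs <;> simp
  · intro hy
    rw [Subgroup.mem_subgroupOf, Cfsg.Geo.mem_scalars_iff] at hy
    obtain ⟨c, hcy⟩ := hy
    refine ⟨(guCongr D₁ D₂ e).symm y, ?_, ?_⟩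
    · rw [SetLike.mem_coe, Subgroup.mem_subgroupOf, Cfsg.Geo.mem_scalars_iff]
      refine ⟨Units.map (e.symm : K' →+* K).toMonoidHom c, ?_⟩
      change ((y : GL (Fin n) K') : Matrix (Fin n) (Fin n) K').map e.symm = _
      rw [hcy]
      ext i k
      simp only [Matrix.map_apply, Matrix.smul_apply, Matrix.one_apply, smul_eq_mul]
      split_ifs <;> simp
    · exact (guCongr D₁ D₂ e).apply_symm_apply y

/-- `PGU_n` of isomorphic fields -/
noncomputable def pguCongr (D₁ : UF K q₀) (D₂ : UF K' q₀) (e : K ≃+* K') :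
    Cfsg.PGU n K q₀ ≃* Cfsg.PGU n K' q₀ :=
  QuotientGroup.congr _ _ (guCongr D₁ D₂ e) (guCongr_scalars D₁ D₂ e)

end congr

end

section

open Matrix

section split

variable {F : Type*} [Field F] {n q : ℕ}

theorem kapU_comp_eq (D : UF F q) (i₀ : Fin n) {G₁ : Type*} [Group G₁]
    (j : G₁ →* ↥(Cfsg.GU n F q)) :
    (kapU (n := n) (F := F) (q := q)).comp j =
      ((kapU (n := n) (F := F) (q := q)).comp (dgN D i₀)).comp ((detN D).comp j) := by
  ext a
  exact kapU_eq D i₀ (j a)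

/-- the split class count for an automorphism `x` conjugate to `x₀` whose centraliser in the
inner-diagonal group is the image of `j : G₁ → GU_n(F)` -/
theorem split_psu (D : UF F q) (hn : 3 ≤ n)
    (hall : ∀ θ : Cfsg.PSU n F q ≃* Cfsg.PSU n F q, IsSemi θ)
    (x α x₀ : MulAut (Cfsg.PSU n F q)) (hx₀ : α * x * α⁻¹ = x₀)
    {G₁ : Type*} [Group G₁] (j : G₁ →* ↥(Cfsg.GU n F q))
    (hC : (cGU (n := n) (F := F) (q := q)).range ⊓ Subgroup.centralizer {x₀} =
      ((cGU (n := n) (F := F) (q := q)).comp j).range) :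
    Cfsg.splitClassCount (Cfsg.inndiagPSU n F q) (Cfsg.Inn (Cfsg.PSU n F q)) x =
      (((detN D).comp j).range ⊔ (powMonoidHom n : ↥(N1 F q) →* ↥(N1 F q)).range).index := by
  haveI hDn := normal_range_cGU D hn hall
  rw [inndiagU_eq]
  obtain ⟨DD, hD⟩ : ∃ DD : Subgroup (MulAut (Cfsg.PSU n F q)),
      DD = (cGU (n := n) (F := F) (q := q)).range := ⟨_, rfl⟩
  obtain ⟨I, hI⟩ : ∃ I : Subgroup (MulAut (Cfsg.PSU n F q)),
      I = Cfsg.Inn (Cfsg.PSU n F q) := ⟨_, rfl⟩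
  haveI : I.Normal := by rw [hI]; infer_instance
  haveI : DD.Normal := by rw [hD]; exact hDn
  rw [← hD, ← hI]
  rw [← hD] at hC
  have hID : I ≤ DD := by rw [hI, hD]; exact inn_le_range_cGU
  rw [AutPSL.splitClassCount_eq DD I hID x]
  -- step 2: conjugate by α
  have h2 : (I ⊔ (DD ⊓ Subgroup.centralizer {x})).relIndex DD =
      (I ⊔ (DD ⊓ Subgroup.centralizer {x₀})).relIndex DD := by
    have hinj : Function.Injective (MulAut.conj α).toMonoidHom := (MulAut.conj α).injective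
    rw [← Subgroup.relIndex_map_map_of_injective _ _ hinj, Subgroup.map_sup,
      Subgroup.map_inf _ _ _ hinj, AutPSL.map_conj_normal, AutPSL.map_conj_normal,
      AutPSL.map_centralizer_conj, hx₀]
  rw [h2, hC]
  -- step 3: pass to Out
  obtain ⟨π, hπ⟩ : ∃ π : MulAut (Cfsg.PSU n F q) →* MulAut (Cfsg.PSU n F q) ⧸ I,
      π = QuotientGroup.mk' I := ⟨_, rfl⟩
  have hker : π.ker = I := by rw [hπ]; exact QuotientGroup.ker_mk' I
  have h3 := Subgroup.relIndex_map_map π ((cGU (n := n) (F := F) (q := q)).comp j).range DD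
  rw [hker, sup_of_le_left hID, sup_comm] at h3
  rw [← h3]
  -- step 4
  have i₀ : Fin n := ⟨0, by omega⟩
  subst hI
  have h4 : ((cGU (n := n) (F := F) (q := q)).comp j).range.map π =
      ((kapU (n := n) (F := F) (q := q)).comp j).range := by
    rw [MonoidHom.map_range, hπ]
    rfl
  have h5 : DD.map π = (kapU (n := n) (F := F) (q := q)).range := by
    rw [hD, MonoidHom.map_range, hπ]
    rfl
  rw [h4, h5, kapU_comp_eq D i₀ j, range_kapU D i₀, ← MonoidHom.map_range,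
    MonoidHom.range_eq_map ((kapU (n := n) (F := F) (q := q)).comp (dgN D i₀)),
    Subgroup.relIndex_map_map, ker_kapU_dgN D hn i₀, top_sup_eq, Subgroup.relIndex_top_right]

/-- the generic centraliser isomorphism -/
theorem centralizer_isoU (D : UF F q) (hn : 3 ≤ n)
    (hall : ∀ θ : Cfsg.PSU n F q ≃* Cfsg.PSU n F q, IsSemi θ)
    (x α x₀ : MulAut (Cfsg.PSU n F q)) (hx₀ : α * x * α⁻¹ = x₀)
    {G₁ : Type*} [Group G₁] (j : G₁ →* ↥(Cfsg.GU n F q))
    (hC : (cGU (n := n) (F := F) (q := q)).range ⊓ Subgroup.centralizer {x₀} =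
      ((cGU (n := n) (F := F) (q := q)).comp j).range) :
    Nonempty (↥(Cfsg.inndiagPSU n F q ⊓ Subgroup.centralizer {x}) ≃*
      G₁ ⧸ ((cGU (n := n) (F := F) (q := q)).comp j).ker) := by
  haveI hDn := normal_range_cGU D hn hall
  rw [inndiagU_eq]
  have hinj : Function.Injective (MulAut.conj α).toMonoidHom := (MulAut.conj α).injective
  have e1 := Subgroup.equivMapOfInjective
    ((cGU (n := n) (F := F) (q := q)).range ⊓ Subgroup.centralizer {x}) _ hinj
  have h2 : ((cGU (n := n) (F := F) (q := q)).range ⊓ Subgroup.centralizer {x}).map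
      (MulAut.conj α).toMonoidHom = ((cGU (n := n) (F := F) (q := q)).comp j).range := by
    rw [Subgroup.map_inf _ _ _ hinj, AutPSL.map_conj_normal, AutPSL.map_centralizer_conj, hx₀, hC]
  exact ⟨(e1.trans (MulEquiv.subgroupCongr h2)).trans
    (QuotientGroup.quotientKerEquivRange _).symm⟩

end split

end

section

open Matrix

section detrange

variable {F : Type*} [Field F] {n q q₀ : ℕ} (D : UF F q) (σ : F ≃+* F)
  (D₀ : UF (AutPSL.fixF σ) q₀)
  (hc : ∀ x : AutPSL.fixF σ, (AutPSL.fixF σ).subtype (D₀.τ x) = D.τ ((AutPSL.fixF σ).subtype x))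

include D D₀ hc in
theorem map_mem_N1 {l : (AutPSL.fixF σ)ˣ} (hl : l ∈ N1 (AutPSL.fixF σ) q₀) :
    Units.map (AutPSL.fixF σ).subtype.toMonoidHom l ∈ N1 F q := by
  rw [mem_N1 D]
  have h1 := (mem_N1 D₀).1 hl
  have h2 := congrArg (AutPSL.fixF σ).subtype h1
  rw [map_mul, hc, map_one] at h2
  exact h2

/-- the inclusion of norm-one groups -/
noncomputable def iotaN : ↥(N1 (AutPSL.fixF σ) q₀) →* ↥(N1 F q) :=
  ((Units.map (AutPSL.fixF σ).subtype.toMonoidHom).comp (N1 (AutPSL.fixF σ) q₀).subtype).codRestrict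
    (N1 F q) (fun l => map_mem_N1 D σ D₀ hc l.2)

theorem iotaN_injective : Function.Injective (iotaN D σ D₀ hc) := by
  intro a b hab
  apply Subtype.ext
  apply Units.ext
  apply Subtype.ext
  have := congrArg (fun x : ↥(N1 F q) => ((x : Fˣ) : F)) hab
  exact this

theorem detN_jU (g : ↥(Cfsg.GU n (AutPSL.fixF σ) q₀)) :
    detN D (jU D σ D₀ hc g) = iotaN D σ D₀ hc (detN D₀ g) := by
  apply Subtype.ext
  apply Units.ext
  rw [detN_coe]
  change _ = (AutPSL.fixF σ).subtype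
    (((g : GL (Fin n) (AutPSL.fixF σ)) : Matrix (Fin n) (Fin n) (AutPSL.fixF σ))).det
  rw [RingHom.map_det]
  rfl

theorem range_detN_jU (hn : 1 ≤ n) :
    ((detN D).comp (jU (n := n) D σ D₀ hc)).range = (iotaN D σ D₀ hc).range := by
  ext u
  constructor
  · rintro ⟨g₁, rfl⟩
    exact ⟨_, (detN_jU D σ D₀ hc g₁).symm⟩
  · rintro ⟨u₁, rfl⟩
    refine ⟨dgN D₀ ⟨0, hn⟩ u₁, ?_⟩
    rw [MonoidHom.comp_apply, detN_jU, detN_dgN]

theorem card_range_detN_jU (hn : 1 ≤ n) :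
    Nat.card ((detN D).comp (jU (n := n) D σ D₀ hc)).range =
      Nat.card ↥(N1 (AutPSL.fixF σ) q₀) := by
  rw [range_detN_jU D σ D₀ hc hn,
    ← Nat.card_congr (MonoidHom.ofInjective (iotaN_injective D σ D₀ hc)).toEquiv]

end detrange

theorem s2705 {F : Type*} [Field F] [Fintype F] {p f q : ℕ} [Fact p.Prime] (hq : q = p ^ f)
    (hf : 1 ≤ f) (hF : Fintype.card F = q ^ 2) {n : ℕ} (hn : 3 ≤ n) (hs : ¬ (n = 3 ∧ q = 2))
    (x : MulAut (Cfsg.PSU n F q)) (hx : Cfsg.IsFieldAutClassPSU x) {r : ℕ} (hr : r.Prime)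
    (hro : Odd r) (hxr : orderOf x = r) (F₀ : Type*) [Field F₀] [Fintype F₀]
    (hF₀ : Fintype.card F₀ = p ^ (2 * (f / r))) :
    r ∣ f ∧ Nonempty (↥(Cfsg.inndiagPSU n F q ⊓ Subgroup.centralizer {x}) ≃*
      Cfsg.PGU n F₀ (p ^ (f / r))) ∧
      Cfsg.splitClassCount (Cfsg.inndiagPSU n F q) (Cfsg.Inn (Cfsg.PSU n F q)) x =
        Nat.gcd n ((q + 1) / (p ^ (f / r) + 1)) := by
  classical
  obtain ⟨D, -⟩ : ∃ D : UF F q, D = UF.ofCard hq hF := ⟨_, rfl⟩
  have hall := fun θ => isSemi_of_card hq hF hn hs θ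
  obtain ⟨α, φ, σ, hσ1, hσodd, hφ, hαx⟩ := hx
  have hφ' := eq_fU_of_isFieldAut hφ
  have hx₀ : α * x * α⁻¹ = fU σ := by rw [hαx, hφ']
  have hσr : orderOf σ = r := by
    rw [← orderOf_injective fU (fU_injective D hn) σ, ← hx₀, AutPSL.orderOf_conj', hxr]
  have hd : r ∣ f := by
    rw [← hσr]
    exact orderOf_dvd_f hq hF σ hσodd
  obtain ⟨D₀, hD₀⟩ : ∃ D₀ : UF (AutPSL.fixF σ) (p ^ (f / r)),
      D₀ = fixUF hq hF σ hr.pos hσr hro := ⟨_, rfl⟩
  have hc : ∀ x : AutPSL.fixF σ,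
      (AutPSL.fixF σ).subtype (D₀.τ x) = D.τ ((AutPSL.fixF σ).subtype x) := by
    intro x
    rw [hD₀]
    exact fixUF_compat D hq hF σ hr.pos hσr hro x
  have hC := centralizer_fU (n := n) D σ D₀ hc hn hr.pos hσr
  have hF₀' : Fintype.card F₀ = (p ^ (f / r)) ^ 2 := by rw [hF₀, ← pow_mul, mul_comm]
  haveI : Fintype (AutPSL.fixF σ) := Fintype.ofFinite _
  have hF₁ : Fintype.card (AutPSL.fixF σ) = (p ^ (f / r)) ^ 2 := by
    rw [← Nat.card_eq_fintype_card]
    exact card_fixU hq hF σ hr.pos hσr hro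
  refine ⟨hd, ?_, ?_⟩
  · obtain ⟨e1⟩ := centralizer_isoU D hn hall x α (fU σ) hx₀ (jU D σ D₀ hc) hC
    have e2 := QuotientGroup.quotientMulEquivOfEq (ker_cGU_jU (n := n) D σ D₀ hc hn)
    have hcard : Fintype.card (AutPSL.fixF σ) = Fintype.card F₀ := by rw [hF₁, hF₀']
    have e3 : Cfsg.PGU n (AutPSL.fixF σ) (p ^ (f / r)) ≃* Cfsg.PGU n F₀ (p ^ (f / r)) :=
      pguCongr D₀ (UF.ofCard (p := p) (f := f / r) rfl hF₀')
        (FiniteField.ringEquivOfCardEq hcard)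
    exact ⟨(e1.trans e2).trans e3⟩
  · have hq₀ : 2 ≤ p ^ (f / r) := two_le_q (p := p) (f := f / r) rfl hF₁
    rw [split_psu D hn hall x α (fU σ) hx₀ (jU D σ D₀ hc) hC, AutPSL.cyclic_index,
      card_range_detN_jU D σ D₀ hc (by omega), card_N1 hF (two_le_q hq hF), card_N1 hF₁ hq₀]

end

end Cfsg.Agent.Lib.H13.AutPSU
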