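import Mathlib
import Cfsg.Agent.Lib.H3.DF0
import Cfsg.Agent.Lib.H3.DFD6a
import Cfsg.Agent.Lib.H13.DFD2
import Cfsg.Agent.Lib.H26.DFD10Core
import Cfsg.Agent.Lib.H12.DFD8

/-!
# S4316 pieces D10a `card_Gc_le` and D10b `card_le_dN_mul` (helper13; twin wrapper)

Exact-signature wrappers of helper26's core `Cfsg.Agent.Lib.H26.DF.card_Gc_le_of` /
`card_le_dN_mul_of` on the landed pieces D2, D3, D3' (H13.DFD2), D6a (H3.DFD6a) and D8 (helper12's H12.DFD8).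
-/

set_option autoImplicit false

universe u

namespace Cfsg.Agent.Lib.H13.DF

open Subgroup Cfsg.Agent.Lib.H3.DF
open scoped commutatorElement

variable {Γ : Type u} [Group Γ] [Finite Γ]

/-- D10a. `|C_G(c) : C_G(c) ∩ C(T)| ≤ J^(q+1)`. -/
theorem card_Gc_le {q m : ℕ} [Fact q.Prime] {G A : Subgroup Γ} (h : DHyp q m G A) {c : Γ}
    (hc : c ∈ A) (hc1 : c ≠ 1) :
    Nat.card ↥(Gc G c) ≤
      dJ q m ^ (q + 1) * Nat.card ↥(Gc G c ⊓ centralizer (TT G A : Set Γ)) := by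
  obtain ⟨_, _, hAGc, _, hAT⟩ := Cfsg.Agent.Lib.H3.DF.TT_facts h
  exact Cfsg.Agent.Lib.H26.DF.card_Gc_le_of h
    (fun b c hb hc hc1 hbc => isPlane_sup_zpowers h.e3 hb hc hc1 hbc)
    (fun c hc hc1 => exists_compl_plane h.e3 hc hc1)
    (fun B hB => isEpp_of_isPlane h.e3 hB)
    hAGc hAT
    (fun B hB => Cfsg.Agent.Lib.H12.DF.card_HB_le_mul_centralizer_TT h hB) hc hc1

/-- D10b. `|G : C_G(T)| ≤ dN q m`. -/
theorem card_le_dN_mul {q m : ℕ} [Fact q.Prime] {G A : Subgroup Γ} (h : DHyp q m G A) :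
    Nat.card G ≤ dN q m * Nat.card ↥(G ⊓ centralizer (TT G A : Set Γ)) := by
  obtain ⟨_, _, _, _, hAT⟩ := Cfsg.Agent.Lib.H3.DF.TT_facts h
  exact Cfsg.Agent.Lib.H26.DF.card_le_dN_mul_of h
    (fun c hc hc1 => exists_compl_plane h.e3 hc hc1)
    (fun B hB => isEpp_of_isPlane h.e3 hB)
    hAT
    (fun c hc hc1 => card_Gc_le h hc hc1)

end Cfsg.Agent.Lib.H13.DF
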