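import Cfsg.Agent.Lib.H13.Dickson
import Cfsg.Agent.Lib.H13.Char2Mat
import Cfsg.Agent.Lib.H13.OrthSum

set_option autoImplicit false

namespace Cfsg.Agent.Lib.H13.DicksonGen

open Matrix
open scoped MatrixGroups

variable {F : Type*} [Field F] {κ : Type} [Fintype κ] [DecidableEq κ]

/-- the hyperbolic form on `κ ⊕ κ` -/
def hyp (x : κ ⊕ κ → F) : F := (x ∘ Sum.inl) ⬝ᵥ (x ∘ Sum.inr)

theorem hyp_eq_dot (x : κ ⊕ κ → F) : hyp x = (x ∘ Sum.inl) ⬝ᵥ (x ∘ Sum.inr) := rfl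

/-- quadratic-alternating matrices: `uᵀ N u = 0` for all `u` -/
def QAlt (N : Matrix κ κ F) : Prop := ∀ u : κ → F, u ⬝ᵥ (N *ᵥ u) = 0

theorem bil_single (N : Matrix κ κ F) (i j : κ) :
    (Pi.single i (1 : F) : κ → F) ⬝ᵥ (N *ᵥ Pi.single j 1) = N i j := by
  rw [single_one_dotProduct, mulVec_single_one]
  rfl

theorem QAlt.diag {N : Matrix κ κ F} (h : QAlt N) (i : κ) : N i i = 0 := by
  have := h (Pi.single i 1)
  rwa [bil_single] at this

theorem QAlt.symm' {N : Matrix κ κ F} (h : QAlt N) (i j : κ) :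
    N i j + N j i = 0 := by
  have := h (Pi.single i 1 + Pi.single j 1)
  rw [Matrix.mulVec_add, add_dotProduct, dotProduct_add, dotProduct_add, bil_single, bil_single,
    bil_single, bil_single, h.diag, h.diag] at this
  linear_combination this

theorem QAlt.transpose {N : Matrix κ κ F} (h : QAlt N) : QAlt Nᵀ := by
  intro u
  rw [Matrix.mulVec_transpose, dotProduct_comm, ← dotProduct_mulVec]
  exact h u

theorem QAlt.add_transpose {N : Matrix κ κ F} (h : QAlt N) : N + Nᵀ = 0 := by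
  ext i j
  exact h.symm' i j

theorem trace_mul_of_QAlt [CharP F 2] {N₁ N₂ : Matrix κ κ F} (h₁ : QAlt N₁)
    (h₂ : QAlt N₂) : Matrix.trace (N₁ * N₂) = 0 := by
  have h : Matrix.trace (N₁ * N₂) = ∑ p : κ × κ, N₁ p.1 p.2 * N₂ p.2 p.1 := by
    rw [Matrix.trace, Fintype.sum_prod_type]
    rfl
  rw [h]
  apply Finset.sum_involution (fun p _ => Prod.swap p)
  · intro p _
    simp only [Prod.fst_swap, Prod.snd_swap]
    have e1 := h₁.symm' p.1 p.2
    have e2 := h₂.symm' p.1 p.2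
    have e1' : N₁ p.2 p.1 = N₁ p.1 p.2 := by
      have : N₁ p.2 p.1 = - N₁ p.1 p.2 := by linear_combination e1
      rw [this, CharTwo.neg_eq]
    have e2' : N₂ p.1 p.2 = N₂ p.2 p.1 := by
      have : N₂ p.1 p.2 = - N₂ p.2 p.1 := by linear_combination e2
      rw [this, CharTwo.neg_eq]
    rw [e1', e2']
    exact CharTwo.add_self_eq_zero _
  · intro p _ hp hswap
    apply hp
    have : p.1 = p.2 := by
      have := congrArg Prod.fst hswap
      simpa using this.symm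
    rw [this, h₁.diag, zero_mul]
  · intro p _
    exact Finset.mem_univ _
  · intro p _
    exact Prod.swap_swap p

/-- isometries of the hyperbolic form, as matrices -/
def IsIso (M : Matrix (κ ⊕ κ) (κ ⊕ κ) F) : Prop :=
  ∀ x : κ ⊕ κ → F, hyp (M *ᵥ x) = hyp x

/-- the column relations -/
structure ColRel (A B C D : Matrix κ κ F) : Prop where
  ac : QAlt (Aᵀ * C)
  bd : QAlt (Bᵀ * D)
  ad : Aᵀ * D + Cᵀ * B = 1

theorem dot_mulVec_mulVec (A C : Matrix κ κ F) (u w : κ → F) :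
    (A *ᵥ u) ⬝ᵥ (C *ᵥ w) = u ⬝ᵥ ((Aᵀ * C) *ᵥ w) := by
  rw [← Matrix.mulVec_mulVec, dotProduct_mulVec u, Matrix.vecMul_transpose]

theorem hyp_fromBlocks (A B C D : Matrix κ κ F) (u w : κ → F) :
    hyp (fromBlocks A B C D *ᵥ Sum.elim u w) =
      u ⬝ᵥ ((Aᵀ * C) *ᵥ u) + u ⬝ᵥ ((Aᵀ * D + Cᵀ * B) *ᵥ w) + w ⬝ᵥ ((Bᵀ * D) *ᵥ w) := by
  rw [hyp_eq_dot, fromBlocks_mulVec]
  have h1 : (Sum.elim (A *ᵥ Sum.elim u w ∘ Sum.inl + B *ᵥ Sum.elim u w ∘ Sum.inr)
      (C *ᵥ Sum.elim u w ∘ Sum.inl + D *ᵥ Sum.elim u w ∘ Sum.inr)) ∘ Sum.inl =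
      A *ᵥ u + B *ᵥ w := rfl
  have h2 : (Sum.elim (A *ᵥ Sum.elim u w ∘ Sum.inl + B *ᵥ Sum.elim u w ∘ Sum.inr)
      (C *ᵥ Sum.elim u w ∘ Sum.inl + D *ᵥ Sum.elim u w ∘ Sum.inr)) ∘ Sum.inr =
      C *ᵥ u + D *ᵥ w := rfl
  rw [h1, h2, add_dotProduct, dotProduct_add, dotProduct_add, dot_mulVec_mulVec, dot_mulVec_mulVec,
    dot_mulVec_mulVec, dot_mulVec_mulVec, Matrix.add_mulVec, dotProduct_add]
  have h3 : w ⬝ᵥ ((Bᵀ * C) *ᵥ u) = u ⬝ᵥ ((Cᵀ * B) *ᵥ w) := by
    rw [← dot_mulVec_mulVec, ← dot_mulVec_mulVec, dotProduct_comm]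
  rw [h3]
  ring

theorem colRel_of_isIso {A B C D : Matrix κ κ F} (h : IsIso (fromBlocks A B C D)) :
    ColRel A B C D := by
  have hac : QAlt (Aᵀ * C) := by
    intro u
    have := h (Sum.elim u 0)
    rw [hyp_fromBlocks, hyp_eq_dot] at this
    simpa using this
  have hbd : QAlt (Bᵀ * D) := by
    intro w
    have := h (Sum.elim 0 w)
    rw [hyp_fromBlocks, hyp_eq_dot] at this
    simpa using this
  refine ⟨hac, hbd, ?_⟩
  ext i j
  have := h (Sum.elim (Pi.single i 1) (Pi.single j 1))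
  rw [hyp_fromBlocks, hyp_eq_dot, hac, hbd, bil_single] at this
  have h5 : (Sum.elim (Pi.single i (1 : F)) (Pi.single j (1 : F)) ∘ Sum.inl : κ → F) =
      Pi.single i 1 := rfl
  have h6 : (Sum.elim (Pi.single i (1 : F)) (Pi.single j (1 : F)) ∘ Sum.inr : κ → F) =
      Pi.single j 1 := rfl
  rw [h5, h6, single_one_dotProduct] at this
  rw [Matrix.one_apply]
  simp only [zero_add, add_zero] at this
  rw [this, Pi.single_apply]

theorem IsIso.mul {M N : Matrix (κ ⊕ κ) (κ ⊕ κ) F} (hM : IsIso M) (hN : IsIso N) : IsIso (M * N) := by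
  intro x
  rw [← Matrix.mulVec_mulVec, hM, hN]

/-- the swap matrix -/
def J0 : Matrix (κ ⊕ κ) (κ ⊕ κ) F := fromBlocks 0 1 1 0

theorem J0_mul_self : (J0 : Matrix (κ ⊕ κ) (κ ⊕ κ) F) * J0 = 1 := by
  unfold J0
  rw [fromBlocks_multiply]
  simp [fromBlocks_one]

theorem J0_isIso : IsIso (J0 : Matrix (κ ⊕ κ) (κ ⊕ κ) F) := by
  intro x
  rw [hyp_eq_dot, hyp_eq_dot, J0, fromBlocks_mulVec]
  simp only [Matrix.zero_mulVec, Matrix.one_mulVec, zero_add, add_zero]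
  exact dotProduct_comm _ _

theorem transpose_J0_mul {A B C D : Matrix κ κ F} (h : ColRel A B C D) :
    (fromBlocks A B C D)ᵀ * J0 * fromBlocks A B C D = J0 := by
  unfold J0
  rw [fromBlocks_transpose, fromBlocks_multiply, fromBlocks_multiply]
  simp only [Matrix.mul_zero, Matrix.mul_one, zero_add, add_zero]
  have h1 : Cᵀ * A + Aᵀ * C = 0 := by
    have := h.ac.add_transpose
    rw [Matrix.transpose_mul, Matrix.transpose_transpose] at this
    rw [add_comm]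
    exact this
  have h2 : Dᵀ * B + Bᵀ * D = 0 := by
    have := h.bd.add_transpose
    rw [Matrix.transpose_mul, Matrix.transpose_transpose] at this
    rw [add_comm]
    exact this
  have h3 : Cᵀ * B + Aᵀ * D = 1 := by
    rw [add_comm]
    exact h.ad
  have h4 : Dᵀ * A + Bᵀ * C = 1 := by
    have := congrArg Matrix.transpose h.ad
    rw [Matrix.transpose_add, Matrix.transpose_mul, Matrix.transpose_mul, Matrix.transpose_transpose,
      Matrix.transpose_transpose, Matrix.transpose_one] at this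
    exact this
  rw [h1, h2, h3, h4]

theorem IsIso.transpose {M : Matrix (κ ⊕ κ) (κ ⊕ κ) F} (hM : IsIso M) : IsIso Mᵀ := by
  have hcr : ColRel M.toBlocks₁₁ M.toBlocks₁₂ M.toBlocks₂₁ M.toBlocks₂₂ :=
    colRel_of_isIso (by rw [fromBlocks_toBlocks]; exact hM)
  have h1 := transpose_J0_mul hcr
  rw [fromBlocks_toBlocks] at h1
  -- `(J0 Mᵀ J0) M = 1`
  have h2 : (J0 * Mᵀ * J0) * M = 1 := by
    rw [Matrix.mul_assoc, Matrix.mul_assoc, ← Matrix.mul_assoc Mᵀ, h1, J0_mul_self]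
  have h3 : M * (J0 * Mᵀ * J0) = 1 := mul_eq_one_comm.mp h2
  have hinv : IsIso (J0 * Mᵀ * J0) := by
    intro x
    have := hM ((J0 * Mᵀ * J0) *ᵥ x)
    rw [Matrix.mulVec_mulVec, h3, Matrix.one_mulVec] at this
    exact this.symm
  have h4 : Mᵀ = J0 * (J0 * Mᵀ * J0) * J0 := by
    rw [Matrix.mul_assoc J0 Mᵀ, ← Matrix.mul_assoc J0 J0, J0_mul_self, Matrix.one_mul, Matrix.mul_assoc,
      J0_mul_self, Matrix.mul_one]
  rw [h4]
  exact (J0_isIso.mul hinv).mul J0_isIso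

/-- the row relations -/
theorem rowRel_of_isIso {A B C D : Matrix κ κ F} (h : IsIso (fromBlocks A B C D)) :
    QAlt (A * Bᵀ) ∧ QAlt (C * Dᵀ) ∧ A * Dᵀ + B * Cᵀ = 1 := by
  have ht := h.transpose
  rw [fromBlocks_transpose] at ht
  have := colRel_of_isIso ht
  refine ⟨?_, ?_, ?_⟩
  · simpa using this.ac
  · simpa using this.bd
  · simpa using this.ad

/-- the Dickson (pseudo-determinant) functional `tr(B Cᵀ)` -/
def dk (M : Matrix (κ ⊕ κ) (κ ⊕ κ) F) : F := Matrix.trace (M.toBlocks₁₂ * M.toBlocks₂₁ᵀ)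

theorem dk_fromBlocks (A B C D : Matrix κ κ F) :
    dk (fromBlocks A B C D) = Matrix.trace (B * Cᵀ) := by
  rw [dk, toBlocks_fromBlocks₁₂, toBlocks_fromBlocks₂₁]

theorem dk_mul_blocks [CharP F 2] {A B C D A' B' C' D' : Matrix κ κ F}
    (h : IsIso (fromBlocks A B C D)) (h' : IsIso (fromBlocks A' B' C' D')) :
    dk (fromBlocks A B C D * fromBlocks A' B' C' D') =
      dk (fromBlocks A B C D) + dk (fromBlocks A' B' C' D') := by
  have hc := colRel_of_isIso h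
  obtain ⟨r1, r2, r3⟩ := rowRel_of_isIso h'
  rw [fromBlocks_multiply, dk_fromBlocks, dk_fromBlocks, dk_fromBlocks]
  rw [Matrix.transpose_add, Matrix.transpose_mul, Matrix.transpose_mul, Matrix.add_mul,
    Matrix.mul_add, Matrix.mul_add, Matrix.trace_add, Matrix.trace_add, Matrix.trace_add]
  -- the four terms
  have T1 : Matrix.trace (A * B' * (A'ᵀ * Cᵀ)) = 0 := by
    have e : A * B' * (A'ᵀ * Cᵀ) = A * (B' * A'ᵀ) * Cᵀ := by
      simp only [Matrix.mul_assoc]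
    rw [e, Matrix.trace_mul_cycle, ← Matrix.mul_assoc]
    have q1 : QAlt (Cᵀ * A) := by
      have := hc.ac.transpose
      rwa [Matrix.transpose_mul, Matrix.transpose_transpose] at this
    have q2 : QAlt (B' * A'ᵀ) := by
      have := r1.transpose
      rwa [Matrix.transpose_mul, Matrix.transpose_transpose] at this
    rw [Matrix.mul_assoc]
    exact trace_mul_of_QAlt q1 q2
  have T4 : Matrix.trace (B * D' * (C'ᵀ * Dᵀ)) = 0 := by
    have e : B * D' * (C'ᵀ * Dᵀ) = B * (D' * C'ᵀ) * Dᵀ := by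
      simp only [Matrix.mul_assoc]
    rw [e, Matrix.trace_mul_cycle, ← Matrix.mul_assoc]
    have q1 : QAlt (Dᵀ * B) := by
      have := hc.bd.transpose
      rwa [Matrix.transpose_mul, Matrix.transpose_transpose] at this
    have q2 : QAlt (D' * C'ᵀ) := by
      have := r2.transpose
      rwa [Matrix.transpose_mul, Matrix.transpose_transpose] at this
    rw [Matrix.mul_assoc]
    exact trace_mul_of_QAlt q1 q2
  have hDA : Dᵀ * A = 1 - Bᵀ * C := by
    have := congrArg Matrix.transpose hc.ad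
    rw [Matrix.transpose_add, Matrix.transpose_mul, Matrix.transpose_mul, Matrix.transpose_transpose,
      Matrix.transpose_transpose, Matrix.transpose_one] at this
    rw [← this]
    abel
  have hDA' : D' * A'ᵀ = 1 - C' * B'ᵀ := by
    have := congrArg Matrix.transpose r3
    rw [Matrix.transpose_add, Matrix.transpose_mul, Matrix.transpose_mul, Matrix.transpose_transpose,
      Matrix.transpose_transpose, Matrix.transpose_one] at this
    rw [← this]
    abel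
  have T2 : Matrix.trace (A * B' * (C'ᵀ * Dᵀ)) =
      Matrix.trace (B' * C'ᵀ) - Matrix.trace (Bᵀ * C * (B' * C'ᵀ)) := by
    have e : A * B' * (C'ᵀ * Dᵀ) = A * (B' * C'ᵀ) * Dᵀ := by
      simp only [Matrix.mul_assoc]
    have e2 : Matrix.trace (A * (B' * C'ᵀ) * Dᵀ) = Matrix.trace (Dᵀ * A * (B' * C'ᵀ)) :=
      Matrix.trace_mul_cycle A (B' * C'ᵀ) Dᵀ
    rw [e, e2, hDA, Matrix.sub_mul, Matrix.one_mul, Matrix.trace_sub]
  have T3 : Matrix.trace (B * D' * (A'ᵀ * Cᵀ)) =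
      Matrix.trace (B * Cᵀ) - Matrix.trace (Bᵀ * C * (B' * C'ᵀ)) := by
    have e : B * D' * (A'ᵀ * Cᵀ) = B * (D' * A'ᵀ) * Cᵀ := by
      simp only [Matrix.mul_assoc]
    have e3 : Matrix.trace (B * (C' * B'ᵀ) * Cᵀ) = Matrix.trace (Bᵀ * C * (B' * C'ᵀ)) := by
      have t1 : (B * (C' * B'ᵀ) * Cᵀ)ᵀ = C * ((B' * C'ᵀ) * Bᵀ) := by
        rw [Matrix.transpose_mul, Matrix.transpose_mul, Matrix.transpose_mul,
          Matrix.transpose_transpose, Matrix.transpose_transpose, Matrix.mul_assoc]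
      rw [← Matrix.trace_transpose (B * (C' * B'ᵀ) * Cᵀ), t1, Matrix.trace_mul_comm,
        Matrix.mul_assoc (B' * C'ᵀ), Matrix.trace_mul_comm, Matrix.mul_assoc]
    rw [e, hDA', Matrix.mul_sub, Matrix.mul_one, Matrix.sub_mul, Matrix.trace_sub, e3]
  rw [T1, T4, T2, T3]
  have h2 : Matrix.trace (Bᵀ * C * (B' * C'ᵀ)) + Matrix.trace (Bᵀ * C * (B' * C'ᵀ)) = 0 :=
    CharTwo.add_self_eq_zero _
  linear_combination -h2

theorem dk_mul [CharP F 2] {M N : Matrix (κ ⊕ κ) (κ ⊕ κ) F} (hM : IsIso M) (hN : IsIso N) :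
    dk (M * N) = dk M + dk N := by
  rw [← fromBlocks_toBlocks M] at hM
  rw [← fromBlocks_toBlocks N] at hN
  have := dk_mul_blocks hM hN
  rwa [fromBlocks_toBlocks, fromBlocks_toBlocks] at this

theorem dk_one : dk (1 : Matrix (κ ⊕ κ) (κ ⊕ κ) F) = 0 := by
  rw [← fromBlocks_one, dk_fromBlocks]
  simp

/-- `hyp` as a quadratic form -/
noncomputable def hypQF (F : Type*) [Field F] (κ : Type) [Fintype κ] [DecidableEq κ] :
    QuadraticForm F (κ ⊕ κ → F) :=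
  ∑ i : κ, QuadraticMap.linMulLin
    (LinearMap.proj (R := F) (φ := fun _ : κ ⊕ κ => F) (Sum.inl i))
    (LinearMap.proj (R := F) (φ := fun _ : κ ⊕ κ => F) (Sum.inr i))

theorem hypQF_apply (x : κ ⊕ κ → F) : hypQF F κ x = hyp x := by
  simp [hypQF, hyp, QuadraticMap.sum_apply, dotProduct]

theorem coe_hypQF : ⇑(hypQF F κ) = (hyp : (κ ⊕ κ → F) → F) := by
  funext x
  exact hypQF_apply x

theorem polar_hyp (u v : κ ⊕ κ → F) :
    QuadraticMap.polar (hyp : (κ ⊕ κ → F) → F) u v =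
      (u ∘ Sum.inl) ⬝ᵥ (v ∘ Sum.inr) + (v ∘ Sum.inl) ⬝ᵥ (u ∘ Sum.inr) := by
  unfold QuadraticMap.polar hyp
  have e1 : (u + v) ∘ Sum.inl = u ∘ Sum.inl + v ∘ (Sum.inl : κ → κ ⊕ κ) := rfl
  have e2 : (u + v) ∘ Sum.inr = u ∘ Sum.inr + v ∘ (Sum.inr : κ → κ ⊕ κ) := rfl
  rw [e1, e2, add_dotProduct, dotProduct_add, dotProduct_add]
  ring

theorem polarVec_hyp (w : κ ⊕ κ → F) :
    Cfsg.polarVec (hyp : (κ ⊕ κ → F) → F) w = Sum.elim (w ∘ Sum.inr) (w ∘ Sum.inl) := by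
  funext s
  unfold Cfsg.polarVec
  rw [polar_hyp]
  rcases s with i | i
  · have e1 : (Pi.single (Sum.inl i : κ ⊕ κ) (1 : F)) ∘ Sum.inr = (0 : κ → F) := by
      funext j; simp [Pi.single_apply]
    have e2 : (Pi.single (Sum.inl i : κ ⊕ κ) (1 : F)) ∘ Sum.inl = (Pi.single i 1 : κ → F) := by
      funext j; simp [Pi.single_apply]
    rw [e1, e2, dotProduct_zero, zero_add, single_one_dotProduct]
    rfl
  · have e1 : (Pi.single (Sum.inr i : κ ⊕ κ) (1 : F)) ∘ Sum.inr = (Pi.single i 1 : κ → F) := by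
      funext j; simp [Pi.single_apply]
    have e2 : (Pi.single (Sum.inr i : κ ⊕ κ) (1 : F)) ∘ Sum.inl = (0 : κ → F) := by
      funext j; simp [Pi.single_apply]
    rw [e1, e2, zero_dotProduct, add_zero, dotProduct_single_one]
    rfl

/-- the Dickson invariant of a reflection is `1` -/
theorem dk_refl (w : κ ⊕ κ → F) (hw : hyp w ≠ 0) :
    dk (Cfsg.reflectionMatrix (hyp : (κ ⊕ κ → F) → F) w) = 1 := by
  unfold dk Cfsg.reflectionMatrix
  rw [polarVec_hyp]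
  set a : κ → F := w ∘ Sum.inl with ha
  set b : κ → F := w ∘ Sum.inr with hb
  set c : F := hyp w with hc
  have hcab : ∑ i, a i * b i = c := rfl
  have h12 : (1 - c⁻¹ • Matrix.vecMulVec w (Sum.elim b a)).toBlocks₁₂ =
      -(c⁻¹ • Matrix.vecMulVec a a) := by
    ext i j
    simp [Matrix.toBlocks₁₂, Matrix.vecMulVec_apply, ha]
  have h21 : (1 - c⁻¹ • Matrix.vecMulVec w (Sum.elim b a)).toBlocks₂₁ =
      -(c⁻¹ • Matrix.vecMulVec b b) := by
    ext i j
    simp [Matrix.toBlocks₂₁, Matrix.vecMulVec_apply, hb]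
  rw [h12, h21, Matrix.trace]
  simp only [Matrix.diag_apply, Matrix.mul_apply, Matrix.neg_apply, Matrix.smul_apply,
    Matrix.vecMulVec_apply, Matrix.transpose_apply, smul_eq_mul]
  have : ∀ i : κ, ∑ j : κ, -(c⁻¹ * (a i * a j)) * -(c⁻¹ * (b i * b j)) =
      c⁻¹ * c⁻¹ * (a i * b i) * ∑ j, a j * b j := by
    intro i
    rw [Finset.mul_sum]
    apply Finset.sum_congr rfl
    intro j _
    ring
  simp only [this]
  rw [← Finset.sum_mul, ← Finset.mul_sum, hcab]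
  field_simp

section gen

variable {ι : Type} [Fintype ι] [DecidableEq ι] (Q : QuadraticForm F (ι → F))

open Cfsg.Agent.Lib.H13.OrthSum

theorem exists_matrix : ∃ N : Matrix ι ι F, ∀ x, Q x = x ⬝ᵥ N *ᵥ x := by
  obtain ⟨β, hβ⟩ := LinearMap.BilinMap.toQuadraticMap_surjective Q
  refine ⟨LinearMap.toMatrix₂' F β, fun x => ?_⟩
  rw [← Matrix.toLinearMap₂'_apply', Matrix.toLinearMap₂'_toMatrix', ← hβ]
  rfl

/-- the transfer matrix from `Q ⊥ Q` to the hyperbolic form -/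
def Phi (N : Matrix ι ι F) : Matrix (ι ⊕ ι) (ι ⊕ ι) F := fromBlocks N Nᵀ 1 1

theorem dot_transpose (N : Matrix ι ι F) (x y : ι → F) :
    (Nᵀ *ᵥ y) ⬝ᵥ x = (N *ᵥ x) ⬝ᵥ y := by
  rw [dotProduct_comm, dotProduct_mulVec, Matrix.vecMul_transpose]

theorem hyp_Phi [CharP F 2] (N : Matrix ι ι F) (hN : ∀ x, Q x = x ⬝ᵥ N *ᵥ x) (v : ι ⊕ ι → F) :
    hyp (Phi N *ᵥ v) = sumQF Q Q v := by
  rw [sumQF_apply, hyp_eq_dot, Phi, fromBlocks_mulVec]
  have h1 : (Sum.elim (N *ᵥ v ∘ Sum.inl + Nᵀ *ᵥ v ∘ Sum.inr)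
      ((1 : Matrix ι ι F) *ᵥ v ∘ Sum.inl + (1 : Matrix ι ι F) *ᵥ v ∘ Sum.inr)) ∘ Sum.inl =
      N *ᵥ v ∘ Sum.inl + Nᵀ *ᵥ v ∘ Sum.inr := rfl
  have h2 : (Sum.elim (N *ᵥ v ∘ Sum.inl + Nᵀ *ᵥ v ∘ Sum.inr)
      ((1 : Matrix ι ι F) *ᵥ v ∘ Sum.inl + (1 : Matrix ι ι F) *ᵥ v ∘ Sum.inr)) ∘ Sum.inr =
      v ∘ Sum.inl + v ∘ Sum.inr := by
    simp only [Matrix.one_mulVec]
    rfl
  rw [h1, h2, add_dotProduct, dotProduct_add, dotProduct_add, hN, hN, dot_transpose, dot_transpose,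
    dotProduct_comm (N *ᵥ v ∘ Sum.inl) (v ∘ Sum.inl), dotProduct_comm (N *ᵥ v ∘ Sum.inr) (v ∘ Sum.inr)]
  have := CharTwo.add_self_eq_zero ((N *ᵥ v ∘ Sum.inl) ⬝ᵥ (v ∘ Sum.inr))
  linear_combination this

theorem polar_eq (N : Matrix ι ι F) (hN : ∀ x, Q x = x ⬝ᵥ N *ᵥ x) (x y : ι → F) :
    QuadraticMap.polar (⇑Q) x y = x ⬝ᵥ (N + Nᵀ) *ᵥ y := by
  unfold QuadraticMap.polar
  rw [hN, hN, hN, Matrix.mulVec_add, add_dotProduct, dotProduct_add, dotProduct_add,
    Matrix.add_mulVec, dotProduct_add]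
  have : y ⬝ᵥ N *ᵥ x = x ⬝ᵥ Nᵀ *ᵥ y := by
    rw [dotProduct_comm x, dot_transpose, dotProduct_comm]
  rw [this]
  ring

theorem Phi_isUnit [CharP F 2] (hQ : (QuadraticMap.polarBilin Q).Nondegenerate)
    (N : Matrix ι ι F) (hN : ∀ x, Q x = x ⬝ᵥ N *ᵥ x) : IsUnit (Phi N) := by
  rw [← Matrix.mulVec_injective_iff_isUnit]
  have hinj : Function.Injective (Matrix.mulVecLin (Phi N)) := by
    rw [injective_iff_map_eq_zero]
    intro v hv
    rw [Matrix.mulVecLin_apply, Phi, fromBlocks_mulVec] at hv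
    have h1 : N *ᵥ v ∘ Sum.inl + Nᵀ *ᵥ v ∘ Sum.inr = 0 := by
      have := congrArg (fun f => f ∘ Sum.inl) hv
      exact this
    have h2 : v ∘ Sum.inl + v ∘ Sum.inr = 0 := by
      have := congrArg (fun f => f ∘ Sum.inr) hv
      simp only [Matrix.one_mulVec] at this
      exact this
    have h3 : v ∘ Sum.inr = v ∘ Sum.inl := by
      have : v ∘ Sum.inr = -(v ∘ Sum.inl) := by
        rw [eq_neg_iff_add_eq_zero, add_comm]; exact h2
      rw [this, Cfsg.Agent.Lib.H13.Char2Gen.neg_eq_self F]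
    rw [h3, ← Matrix.add_mulVec] at h1
    have h4 : v ∘ Sum.inl = 0 := by
      apply hQ.2
      intro z
      rw [QuadraticMap.polarBilin_apply_apply, polar_eq Q N hN, h1, dotProduct_zero]
    funext s
    rcases s with i | i
    · exact congrFun h4 i
    · have := congrFun h3 i
      simp only [Function.comp_apply] at this
      rw [this]
      exact congrFun h4 i
  exact hinj

/-- conjugating a reflection by an isometry between two forms -/
theorem conj_refl_two {κ' : Type} [Fintype κ'] [DecidableEq κ'] (Q' : QuadraticForm F (κ' → F))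
    (M : Matrix κ' ι F) (h : ∀ x, Q' (M *ᵥ x) = Q x) (w : ι → F) :
    M * Cfsg.reflectionMatrix (⇑Q) w = Cfsg.reflectionMatrix (⇑Q') (M *ᵥ w) * M := by
  have hpol : ∀ x y, QuadraticMap.polar (⇑Q') (M *ᵥ x) (M *ᵥ y) = QuadraticMap.polar (⇑Q) x y := by
    intro x y
    unfold QuadraticMap.polar
    rw [← Matrix.mulVec_add, h, h, h]
  apply Matrix.ext_iff_mulVec.mpr
  intro x
  rw [← Matrix.mulVec_mulVec, ← Matrix.mulVec_mulVec, Cfsg.Agent.Lib.H4.reflectionMatrix_mulVec,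
    Cfsg.Agent.Lib.H4.reflectionMatrix_mulVec, hpol, h, Matrix.mulVec_sub, Matrix.mulVec_smul]

/-- the transferred matrix -/
noncomputable def T (N : Matrix ι ι F) (g : Matrix ι ι F) : Matrix (ι ⊕ ι) (ι ⊕ ι) F :=
  Phi N * fromBlocks g 0 0 1 * (Phi N)⁻¹

theorem T_one (N : Matrix ι ι F) (hU : IsUnit (Phi N)) : T N 1 = 1 := by
  unfold T
  rw [fromBlocks_one, Matrix.mul_one, Matrix.mul_nonsing_inv _ ((Matrix.isUnit_iff_isUnit_det _).mp hU)]

theorem T_mul (N : Matrix ι ι F) (hU : IsUnit (Phi N)) (g h : Matrix ι ι F) :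
    T N (g * h) = T N g * T N h := by
  unfold T
  have hdet := (Matrix.isUnit_iff_isUnit_det _).mp hU
  have e : fromBlocks (g * h) 0 0 (1 : Matrix ι ι F) = fromBlocks g 0 0 1 * fromBlocks h 0 0 1 := by
    rw [fromBlocks_multiply]
    simp
  rw [e]
  calc Phi N * (fromBlocks g 0 0 1 * fromBlocks h 0 0 1) * (Phi N)⁻¹
      = Phi N * fromBlocks g 0 0 1 * (1 : Matrix (ι ⊕ ι) (ι ⊕ ι) F) * fromBlocks h 0 0 1 *
          (Phi N)⁻¹ := by
        simp only [Matrix.mul_one, Matrix.mul_assoc]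
    _ = Phi N * fromBlocks g 0 0 1 * ((Phi N)⁻¹ * Phi N) * fromBlocks h 0 0 1 * (Phi N)⁻¹ := by
        rw [Matrix.nonsing_inv_mul _ hdet]
    _ = _ := by
        simp only [Matrix.mul_assoc]

theorem T_isIso [CharP F 2] (N : Matrix ι ι F) (hN : ∀ x, Q x = x ⬝ᵥ N *ᵥ x)
    (hU : IsUnit (Phi N)) (g : ↥(Cfsg.isometryGroup F ⇑Q)) :
    IsIso (T N ((g : GL ι F) : Matrix ι ι F)) := by
  intro x
  have hdet := (Matrix.isUnit_iff_isUnit_det _).mp hU
  have hx : x = Phi N *ᵥ ((Phi N)⁻¹ *ᵥ x) := by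
    rw [Matrix.mulVec_mulVec, Matrix.mul_nonsing_inv _ hdet, Matrix.one_mulVec]
  have h1 : T N ((g : GL ι F) : Matrix ι ι F) *ᵥ x =
      Phi N *ᵥ (fromBlocks ((g : GL ι F) : Matrix ι ι F) 0 0 1 *ᵥ ((Phi N)⁻¹ *ᵥ x)) := by
    unfold T
    rw [Matrix.mulVec_mulVec, Matrix.mulVec_mulVec, Matrix.mul_assoc]
  rw [h1, hyp_Phi Q N hN]
  conv_rhs => rw [hx, hyp_Phi Q N hN]
  have := (Cfsg.Agent.Lib.H11.IsoReindex.mem_iso_iff' _ _).mp (blk_mem Q Q (g, 1))
    ((Phi N)⁻¹ *ᵥ x)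
  rw [blkGL_coe] at this
  exact this

theorem T_refl [CharP F 2] (N : Matrix ι ι F) (hN : ∀ x, Q x = x ⬝ᵥ N *ᵥ x)
    (hU : IsUnit (Phi N)) (v : ι → F) :
    T N (Cfsg.reflectionMatrix (⇑Q) v) =
      Cfsg.reflectionMatrix (hyp : (ι ⊕ ι → F) → F) (Phi N *ᵥ Sum.elim v 0) := by
  have hdet := (Matrix.isUnit_iff_isUnit_det _).mp hU
  unfold T
  rw [← refl_inl Q Q v, conj_refl_two (sumQF Q Q) (hypQF F ι) (Phi N)
    (fun x => by rw [hypQF_apply, hyp_Phi Q N hN]), Matrix.mul_assoc,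
    Matrix.mul_nonsing_inv _ hdet, Matrix.mul_one, coe_hypQF]

/-- the Dickson homomorphism of a nondegenerate quadratic form in characteristic two -/
noncomputable def dkQ [CharP F 2] (hQ : (QuadraticMap.polarBilin Q).Nondegenerate) :
    ↥(Cfsg.isometryGroup F ⇑Q) →* Multiplicative F where
  toFun g := Multiplicative.ofAdd (dk (T (Classical.choose (exists_matrix Q))
    ((g : GL ι F) : Matrix ι ι F)))
  map_one' := by
    show Multiplicative.ofAdd (dk (T (Classical.choose (exists_matrix Q)) (1 : Matrix ι ι F))) = 1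
    rw [T_one _ (Phi_isUnit Q hQ _ (Classical.choose_spec (exists_matrix Q))), dk_one]
    rfl
  map_mul' g h := by
    show Multiplicative.ofAdd (dk (T (Classical.choose (exists_matrix Q))
      (((g : GL ι F) : Matrix ι ι F) * ((h : GL ι F) : Matrix ι ι F)))) = _
    have hU := Phi_isUnit Q hQ _ (Classical.choose_spec (exists_matrix Q))
    rw [T_mul _ hU, dk_mul (T_isIso Q _ (Classical.choose_spec (exists_matrix Q)) hU g)
      (T_isIso Q _ (Classical.choose_spec (exists_matrix Q)) hU h)]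
    rfl

open Cfsg.Agent.Lib.H13.HypPairs in
theorem dkQ_refl [CharP F 2] (hQ : (QuadraticMap.polarBilin Q).Nondegenerate) (v : ι → F)
    (hv : Q v ≠ 0) : dkQ Q hQ (reflG Q v hv) = Multiplicative.ofAdd 1 := by
  have hU := Phi_isUnit Q hQ _ (Classical.choose_spec (exists_matrix Q))
  show Multiplicative.ofAdd (dk (T (Classical.choose (exists_matrix Q))
    (Cfsg.reflectionMatrix (⇑Q) v))) = _
  rw [T_refl Q _ (Classical.choose_spec (exists_matrix Q)) hU, dk_refl]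
  rw [hyp_Phi Q _ (Classical.choose_spec (exists_matrix Q)), sumQF_apply]
  have e1 : (Sum.elim v (0 : ι → F)) ∘ Sum.inl = v := rfl
  have e2 : (Sum.elim v (0 : ι → F)) ∘ Sum.inr = 0 := rfl
  rw [e1, e2, map_zero, add_zero]
  exact hv

end gen

end Cfsg.Agent.Lib.H13.DicksonGen
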