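import Mathlib
import Cfsg.Prelude.Def_LieExceptional
import Cfsg.Agent.Lib.H12.OddInvC
import Cfsg.Agent.Lib.H29.ChevCert13

/-!
# `E₈(F)`, `F` finite of odd order: the involutions of `N` over the ten classes of involutions of the Weyl group
are conjugate into `H` (generated; on helper12's generic descent steps `stepA`, `stepB`)
-/

set_option autoImplicit false
set_option linter.unusedSectionVars false
set_option linter.unusedVariables false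
set_option linter.unusedSimpArgs false
set_option maxRecDepth 100000

namespace Cfsg.Agent.Lib.H13.E8Odd

open Cfsg Cfsg.Lie Matrix Cfsg.Agent.Lib.H29.Chev Cfsg.Agent.Lib.H12.OddInv Cfsg.Agent.Lib.H12.InvCell

variable {F : Type*} [Field F] [Fintype F]

theorem e8_good_c0 (hodd : Fintype.card F % 2 = 1) (h2 : (2 : F) ≠ 0) : Good cert12_E8 F [] :=
  good_of_pos cert12_E8 [] (by decide +kernel)

theorem e8_good_c1 (hodd : Fintype.card F % 2 = 1) (h2 : (2 : F) ≠ 0) : Good cert12_E8 F [0] :=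
  stepB cert12_E8 h2 [0] [] 0 162 135 163 (by decide +kernel) (by decide +kernel) (by decide +kernel) (by decide +kernel) (by decide +kernel) (by decide +kernel) (by decide +kernel) (by decide +kernel) (by decide +kernel) (by decide +kernel) (by decide +kernel) (by decide +kernel)
    (good_of_conj cert12_E8 [0, 0] [] [] (by decide +kernel) (by decide +kernel) (e8_good_c0 hodd h2))

theorem e8_good_c2 (hodd : Fintype.card F % 2 = 1) (h2 : (2 : F) ≠ 0) : Good cert12_E8 F [0, 1] :=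
  stepB cert12_E8 h2 [0, 1] [] 1 141 130 142 (by decide +kernel) (by decide +kernel) (by decide +kernel) (by decide +kernel) (by decide +kernel) (by decide +kernel) (by decide +kernel) (by decide +kernel) (by decide +kernel) (by decide +kernel) (by decide +kernel) (by decide +kernel)
    (good_of_conj cert12_E8 [1, 0, 1] [0] [] (by decide +kernel) (by decide +kernel) (e8_good_c1 hodd h2))

theorem e8_good_c3 (hodd : Fintype.card F % 2 = 1) (h2 : (2 : F) ≠ 0) : Good cert12_E8 F [0, 1, 4] :=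
  stepB cert12_E8 h2 [0, 1, 4] [] 4 126 123 127 (by decide +kernel) (by decide +kernel) (by decide +kernel) (by decide +kernel) (by decide +kernel) (by decide +kernel) (by decide +kernel) (by decide +kernel) (by decide +kernel) (by decide +kernel) (by decide +kernel) (by decide +kernel)
    (good_of_conj cert12_E8 [4, 0, 1, 4] [0, 1] [] (by decide +kernel) (by decide +kernel) (e8_good_c2 hodd h2))

theorem e8_good_c4 (hodd : Fintype.card F % 2 = 1) (h2 : (2 : F) ≠ 0) : Good cert12_E8 F [0, 1, 4, 6] :=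
  stepB cert12_E8 h2 [0, 1, 4, 6] [] 6 121 120 122 (by decide +kernel) (by decide +kernel) (by decide +kernel) (by decide +kernel) (by decide +kernel) (by decide +kernel) (by decide +kernel) (by decide +kernel) (by decide +kernel) (by decide +kernel) (by decide +kernel) (by decide +kernel)
    (good_of_conj cert12_E8 [6, 0, 1, 4, 6] [0, 1, 4] [] (by decide +kernel) (by decide +kernel) (e8_good_c3 hodd h2))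

theorem e8_good_c5 (hodd : Fintype.card F % 2 = 1) (h2 : (2 : F) ≠ 0) : Good cert12_E8 F [1, 2, 3, 1, 2, 3, 4, 3, 1, 2, 3, 4] :=
  stepA cert12_E8 hodd h2 [1, 2, 3, 1, 2, 3, 4, 3, 1, 2, 3, 4] (by decide +kernel) 141 130 142 141 130 (by decide +kernel) (by decide +kernel) (by decide +kernel) (by decide +kernel) (by decide +kernel) (by decide +kernel) (by decide +kernel) (by decide +kernel) (by decide +kernel)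
    (Or.inl rfl) (by decide +kernel)
    [] [] [3] 1 3 1 (by decide +kernel) (by decide +kernel) (by decide +kernel) (by decide +kernel) (by decide +kernel) (by decide +kernel) (by decide +kernel) (by decide +kernel) (by decide +kernel)
    (good_of_conj cert12_E8 [1, 1, 2, 3, 1, 2, 3, 4, 3, 1, 2, 3, 4] [0, 1, 4] [2, 0, 3, 2, 4, 3] (by decide +kernel) (by decide +kernel) (e8_good_c3 hodd h2))
    (good_of_conj cert12_E8 [3, 1, 2, 3, 1, 2, 3, 4, 3, 1, 2, 3, 4] [0, 1, 4] [2, 0, 3, 1, 2, 4] (by decide +kernel) (by decide +kernel) (e8_good_c3 hodd h2))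
    (good_of_conj cert12_E8 [1, 3, 1, 2, 3, 1, 2, 3, 4, 3, 1, 2, 3, 4, 3] [0, 1, 4] [2, 0, 3, 2, 4, 3] (by decide +kernel) (by decide +kernel) (e8_good_c3 hodd h2))

theorem e8_good_c6 (hodd : Fintype.card F % 2 = 1) (h2 : (2 : F) ≠ 0) : Good cert12_E8 F [1, 2, 3, 1, 2, 3, 4, 3, 1, 2, 3, 4, 6] :=
  stepA cert12_E8 hodd h2 [1, 2, 3, 1, 2, 3, 4, 3, 1, 2, 3, 4, 6] (by decide +kernel) 141 130 142 141 130 (by decide +kernel) (by decide +kernel) (by decide +kernel) (by decide +kernel) (by decide +kernel) (by decide +kernel) (by decide +kernel) (by decide +kernel) (by decide +kernel)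
    (Or.inl rfl) (by decide +kernel)
    [] [] [3] 1 3 1 (by decide +kernel) (by decide +kernel) (by decide +kernel) (by decide +kernel) (by decide +kernel) (by decide +kernel) (by decide +kernel) (by decide +kernel) (by decide +kernel)
    (good_of_conj cert12_E8 [1, 1, 2, 3, 1, 2, 3, 4, 3, 1, 2, 3, 4, 6] [0, 1, 4, 6] [2, 0, 3, 2, 4, 3] (by decide +kernel) (by decide +kernel) (e8_good_c4 hodd h2))
    (good_of_conj cert12_E8 [3, 1, 2, 3, 1, 2, 3, 4, 3, 1, 2, 3, 4, 6] [0, 1, 4, 6] [2, 0, 3, 1, 2, 4] (by decide +kernel) (by decide +kernel) (e8_good_c4 hodd h2))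
    (good_of_conj cert12_E8 [1, 3, 1, 2, 3, 1, 2, 3, 4, 3, 1, 2, 3, 4, 6, 3] [0, 1, 4, 6] [2, 0, 3, 2, 4, 3] (by decide +kernel) (by decide +kernel) (e8_good_c4 hodd h2))

theorem e8_good_c7 (hodd : Fintype.card F % 2 = 1) (h2 : (2 : F) ≠ 0) : Good cert12_E8 F [1, 2, 3, 1, 2, 3, 4, 3, 1, 2, 3, 4, 5, 4, 3, 1, 2, 3, 4, 5, 6, 5, 4, 3, 1, 2, 3, 4, 5, 6] :=
  stepA cert12_E8 hodd h2 [1, 2, 3, 1, 2, 3, 4, 3, 1, 2, 3, 4, 5, 4, 3, 1, 2, 3, 4, 5, 6, 5, 4, 3, 1, 2, 3, 4, 5, 6] (by decide +kernel) 141 130 142 141 130 (by decide +kernel) (by decide +kernel) (by decide +kernel) (by decide +kernel) (by decide +kernel) (by decide +kernel) (by decide +kernel) (by decide +kernel) (by decide +kernel)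
    (Or.inl rfl) (by decide +kernel)
    [] [] [3] 1 3 1 (by decide +kernel) (by decide +kernel) (by decide +kernel) (by decide +kernel) (by decide +kernel) (by decide +kernel) (by decide +kernel) (by decide +kernel) (by decide +kernel)
    (good_of_conj cert12_E8 [1, 1, 2, 3, 1, 2, 3, 4, 3, 1, 2, 3, 4, 5, 4, 3, 1, 2, 3, 4, 5, 6, 5, 4, 3, 1, 2, 3, 4, 5, 6] [1, 2, 3, 1, 2, 3, 4, 3, 1, 2, 3, 4, 6] [5, 4, 3, 2, 6, 5, 4, 3] (by decide +kernel) (by decide +kernel) (e8_good_c6 hodd h2))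
    (good_of_conj cert12_E8 [3, 1, 2, 3, 1, 2, 3, 4, 3, 1, 2, 3, 4, 5, 4, 3, 1, 2, 3, 4, 5, 6, 5, 4, 3, 1, 2, 3, 4, 5, 6] [1, 2, 3, 1, 2, 3, 4, 3, 1, 2, 3, 4, 6] [5, 4, 3, 1, 2, 6, 5, 4] (by decide +kernel) (by decide +kernel) (e8_good_c6 hodd h2))
    (good_of_conj cert12_E8 [1, 3, 1, 2, 3, 1, 2, 3, 4, 3, 1, 2, 3, 4, 5, 4, 3, 1, 2, 3, 4, 5, 6, 5, 4, 3, 1, 2, 3, 4, 5, 6, 3] [1, 2, 3, 1, 2, 3, 4, 3, 1, 2, 3, 4, 6] [5, 4, 3, 2, 6, 5, 4, 3] (by decide +kernel) (by decide +kernel) (e8_good_c6 hodd h2))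

theorem e8_good_c8 (hodd : Fintype.card F % 2 = 1) (h2 : (2 : F) ≠ 0) : Good cert12_E8 F [0, 1, 2, 0, 3, 1, 2, 0, 3, 2, 4, 3, 1, 2, 0, 3, 2, 4, 3, 1, 5, 4, 3, 1, 2, 0, 3, 2, 4, 3, 1, 5, 4, 3, 2, 0, 6, 5, 4, 3, 1, 2, 0, 3, 2, 4, 3, 1, 5, 4, 3, 2, 0, 6, 5, 4, 3, 1, 2, 3, 4, 5, 6] :=
  stepA cert12_E8 hodd h2 [0, 1, 2, 0, 3, 1, 2, 0, 3, 2, 4, 3, 1, 2, 0, 3, 2, 4, 3, 1, 5, 4, 3, 1, 2, 0, 3, 2, 4, 3, 1, 5, 4, 3, 2, 0, 6, 5, 4, 3, 1, 2, 0, 3, 2, 4, 3, 1, 5, 4, 3, 2, 0, 6, 5, 4, 3, 1, 2, 3, 4, 5, 6] (by decide +kernel) 141 130 142 141 130 (by decide +kernel) (by decide +kernel) (by decide +kernel) (by decide +kernel) (by decide +kernel) (by decide +kernel) (by decide +kernel) (by decide +kernel) (by decide +kernel)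
    (Or.inl rfl) (by decide +kernel)
    [] [] [3] 1 3 1 (by decide +kernel) (by decide +kernel) (by decide +kernel) (by decide +kernel) (by decide +kernel) (by decide +kernel) (by decide +kernel) (by decide +kernel) (by decide +kernel)
    (good_of_conj cert12_E8 [1, 0, 1, 2, 0, 3, 1, 2, 0, 3, 2, 4, 3, 1, 2, 0, 3, 2, 4, 3, 1, 5, 4, 3, 1, 2, 0, 3, 2, 4, 3, 1, 5, 4, 3, 2, 0, 6, 5, 4, 3, 1, 2, 0, 3, 2, 4, 3, 1, 5, 4, 3, 2, 0, 6, 5, 4, 3, 1, 2, 3, 4, 5, 6] [1, 2, 3, 1, 2, 3, 4, 3, 1, 2, 3, 4, 5, 4, 3, 1, 2, 3, 4, 5, 6, 5, 4, 3, 1, 2, 3, 4, 5, 6] [0, 2, 3, 1, 4, 3, 2, 0, 5, 4, 3, 2, 6, 5, 4, 3] (by decide +kernel) (by decide +kernel) (e8_good_c7 hodd h2))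
    (good_of_conj cert12_E8 [3, 0, 1, 2, 0, 3, 1, 2, 0, 3, 2, 4, 3, 1, 2, 0, 3, 2, 4, 3, 1, 5, 4, 3, 1, 2, 0, 3, 2, 4, 3, 1, 5, 4, 3, 2, 0, 6, 5, 4, 3, 1, 2, 0, 3, 2, 4, 3, 1, 5, 4, 3, 2, 0, 6, 5, 4, 3, 1, 2, 3, 4, 5, 6] [1, 2, 3, 1, 2, 3, 4, 3, 1, 2, 3, 4, 5, 4, 3, 1, 2, 3, 4, 5, 6, 5, 4, 3, 1, 2, 3, 4, 5, 6] [0, 2, 3, 1, 4, 3, 2, 0, 5, 4, 3, 1, 2, 6, 5, 4] (by decide +kernel) (by decide +kernel) (e8_good_c7 hodd h2))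
    (good_of_conj cert12_E8 [1, 3, 0, 1, 2, 0, 3, 1, 2, 0, 3, 2, 4, 3, 1, 2, 0, 3, 2, 4, 3, 1, 5, 4, 3, 1, 2, 0, 3, 2, 4, 3, 1, 5, 4, 3, 2, 0, 6, 5, 4, 3, 1, 2, 0, 3, 2, 4, 3, 1, 5, 4, 3, 2, 0, 6, 5, 4, 3, 1, 2, 3, 4, 5, 6, 3] [1, 2, 3, 1, 2, 3, 4, 3, 1, 2, 3, 4, 5, 4, 3, 1, 2, 3, 4, 5, 6, 5, 4, 3, 1, 2, 3, 4, 5, 6] [0, 2, 3, 1, 4, 3, 2, 0, 5, 4, 3, 2, 6, 5, 4, 3] (by decide +kernel) (by decide +kernel) (e8_good_c7 hodd h2))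

theorem e8_good_c9 (hodd : Fintype.card F % 2 = 1) (h2 : (2 : F) ≠ 0) : Good cert12_E8 F [0, 1, 2, 0, 3, 1, 2, 0, 3, 2, 4, 3, 1, 2, 0, 3, 2, 4, 3, 1, 5, 4, 3, 1, 2, 0, 3, 2, 4, 3, 1, 5, 4, 3, 2, 0, 6, 5, 4, 3, 1, 2, 0, 3, 2, 4, 3, 1, 5, 4, 3, 2, 0, 6, 5, 4, 3, 1, 2, 3, 4, 5, 6, 7, 6, 5, 4, 3, 1, 2, 0, 3, 2, 4, 3, 1, 5, 4, 3, 2, 0, 6, 5, 4, 3, 1, 2, 3, 4, 5, 6, 7, 6, 5, 4, 3, 1, 2, 0, 3, 2, 4, 3, 1, 5, 4, 3, 2, 0, 6, 5, 4, 3, 1, 2, 3, 4, 5, 6, 7] :=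
  stepA cert12_E8 hodd h2 [0, 1, 2, 0, 3, 1, 2, 0, 3, 2, 4, 3, 1, 2, 0, 3, 2, 4, 3, 1, 5, 4, 3, 1, 2, 0, 3, 2, 4, 3, 1, 5, 4, 3, 2, 0, 6, 5, 4, 3, 1, 2, 0, 3, 2, 4, 3, 1, 5, 4, 3, 2, 0, 6, 5, 4, 3, 1, 2, 3, 4, 5, 6, 7, 6, 5, 4, 3, 1, 2, 0, 3, 2, 4, 3, 1, 5, 4, 3, 2, 0, 6, 5, 4, 3, 1, 2, 3, 4, 5, 6, 7, 6, 5, 4, 3, 1, 2, 0, 3, 2, 4, 3, 1, 5, 4, 3, 2, 0, 6, 5, 4, 3, 1, 2, 3, 4, 5, 6, 7] (by decide +kernel) 141 130 142 141 130 (by decide +kernel) (by decide +kernel) (by decide +kernel) (by decide +kernel) (by decide +kernel) (by decide +kernel) (by decide +kernel) (by decide +kernel) (by decide +kernel)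
    (Or.inl rfl) (by decide +kernel)
    [] [] [3] 1 3 1 (by decide +kernel) (by decide +kernel) (by decide +kernel) (by decide +kernel) (by decide +kernel) (by decide +kernel) (by decide +kernel) (by decide +kernel) (by decide +kernel)
    (good_of_conj cert12_E8 [1, 0, 1, 2, 0, 3, 1, 2, 0, 3, 2, 4, 3, 1, 2, 0, 3, 2, 4, 3, 1, 5, 4, 3, 1, 2, 0, 3, 2, 4, 3, 1, 5, 4, 3, 2, 0, 6, 5, 4, 3, 1, 2, 0, 3, 2, 4, 3, 1, 5, 4, 3, 2, 0, 6, 5, 4, 3, 1, 2, 3, 4, 5, 6, 7, 6, 5, 4, 3, 1, 2, 0, 3, 2, 4, 3, 1, 5, 4, 3, 2, 0, 6, 5, 4, 3, 1, 2, 3, 4, 5, 6, 7, 6, 5, 4, 3, 1, 2, 0, 3, 2, 4, 3, 1, 5, 4, 3, 2, 0, 6, 5, 4, 3, 1, 2, 3, 4, 5, 6, 7] [0, 1, 2, 0, 3, 1, 2, 0, 3, 2, 4, 3, 1, 2, 0, 3, 2, 4, 3, 1, 5, 4, 3, 1, 2, 0, 3, 2, 4, 3, 1, 5, 4, 3, 2, 0, 6, 5, 4, 3, 1, 2, 0, 3, 2, 4, 3, 1, 5, 4, 3, 2, 0, 6, 5, 4, 3, 1, 2, 3, 4, 5, 6] [7,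 6, 5, 4, 3, 1, 2, 0, 3, 2, 4, 3, 1, 5, 4, 3, 2, 0, 6, 5, 4, 3, 2, 7, 6, 5, 4, 3] (by decide +kernel) (by decide +kernel) (e8_good_c8 hodd h2))
    (good_of_conj cert12_E8 [3, 0, 1, 2, 0, 3, 1, 2, 0, 3, 2, 4, 3, 1, 2, 0, 3, 2, 4, 3, 1, 5, 4, 3, 1, 2, 0, 3, 2, 4, 3, 1, 5, 4, 3, 2, 0, 6, 5, 4, 3, 1, 2, 0, 3, 2, 4, 3, 1, 5, 4, 3, 2, 0, 6, 5, 4, 3, 1, 2, 3, 4, 5, 6, 7, 6, 5, 4, 3, 1, 2, 0, 3, 2, 4, 3, 1, 5, 4, 3, 2, 0, 6, 5, 4, 3, 1, 2, 3, 4, 5, 6, 7, 6, 5, 4, 3, 1, 2, 0, 3, 2, 4, 3, 1, 5, 4, 3, 2, 0, 6, 5, 4, 3, 1, 2, 3, 4, 5, 6, 7] [0, 1, 2, 0, 3, 1, 2, 0, 3, 2, 4, 3, 1, 2, 0, 3, 2, 4, 3, 1, 5, 4, 3, 1, 2, 0, 3, 2, 4, 3, 1, 5, 4, 3, 2, 0, 6, 5, 4, 3, 1, 2, 0, 3, 2, 4, 3, 1, 5, 4, 3, 2, 0, 6, 5, 4, 3, 1, 2, 3, 4, 5, 6] [7, 6, 5, 4, 3, 1, 2, 0, 3, 2, 4, 3, 1, 5, 4, 3, 2, 0, 6, 5, 4, 3, 1, 2, 7, 6, 5, 4] (by decide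 +kernel) (by decide +kernel) (e8_good_c8 hodd h2))
    (good_of_conj cert12_E8 [1, 3, 0, 1, 2, 0, 3, 1, 2, 0, 3, 2, 4, 3, 1, 2, 0, 3, 2, 4, 3, 1, 5, 4, 3, 1, 2, 0, 3, 2, 4, 3, 1, 5, 4, 3, 2, 0, 6, 5, 4, 3, 1, 2, 0, 3, 2, 4, 3, 1, 5, 4, 3, 2, 0, 6, 5, 4, 3, 1, 2, 3, 4, 5, 6, 7, 6, 5, 4, 3, 1, 2, 0, 3, 2, 4, 3, 1, 5, 4, 3, 2, 0, 6, 5, 4, 3, 1, 2, 3, 4, 5, 6, 7, 6, 5, 4, 3, 1, 2, 0, 3, 2, 4, 3, 1, 5, 4, 3, 2, 0, 6, 5, 4, 3, 1, 2, 3, 4, 5, 6, 7, 3] [0, 1, 2, 0, 3, 1, 2, 0, 3, 2, 4, 3, 1, 2, 0, 3, 2, 4, 3, 1, 5, 4, 3, 1, 2, 0, 3, 2, 4, 3, 1, 5, 4, 3, 2, 0, 6, 5, 4, 3, 1, 2, 0, 3, 2, 4, 3, 1, 5, 4, 3, 2, 0, 6, 5, 4, 3, 1, 2, 3, 4, 5, 6] [7, 6, 5, 4, 3, 1, 2, 0, 3, 2, 4, 3, 1, 5, 4, 3, 2, 0, 6, 5, 4, 3, 2, 7, 6, 5, 4, 3] (by decide +kernel) (by decide +kernel) (e8_good_c8 hodd h2))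

end Cfsg.Agent.Lib.H13.E8Odd
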