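import Mathlib
import Cfsg.Prelude.Def_LieExceptional
import Cfsg.Agent.Lib.H12.OddInvC
import Cfsg.Agent.Lib.H6.InvTab

/-!
# Involutions of a Chevalley group over a finite field: conjugation into `N` over a table word (generic)

The characteristic free half of helper6's `exists_conj_yS`: every involution is conjugate to an element of `N` whose
permutation of the roots is that of the word of an admissible entry of the table of the subsets of the fundamental
roots.  And a Boolean test for the conjugation of words, for helper12's `Good`.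
-/

set_option autoImplicit false
set_option linter.unusedSectionVars false
set_option linter.unusedSimpArgs false
set_option linter.unusedVariables false

namespace Cfsg.Agent.Lib.H13.E8Odd

open Cfsg Cfsg.Lie Matrix Cfsg.Agent.Lib.H29.Chev Cfsg.Agent.Lib.H12.F4V Cfsg.Agent.Lib.H12.InvCell
  Cfsg.Agent.Lib.H6.Inv Cfsg.Agent.Lib.H12.OddInv

variable {D : ChevalleyDatum} {fd : FD} {fx : FX} {fc : FC} {fz : FZ} {F : Type*} [Field F]

/-- the word `v` conjugates the word `w` to the word `w₀` (as permutations of the roots): the word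
`w₀⁻¹ v w v⁻¹` makes no fundamental root negative -/
def chkCj (fd : FD) (fx : FX) (w v w₀ : List ℕ) : Bool :=
  isWdB fd.l v && isWdB fd.l w && isWdB fd.l w₀ && (List.range fd.l).all fun i =>
    Nat.ble (fd.n / 2) (fd.wordP fx (w₀.reverse ++ (v ++ w ++ v.reverse)) (fd.simples.getD i 0))

theorem good_of_chkCj (C : Cert12 D fd fx fc fz) (w v w₀ : List ℕ) (h : chkCj fd fx w v w₀ = true)
    (h0 : Good C F w₀) : Good C F w := by
  simp only [chkCj, Bool.and_eq_true, List.all_eq_true, List.mem_range] at h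
  obtain ⟨⟨⟨hv, hw⟩, hw₀⟩, hpos⟩ := h
  have hv' := isWdB_spec hv
  have hw' := isWdB_spec hw
  have hw₀' := isWdB_spec hw₀
  have hvw : IsWd fd.l (v ++ w ++ v.reverse) := (hv'.append hw').append hv'.reverse
  have hid := C.word_id F (w₀.reverse ++ (v ++ w ++ v.reverse)) (hw₀'.reverse.append hvw)
    (fun i hi => Nat.le_of_ble_eq_true (hpos i hi))
  refine good_of_conj C w w₀ v hv' ?_ h0
  intro s hs
  have h1 := hid s hs
  rw [FD.wordP_append] at h1
  have h2 := C.wordP_rev' w₀ hw₀' (fd.wordP fx (v ++ w ++ v.reverse) s) (C.wordP_lt _ hvw s hs)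
  rw [h1] at h2
  exact h2.symm

/-- **every involution is conjugate to an element of `N` over the word of an admissible entry of the table** -/
theorem exists_conj_word [Finite F] (C : Cert12 D fd fx fc fz) (hlow : LowStmt fd fx) (tab : ℕ → Ent)
    (htab : ∀ k < 2 ^ fd.l, chkEnt fd fx k (tab k) = true)
    (g : GL D.Idx F) (hg : g ∈ D.group F) (hg2 : g * g = 1) :
    ∃ k < 2 ^ fd.l, ∃ Ws, tab k = .inr Ws ∧ ∃ z ∈ D.group F, ∃ m ∈ D.monomialSubgroup F,
      z * g * z⁻¹ = m ∧ m * m = 1 ∧ C.c6.c2.Perm m (fd.wordP fx (entW (.inr Ws))) := by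
  classical
  have hCS : CombStmt fd fx := fun π hlin hlt hinv hJ r hr hpos hπr =>
    Cfsg.Agent.Lib.H10.IC.comb C π hlin hlt hinv hJ r hr hpos hπr
  obtain ⟨z, hz, m, hm, hzm, π, hπ, hlin, hinv, hJ, hcomb⟩ :=
    exists_conj_monomial C (suppStmt C) hCS hlow g hg hg2
  set f : Fin fd.l → Bool := fun i => decide (π (fd.simples.getD i.val 0) = fd.simples.getD i.val 0) with hf
  set k := Nat.ofBits f with hk
  have hklt : k < 2 ^ fd.l := Nat.ofBits_lt_two_pow f
  have hbit : ∀ i (hi : i < fd.l), k.testBit i = decide (π (fd.simples.getD i 0) = fd.simples.getD i 0) := by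
    intro i hi
    rw [hk, Nat.testBit_ofBits_lt f i hi]
  have hJ' : ∀ i < fd.l, (k.testBit i = true → π (fd.simples.getD i 0) = fd.simples.getD i 0) ∧
      (k.testBit i = false → π (fd.simples.getD i 0) < fd.n / 2) := by
    intro i hi
    rw [hbit i hi]
    constructor
    · intro h; exact of_decide_eq_true h
    · intro h
      have hne : π (fd.simples.getD i 0) ≠ fd.simples.getD i 0 := of_decide_eq_false h
      rcases hJ i hi with h1 | h1
      · exact h1
      · exact absurd h1 hne
  have hcomb' : ∀ r, r < fd.n → fd.n / 2 ≤ r → fd.n / 2 ≤ π r →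
      ∀ j < fd.l, π (fd.simples.getD j 0) < fd.n / 2 → fd.rcZ fx r j = 0 :=
    fun r hr hpos hπr => (hcomb r hr hpos hπr).2
  have hchk := htab k hklt
  refine ⟨k, hklt, ?_⟩
  cases hE : tab k with
  | inl w =>
    exfalso
    rw [hE] at hchk
    simp only [chkEnt, Bool.and_eq_true, List.any_eq_true, List.mem_range, Bool.not_eq_true'] at hchk
    obtain ⟨⟨hw, ht⟩, i, hi, hki, hne⟩ := hchk
    have hwd := isWdB_spec hw
    obtain ⟨_, hπw⟩ := mem_diag_of_table C m hm π hπ hcomb' w hwd (fun j => k.testBit j) hJ' (htabB_spec ht)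
    have h1 := hπw _ (C.c6.c2.simple_lt i hi)
    have h2 := (hJ' i hi).1 hki
    rw [h2] at h1
    have : Nat.beq (fd.wordP fx w (fd.simples.getD i 0)) (fd.simples.getD i 0) = true :=
      (natBeq_iff _ _).mpr h1.symm
    rw [this] at hne
    exact Bool.noConfusion hne
  | inr Ws =>
    rw [hE] at hchk
    simp only [chkEnt, Bool.and_eq_true, List.all_eq_true, natBlt_iff] at hchk
    obtain ⟨⟨hWs, ht⟩, hpw⟩ := hchk
    have hW : ∀ p ∈ Ws, IsWd fd.l p.1 ∧ p.2 < fd.l := fun p hp => ⟨isWdB_spec (hWs p hp).1, (hWs p hp).2⟩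
    have hwd : IsWd fd.l (entW (.inr Ws)) := by
      intro i hi
      simp only [entW, List.mem_flatMap] at hi
      obtain ⟨p, hp, hip⟩ := hi
      exact reflWord_isWd p.1 p.2 (hW p hp).1 (hW p hp).2 i hip
    obtain ⟨hd, hπw⟩ := mem_diag_of_table C m hm π hπ hcomb' (entW (.inr Ws)) hwd (fun j => k.testBit j) hJ'
      (htabB_spec ht)
    have hmm : m * m = 1 := by
      rw [← hzm]
      calc z * g * z⁻¹ * (z * g * z⁻¹) = z * (g * g) * z⁻¹ := by group
        _ = 1 := by rw [hg2]; group
    exact ⟨Ws, rfl, z, hz, m, hm, hzm, hmm, C.perm_congr _ _ _ hπ hπw⟩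

end Cfsg.Agent.Lib.H13.E8Odd
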