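import Mathlib
import Cfsg.Prelude.Def_LieExceptional
import Cfsg.Agent.Lib.H13.E8OddCls
import Cfsg.Agent.Lib.H13.E8OddGen
import Cfsg.Agent.Lib.H2.E8Main

/-!
# `E₈(F)`, `F` finite of odd order: every involution is conjugate to an element of `H` (generated table)

For the bitmask `k` of an admissible subset of the fundamental roots (helper2's table `tabE8`), a word `v` conjugating the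
Weyl group element of the subset to the representative of its class.
-/

set_option autoImplicit false
set_option linter.unusedSectionVars false
set_option linter.unusedVariables false
set_option linter.unusedSimpArgs false
set_option maxRecDepth 100000

namespace Cfsg.Agent.Lib.H13.E8Odd

open Cfsg Cfsg.Lie Matrix Cfsg.Agent.Lib.H29.Chev Cfsg.Agent.Lib.H12.OddInv Cfsg.Agent.Lib.H12.InvCell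
  Cfsg.Agent.Lib.H6.Inv Cfsg.Agent.Lib.H2.E8I

/-- the conjugating words and the classes, indexed by the bitmask -/
def cjL : List (List ℕ × ℕ) := [
  ([], 9),
  ([7, 6, 5, 4, 3, 1, 2, 0, 3, 2, 4, 3, 1, 5, 4, 3, 2, 6, 5, 4, 3, 1, 7, 6, 5, 4, 3, 2], 8),
  ([7, 6, 5, 4, 3, 1, 2, 0, 3, 2, 4, 3, 1, 5, 4, 3, 2, 0, 6, 5, 4, 3, 2, 7, 6, 5, 4, 3], 8),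
  ([0, 2, 3, 1, 4, 3, 2, 0, 5, 4, 3, 1, 2, 3, 4, 5, 7, 6, 5, 4, 3, 1, 2, 0, 3, 2, 4, 3, 1, 5, 4, 3, 2, 6, 5, 4, 3, 1, 7, 6, 5, 4, 3, 2], 7),
  ([7, 6, 5, 4, 3, 1, 2, 0, 3, 2, 4, 3, 1, 5, 4, 3, 2, 0, 6, 5, 4, 3, 1, 7, 6, 5, 4, 3], 8),
  ([], 0),
  ([0, 2, 3, 1, 4, 3, 2, 0, 5, 4, 3, 1, 2, 3, 4, 5, 7, 6, 5, 4, 3, 1, 2, 0, 3, 2, 4, 3, 1, 5, 4, 3, 2, 0, 6, 5, 4, 3, 1, 7, 6, 5, 4, 3], 7),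
  ([], 0),
  ([7, 6, 5, 4, 3, 1, 2, 0, 3, 2, 4, 3, 1, 5, 4, 3, 2, 0, 6, 5, 4, 3, 1, 2, 7, 6, 5, 4], 8),
  ([0, 2, 3, 1, 4, 3, 2, 0, 5, 4, 3, 1, 2, 3, 4, 6, 7, 6, 5, 4, 3, 1, 2, 0, 3, 2, 4, 3, 1, 5, 4, 3, 2, 0, 6, 5, 4, 3, 1, 2, 7, 6, 5, 4], 7),
  ([], 0),
  ([], 0),
  ([], 0),
  ([], 0),
  ([], 0),
  ([], 0),
  ([7, 6, 5, 4, 3, 1, 2, 0, 3, 2, 4, 3, 1, 5, 4, 3, 2, 0, 6, 5, 4, 3, 1, 2, 3, 7, 6, 5], 8),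
  ([0, 2, 3, 1, 4, 3, 2, 0, 5, 4, 3, 1, 2, 3, 4, 6, 7, 6, 5, 4, 3, 1, 2, 0, 3, 2, 4, 3, 1, 5, 4, 3, 2, 0, 6, 5, 4, 3, 1, 2, 3, 7, 6, 5], 7),
  ([0, 2, 3, 1, 4, 3, 2, 0, 5, 4, 3, 2, 6, 5, 4, 3, 7, 6, 5, 4, 3, 1, 2, 0, 3, 2, 4, 3, 1, 5, 4, 3, 2, 0, 6, 5, 4, 3, 1, 2, 3, 7, 6, 5], 7),
  ([0, 2, 3, 1, 5, 4, 3, 1, 2, 0, 3, 2, 6, 5, 4, 3, 1, 2, 0, 3, 2, 4, 3, 5, 7, 6, 5, 4, 3, 1, 2, 0, 3, 2, 4, 3, 1, 5, 4, 3, 2, 6, 5, 4, 3, 1, 7, 6, 5, 4, 3, 2], 6),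
  ([0, 2, 3, 1, 4, 3, 2, 0, 5, 4, 3, 1, 2, 3, 6, 5, 7, 6, 5, 4, 3, 1, 2, 0, 3, 2, 4, 3, 1, 5, 4, 3, 2, 0, 6, 5, 4, 3, 1, 2, 3, 7, 6, 5], 7),
  ([], 0),
  ([0, 2, 3, 1, 5, 4, 3, 1, 2, 0, 3, 2, 6, 5, 4, 3, 1, 2, 0, 3, 2, 4, 3, 5, 7, 6, 5, 4, 3, 1, 2, 0, 3, 2, 4, 3, 1, 5, 4, 3, 2, 0, 6, 5, 4, 3, 1, 7, 6, 5, 4, 3], 6),
  ([], 0),
  ([], 0),
  ([], 0),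
  ([], 0),
  ([], 0),
  ([], 0),
  ([], 0),
  ([0, 2, 3, 1, 5, 4, 3, 1, 2, 0, 3, 2, 6, 5, 4, 3, 1, 2, 0, 3, 2, 4, 3, 5, 7, 6, 5, 4, 3, 1, 2, 0, 3, 2, 4, 3, 1, 5, 4, 3, 2, 0, 6, 5, 4, 7, 6, 5], 5),
  ([], 0),
  ([7, 6, 5, 4, 3, 1, 2, 0, 3, 2, 4, 3, 1, 5, 4, 3, 2, 0, 6, 5, 4, 3, 1, 2, 3, 4, 7, 6], 8),
  ([0, 2, 3, 1, 4, 3, 2, 0, 5, 4, 3, 1, 2, 3, 4, 6, 7, 6, 5, 4, 3, 1, 2, 0, 3, 2, 4, 3, 1, 5, 4, 3, 2, 0, 6, 5, 4, 3, 1, 2, 3, 4, 7, 6], 7),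
  ([0, 2, 3, 1, 4, 3, 2, 0, 5, 4, 3, 1, 2, 6, 5, 4, 7, 6, 5, 4, 3, 1, 2, 0, 3, 2, 4, 3, 1, 5, 4, 3, 2, 0, 6, 5, 4, 3, 2, 7, 6, 5, 4, 3], 7),
  ([0, 2, 3, 1, 5, 4, 3, 1, 2, 0, 3, 2, 4, 5, 6, 5, 4, 3, 1, 2, 0, 3, 2, 4, 7, 6, 5, 4, 3, 1, 2, 0, 3, 2, 4, 3, 1, 5, 4, 3, 2, 0, 6, 5, 4, 3, 2, 7, 6, 5, 4, 3], 6),
  ([0, 2, 3, 1, 4, 3, 2, 0, 5, 4, 3, 1, 2, 3, 6, 5, 7, 6, 5, 4, 3, 1, 2, 0, 3, 2, 4, 3, 1, 5, 4, 3, 2, 0, 6, 5, 4, 3, 1, 2, 3, 4, 7, 6], 7),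
  ([], 0),
  ([0, 2, 3, 1, 5, 4, 3, 1, 2, 0, 3, 2, 4, 6, 5, 4, 3, 1, 2, 0, 3, 2, 4, 5, 7, 6, 5, 4, 3, 1, 2, 0, 3, 2, 4, 3, 1, 5, 4, 3, 2, 0, 6, 5, 4, 3, 1, 7, 6, 5, 4, 3], 6),
  ([], 0),
  ([0, 2, 3, 1, 4, 3, 2, 0, 5, 4, 3, 1, 2, 6, 5, 4, 7, 6, 5, 4, 3, 1, 2, 0, 3, 2, 4, 3, 1, 5, 4, 3, 2, 0, 6, 5, 4, 3, 1, 2, 3, 4, 7, 6], 7),
  ([0, 2, 3, 1, 5, 4, 3, 1, 2, 0, 3, 2, 4, 5, 6, 5, 4, 3, 1, 2, 0, 3, 2, 4, 7, 6, 5, 4, 3, 1, 2, 0, 3, 2, 4, 3, 1, 5, 4, 3, 2, 0, 6, 5, 4, 3, 1, 2, 3, 4, 7, 6], 6),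
  ([], 0),
  ([], 0),
  ([], 0),
  ([], 0),
  ([], 0),
  ([], 0),
  ([], 0),
  ([], 0),
  ([], 0),
  ([], 0),
  ([], 0),
  ([], 0),
  ([], 0),
  ([], 0),
  ([], 0),
  ([], 0),
  ([], 0),
  ([], 0),
  ([], 0),
  ([], 0),
  ([], 0),
  ([], 0),
  ([7, 6, 5, 4, 3, 1, 2, 0, 3, 2, 4, 3, 1, 5, 4, 3, 2, 0, 6, 5, 4, 3, 1, 2, 3, 4, 5, 7], 8),
  ([0, 2, 3, 1, 4, 3, 2, 0, 5, 4, 3, 1, 2, 3, 4, 6, 7, 6, 5, 4, 3, 1, 2, 0, 3, 2, 4, 3, 1, 5, 4, 3, 2, 0, 6, 5, 4, 3, 1, 2, 3, 4, 5, 7], 7),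
  ([0, 2, 3, 1, 4, 3, 2, 0, 5, 4, 3, 1, 6, 5, 4, 3, 7, 6, 5, 4, 3, 1, 2, 0, 3, 2, 4, 3, 1, 5, 4, 3, 2, 0, 6, 5, 4, 3, 2, 7, 6, 5, 4, 3], 7),
  ([0, 2, 3, 1, 5, 4, 3, 1, 2, 0, 3, 2, 4, 3, 5, 6, 5, 4, 3, 1, 2, 0, 3, 4, 7, 6, 5, 4, 3, 1, 2, 0, 3, 2, 4, 3, 1, 5, 4, 3, 2, 0, 6, 5, 4, 3, 2, 7, 6, 5, 4, 3], 6),
  ([0, 2, 3, 1, 4, 3, 2, 0, 5, 4, 3, 1, 2, 3, 6, 5, 7, 6, 5, 4, 3, 1, 2, 0, 3, 2, 4, 3, 1, 5, 4, 3, 2, 0, 6, 5, 4, 3, 1, 2, 3, 4, 5, 7], 7),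
  ([], 0),
  ([0, 2, 3, 1, 5, 4, 3, 1, 2, 0, 3, 2, 4, 3, 6, 5, 4, 3, 1, 2, 0, 3, 4, 5, 7, 6, 5, 4, 3, 1, 2, 0, 3, 2, 4, 3, 1, 5, 4, 3, 2, 0, 6, 5, 4, 3, 1, 7, 6, 5, 4, 3], 6),
  ([], 0),
  ([0, 2, 3, 1, 4, 3, 2, 0, 5, 4, 3, 1, 2, 6, 5, 4, 7, 6, 5, 4, 3, 1, 2, 0, 3, 2, 4, 3, 1, 5, 4, 3, 2, 0, 6, 5, 4, 3, 1, 2, 3, 4, 5, 7], 7),
  ([0, 2, 3, 1, 5, 4, 3, 1, 2, 0, 3, 2, 4, 3, 5, 6, 5, 4, 3, 1, 2, 0, 3, 4, 7, 6, 5, 4, 3, 1, 2, 0, 3, 2, 4, 3, 1, 5, 4, 3, 2, 0, 6, 5, 4, 3, 1, 2, 7, 6, 5, 4], 6),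
  ([], 0),
  ([], 0),
  ([], 0),
  ([], 0),
  ([], 0),
  ([], 0),
  ([0, 2, 3, 1, 4, 3, 2, 0, 5, 4, 3, 1, 6, 5, 4, 3, 7, 6, 5, 4, 3, 1, 2, 0, 3, 2, 4, 3, 1, 5, 4, 3, 2, 0, 6, 5, 4, 3, 1, 2, 3, 4, 5, 7], 7),
  ([0, 2, 3, 1, 5, 4, 3, 1, 2, 0, 3, 2, 4, 3, 5, 4, 6, 5, 4, 3, 1, 2, 0, 3, 7, 6, 5, 4, 3, 1, 2, 0, 3, 2, 4, 3, 1, 5, 4, 3, 2, 6, 5, 4, 3, 1, 7, 6, 5, 4, 3, 2], 6),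
  ([0, 2, 3, 1, 5, 4, 3, 1, 2, 0, 3, 2, 4, 3, 1, 5, 4, 3, 2, 0, 6, 5, 4, 3, 7, 6, 5, 4, 3, 1, 2, 0, 3, 2, 4, 3, 1, 5, 4, 3, 2, 0, 6, 5, 4, 3, 1, 2, 3, 4, 5, 7], 6),
  ([2, 3, 1, 2, 0, 3, 2, 4, 5, 4, 3, 1, 2, 0, 3, 2, 4, 3, 5, 6, 5, 4, 3, 1, 2, 0, 3, 4, 7, 6, 5, 4, 3, 1, 2, 0, 3, 2, 4, 3, 1, 5, 4, 3, 2, 0, 6, 5, 4, 3, 1, 2, 3, 4, 5, 7], 4),
  ([0, 2, 3, 1, 5, 4, 3, 1, 2, 0, 3, 2, 4, 3, 5, 4, 6, 5, 4, 3, 1, 2, 0, 3, 7, 6, 5, 4, 3, 1, 2, 0, 3, 2, 4, 3, 1, 5, 4, 3, 2, 0, 6, 5, 4, 3, 1, 2, 3, 4, 5, 7], 6),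
  ([], 0),
  ([2, 3, 1, 2, 0, 3, 2, 4, 5, 4, 3, 1, 2, 0, 3, 2, 4, 3, 1, 5, 4, 3, 2, 0, 6, 5, 4, 3, 7, 6, 5, 4, 3, 1, 2, 0, 3, 2, 4, 3, 1, 5, 4, 3, 2, 0, 6, 5, 4, 3, 1, 2, 3, 4, 5, 7], 4),
  ([], 0),
  ([], 0),
  ([], 0),
  ([], 0),
  ([], 0),
  ([], 0),
  ([], 0),
  ([2, 3, 1, 2, 0, 3, 2, 4, 5, 4, 3, 1, 2, 0, 3, 4, 6, 5, 4, 3, 1, 2, 0, 3, 2, 4, 3, 5, 7, 6, 5, 4, 3, 1, 2, 0, 3, 2, 4, 3, 1, 5, 4, 3, 2, 0, 6, 5, 4, 7, 6, 5], 3),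
  ([], 0),
  ([], 0),
  ([], 0),
  ([], 0),
  ([], 0),
  ([], 0),
  ([], 0),
  ([], 0),
  ([], 0),
  ([], 0),
  ([], 0),
  ([], 0),
  ([], 0),
  ([], 0),
  ([], 0),
  ([], 0),
  ([], 0),
  ([], 0),
  ([], 0),
  ([], 0),
  ([], 0),
  ([], 0),
  ([], 0),
  ([], 0),
  ([], 0),
  ([], 0),
  ([], 0),
  ([], 0),
  ([], 0),
  ([], 0),
  ([], 0),
  ([2, 3, 1, 2, 4, 3, 1, 2, 5, 4, 3, 1, 2, 0, 6, 5, 4, 3, 1, 2, 0, 3, 4, 5, 7, 6, 5, 4, 3, 1, 2, 0, 3, 2, 4, 3, 1, 5, 4, 3, 2, 0, 6, 7], 2),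
  ([2, 3, 1, 4, 3, 2, 5, 4, 3, 1, 6, 5, 4, 3, 2, 0, 7, 6, 5, 4, 3, 1, 2, 3, 4, 5, 6, 7], 1),
  ([7, 6, 5, 4, 3, 1, 2, 0, 3, 2, 4, 3, 1, 5, 4, 3, 2, 0, 6, 5, 4, 3, 1, 2, 3, 4, 5, 6], 8),
  ([0, 2, 3, 1, 4, 3, 2, 0, 5, 4, 3, 1, 2, 3, 4, 6, 7, 6, 5, 4, 3, 1, 2, 0, 3, 2, 4, 3, 1, 5, 4, 3, 2, 0, 6, 5, 4, 3, 1, 2, 3, 4, 5, 6], 7),
  ([0, 2, 3, 1, 4, 3, 2, 0, 5, 4, 3, 2, 6, 5, 4, 3, 7, 6, 5, 4, 3, 1, 2, 0, 3, 2, 4, 3, 1, 5, 4, 3, 2, 0, 6, 5, 4, 3, 1, 2, 3, 4, 5, 6], 7),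
  ([0, 2, 3, 1, 5, 4, 3, 1, 2, 0, 3, 2, 4, 3, 1, 5, 6, 5, 4, 3, 1, 2, 3, 4, 7, 6, 5, 4, 3, 1, 2, 0, 3, 2, 4, 3, 1, 5, 4, 3, 2, 0, 6, 5, 4, 3, 2, 7, 6, 5, 4, 3], 6),
  ([0, 2, 3, 1, 4, 3, 2, 0, 5, 4, 3, 1, 2, 3, 6, 5, 7, 6, 5, 4, 3, 1, 2, 0, 3, 2, 4, 3, 1, 5, 4, 3, 2, 0, 6, 5, 4, 3, 1, 2, 3, 4, 5, 6], 7),
  ([], 0),
  ([0, 2, 3, 1, 5, 4, 3, 1, 2, 0, 3, 2, 4, 3, 1, 6, 5, 4, 3, 1, 2, 3, 4, 5, 7, 6, 5, 4, 3, 1, 2, 0, 3, 2, 4, 3, 1, 5, 4, 3, 2, 0, 6, 5, 4, 3, 1, 7, 6, 5, 4, 3], 6),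
  ([], 0),
  ([0, 2, 3, 1, 4, 3, 2, 0, 5, 4, 3, 1, 2, 6, 5, 4, 7, 6, 5, 4, 3, 1, 2, 0, 3, 2, 4, 3, 1, 5, 4, 3, 2, 0, 6, 5, 4, 3, 1, 2, 3, 4, 5, 6], 7),
  ([0, 2, 3, 1, 5, 4, 3, 1, 2, 0, 3, 2, 4, 3, 1, 5, 6, 5, 4, 3, 1, 2, 3, 4, 7, 6, 5, 4, 3, 1, 2, 0, 3, 2, 4, 3, 1, 5, 4, 3, 2, 0, 6, 5, 4, 3, 1, 2, 7, 6, 5, 4], 6),
  ([], 0),
  ([], 0),
  ([], 0),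
  ([], 0),
  ([], 0),
  ([], 0),
  ([0, 2, 3, 1, 4, 3, 2, 0, 5, 4, 3, 1, 6, 5, 4, 3, 7, 6, 5, 4, 3, 1, 2, 0, 3, 2, 4, 3, 1, 5, 4, 3, 2, 0, 6, 5, 4, 3, 1, 2, 3, 4, 5, 6], 7),
  ([0, 2, 3, 1, 5, 4, 3, 1, 2, 0, 3, 2, 4, 3, 1, 5, 4, 6, 5, 4, 3, 1, 2, 3, 7, 6, 5, 4, 3, 1, 2, 0, 3, 2, 4, 3, 1, 5, 4, 3, 2, 6, 5, 4, 3, 1, 7, 6, 5, 4, 3, 2], 6),
  ([0, 2, 3, 1, 5, 4, 3, 1, 2, 0, 3, 2, 4, 3, 1, 5, 4, 3, 2, 0, 6, 5, 4, 3, 7, 6, 5, 4, 3, 1, 2, 0, 3, 2, 4, 3, 1, 5, 4, 3, 2, 0, 6, 5, 4, 3, 1, 2, 3, 4, 5, 6], 6),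
  ([2, 3, 1, 2, 0, 3, 2, 4, 5, 4, 3, 1, 2, 0, 3, 2, 4, 3, 1, 5, 6, 5, 4, 3, 1, 2, 3, 4, 7, 6, 5, 4, 3, 1, 2, 0, 3, 2, 4, 3, 1, 5, 4, 3, 2, 0, 6, 5, 4, 3, 1, 2, 3, 7, 6, 5], 4),
  ([0, 2, 3, 1, 5, 4, 3, 1, 2, 0, 3, 2, 4, 3, 1, 5, 4, 6, 5, 4, 3, 1, 2, 3, 7, 6, 5, 4, 3, 1, 2, 0, 3, 2, 4, 3, 1, 5, 4, 3, 2, 0, 6, 5, 4, 3, 1, 2, 3, 7, 6, 5], 6),
  ([], 0),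
  ([2, 3, 1, 2, 0, 3, 2, 4, 5, 4, 3, 1, 2, 0, 3, 2, 4, 3, 1, 5, 4, 3, 2, 0, 6, 5, 4, 3, 7, 6, 5, 4, 3, 1, 2, 0, 3, 2, 4, 3, 1, 5, 4, 3, 2, 0, 6, 5, 4, 3, 1, 2, 3, 4, 5, 6], 4),
  ([], 0),
  ([], 0),
  ([], 0),
  ([], 0),
  ([], 0),
  ([], 0),
  ([], 0),
  ([2, 3, 1, 2, 0, 3, 4, 3, 5, 4, 3, 1, 2, 0, 3, 2, 6, 5, 4, 3, 1, 2, 0, 3, 2, 4, 3, 5, 7, 6, 5, 4, 3, 1, 2, 0, 3, 2, 4, 3, 1, 5, 4, 3, 2, 0, 6, 5, 4, 7, 6, 5], 3),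
  ([], 0),
  ([0, 2, 3, 1, 4, 3, 2, 5, 4, 3, 1, 6, 5, 4, 3, 2, 7, 6, 5, 4, 3, 1, 2, 0, 3, 2, 4, 3, 1, 5, 4, 3, 2, 0, 6, 5, 4, 3, 1, 2, 3, 4, 5, 6], 7),
  ([0, 2, 3, 1, 5, 4, 3, 1, 2, 0, 3, 2, 4, 3, 1, 5, 4, 3, 6, 5, 4, 3, 1, 2, 7, 6, 5, 4, 3, 1, 2, 0, 3, 2, 4, 3, 1, 5, 4, 3, 2, 6, 5, 4, 3, 1, 7, 6, 5, 4, 3, 2], 6),
  ([0, 2, 3, 1, 5, 4, 3, 1, 2, 0, 3, 2, 4, 3, 1, 5, 4, 3, 2, 6, 5, 4, 3, 2, 7, 6, 5, 4, 3, 1, 2, 0, 3, 2, 4, 3, 1, 5, 4, 3, 2, 0, 6, 5, 4, 3, 1, 2, 3, 4, 5, 6], 6),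
  ([2, 3, 1, 2, 0, 3, 2, 4, 5, 4, 3, 1, 2, 0, 3, 2, 4, 3, 1, 5, 6, 5, 4, 3, 1, 2, 3, 4, 7, 6, 5, 4, 3, 1, 2, 0, 3, 2, 4, 3, 1, 5, 4, 3, 2, 0, 6, 5, 4, 3, 1, 2, 3, 4, 5, 6], 4),
  ([0, 2, 3, 1, 5, 4, 3, 1, 2, 0, 3, 2, 4, 3, 1, 5, 4, 3, 6, 5, 4, 3, 1, 2, 7, 6, 5, 4, 3, 1, 2, 0, 3, 2, 4, 3, 1, 5, 4, 3, 2, 0, 6, 5, 4, 3, 1, 7, 6, 5, 4, 3], 6),
  ([], 0),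
  ([2, 3, 1, 2, 0, 3, 2, 4, 5, 4, 3, 1, 2, 0, 3, 2, 4, 3, 1, 5, 4, 3, 2, 6, 5, 4, 3, 2, 7, 6, 5, 4, 3, 1, 2, 0, 3, 2, 4, 3, 1, 5, 4, 3, 2, 0, 6, 5, 4, 3, 1, 2, 3, 4, 5, 6], 4),
  ([], 0),
  ([0, 2, 3, 1, 5, 4, 3, 1, 2, 0, 3, 2, 4, 3, 1, 5, 4, 3, 6, 5, 4, 3, 1, 2, 7, 6, 5, 4, 3, 1, 2, 0, 3, 2, 4, 3, 1, 5, 4, 3, 2, 0, 6, 5, 4, 3, 1, 2, 3, 4, 5, 6], 6),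
  ([2, 3, 1, 2, 0, 3, 4, 3, 5, 4, 3, 1, 2, 0, 3, 2, 4, 3, 1, 5, 4, 3, 6, 5, 4, 3, 1, 2, 7, 6, 5, 4, 3, 1, 2, 0, 3, 2, 4, 3, 1, 5, 4, 3, 2, 0, 6, 5, 4, 3, 1, 2, 3, 4, 5, 6], 4),
  ([], 0),
  ([], 0),
  ([], 0),
  ([], 0),
  ([], 0),
  ([], 0),
  ([], 0),
  ([], 0),
  ([], 0),
  ([], 0),
  ([], 0),
  ([], 0),
  ([], 0),
  ([], 0),
  ([], 0),
  ([], 0),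
  ([], 0),
  ([], 0),
  ([], 0),
  ([], 0),
  ([], 0),
  ([], 0),
  ([], 0),
  ([], 0),
  ([], 0),
  ([], 0),
  ([], 0),
  ([], 0),
  ([], 0),
  ([], 0),
  ([], 0),
  ([], 0),
  ([], 0),
  ([], 0),
  ([], 0),
  ([], 0),
  ([], 0),
  ([], 0),
  ([], 0),
  ([], 0),
  ([], 0),
  ([], 0),
  ([], 0),
  ([], 0),
  ([], 0),
  ([], 0),
  ([], 0),
  ([], 0),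
  ([], 0),
  ([], 0),
  ([], 0),
  ([], 0),
  ([], 0),
  ([], 0),
  ([], 0),
  ([], 0),
  ([], 0),
  ([], 0),
  ([], 0),
  ([], 0),
  ([], 0),
  ([], 0),
  ([], 0),
  ([], 0),
  ([], 0),
  ([], 0),
  ([], 0),
  ([], 0),
  ([], 0),
  ([], 0),
  ([], 0),
  ([], 0),
  ([], 0),
  ([], 0),
  ([], 0),
  ([], 0),
  ([], 0),
  ([], 0),
  ([], 0),
  ([], 0),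
  ([], 0),
  ([], 0),
  ([], 0),
  ([], 0),
  ([], 0),
  ([], 0)]

def cjE8 (k : ℕ) : List ℕ × ℕ := cjL.getD k ([], 0)

/-- the representatives of the ten classes of involutions of the Weyl group -/
def repL : List (List ℕ) := [
  [],
  [0],
  [0, 1],
  [0, 1, 4],
  [0, 1, 4, 6],
  [1, 2, 3, 1, 2, 3, 4, 3, 1, 2, 3, 4],
  [1, 2, 3, 1, 2, 3, 4, 3, 1, 2, 3, 4, 6],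
  [1, 2, 3, 1, 2, 3, 4, 3, 1, 2, 3, 4, 5, 4, 3, 1, 2, 3, 4, 5, 6, 5, 4, 3, 1, 2, 3, 4, 5, 6],
  [0, 1, 2, 0, 3, 1, 2, 0, 3, 2, 4, 3, 1, 2, 0, 3, 2, 4, 3, 1, 5, 4, 3, 1, 2, 0, 3, 2, 4, 3, 1, 5, 4, 3, 2, 0, 6, 5, 4, 3, 1, 2, 0, 3, 2, 4, 3, 1, 5, 4, 3, 2, 0, 6, 5, 4, 3, 1, 2, 3, 4, 5, 6],
  [0, 1, 2, 0, 3, 1, 2, 0, 3, 2, 4, 3, 1, 2, 0, 3, 2, 4, 3, 1, 5, 4, 3, 1, 2, 0, 3, 2, 4, 3, 1, 5, 4, 3, 2, 0, 6, 5, 4, 3, 1, 2, 0, 3, 2, 4, 3, 1, 5, 4, 3, 2, 0, 6, 5, 4, 3, 1, 2, 3, 4, 5, 6, 7, 6, 5, 4, 3, 1, 2, 0, 3, 2, 4, 3, 1, 5, 4, 3, 2, 0, 6, 5, 4, 3, 1, 2, 3, 4, 5, 6, 7, 6, 5, 4, 3, 1, 2, 0, 3, 2, 4, 3, 1, 5, 4, 3, 2, 0, 6, 5, 4, 3, 1, 2, 3, 4, 5, 6, 7]]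

def repE8 (c : ℕ) : List ℕ := repL.getD c []

/-- the check of the row of the bitmask `k` -/
noncomputable def chkCjRow (k : ℕ) : Bool :=
  match tabE8 k with
  | .inl _ => true
  | .inr Ws => Nat.blt (cjE8 k).2 10 && chkCj fdE8 fxE8 (entW (.inr Ws)) (cjE8 k).1 (repE8 (cjE8 k).2)

theorem cj_chk : ∀ k < 2 ^ fdE8.l, chkCjRow k = true := by
  decide +kernel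

variable {F : Type*} [Field F] [Fintype F]

theorem e8_good_rep (hodd : Fintype.card F % 2 = 1) (h2 : (2 : F) ≠ 0) (c : ℕ) (hc : c < 10) :
    Good cert12_E8 F (repE8 c) := by
  interval_cases c
  · exact e8_good_c0 hodd h2
  · exact e8_good_c1 hodd h2
  · exact e8_good_c2 hodd h2
  · exact e8_good_c3 hodd h2
  · exact e8_good_c4 hodd h2
  · exact e8_good_c5 hodd h2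
  · exact e8_good_c6 hodd h2
  · exact e8_good_c7 hodd h2
  · exact e8_good_c8 hodd h2
  · exact e8_good_c9 hodd h2

/-- **every involution of `E₈(F)`, `F` finite of odd order, is conjugate to an element of `H`** -/
theorem e8_inv_conj_diag (hodd : Fintype.card F % 2 = 1) (h2 : (2 : F) ≠ 0) (g : GL chevE8.Idx F)
    (hg : g ∈ chevE8.group F) (hg2 : g * g = 1) :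
    ∃ x ∈ chevE8.group F, x * g * x⁻¹ ∈ chevE8.diagonalSubgroup F := by
  obtain ⟨k, hk, Ws, hWs, z, hz, m, hm, hzm, hmm, hπ⟩ :=
    exists_conj_word cert12_E8 lowStmt_E8 tabE8 tabE8_chk g hg hg2
  have hrow := cj_chk k hk
  unfold chkCjRow at hrow
  rw [hWs] at hrow
  simp only [Bool.and_eq_true, natBlt_iff] at hrow
  obtain ⟨hc, hcj⟩ := hrow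
  have hG : Good cert12_E8 F (entW (.inr Ws)) :=
    good_of_chkCj cert12_E8 _ _ _ hcj (e8_good_rep hodd h2 _ hc)
  obtain ⟨y, hy, hym⟩ := hG m hm hmm hπ
  refine ⟨y * z, mul_mem hy hz, ?_⟩
  have : y * z * g * (y * z)⁻¹ = y * (z * g * z⁻¹) * y⁻¹ := by group
  rw [this, hzm]
  exact hym

end Cfsg.Agent.Lib.H13.E8Odd
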