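import Cfsg.Agent.S5157
import Cfsg.Agent.S5134
import Cfsg.Agent.S5133
import Cfsg.Agent.Lib.H25.MorphismClosed
import Cfsg.Agent.Lib.H24.F59Def

/-!
S5159 piece (FWD-D): if `F` is solvable and `D` is the factor system of `F` modulo a strongly closed
subgroup `T` (read through `θ`), then `D` is solvable.  Exact signature of
`tools/blueprints/S5159_sigs.lean`.
-/

set_option autoImplicit false

namespace Cfsg.Agent.Lib.H13.F59

open Cfsg Cfsg.FusionSystem Cfsg.Agent.Lib.H25
open scoped commutatorElement

variable {Ω : Type*} [Group Ω] {S : Subgroup Ω}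

/-- (FWD-D) only needs `T` strongly closed. -/
theorem fwd_factor [Finite S] (p : ℕ) [Fact p.Prime] (hS : IsPGroup p S) (F : FusionSystem S)
    (hF : F.IsSaturated p) {T : Subgroup Ω} (hT : F.StronglyClosed T) {Ω' : Type*} [Group Ω']
    {S' : Subgroup Ω'} (θ : S →* Ω') (D : FusionSystem S') (hD : F.IsFactorSystem T θ D)
    (h : F.IsSolvableSystem) : D.IsSolvableSystem := by
  have hsm := Cfsg.Agent.S5134.result p hS F hF T hT θ D hD
  have hDsat := Cfsg.Agent.S5133.result p hS F hF D θ hsm
  have hrange := hsm.2.1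
  have : Finite S' := finite_S' hrange
  have hS' : IsPGroup p S' := isPGroup_S' hrange hS
  obtain ⟨n, Tc, h0, hl, -, hs, hc⟩ := (Cfsg.Agent.S5157.result p hS F hF).1 h
  refine Cfsg.Agent.S5157.solvable_of_chain (T := fun i => imageAlong θ (Tc i)) hS' hDsat ?_ ?_ ?_ ?_
  · show imageAlong θ (Tc 0) = ⊥
    rw [h0]
    unfold imageAlong
    rw [Subgroup.bot_subgroupOf, Subgroup.map_bot]
  · show imageAlong θ (Tc (Fin.last n)) = S'
    rw [hl]
    unfold imageAlong
    rw [Subgroup.subgroupOf_self, ← MonoidHom.range_eq_map, hrange]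
  · intro i
    exact image_stronglyClosed hsm (hs i)
  · intro i
    show ⁅imageAlong θ (Tc i.succ), imageAlong θ (Tc i.succ)⁆ ≤ imageAlong θ (Tc i.castSucc)
    unfold imageAlong
    rw [← Subgroup.map_commutator]
    apply Subgroup.map_mono
    rw [Subgroup.commutator_le]
    intro x hx y hy
    rw [Subgroup.mem_subgroupOf] at hx hy ⊢
    have := hc i (Subgroup.commutator_mem_commutator hx hy)
    simpa [commutatorElement_def] using this

end Cfsg.Agent.Lib.H13.F59
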