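/-
helper13: S5401-TR22 (helper17 farm-out).  `Cfsg.IsOfTypeM22` is invariant under group isomorphisms.
Generic transport tools: `closureEquiv` (closure S ≃* closure S' for S' = e '' S), `centerQuotEquiv`
(A ≃* B induces A ⧸ Z(A) ≃* B ⧸ Z(B)).
-/
import Mathlib
import Cfsg.Prelude.Def_FischerSpaces

set_option autoImplicit false

namespace Cfsg.Agent.Lib.H13.FT

universe u v

/-- An isomorphism maps the centre onto the centre. -/
theorem map_center_eq {A : Type u} {B : Type v} [Group A] [Group B] (f : A ≃* B) :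
    (Subgroup.center A).map (f : A →* B) = Subgroup.center B := by
  ext y
  simp only [Subgroup.mem_map, Subgroup.mem_center_iff]
  constructor
  · rintro ⟨x, hx, rfl⟩ g
    have := hx (f.symm g)
    have h2 := congrArg f this
    simpa using h2
  · intro hy
    refine ⟨f.symm y, fun g => ?_, by simp⟩
    apply f.injective
    simpa using hy (f g)

/-- `A ≃* B` induces `A ⧸ Z(A) ≃* B ⧸ Z(B)`. -/
noncomputable def centerQuotEquiv {A : Type u} {B : Type v} [Group A] [Group B] (f : A ≃* B) :
    A ⧸ Subgroup.center A ≃* B ⧸ Subgroup.center B :=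
  QuotientGroup.congr (Subgroup.center A) (Subgroup.center B) f (map_center_eq f)

theorem centerQuotEquiv_mk {A : Type u} {B : Type v} [Group A] [Group B] (f : A ≃* B) (x : A) :
    centerQuotEquiv f (x : A ⧸ Subgroup.center A) = ((f x : B) : B ⧸ Subgroup.center B) :=
  QuotientGroup.congr_mk _ _ f (map_center_eq f) x

/-- `closure S ≃* closure S'` when `S' = e '' S`. -/
noncomputable def closureEquiv {G : Type u} {G' : Type v} [Group G] [Group G'] (e : G ≃* G')
    (S : Set G) (S' : Set G') (hS : S' = e '' S) :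
    ↥(Subgroup.closure S) ≃* ↥(Subgroup.closure S') :=
  (e.subgroupMap (Subgroup.closure S)).trans
    (MulEquiv.subgroupCongr (by
      rw [hS]
      exact MonoidHom.map_closure (e : G →* G') S))

theorem closureEquiv_coe {G : Type u} {G' : Type v} [Group G] [Group G'] (e : G ≃* G')
    (S : Set G) (S' : Set G') (hS : S' = e '' S) (x : ↥(Subgroup.closure S)) :
    ((closureEquiv e S S' hS x : ↥(Subgroup.closure S')) : G') = e (x : G) := by
  rfl

/-- transport of `IsProjReflectionGroupModThree` along an isomorphism -/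
theorem isProjReflectionGroupModThree_of_equiv {X : Type u} {X' : Type v} [Group X] [Group X']
    (f : X' ≃* X) {n : ℕ} {μ c : ZMod 3} (h : Cfsg.IsProjReflectionGroupModThree X n μ c) :
    Cfsg.IsProjReflectionGroupModThree X' n μ c := by
  obtain ⟨Q, hQ, hdet, ⟨ψ⟩⟩ := h
  exact ⟨Q, hQ, hdet, ⟨f.trans ψ⟩⟩

/-- image under `e` of the set `{y ∈ D | y ≠ d ∧ Commute d y}` -/
theorem image_commSet {G : Type u} {G' : Type v} [Group G] [Group G'] (e : G ≃* G') (D : Set G) (d : G) :
    {y : G' | y ∈ e '' D ∧ y ≠ e d ∧ Commute (e d) y} = e '' {y : G | y ∈ D ∧ y ≠ d ∧ Commute d y} := by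
  ext y
  simp only [Set.mem_setOf_eq, Set.mem_image]
  constructor
  · rintro ⟨⟨x, hx, rfl⟩, hne, hcomm⟩
    refine ⟨x, ⟨hx, fun h => hne (by rw [h]), ?_⟩, rfl⟩
    have : e (d * x) = e (x * d) := by simpa [Commute, SemiconjBy] using hcomm
    exact e.injective this
  · rintro ⟨x, ⟨hx, hne, hcomm⟩, rfl⟩
    refine ⟨⟨x, hx, rfl⟩, fun h => hne (e.injective h), ?_⟩
    exact hcomm.map e

theorem image_commSet_inter {G : Type u} {G' : Type v} [Group G] [Group G'] (e : G ≃* G') (D : Set G) (d c : G) :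
    ({y : G' | y ∈ e '' D ∧ y ≠ e d ∧ Commute (e d) y} ∩ {y : G' | y ∈ e '' D ∧ y ≠ e c ∧ Commute (e c) y}) =
      e '' ({y : G | y ∈ D ∧ y ≠ d ∧ Commute d y} ∩ {y : G | y ∈ D ∧ y ≠ c ∧ Commute c y}) := by
  rw [image_commSet, image_commSet, Set.image_inter e.injective]

theorem center_eq_bot_map {G : Type u} {G' : Type v} [Group G] [Group G'] (e : G ≃* G')
    (h : Subgroup.center G = ⊥) : Subgroup.center G' = ⊥ := by
  rw [← map_center_eq e, h, Subgroup.map_bot]

theorem not_commute_map {G : Type u} {G' : Type v} [Group G] [Group G'] (e : G ≃* G') {d c : G}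
    (h : ¬ Commute d c) : ¬ Commute (e d) (e c) := by
  intro hc
  apply h
  have : e (d * c) = e (c * d) := by simpa [Commute, SemiconjBy] using hc
  exact e.injective this

/-- **S5401-TR22**.  `IsOfTypeM22` is invariant under group isomorphisms. -/
theorem isOfTypeM22_map {G : Type u} {G' : Type v} [Group G] [Group G'] (e : G ≃* G') {D : Set G}
    (h : Cfsg.IsOfTypeM22 G D) : Cfsg.IsOfTypeM22 G' (e '' D) := by
  obtain ⟨hcen, d, hd, c, hc, hnc, ⟨F, iF, iF2, hF, ⟨φ⟩⟩, c₃, hc₃, hL⟩ := h
  refine ⟨center_eq_bot_map e hcen, e d, ⟨d, hd, rfl⟩, e c, ⟨c, hc, rfl⟩, not_commute_map e hnc,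
    ⟨F, iF, iF2, hF, ⟨?_⟩⟩, c₃, hc₃, ?_⟩
  · exact (centerQuotEquiv (closureEquiv e _ _ (image_commSet e D d))).symm.trans φ
  · exact isProjReflectionGroupModThree_of_equiv
      (centerQuotEquiv (closureEquiv e _ _ (image_commSet_inter e D d c))).symm hL

end Cfsg.Agent.Lib.H13.FT
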