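/-
helper13: S5401-TR23 (helper17 farm-out).  `Cfsg.IsOfTypeM23` is invariant under group isomorphisms.
-/
import Cfsg.Agent.Lib.H13.FTTR22

set_option autoImplicit false

namespace Cfsg.Agent.Lib.H13.FT

universe u v

/-- The induced isomorphism `H ⧸ Z(H) ≃* H' ⧸ Z(H')` maps the image of the generating set onto the image of the
generating set. -/
theorem image_mk_closureEquiv {G : Type u} {G' : Type v} [Group G] [Group G'] (e : G ≃* G')
    (S : Set G) (S' : Set G') (hS : S' = e '' S) :
    (centerQuotEquiv (closureEquiv e S S' hS)) ''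
        ((QuotientGroup.mk : ↥(Subgroup.closure S) → _) '' {x : ↥(Subgroup.closure S) | (x : G) ∈ S}) =
      (QuotientGroup.mk : ↥(Subgroup.closure S') → _) '' {x : ↥(Subgroup.closure S') | (x : G') ∈ S'} := by
  ext y
  simp only [Set.mem_image, Set.mem_setOf_eq]
  constructor
  · rintro ⟨_, ⟨x, hx, rfl⟩, rfl⟩
    refine ⟨closureEquiv e S S' hS x, ?_, (centerQuotEquiv_mk _ x).symm⟩
    rw [closureEquiv_coe, hS]
    exact ⟨_, hx, rfl⟩
  · rintro ⟨x', hx', rfl⟩
    refine ⟨_, ⟨(closureEquiv e S S' hS).symm x', ?_, rfl⟩, ?_⟩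
    · have h1 : e (((closureEquiv e S S' hS).symm x' : ↥(Subgroup.closure S)) : G) = (x' : G') := by
        rw [← closureEquiv_coe e S S' hS, MulEquiv.apply_symm_apply]
      have hx'' : (x' : G') ∈ e '' S := hS ▸ hx'
      obtain ⟨z, hz, hz'⟩ := hx''
      have : (((closureEquiv e S S' hS).symm x' : ↥(Subgroup.closure S)) : G) = z := by
        apply e.injective
        rw [h1, hz']
      rw [this]
      exact hz
    · rw [centerQuotEquiv_mk, MulEquiv.apply_symm_apply]

/-- **S5401-TR23**.  `IsOfTypeM23` is invariant under group isomorphisms. -/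
theorem isOfTypeM23_map {G : Type u} {G' : Type v} [Group G] [Group G'] (e : G ≃* G') {D : Set G}
    (h : Cfsg.IsOfTypeM23 G D) : Cfsg.IsOfTypeM23 G' (e '' D) := by
  obtain ⟨hcen, d, hd, c, hc, hnc, hH, c₃, hc₃, hL⟩ := h
  refine ⟨center_eq_bot_map e hcen, e d, ⟨d, hd, rfl⟩, e c, ⟨c, hc, rfl⟩, not_commute_map e hnc,
    ?_, c₃, hc₃, ?_⟩
  · have := isOfTypeM22_map (centerQuotEquiv (closureEquiv e _ _ (image_commSet e D d))) hH
    rw [image_mk_closureEquiv] at this
    exact this
  · exact isProjReflectionGroupModThree_of_equiv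
      (centerQuotEquiv (closureEquiv e _ _ (image_commSet_inter e D d c))).symm hL

end Cfsg.Agent.Lib.H13.FT
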