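import Cfsg.Agent.Lib.H13.FieldSub

set_option autoImplicit false

namespace Cfsg.Agent.Lib.H13.FieldNorm

open Module Cfsg.Agent.Lib.H13.FieldSub

variable {F : Type*} [Field F] {n : ℕ} [NeZero n]

instance : Nonempty (Fin n) := ⟨⟨0, Nat.pos_of_ne_zero (NeZero.ne n)⟩⟩

/-- the subalgebra of `K` fixed by the `p^e`-power map -/
def fixSub (K : Subalgebra F (Matrix (Fin n) (Fin n) F)) (hK : IsFld K) (p : ℕ) [Fact p.Prime]
    [CharP F p] (e : ℕ) (hQ : ∀ c : F, c ^ (p ^ e) = c) :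
    Subalgebra F (Matrix (Fin n) (Fin n) F) where
  carrier := {x | x ∈ K ∧ x ^ (p ^ e) = x}
  mul_mem' := by
    rintro x y ⟨hx, hx'⟩ ⟨hy, hy'⟩
    refine ⟨K.mul_mem hx hy, ?_⟩
    have hc : Commute x y := hK.comm x hx y hy
    rw [hc.mul_pow, hx', hy']
  one_mem' := ⟨K.one_mem, one_pow _⟩
  add_mem' := by
    rintro x y ⟨hx, hx'⟩ ⟨hy, hy'⟩
    refine ⟨K.add_mem hx hy, ?_⟩
    have hc : Commute x y := hK.comm x hx y hy
    rw [add_pow_char_pow_of_commute p e hc, hx', hy']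
  zero_mem' := ⟨K.zero_mem, zero_pow (pow_ne_zero _ (Fact.out : p.Prime).ne_zero)⟩
  algebraMap_mem' := by
    intro c
    refine ⟨K.algebraMap_mem c, ?_⟩
    rw [← map_pow, hQ]

theorem mem_fixSub (K : Subalgebra F (Matrix (Fin n) (Fin n) F)) (hK : IsFld K) (p : ℕ)
    [Fact p.Prime] [CharP F p] (e : ℕ) (hQ : ∀ c : F, c ^ (p ^ e) = c)
    (x : Matrix (Fin n) (Fin n) F) :
    x ∈ fixSub K hK p e hQ ↔ x ∈ K ∧ x ^ (p ^ e) = x := Iff.rfl

theorem fixSub_le (K : Subalgebra F (Matrix (Fin n) (Fin n) F)) (hK : IsFld K) (p : ℕ)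
    [Fact p.Prime] [CharP F p] (e : ℕ) (hQ : ∀ c : F, c ^ (p ^ e) = c) :
    fixSub K hK p e hQ ≤ K := fun _ hx => hx.1

theorem isFld_fixSub (K : Subalgebra F (Matrix (Fin n) (Fin n) F)) (hK : IsFld K) (p : ℕ)
    [Fact p.Prime] [CharP F p] (e : ℕ) (hQ : ∀ c : F, c ^ (p ^ e) = c) :
    IsFld (fixSub K hK p e hQ) where
  comm := fun x hx y hy => hK.comm x hx.1 y hy.1
  inv := by
    intro x hx hx0
    obtain ⟨y, hy, hxy⟩ := hK.inv x hx.1 hx0
    refine ⟨y, ⟨hy, ?_⟩, hxy⟩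
    have hc : Commute x y := hK.comm x hx.1 y hy
    have h1 : x * y ^ (p ^ e) = 1 := by
      have := congrArg (· ^ (p ^ e)) hxy
      simp only [one_pow] at this
      rw [hc.mul_pow, hx.2] at this
      exact this
    have hyx : y * x = 1 := by rw [← hc.eq]; exact hxy
    calc y ^ (p ^ e) = (y * x) * y ^ (p ^ e) := by rw [hyx, one_mul]
      _ = y * (x * y ^ (p ^ e)) := by rw [mul_assoc]
      _ = y := by rw [h1, mul_one]

theorem isFld_bot : IsFld (⊥ : Subalgebra F (Matrix (Fin n) (Fin n) F)) where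
  comm := by
    intro x hx y hy
    obtain ⟨a, rfl⟩ := Algebra.mem_bot.mp hx
    obtain ⟨b, rfl⟩ := Algebra.mem_bot.mp hy
    rw [← map_mul, ← map_mul, mul_comm]
  inv := by
    intro x hx hx0
    obtain ⟨a, rfl⟩ := Algebra.mem_bot.mp hx
    have ha : a ≠ 0 := by
      rintro rfl
      exact hx0 (map_zero _)
    refine ⟨algebraMap F _ a⁻¹, Algebra.mem_bot.mpr ⟨a⁻¹, rfl⟩, ?_⟩
    rw [← map_mul, mul_inv_cancel₀ ha, map_one]

/-- normalizing `K` implies normalizing its fixed subalgebra -/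
theorem normalizer_le (K : Subalgebra F (Matrix (Fin n) (Fin n) F)) (hK : IsFld K) (p : ℕ)
    [Fact p.Prime] [CharP F p] (e : ℕ) (hQ : ∀ c : F, c ^ (p ^ e) = c) :
    Cfsg.Geo.subalgebraNormalizer K ≤ Cfsg.Geo.subalgebraNormalizer (fixSub K hK p e hQ) := by
  intro g hg k
  have hg' : ∀ k : Matrix (Fin n) (Fin n) F, k ∈ K ↔
      (g : Matrix (Fin n) (Fin n) F) * k * ((g⁻¹ : GL (Fin n) F) : Matrix (Fin n) (Fin n) F) ∈ K := hg
  rw [mem_fixSub, mem_fixSub, ← hg' k, Units.conj_pow]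
  constructor
  · rintro ⟨h1, h2⟩
    exact ⟨h1, by rw [h2]⟩
  · rintro ⟨h1, h2⟩
    refine ⟨h1, ?_⟩
    have h3 : ((g⁻¹ : GL (Fin n) F) : Matrix (Fin n) (Fin n) F) * ((g : Matrix (Fin n) (Fin n) F) *
        k ^ p ^ e * ((g⁻¹ : GL (Fin n) F) : Matrix (Fin n) (Fin n) F)) * (g : Matrix (Fin n) (Fin n) F) =
        ((g⁻¹ : GL (Fin n) F) : Matrix (Fin n) (Fin n) F) * ((g : Matrix (Fin n) (Fin n) F) *
        k * ((g⁻¹ : GL (Fin n) F) : Matrix (Fin n) (Fin n) F)) * (g : Matrix (Fin n) (Fin n) F) := by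
      rw [h2]
    have e1 : ∀ M : Matrix (Fin n) (Fin n) F,
        ((g⁻¹ : GL (Fin n) F) : Matrix (Fin n) (Fin n) F) * ((g : Matrix (Fin n) (Fin n) F) * M *
          ((g⁻¹ : GL (Fin n) F) : Matrix (Fin n) (Fin n) F)) * (g : Matrix (Fin n) (Fin n) F) = M := by
      intro M
      have h4 : ((g⁻¹ : GL (Fin n) F) : Matrix (Fin n) (Fin n) F) * (g : Matrix (Fin n) (Fin n) F) = 1 := by
        rw [← Units.val_mul, inv_mul_cancel, Units.val_one]
      calc _ = (((g⁻¹ : GL (Fin n) F) : Matrix (Fin n) (Fin n) F) * (g : Matrix (Fin n) (Fin n) F)) * M *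
          (((g⁻¹ : GL (Fin n) F) : Matrix (Fin n) (Fin n) F) * (g : Matrix (Fin n) (Fin n) F)) := by
            simp only [mul_assoc]
        _ = M := by rw [h4, one_mul, mul_one]
    rw [e1, e1] at h3
    exact h3

section card

variable [Fintype F]

theorem card_of_finrank (K : Subalgebra F (Matrix (Fin n) (Fin n) F)) (r : ℕ)
    (hr : finrank F ↥K = r) : Nat.card ↥K = Fintype.card F ^ r := by
  rw [Module.natCard_eq_pow_finrank (K := F) (V := ↥K), hr, Nat.card_eq_fintype_card]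

open Polynomial in
/-- a field all of whose elements are fixed by the `Q`-th power map has at most `Q` elements -/
theorem card_le_of_pow_eq (E : Subalgebra F (Matrix (Fin n) (Fin n) F)) [Fact (IsFld E)]
    (Q : ℕ) (hQ1 : 1 < Q) (h : ∀ x ∈ E, x ^ Q = x) : Nat.card ↥E ≤ Q := by
  classical
  haveI : Finite ↥E := Subtype.finite
  haveI : Fintype ↥E := Fintype.ofFinite _
  set P : (↥E)[X] := X ^ Q - X with hP
  have hP0 : P ≠ 0 := FiniteField.X_pow_card_sub_X_ne_zero ↥E hQ1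
  have hroot : ∀ a : ↥E, a ∈ P.roots.toFinset := by
    intro a
    rw [Multiset.mem_toFinset, mem_roots hP0, IsRoot.def, hP, eval_sub, eval_pow, eval_X]
    have : a ^ Q = a := Subtype.ext (by
      rw [SubmonoidClass.coe_pow]
      exact h a a.2)
    rw [this, sub_self]
  rw [Nat.card_eq_fintype_card]
  calc Fintype.card ↥E = (Finset.univ : Finset ↥E).card := rfl
    _ ≤ P.roots.toFinset.card := Finset.card_le_card (fun a _ => hroot a)
    _ ≤ Multiset.card P.roots := Multiset.toFinset_card_le _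
    _ ≤ P.natDegree := card_roots' P
    _ = Q := FiniteField.X_pow_card_sub_X_natDegree_eq ↥E hQ1

/-- a field of order `q^r` contains a non-scalar element fixed by the `q^s`-power map, `s ∣ r`,
`1 < s` -/
theorem exists_nonscalar (K : Subalgebra F (Matrix (Fin n) (Fin n) F)) [Fact (IsFld K)]
    (r s : ℕ) (hK : Nat.card ↥K = Fintype.card F ^ r) (hsr : s ∣ r) (hs : 1 < s) (hr : 0 < r) :
    ∃ k ∈ K, k ^ (Fintype.card F ^ s) = k ∧ k ∉ (⊥ : Subalgebra F (Matrix (Fin n) (Fin n) F)) := by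
  classical
  haveI : Finite ↥K := Subtype.finite
  haveI : Fintype ↥K := Fintype.ofFinite _
  set q := Fintype.card F with hq
  have hq2 : 2 ≤ q := Fintype.one_lt_card
  obtain ⟨m, rfl⟩ := hsr
  have hm : 0 < m := by
    rcases Nat.eq_zero_or_pos m with h | h
    · subst h; omega
    · exact h
  set Q := q ^ s with hQ
  have hQq : q < Q := by
    calc q = q ^ 1 := (pow_one q).symm
      _ < q ^ s := Nat.pow_lt_pow_right hq2 hs
  have hdvd : (Q - 1) ∣ (q ^ (s * m) - 1) := by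
    rw [pow_mul]
    have := Nat.sub_dvd_pow_sub_pow Q 1 m
    rwa [one_pow] at this
  obtain ⟨M, hM⟩ := hdvd
  obtain ⟨ζ, hζ⟩ := IsCyclic.exists_generator (α := (↥K)ˣ)
  have hord : orderOf ζ = q ^ (s * m) - 1 := by
    rw [orderOf_eq_card_of_forall_mem_zpowers hζ, Nat.card_eq_fintype_card, Fintype.card_units,
      ← Nat.card_eq_fintype_card, hK]
  set k₀ : (↥K)ˣ := ζ ^ M with hk₀
  have hk₀Q : k₀ ^ (Q - 1) = 1 := by
    rw [hk₀, ← pow_mul, mul_comm, ← hM, ← hord, pow_orderOf_eq_one]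
  have hQ1 : 1 ≤ Q := by omega
  have hk₀Q' : ((k₀ : ↥K) : Matrix (Fin n) (Fin n) F) ^ Q = ((k₀ : ↥K) : Matrix (Fin n) (Fin n) F) := by
    have h1 : (k₀ : ↥K) ^ Q = (k₀ : ↥K) := by
      have : Q = (Q - 1) + 1 := by omega
      rw [this, pow_succ, ← Units.val_pow_eq_pow_val, hk₀Q, Units.val_one, one_mul]
    have := congrArg (Subtype.val) h1
    rwa [SubmonoidClass.coe_pow] at this
  refine ⟨((k₀ : ↥K) : Matrix (Fin n) (Fin n) F), (k₀ : ↥K).2, hk₀Q', ?_⟩
  intro hbot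
  obtain ⟨c, hc⟩ := Algebra.mem_bot.mp hbot
  have hc0 : c ≠ 0 := by
    rintro rfl
    rw [map_zero] at hc
    have : (k₀ : ↥K) = 0 := Subtype.ext hc.symm
    exact k₀.ne_zero this
  have hcq : c ^ (q - 1) = 1 := FiniteField.pow_card_sub_one_eq_one c hc0
  have h2 : (k₀ : ↥K) ^ (q - 1) = 1 := by
    apply Subtype.ext
    rw [SubmonoidClass.coe_pow, ← hc, ← map_pow, hcq, map_one]
    rfl
  have h3 : k₀ ^ (q - 1) = 1 := Units.ext (by rw [Units.val_pow_eq_pow_val, h2, Units.val_one])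
  rw [hk₀, ← pow_mul] at h3
  have h4 := orderOf_dvd_of_pow_eq_one h3
  rw [hord, hM] at h4
  have hMpos : 0 < M := by
    rcases Nat.eq_zero_or_pos M with h | h
    · subst h
      rw [mul_zero] at hM
      have : 1 < q ^ (s * m) := Nat.one_lt_pow (by positivity) hq2
      omega
    · exact h
  have h5 : (Q - 1) ∣ (q - 1) := by
    rw [mul_comm (Q - 1) M] at h4
    exact (Nat.mul_dvd_mul_iff_left hMpos).mp h4
  have h6 := Nat.le_of_dvd (by omega) h5
  omega

end card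

end Cfsg.Agent.Lib.H13.FieldNorm
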