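import Mathlib
import Cfsg.Prelude.Def_GeometricClasses

set_option autoImplicit false

namespace Cfsg.Agent.Lib.H13.FieldSub

open Module

variable {F : Type*} [Field F] {n : ℕ}

/-- a subalgebra of the matrix algebra which is a field -/
structure IsFld (E : Subalgebra F (Matrix (Fin n) (Fin n) F)) : Prop where
  comm : ∀ x ∈ E, ∀ y ∈ E, x * y = y * x
  inv : ∀ x ∈ E, x ≠ 0 → ∃ y ∈ E, x * y = 1

variable (E : Subalgebra F (Matrix (Fin n) (Fin n) F)) [hE : Fact (IsFld E)] [NeZero n]

theorem isField : IsField ↥E where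
  exists_pair_ne := by
    refine ⟨0, 1, fun h => ?_⟩
    have h1 : ((0 : ↥E) : Matrix (Fin n) (Fin n) F) = ((1 : ↥E) : Matrix (Fin n) (Fin n) F) := by
      rw [h]
    have h2 := congrFun (congrFun h1 ⟨0, Nat.pos_of_ne_zero (NeZero.ne n)⟩)
      ⟨0, Nat.pos_of_ne_zero (NeZero.ne n)⟩
    simp at h2
  mul_comm := fun x y => Subtype.ext (hE.out.comm x x.2 y y.2)
  mul_inv_cancel := by
    intro a ha
    have ha' : (a : Matrix (Fin n) (Fin n) F) ≠ 0 := fun h => ha (Subtype.ext h)
    obtain ⟨y, hy, hxy⟩ := hE.out.inv a a.2 ha'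
    exact ⟨⟨y, hy⟩, Subtype.ext hxy⟩

noncomputable instance instField : Field ↥E := (isField E).toField

noncomputable instance instModule : Module ↥E (Fin n → F) where
  smul e v := (e : Matrix (Fin n) (Fin n) F).mulVec v
  one_smul v := Matrix.one_mulVec v
  mul_smul a b v := (Matrix.mulVec_mulVec v (a : Matrix (Fin n) (Fin n) F) b).symm
  smul_zero e := Matrix.mulVec_zero _
  smul_add e v w := Matrix.mulVec_add _ v w
  add_smul a b v := Matrix.add_mulVec _ _ v
  zero_smul v := Matrix.zero_mulVec v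

theorem smul_def (e : ↥E) (v : Fin n → F) :
    e • v = (e : Matrix (Fin n) (Fin n) F).mulVec v := rfl

instance instTower : IsScalarTower F ↥E (Fin n → F) where
  smul_assoc c e v := by
    rw [smul_def, smul_def]
    show ((c • (e : Matrix (Fin n) (Fin n) F))).mulVec v = _
    rw [Matrix.smul_mulVec]

/-- an `E`-linear map as a matrix over `F` -/
noncomputable def mat (g : (Fin n → F) →ₗ[↥E] (Fin n → F)) : Matrix (Fin n) (Fin n) F :=
  LinearMap.toMatrix' (g.restrictScalars F)

theorem mat_mulVec (g : (Fin n → F) →ₗ[↥E] (Fin n → F)) (v : Fin n → F) :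
    (mat E g).mulVec v = g v := by
  unfold mat
  rw [LinearMap.toMatrix'_mulVec]
  rfl

theorem mat_comp (g h : (Fin n → F) →ₗ[↥E] (Fin n → F)) :
    mat E (g ∘ₗ h) = mat E g * mat E h := by
  unfold mat
  rw [← LinearMap.toMatrix'_comp]
  rfl

theorem mat_id : mat E (LinearMap.id : (Fin n → F) →ₗ[↥E] (Fin n → F)) = 1 := by
  unfold mat
  rw [← LinearMap.toMatrix'_id]
  rfl

theorem mat_add (g h : (Fin n → F) →ₗ[↥E] (Fin n → F)) :
    mat E (g + h) = mat E g + mat E h := by
  unfold mat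
  rw [← map_add]
  rfl

theorem mat_zero : mat E (0 : (Fin n → F) →ₗ[↥E] (Fin n → F)) = 0 := by
  unfold mat
  rw [← map_zero (LinearMap.toMatrix' (R := F) (n := Fin n) (m := Fin n))]
  rfl

theorem eq_of_mulVec {M N : Matrix (Fin n) (Fin n) F} (h : ∀ v, M.mulVec v = N.mulVec v) :
    M = N := by
  apply Matrix.toLin'.injective
  apply LinearMap.ext
  intro w
  rw [Matrix.toLin'_apply, Matrix.toLin'_apply, h]

theorem mat_comm (g : (Fin n → F) →ₗ[↥E] (Fin n → F)) (e : Matrix (Fin n) (Fin n) F)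
    (he : e ∈ E) : mat E g * e = e * mat E g := by
  apply eq_of_mulVec
  intro v
  rw [← Matrix.mulVec_mulVec, ← Matrix.mulVec_mulVec, mat_mulVec, mat_mulVec]
  have := g.map_smul (⟨e, he⟩ : ↥E) v
  rw [smul_def, smul_def] at this
  exact this

section transvection

variable {E}

/-- an `E`-linear transvection -/
noncomputable def tau (φ : (Fin n → F) →ₗ[↥E] ↥E) (u : Fin n → F) :
    (Fin n → F) →ₗ[↥E] (Fin n → F) :=
  LinearMap.id + φ.smulRight u

theorem tau_apply (φ : (Fin n → F) →ₗ[↥E] ↥E) (u y : Fin n → F) :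
    tau φ u y = y + φ y • u := rfl

theorem tau_comp (φ : (Fin n → F) →ₗ[↥E] ↥E) (u : Fin n → F) (hu : φ u = 0) :
    tau φ u ∘ₗ tau φ (-u) = LinearMap.id := by
  apply LinearMap.ext
  intro y
  rw [LinearMap.comp_apply, tau_apply, tau_apply, map_add, map_smul, map_neg, hu]
  simp

theorem sq_zero (φ : (Fin n → F) →ₗ[↥E] ↥E) (u : Fin n → F) (hu : φ u = 0) :
    φ.smulRight u ∘ₗ φ.smulRight u = 0 := by
  apply LinearMap.ext
  intro y
  rw [LinearMap.comp_apply, LinearMap.smulRight_apply, LinearMap.smulRight_apply, map_smul, hu]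
  simp

/-- the transvection as an element of `GL_n(F)` -/
noncomputable def tauGL (φ : (Fin n → F) →ₗ[↥E] ↥E) (u : Fin n → F) (hu : φ u = 0) :
    GL (Fin n) F :=
  ⟨mat E (tau φ u), mat E (tau φ (-u)), by
    rw [← mat_comp, tau_comp φ u hu, mat_id], by
    rw [← mat_comp]
    have := tau_comp φ (-u) (by rw [map_neg, hu, neg_zero])
    rw [neg_neg] at this
    rw [this, mat_id]⟩

theorem tauGL_val (φ : (Fin n → F) →ₗ[↥E] ↥E) (u : Fin n → F) (hu : φ u = 0) :
    (tauGL φ u hu : Matrix (Fin n) (Fin n) F) = mat E (tau φ u) := rfl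

theorem tauGL_inv_val (φ : (Fin n → F) →ₗ[↥E] ↥E) (u : Fin n → F) (hu : φ u = 0) :
    ((tauGL φ u hu)⁻¹ : GL (Fin n) F).val = mat E (tau φ (-u)) := rfl

theorem det_tauGL {p : ℕ} [Fact p.Prime] [CharP F p] (φ : (Fin n → F) →ₗ[↥E] ↥E)
    (u : Fin n → F) (hu : φ u = 0) :
    (tauGL φ u hu : Matrix (Fin n) (Fin n) F).det = 1 := by
  haveI : Nonempty (Fin n) := ⟨⟨0, Nat.pos_of_ne_zero (NeZero.ne n)⟩⟩
  set N := mat E (φ.smulRight u) with hN
  have hNN : N * N = 0 := by
    rw [hN, ← mat_comp, sq_zero φ u hu, mat_zero]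
  have hM : (tauGL φ u hu : Matrix (Fin n) (Fin n) F) = 1 + N := by
    rw [tauGL_val, tau, mat_add, mat_id]
  have hp2 : 2 ≤ p := (Fact.out : p.Prime).two_le
  have hNp : N ^ p = 0 := by
    obtain ⟨k, rfl⟩ : ∃ k, p = 2 + k := ⟨p - 2, by omega⟩
    rw [pow_add, sq, hNN, zero_mul]
  have h1 : (1 + N) ^ p = 1 := by
    rw [add_pow_char_of_commute p (Commute.one_left N), one_pow, hNp, add_zero]
  have h2 : (1 + N).det ^ p = 1 := by
    rw [← Matrix.det_pow, h1, Matrix.det_one]
  rw [hM]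
  apply frobenius_inj F p
  rw [frobenius_def, frobenius_def, h2, one_pow]

set_option synthInstance.maxHeartbeats 400000 in
set_option maxHeartbeats 1000000 in
/-- a matrix centralizing `E` but outside `E` has a conjugate, by an `E`-linear transvection,
outside any given small set -/
theorem exists_transvection [Fintype F] {p : ℕ} [Fact p.Prime] [CharP F p]
    (S : Set (Matrix (Fin n) (Fin n) F))
    (hS : Nat.card S * Nat.card ↥E < Fintype.card F ^ n)
    (k : Matrix (Fin n) (Fin n) F) (hk : ∀ e ∈ E, k * e = e * k) (hkE : k ∉ E) :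
    ∃ g : GL (Fin n) F, (g : Matrix (Fin n) (Fin n) F).det = 1 ∧
      (∀ e ∈ E, (g : Matrix (Fin n) (Fin n) F) * e = e * (g : Matrix (Fin n) (Fin n) F)) ∧
      (g : Matrix (Fin n) (Fin n) F) * k * ((g⁻¹ : GL (Fin n) F) : Matrix (Fin n) (Fin n) F) ∉ S := by
  classical
  let κ : (Fin n → F) →ₗ[↥E] (Fin n → F) :=
    { toFun := fun v => k.mulVec v
      map_add' := fun v w => Matrix.mulVec_add _ v w
      map_smul' := fun e v => by
        show k.mulVec ((e : Matrix (Fin n) (Fin n) F).mulVec v) =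
          (e : Matrix (Fin n) (Fin n) F).mulVec (k.mulVec v)
        rw [Matrix.mulVec_mulVec, Matrix.mulVec_mulVec, hk e e.2] }
  have hκ : ∀ v, κ v = k.mulVec v := fun v => rfl
  have hns : ¬ ∃ a : ↥E, κ = a • 1 := by
    rintro ⟨a, ha⟩
    apply hkE
    have : k = (a : Matrix (Fin n) (Fin n) F) := by
      apply eq_of_mulVec
      intro v
      rw [← hκ, ha]
      rfl
    rw [this]
    exact a.2
  obtain ⟨v, hv⟩ : ∃ v, LinearIndependent ↥E ![v, κ v] := by
    by_contra h
    push Not at h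
    exact hns (LinearMap.exists_eq_smul_id_of_forall_notLinearIndependent h)
  have hv0 : v ≠ 0 := by
    have := hv.ne_zero 0
    simpa using this
  set w := κ v with hw
  have hwv : w ∉ Submodule.span ↥E {v} := by
    intro h
    obtain ⟨a, ha⟩ := Submodule.mem_span_singleton.mp h
    exact (LinearIndependent.pair_iff' hv0).mp hv a ha
  obtain ⟨φ₀, hφ₀, hle⟩ := Submodule.exists_le_ker_of_notMem hwv
  set φ : (Fin n → F) →ₗ[↥E] ↥E := (φ₀ w)⁻¹ • φ₀ with hφ
  have hφv : φ v = 0 := by
    have : φ₀ v = 0 := hle (Submodule.mem_span_singleton_self v)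
    rw [hφ, LinearMap.smul_apply, this, smul_zero]
  have hφw : φ w = 1 := by
    rw [hφ, LinearMap.smul_apply, smul_eq_mul, inv_mul_cancel₀ hφ₀]
  -- the conjugates
  let c : LinearMap.ker φ → Matrix (Fin n) (Fin n) F := fun u =>
    (tauGL φ u.1 (LinearMap.mem_ker.mp u.2) : Matrix (Fin n) (Fin n) F) * k *
      ((tauGL φ u.1 (LinearMap.mem_ker.mp u.2))⁻¹ : GL (Fin n) F).val
  have hc : ∀ u : LinearMap.ker φ, (c u).mulVec v = w + (u : Fin n → F) := by
    intro u
    show ((tauGL φ u.1 (LinearMap.mem_ker.mp u.2) : Matrix (Fin n) (Fin n) F) * k *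
      ((tauGL φ u.1 (LinearMap.mem_ker.mp u.2))⁻¹ : GL (Fin n) F).val).mulVec v = _
    have e1 : (mat E (tau φ (-(u : Fin n → F)))).mulVec v = v := by
      rw [mat_mulVec, tau_apply, hφv, zero_smul, add_zero]
    rw [tauGL_val, tauGL_inv_val, ← Matrix.mulVec_mulVec, ← Matrix.mulVec_mulVec, e1, ← hκ, ← hw,
      mat_mulVec, tau_apply, hφw, one_smul]
  by_contra hcon
  push Not at hcon
  have hmem : ∀ u : LinearMap.ker φ, c u ∈ S := by
    intro u
    exact hcon (tauGL φ u.1 (LinearMap.mem_ker.mp u.2)) (det_tauGL φ u.1 _)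
      (fun e he => mat_comm E _ e he)
  have hinj : Function.Injective (fun u : LinearMap.ker φ => (⟨c u, hmem u⟩ : S)) := by
    intro u u' h
    have h1 : c u = c u' := congrArg Subtype.val h
    have h2 := hc u
    rw [h1, hc u'] at h2
    exact Subtype.ext (add_left_cancel h2).symm
  haveI : Finite (Matrix (Fin n) (Fin n) F) := inferInstance
  have hle1 : Nat.card (LinearMap.ker φ) ≤ Nat.card S := Nat.card_le_card_of_injective _ hinj
  have hsurj : Function.Surjective φ := by
    intro a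
    exact ⟨a • w, by rw [map_smul, hφw, smul_eq_mul, mul_one]⟩
  have hcardV : Nat.card (Fin n → F) = Nat.card (LinearMap.ker φ) * Nat.card ↥E := by
    rw [Submodule.card_eq_card_quotient_mul_card (LinearMap.ker φ),
      Nat.card_congr (φ.quotKerEquivOfSurjective hsurj).toEquiv]
  have hV : Nat.card (Fin n → F) = Fintype.card F ^ n := by
    rw [Nat.card_eq_fintype_card, Fintype.card_fun, Fintype.card_fin]
  rw [← hV, hcardV] at hS
  have hEpos : 0 < Nat.card ↥E := Nat.card_pos
  nlinarith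

end transvection

end Cfsg.Agent.Lib.H13.FieldSub
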