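import Mathlib

/-!
# S3816 (Flavell's fixed point theorem, `P` of odd prime order): the translation layer (helper13)

From the frozen text (`x : MulAut H`, `eqLocus`, closures inside `H`) to an internal statement in
`Γ := H ⋊ ⟨x⟩`, `N := range inl`, `s := inr x`.
-/

set_option autoImplicit false

namespace Cfsg.Agent.Lib.H13.Flav

universe u

/-- the internal form of Flavell's theorem: `Γ = N⟨s⟩`, `s` of odd prime order `p`, `(|N|, p) = 1`;
a fixed point `z ∈ [N, s]` of `s` lies in the join of the `[y, s] ∩ C(s)`, `y ∈ N`. -/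
def InternalStmt : Prop :=
  ∀ (Γ : Type u) [Group Γ] [Finite Γ] (N : Subgroup Γ) [N.Normal] (s : Γ) (p : ℕ) [Fact p.Prime],
    p ≠ 2 → orderOf s = p → (∀ g : Γ, ∃ n ∈ N, ∃ k : ℕ, g = n * s ^ k) →
    (Nat.card N).Coprime p →
    ∀ z : Γ, z ∈ Subgroup.closure {c : Γ | ∃ y ∈ N, ∃ i : ℕ, c = y⁻¹ * (s ^ i * y * (s ^ i)⁻¹)} →
      z ∈ N → s * z = z * s →
      z ∈ ⨆ y : N, Subgroup.closure {c : Γ | ∃ i : ℕ, c = (y : Γ)⁻¹ * (s ^ i * (y : Γ) * (s ^ i)⁻¹)} ⊓
        Subgroup.centralizer ({s} : Set Γ)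

section

variable {H : Type u} [Group H] (x : MulAut H)

/-- the ambient group `H ⋊ ⟨x⟩` -/
abbrev Amb : Type u := H ⋊[(Subgroup.zpowers x).subtype] (Subgroup.zpowers x)

/-- the generator `x` inside the ambient group -/
def sElt : Amb x := SemidirectProduct.inr ⟨x, Subgroup.mem_zpowers x⟩

/-- `H` inside the ambient group -/
def inlH : H →* Amb x := SemidirectProduct.inl

theorem inlH_injective : Function.Injective (inlH x) := SemidirectProduct.inl_injective

theorem sElt_pow (i : ℕ) :
    (sElt x) ^ i = SemidirectProduct.inr (⟨x, Subgroup.mem_zpowers x⟩ ^ i) := by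
  unfold sElt
  rw [map_pow]

theorem conj_inl (i : ℕ) (h : H) :
    (sElt x) ^ i * inlH x h * ((sElt x) ^ i)⁻¹ = inlH x ((x ^ i) h) := by
  rw [sElt_pow]
  unfold inlH
  rw [← map_inv, ← SemidirectProduct.inl_aut]
  simp

theorem comm_inl (i : ℕ) (h : H) :
    (inlH x h)⁻¹ * ((sElt x) ^ i * inlH x h * ((sElt x) ^ i)⁻¹) = inlH x (h⁻¹ * (x ^ i) h) := by
  rw [conj_inl, map_mul, map_inv]

end

section main

variable {H : Type u} [Group H]

theorem zpowers_finite {G : Type*} [Group G] (x : G) (hx : 0 < orderOf x) :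
    Finite (Subgroup.zpowers x) := by
  apply Nat.finite_of_card_ne_zero
  rw [Nat.card_zpowers x]
  exact hx.ne'

theorem amb_finite [Finite H] (x : MulAut H) (hx : 0 < orderOf x) : Finite (Amb x) := by
  have : Finite (Subgroup.zpowers x) := zpowers_finite x hx
  exact Finite.of_equiv _ SemidirectProduct.equivProd.symm

theorem exists_pow_of_mem_zpowers {G : Type*} [Group G] (x : G) (hx : 0 < orderOf x) (y : G)
    (hy : y ∈ Subgroup.zpowers x) : ∃ k : ℕ, x ^ k = y := by
  have h : IsOfFinOrder x := orderOf_pos_iff.1 hx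
  have h2 := h.mem_powers_iff_mem_zpowers.2 hy
  exact (Submonoid.mem_powers_iff _ _).1 h2

/-- `s z = z s` for `z = inl w` iff `x w = w` -/
theorem comm_iff (x : MulAut H) (w : H) :
    sElt x * inlH x w = inlH x w * sElt x ↔ x w = w := by
  have h := conj_inl x 1 w
  rw [pow_one, pow_one] at h
  constructor
  · intro hc
    apply inlH_injective x
    rw [← h, hc, mul_inv_cancel_right]
  · intro hw
    rw [hw] at h
    calc sElt x * inlH x w = (sElt x * inlH x w * (sElt x)⁻¹) * sElt x := by group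
      _ = inlH x w * sElt x := by rw [h]

/-- **the translation**: the internal statement gives the frozen S3816 text. -/
theorem s3816_of_internal (hint : InternalStmt.{u}) [Finite H]
    {p : ℕ} [Fact p.Prime] (hp : p ≠ 2) (hcop : (Nat.card H).Coprime p)
    (x : MulAut H) (hx : orderOf x = p) :
    Subgroup.closure {c : H | ∃ h : H, ∃ i : ℕ, c = h⁻¹ * (x ^ i) h} ⊓
        (x : H →* H).eqLocus (MonoidHom.id H) =
      ⨆ h : H, Subgroup.closure {c : H | ∃ i : ℕ, c = h⁻¹ * (x ^ i) h} ⊓
        (x : H →* H).eqLocus (MonoidHom.id H) := by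
  have hpp : p.Prime := Fact.out
  have hx0 : 0 < orderOf x := by
    rw [hx]
    exact hpp.pos
  apply le_antisymm
  · intro z hz
    obtain ⟨hzW, hzC⟩ := Subgroup.mem_inf.1 hz
    have hzfix : x z = z := hzC
    have : Finite (Amb x) := amb_finite x hx0
    have hNn : ((inlH x).range).Normal := by
      have h : (inlH x).range = (SemidirectProduct.rightHom :
          Amb x →* Subgroup.zpowers x).ker := SemidirectProduct.range_inl_eq_ker_rightHom
      rw [h]
      infer_instance
    -- the hypotheses of the internal statement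
    have hs : orderOf (sElt x) = p := by
      unfold sElt
      rw [orderOf_injective _ SemidirectProduct.inr_injective, Subgroup.orderOf_mk, hx]
    have hgen : ∀ g : Amb x, ∃ n ∈ (inlH x).range, ∃ k : ℕ, g = n * (sElt x) ^ k := by
      intro g
      obtain ⟨k, hk⟩ := exists_pow_of_mem_zpowers x hx0 (g.right : MulAut H) g.right.2
      refine ⟨inlH x g.left, ⟨g.left, rfl⟩, k, ?_⟩
      rw [sElt_pow]
      have h2 : (⟨x, Subgroup.mem_zpowers x⟩ : Subgroup.zpowers x) ^ k = g.right := by
        apply Subtype.ext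
        rw [Subgroup.coe_pow]
        exact hk
      rw [h2]
      exact (SemidirectProduct.inl_left_mul_inr_right g).symm
    have hcard : (Nat.card ↥((inlH x).range)).Coprime p := by
      have h : Nat.card ↥((inlH x).range) = Nat.card H :=
        Nat.card_congr (Equiv.ofInjective (inlH x) (inlH_injective x)).symm
      rw [h]
      exact hcop
    have hzW' : inlH x z ∈ Subgroup.closure {c : Amb x | ∃ y ∈ (inlH x).range, ∃ i : ℕ,
        c = y⁻¹ * ((sElt x) ^ i * y * ((sElt x) ^ i)⁻¹)} := by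
      have h1 : inlH x z ∈ Subgroup.map (inlH x)
          (Subgroup.closure {c : H | ∃ h : H, ∃ i : ℕ, c = h⁻¹ * (x ^ i) h}) :=
        Subgroup.mem_map_of_mem _ hzW
      rw [MonoidHom.map_closure] at h1
      refine Subgroup.closure_mono ?_ h1
      rintro _ ⟨c, ⟨h, i, rfl⟩, rfl⟩
      exact ⟨inlH x h, ⟨h, rfl⟩, i, (comm_inl x i h).symm⟩
    have hzN : inlH x z ∈ (inlH x).range := ⟨z, rfl⟩
    have hzs : sElt x * inlH x z = inlH x z * sElt x := (comm_iff x z).2 hzfix
    have hmain := hint (Amb x) (inlH x).range (sElt x) p hp hs hgen hcard (inlH x z) hzW' hzN hzs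
    -- pull the conclusion back to `H`
    have hle : (⨆ y : ↥((inlH x).range), Subgroup.closure {c : Amb x | ∃ i : ℕ,
        c = (y : Amb x)⁻¹ * ((sElt x) ^ i * (y : Amb x) * ((sElt x) ^ i)⁻¹)} ⊓
          Subgroup.centralizer ({sElt x} : Set (Amb x))) ≤
        Subgroup.map (inlH x) (⨆ h : H, Subgroup.closure {c : H | ∃ i : ℕ, c = h⁻¹ * (x ^ i) h} ⊓
          (x : H →* H).eqLocus (MonoidHom.id H)) := by
      apply iSup_le
      rintro ⟨y, h, rfl⟩
      have hcl : Subgroup.closure {c : Amb x | ∃ i : ℕ,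
          c = (inlH x h)⁻¹ * ((sElt x) ^ i * (inlH x h) * ((sElt x) ^ i)⁻¹)} =
          Subgroup.map (inlH x) (Subgroup.closure {c : H | ∃ i : ℕ, c = h⁻¹ * (x ^ i) h}) := by
        rw [MonoidHom.map_closure]
        congr 1
        ext c
        constructor
        · rintro ⟨i, rfl⟩
          exact ⟨h⁻¹ * (x ^ i) h, ⟨i, rfl⟩, (comm_inl x i h).symm⟩
        · rintro ⟨c, ⟨i, rfl⟩, rfl⟩
          exact ⟨i, (comm_inl x i h).symm⟩
      intro g hg
      obtain ⟨hg1, hg2⟩ := Subgroup.mem_inf.1 hg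
      change g ∈ Subgroup.closure {c : Amb x | ∃ i : ℕ,
          c = (inlH x h)⁻¹ * ((sElt x) ^ i * (inlH x h) * ((sElt x) ^ i)⁻¹)} at hg1
      rw [hcl] at hg1
      obtain ⟨k, hk, rfl⟩ := Subgroup.mem_map.1 hg1
      have hkfix : x k = k := by
        rw [Subgroup.mem_centralizer_singleton_iff] at hg2
        exact (comm_iff x k).1 hg2.symm
      refine Subgroup.mem_map_of_mem _ ?_
      have hk2 : k ∈ Subgroup.closure {c : H | ∃ i : ℕ, c = h⁻¹ * (x ^ i) h} ⊓
          (x : H →* H).eqLocus (MonoidHom.id H) := Subgroup.mem_inf.2 ⟨hk, hkfix⟩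
      exact (le_iSup (fun h : H => Subgroup.closure {c : H | ∃ i : ℕ, c = h⁻¹ * (x ^ i) h} ⊓
          (x : H →* H).eqLocus (MonoidHom.id H)) h) hk2
    obtain ⟨w, hw, hwz⟩ := Subgroup.mem_map.1 (hle hmain)
    rw [← inlH_injective x hwz]
    exact hw
  · apply iSup_le
    intro h
    apply inf_le_inf_right
    apply Subgroup.closure_mono
    rintro c ⟨i, rfl⟩
    exact ⟨h, i, rfl⟩

end main

end Cfsg.Agent.Lib.H13.Flav
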