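import Mathlib
import Cfsg.Agent.Lib.H14.FumDefs
import Cfsg.Agent.Lib.H7.CoprimeGen

/-!
# S4330, piece P3 (helper13): hyperplane decomposition for an elementary abelian group of
automorphisms `B` of a finite abelian group `V` of order prime to `p`, without fixed points.

Relative versions (for a `B`-invariant subgroup `W` of `V`) are proved first; they are used in P4.
-/

set_option autoImplicit false

namespace Cfsg.Agent.Lib.H13.Fum

open Cfsg.Agent.Lib.H14.Fum

universe u

variable {V : Type u} [CommGroup V]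

/-- The stabilizer of a point `v`, a subgroup of `MulAut V`. -/
def stabPt (v : V) : Subgroup (MulAut V) where
  carrier := {g | g v = v}
  one_mem' := rfl
  mul_mem' := fun {a b} ha hb => by
    show (a * b) v = v
    rw [MulAut.mul_apply, hb, ha]
  inv_mem' := fun {a} ha => by
    show a⁻¹ v = v
    have h1 : a⁻¹ (a v) = v := MulAut.inv_apply_self V a v
    rw [ha] at h1
    exact h1

theorem mem_stabPt {v : V} {g : MulAut V} : g ∈ stabPt v ↔ g v = v := Iff.rfl

theorem fixedPts_sup (A C : Subgroup (MulAut V)) :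
    fixedPts (A ⊔ C) = fixedPts A ⊓ fixedPts C := by
  apply le_antisymm
  · exact le_inf (fixedPts_anti le_sup_left) (fixedPts_anti le_sup_right)
  · intro v hv b hb
    have h1 : A ⊔ C ≤ stabPt v := sup_le (fun a ha => hv.1 a ha) (fun c hc => hv.2 c hc)
    exact h1 hb

theorem mem_fixedPts_zpowers {γ : MulAut V} {v : V} :
    v ∈ fixedPts (Subgroup.zpowers γ) ↔ γ v = v := by
  constructor
  · intro h
    exact h γ (Subgroup.mem_zpowers γ)
  · intro h b hb
    have h1 : Subgroup.zpowers γ ≤ stabPt v := by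
      rw [Subgroup.zpowers_le]
      exact h
    exact h1 hb

/-- `W` is invariant under `B`. -/
def InvSub (B : Subgroup (MulAut V)) (W : Subgroup V) : Prop := ∀ b ∈ B, ∀ w ∈ W, b w ∈ W

theorem invSub_fixedPts {B K : Subgroup (MulAut V)}
    (hBab : ∀ x ∈ B, ∀ y ∈ B, x * y = y * x) (hK : K ≤ B) : InvSub B (fixedPts K) := by
  intro b hb w hw k hk
  have h1 : k (b w) = (k * b) w := rfl
  have h2 : (b * k) w = b (k w) := rfl
  rw [h1, hBab k (hK hk) b hb, h2, hw k hk]

theorem invSub_inf {B : Subgroup (MulAut V)} {W W' : Subgroup V} (h : InvSub B W)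
    (h' : InvSub B W') : InvSub B (W ⊓ W') :=
  fun b hb w hw => ⟨h b hb w hw.1, h' b hb w hw.2⟩

/-- The trace of `v` along a finite subgroup `D`. -/
noncomputable def trSub (D : Subgroup (MulAut V)) [Fintype D] (v : V) : V :=
  ∏ d : D, (d : MulAut V) v

theorem trSub_mul (D : Subgroup (MulAut V)) [Fintype D] (v w : V) :
    trSub D (v * w) = trSub D v * trSub D w := by
  unfold trSub
  rw [← Finset.prod_mul_distrib]
  apply Finset.prod_congr rfl
  intro d _
  exact map_mul _ _ _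

theorem trSub_one (D : Subgroup (MulAut V)) [Fintype D] : trSub D (1 : V) = 1 := by
  unfold trSub
  apply Finset.prod_eq_one
  intro d _
  exact map_one _

theorem trSub_prod (D : Subgroup (MulAut V)) [Fintype D] {ι : Type*} (s : Finset ι) (u : ι → V) :
    trSub D (∏ i ∈ s, u i) = ∏ i ∈ s, trSub D (u i) := by
  classical
  induction s using Finset.induction_on with
  | empty => simp [trSub_one]
  | insert a s ha ih => rw [Finset.prod_insert ha, Finset.prod_insert ha, trSub_mul, ih]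

theorem trSub_mem_fixedPts (D : Subgroup (MulAut V)) [Fintype D] (v : V) :
    trSub D v ∈ fixedPts D := by
  intro b hb
  unfold trSub
  rw [map_prod]
  exact Fintype.prod_equiv (Equiv.mulLeft (⟨b, hb⟩ : D)) _ _ (fun x => rfl)

theorem trSub_of_mem_fixedPts (D : Subgroup (MulAut V)) [Fintype D] {v : V}
    (hv : v ∈ fixedPts D) : trSub D v = v ^ Nat.card D := by
  unfold trSub
  have h1 : ∀ d ∈ (Finset.univ : Finset D), ((d : D) : MulAut V) v = v := fun d _ => hv d.1 d.2
  rw [Finset.prod_congr rfl h1, Finset.prod_const, Finset.card_univ, Nat.card_eq_fintype_card]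

theorem trSub_mem_of_invSub {B D : Subgroup (MulAut V)} [Fintype D] (hDB : D ≤ B)
    {W : Subgroup V} (hW : InvSub B W) {v : V} (hv : v ∈ W) : trSub D v ∈ W := by
  unfold trSub
  apply Subgroup.prod_mem
  intro d _
  exact hW d (hDB d.2) v hv

/-- the trace over `D` of a point fixed by `C` is fixed by `C`, when `C` and `D` commute -/
theorem trSub_mem_fixedPts_of_commute (C D : Subgroup (MulAut V)) [Fintype D]
    (hCD : ∀ c ∈ C, ∀ d ∈ D, c * d = d * c) {v : V} (hv : v ∈ fixedPts C) :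
    trSub D v ∈ fixedPts C := by
  intro c hc
  unfold trSub
  rw [map_prod]
  apply Finset.prod_congr rfl
  intro d _
  have h1 : c ((d : MulAut V) v) = (c * d) v := rfl
  have h2 : ((d : MulAut V) * c) v = (d : MulAut V) (c v) := rfl
  rw [h1, hCD c hc d d.2, h2, hv c hc]

section Finite

variable [Finite V] {p : ℕ} [Fact p.Prime]

theorem eq_one_of_pow_card_eq_one (hcop : (Nat.card V).Coprime p) {D : Subgroup (MulAut V)}
    (hD : ∀ x ∈ D, x ^ p = 1) {v : V} (hv : v ^ Nat.card D = 1) : v = 1 := by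
  have hDp : IsPGroup p D := by
    intro x
    refine ⟨1, ?_⟩
    apply Subtype.ext
    rw [pow_one]
    exact hD x x.2
  obtain ⟨n, hn⟩ := IsPGroup.iff_card.mp hDp
  rw [hn] at hv
  have h1 : orderOf v ∣ p ^ n := orderOf_dvd_of_pow_eq_one hv
  have h2 : orderOf v ∣ Nat.card V := orderOf_dvd_natCard v
  have h3 : (orderOf v).Coprime (p ^ n) :=
    Nat.Coprime.coprime_dvd_left h2 (Nat.Coprime.pow_right n hcop)
  have h4 : orderOf v = 1 := Nat.eq_one_of_dvd_coprimes h3 dvd_rfl h1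
  exact orderOf_eq_one_iff.mp h4

/-- two distinct hyperplanes of `B` generate `B` -/
theorem sup_eq_of_hyperplanes {B D D₀ : Subgroup (MulAut V)} (hD : D ≤ B ∧ D.relIndex B = p)
    (hD₀ : D₀ ≤ B ∧ D₀.relIndex B = p) (hne : D ≠ D₀) : D ⊔ D₀ = B := by
  have hp : p.Prime := Fact.out
  have hX : D ⊔ D₀ ≤ B := sup_le hD.1 hD₀.1
  have h1 := Subgroup.relIndex_mul_relIndex D (D ⊔ D₀) B le_sup_left hX
  rw [hD.2] at h1
  have h2 : D.relIndex (D ⊔ D₀) ∣ p := Dvd.intro _ h1
  rcases (Nat.dvd_prime hp).mp h2 with h3 | h3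
  · exfalso
    have h4 : D ⊔ D₀ ≤ D := Subgroup.relIndex_eq_one.mp h3
    have h5 : D₀ ≤ D := le_trans le_sup_right h4
    have c1 := Cfsg.Agent.Lib.H7.card_mul_relIndex_of_le hD.1
    have c2 := Cfsg.Agent.Lib.H7.card_mul_relIndex_of_le hD₀.1
    rw [hD.2] at c1
    rw [hD₀.2] at c2
    have h6 : Nat.card D = Nat.card D₀ := by
      have : Nat.card D * p = Nat.card D₀ * p := by rw [c1, c2]
      exact Nat.eq_of_mul_eq_mul_right hp.pos this
    exact hne (Subgroup.eq_of_le_of_card_ge h5 h6.le).symm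
  · rw [h3] at h1
    have h4 : (D ⊔ D₀).relIndex B = 1 := by
      have : p * (D ⊔ D₀).relIndex B = p * 1 := by rw [h1, mul_one]
      exact Nat.eq_of_mul_eq_mul_left hp.pos this
    exact le_antisymm hX (Subgroup.relIndex_eq_one.mp h4)

/-- **P3, independence (relative form).** -/
theorem fixedPts_hyperplane_indep_rel (hcop : (Nat.card V).Coprime p) (B : Subgroup (MulAut V))
    (hBab : ∀ x ∈ B, ∀ y ∈ B, x * y = y * x) (hBexp : ∀ x ∈ B, x ^ p = 1)
    (W : Subgroup V) (hW : InvSub B W) (hfix : W ⊓ fixedPts B = ⊥)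
    (s : Finset (Subgroup (MulAut V)))
    (hs : ∀ D ∈ s, D ≤ B ∧ D.relIndex B = p) (u : Subgroup (MulAut V) → V)
    (hu : ∀ D ∈ s, u D ∈ W ⊓ fixedPts D) (hprod : ∏ D ∈ s, u D = 1) : ∀ D ∈ s, u D = 1 := by
  intro D₀ hD₀
  haveI : Fintype D₀ := Fintype.ofFinite D₀
  have h1 : trSub D₀ (∏ D ∈ s, u D) = 1 := by rw [hprod, trSub_one]
  rw [trSub_prod] at h1
  have h2 : ∀ D ∈ s, D ≠ D₀ → trSub D₀ (u D) = 1 := by
    intro D hD hne
    have h3 : trSub D₀ (u D) ∈ W := trSub_mem_of_invSub (hs D₀ hD₀).1 hW (hu D hD).1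
    have h4 : trSub D₀ (u D) ∈ fixedPts D₀ := trSub_mem_fixedPts D₀ _
    have h5 : trSub D₀ (u D) ∈ fixedPts D :=
      trSub_mem_fixedPts_of_commute D D₀
        (fun c hc d hd => hBab c ((hs D hD).1 hc) d ((hs D₀ hD₀).1 hd)) (hu D hD).2
    have h6 : trSub D₀ (u D) ∈ W ⊓ fixedPts B := by
      refine ⟨h3, ?_⟩
      rw [← sup_eq_of_hyperplanes (hs D hD) (hs D₀ hD₀) hne, fixedPts_sup]
      exact ⟨h5, h4⟩
    rw [hfix] at h6
    exact h6
  rw [Finset.prod_eq_single_of_mem D₀ hD₀ h2, trSub_of_mem_fixedPts D₀ (hu D₀ hD₀).2] at h1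
  exact eq_one_of_pow_card_eq_one hcop (fun x hx => hBexp x ((hs D₀ hD₀).1 hx)) h1

/-- **P3, independence.** -/
theorem fixedPts_hyperplane_indep (hcop : (Nat.card V).Coprime p) (B : Subgroup (MulAut V))
    (hBab : ∀ x ∈ B, ∀ y ∈ B, x * y = y * x) (hBexp : ∀ x ∈ B, x ^ p = 1)
    (hfix : fixedPts B = ⊥) (s : Finset (Subgroup (MulAut V)))
    (hs : ∀ D ∈ s, D ≤ B ∧ D.relIndex B = p) (u : Subgroup (MulAut V) → V)
    (hu : ∀ D ∈ s, u D ∈ fixedPts D) (hprod : ∏ D ∈ s, u D = 1) : ∀ D ∈ s, u D = 1 := by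
  apply fixedPts_hyperplane_indep_rel hcop B hBab hBexp ⊤ (fun _ _ _ _ => Subgroup.mem_top _)
    (by rw [top_inf_eq, hfix]) s hs u (fun D hD => ⟨Subgroup.mem_top _, hu D hD⟩) hprod

/-- `MulAut V` acts through `Monoid.End V`. -/
def toEnd : MulAut V →* Monoid.End V where
  toFun g := g.toMonoidHom
  map_one' := rfl
  map_mul' := fun _ _ => rfl

omit [Finite V] [Fact p.Prime] in
theorem toEnd_pow_apply (γ : MulAut V) (n : ℕ) (v : V) : ((toEnd γ) ^ n) v = (γ ^ n) v := by
  rw [← map_pow]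
  rfl

omit [Finite V] in
/-- the cyclic trace of a point of an invariant subgroup `W` fixed by `K` lies in `W` and is fixed by
`K` and by `γ` -/
theorem cycTrace_mem {B K : Subgroup (MulAut V)} (hBab : ∀ x ∈ B, ∀ y ∈ B, x * y = y * x)
    (hBexp : ∀ x ∈ B, x ^ p = 1) (hK : K ≤ B) {W : Subgroup V} (hW : InvSub B W) {γ : MulAut V}
    (hγ : γ ∈ B) {w : V} (hw : w ∈ W ⊓ fixedPts K) :
    Cfsg.Agent.Lib.H7.cycTrace p (toEnd γ) w ∈ W ⊓ fixedPts (K ⊔ Subgroup.zpowers γ) := by
  have hγp : (toEnd γ) ^ p = 1 := by rw [← map_pow, hBexp γ hγ, map_one]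
  refine ⟨?_, ?_⟩
  · unfold Cfsg.Agent.Lib.H7.cycTrace
    apply Subgroup.prod_mem
    intro x _
    rw [toEnd_pow_apply]
    exact hW _ (B.pow_mem hγ _) w hw.1
  · rw [fixedPts_sup]
    refine ⟨?_, ?_⟩
    · intro k hk
      unfold Cfsg.Agent.Lib.H7.cycTrace
      rw [map_prod]
      apply Finset.prod_congr rfl
      intro x _
      rw [toEnd_pow_apply]
      have h1 : k ((γ ^ x.val) w) = (k * γ ^ x.val) w := rfl
      have h2 : (γ ^ x.val * k) w = (γ ^ x.val) (k w) := rfl
      rw [h1, hBab k (hK hk) _ (B.pow_mem hγ _), h2, hw.2 k hk]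
    · exact mem_fixedPts_zpowers.mpr (Cfsg.Agent.Lib.H7.cycTrace_fixed p hγp w)

/-- if `K ⊔ ⟨α⟩ = B` with `α ∉ K`, then `K` is a hyperplane of `B` -/
theorem relIndex_eq_of_sup_zpowers {B K : Subgroup (MulAut V)}
    (hBab : ∀ x ∈ B, ∀ y ∈ B, x * y = y * x) (hBexp : ∀ x ∈ B, x ^ p = 1) (hK : K ≤ B)
    {α : MulAut V} (hα : α ∈ B) (hαK : α ∉ K) (hsup : K ⊔ Subgroup.zpowers α = B) :
    K.relIndex B = p := by
  have hp : p.Prime := Fact.out
  -- the map `(k, i) ↦ k * α ^ i`
  let f : K × ZMod p → B := fun x =>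
    ⟨(x.1 : MulAut V) * α ^ x.2.val, B.mul_mem (hK x.1.2) (B.pow_mem hα _)⟩
  have hαp : α ^ p = 1 := hBexp α hα
  have hcomm : ∀ k ∈ K, ∀ n : ℕ, α ^ n * k = k * α ^ n :=
    fun k hk n => hBab _ (B.pow_mem hα n) k (hK hk)
  -- the set of products is a subgroup
  let T : Subgroup (MulAut V) :=
    { carrier := {b | ∃ k ∈ K, ∃ i : ZMod p, b = k * α ^ i.val}
      one_mem' := ⟨1, K.one_mem, 0, by simp⟩
      mul_mem' := by
        rintro _ _ ⟨k, hk, i, rfl⟩ ⟨k', hk', j, rfl⟩
        refine ⟨k * k', K.mul_mem hk hk', i + j, ?_⟩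
        rw [Cfsg.Agent.Lib.H7.pow_val_add p hαp]
        calc k * α ^ i.val * (k' * α ^ j.val) = k * (α ^ i.val * k') * α ^ j.val := by group
          _ = k * (k' * α ^ i.val) * α ^ j.val := by rw [hcomm k' hk']
          _ = k * k' * (α ^ i.val * α ^ j.val) := by group
      inv_mem' := by
        rintro _ ⟨k, hk, i, rfl⟩
        refine ⟨k⁻¹, K.inv_mem hk, -i, ?_⟩
        have h1 : α ^ i.val * α ^ (-i).val = 1 := by
          rw [← Cfsg.Agent.Lib.H7.pow_val_add p hαp, add_neg_cancel, ZMod.val_zero, pow_zero]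
        have h2 : (α ^ i.val)⁻¹ = α ^ (-i).val := inv_eq_of_mul_eq_one_right h1
        rw [mul_inv_rev, h2, hcomm k⁻¹ (K.inv_mem hk)] }
  have hBT : B ≤ T := by
    rw [← hsup]
    apply sup_le
    · intro k hk
      exact ⟨k, hk, 0, by simp⟩
    · rw [Subgroup.zpowers_le]
      refine ⟨1, K.one_mem, 1, ?_⟩
      rw [ZMod.val_one, pow_one, one_mul]
  have hsurj : Function.Surjective f := by
    intro b
    obtain ⟨k, hk, i, hb⟩ := hBT b.2
    exact ⟨(⟨k, hk⟩, i), Subtype.ext hb.symm⟩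
  have hinj : Function.Injective f := by
    rintro ⟨k, i⟩ ⟨k', j⟩ h
    have h1 : (k : MulAut V) * α ^ i.val = (k' : MulAut V) * α ^ j.val := congrArg Subtype.val h
    -- `α ^ (i - j) ∈ K`
    have h2 : α ^ (i - j).val ∈ K := by
      have h3 : α ^ (i - j).val * α ^ j.val = α ^ i.val := by
        rw [← Cfsg.Agent.Lib.H7.pow_val_add p hαp, sub_add_cancel]
      have h4 : α ^ (i - j).val = (k : MulAut V)⁻¹ * k' := by
        have : α ^ (i - j).val = α ^ i.val * (α ^ j.val)⁻¹ := by rw [← h3]; group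
        rw [this]
        have h5 : α ^ i.val = (k : MulAut V)⁻¹ * (k' * α ^ j.val) := by rw [← h1]; group
        rw [h5]; group
      rw [h4]
      exact K.mul_mem (K.inv_mem k.2) k'.2
    have hij : i = j := by
      by_contra hne
      have h6 : (i - j).val ≠ 0 := by
        rw [Ne, ZMod.val_eq_zero, sub_eq_zero]
        exact hne
      have h7 : (i - j).val < p := ZMod.val_lt _
      have hcop : ((i - j).val).Coprime (orderOf α) := by
        have hdvd : orderOf α ∣ p := orderOf_dvd_of_pow_eq_one hαp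
        apply Nat.Coprime.coprime_dvd_right hdvd
        apply Nat.Coprime.symm
        rw [hp.coprime_iff_not_dvd]
        intro hd
        exact h6 (Nat.eq_zero_of_dvd_of_lt hd h7)
      obtain ⟨m, hm⟩ := exists_pow_eq_self_of_coprime hcop
      apply hαK
      rw [← hm]
      exact K.pow_mem h2 m
    subst hij
    have h8 : (k : MulAut V) = k' := mul_right_cancel h1
    rw [Prod.mk.injEq]
    exact ⟨Subtype.ext h8, rfl⟩
  have hcard : Nat.card B = Nat.card K * p := by
    rw [← Nat.card_congr (Equiv.ofBijective f ⟨hinj, hsurj⟩), Nat.card_prod, Nat.card_zmod]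
  have h9 := Cfsg.Agent.Lib.H7.card_mul_relIndex_of_le hK
  rw [hcard] at h9
  exact Nat.eq_of_mul_eq_mul_left Nat.card_pos h9

theorem mem_of_pow_mem (hcop : (Nat.card V).Coprime p) (U : Subgroup V) {w : V}
    (h : w ^ p ∈ U) : w ∈ U := by
  have h1 : w = (w ^ p) ^ ((Nat.card V).gcdB p) := ((powCoprime hcop).symm_apply_apply w).symm
  rw [h1]
  exact U.zpow_mem h _

/-- if `α ∉ K` and `β ∉ K ⊔ ⟨α⟩` then `α β ^ n ∉ K` -/
theorem mul_pow_notMem {B K : Subgroup (MulAut V)} (hBexp : ∀ x ∈ B, x ^ p = 1)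
    {α β : MulAut V} (hβ : β ∈ B) (hαK : α ∉ K)
    (hβK : β ∉ K ⊔ Subgroup.zpowers α) (j : ZMod p) : α * β ^ j.val ∉ K := by
  have hp : p.Prime := Fact.out
  intro h
  by_cases hj : j.val = 0
  · rw [hj, pow_zero, mul_one] at h
    exact hαK h
  · have h1 : β ^ j.val ∈ K ⊔ Subgroup.zpowers α := by
      have : β ^ j.val = α⁻¹ * (α * β ^ j.val) := by group
      rw [this]
      exact Subgroup.mul_mem _
        (Subgroup.mem_sup_right (Subgroup.inv_mem _ (Subgroup.mem_zpowers α)))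
        (Subgroup.mem_sup_left h)
    have hcop : (j.val).Coprime (orderOf β) := by
      have hdvd : orderOf β ∣ p := orderOf_dvd_of_pow_eq_one (hBexp β hβ)
      apply Nat.Coprime.coprime_dvd_right hdvd
      apply Nat.Coprime.symm
      rw [hp.coprime_iff_not_dvd]
      intro hd
      exact hj (Nat.eq_zero_of_dvd_of_lt hd (ZMod.val_lt _))
    obtain ⟨m, hm⟩ := exists_pow_eq_self_of_coprime hcop
    apply hβK
    rw [← hm]
    exact Subgroup.pow_mem _ h1 m

/-- **P3, generation (relative form).** -/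
theorem iSup_fixedPts_hyperplane_rel (hcop : (Nat.card V).Coprime p) (B : Subgroup (MulAut V))
    (hBab : ∀ x ∈ B, ∀ y ∈ B, x * y = y * x) (hBexp : ∀ x ∈ B, x ^ p = 1)
    (W : Subgroup V) (hW : InvSub B W) (hfix : W ⊓ fixedPts B = ⊥) :
    W ≤ ⨆ D : {D : Subgroup (MulAut V) // D ≤ B ∧ D.relIndex B = p}, W ⊓ fixedPts D.1 := by
  set U : Subgroup V :=
    ⨆ D : {D : Subgroup (MulAut V) // D ≤ B ∧ D.relIndex B = p}, W ⊓ fixedPts D.1 with hU
  have aux : ∀ (m : ℕ) (K : Subgroup (MulAut V)), K ≤ B → Nat.card B - Nat.card K = m →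
      W ⊓ fixedPts K ≤ U := by
    intro m
    induction m using Nat.strong_induction_on with
    | _ m ih =>
      intro K hK hm
      by_cases hKB : K = B
      · rw [hKB, hfix]
        exact bot_le
      have hlt : K < B := lt_of_le_of_ne hK hKB
      obtain ⟨α, hα, hαK⟩ := SetLike.exists_of_lt hlt
      -- the inductive hypothesis for `K ⊔ ⟨γ⟩`
      have ih' : ∀ γ ∈ B, γ ∉ K → W ⊓ fixedPts (K ⊔ Subgroup.zpowers γ) ≤ U := by
        intro γ hγ hγK
        have hK' : K ⊔ Subgroup.zpowers γ ≤ B := sup_le hK (by rw [Subgroup.zpowers_le]; exact hγ)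
        have h1 : Nat.card K < Nat.card (K ⊔ Subgroup.zpowers γ : Subgroup (MulAut V)) :=
          Cfsg.Agent.Lib.H7.card_lt_card_of_le_of_mem_of_notMem le_sup_left
            (Subgroup.mem_sup_right (Subgroup.mem_zpowers γ)) hγK
        have h2 : Nat.card (K ⊔ Subgroup.zpowers γ : Subgroup (MulAut V)) ≤ Nat.card B :=
          Subgroup.card_le_of_le hK'
        exact ih _ (by omega) _ hK' rfl
      by_cases h1 : K ⊔ Subgroup.zpowers α = B
      · have h2 : K.relIndex B = p := relIndex_eq_of_sup_zpowers hBab hBexp hK hα hαK h1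
        exact le_iSup (fun D : {D : Subgroup (MulAut V) // D ≤ B ∧ D.relIndex B = p} =>
          W ⊓ fixedPts D.1) ⟨K, hK, h2⟩
      have hK1 : K ⊔ Subgroup.zpowers α ≤ B := sup_le hK (by rw [Subgroup.zpowers_le]; exact hα)
      obtain ⟨β, hβ, hβK⟩ := SetLike.exists_of_lt (lt_of_le_of_ne hK1 h1)
      have hβK' : β ∉ K := fun h => hβK (Subgroup.mem_sup_left h)
      intro w hw
      have hαβ : toEnd α * toEnd β = toEnd β * toEnd α := by
        rw [← map_mul, ← map_mul, hBab α hα β hβ]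
      have hβp : (toEnd β) ^ p = 1 := by rw [← map_pow, hBexp β hβ, map_one]
      obtain ⟨h, hβh, hform⟩ := Cfsg.Agent.Lib.H7.rank2_formula p (toEnd α) (toEnd β) hαβ hβp w
      -- the traces lie in `U`
      have hT : ∀ j : ZMod p,
          Cfsg.Agent.Lib.H7.cycTrace p (toEnd α * toEnd β ^ j.val) w ∈
            W ⊓ fixedPts (K ⊔ Subgroup.zpowers (α * β ^ j.val)) := by
        intro j
        have : toEnd α * toEnd β ^ j.val = toEnd (α * β ^ j.val) := by rw [map_mul, map_pow]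
        rw [this]
        exact cycTrace_mem hBab hBexp hK hW (B.mul_mem hα (B.pow_mem hβ _)) hw
      have hTβ := cycTrace_mem (p := p) hBab hBexp hK hW hβ hw
      have hTU : ∀ j : ZMod p,
          Cfsg.Agent.Lib.H7.cycTrace p (toEnd α * toEnd β ^ j.val) w ∈ U := fun j =>
        ih' _ (B.mul_mem hα (B.pow_mem hβ _)) (mul_pow_notMem hBexp hβ hαK hβK j) (hT j)
      have hTβU : Cfsg.Agent.Lib.H7.cycTrace p (toEnd β) w ∈ U := ih' β hβ hβK' hTβ
      -- the product of the traces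
      set Pi0 : V := (∏ j : ZMod p, Cfsg.Agent.Lib.H7.cycTrace p (toEnd α * toEnd β ^ j.val) w) *
        Cfsg.Agent.Lib.H7.cycTrace p (toEnd β) w with hPi
      have hPiU : Pi0 ∈ U := U.mul_mem (Subgroup.prod_mem _ (fun j _ => hTU j)) hTβU
      have hPiK : Pi0 ∈ W ⊓ fixedPts K := by
        apply Subgroup.mul_mem
        · apply Subgroup.prod_mem
          intro j _
          exact ⟨(hT j).1, fixedPts_anti le_sup_left (hT j).2⟩
        · exact ⟨hTβ.1, fixedPts_anti le_sup_left hTβ.2⟩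
      have hh : h = (w ^ p)⁻¹ * Pi0 := by rw [← hform]; group
      have hhK : h ∈ W ⊓ fixedPts K := by
        rw [hh]
        exact Subgroup.mul_mem _ (Subgroup.inv_mem _ (Subgroup.pow_mem _ hw p)) hPiK
      have hhU : h ∈ U := by
        apply ih' β hβ hβK'
        refine ⟨hhK.1, ?_⟩
        rw [fixedPts_sup]
        exact ⟨hhK.2, mem_fixedPts_zpowers.mpr hβh⟩
      have hwp : w ^ p ∈ U := by
        have : w ^ p = Pi0 * h⁻¹ := by rw [← hform]; group
        rw [this]
        exact U.mul_mem hPiU (U.inv_mem hhU)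
      exact mem_of_pow_mem hcop U hwp
  have h0 := aux _ ⊥ bot_le rfl
  have h1 : W ⊓ fixedPts (⊥ : Subgroup (MulAut V)) = W := by
    apply inf_eq_left.mpr
    intro w _ b hb
    rw [Subgroup.mem_bot] at hb
    rw [hb]
    rfl
  rw [h1] at h0
  exact h0

/-- **P3, generation.** -/
theorem iSup_fixedPts_hyperplane (hcop : (Nat.card V).Coprime p) (B : Subgroup (MulAut V))
    (hBab : ∀ x ∈ B, ∀ y ∈ B, x * y = y * x) (hBexp : ∀ x ∈ B, x ^ p = 1)
    (hfix : fixedPts B = ⊥) :
    ⨆ D : {D : Subgroup (MulAut V) // D ≤ B ∧ D.relIndex B = p}, fixedPts D.1 = ⊤ := by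
  have h := iSup_fixedPts_hyperplane_rel hcop B hBab hBexp ⊤
    (fun _ _ _ _ => Subgroup.mem_top _) (by rw [top_inf_eq, hfix])
  simp only [top_inf_eq] at h
  exact top_le_iff.mp h

end Finite

end Cfsg.Agent.Lib.H13.Fum
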