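import Mathlib
import Cfsg.Agent.Lib.H14.FumDefs
import Cfsg.Agent.Lib.H13.FumP3
import Cfsg.Agent.Lib.H29.FumP2
import Cfsg.Agent.Lib.H16.PGroupCenter

/-!
# S4330, piece P4 (helper13): a regular vector for an extraspecial group of exponent `p` (`p` odd)
acting faithfully and coprimely on a finite abelian group `V`.

The argument works inside `W = [V, z]` with a maximal abelian subgroup `A` of `Q` containing `z`:
`W` is the direct product of the fixed points `W ∩ C_V(D)` of the hyperplanes `D` of `A`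
(piece P3), and `Q / A` permutes freely the hyperplanes that occur.
-/

set_option autoImplicit false

namespace Cfsg.Agent.Lib.H13.Fum

open Cfsg.Agent.Lib.H14.Fum

universe u

variable {V : Type u} [CommGroup V]

/-- The conjugate `g D g⁻¹` of a subgroup `D` of `MulAut V`. -/
def cj (g : MulAut V) (D : Subgroup (MulAut V)) : Subgroup (MulAut V) :=
  D.map (MulAut.conj g).toMonoidHom

theorem mem_cj {g x : MulAut V} {D : Subgroup (MulAut V)} :
    x ∈ cj g D ↔ ∃ d ∈ D, g * d * g⁻¹ = x := by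
  unfold cj
  rw [Subgroup.mem_map]
  rfl

theorem cj_one (D : Subgroup (MulAut V)) : cj 1 D = D := by
  ext x
  rw [mem_cj]
  constructor
  · rintro ⟨d, hd, rfl⟩
    simpa using hd
  · intro hx
    exact ⟨x, hx, by simp⟩

theorem cj_cj (g h : MulAut V) (D : Subgroup (MulAut V)) : cj g (cj h D) = cj (g * h) D := by
  ext x
  rw [mem_cj, mem_cj]
  constructor
  · rintro ⟨d, hd, rfl⟩
    obtain ⟨e, he, rfl⟩ := mem_cj.mp hd
    exact ⟨e, he, by group⟩
  · rintro ⟨e, he, rfl⟩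
    exact ⟨h * e * h⁻¹, mem_cj.mpr ⟨e, he, rfl⟩, by group⟩

theorem cj_inv_cj (g : MulAut V) (D : Subgroup (MulAut V)) : cj g⁻¹ (cj g D) = D := by
  rw [cj_cj, inv_mul_cancel, cj_one]

theorem cj_cj_inv (g : MulAut V) (D : Subgroup (MulAut V)) : cj g (cj g⁻¹ D) = D := by
  rw [cj_cj, mul_inv_cancel, cj_one]

theorem cj_mono (g : MulAut V) {D A : Subgroup (MulAut V)} (h : D ≤ A) : cj g D ≤ cj g A :=
  Subgroup.map_mono h

theorem relIndex_cj (g : MulAut V) (D A : Subgroup (MulAut V)) :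
    (cj g D).relIndex (cj g A) = D.relIndex A :=
  Subgroup.relIndex_map_map_of_injective D A (MulEquiv.injective _)

/-- the pointwise fixer of a subgroup `W` of `V` -/
def fixer (W : Subgroup V) : Subgroup (MulAut V) where
  carrier := {g | ∀ w ∈ W, g w = w}
  one_mem' := fun _ _ => rfl
  mul_mem' := fun {a b} ha hb w hw => by
    show a (b w) = w
    rw [hb w hw, ha w hw]
  inv_mem' := fun {a} ha w hw => by
    have h1 : a⁻¹ (a w) = w := MulAut.inv_apply_self V a w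
    rw [ha w hw] at h1
    exact h1

theorem mem_fixer {W : Subgroup V} {g : MulAut V} : g ∈ fixer W ↔ ∀ w ∈ W, g w = w := Iff.rfl

/-- `[V,B]` is invariant under every automorphism centralising `B`. -/
theorem commPts_invariant {B : Subgroup (MulAut V)} {g : MulAut V}
    (hg : ∀ b ∈ B, g * b = b * g) : ∀ w ∈ commPts B, g w ∈ commPts B := by
  intro w hw
  unfold commPts at hw ⊢
  induction hw using Subgroup.closure_induction with
  | mem x hx =>
    obtain ⟨b, hb, v, rfl⟩ := hx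
    apply Subgroup.subset_closure
    refine ⟨b, hb, g v, ?_⟩
    rw [map_mul, map_inv]
    have : g (b v) = b (g v) := by
      show (g * b) v = (b * g) v
      rw [hg b hb]
    rw [this]
  | one => rw [map_one]; exact Subgroup.one_mem _
  | mul x y _ _ hx hy => rw [map_mul]; exact Subgroup.mul_mem _ hx hy
  | inv x _ hx => rw [map_inv]; exact Subgroup.inv_mem _ hx

/-- the closure of a commuting set is commutative -/
theorem comm_of_mem_closure {G : Type*} [Group G] {k : Set G}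
    (hk : ∀ x ∈ k, ∀ y ∈ k, x * y = y * x) :
    ∀ x ∈ Subgroup.closure k, ∀ y ∈ Subgroup.closure k, x * y = y * x := by
  intro x hx y hy
  have h := Subgroup.closure_le_centralizer_centralizer k
  exact Set.centralizer_centralizer_comm_of_comm hk x (h hx) y (h hy)

theorem comm_of_mem_zpowers {G : Type*} [Group G] (z : G) :
    ∀ x ∈ Subgroup.zpowers z, ∀ y ∈ Subgroup.zpowers z, x * y = y * x := by
  rw [Subgroup.zpowers_eq_closure]
  apply comm_of_mem_closure
  intro x hx y hy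
  rw [Set.mem_singleton_iff] at hx hy
  rw [hx, hy]

section Finite

variable {p : ℕ} [Fact p.Prime]

/-- a subgroup not containing `z` (of order dividing `p`) meets `⟨z⟩` trivially -/
theorem inf_zpowers_eq_bot {G : Type*} [Group G] {z : G} (hz : z ^ p = 1) {D : Subgroup G}
    (hzD : z ∉ D) : D ⊓ Subgroup.zpowers z = ⊥ := by
  have hp : p.Prime := Fact.out
  rw [eq_bot_iff]
  rintro x ⟨hxD, hxz⟩
  rw [Subgroup.mem_bot]
  by_contra hx1
  have hfin : IsOfFinOrder z := isOfFinOrder_iff_pow_eq_one.mpr ⟨p, hp.pos, hz⟩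
  have hxz' : x ∈ Submonoid.powers z := hfin.mem_powers_iff_mem_zpowers.mpr hxz
  obtain ⟨n, hn⟩ := hxz'
  have hn' : z ^ n = x := hn
  subst hn'
  have hcop : n.Coprime (orderOf z) := by
    apply Nat.Coprime.coprime_dvd_right (orderOf_dvd_of_pow_eq_one hz)
    apply Nat.Coprime.symm
    rw [hp.coprime_iff_not_dvd]
    rintro ⟨m, rfl⟩
    apply hx1
    rw [pow_mul, hz, one_pow]
  obtain ⟨m, hm⟩ := exists_pow_eq_self_of_coprime hcop
  apply hzD
  rw [← hm]
  exact D.pow_mem hxD m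

/-- a hyperplane `D` of `A` together with an element outside `D` generates `A` -/
theorem sup_zpowers_eq_of_hyperplane {G : Type*} [Group G] {A D : Subgroup G}
    (hD : D ≤ A ∧ D.relIndex A = p) {a : G} (ha : a ∈ A) (haD : a ∉ D) :
    D ⊔ Subgroup.zpowers a = A := by
  have hp : p.Prime := Fact.out
  have hX : D ⊔ Subgroup.zpowers a ≤ A :=
    sup_le hD.1 (by rw [Subgroup.zpowers_le]; exact ha)
  have h1 := Subgroup.relIndex_mul_relIndex D (D ⊔ Subgroup.zpowers a) A le_sup_left hX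
  rw [hD.2] at h1
  have h2 : D.relIndex (D ⊔ Subgroup.zpowers a) ∣ p := Dvd.intro _ h1
  rcases (Nat.dvd_prime hp).mp h2 with h3 | h3
  · exfalso
    have h4 : D ⊔ Subgroup.zpowers a ≤ D := Subgroup.relIndex_eq_one.mp h3
    exact haD (h4 (Subgroup.mem_sup_right (Subgroup.mem_zpowers a)))
  · rw [h3] at h1
    have h4 : (D ⊔ Subgroup.zpowers a).relIndex A = 1 := by
      have : p * (D ⊔ Subgroup.zpowers a).relIndex A = p * 1 := by rw [h1, mul_one]
      exact Nat.eq_of_mul_eq_mul_left hp.pos this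
    exact le_antisymm hX (Subgroup.relIndex_eq_one.mp h4)

omit [Fact p.Prime] in
theorem cj_mem_hyperplanes {g : MulAut V} {A D : Subgroup (MulAut V)} (hgA : cj g A = A)
    (hD : D ≤ A ∧ D.relIndex A = p) : cj g D ≤ A ∧ (cj g D).relIndex A = p := by
  refine ⟨?_, ?_⟩
  · have := cj_mono g hD.1
    rw [hgA] at this
    exact this
  · have := relIndex_cj g D A
    rw [hgA] at this
    rw [this]
    exact hD.2

variable [Finite V]

/-- **Key lemma.** If `g` normalises `A` and `W` and fixes `∏ D, w' D` (product over the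
hyperplanes of `A`, `w' D ∈ W ∩ C_V(D)`), then `g (w' D) = w' (g D g⁻¹)` for all `D`. -/
theorem apply_eq_of_fixed (hcop : (Nat.card V).Coprime p) (A : Subgroup (MulAut V))
    (hAab : ∀ x ∈ A, ∀ y ∈ A, x * y = y * x) (hAexp : ∀ x ∈ A, x ^ p = 1)
    (W : Subgroup V) (hW : InvSub A W) (hfix : W ⊓ fixedPts A = ⊥)
    (g : MulAut V) (hgA : cj g A = A) (hgW : ∀ w ∈ W, g w ∈ W)
    (s : Finset (Subgroup (MulAut V))) (hs : ∀ D, D ∈ s ↔ D ≤ A ∧ D.relIndex A = p)
    (w' : Subgroup (MulAut V) → V) (hw' : ∀ D ∈ s, w' D ∈ W ⊓ fixedPts D)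
    (hfixed : g (∏ D ∈ s, w' D) = ∏ D ∈ s, w' D) :
    ∀ D ∈ s, g (w' D) = w' (cj g D) := by
  have hgA' : cj g⁻¹ A = A := by
    have := cj_inv_cj g A
    rw [hgA] at this
    exact this
  have hcjs : ∀ D ∈ s, cj g D ∈ s := fun D hD =>
    (hs _).mpr (cj_mem_hyperplanes hgA ((hs D).mp hD))
  have hcjs' : ∀ D ∈ s, cj g⁻¹ D ∈ s := fun D hD =>
    (hs _).mpr (cj_mem_hyperplanes hgA' ((hs D).mp hD))
  have h1 : g (∏ D ∈ s, w' D) = ∏ E ∈ s, g (w' (cj g⁻¹ E)) := by
    rw [map_prod]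
    apply Finset.prod_nbij' (cj g) (cj g⁻¹) hcjs hcjs' (fun D _ => cj_inv_cj g D)
      (fun D _ => cj_cj_inv g D)
    intro D _
    rw [cj_inv_cj]
  have hu_mem : ∀ E ∈ s, w' E * (g (w' (cj g⁻¹ E)))⁻¹ ∈ W ⊓ fixedPts E := by
    intro E hE
    apply Subgroup.mul_mem _ (hw' E hE)
    apply Subgroup.inv_mem
    have h2 := hw' _ (hcjs' E hE)
    refine ⟨hgW _ h2.1, ?_⟩
    have h3 := apply_mem_fixedPts_conj g h2.2
    change g (w' (cj g⁻¹ E)) ∈ fixedPts (cj g (cj g⁻¹ E)) at h3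
    rw [cj_cj_inv] at h3
    exact h3
  have hprod : ∏ E ∈ s, w' E * (g (w' (cj g⁻¹ E)))⁻¹ = 1 := by
    rw [Finset.prod_mul_distrib, Finset.prod_inv_distrib, ← h1, hfixed, mul_inv_cancel]
  have h4 := fixedPts_hyperplane_indep_rel hcop A hAab hAexp W hW hfix s
    (fun D hD => (hs D).mp hD) (fun E => w' E * (g (w' (cj g⁻¹ E)))⁻¹) hu_mem hprod
  intro D hD
  have h5 := h4 (cj g D) (hcjs D hD)
  simp only [cj_inv_cj] at h5
  exact (mul_inv_eq_one.mp h5).symm

/-- the subgroup `W = [V,z]` : `Q`-invariant, nontrivial, without fixed points of `z` -/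
theorem exists_invariant_commPts (hcop : (Nat.card V).Coprime p)
    (Q : Subgroup (MulAut V)) (hQ : IsPGroup p Q)
    (z : MulAut V) (hzQ : z ∈ Q) (hz1 : z ≠ 1) (hzc : ∀ g ∈ Q, g * z = z * g) :
    ∃ W : Subgroup V, (∀ g ∈ Q, ∀ w ∈ W, g w ∈ W) ∧ W ≠ ⊥ ∧
      W ⊓ fixedPts (Subgroup.zpowers z) = ⊥ := by
  have hZQ : Subgroup.zpowers z ≤ Q := by rw [Subgroup.zpowers_le]; exact hzQ
  refine ⟨commPts (Subgroup.zpowers z), ?_, ?_, ?_⟩
  · intro g hg
    apply commPts_invariant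
    intro b hb
    have h1 : Subgroup.zpowers z ≤ Subgroup.centralizer {g} := by
      rw [Subgroup.zpowers_le, Subgroup.mem_centralizer_iff]
      intro h hh
      rw [Set.mem_singleton_iff.mp hh]
      exact hzc g hg
    exact Subgroup.mem_centralizer_iff.mp (h1 hb) g rfl
  · intro h
    apply hz1
    ext v
    have h1 : z v * v⁻¹ ∈ commPts (Subgroup.zpowers z) :=
      Subgroup.subset_closure ⟨z, Subgroup.mem_zpowers z, v, rfl⟩
    rw [h, Subgroup.mem_bot] at h1
    exact mul_inv_eq_one.mp h1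
  · rw [inf_comm]
    exact Cfsg.Agent.Lib.H29.Fum.fixedPts_inf_commPts hcop _ (hQ.to_le hZQ)

/-- **S4330-P4.** An extraspecial group of exponent `p` (`p` odd), or a group of order `p`, acting
faithfully on a finite abelian group of order prime to `p`, has a regular vector. -/
theorem exists_regular_vector (hp : p ≠ 2) (hcop : (Nat.card V).Coprime p)
    (Q : Subgroup (MulAut V)) (hQ : IsPGroup p Q) (hexp : ∀ g ∈ Q, g ^ p = 1)
    (z : MulAut V) (hzQ : z ∈ Q) (hz1 : z ≠ 1) (hzc : ∀ g ∈ Q, g * z = z * g)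
    (hcomm : ∀ g ∈ Q, ∀ h ∈ Q, g * h * g⁻¹ * h⁻¹ ∈ Subgroup.zpowers z)
    (hcen : ∀ g ∈ Q, (∀ h ∈ Q, g * h = h * g) → g ∈ Subgroup.zpowers z) :
    ∃ v : V, ∀ g ∈ Q, g v = v → g = 1 := by
  classical
  have hpp : p.Prime := Fact.out
  have hzp : z ^ p = 1 := hexp z hzQ
  have hZQ : Subgroup.zpowers z ≤ Q := by rw [Subgroup.zpowers_le]; exact hzQ
  obtain ⟨W, hWQ, hWne, hWZ⟩ := exists_invariant_commPts hcop Q hQ z hzQ hz1 hzc
  -- normal subgroups of `Q` avoiding `z` are trivial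
  have hNlem : ∀ N : Subgroup (MulAut V), N ≤ Q → (∀ g ∈ Q, ∀ n ∈ N, g * n * g⁻¹ ∈ N) →
      z ∉ N → N = ⊥ := by
    intro N hNQ hnorm hzN
    by_contra hN
    obtain ⟨x, hxN, hx1, hxc⟩ := Cfsg.Agent.Lib.H16.exists_ne_one_central_of_le_normalizer hpp Q N
      hQ hNQ (Cfsg.Agent.Lib.H16.le_normalizer_of_conj_mem Q N hnorm) hN
    have hxZ : x ∈ Subgroup.zpowers z := hcen x (hNQ hxN) (fun h hh => (hxc h hh).symm)
    have h1 : N ⊓ Subgroup.zpowers z = ⊥ := inf_zpowers_eq_bot hzp hzN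
    have h2 : x ∈ N ⊓ Subgroup.zpowers z := ⟨hxN, hxZ⟩
    rw [h1, Subgroup.mem_bot] at h2
    exact hx1 h2
  -- `Q` is faithful on `W`
  have hker : ∀ g ∈ Q, (∀ w ∈ W, g w = w) → g = 1 := by
    intro g hg hgW
    have h1 : Q ⊓ fixer W = ⊥ := by
      apply hNlem _ inf_le_left
      · intro a ha n hn
        refine ⟨Q.mul_mem (Q.mul_mem ha hn.1) (Q.inv_mem ha), ?_⟩
        intro w hw
        show a (n (a⁻¹ w)) = w
        rw [hn.2 _ (hWQ a⁻¹ (Q.inv_mem ha) w hw)]
        exact MulAut.apply_inv_self V a w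
      · intro hz
        apply hWne
        rw [eq_bot_iff, ← hWZ]
        intro w hw
        exact ⟨hw, mem_fixedPts_zpowers.mpr (hz.2 w hw)⟩
    have h2 : g ∈ Q ⊓ fixer W := ⟨hg, hgW⟩
    rw [h1, Subgroup.mem_bot] at h2
    exact h2
  -- a maximal abelian subgroup containing `z`
  obtain ⟨A, hZA, hAmax⟩ := Set.Finite.exists_le_maximal
    (s := {A : Subgroup (MulAut V) | A ≤ Q ∧ z ∈ A ∧ ∀ x ∈ A, ∀ y ∈ A, x * y = y * x})
    (Set.toFinite _) (a := Subgroup.zpowers z)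
    ⟨hZQ, Subgroup.mem_zpowers z, comm_of_mem_zpowers z⟩
  obtain ⟨hAQ, hzA, hAab⟩ := hAmax.prop
  have hAexp : ∀ x ∈ A, x ^ p = 1 := fun x hx => hexp x (hAQ hx)
  have hCA : ∀ g ∈ Q, (∀ a ∈ A, g * a = a * g) → g ∈ A := by
    intro g hg hga
    have hkc : ∀ x ∈ (A : Set (MulAut V)) ∪ {g}, ∀ y ∈ (A : Set (MulAut V)) ∪ {g},
        x * y = y * x := by
      rintro x (hx | hx) y (hy | hy)
      · exact hAab x hx y hy
      · rw [Set.mem_singleton_iff.mp hy]; exact (hga x hx).symm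
      · rw [Set.mem_singleton_iff.mp hx]; exact hga y hy
      · rw [Set.mem_singleton_iff.mp hx, Set.mem_singleton_iff.mp hy]
    have hA' : Subgroup.closure ((A : Set (MulAut V)) ∪ {g}) ∈
        {A : Subgroup (MulAut V) | A ≤ Q ∧ z ∈ A ∧ ∀ x ∈ A, ∀ y ∈ A, x * y = y * x} := by
      refine ⟨?_, ?_, comm_of_mem_closure hkc⟩
      · rw [Subgroup.closure_le]
        rintro x (hx | hx)
        · exact hAQ hx
        · rw [Set.mem_singleton_iff.mp hx]; exact hg
      · exact Subgroup.subset_closure (Or.inl hzA)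
    have hle : A ≤ Subgroup.closure ((A : Set (MulAut V)) ∪ {g}) :=
      fun a ha => Subgroup.subset_closure (Or.inl ha)
    exact hAmax.le_of_ge hA' hle (Subgroup.subset_closure (Or.inr rfl))
  have hAnorm : ∀ g ∈ Q, ∀ a ∈ A, g * a * g⁻¹ ∈ A := by
    intro g hg a ha
    have h1 : g * a * g⁻¹ * a⁻¹ ∈ A := hZA (hcomm g hg a (hAQ ha))
    have h2 : g * a * g⁻¹ = (g * a * g⁻¹ * a⁻¹) * a := by group
    rw [h2]
    exact A.mul_mem h1 ha
  have hcjA : ∀ g ∈ Q, cj g A = A := by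
    intro g hg
    apply le_antisymm
    · intro x hx
      obtain ⟨a, ha, rfl⟩ := mem_cj.mp hx
      exact hAnorm g hg a ha
    · intro a ha
      refine mem_cj.mpr ⟨g⁻¹ * a * g, ?_, by group⟩
      have := hAnorm g⁻¹ (Q.inv_mem hg) a ha
      rwa [inv_inv] at this
  have hWA : InvSub A W := fun a ha w hw => hWQ a (hAQ ha) w hw
  have hWfixA : W ⊓ fixedPts A = ⊥ := by
    rw [eq_bot_iff, ← hWZ]
    exact inf_le_inf_left W (fixedPts_anti hZA)
  -- the hyperplanes of `A`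
  obtain ⟨s, hs⟩ : ∃ s : Finset (Subgroup (MulAut V)), ∀ D, D ∈ s ↔ D ≤ A ∧ D.relIndex A = p :=
    ⟨(Set.toFinite {D : Subgroup (MulAut V) | D ≤ A ∧ D.relIndex A = p}).toFinset, fun D => by
      rw [Set.Finite.mem_toFinset]; rfl⟩
  -- those with nontrivial fixed points in `W`
  obtain ⟨𝒟, h𝒟⟩ : ∃ 𝒟 : Finset (Subgroup (MulAut V)),
      ∀ D, D ∈ 𝒟 ↔ D ∈ s ∧ W ⊓ fixedPts D ≠ ⊥ :=
    ⟨s.filter (fun D => W ⊓ fixedPts D ≠ ⊥), fun D => Finset.mem_filter⟩
  have hzD : ∀ D ∈ 𝒟, z ∉ D := by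
    intro D hD hz
    apply ((h𝒟 D).mp hD).2
    rw [eq_bot_iff, ← hWZ]
    apply inf_le_inf_left W (fixedPts_anti _)
    rw [Subgroup.zpowers_le]
    exact hz
  -- (iii) an element of `Q` normalising some `D ∈ 𝒟` lies in `A`
  have hnorm_mem : ∀ g ∈ Q, ∀ D ∈ 𝒟, cj g D = D → g ∈ A := by
    intro g hg D hD hgD
    have hDs := (hs D).mp ((h𝒟 D).mp hD).1
    have hDZ : D ⊓ Subgroup.zpowers z = ⊥ := inf_zpowers_eq_bot hzp (hzD D hD)
    apply hCA g hg
    have h1 : A ≤ Subgroup.centralizer {g} := by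
      rw [← sup_zpowers_eq_of_hyperplane hDs hzA (hzD D hD)]
      apply sup_le
      · intro d hd
        rw [Subgroup.mem_centralizer_iff]
        intro h hh
        rw [Set.mem_singleton_iff.mp hh]
        have h2 : g * d * g⁻¹ * d⁻¹ ∈ D ⊓ Subgroup.zpowers z := by
          refine ⟨D.mul_mem ?_ (D.inv_mem hd), hcomm g hg d (hAQ (hDs.1 hd))⟩
          have : g * d * g⁻¹ ∈ cj g D := mem_cj.mpr ⟨d, hd, rfl⟩
          rw [hgD] at this
          exact this
        rw [hDZ, Subgroup.mem_bot] at h2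
        have h3 : g * d = (g * d * g⁻¹ * d⁻¹) * (d * g) := by group
        rw [h3, h2, one_mul]
      · rw [Subgroup.zpowers_le, Subgroup.mem_centralizer_iff]
        intro h hh
        rw [Set.mem_singleton_iff.mp hh]
        exact hzc g hg
    intro a ha
    exact Subgroup.mem_centralizer_iff.mp (h1 ha) g rfl
  -- (iv) `A / D` acts freely on `W ∩ C_V(D)`
  have hfree : ∀ D ∈ s, ∀ a ∈ A, ∀ w ∈ W ⊓ fixedPts D, a w = w → w ≠ 1 → a ∈ D := by
    intro D hD a ha w hw haw hw1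
    by_contra haD
    have hDs := (hs D).mp hD
    apply hw1
    have h1 : w ∈ W ⊓ fixedPts A := by
      refine ⟨hw.1, ?_⟩
      rw [← sup_zpowers_eq_of_hyperplane hDs ha haD, fixedPts_sup]
      exact ⟨hw.2, mem_fixedPts_zpowers.mpr haw⟩
    rw [hWfixA, Subgroup.mem_bot] at h1
    exact h1
  -- separating families of hyperplanes
  have hSep𝒟 : ∀ x ∈ A, (∀ D ∈ 𝒟, x ∈ D) → x = 1 := by
    intro x hxA hx
    apply hker x (hAQ hxA)
    intro w hw
    have h1 := iSup_fixedPts_hyperplane_rel hcop A hAab hAexp W hWA hWfixA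
    have h2 : (⨆ D : {D : Subgroup (MulAut V) // D ≤ A ∧ D.relIndex A = p},
        W ⊓ fixedPts D.1) ≤ fixedPts (Subgroup.zpowers x) := by
      apply iSup_le
      rintro ⟨D, hD⟩
      by_cases hbot : W ⊓ fixedPts D = ⊥
      · show W ⊓ fixedPts D ≤ _
        rw [hbot]
        exact bot_le
      · have hD𝒟 : D ∈ 𝒟 := (h𝒟 D).mpr ⟨(hs D).mpr hD, hbot⟩
        exact le_trans inf_le_right
          (fixedPts_anti (by rw [Subgroup.zpowers_le]; exact hx D hD𝒟))
    exact mem_fixedPts_zpowers.mp (h2 (h1 hw))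
  obtain ⟨S, hSmem, hSmin⟩ := Finset.exists_min_image
    (𝒟.powerset.filter (fun S => ∀ x ∈ A, (∀ D ∈ S, x ∈ D) → x = 1)) Finset.card
    ⟨𝒟, Finset.mem_filter.mpr ⟨Finset.mem_powerset.mpr (Finset.Subset.refl _), hSep𝒟⟩⟩
  rw [Finset.mem_filter, Finset.mem_powerset] at hSmem
  obtain ⟨hS𝒟, hSepS⟩ := hSmem
  have hSs : ∀ D ∈ S, D ∈ s := fun D hD => ((h𝒟 D).mp (hS𝒟 hD)).1
  -- nontrivial vectors
  have hex : ∀ D : Subgroup (MulAut V), ∃ w : V, D ∈ 𝒟 → (w ∈ W ⊓ fixedPts D ∧ w ≠ 1) := by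
    intro D
    by_cases hD : D ∈ 𝒟
    · obtain ⟨⟨w, hw⟩, hw1⟩ := (Subgroup.ne_bot_iff_exists_ne_one).mp ((h𝒟 D).mp hD).2
      exact ⟨w, fun _ => ⟨hw, fun h => hw1 (Subtype.ext h)⟩⟩
    · exact ⟨1, fun h => absurd h hD⟩
  choose w0 hw0 using hex
  have hw'mem : ∀ D ∈ s, (if D ∈ S then w0 D else 1) ∈ W ⊓ fixedPts D := by
    intro D _
    split_ifs with h
    · exact (hw0 D (hS𝒟 h)).1
    · exact Subgroup.one_mem _
  refine ⟨∏ D ∈ s, (if D ∈ S then w0 D else 1), ?_⟩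
  intro g hg hgv
  have hL := apply_eq_of_fixed hcop A hAab hAexp W hWA hWfixA g (hcjA g hg) (hWQ g hg) s hs
    (fun D => if D ∈ S then w0 D else 1) hw'mem hgv
  have hcjS : ∀ D ∈ S, cj g D ∈ S := by
    intro D hD
    by_contra hn
    have h1 := hL D (hSs D hD)
    simp only [if_pos hD, if_neg hn] at h1
    exact (hw0 D (hS𝒟 hD)).2 ((MulEquiv.map_eq_one_iff g).mp h1)
  have hgA : g ∈ A := by
    by_contra hgA
    have hSne : S.Nonempty := by
      by_contra hempty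
      rw [Finset.not_nonempty_iff_eq_empty] at hempty
      apply hz1
      apply hSepS z hzA
      intro D hD
      rw [hempty] at hD
      exact absurd hD (Finset.notMem_empty D)
    obtain ⟨D, hD⟩ := hSne
    have hD1S : cj g D ∈ S := hcjS D hD
    have hD2S : cj g (cj g D) ∈ S := hcjS _ hD1S
    have h12 : cj g (cj g D) ≠ cj g D := fun h => hgA (hnorm_mem g hg _ (hS𝒟 hD1S) h)
    have h01 : cj g D ≠ D := fun h => hgA (hnorm_mem g hg D (hS𝒟 hD) h)
    have h02 : cj g (cj g D) ≠ D := by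
      intro h
      have hgg : g * g ∈ A :=
        hnorm_mem (g * g) (Q.mul_mem hg hg) D (hS𝒟 hD) (by rw [← cj_cj]; exact h)
      obtain ⟨k, hk⟩ := hpp.eq_two_or_odd'.resolve_left hp
      have h1 : g = (g * g) ^ (k + 1) := by
        rw [← pow_two, ← pow_mul]
        have h2 : 2 * (k + 1) = p + 1 := by omega
        rw [h2, pow_succ, hexp g hg, one_mul]
      apply hgA
      rw [h1]
      exact A.pow_mem hgg _
    have hSep' : ∀ x ∈ A, (∀ E ∈ S.erase (cj g (cj g D)), x ∈ E) → x = 1 := by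
      intro x hxA hx
      apply hSepS x hxA
      intro E hE
      by_cases hE2 : E = cj g (cj g D)
      · rw [hE2]
        have hxD : x ∈ D := hx D (Finset.mem_erase.mpr ⟨h02.symm, hD⟩)
        have hxD1 : x ∈ cj g D := hx _ (Finset.mem_erase.mpr ⟨h12.symm, hD1S⟩)
        obtain ⟨d, hd, hdx⟩ := mem_cj.mp hxD1
        have hDs := (hs D).mp (hSs D hD)
        have hDZ : D ⊓ Subgroup.zpowers z = ⊥ := inf_zpowers_eq_bot hzp (hzD D (hS𝒟 hD))
        have h3 : g * d * g⁻¹ * d⁻¹ ∈ D ⊓ Subgroup.zpowers z :=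
          ⟨by rw [hdx]; exact D.mul_mem hxD (D.inv_mem hd), hcomm g hg d (hAQ (hDs.1 hd))⟩
        rw [hDZ, Subgroup.mem_bot] at h3
        have hxd : g * d * g⁻¹ = d := mul_inv_eq_one.mp h3
        have hxd' : x = d := by rw [← hdx, hxd]
        have h4 : g * x * g⁻¹ = x := by rw [hxd', hxd]
        exact mem_cj.mpr ⟨x, hxD1, h4⟩
      · exact hx E (Finset.mem_erase.mpr ⟨hE2, hE⟩)
    have hmem' : S.erase (cj g (cj g D)) ∈
        𝒟.powerset.filter (fun S => ∀ x ∈ A, (∀ D ∈ S, x ∈ D) → x = 1) :=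
      Finset.mem_filter.mpr
        ⟨Finset.mem_powerset.mpr ((Finset.erase_subset _ _).trans hS𝒟), hSep'⟩
    have h5 := hSmin _ hmem'
    have hlt := Finset.card_erase_lt_of_mem hD2S
    omega
  apply hSepS g hgA
  intro D hD
  have hDs := (hs D).mp (hSs D hD)
  have hcjD : cj g D = D := by
    apply le_antisymm
    · intro x hx
      obtain ⟨d, hd, rfl⟩ := mem_cj.mp hx
      have h1 : g * d * g⁻¹ = d := by rw [hAab g hgA d (hDs.1 hd)]; group
      rw [h1]
      exact hd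
    · intro d hd
      refine mem_cj.mpr ⟨d, hd, ?_⟩
      rw [hAab g hgA d (hDs.1 hd)]
      group
  have h1 := hL D (hSs D hD)
  simp only [hcjD, if_pos hD] at h1
  exact hfree D (hSs D hD) g hgA (w0 D) (hw0 D (hS𝒟 hD)).1 h1 (hw0 D (hS𝒟 hD)).2

end Finite

end Cfsg.Agent.Lib.H13.Fum
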