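import Cfsg.Agent.Lib.H1.G85.Defs
import Cfsg.Agent.Lib.H1.PCore

/-!
# S4385 piece (DIH): dihedral facts.  `x` = a preimage of the rotation `r 1`.
-/

set_option autoImplicit false
open scoped Pointwise
open Cfsg.Agent.Lib.H5.Glaub Cfsg.Agent.Lib.H5.Glaub.Setup Cfsg.Agent.Lib.H1.G85

namespace Cfsg.Agent.Lib.H13.G85

open DihedralGroup

/-- elements of the centre of a dihedral group square to `1` -/
theorem dih_center_sq {n : ℕ} (z : DihedralGroup n) (hz : z ∈ Subgroup.center (DihedralGroup n)) :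
    z * z = 1 := by
  rw [Subgroup.mem_center_iff] at hz
  cases z with
  | r i =>
    have h := hz (sr 0)
    rw [sr_mul_r, r_mul_sr] at h
    have h2 : (0 : ZMod n) + i = 0 - i := by
      injection h
    rw [r_mul_r, one_def]
    congr 1
    have : i = -i := by simpa using h2
    calc i + i = i + -i := by rw [← this]
      _ = 0 := add_neg_cancel i
  | sr i => exact sr_mul_self i

/-- for even `n = m + m` the rotation `r m` is central -/
theorem dih_r_half_mem_center {n m : ℕ} (hm : n = m + m) :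
    (r (m : ZMod n) : DihedralGroup n) ∈ Subgroup.center (DihedralGroup n) := by
  have h0 : (m : ZMod n) + (m : ZMod n) = 0 := by
    rw [← Nat.cast_add, ← hm]; exact ZMod.natCast_self n
  rw [Subgroup.mem_center_iff]
  intro g
  cases g with
  | r j => rw [r_mul_r, r_mul_r, add_comm]
  | sr j =>
    rw [sr_mul_r, r_mul_sr]
    congr 1
    have : (m : ZMod n) = -(m : ZMod n) := eq_neg_of_add_eq_zero_left h0
    rw [sub_eq_add_neg, ← this]

/-- in a dihedral group of odd degree, an element of 2-power order is `1` or a reflection -/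
theorem dih_two_pow {n : ℕ} (hn : Odd n) (d : DihedralGroup n) (k : ℕ) (hd : d ^ (2 ^ k) = 1) :
    d = 1 ∨ ∃ i, d = sr i := by
  cases d with
  | r j =>
    left
    rw [r_pow, one_def] at hd
    have h1 : j * ((2 ^ k : ℕ) : ZMod n) = 0 := by injection hd
    have hcop : Nat.Coprime (2 ^ k) n := by
      apply Nat.Coprime.pow_left
      exact (Nat.Prime.coprime_iff_not_dvd Nat.prime_two).2 (by obtain ⟨c, hc⟩ := hn; omega)
    have hu : IsUnit (((2 ^ k : ℕ) : ZMod n)) := (ZMod.isUnit_iff_coprime _ _).2 hcop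
    have hj : j = 0 := by
      have := hu.mul_left_eq_zero.1 h1
      exact this
    rw [hj, one_def]
  | sr i => right; exact ⟨i, rfl⟩

variable {G : Type*} [Group G] [Finite G]

/-- (DIH) dihedral facts: `x` = a preimage of the rotation `r 1`. -/
theorem dih (H : Subgroup G) (hO : Cfsg.pCore 2 ↥H ≠ ⊥) (n : ℕ) (hn : 2 ≤ n)
    (hdih : Nonempty (↥H ⧸ Cfsg.pCore 2 ↥H ≃* DihedralGroup n))
    (P : Subgroup G) (hPH : P ≤ H) (hP : IsPGroup 2 P) (hPsyl : ¬ 2 ∣ P.relIndex H) :
    ∃ x ∈ H, P ⊔ MulAut.conj x • P = H ∧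
      (P ⊓ MulAut.conj x • P).relIndex (MulAut.conj x • P) = 2 ∧
      H ≤ Subgroup.normalizer ((P ⊓ MulAut.conj x • P : Subgroup G) : Set G) ∧
      P ⊓ MulAut.conj x • P ≠ ⊥ := by
  obtain ⟨e⟩ := hdih
  have : Fact (Nat.Prime 2) := ⟨Nat.prime_two⟩
  have hOn : (Cfsg.pCore 2 ↥H).Normal := Cfsg.Agent.Lib.H1.pCore_normal 2 ↥H
  have hOp : IsPGroup 2 (Cfsg.pCore 2 ↥H) := Cfsg.Agent.Lib.H1.pCore_isPGroup 2 ↥H
  let φ : ↥H →* DihedralGroup n := e.toMonoidHom.comp (QuotientGroup.mk' (Cfsg.pCore 2 ↥H))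
  have hφsurj : Function.Surjective φ :=
    e.surjective.comp (QuotientGroup.mk'_surjective (Cfsg.pCore 2 ↥H))
  have hφker : ∀ k : ↥H, φ k = 1 ↔ k ∈ Cfsg.pCore 2 ↥H := by
    intro k
    show e (QuotientGroup.mk' _ k) = 1 ↔ _
    rw [MulEquiv.map_eq_one_iff, QuotientGroup.mk'_apply, QuotientGroup.eq_one_iff]
  -- `n` is odd
  have hnodd : Odd n := by
    by_contra hne
    rw [Nat.not_odd_iff_even] at hne
    obtain ⟨m, hm⟩ := hne
    let N : Subgroup ↥H := (Subgroup.center (DihedralGroup n)).comap φ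
    have hNn : N.Normal := Subgroup.Normal.comap inferInstance φ
    have hNp : IsPGroup 2 N := by
      rintro ⟨g, hg⟩
      have h1 : φ (g * g) = 1 := by rw [map_mul]; exact dih_center_sq _ hg
      have h2 : g * g ∈ Cfsg.pCore 2 ↥H := (hφker _).1 h1
      obtain ⟨k, hk⟩ := hOp ⟨g * g, h2⟩
      refine ⟨k + 1, ?_⟩
      apply Subtype.ext
      have hk' : (g * g) ^ 2 ^ k = 1 := by
        have := congrArg Subtype.val hk
        simpa using this
      show g ^ 2 ^ (k + 1) = 1
      rw [pow_succ, mul_comm, pow_mul, pow_two]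
      exact hk'
    have hNO : N ≤ Cfsg.pCore 2 ↥H := Cfsg.Agent.Lib.H1.le_pCore hNn hNp
    obtain ⟨g, hg⟩ := hφsurj (r (m : ZMod n))
    have hgN : g ∈ N := by
      show φ g ∈ Subgroup.center (DihedralGroup n)
      rw [hg]; exact dih_r_half_mem_center hm
    have h1 := (hφker g).2 (hNO hgN)
    rw [hg, one_def] at h1
    have h2 : (m : ZMod n) = 0 := by injection h1
    rw [ZMod.natCast_eq_zero_iff] at h2
    have : m = 0 := by
      rcases h2 with ⟨c, hc⟩
      rcases Nat.eq_zero_or_pos c with rfl | hcpos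
      · simpa using hc
      · have : n ≤ m := by rw [hc]; exact Nat.le_mul_of_pos_right n hcpos
        omega
    omega
  have hn3 : 3 ≤ n := by obtain ⟨c, hc⟩ := hnodd; omega
  have : NeZero n := ⟨by omega⟩
  -- `P' = P ∩ H` as a Sylow 2-subgroup of `H`
  have hP' : IsPGroup 2 (P.subgroupOf H) := hP.comap_subtype
  let SP : Sylow 2 ↥H := hP'.toSylow hPsyl
  have hOP : Cfsg.pCore 2 ↥H ≤ P.subgroupOf H := Cfsg.Agent.Lib.H1.pCore_le_sylow SP
  have hOidx : (Cfsg.pCore 2 ↥H).index = 2 * n := by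
    rw [Subgroup.index_eq_card, Nat.card_congr e.toEquiv, DihedralGroup.nat_card]
  have hne : Cfsg.pCore 2 ↥H ≠ P.subgroupOf H := by
    intro heq
    apply hPsyl
    show 2 ∣ (P.subgroupOf H).index
    rw [← heq, hOidx]
    exact dvd_mul_right 2 n
  obtain ⟨a, haP, haO⟩ := SetLike.exists_of_lt (lt_of_le_of_ne hOP hne)
  -- images of elements of `P'`
  have h2pow : ∀ b ∈ P.subgroupOf H, φ b = 1 ∨ ∃ i, φ b = sr i := by
    intro b hb
    obtain ⟨k, hk⟩ := hP' ⟨b, hb⟩
    have hk' : b ^ 2 ^ k = 1 := by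
      have := congrArg Subtype.val hk
      simpa using this
    apply dih_two_pow hnodd _ k
    rw [← map_pow, hk', map_one]
  obtain ⟨i, hi⟩ : ∃ i, φ a = sr i := by
    rcases h2pow a haP with h | h
    · exact absurd ((hφker a).1 h) haO
    · exact h
  have hL1 : ∀ b ∈ P.subgroupOf H, φ b = 1 ∨ φ b = sr i := by
    intro b hb
    rcases h2pow b hb with h | ⟨j, hj⟩
    · exact Or.inl h
    · right
      rcases h2pow (b * a) (Subgroup.mul_mem _ hb haP) with h | ⟨l, hl⟩
      · rw [map_mul, hj, hi, sr_mul_sr, one_def] at h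
        have : i - j = 0 := by injection h
        rw [hj, sub_eq_zero.1 this]
      · rw [map_mul, hj, hi, sr_mul_sr] at hl
        exact absurd hl (by simp)
  have h2ne : (2 : ZMod n) ≠ 0 := by
    intro h
    have h' : ((2 : ℕ) : ZMod n) = 0 := by exact_mod_cast h
    rw [ZMod.natCast_eq_zero_iff] at h'
    have := Nat.le_of_dvd (by norm_num) h'
    omega
  have hsrne : (sr i : DihedralGroup n) ≠ sr (i - 2) := by
    intro h
    have : i = i - 2 := by injection h
    apply h2ne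
    have h3 : i - (i - 2) = 0 := sub_eq_zero.2 this
    simpa using h3
  -- the element `x`
  obtain ⟨x, hx⟩ := hφsurj (r 1)
  have hconj : (r 1 : DihedralGroup n) * sr i * (r 1)⁻¹ = sr (i - 2) := by
    rw [r_mul_sr, inv_r, sr_mul_r]
    congr 1
    ring
  -- `Q'`, the image of `O_2(H)` in `G`
  have hQmem : ∀ g (hg : g ∈ H), g ∈ (Cfsg.pCore 2 ↥H).map H.subtype ↔ φ ⟨g, hg⟩ = 1 := by
    intro g hg
    rw [hφker, Subgroup.mem_map]
    constructor
    · rintro ⟨k, hk, rfl⟩
      exact hk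
    · intro h
      exact ⟨⟨g, hg⟩, h, rfl⟩
  have hF2 : ∀ g ∈ P, ∃ hg : g ∈ H, φ ⟨g, hg⟩ = 1 ∨ φ ⟨g, hg⟩ = sr i := by
    intro g hg
    exact ⟨hPH hg, hL1 ⟨g, hPH hg⟩ (Subgroup.mem_subgroupOf.2 hg)⟩
  have hF3 : ∀ g ∈ MulAut.conj (x : G) • P, ∃ hg : g ∈ H,
      φ ⟨g, hg⟩ = 1 ∨ φ ⟨g, hg⟩ = sr (i - 2) := by
    intro g hg
    rw [mem_conj_smul] at hg
    obtain ⟨hbH, hb⟩ := hF2 _ hg
    have hgH : g ∈ H := by
      have : g = (x : G) * ((x : G)⁻¹ * g * (x : G)) * (x : G)⁻¹ := by group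
      rw [this]
      exact H.mul_mem (H.mul_mem x.2 hbH) (H.inv_mem x.2)
    refine ⟨hgH, ?_⟩
    have heq : (⟨g, hgH⟩ : ↥H) = x * ⟨(x : G)⁻¹ * g * (x : G), hbH⟩ * x⁻¹ := by
      apply Subtype.ext
      show g = (x : G) * ((x : G)⁻¹ * g * (x : G)) * (x : G)⁻¹
      group
    rw [heq, map_mul, map_mul, map_inv, hx]
    rcases hb with hb | hb
    · left; rw [hb]; group
    · right; rw [hb]; exact hconj
  have hF4 : P ⊓ MulAut.conj (x : G) • P = (Cfsg.pCore 2 ↥H).map H.subtype := by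
    apply le_antisymm
    · rintro g ⟨hg1, hg2⟩
      obtain ⟨hgH, h1⟩ := hF2 g hg1
      obtain ⟨_, h2⟩ := hF3 g hg2
      rw [hQmem g hgH]
      rcases h1 with h1 | h1
      · exact h1
      · rcases h2 with h2 | h2
        · exact h2
        · rw [h1] at h2; exact absurd h2 hsrne
    · rintro g ⟨k, hk, rfl⟩
      refine Subgroup.mem_inf.2 ⟨Subgroup.mem_subgroupOf.1 (hOP hk), ?_⟩
      show (k : G) ∈ MulAut.conj (x : G) • P
      rw [mem_conj_smul]
      have h1 : x⁻¹ * k * x⁻¹⁻¹ ∈ Cfsg.pCore 2 ↥H := hOn.conj_mem k hk x⁻¹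
      rw [inv_inv] at h1
      exact Subgroup.mem_subgroupOf.1 (hOP h1)
  have hQH : (Cfsg.pCore 2 ↥H).map H.subtype ≤ H := by
    rintro g ⟨k, _, rfl⟩
    exact k.2
  -- the conjugate `x a x⁻¹`
  have haG : (a : G) ∈ P := Subgroup.mem_subgroupOf.1 haP
  have ha' : (x : G) * (a : G) * (x : G)⁻¹ ∈ MulAut.conj (x : G) • P := conj_mem_conj_smul haG
  have ha'H : (x : G) * (a : G) * (x : G)⁻¹ ∈ H := H.mul_mem (H.mul_mem x.2 a.2) (H.inv_mem x.2)
  have hφa' : φ ⟨(x : G) * (a : G) * (x : G)⁻¹, ha'H⟩ = sr (i - 2) := by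
    have heq : (⟨(x : G) * (a : G) * (x : G)⁻¹, ha'H⟩ : ↥H) = x * a * x⁻¹ := Subtype.ext rfl
    rw [heq, map_mul, map_mul, map_inv, hx, hi]
    exact hconj
  have hsr1 : ∀ j : ZMod n, (sr j : DihedralGroup n) ≠ 1 := by
    intro j h
    rw [one_def] at h
    cases h
  refine ⟨(x : G), x.2, ?_, ?_, ?_, ?_⟩
  · -- generation
    apply le_antisymm
    · apply sup_le hPH
      intro g hg
      exact (hF3 g hg).1
    · set L : Subgroup G := P ⊔ MulAut.conj (x : G) • P with hL
      let M : Subgroup (DihedralGroup n) := (L.subgroupOf H).map φ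
      have hsrM : sr i ∈ M := by
        refine ⟨a, Subgroup.mem_subgroupOf.2 (le_sup_left (a := P) haG), hi⟩
      have hsrM' : sr (i - 2) ∈ M := by
        refine ⟨⟨_, ha'H⟩, Subgroup.mem_subgroupOf.2 (le_sup_right (a := P) ha'), hφa'⟩
      have hr2 : r (2 : ZMod n) ∈ M := by
        have := M.mul_mem hsrM' hsrM
        rw [sr_mul_sr] at this
        have e2 : i - (i - 2) = 2 := by ring
        rwa [e2] at this
      have hr1 : r (1 : ZMod n) ∈ M := by
        have := M.pow_mem hr2 ((n + 1) / 2)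
        rw [r_pow] at this
        have e1 : (2 : ZMod n) * (((n + 1) / 2 : ℕ) : ZMod n) = 1 := by
          have h2 : 2 * ((n + 1) / 2) = n + 1 := by
            obtain ⟨c, hc⟩ := hnodd; omega
          have : ((2 * ((n + 1) / 2) : ℕ) : ZMod n) = ((n + 1 : ℕ) : ZMod n) := by rw [h2]
          push_cast at this
          rw [this]
          simp
        rwa [e1] at this
      have hMtop : ∀ d : DihedralGroup n, d ∈ M := by
        intro d
        cases d with
        | r j =>
          have := M.pow_mem hr1 j.val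
          rw [r_one_pow, ZMod.natCast_zmod_val] at this
          exact this
        | sr j =>
          have h1 : r (j - i) ∈ M := by
            have := M.pow_mem hr1 (j - i).val
            rw [r_one_pow, ZMod.natCast_zmod_val] at this
            exact this
          have := M.mul_mem hsrM h1
          rw [sr_mul_r] at this
          have e3 : i + (j - i) = j := by ring
          rwa [e3] at this
      intro g hg
      obtain ⟨l, hl, hlg⟩ := hMtop (φ ⟨g, hg⟩)
      have h1 : φ (⟨g, hg⟩ * l⁻¹) = 1 := by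
        rw [map_mul, map_inv, hlg]; group
      have h2 : (⟨g, hg⟩ * l⁻¹ : ↥H) ∈ Cfsg.pCore 2 ↥H := (hφker _).1 h1
      have h3 : g * (l : G)⁻¹ ∈ L := by
        have : g * (l : G)⁻¹ ∈ P := Subgroup.mem_subgroupOf.1 (hOP h2)
        exact le_sup_left (a := P) this
      have h4 : (l : G) ∈ L := Subgroup.mem_subgroupOf.1 hl
      have : g = g * (l : G)⁻¹ * (l : G) := by group
      rw [this]
      exact L.mul_mem h3 h4
  · -- index 2
    rw [hF4, Subgroup.relIndex_eq_two_iff]
    refine ⟨_, ha', ?_⟩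
    intro b hb
    obtain ⟨hbH, hφb⟩ := hF3 b hb
    have hbaH : b * ((x : G) * (a : G) * (x : G)⁻¹) ∈ H := H.mul_mem hbH ha'H
    have hφba : φ ⟨b * ((x : G) * (a : G) * (x : G)⁻¹), hbaH⟩ = φ ⟨b, hbH⟩ * sr (i - 2) := by
      have heq : (⟨b * ((x : G) * (a : G) * (x : G)⁻¹), hbaH⟩ : ↥H)
          = ⟨b, hbH⟩ * ⟨_, ha'H⟩ := Subtype.ext rfl
      rw [heq, map_mul, hφa']
    rw [hQmem _ hbaH, hQmem _ hbH, hφba]
    rcases hφb with h | h
    · right
      refine ⟨h, ?_⟩
      rw [h, one_mul]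
      exact hsr1 _
    · left
      refine ⟨?_, ?_⟩
      · rw [h, sr_mul_self]
      · rw [h]; exact hsr1 _
  · -- normality
    rw [hF4]
    apply (Subgroup.normal_subgroupOf_iff_le_normalizer hQH).1
    have : ((Cfsg.pCore 2 ↥H).map H.subtype).subgroupOf H = Cfsg.pCore 2 ↥H :=
      Subgroup.comap_map_eq_self_of_injective H.subtype_injective _
    rw [this]
    exact hOn
  · rw [hF4]
    intro h
    exact hO ((Subgroup.map_eq_bot_iff_of_injective _ H.subtype_injective).1 h)

end Cfsg.Agent.Lib.H13.G85
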