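import Cfsg.Agent.Lib.H13.InvolConjLin

set_option autoImplicit false

namespace Cfsg.Agent.Lib.H13.PGLInvol

open Matrix Module

variable {F : Type*} [Field F] {n : ℕ}

/-- generic counting of conjugacy classes by a system of representatives -/
theorem card_classes {G : Type*} [Group G] (P : G → Prop) {T : Type*} (rep : T → G)
    (hrep : ∀ τ, P (rep τ)) (hinj : ∀ τ τ', IsConj (rep τ) (rep τ') → τ = τ')
    (hsurj : ∀ g, P g → ∃ τ, IsConj g (rep τ)) :
    Nat.card {C : ConjClasses G // ∃ g, ConjClasses.mk g = C ∧ P g} = Nat.card T := by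
  symm
  apply Nat.card_congr
  refine Equiv.ofBijective (fun τ => ⟨ConjClasses.mk (rep τ), rep τ, rfl, hrep τ⟩) ⟨?_, ?_⟩
  · intro τ τ' h
    have := congrArg Subtype.val h
    exact hinj τ τ' (ConjClasses.mk_eq_mk_iff_isConj.mp this)
  · rintro ⟨C, g, rfl, hg⟩
    obtain ⟨τ, hτ⟩ := hsurj g hg
    exact ⟨τ, Subtype.ext (ConjClasses.mk_eq_mk_iff_isConj.mpr hτ.symm)⟩

/-- a linear conjugation gives a conjugation in `GL` -/
theorem isConj_of_lin (x y : GL (Fin n) F) (g : (Fin n → F) ≃ₗ[F] (Fin n → F))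
    (h : ∀ v, g (Matrix.toLin' (x : Matrix (Fin n) (Fin n) F) v) =
      Matrix.toLin' (y : Matrix (Fin n) (Fin n) F) (g v)) : IsConj x y := by
  let P : GL (Fin n) F :=
    ⟨LinearMap.toMatrix' (g : (Fin n → F) →ₗ[F] (Fin n → F)),
      LinearMap.toMatrix' (g.symm : (Fin n → F) →ₗ[F] (Fin n → F)), by
        rw [← LinearMap.toMatrix'_comp, ← LinearMap.toMatrix'_id]
        congr 1
        ext1 v
        simp, by
        rw [← LinearMap.toMatrix'_comp, ← LinearMap.toMatrix'_id]
        congr 1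
        ext1 v
        simp⟩
  rw [isConj_iff]
  refine ⟨P, ?_⟩
  rw [mul_inv_eq_iff_eq_mul]
  apply Units.ext
  rw [Units.val_mul, Units.val_mul]
  show LinearMap.toMatrix' (g : (Fin n → F) →ₗ[F] (Fin n → F)) * (x : Matrix (Fin n) (Fin n) F) =
    (y : Matrix (Fin n) (Fin n) F) * LinearMap.toMatrix' (g : (Fin n → F) →ₗ[F] (Fin n → F))
  have hx : (x : Matrix (Fin n) (Fin n) F) = LinearMap.toMatrix' (Matrix.toLin' (x : Matrix (Fin n) (Fin n) F)) :=
    (LinearMap.toMatrix'_toLin' _).symm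
  have hy : (y : Matrix (Fin n) (Fin n) F) = LinearMap.toMatrix' (Matrix.toLin' (y : Matrix (Fin n) (Fin n) F)) :=
    (LinearMap.toMatrix'_toLin' _).symm
  rw [hx, hy, ← LinearMap.toMatrix'_comp, ← LinearMap.toMatrix'_comp]
  congr 1
  apply LinearMap.ext
  intro v
  exact h v

/-- GL element from a matrix with scalar square -/
def glOfSq (M : Matrix (Fin n) (Fin n) F) (z : F) (hz : z ≠ 0) (h : M * M = z • 1) :
    GL (Fin n) F :=
  ⟨M, z⁻¹ • M, by rw [Matrix.mul_smul, h, smul_smul, inv_mul_cancel₀ hz, one_smul],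
    by rw [Matrix.smul_mul, h, smul_smul, inv_mul_cancel₀ hz, one_smul]⟩

@[simp] theorem coe_glOfSq (M : Matrix (Fin n) (Fin n) F) (z : F) (hz : z ≠ 0)
    (h : M * M = z • 1) : ((glOfSq M z hz h : GL (Fin n) F) : Matrix (Fin n) (Fin n) F) = M := rfl

/-- diagonal involution with `k` entries `-1` -/
def dMat (n : ℕ) (F : Type*) [Field F] (k : ℕ) : Matrix (Fin n) (Fin n) F :=
  Matrix.diagonal (fun j : Fin n => if j.val < k then (-1 : F) else 1)

theorem dMat_sq (k : ℕ) : dMat n F k * dMat n F k = (1 : F) • 1 := by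
  rw [one_smul, dMat, Matrix.diagonal_mul_diagonal, ← Matrix.diagonal_one]
  congr 1
  funext j
  split_ifs <;> simp

def dGL (n : ℕ) (F : Type*) [Field F] (k : ℕ) : GL (Fin n) F :=
  glOfSq (dMat n F k) 1 one_ne_zero (dMat_sq k)

theorem dMat_add_one (k : ℕ) :
    dMat n F k + 1 = Matrix.diagonal (fun j : Fin n => if j.val < k then (0 : F) else 2) := by
  rw [dMat, ← Matrix.diagonal_one, Matrix.diagonal_add]
  congr 1
  funext j
  split_ifs
  · simp
  · norm_num

theorem one_sub_dMat (k : ℕ) :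
    1 - dMat n F k = Matrix.diagonal (fun j : Fin n => if j.val < k then (2 : F) else 0) := by
  rw [dMat, ← Matrix.diagonal_one, Matrix.diagonal_sub]
  congr 1
  funext j
  split_ifs
  · norm_num
  · simp

theorem rank_dMat_add_one (h2 : (2 : F) ≠ 0) (k : ℕ) (hk : k ≤ n) :
    (dMat n F k + 1).rank = n - k := by
  classical
  rw [dMat_add_one, Matrix.rank_diagonal, Fintype.card_subtype]
  have h1 : (Finset.univ.filter (fun i : Fin n => (if i.val < k then (0 : F) else 2) ≠ 0)) =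
      Finset.univ \ (Finset.univ.filter (fun i : Fin n => i.val < k)) := by
    ext i
    simp only [Finset.mem_filter, Finset.mem_univ, true_and, Finset.mem_sdiff]
    split_ifs with h
    · simp [h]
    · simp [h, h2]
  rw [h1, Finset.card_sdiff_of_subset (Finset.subset_univ _), Finset.card_univ, Fintype.card_fin,
    Fin.card_filter_val_lt, min_eq_right hk]

theorem rank_one_sub_dMat (h2 : (2 : F) ≠ 0) (k : ℕ) (hk : k ≤ n) :
    (1 - dMat n F k).rank = k := by
  classical
  rw [one_sub_dMat, Matrix.rank_diagonal, Fintype.card_subtype]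
  have h1 : (Finset.univ.filter (fun i : Fin n => (if i.val < k then (2 : F) else 0) ≠ 0)) =
      (Finset.univ.filter (fun i : Fin n => i.val < k)) := by
    ext i
    simp only [Finset.mem_filter, Finset.mem_univ, true_and]
    split_ifs with h
    · simp [h, h2]
    · simp [h]
  rw [h1, Fin.card_filter_val_lt, min_eq_right hk]

theorem finrank_ker_of_rank (M : Matrix (Fin n) (Fin n) F) :
    finrank F (LinearMap.ker (Matrix.toLin' M)) = n - M.rank := by
  have h := LinearMap.finrank_range_add_finrank_ker (Matrix.toLin' M)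
  rw [Module.finrank_fin_fun] at h
  have h' : M.rank = finrank F (LinearMap.range (Matrix.toLin' M)) := by
    rw [Matrix.rank, Matrix.toLin'_apply']
  omega

theorem finrank_ker_dMat (h2 : (2 : F) ≠ 0) (k : ℕ) (hk : k ≤ n) :
    finrank F (LinearMap.ker (Matrix.toLin' (dMat n F k) + LinearMap.id)) = k := by
  have h1 : Matrix.toLin' (dMat n F k) + LinearMap.id = Matrix.toLin' (dMat n F k + 1) := by
    rw [map_add, Matrix.toLin'_one]
  rw [h1, finrank_ker_of_rank, rank_dMat_add_one h2 k hk]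
  omega

theorem rank_conj (P : GL (Fin n) F) (A : Matrix (Fin n) (Fin n) F) :
    ((P : Matrix (Fin n) (Fin n) F) * A * ((P⁻¹ : GL (Fin n) F) : Matrix (Fin n) (Fin n) F)).rank =
      A.rank := by
  rw [Matrix.rank_mul_eq_left_of_isUnit_det, Matrix.rank_mul_eq_right_of_isUnit_det]
  · exact (Matrix.isUnit_iff_isUnit_det _).mp ⟨P, rfl⟩
  · exact (Matrix.isUnit_iff_isUnit_det _).mp ⟨P⁻¹, rfl⟩

theorem toLin'_sq (M : Matrix (Fin n) (Fin n) F) (z : F) (hM : M * M = z • 1) (v : Fin n → F) :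
    Matrix.toLin' M (Matrix.toLin' M v) = z • v := by
  rw [← Matrix.toLin'_mul_apply, hM, Matrix.toLin'_apply, Matrix.smul_mulVec, Matrix.one_mulVec]

theorem no_eigen (M : Matrix (Fin n) (Fin n) F) (z : F) (hM : M * M = z • 1) (hz : ¬ IsSquare z)
    (v : Fin n → F) (hv : v ≠ 0) : Matrix.toLin' M v ∉ Submodule.span F {v} := by
  intro hmem
  obtain ⟨c, hc⟩ := Submodule.mem_span_singleton.mp hmem
  have h1 := toLin'_sq M z hM v
  rw [← hc, map_smul, ← hc, smul_smul] at h1
  have h2 : (c * c - z) • v = 0 := by rw [sub_smul, h1, sub_self]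
  rcases smul_eq_zero.mp h2 with h | h
  · exact hz ⟨c, (sub_eq_zero.mp h).symm⟩
  · exact hv h

theorem exists_sq (hn : Even n) (μ : F) : ∃ M : Matrix (Fin n) (Fin n) F, M * M = μ • 1 := by
  obtain ⟨m, hm⟩ := hn
  let b : Basis (Fin m ⊕ Fin m) F (Fin n → F) :=
    (Pi.basisFun F (Fin n)).reindex ((finCongr hm).trans finSumFinEquiv.symm)
  let t : (Fin n → F) →ₗ[F] (Fin n → F) :=
    b.constr F (fun x => match x with
      | .inl j => b (.inr j)
      | .inr j => μ • b (.inl j))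
  have ht : t ∘ₗ t = μ • LinearMap.id := by
    apply b.ext
    rintro (j | j)
    · simp only [LinearMap.comp_apply, LinearMap.smul_apply, LinearMap.id_apply]
      rw [show t (b (.inl j)) = b (.inr j) from by simp [t]]
      simp [t]
    · simp only [LinearMap.comp_apply, LinearMap.smul_apply, LinearMap.id_apply]
      rw [show t (b (.inr j)) = μ • b (.inl j) from by simp [t], map_smul]
      simp [t]
  refine ⟨LinearMap.toMatrix' t, ?_⟩
  rw [← LinearMap.toMatrix'_comp, ht, map_smul, LinearMap.toMatrix'_id]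

section quot

local notation "PG" => GL (Fin n) F ⧸ Subgroup.center (GL (Fin n) F)

theorem mem_center_iff (x : GL (Fin n) F) :
    x ∈ Subgroup.center (GL (Fin n) F) ↔ ∃ c : F, (x : Matrix (Fin n) (Fin n) F) = c • 1 := by
  rw [Matrix.GeneralLinearGroup.mem_center_iff_val_mem_range_scalar]
  constructor
  · rintro ⟨c, hc⟩
    refine ⟨c, ?_⟩
    rw [← hc, Matrix.scalar_apply, Matrix.smul_one_eq_diagonal]
  · rintro ⟨c, hc⟩
    refine ⟨c, ?_⟩
    rw [hc, Matrix.scalar_apply, Matrix.smul_one_eq_diagonal]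

theorem mk_eq_one_iff (x : GL (Fin n) F) :
    ((x : GL (Fin n) F) : PG) = 1 ↔ ∃ c : F, (x : Matrix (Fin n) (Fin n) F) = c • 1 := by
  rw [QuotientGroup.eq_one_iff, mem_center_iff]

theorem mk_eq_of_smul (x y : GL (Fin n) F) (c : F)
    (h : (x : Matrix (Fin n) (Fin n) F) = c • (y : Matrix (Fin n) (Fin n) F)) :
    ((x : GL (Fin n) F) : PG) = ((y : GL (Fin n) F) : PG) := by
  rw [eq_comm, QuotientGroup.eq, mem_center_iff]
  refine ⟨c, ?_⟩
  rw [Units.val_mul, h, Matrix.mul_smul, ← Units.val_mul, inv_mul_cancel, Units.val_one]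

theorem isConj_mk (x y : GL (Fin n) F) (h : IsConj ((x : GL (Fin n) F) : PG) ((y : GL (Fin n) F) : PG)) :
    ∃ (P : GL (Fin n) F) (c : F),
      ((P * x * P⁻¹ : GL (Fin n) F) : Matrix (Fin n) (Fin n) F) = c • (y : Matrix (Fin n) (Fin n) F) := by
  rw [isConj_iff] at h
  obtain ⟨gbar, hg⟩ := h
  obtain ⟨P, rfl⟩ := QuotientGroup.mk_surjective gbar
  have h1 : ((P * x * P⁻¹ : GL (Fin n) F) : PG) = ((y : GL (Fin n) F) : PG) := hg
  rw [eq_comm, QuotientGroup.eq, mem_center_iff] at h1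
  obtain ⟨c, hc⟩ := h1
  refine ⟨P, c, ?_⟩
  have h2 : (P * x * P⁻¹ : GL (Fin n) F) = y * (y⁻¹ * (P * x * P⁻¹)) := by group
  rw [h2, Units.val_mul, hc, Matrix.mul_smul, mul_one]

theorem orderOf_mk_eq_two (x : GL (Fin n) F) (z : F)
    (hz : (x : Matrix (Fin n) (Fin n) F) * (x : Matrix (Fin n) (Fin n) F) = z • 1)
    (hns : ∀ c : F, (x : Matrix (Fin n) (Fin n) F) ≠ c • 1) :
    orderOf ((x : GL (Fin n) F) : PG) = 2 := by
  apply orderOf_eq_prime
  · rw [sq, ← QuotientGroup.mk_mul, mk_eq_one_iff]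
    exact ⟨z, by rw [Units.val_mul, hz]⟩
  · rw [Ne, mk_eq_one_iff]
    rintro ⟨c, hc⟩
    exact hns c hc

theorem exists_of_orderOf_two (g : PG) (h : orderOf g = 2) :
    ∃ x : GL (Fin n) F, ((x : GL (Fin n) F) : PG) = g ∧
      (∃ z : F, (x : Matrix (Fin n) (Fin n) F) * (x : Matrix (Fin n) (Fin n) F) = z • 1) ∧
      ∀ c : F, (x : Matrix (Fin n) (Fin n) F) ≠ c • 1 := by
  obtain ⟨x, rfl⟩ := QuotientGroup.mk_surjective g
  refine ⟨x, rfl, ?_, ?_⟩
  · have h1 : ((x : GL (Fin n) F) : PG) ^ 2 = 1 := by rw [← h, pow_orderOf_eq_one]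
    rw [sq, ← QuotientGroup.mk_mul, mk_eq_one_iff] at h1
    obtain ⟨c, hc⟩ := h1
    exact ⟨c, by rw [← Units.val_mul, hc]⟩
  · intro c hc
    have h1 : ((x : GL (Fin n) F) : PG) = 1 := (mk_eq_one_iff x).mpr ⟨c, hc⟩
    rw [h1, orderOf_one] at h
    omega

theorem conj_dGL (h2 : (2 : F) ≠ 0) (x : GL (Fin n) F)
    (hx : (x : Matrix (Fin n) (Fin n) F) * (x : Matrix (Fin n) (Fin n) F) = (1 : F) • 1)
    (k : ℕ) (hk : k ≤ n)
    (hfr : finrank F (LinearMap.ker
      (Matrix.toLin' (x : Matrix (Fin n) (Fin n) F) + LinearMap.id)) = k) :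
    IsConj x (dGL n F k) := by
  obtain ⟨g, hg⟩ := InvolConjLin.conj_of_finrank h2
    (Matrix.toLin' (x : Matrix (Fin n) (Fin n) F)) (Matrix.toLin' (dMat n F k))
    (fun v => by rw [toLin'_sq _ 1 hx, one_smul])
    (fun v => by rw [toLin'_sq _ 1 (dMat_sq k), one_smul])
    (by rw [hfr, finrank_ker_dMat h2 k hk])
  exact isConj_of_lin x (dGL n F k) g hg

/-- an involution that is not scalar has both eigenvalues -/
theorem finrank_bounds (h2 : (2 : F) ≠ 0) (x : Matrix (Fin n) (Fin n) F)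
    (hx : x * x = (1 : F) • 1) (hns : ∀ c : F, x ≠ c • 1) :
    1 ≤ finrank F (LinearMap.ker (Matrix.toLin' x + LinearMap.id)) ∧
    1 ≤ finrank F (LinearMap.ker (Matrix.toLin' x - LinearMap.id)) ∧
    finrank F (LinearMap.ker (Matrix.toLin' x - LinearMap.id)) +
      finrank F (LinearMap.ker (Matrix.toLin' x + LinearMap.id)) = n := by
  have ht : ∀ v, Matrix.toLin' x (Matrix.toLin' x v) = v := fun v => by
    rw [toLin'_sq _ 1 hx, one_smul]
  have hc := InvolConjLin.isCompl_eigen h2 (Matrix.toLin' x) ht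
  have hsum := Submodule.finrank_add_eq_of_isCompl hc
  rw [Module.finrank_fin_fun] at hsum
  refine ⟨?_, ?_, hsum⟩
  · by_contra hlt
    have h0 : finrank F (LinearMap.ker (Matrix.toLin' x + LinearMap.id)) = 0 := by omega
    rw [Submodule.finrank_eq_zero] at h0
    have htop : LinearMap.ker (Matrix.toLin' x - LinearMap.id) = ⊤ := by
      have := hc.sup_eq_top
      rwa [h0, sup_bot_eq] at this
    apply hns 1
    rw [one_smul]
    apply Matrix.toLin'.injective
    apply LinearMap.ext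
    intro v
    have hv : v ∈ LinearMap.ker (Matrix.toLin' x - LinearMap.id) := by rw [htop]; trivial
    rw [LinearMap.mem_ker, LinearMap.sub_apply, LinearMap.id_apply, sub_eq_zero] at hv
    rw [hv, Matrix.toLin'_one, LinearMap.id_apply]
  · by_contra hlt
    have h0 : finrank F (LinearMap.ker (Matrix.toLin' x - LinearMap.id)) = 0 := by omega
    rw [Submodule.finrank_eq_zero] at h0
    have htop : LinearMap.ker (Matrix.toLin' x + LinearMap.id) = ⊤ := by
      have := hc.sup_eq_top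
      rwa [h0, bot_sup_eq] at this
    apply hns (-1)
    apply Matrix.toLin'.injective
    apply LinearMap.ext
    intro v
    have hv : v ∈ LinearMap.ker (Matrix.toLin' x + LinearMap.id) := by rw [htop]; trivial
    rw [LinearMap.mem_ker, LinearMap.add_apply, LinearMap.id_apply] at hv
    rw [eq_neg_of_add_eq_zero_left hv, map_smul, Matrix.toLin'_one, LinearMap.smul_apply,
      LinearMap.id_apply, neg_smul, one_smul]

theorem exists_sq_of_nonsq [Fintype F] (h2 : (2 : F) ≠ 0) (z μ : F) (hz : ¬ IsSquare z)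
    (hμ : ¬ IsSquare μ) : ∃ c : F, c ≠ 0 ∧ z = μ * (c * c) := by
  have hchar : ringChar F ≠ 2 := by
    intro h
    apply h2
    have := CharP.cast_eq_zero F (ringChar F)
    rw [h] at this
    exact_mod_cast this
  have hz0 : z ≠ 0 := by
    rintro rfl
    exact hz ⟨0, by rw [mul_zero]⟩
  have hμ0 : μ ≠ 0 := by
    rintro rfl
    exact hμ ⟨0, by rw [mul_zero]⟩
  have h1 : z ^ (Fintype.card F / 2) = -1 := by
    rcases FiniteField.pow_dichotomy hchar hz0 with h | h
    · exact absurd ((FiniteField.isSquare_iff hchar hz0).mpr h) hz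
    · exact h
  have h3 : μ ^ (Fintype.card F / 2) = -1 := by
    rcases FiniteField.pow_dichotomy hchar hμ0 with h | h
    · exact absurd ((FiniteField.isSquare_iff hchar hμ0).mpr h) hμ
    · exact h
  have h4 : IsSquare (z * μ⁻¹) := by
    rw [FiniteField.isSquare_iff hchar (mul_ne_zero hz0 (inv_ne_zero hμ0)), mul_pow, inv_pow, h1, h3]
    norm_num
  obtain ⟨c, hc⟩ := h4
  refine ⟨c, ?_, ?_⟩
  · rintro rfl
    rw [mul_zero] at hc
    exact mul_ne_zero hz0 (inv_ne_zero hμ0) hc
  · rw [← hc, mul_comm z, ← mul_assoc, mul_inv_cancel₀ hμ0, one_mul]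

theorem classify [Fintype F] (h2 : (2 : F) ≠ 0) (μ : F) (hμ0 : μ ≠ 0) (hμ : ¬ IsSquare μ)
    (g : PG) (hg : orderOf g = 2) :
    (∃ k, 1 ≤ k ∧ k ≤ n / 2 ∧ IsConj g ((dGL n F k : GL (Fin n) F) : PG)) ∨
    (Even n ∧ ∀ (M : Matrix (Fin n) (Fin n) F) (hM : M * M = μ • 1),
      IsConj g ((glOfSq M μ hμ0 hM : GL (Fin n) F) : PG)) := by
  obtain ⟨x, rfl, ⟨z, hz⟩, hns⟩ := exists_of_orderOf_two g hg
  have hz0 : z ≠ 0 := by
    rintro rfl
    apply hns 0
    rw [zero_smul] at hz ⊢
    have h1 : (x : Matrix (Fin n) (Fin n) F) =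
        (x : Matrix (Fin n) (Fin n) F) * (x : Matrix (Fin n) (Fin n) F) *
          ((x⁻¹ : GL (Fin n) F) : Matrix (Fin n) (Fin n) F) := by
      rw [mul_assoc, ← Units.val_mul, mul_inv_cancel, Units.val_one, mul_one]
    rw [h1, hz, zero_mul]
  by_cases hsq : IsSquare z
  · left
    obtain ⟨w, hw⟩ := hsq
    have hw0 : w ≠ 0 := by
      rintro rfl
      rw [mul_zero] at hw
      exact hz0 hw
    -- generic: for a scalar `a` with `a * a * z = 1`
    have key : ∀ a : F, a * a * z = 1 → ∃ y : GL (Fin n) F,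
        (y : Matrix (Fin n) (Fin n) F) = a • (x : Matrix (Fin n) (Fin n) F) ∧
        ((y : GL (Fin n) F) : PG) = ((x : GL (Fin n) F) : PG) ∧
        (y : Matrix (Fin n) (Fin n) F) * (y : Matrix (Fin n) (Fin n) F) = (1 : F) • 1 ∧
        ∀ c : F, (y : Matrix (Fin n) (Fin n) F) ≠ c • 1 := by
      intro a ha
      have ha0 : a ≠ 0 := by
        rintro rfl
        rw [zero_mul, zero_mul] at ha
        exact zero_ne_one ha
      have hy : (a • (x : Matrix (Fin n) (Fin n) F)) * (a • (x : Matrix (Fin n) (Fin n) F)) =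
          (1 : F) • 1 := by
        rw [Matrix.smul_mul, Matrix.mul_smul, hz, smul_smul, smul_smul, ha]
      refine ⟨glOfSq _ 1 one_ne_zero hy, rfl, mk_eq_of_smul _ x a rfl, hy, ?_⟩
      intro c hc
      apply hns (a⁻¹ * c)
      rw [coe_glOfSq] at hc
      rw [← smul_smul, ← hc, smul_smul, inv_mul_cancel₀ ha0, one_smul]
    have hww : w⁻¹ * w⁻¹ * z = 1 := by
      rw [hw]
      field_simp
    obtain ⟨y, hyx, hymk, hysq, hyns⟩ := key w⁻¹ hww
    obtain ⟨hb1, hb2, hb3⟩ := finrank_bounds h2 _ hysq hyns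
    by_cases hk : finrank F (LinearMap.ker
        (Matrix.toLin' (y : Matrix (Fin n) (Fin n) F) + LinearMap.id)) ≤ n / 2
    · refine ⟨_, hb1, hk, ?_⟩
      rw [← hymk]
      exact (QuotientGroup.mk' _).map_isConj (conj_dGL h2 y hysq _ (by omega) rfl)
    · have hww' : (-w⁻¹) * (-w⁻¹) * z = 1 := by rw [neg_mul_neg]; exact hww
      obtain ⟨y', hyx', hymk', hysq', hyns'⟩ := key (-w⁻¹) hww'
      have hyy : (y' : Matrix (Fin n) (Fin n) F) = -(y : Matrix (Fin n) (Fin n) F) := by
        rw [hyx', hyx, neg_smul]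
      have hker : LinearMap.ker (Matrix.toLin' (y' : Matrix (Fin n) (Fin n) F) + LinearMap.id) =
          LinearMap.ker (Matrix.toLin' (y : Matrix (Fin n) (Fin n) F) - LinearMap.id) := by
        ext v
        rw [LinearMap.mem_ker, LinearMap.mem_ker, hyy, map_neg, LinearMap.add_apply,
          LinearMap.sub_apply, LinearMap.neg_apply, LinearMap.id_apply,
          neg_add_eq_zero, sub_eq_zero]
      refine ⟨finrank F (LinearMap.ker
        (Matrix.toLin' (y : Matrix (Fin n) (Fin n) F) - LinearMap.id)), hb2, by omega, ?_⟩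
      rw [← hymk']
      exact (QuotientGroup.mk' _).map_isConj (conj_dGL h2 y' hysq' _ (by omega)
        (by rw [hker]))
  · right
    have hne := no_eigen _ z hz hsq
    have hev := InvolConjLin.even_of_no_eigen z (Matrix.toLin' (x : Matrix (Fin n) (Fin n) F))
      (toLin'_sq _ z hz) hne
    rw [Module.finrank_fin_fun] at hev
    refine ⟨hev, fun M hM => ?_⟩
    obtain ⟨c, hc0, hc⟩ := exists_sq_of_nonsq h2 z μ hsq hμ
    have hy : (c⁻¹ • (x : Matrix (Fin n) (Fin n) F)) * (c⁻¹ • (x : Matrix (Fin n) (Fin n) F)) =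
        μ • 1 := by
      rw [Matrix.smul_mul, Matrix.mul_smul, hz, smul_smul, smul_smul, hc]
      congr 1
      field_simp
    have hmk : ((glOfSq _ μ hμ0 hy : GL (Fin n) F) : PG) = ((x : GL (Fin n) F) : PG) :=
      mk_eq_of_smul _ x c⁻¹ rfl
    rw [← hmk]
    obtain ⟨g, hg⟩ := InvolConjLin.conj_of_no_eigen μ
      (Matrix.toLin' (c⁻¹ • (x : Matrix (Fin n) (Fin n) F))) (Matrix.toLin' M)
      (toLin'_sq _ μ hy) (toLin'_sq _ μ hM) (no_eigen _ μ hy hμ) (no_eigen _ μ hM hμ)
    exact (QuotientGroup.mk' _).map_isConj (isConj_of_lin (glOfSq _ μ hμ0 hy) (glOfSq M μ hμ0 hM) g hg)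

theorem smul_one_inj (hn : 1 ≤ n) (a b : F)
    (h : (a • (1 : Matrix (Fin n) (Fin n) F)) = b • 1) : a = b := by
  have := congrFun (congrFun h ⟨0, hn⟩) ⟨0, hn⟩
  simpa using this

/-- conjugating a matrix with scalar square -/
theorem conj_sq (P : GL (Fin n) F) (A B : Matrix (Fin n) (Fin n) F) (a b c : F)
    (hA : A * A = a • 1) (hB : B * B = b • 1) (hn : 1 ≤ n)
    (h : (P : Matrix (Fin n) (Fin n) F) * A * ((P⁻¹ : GL (Fin n) F) : Matrix (Fin n) (Fin n) F) =
      c • B) : a = c * c * b := by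
  have h1 : ((P : Matrix (Fin n) (Fin n) F) * A *
      ((P⁻¹ : GL (Fin n) F) : Matrix (Fin n) (Fin n) F)) *
      ((P : Matrix (Fin n) (Fin n) F) * A *
      ((P⁻¹ : GL (Fin n) F) : Matrix (Fin n) (Fin n) F)) = a • 1 := by
    have : ((P : Matrix (Fin n) (Fin n) F) * A *
      ((P⁻¹ : GL (Fin n) F) : Matrix (Fin n) (Fin n) F)) *
      ((P : Matrix (Fin n) (Fin n) F) * A *
      ((P⁻¹ : GL (Fin n) F) : Matrix (Fin n) (Fin n) F)) =
      (P : Matrix (Fin n) (Fin n) F) * (A * ((((P⁻¹ : GL (Fin n) F) : Matrix (Fin n) (Fin n) F)) *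
      (P : Matrix (Fin n) (Fin n) F)) * A) *
      ((P⁻¹ : GL (Fin n) F) : Matrix (Fin n) (Fin n) F) := by
      simp only [mul_assoc]
    rw [this, ← Units.val_mul, inv_mul_cancel, Units.val_one, mul_one, hA, Matrix.mul_smul,
      Matrix.smul_mul, mul_one, ← Units.val_mul, mul_inv_cancel, Units.val_one]
  rw [h, Matrix.smul_mul, Matrix.mul_smul, hB, smul_smul, smul_smul] at h1
  exact (smul_one_inj hn _ _ h1).symm

theorem dGL_inj (h2 : (2 : F) ≠ 0) (hn : 1 ≤ n) (k l : ℕ) (hk : k ≤ n / 2) (hl : l ≤ n / 2)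
    (h : IsConj ((dGL n F k : GL (Fin n) F) : PG) ((dGL n F l : GL (Fin n) F) : PG)) : k = l := by
  obtain ⟨P, c, hc⟩ := isConj_mk _ _ h
  rw [Units.val_mul, Units.val_mul] at hc
  change (P : Matrix (Fin n) (Fin n) F) * dMat n F k * _ = c • dMat n F l at hc
  have hcc := conj_sq P _ _ 1 1 c (dMat_sq k) (dMat_sq l) hn hc
  rw [mul_one] at hcc
  have hr := rank_conj P (dMat n F k + 1)
  rw [mul_add, add_mul, hc, mul_one, ← Units.val_mul, mul_inv_cancel, Units.val_one,
    rank_dMat_add_one h2 k (by omega)] at hr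
  rcases mul_self_eq_one_iff.mp hcc.symm with rfl | rfl
  · rw [one_smul, rank_dMat_add_one h2 l (by omega)] at hr
    omega
  · have : (-1 : F) • dMat n F l + 1 = 1 - dMat n F l := by
      rw [neg_smul, one_smul]; abel
    rw [this, rank_one_sub_dMat h2 l (by omega)] at hr
    omega

theorem dGL_not_conj (hn : 1 ≤ n) (k : ℕ) (μ : F) (hμ0 : μ ≠ 0) (hμ : ¬ IsSquare μ)
    (M : Matrix (Fin n) (Fin n) F) (hM : M * M = μ • 1)
    (h : IsConj ((dGL n F k : GL (Fin n) F) : PG) ((glOfSq M μ hμ0 hM : GL (Fin n) F) : PG)) :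
    False := by
  obtain ⟨P, c, hc⟩ := isConj_mk _ _ h
  rw [Units.val_mul, Units.val_mul] at hc
  change (P : Matrix (Fin n) (Fin n) F) * dMat n F k * _ = c • M at hc
  have hcc := conj_sq P _ _ 1 μ c (dMat_sq k) hM hn hc
  have hc0 : c ≠ 0 := by
    rintro rfl
    rw [zero_mul, zero_mul] at hcc
    exact one_ne_zero hcc
  apply hμ
  refine ⟨c⁻¹, ?_⟩
  field_simp
  rw [hcc]; ring

theorem orderOf_dGL (h2 : (2 : F) ≠ 0) (hn : 2 ≤ n) (k : ℕ) (hk1 : 1 ≤ k) (hk : k ≤ n / 2) :
    orderOf ((dGL n F k : GL (Fin n) F) : PG) = 2 := by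
  apply orderOf_mk_eq_two _ 1 (dMat_sq k)
  intro c hc
  change dMat n F k = c • 1 at hc
  have e1 := congrFun (congrFun hc ⟨0, by omega⟩) ⟨0, by omega⟩
  have e2 := congrFun (congrFun hc ⟨n - 1, by omega⟩) ⟨n - 1, by omega⟩
  rw [dMat, Matrix.diagonal_apply_eq, Matrix.smul_apply, Matrix.one_apply_eq] at e1 e2
  rw [if_pos (by show 0 < k; omega)] at e1
  rw [if_neg (by show ¬ n - 1 < k; omega)] at e2
  apply h2
  have : (1 : F) = -1 := e2.trans e1.symm
  linear_combination this

theorem orderOf_glOfSq (hn : 1 ≤ n) (μ : F) (hμ0 : μ ≠ 0) (hμ : ¬ IsSquare μ)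
    (M : Matrix (Fin n) (Fin n) F) (hM : M * M = μ • 1) :
    orderOf ((glOfSq M μ hμ0 hM : GL (Fin n) F) : PG) = 2 := by
  apply orderOf_mk_eq_two _ μ hM
  intro c hc
  change M = c • 1 at hc
  apply hμ
  refine ⟨c, ?_⟩
  rw [hc, Matrix.smul_mul, Matrix.mul_smul, mul_one, smul_smul] at hM
  exact (smul_one_inj hn _ _ hM).symm

theorem main [Fintype F] (h2 : (2 : F) ≠ 0) (hn : 2 ≤ n) :
    Nat.card {C : ConjClasses PG // ∃ g : PG, ConjClasses.mk g = C ∧ orderOf g = 2} =
      n / 2 + (if Even n then 1 else 0) := by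
  have hchar : ringChar F ≠ 2 := by
    intro h
    apply h2
    have := CharP.cast_eq_zero F (ringChar F)
    rw [h] at this
    exact_mod_cast this
  obtain ⟨μ, hμ⟩ := FiniteField.exists_nonsquare hchar
  have hμ0 : μ ≠ 0 := by
    rintro rfl
    exact hμ ⟨0, by rw [mul_zero]⟩
  by_cases hev : Even n
  · obtain ⟨M, hM⟩ := exists_sq (n := n) hev μ
    rw [if_pos hev]
    rw [card_classes (fun g : PG => orderOf g = 2) (T := Option (Fin (n / 2)))
      (fun τ => match τ with
        | none => ((glOfSq M μ hμ0 hM : GL (Fin n) F) : PG)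
        | some i => ((dGL n F (i.val + 1) : GL (Fin n) F) : PG))]
    · rw [Nat.card_eq_fintype_card, Fintype.card_option, Fintype.card_fin]
    · rintro (_ | i)
      · exact orderOf_glOfSq (by omega) μ hμ0 hμ M hM
      · exact orderOf_dGL h2 hn _ (by omega) (by have := i.2; omega)
    · rintro (_ | i) (_ | j) h
      · rfl
      · exact (dGL_not_conj (by omega) _ μ hμ0 hμ M hM h.symm).elim
      · exact (dGL_not_conj (by omega) _ μ hμ0 hμ M hM h).elim
      · have := dGL_inj h2 (by omega) _ _ (by have := i.2; omega) (by have := j.2; omega) h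
        congr 1
        apply Fin.ext
        omega
    · intro g hg
      rcases classify h2 μ hμ0 hμ g hg with ⟨k, hk1, hk, hc⟩ | ⟨_, hc⟩
      · exact ⟨some ⟨k - 1, by omega⟩, by
          have : k - 1 + 1 = k := by omega
          simp only [this]
          exact hc⟩
      · exact ⟨none, hc M hM⟩
  · rw [if_neg hev]
    rw [card_classes (fun g : PG => orderOf g = 2) (T := Fin (n / 2))
      (fun i => ((dGL n F (i.val + 1) : GL (Fin n) F) : PG))]
    · rw [Nat.card_eq_fintype_card, Fintype.card_fin, add_zero]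
    · intro i
      exact orderOf_dGL h2 hn _ (by omega) (by have := i.2; omega)
    · intro i j h
      have := dGL_inj h2 (by omega) _ _ (by have := i.2; omega) (by have := j.2; omega) h
      apply Fin.ext
      omega
    · intro g hg
      rcases classify h2 μ hμ0 hμ g hg with ⟨k, hk1, hk, hc⟩ | ⟨he, _⟩
      · exact ⟨⟨k - 1, by omega⟩, by
          have : k - 1 + 1 = k := by omega
          simp only [this]
          exact hc⟩
      · exact absurd he hev

end quot

end Cfsg.Agent.Lib.H13.PGLInvol
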