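import Mathlib

set_option autoImplicit false

namespace Cfsg.Agent.Lib.H13.PGLPrime

section count

variable (n r : ℕ) [NeZero r]

/-- all multiplicity vectors -/
abbrev AllM := {a : ZMod r → ℕ // ∑ k, a k = n}

/-- non-concentrated multiplicity vectors -/
abbrev NC := {a : ZMod r → ℕ // ∑ k, a k = n ∧ ∀ k, a k ≠ n}

noncomputable instance : Fintype (AllM n r) :=
  Fintype.ofEquiv _ (Sym.equivNatSumOfFintype (ZMod r) n)

theorem card_AllM : Fintype.card (AllM n r) = Nat.choose (r + n - 1) n := by
  rw [Fintype.card_congr (Sym.equivNatSumOfFintype (ZMod r) n).symm, Sym.card_sym_eq_choose,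
    ZMod.card]

instance : Finite (NC n r) :=
  Finite.of_injective (fun a : NC n r => (⟨a.1, a.2.1⟩ : AllM n r))
    (fun a b h => Subtype.ext (congrArg (fun x : AllM n r => x.1) h))

theorem sum_shift (a : ZMod r → ℕ) (s : ZMod r) : ∑ k, a (k - s) = ∑ k, a k :=
  Equiv.sum_comp (Equiv.subRight s) a

instance : MulAction (Multiplicative (ZMod r)) (NC n r) where
  smul s a := ⟨fun k => a.1 (k - Multiplicative.toAdd s), by
    rw [sum_shift]; exact a.2.1, fun k => a.2.2 _⟩
  one_smul a := by
    apply Subtype.ext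
    funext k
    show a.1 (k - 0) = a.1 k
    rw [sub_zero]
  mul_smul s t a := by
    apply Subtype.ext
    funext k
    show a.1 (k - (Multiplicative.toAdd s + Multiplicative.toAdd t)) =
      a.1 (k - Multiplicative.toAdd s - Multiplicative.toAdd t)
    rw [sub_sub]

theorem smul_val (s : Multiplicative (ZMod r)) (a : NC n r) (k : ZMod r) :
    (s • a).1 k = a.1 (k - Multiplicative.toAdd s) := rfl

theorem const_of_fixed (hr : r.Prime) (a : ZMod r → ℕ) (s : ZMod r) (hs : s ≠ 0)
    (h : ∀ k, a (k - s) = a k) (k : ZMod r) : a k = a 0 := by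
  haveI : Fact r.Prime := ⟨hr⟩
  have h1 : ∀ m : ℕ, a (0 - (m : ZMod r) * s) = a 0 := by
    intro m
    induction m with
    | zero => simp
    | succ m ih =>
      rw [← ih, Nat.cast_succ, add_mul, one_mul, ← sub_sub, h]
  have h2 : k = 0 - ((-k / s).val : ZMod r) * s := by
    rw [ZMod.natCast_zmod_val, div_mul_cancel₀ _ hs]
    ring
  rw [h2]
  exact h1 _

/-- the concentrated vector -/
def conc (k : ZMod r) : ZMod r → ℕ := fun j => if j = k then n else 0

theorem sum_conc (k : ZMod r) : ∑ j, conc n r k j = n := by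
  unfold conc
  rw [Finset.sum_ite_eq' Finset.univ k]
  simp

theorem card_conc (hn : 1 ≤ n) :
    Fintype.card {a : AllM n r // ∃ k, a.1 k = n} = r := by
  classical
  have e : ZMod r ≃ {a : AllM n r // ∃ k, a.1 k = n} := by
    refine Equiv.ofBijective (fun k => ⟨⟨conc n r k, sum_conc n r k⟩, k, by simp [conc]⟩) ⟨?_, ?_⟩
    · intro k k' h
      have h1 := congrArg (fun x : {a : AllM n r // ∃ k, a.1 k = n} => x.1.1 k) h
      simp only [conc, if_true] at h1
      by_contra hne
      rw [if_neg hne] at h1
      omega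
    · rintro ⟨⟨a, ha⟩, k, hk⟩
      refine ⟨k, ?_⟩
      apply Subtype.ext
      apply Subtype.ext
      funext j
      show conc n r k j = a j
      unfold conc
      by_cases hj : j = k
      · rw [if_pos hj, hj]; exact hk.symm
      · rw [if_neg hj]
        have h1 : a k + a j ≤ ∑ i, a i := by
          rw [← Finset.sum_pair (f := a) (Ne.symm hj)]
          exact Finset.sum_le_sum_of_subset (Finset.subset_univ _)
        simp only at hk
        omega
  rw [← Fintype.card_congr e, ZMod.card]

theorem card_NC (hn : 1 ≤ n) : Nat.card (NC n r) = Nat.choose (r + n - 1) n - r := by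
  classical
  have e : NC n r ≃ {a : AllM n r // ¬ ∃ k, a.1 k = n} :=
    { toFun := fun a => ⟨⟨a.1, a.2.1⟩, fun ⟨k, hk⟩ => a.2.2 k hk⟩
      invFun := fun a => ⟨a.1.1, a.1.2, fun k hk => a.2 ⟨k, hk⟩⟩
      left_inv := fun a => rfl
      right_inv := fun a => rfl }
  rw [Nat.card_congr e, Nat.card_eq_fintype_card, Fintype.card_subtype_compl, card_AllM,
    card_conc n r hn]

theorem le_choose (hn : 1 ≤ n) : r ≤ Nat.choose (r + n - 1) n := by
  classical
  rw [← card_AllM]
  calc r = Fintype.card {a : AllM n r // ∃ k, a.1 k = n} := (card_conc n r hn).symm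
    _ ≤ _ := Fintype.card_subtype_le _

theorem card_fixedBy_one :
    Nat.card (MulAction.fixedBy (NC n r) (1 : Multiplicative (ZMod r))) = Nat.card (NC n r) := by
  rw [MulAction.fixedBy_one_eq_univ]
  exact Nat.card_congr (Equiv.Set.univ _)

theorem fixed_const (hr : r.Prime) (s : Multiplicative (ZMod r)) (hs : s ≠ 1) (a : NC n r)
    (ha : a ∈ MulAction.fixedBy (NC n r) s) : ∀ k, a.1 k = a.1 0 := by
  rw [MulAction.mem_fixedBy] at ha
  apply const_of_fixed r hr a.1 (Multiplicative.toAdd s)
  · intro h
    exact hs (Multiplicative.toAdd.injective (by rw [h]; rfl))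
  · intro k
    rw [← smul_val, ha]

theorem fixed_sum (hr : r.Prime) (s : Multiplicative (ZMod r)) (hs : s ≠ 1) (a : NC n r)
    (ha : a ∈ MulAction.fixedBy (NC n r) s) : r * a.1 0 = n := by
  have h1 := a.2.1
  rw [Finset.sum_congr rfl (fun k _ => fixed_const n r hr s hs a ha k), Finset.sum_const,
    Finset.card_univ, ZMod.card, smul_eq_mul] at h1
  exact h1

theorem card_fixedBy_ne (hr : r.Prime) (hn : 1 ≤ n) (s : Multiplicative (ZMod r)) (hs : s ≠ 1) :
    Nat.card (MulAction.fixedBy (NC n r) s) = if r ∣ n then 1 else 0 := by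
  split_ifs with hdvd
  · rw [Nat.card_eq_one_iff_unique]
    constructor
    · constructor
      rintro ⟨a, ha⟩ ⟨b, hb⟩
      apply Subtype.ext
      apply Subtype.ext
      funext k
      show a.1 k = b.1 k
      rw [fixed_const n r hr s hs a ha k, fixed_const n r hr s hs b hb k]
      have h1 := fixed_sum n r hr s hs a ha
      have h2 := fixed_sum n r hr s hs b hb
      exact Nat.eq_of_mul_eq_mul_left hr.pos (h1.trans h2.symm)
    · obtain ⟨c, hc⟩ := hdvd
      have hc0 : c ≠ n := by
        intro h
        have := hr.two_le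
        rw [h] at hc
        nlinarith
      refine ⟨⟨⟨fun _ => c, ?_, fun _ => hc0⟩, ?_⟩⟩
      · rw [Finset.sum_const, Finset.card_univ, ZMod.card, smul_eq_mul, hc]
      · rw [MulAction.mem_fixedBy]
        apply Subtype.ext
        funext k
        rfl
  · rw [Nat.card_eq_zero]
    left
    constructor
    rintro ⟨a, ha⟩
    exact hdvd ⟨a.1 0, (fixed_sum n r hr s hs a ha).symm⟩

theorem burnside (hr : r.Prime) (hn : 1 ≤ n) :
    Nat.card (Quotient (MulAction.orbitRel (Multiplicative (ZMod r)) (NC n r))) * r =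
      (Nat.choose (r + n - 1) n - r) + (r - 1) * (if r ∣ n then 1 else 0) := by
  classical
  haveI : Fintype (NC n r) := Fintype.ofFinite _
  have h := MulAction.sum_card_fixedBy_eq_card_orbits_mul_card_group
    (Multiplicative (ZMod r)) (NC n r)
  rw [Fintype.card_multiplicative, ZMod.card] at h
  rw [Nat.card_eq_fintype_card, ← h, ← Finset.add_sum_erase _ _ (Finset.mem_univ 1)]
  congr 1
  · rw [← Nat.card_eq_fintype_card, card_fixedBy_one, card_NC n r hn]
  · rw [Finset.sum_congr rfl (g := fun _ => if r ∣ n then 1 else 0), Finset.sum_const,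
      Finset.card_erase_of_mem (Finset.mem_univ _), Finset.card_univ, Fintype.card_multiplicative,
      ZMod.card, smul_eq_mul]
    intro s hs
    rw [← Nat.card_eq_fintype_card]
    exact card_fixedBy_ne n r hr hn s (Finset.ne_of_mem_erase hs)

end count

end Cfsg.Agent.Lib.H13.PGLPrime
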