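import Cfsg.Agent.Lib.H13.SSClass
import Cfsg.Agent.Lib.H13.PGLInvol
import Cfsg.Agent.Lib.H13.RotCount

set_option autoImplicit false

namespace Cfsg.Agent.Lib.H13.PGLPrime


open Polynomial Module Matrix

variable {F : Type*} [Field F] {n r : ℕ}

/-- powers of `ζ` indexed by `ZMod r` -/
def zp (ζ : F) (k : ZMod r) : F := ζ ^ k.val

theorem zp_zero [NeZero r] (ζ : F) : zp ζ (0 : ZMod r) = 1 := by
  rw [zp, ZMod.val_zero, pow_zero]

theorem zp_add [NeZero r] (ζ : F) (hζ : ζ ^ r = 1) (k s : ZMod r) :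
    zp ζ (k + s) = zp ζ k * zp ζ s := by
  unfold zp
  rw [← pow_add, ZMod.val_add]
  exact (pow_eq_pow_mod _ hζ).symm

theorem zp_pow [NeZero r] (ζ : F) (hζ : ζ ^ r = 1) (k : ZMod r) : zp ζ k ^ r = 1 := by
  rw [zp, ← pow_mul, mul_comm, pow_mul, hζ, one_pow]

theorem zp_ne_zero [NeZero r] (ζ : F) (hζ : ζ ^ r = 1) (k : ZMod r) : zp ζ k ≠ 0 := by
  intro h
  have := zp_pow ζ hζ k
  rw [h, zero_pow (NeZero.ne r)] at this
  exact zero_ne_one this

theorem zp_injective [NeZero r] (ζ : F) (hζ : IsPrimitiveRoot ζ r) :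
    Function.Injective (zp (r := r) ζ) := by
  intro k s h
  exact ZMod.val_injective r (hζ.pow_inj (ZMod.val_lt k) (ZMod.val_lt s) h)

theorem exists_zp [NeZero r] (ζ : F) (hζ : IsPrimitiveRoot ζ r) (c : F) (hc : c ^ r = 1) :
    ∃ k : ZMod r, zp ζ k = c := by
  obtain ⟨i, hi, h⟩ := hζ.eq_pow_of_pow_eq_one hc
  exact ⟨(i : ZMod r), by rw [zp, ZMod.val_natCast_of_lt hi, h]⟩

/-- linear factors -/
noncomputable def fA (ζ : F) (k : ZMod r) : F[X] := X - C (zp ζ k)

theorem prod_fA [NeZero r] (ζ : F) (hζ : IsPrimitiveRoot ζ r) :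
    ∏ k : ZMod r, fA ζ k = X ^ r - 1 := by
  classical
  rw [X_pow_sub_one_eq_prod (Nat.pos_of_ne_zero (NeZero.ne r)) hζ]
  have himg : (Finset.univ : Finset (ZMod r)).image (zp ζ) = nthRootsFinset r (1 : F) := by
    apply Finset.eq_of_subset_of_card_le
    · intro c hc
      rw [Finset.mem_image] at hc
      obtain ⟨k, _, rfl⟩ := hc
      rw [mem_nthRootsFinset (Nat.pos_of_ne_zero (NeZero.ne r))]
      exact zp_pow ζ hζ.pow_eq_one k
    · rw [hζ.card_nthRootsFinset, Finset.card_image_of_injective _ (zp_injective ζ hζ),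
        Finset.card_univ, ZMod.card]
  rw [← himg, Finset.prod_image (fun a _ b _ h => zp_injective ζ hζ h)]
  rfl

theorem fA_irreducible (ζ : F) (k : ZMod r) : Irreducible (fA ζ k) := irreducible_X_sub_C _

theorem fA_coprime [NeZero r] (ζ : F) (hζ : IsPrimitiveRoot ζ r) (i j : ZMod r) (h : i ≠ j) :
    IsCoprime (fA ζ i) (fA ζ j) :=
  pairwise_coprime_X_sub_C (zp_injective ζ hζ) h

theorem fA_natDegree (ζ : F) (k : ZMod r) : (fA ζ k).natDegree = 1 := natDegree_X_sub_C _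

theorem aeval_toLin' (x : Matrix (Fin n) (Fin n) F) (p : F[X]) :
    aeval (Matrix.toLin' x) p = Matrix.toLin' (aeval x p) :=
  aeval_algHom_apply (Matrix.toLinAlgEquiv' (R := F) (n := Fin n)) x p

theorem aeval_pow_sub (x : Matrix (Fin n) (Fin n) F) (z : F) (h : x ^ r = z • 1) :
    aeval (Matrix.toLin' x) (X ^ r - C z) = 0 := by
  rw [aeval_toLin', map_sub, map_pow, aeval_X, aeval_C, h, Algebra.algebraMap_eq_smul_one,
    sub_self, map_zero]

theorem pow_of_aeval (x : Matrix (Fin n) (Fin n) F) (z : F)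
    (h : aeval (Matrix.toLin' x) (X ^ r - C z) = 0) : x ^ r = z • 1 := by
  rw [aeval_toLin', map_sub, map_pow, aeval_X, aeval_C, Algebra.algebraMap_eq_smul_one] at h
  have := (Matrix.toLin' (R := F) (n := Fin n) (m := Fin n)).injective (h.trans (map_zero _).symm)
  exact sub_eq_zero.mp this

/-- eigenvalue multiplicities -/
noncomputable def mult (ζ : F) (x : Matrix (Fin n) (Fin n) F) (k : ZMod r) : ℕ :=
  finrank F (LinearMap.ker (aeval (Matrix.toLin' x) (fA ζ k)))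

theorem sum_mult [NeZero r] (ζ : F) (hζ : IsPrimitiveRoot ζ r) (x : Matrix (Fin n) (Fin n) F)
    (hx : x ^ r = (1 : F) • 1) : ∑ k : ZMod r, mult ζ x k = n := by
  have h := SSClass.finrank_eq_sum (SSClass.isInternal (fA (r := r) ζ) (fA_coprime ζ hζ)
    (Matrix.toLin' x) (by rw [prod_fA ζ hζ, ← C_1]; exact aeval_pow_sub x 1 hx))
  rw [Module.finrank_fintype_fun_eq_card, Fintype.card_fin] at h
  exact h.symm





/-- GL element from a matrix with scalar `r`-th power -/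
def glOfPow (M : Matrix (Fin n) (Fin n) F) (z : F) (hz : z ≠ 0) (hr : 0 < r)
    (h : M ^ r = z • 1) : GL (Fin n) F :=
  ⟨M, z⁻¹ • M ^ (r - 1), by
    rw [Matrix.mul_smul, ← pow_succ', Nat.sub_add_cancel hr, h, smul_smul, inv_mul_cancel₀ hz,
      one_smul], by
    rw [Matrix.smul_mul, ← pow_succ, Nat.sub_add_cancel hr, h, smul_smul, inv_mul_cancel₀ hz,
      one_smul]⟩

theorem glOfPow_val (M : Matrix (Fin n) (Fin n) F) (z : F) (hz : z ≠ 0) (hr : 0 < r)
    (h : M ^ r = z • 1) : (glOfPow M z hz hr h : Matrix (Fin n) (Fin n) F) = M := rfl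

theorem conj_of_mult_eq [NeZero r] (ζ : F) (hζ : IsPrimitiveRoot ζ r) (x y : GL (Fin n) F)
    (hx : (x : Matrix (Fin n) (Fin n) F) ^ r = (1 : F) • 1)
    (hy : (y : Matrix (Fin n) (Fin n) F) ^ r = (1 : F) • 1)
    (h : ∀ k : ZMod r, mult ζ (x : Matrix (Fin n) (Fin n) F) k =
      mult ζ (y : Matrix (Fin n) (Fin n) F) k) : IsConj x y := by
  obtain ⟨g, hg⟩ := SSClass.exists_equiv (fA (r := r) ζ) (fA_irreducible ζ) (fA_coprime ζ hζ)
    (Matrix.toLin' (x : Matrix (Fin n) (Fin n) F)) (Matrix.toLin' (y : Matrix (Fin n) (Fin n) F))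
    (by rw [prod_fA ζ hζ, ← C_1]; exact aeval_pow_sub _ 1 hx)
    (by rw [prod_fA ζ hζ, ← C_1]; exact aeval_pow_sub _ 1 hy) h
  exact PGLInvol.isConj_of_lin x y g hg

theorem exists_of_mult [NeZero r] (ζ : F) (hζ : IsPrimitiveRoot ζ r) (a : ZMod r → ℕ)
    (ha : ∑ k, a k = n) :
    ∃ x : GL (Fin n) F, (x : Matrix (Fin n) (Fin n) F) ^ r = (1 : F) • 1 ∧
      ∀ k, mult ζ (x : Matrix (Fin n) (Fin n) F) k = a k := by
  obtain ⟨φ, hφ, hm⟩ := SSClass.exists_end (V := Fin n → F) (fA (r := r) ζ) (fA_irreducible ζ)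
    (fA_coprime ζ hζ) a (by
      rw [Module.finrank_fintype_fun_eq_card, Fintype.card_fin, ← ha]
      exact Finset.sum_congr rfl (fun k _ => by rw [fA_natDegree, mul_one]))
  have h1 : (LinearMap.toMatrix' φ) ^ r = (1 : F) • 1 := by
    apply pow_of_aeval
    rw [Matrix.toLin'_toMatrix', C_1, ← prod_fA ζ hζ]
    exact hφ
  refine ⟨glOfPow (LinearMap.toMatrix' φ) 1 one_ne_zero (Nat.pos_of_ne_zero (NeZero.ne r)) h1,
    h1, fun k => ?_⟩
  rw [glOfPow_val, mult, Matrix.toLin'_toMatrix', hm k, fA_natDegree, mul_one]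

/-- the linear equivalence of an invertible matrix -/
noncomputable def glEquiv (P : GL (Fin n) F) : (Fin n → F) ≃ₗ[F] (Fin n → F) :=
  LinearEquiv.ofLinearMap (Matrix.toLin' (P : Matrix (Fin n) (Fin n) F))
    (Matrix.toLin' ((P⁻¹ : GL (Fin n) F) : Matrix (Fin n) (Fin n) F))
    (by rw [← Matrix.toLin'_mul, ← Units.val_mul, mul_inv_cancel, Units.val_one, Matrix.toLin'_one])
    (by rw [← Matrix.toLin'_mul, ← Units.val_mul, inv_mul_cancel, Units.val_one, Matrix.toLin'_one])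

theorem glEquiv_apply (P : GL (Fin n) F) (v : Fin n → F) :
    glEquiv P v = Matrix.toLin' (P : Matrix (Fin n) (Fin n) F) v := rfl

theorem mult_conj (ζ : F) (P x : GL (Fin n) F) (k : ZMod r) :
    mult ζ ((P * x * P⁻¹ : GL (Fin n) F) : Matrix (Fin n) (Fin n) F) k =
      mult ζ (x : Matrix (Fin n) (Fin n) F) k := by
  unfold mult
  symm
  apply SSClass.finrank_ker_eq_of_equiv _ _ (glEquiv P)
  intro v
  rw [glEquiv_apply, glEquiv_apply, ← LinearMap.comp_apply, ← LinearMap.comp_apply,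
    ← Matrix.toLin'_mul, ← Matrix.toLin'_mul, ← Units.val_mul, ← Units.val_mul,
    inv_mul_cancel_right]

theorem aeval_fA (ζ : F) (x : Matrix (Fin n) (Fin n) F) (k : ZMod r) :
    aeval (Matrix.toLin' x) (fA ζ k) = Matrix.toLin' x - zp ζ k • LinearMap.id := by
  rw [fA, map_sub, aeval_X, aeval_C, Algebra.algebraMap_eq_smul_one]
  rfl

theorem mult_smul [NeZero r] (ζ : F) (hζ : ζ ^ r = 1) (x : Matrix (Fin n) (Fin n) F)
    (s k : ZMod r) : mult ζ (zp ζ s • x) k = mult ζ x (k - s) := by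
  unfold mult
  have h : aeval (Matrix.toLin' (zp ζ s • x)) (fA ζ k) =
      zp ζ s • aeval (Matrix.toLin' x) (fA ζ (k - s)) := by
    rw [aeval_fA, aeval_fA, map_smul, smul_sub, smul_smul, ← zp_add ζ hζ, add_sub_cancel]
  rw [h, LinearMap.ker_smul _ _ (zp_ne_zero ζ hζ s)]

theorem eq_smul_of_mult [NeZero r] (ζ : F) (x : Matrix (Fin n) (Fin n) F) (k : ZMod r)
    (h : mult ζ x k = n) : x = zp ζ k • 1 := by
  unfold mult at h
  have h1 : LinearMap.ker (aeval (Matrix.toLin' x) (fA ζ k)) = ⊤ := by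
    apply Submodule.eq_top_of_finrank_eq
    rw [h, Module.finrank_fintype_fun_eq_card, Fintype.card_fin]
  rw [LinearMap.ker_eq_top, aeval_fA, sub_eq_zero] at h1
  have h2 : Matrix.toLin' x = Matrix.toLin' (zp ζ k • (1 : Matrix (Fin n) (Fin n) F)) := by
    rw [h1, map_smul, Matrix.toLin'_one]
  exact (Matrix.toLin' (R := F) (n := Fin n) (m := Fin n)).injective h2

theorem mult_of_eq_smul [NeZero r] (ζ : F) (k : ZMod r) :
    mult ζ (zp ζ k • (1 : Matrix (Fin n) (Fin n) F)) k = n := by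
  unfold mult
  have h1 : aeval (Matrix.toLin' (zp ζ k • (1 : Matrix (Fin n) (Fin n) F))) (fA ζ k) = 0 := by
    rw [aeval_fA, map_smul, Matrix.toLin'_one, sub_self]
  rw [h1, LinearMap.ker_zero, finrank_top, Module.finrank_fintype_fun_eq_card, Fintype.card_fin]





theorem conj_of_pow_eq (z : F) (hirr : Irreducible (X ^ r - C z)) (x y : GL (Fin n) F)
    (hx : (x : Matrix (Fin n) (Fin n) F) ^ r = z • 1)
    (hy : (y : Matrix (Fin n) (Fin n) F) ^ r = z • 1) : IsConj x y := by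
  obtain ⟨g, hg⟩ := SSClass.exists_equiv_of_irreducible (X ^ r - C z) hirr
    (Matrix.toLin' (x : Matrix (Fin n) (Fin n) F)) (Matrix.toLin' (y : Matrix (Fin n) (Fin n) F))
    (aeval_pow_sub _ z hx) (aeval_pow_sub _ z hy) rfl
  exact PGLInvol.isConj_of_lin x y g hg

theorem natDegree_pow_sub (hr : 0 < r) (z : F) : (X ^ r - C z : F[X]).natDegree = r :=
  natDegree_X_pow_sub_C

theorem dvd_of_pow_eq (hr : 0 < r) (z : F) (hirr : Irreducible (X ^ r - C z))
    (x : Matrix (Fin n) (Fin n) F) (hx : x ^ r = z • 1) : r ∣ n := by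
  have := SSClass.natDegree_dvd_finrank (X ^ r - C z) hirr (Matrix.toLin' x) (aeval_pow_sub _ z hx)
  rwa [natDegree_pow_sub hr, Module.finrank_fintype_fun_eq_card, Fintype.card_fin] at this

theorem exists_of_dvd (hr : 0 < r) (z : F) (hz : z ≠ 0) (hirr : Irreducible (X ^ r - C z))
    (hn : r ∣ n) : ∃ x : GL (Fin n) F, (x : Matrix (Fin n) (Fin n) F) ^ r = z • 1 := by
  obtain ⟨m, rfl⟩ := hn
  obtain ⟨φ, hφ, -⟩ := SSClass.exists_end (V := Fin (r * m) → F) (J := Unit)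
    (fun _ => X ^ r - C z) (fun _ => hirr) (fun i j h => absurd rfl h) (fun _ => m) (by
      rw [Module.finrank_fintype_fun_eq_card, Fintype.card_fin, Finset.sum_const,
        Finset.card_univ, Fintype.card_unit, one_smul, natDegree_pow_sub hr, mul_comm])
  rw [Finset.prod_const, Finset.card_univ, Fintype.card_unit, pow_one] at hφ
  have h1 : (LinearMap.toMatrix' φ) ^ r = z • 1 := by
    apply pow_of_aeval
    rw [Matrix.toLin'_toMatrix']
    exact hφ
  exact ⟨glOfPow (LinearMap.toMatrix' φ) z hz hr h1, h1⟩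

section quot

local notation "PG" => GL (Fin n) F ⧸ Subgroup.center (GL (Fin n) F)

theorem exists_lift (g : PG) (hr : 2 ≤ r) (h : orderOf g = r) :
    ∃ x : GL (Fin n) F, ((x : GL (Fin n) F) : PG) = g ∧
      (∃ z : F, z ≠ 0 ∧ (x : Matrix (Fin n) (Fin n) F) ^ r = z • 1) ∧
      ∀ c : F, (x : Matrix (Fin n) (Fin n) F) ≠ c • 1 := by
  obtain ⟨x, rfl⟩ := QuotientGroup.mk_surjective g
  have hns : ∀ c : F, (x : Matrix (Fin n) (Fin n) F) ≠ c • 1 := by
    intro c hc
    have h1 : ((x : GL (Fin n) F) : PG) = 1 := (PGLInvol.mk_eq_one_iff x).mpr ⟨c, hc⟩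
    rw [h1, orderOf_one] at h
    omega
  refine ⟨x, rfl, ?_, hns⟩
  have h1 : ((x : GL (Fin n) F) : PG) ^ r = 1 := by rw [← h, pow_orderOf_eq_one]
  rw [← QuotientGroup.mk_pow, PGLInvol.mk_eq_one_iff] at h1
  obtain ⟨c, hc⟩ := h1
  rw [Units.val_pow_eq_pow_val] at hc
  refine ⟨c, ?_, hc⟩
  rintro rfl
  rw [zero_smul] at hc
  have h2 : IsUnit ((x : Matrix (Fin n) (Fin n) F) ^ r) := by
    rw [← Units.val_pow_eq_pow_val]
    exact (x ^ r).isUnit
  rw [hc] at h2
  -- zero matrix is a unit only if n = 0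
  by_cases hn : n = 0
  · subst hn
    exact hns 0 (Subsingleton.elim _ _)
  · haveI : Nonempty (Fin n) := ⟨⟨0, Nat.pos_of_ne_zero hn⟩⟩
    exact not_isUnit_zero h2

theorem orderOf_mk (hr : r.Prime) (x : GL (Fin n) F) (z : F)
    (hz : (x : Matrix (Fin n) (Fin n) F) ^ r = z • 1)
    (hns : ∀ c : F, (x : Matrix (Fin n) (Fin n) F) ≠ c • 1) :
    orderOf ((x : GL (Fin n) F) : PG) = r := by
  haveI : Fact r.Prime := ⟨hr⟩
  apply orderOf_eq_prime
  · rw [← QuotientGroup.mk_pow, PGLInvol.mk_eq_one_iff]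
    exact ⟨z, by rw [Units.val_pow_eq_pow_val, hz]⟩
  · rw [Ne, PGLInvol.mk_eq_one_iff]
    rintro ⟨c, hc⟩
    exact hns c hc

theorem conj_pow_eq (hn : 1 ≤ n) (P x y : GL (Fin n) F) (a b c : F)
    (h : ((P * x * P⁻¹ : GL (Fin n) F) : Matrix (Fin n) (Fin n) F) =
      c • (y : Matrix (Fin n) (Fin n) F))
    (hx : (x : Matrix (Fin n) (Fin n) F) ^ r = a • 1)
    (hy : (y : Matrix (Fin n) (Fin n) F) ^ r = b • 1) : a = c ^ r * b := by
  have h1 : ((P * x * P⁻¹ : GL (Fin n) F) : Matrix (Fin n) (Fin n) F) ^ r = a • 1 := by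
    rw [← Units.val_pow_eq_pow_val, conj_pow, Units.val_mul, Units.val_mul,
      Units.val_pow_eq_pow_val, hx, Matrix.mul_smul, Matrix.smul_mul, mul_one, ← Units.val_mul,
      mul_inv_cancel, Units.val_one]
  rw [h, _root_.smul_pow, hy, smul_smul] at h1
  exact (PGLInvol.smul_one_inj hn _ _ h1).symm

end quot





section scalars

variable [Fintype F] (γ : Fˣ) (hγ : ∀ x : Fˣ, x ∈ Subgroup.zpowers γ) (d : ℕ)
  (hd : r * d = Fintype.card F - 1)

include hγ in
theorem orderOf_gen : orderOf γ = Fintype.card F - 1 := by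
  classical
  rw [orderOf_eq_card_of_forall_mem_zpowers hγ, Nat.card_eq_fintype_card, Fintype.card_units]

theorem card_sub_one_pos : 0 < Fintype.card F - 1 := by
  have := Fintype.one_lt_card (α := F)
  omega

include hd in
theorem d_pos : 0 < d := by
  have := card_sub_one_pos (F := F)
  rcases Nat.eq_zero_or_pos d with h | h
  · rw [h, mul_zero] at hd; omega
  · exact h

include hγ hd in
theorem isPrimitiveRoot_gen_pow (hr : 0 < r) : IsPrimitiveRoot ((γ : F) ^ d) r := by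
  have h1 : orderOf (γ ^ d) = r := by
    rw [orderOf_pow_of_dvd (d_pos d hd).ne' (by rw [orderOf_gen γ hγ, ← hd]; exact dvd_mul_left _ _),
      orderOf_gen γ hγ, ← hd, Nat.mul_div_cancel _ (d_pos d hd)]
  have h2 := IsPrimitiveRoot.orderOf (γ ^ d)
  rw [h1, ← IsPrimitiveRoot.coe_units_iff, Units.val_pow_eq_pow_val] at h2
  exact h2

include hd in
theorem pow_rd (c : F) (hc : c ≠ 0) : c ^ (r * d) = 1 := by
  rw [hd]
  exact FiniteField.pow_card_sub_one_eq_one c hc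

include hd in
theorem chi_pow_mul (c z : F) (hc : c ≠ 0) : (c ^ r * z) ^ d = z ^ d := by
  rw [mul_pow, ← pow_mul, pow_rd d hd c hc, one_mul]

include hγ hd in
theorem exists_root_of_chi (hr : 0 < r) (u : F) (hu : u ≠ 0) (h : u ^ d = 1) :
    ∃ w : F, w ≠ 0 ∧ w ^ r = u := by
  have h1 := hγ (Units.mk0 u hu)
  rw [← mem_powers_iff_mem_zpowers, Submonoid.mem_powers_iff] at h1
  obtain ⟨e, he⟩ := h1
  have h2 : γ ^ (e * d) = 1 := by
    rw [pow_mul, he]
    apply Units.ext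
    rw [Units.val_pow_eq_pow_val, Units.val_mk0, h, Units.val_one]
  have h3 : r * d ∣ e * d := by
    rw [hd, ← orderOf_gen γ hγ]
    exact orderOf_dvd_of_pow_eq_one h2
  have h4 : r ∣ e := Nat.dvd_of_mul_dvd_mul_right (d_pos d hd) h3
  obtain ⟨t, rfl⟩ := h4
  refine ⟨((γ ^ t : Fˣ) : F), Units.ne_zero _, ?_⟩
  rw [← Units.val_pow_eq_pow_val, ← pow_mul, mul_comm t r, he, Units.val_mk0]

/-- representatives of the `r`-th power classes -/
def zB (γ : Fˣ) (j : ZMod r) : F := (γ : F) ^ j.val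

theorem zB_ne_zero (j : ZMod r) : zB γ j ≠ 0 := pow_ne_zero _ (Units.ne_zero γ)

theorem chi_zB (j : ZMod r) : zB γ j ^ d = zp ((γ : F) ^ d) j := by
  rw [zB, zp, ← pow_mul, ← pow_mul, mul_comm]

include hγ hd in
theorem exists_class [NeZero r] (z : F) (hz : z ≠ 0) :
    ∃ (j : ZMod r) (w : F), w ≠ 0 ∧ z = w ^ r * zB γ j := by
  have hr : 0 < r := Nat.pos_of_ne_zero (NeZero.ne r)
  have hζ := isPrimitiveRoot_gen_pow γ hγ d hd hr
  have h1 : (z ^ d) ^ r = 1 := by rw [← pow_mul, mul_comm, pow_rd d hd z hz]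
  obtain ⟨j, hj⟩ := exists_zp _ hζ _ h1
  have hu : z / zB γ j ≠ 0 := div_ne_zero hz (zB_ne_zero γ j)
  obtain ⟨w, hw0, hw⟩ := exists_root_of_chi γ hγ d hd hr (z / zB γ j) hu (by
    rw [div_pow, chi_zB, hj, div_self]
    rw [← hj]
    exact zp_ne_zero _ hζ.pow_eq_one j)
  refine ⟨j, w, hw0, ?_⟩
  rw [hw, div_mul_cancel₀ _ (zB_ne_zero γ j)]

include hγ hd in
theorem zB_not_pow [NeZero r] (j : ZMod r) (hj : j ≠ 0) (b : F) : b ^ r ≠ zB γ j := by
  have hr : 0 < r := Nat.pos_of_ne_zero (NeZero.ne r)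
  have hζ := isPrimitiveRoot_gen_pow γ hγ d hd hr
  intro h
  have hb : b ≠ 0 := by
    rintro rfl
    rw [zero_pow hr.ne'] at h
    exact zB_ne_zero γ j h.symm
  have h1 : zB γ j ^ d = 1 := by
    rw [← h, ← pow_mul, pow_rd d hd b hb]
  rw [chi_zB, ← zp_zero (r := r) ((γ : F) ^ d)] at h1
  exact hj (zp_injective _ hζ h1)

end scalars





/-- scaling a GL element -/
def scaleGL (c : F) (hc : c ≠ 0) (x : GL (Fin n) F) : GL (Fin n) F :=
  ⟨c • (x : Matrix (Fin n) (Fin n) F), c⁻¹ • ((x⁻¹ : GL (Fin n) F) : Matrix (Fin n) (Fin n) F), by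
    rw [Matrix.smul_mul, Matrix.mul_smul, smul_smul, mul_inv_cancel₀ hc, one_smul,
      ← Units.val_mul, mul_inv_cancel, Units.val_one], by
    rw [Matrix.smul_mul, Matrix.mul_smul, smul_smul, inv_mul_cancel₀ hc, one_smul,
      ← Units.val_mul, inv_mul_cancel, Units.val_one]⟩

theorem scaleGL_val (c : F) (hc : c ≠ 0) (x : GL (Fin n) F) :
    (scaleGL c hc x : Matrix (Fin n) (Fin n) F) = c • (x : Matrix (Fin n) (Fin n) F) := rfl

theorem mk_scaleGL (c : F) (hc : c ≠ 0) (x : GL (Fin n) F) :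
    ((scaleGL c hc x : GL (Fin n) F) : GL (Fin n) F ⧸ Subgroup.center (GL (Fin n) F)) =
      ((x : GL (Fin n) F) : GL (Fin n) F ⧸ Subgroup.center (GL (Fin n) F)) :=
  PGLInvol.mk_eq_of_smul _ _ c rfl

theorem scaleGL_pow (c : F) (hc : c ≠ 0) (x : GL (Fin n) F) (z : F)
    (hx : (x : Matrix (Fin n) (Fin n) F) ^ r = z • 1) :
    (scaleGL c hc x : Matrix (Fin n) (Fin n) F) ^ r = (c ^ r * z) • 1 := by
  rw [scaleGL_val, _root_.smul_pow, hx, smul_smul]

theorem pow_eq_of_smul_one (hn : 1 ≤ n) (hr : 0 < r) (c z : F)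
    (h : (c • (1 : Matrix (Fin n) (Fin n) F)) ^ r = z • 1) : c ^ r = z := by
  rw [_root_.smul_pow, one_pow] at h
  exact PGLInvol.smul_one_inj hn _ _ h





local notation "PG" => GL (Fin n) F ⧸ Subgroup.center (GL (Fin n) F)

theorem main_card [Fintype F] [NeZero r] (hn : 2 ≤ n) (hr : r.Prime)
    (hrq : r ∣ Fintype.card F - 1) :
    Nat.card {C : ConjClasses PG // ∃ g : PG, ConjClasses.mk g = C ∧ orderOf g = r} =
      Nat.card (Quotient (MulAction.orbitRel (Multiplicative (ZMod r)) (NC n r)) ⊕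
        (PLift (r ∣ n) × {j : ZMod r // j ≠ 0})) := by
  classical
  have hr0 : 0 < r := hr.pos
  have hn1 : 1 ≤ n := by omega
  obtain ⟨γ, hγ⟩ := IsCyclic.exists_generator (α := Fˣ)
  obtain ⟨d, hd⟩ := hrq
  have hd : r * d = Fintype.card F - 1 := hd.symm
  set ζ : F := (γ : F) ^ d with hζdef
  have hζ : IsPrimitiveRoot ζ r := isPrimitiveRoot_gen_pow γ hγ d hd hr0
  have hζ1 : ζ ^ r = 1 := hζ.pow_eq_one
  -- representatives of type A
  have exA : ∀ a : NC n r, ∃ x : GL (Fin n) F, (x : Matrix (Fin n) (Fin n) F) ^ r = (1 : F) • 1 ∧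
      ∀ k, mult ζ (x : Matrix (Fin n) (Fin n) F) k = a.1 k :=
    fun a => exists_of_mult ζ hζ a.1 a.2.1
  choose xA hxA1 hxA2 using exA
  -- representatives of type B
  have hirr : ∀ j : ZMod r, j ≠ 0 → Irreducible (X ^ r - C (zB γ j)) :=
    fun j hj => X_pow_sub_C_irreducible_of_prime hr (zB_not_pow γ hγ d hd j hj)
  have exB : ∀ (_ : r ∣ n) (j : {j : ZMod r // j ≠ 0}), ∃ x : GL (Fin n) F,
      (x : Matrix (Fin n) (Fin n) F) ^ r = zB γ j.1 • 1 :=
    fun h j => exists_of_dvd hr0 _ (zB_ne_zero γ j.1) (hirr j.1 j.2) h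
  choose xB hxB using exB
  -- nonscalar
  have nsA : ∀ (a : NC n r) (c : F), (xA a : Matrix (Fin n) (Fin n) F) ≠ c • 1 := by
    intro a c hc
    have h1 := hxA1 a
    rw [hc] at h1
    have h2 : c ^ r = 1 := pow_eq_of_smul_one hn1 hr0 c 1 h1
    obtain ⟨k, hk⟩ := exists_zp ζ hζ c h2
    have h3 := hxA2 a k
    rw [hc, ← hk, mult_of_eq_smul] at h3
    exact a.2.2 k h3.symm
  have nsB : ∀ (h : r ∣ n) (j : {j : ZMod r // j ≠ 0}) (c : F),
      (xB h j : Matrix (Fin n) (Fin n) F) ≠ c • 1 := by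
    intro h j c hc
    have h1 := hxB h j
    rw [hc] at h1
    exact zB_not_pow γ hγ d hd j.1 j.2 c (pow_eq_of_smul_one hn1 hr0 c _ h1)
  -- type A conjugacy in PG from orbit
  have orbA : ∀ (x : GL (Fin n) F) (b : NC n r) (s : ZMod r),
      (x : Matrix (Fin n) (Fin n) F) ^ r = (1 : F) • 1 →
      (∀ k, b.1 k = mult ζ (x : Matrix (Fin n) (Fin n) F) (k - s)) →
      IsConj ((x : GL (Fin n) F) : PG) ((xA b : GL (Fin n) F) : PG) := by
    intro x b s hx hb
    rw [← mk_scaleGL (zp ζ s) (zp_ne_zero ζ hζ1 s) x]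
    apply MonoidHom.map_isConj (QuotientGroup.mk' (Subgroup.center (GL (Fin n) F)))
    apply conj_of_mult_eq ζ hζ
    · rw [scaleGL_pow _ _ x 1 hx, zp_pow ζ hζ1, one_mul]
    · exact hxA1 b
    · intro k
      rw [scaleGL_val, mult_smul ζ hζ1, hxA2, hb]
  apply PGLInvol.card_classes (fun g : PG => orderOf g = r)
    (Sum.elim (fun o => ((xA o.out : GL (Fin n) F) : PG))
      (fun p => ((xB p.1.down p.2 : GL (Fin n) F) : PG)))
  · -- hrep
    rintro (o | ⟨⟨h⟩, j⟩)
    · exact orderOf_mk hr _ 1 (hxA1 _) (nsA _)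
    · exact orderOf_mk hr _ _ (hxB h j) (nsB h j)
  · -- hinj
    rintro (o | ⟨⟨h⟩, j⟩) (o' | ⟨⟨h'⟩, j'⟩) hc
    · simp only [Sum.elim_inl] at hc
      obtain ⟨P, c, hPc⟩ := PGLInvol.isConj_mk _ _ hc
      have h1 := conj_pow_eq hn1 P _ _ 1 1 c hPc (hxA1 _) (hxA1 _)
      rw [mul_one] at h1
      obtain ⟨s, hs⟩ := exists_zp ζ hζ c h1.symm
      have h2 : ∀ k, o.out.1 k = o'.out.1 (k - s) := by
        intro k
        rw [← hxA2 o.out k, ← mult_conj ζ P, hPc, ← hs, mult_smul ζ hζ1, hxA2]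
      have h3 : (Multiplicative.ofAdd s) • o'.out = o.out := by
        apply Subtype.ext
        funext k
        rw [smul_val]
        exact (h2 k).symm
      congr 1
      rw [← Quotient.out_eq o, ← Quotient.out_eq o']
      apply Quotient.sound
      exact ⟨_, h3⟩
    · exfalso
      simp only [Sum.elim_inl, Sum.elim_inr] at hc
      obtain ⟨P, c, hPc⟩ := PGLInvol.isConj_mk _ _ hc
      have h1 := conj_pow_eq hn1 P _ _ 1 _ c hPc (hxA1 _) (hxB h' j')
      have hc0 : c ≠ 0 := by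
        rintro rfl
        rw [zero_pow hr0.ne', zero_mul] at h1
        exact one_ne_zero h1
      apply zB_not_pow γ hγ d hd j'.1 j'.2 c⁻¹
      rw [inv_pow, inv_eq_iff_eq_inv]
      exact eq_inv_of_mul_eq_one_left h1.symm
    · exfalso
      simp only [Sum.elim_inl, Sum.elim_inr] at hc
      obtain ⟨P, c, hPc⟩ := PGLInvol.isConj_mk _ _ hc
      have h1 := conj_pow_eq hn1 P _ _ _ 1 c hPc (hxB h j) (hxA1 _)
      rw [mul_one] at h1
      exact zB_not_pow γ hγ d hd j.1 j.2 c h1.symm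
    · simp only [Sum.elim_inr] at hc
      obtain ⟨P, c, hPc⟩ := PGLInvol.isConj_mk _ _ hc
      have h1 := conj_pow_eq hn1 P _ _ _ _ c hPc (hxB h j) (hxB h' j')
      have hc0 : c ≠ 0 := by
        rintro rfl
        rw [zero_pow hr0.ne', zero_mul] at h1
        exact zB_ne_zero γ j.1 h1
      have h2 : zB γ j.1 ^ d = (c ^ r * zB γ j'.1) ^ d := by rw [← h1]
      rw [chi_pow_mul d hd c _ hc0, chi_zB, chi_zB] at h2
      have h3 : j = j' := Subtype.ext (zp_injective _ hζ h2)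
      rw [h3]
  · -- hsurj
    intro g hg
    obtain ⟨x, rfl, ⟨z, hz0, hxz⟩, hns⟩ := exists_lift g hr.two_le hg
    obtain ⟨j, w, hw0, hzw⟩ := exists_class γ hγ d hd z hz0
    have hw0' : w⁻¹ ≠ 0 := inv_ne_zero hw0
    have hx' : (scaleGL w⁻¹ hw0' x : Matrix (Fin n) (Fin n) F) ^ r = zB γ j • 1 := by
      rw [scaleGL_pow _ _ x z hxz, hzw, inv_pow, ← mul_assoc, inv_mul_cancel₀ (pow_ne_zero _ hw0),
        one_mul]
    have hns' : ∀ c : F, (scaleGL w⁻¹ hw0' x : Matrix (Fin n) (Fin n) F) ≠ c • 1 := by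
      intro c hc
      apply hns (w * c)
      rw [scaleGL_val] at hc
      rw [mul_smul, ← hc, smul_smul, mul_inv_cancel₀ hw0, one_smul]
    rw [← mk_scaleGL w⁻¹ hw0' x]
    by_cases hj : j = 0
    · have hx1 : (scaleGL w⁻¹ hw0' x : Matrix (Fin n) (Fin n) F) ^ r = (1 : F) • 1 := by
        rw [hx', hj, zB, ZMod.val_zero, pow_zero]
      let a : NC n r := ⟨mult ζ (scaleGL w⁻¹ hw0' x : Matrix (Fin n) (Fin n) F),
        sum_mult ζ hζ _ hx1, fun k hk => hns' _ (eq_smul_of_mult ζ _ k hk)⟩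
      have h1 : (⟦(⟦a⟧ : Quotient (MulAction.orbitRel (Multiplicative (ZMod r)) (NC n r))).out⟧ :
          Quotient (MulAction.orbitRel (Multiplicative (ZMod r)) (NC n r))) = ⟦a⟧ :=
        Quotient.out_eq _
      obtain ⟨s, hs⟩ := Quotient.exact h1
      refine ⟨Sum.inl ⟦a⟧, ?_⟩
      simp only [Sum.elim_inl]
      apply orbA _ _ (Multiplicative.toAdd s) hx1
      intro k
      have := congrArg (fun b : NC n r => b.1 k) hs
      simp only [smul_val] at this
      exact this.symm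
    · have hdvd : r ∣ n := dvd_of_pow_eq hr0 _ (hirr j hj) _ hx'
      refine ⟨Sum.inr (⟨hdvd⟩, ⟨j, hj⟩), ?_⟩
      simp only [Sum.elim_inr]
      apply MonoidHom.map_isConj (QuotientGroup.mk' (Subgroup.center (GL (Fin n) F)))
      exact conj_of_pow_eq _ (hirr j hj) _ _ hx' (hxB hdvd ⟨j, hj⟩)





theorem card_nonzero (hr : 0 < r) : Nat.card {j : ZMod r // j ≠ 0} = r - 1 := by
  classical
  haveI : NeZero r := ⟨hr.ne'⟩
  rw [Nat.card_eq_fintype_card, Fintype.card_subtype_compl, ZMod.card, Fintype.card_subtype_eq]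

theorem card_T [NeZero r] (hr : 0 < r) :
    Nat.card (Quotient (MulAction.orbitRel (Multiplicative (ZMod r)) (NC n r)) ⊕
        (PLift (r ∣ n) × {j : ZMod r // j ≠ 0})) =
      Nat.card (Quotient (MulAction.orbitRel (Multiplicative (ZMod r)) (NC n r))) +
        (if r ∣ n then r - 1 else 0) := by
  classical
  rw [Nat.card_sum, Nat.card_prod, card_nonzero hr]
  congr 1
  split_ifs with h
  · haveI : Unique (PLift (r ∣ n)) := ⟨⟨⟨h⟩⟩, fun _ => rfl⟩
    rw [Nat.card_unique, one_mul]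
  · haveI : IsEmpty (PLift (r ∣ n)) := ⟨fun x => h x.down⟩
    rw [Nat.card_of_isEmpty, zero_mul]

theorem main [Fintype F] {q : ℕ} (hF : Fintype.card F = q) (hn : 2 ≤ n) (hr : r.Prime)
    (hrq : r ∣ q - 1) :
    Nat.card {C : ConjClasses (GL (Fin n) F ⧸ Subgroup.center (GL (Fin n) F)) //
      ∃ g : GL (Fin n) F ⧸ Subgroup.center (GL (Fin n) F), ConjClasses.mk g = C ∧ orderOf g = r} =
    (Nat.choose (n + r - 1) (r - 1) - r - (if r ∣ n then 1 else 0)) / r +
      r * (if r ∣ n then 1 else 0) := by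
  haveI : NeZero r := ⟨hr.pos.ne'⟩
  subst hF
  rw [main_card hn hr hrq, card_T hr.pos]
  have hB := burnside n r hr (by omega)
  have hle := le_choose n r (by omega : 1 ≤ n)
  have hch : Nat.choose (r + n - 1) n = Nat.choose (n + r - 1) (r - 1) := by
    have h1 : r + n - 1 = n + r - 1 := by omega
    rw [h1]
    apply Nat.choose_symm_of_eq_add
    have := hr.pos
    omega
  rw [hch] at hB hle
  set N := Nat.card (Quotient (MulAction.orbitRel (Multiplicative (ZMod r)) (NC n r)))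
  set C := Nat.choose (n + r - 1) (r - 1)
  have hr2 := hr.two_le
  split_ifs at hB ⊢ with h
  · rw [mul_one] at hB ⊢
    have hN : 1 ≤ N := by
      rcases Nat.eq_zero_or_pos N with h0 | h0
      · rw [h0, zero_mul] at hB; omega
      · exact h0
    have h1 : C - r - 1 = (N - 1) * r := by
      have : (N - 1) * r = N * r - r := by rw [Nat.sub_mul, one_mul]
      rw [this, hB]
      omega
    rw [h1, Nat.mul_div_cancel _ hr.pos]
    omega
  · rw [mul_zero, add_zero] at hB ⊢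
    rw [Nat.sub_zero, ← hB, Nat.mul_div_cancel _ hr.pos, add_zero]

end Cfsg.Agent.Lib.H13.PGLPrime
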