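import Cfsg.Agent.Lib.H13.JordanBasis
import Cfsg.Agent.Lib.H13.PGLPrime

set_option autoImplicit false

namespace Cfsg.Agent.Lib.H13.GLOrderP


open Polynomial Module Matrix JordanBasis

/-- the all-ones partition -/
def ones (n : ℕ) : Nat.Partition n :=
  ⟨Multiset.replicate n 1, fun {i} hi => by rw [Multiset.eq_of_mem_replicate hi]; exact one_pos,
    by simp⟩

theorem exists_two_le (n : ℕ) (μ : Nat.Partition n) (h : μ ≠ ones n) : ∃ a ∈ μ.parts, 2 ≤ a := by
  by_contra hcon
  push Not at hcon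
  apply h
  have h1 : ∀ a ∈ μ.parts, a = 1 := by
    intro a ha
    have := μ.parts_pos ha
    have := hcon a ha
    omega
  have h2 : μ.parts = Multiset.replicate (Multiset.card μ.parts) 1 :=
    Multiset.eq_replicate.mpr ⟨rfl, h1⟩
  have h3 : Multiset.card μ.parts = n := by
    have := μ.parts_sum
    rw [h2, Multiset.sum_replicate, smul_eq_mul, mul_one] at this
    exact this
  apply Nat.Partition.ext
  rw [h2, h3]
  rfl

theorem card_T (n p : ℕ) (hp : 1 ≤ p) :
    Nat.card {μ : Nat.Partition n // (∀ a ∈ μ.parts, a ≤ p) ∧ μ ≠ ones n} =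
      (Finset.univ.filter (fun μ : Nat.Partition n => ∀ a ∈ μ.parts, a ≤ p)).card - 1 := by
  classical
  rw [Nat.card_eq_fintype_card, Fintype.card_subtype]
  have h1 : (Finset.univ.filter (fun μ : Nat.Partition n => (∀ a ∈ μ.parts, a ≤ p) ∧ μ ≠ ones n)) =
      (Finset.univ.filter (fun μ : Nat.Partition n => ∀ a ∈ μ.parts, a ≤ p)).erase (ones n) := by
    ext μ
    simp only [Finset.mem_filter, Finset.mem_univ, true_and, Finset.mem_erase]
    tauto
  rw [h1, Finset.card_erase_of_mem]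
  simp only [Finset.mem_filter, Finset.mem_univ, true_and]
  intro a ha
  have : a = 1 := Multiset.eq_of_mem_replicate ha
  omega




variable {F : Type*} [Field F] {p : ℕ} [Fact p.Prime] [CharP F p] {n : ℕ}

/-- nilpotent part -/
noncomputable def nil (x : Matrix (Fin n) (Fin n) F) : End F (Fin n → F) :=
  Matrix.toLin' x - 1

theorem toLin'_eq (x : Matrix (Fin n) (Fin n) F) (v : Fin n → F) :
    Matrix.toLin' x v = v + nil x v := by
  rw [nil, LinearMap.sub_apply, Module.End.one_apply]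
  abel

theorem sub_one_pow_char (φ : End F (Fin n → F)) : (φ - 1) ^ p = φ ^ p - 1 := by
  have h : ((X : F[X]) - 1) ^ p = X ^ p - 1 := by
    rw [sub_pow_char, one_pow]
  have := congrArg (aeval φ) h
  rwa [map_pow, map_sub, map_sub, map_pow, aeval_X, map_one] at this

theorem add_one_pow_char (φ : End F (Fin n → F)) : (1 + φ) ^ p = 1 + φ ^ p := by
  have h : (1 + (X : F[X])) ^ p = 1 + X ^ p := by
    rw [add_pow_char, one_pow]
  have := congrArg (aeval φ) h
  rwa [map_pow, map_add, map_add, map_pow, aeval_X, map_one] at this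

theorem nil_pow (x : Matrix (Fin n) (Fin n) F) (hx : x ^ p = 1) : nil x ^ p = 0 := by
  rw [nil, sub_one_pow_char, ← Matrix.toLin'_pow, hx, Matrix.toLin'_one, sub_eq_zero]
  rfl

theorem nil_intertwine (x y : Matrix (Fin n) (Fin n) F) (g : (Fin n → F) →ₗ[F] (Fin n → F))
    (h : ∀ v, g (Matrix.toLin' x v) = Matrix.toLin' y (g v)) (v : Fin n → F) :
    g (nil x v) = nil y (g v) := by
  rw [nil, nil, LinearMap.sub_apply, LinearMap.sub_apply, map_sub, h]
  rfl

theorem toLin'_intertwine (x y : Matrix (Fin n) (Fin n) F) (g : (Fin n → F) →ₗ[F] (Fin n → F))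
    (h : ∀ v, g (nil x v) = nil y (g v)) (v : Fin n → F) :
    g (Matrix.toLin' x v) = Matrix.toLin' y (g v) := by
  rw [toLin'_eq, toLin'_eq, map_add, h]

theorem sum_toType (m : Multiset ℕ) : ∑ x : m.ToType, x.1 = m.sum := by
  have := Multiset.map_univ_coe m
  conv_rhs => rw [← this]
  rfl

theorem exists_toType (m : Multiset ℕ) (a : ℕ) (ha : a ∈ m) : ∃ x : m.ToType, x.1 = a :=
  ⟨m.mkToType a ⟨0, Multiset.count_pos.mpr ha⟩, rfl⟩

theorem main [Fintype F] :
    Nat.card {C : ConjClasses (GL (Fin n) F) //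
      ∃ g : GL (Fin n) F, ConjClasses.mk g = C ∧ orderOf g = p} =
    (Finset.univ.filter (fun μ : Nat.Partition n => ∀ a ∈ μ.parts, a ≤ p)).card - 1 := by
  classical
  have hp : p.Prime := Fact.out
  rw [← card_T n p hp.one_lt.le]
  have hfr : finrank F (Fin n → F) = n := by
    rw [Module.finrank_fintype_fun_eq_card, Fintype.card_fin]
  -- model nilpotents
  have exN : ∀ μ : Nat.Partition n, ∃ (N : End F (Fin n → F))
      (b : Basis (Σ x : μ.parts.ToType, Fin (x.1)) F (Fin n → F)),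
      IsJB N (fun x : μ.parts.ToType => x.1) b := by
    intro μ
    apply exists_isJB_of_shape
    rw [hfr, sum_toType, μ.parts_sum]
  choose Nμ bμ hbμ using exN
  have hNp : ∀ μ : {μ : Nat.Partition n // (∀ a ∈ μ.parts, a ≤ p) ∧ μ ≠ ones n},
      (Nμ μ.1) ^ p = 0 := by
    intro μ
    rw [pow_eq_zero_iff (hbμ μ.1)]
    intro x
    exact μ.2.1 _ Multiset.coe_mem
  have hNne : ∀ μ : {μ : Nat.Partition n // (∀ a ∈ μ.parts, a ≤ p) ∧ μ ≠ ones n},
      Nμ μ.1 ≠ 0 := by
    intro μ h0
    obtain ⟨a, ha, ha2⟩ := exists_two_le n μ.1 μ.2.2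
    obtain ⟨x, hx⟩ := exists_toType μ.1.parts a ha
    have h1 := hbμ μ.1 x ⟨0, by show 0 < x.1; rw [hx]; omega⟩
    rw [h0, LinearMap.zero_apply, dif_pos (show (0 : ℕ) + 1 < x.1 by rw [hx]; omega)] at h1
    exact (bμ μ.1).ne_zero _ h1.symm
  have hType : ∀ μ : Nat.Partition n, HasType (Nμ μ) μ.parts := by
    intro μ
    have := hasType_of_isJB (hbμ μ)
    rwa [Multiset.map_univ_coe] at this
  -- matrices of the representatives
  have hMp : ∀ μ : {μ : Nat.Partition n // (∀ a ∈ μ.parts, a ≤ p) ∧ μ ≠ ones n},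
      (LinearMap.toMatrix' (1 + Nμ μ.1)) ^ p = (1 : F) • 1 := by
    intro μ
    rw [one_smul]
    apply (Matrix.toLin' (R := F) (n := Fin n) (m := Fin n)).injective
    rw [Matrix.toLin'_pow, Matrix.toLin'_toMatrix', add_one_pow_char, hNp μ, add_zero,
      Matrix.toLin'_one]
    rfl
  let rep : {μ : Nat.Partition n // (∀ a ∈ μ.parts, a ≤ p) ∧ μ ≠ ones n} → GL (Fin n) F :=
    fun μ => PGLPrime.glOfPow (LinearMap.toMatrix' (1 + Nμ μ.1)) 1 one_ne_zero hp.pos (hMp μ)
  have hrepnil : ∀ μ, nil ((rep μ : GL (Fin n) F) : Matrix (Fin n) (Fin n) F) = Nμ μ.1 := by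
    intro μ
    show Matrix.toLin' (LinearMap.toMatrix' (1 + Nμ μ.1)) - 1 = Nμ μ.1
    rw [Matrix.toLin'_toMatrix', add_sub_cancel_left]
  apply PGLInvol.card_classes (fun g : GL (Fin n) F => orderOf g = p) rep
  · intro μ
    apply orderOf_eq_prime
    · apply Units.ext
      rw [Units.val_pow_eq_pow_val, Units.val_one]
      have := hMp μ
      rwa [one_smul] at this
    · intro h1
      apply hNne μ
      rw [← hrepnil μ, h1, nil, Units.val_one, Matrix.toLin'_one, sub_eq_zero]
      rfl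
  · intro μ μ' hc
    rw [isConj_iff] at hc
    obtain ⟨P, hP⟩ := hc
    have hint : ∀ v, PGLPrime.glEquiv P (Matrix.toLin'
        ((rep μ : GL (Fin n) F) : Matrix (Fin n) (Fin n) F) v) =
        Matrix.toLin' ((rep μ' : GL (Fin n) F) : Matrix (Fin n) (Fin n) F)
          (PGLPrime.glEquiv P v) := by
      intro v
      rw [← hP, PGLPrime.glEquiv_apply, PGLPrime.glEquiv_apply, ← LinearMap.comp_apply,
        ← LinearMap.comp_apply, ← Matrix.toLin'_mul, ← Matrix.toLin'_mul, ← Units.val_mul,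
        ← Units.val_mul, inv_mul_cancel_right]
    have h2 := hasType_conj (Nμ μ.1) (Nμ μ'.1) (PGLPrime.glEquiv P) (by
      intro v
      rw [← hrepnil μ, ← hrepnil μ']
      exact nil_intertwine _ _ (PGLPrime.glEquiv P : (Fin n → F) →ₗ[F] (Fin n → F)) hint v)
      μ.1.parts (hType μ.1)
    have h3 := hasType_unique (Nμ μ'.1) μ.1.parts μ'.1.parts (fun a ha => μ.1.parts_pos ha)
      (fun a ha => μ'.1.parts_pos ha) h2 (hType μ'.1)
    exact Subtype.ext (Nat.Partition.ext h3)
  · intro g hg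
    have hg1 : (g : Matrix (Fin n) (Fin n) F) ^ p = 1 := by
      rw [← Units.val_pow_eq_pow_val, ← hg, pow_orderOf_eq_one, Units.val_one]
    have hnil : nil (g : Matrix (Fin n) (Fin n) F) ^ p = 0 := nil_pow _ hg1
    obtain ⟨ι, hι, k, b, hb, hpos⟩ := exists_isJB_pos (nil (g : Matrix (Fin n) (Fin n) F)) ⟨p, hnil⟩
    have hsum : (Finset.univ.val.map k).sum = n := by
      have h1 := Module.finrank_eq_card_basis b
      rw [hfr, Fintype.card_sigma] at h1
      rw [h1]
      show ∑ i, k i = _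
      exact Finset.sum_congr rfl (fun i _ => (Fintype.card_fin _).symm)
    let μ : Nat.Partition n := ⟨Finset.univ.val.map k, fun {a} ha => by
      rw [Multiset.mem_map] at ha
      obtain ⟨i, -, rfl⟩ := ha
      exact hpos i, hsum⟩
    have hμp : ∀ a ∈ μ.parts, a ≤ p := by
      intro a ha
      rw [Multiset.mem_map] at ha
      obtain ⟨i, -, rfl⟩ := ha
      exact (pow_eq_zero_iff hb p).mp hnil i
    have hμ1 : μ ≠ ones n := by
      intro h1
      have h2 : ∀ i, k i = 1 := by
        intro i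
        have : k i ∈ μ.parts := Multiset.mem_map.mpr ⟨i, Finset.mem_univ_val i, rfl⟩
        rw [h1] at this
        exact Multiset.eq_of_mem_replicate this
      have h3 : nil (g : Matrix (Fin n) (Fin n) F) = 0 := by
        apply b.ext
        rintro ⟨i, t⟩
        rw [hb, dif_neg (by have := t.2; have := h2 i; omega), LinearMap.zero_apply]
      have h4 : g = 1 := by
        apply Units.ext
        apply (Matrix.toLin' (R := F) (n := Fin n) (m := Fin n)).injective
        rw [nil, sub_eq_zero] at h3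
        rw [h3, Units.val_one, Matrix.toLin'_one]
        rfl
      rw [h4, orderOf_one] at hg
      exact hp.one_lt.ne hg
    refine ⟨⟨μ, hμp, hμ1⟩, ?_⟩
    obtain ⟨σ, hσ⟩ := exists_equiv_of_map_eq k (fun x : μ.parts.ToType => x.1) (by
      rw [Multiset.map_univ_coe])
    obtain ⟨G, hG⟩ := exists_equiv_of_isJB (nil (g : Matrix (Fin n) (Fin n) F)) (Nμ μ) k
      (fun x : μ.parts.ToType => x.1) b (bμ μ) hb (hbμ μ) σ hσ
    apply PGLInvol.isConj_of_lin g _ G
    intro v
    apply toLin'_intertwine _ _ (G : (Fin n → F) →ₗ[F] (Fin n → F))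
    intro w
    rw [hrepnil ⟨μ, hμp, hμ1⟩]
    exact hG w

end Cfsg.Agent.Lib.H13.GLOrderP
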