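import Mathlib

set_option autoImplicit false

namespace Cfsg.Agent.Lib.H13.SumLe

variable (S : Type*) [Fintype S] [DecidableEq S]

/-- vectors with bounded sum, via a slack variable -/
def slackEquiv (N : ℕ) :
    {m : S → ℕ // ∑ s, m s ≤ N} ≃ {m' : Option S → ℕ // ∑ j, m' j = N} where
  toFun m := ⟨fun j => j.elim (N - ∑ s, m.1 s) m.1, by
    rw [Fintype.sum_option]
    have := m.2
    simp only [Option.elim_none, Option.elim_some]
    omega⟩
  invFun m' := ⟨fun s => m'.1 (some s), by
    have := m'.2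
    rw [Fintype.sum_option] at this
    show ∑ s, m'.1 (some s) ≤ N
    omega⟩
  left_inv m := rfl
  right_inv m' := by
    apply Subtype.ext
    funext j
    cases j with
    | none =>
      have := m'.2
      rw [Fintype.sum_option] at this
      simp only [Option.elim_none]
      omega
    | some s => rfl

noncomputable instance (N : ℕ) : Fintype {m' : Option S → ℕ // ∑ j, m' j = N} :=
  Fintype.ofEquiv _ (Sym.equivNatSumOfFintype (Option S) N)

noncomputable instance (N : ℕ) : Fintype {m : S → ℕ // ∑ s, m s ≤ N} :=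
  Fintype.ofEquiv _ (slackEquiv S N).symm

theorem card_sum_le (N : ℕ) :
    Fintype.card {m : S → ℕ // ∑ s, m s ≤ N} =
      Nat.choose (N + Fintype.card S) (Fintype.card S) := by
  rw [Fintype.card_congr (slackEquiv S N),
    Fintype.card_congr (Sym.equivNatSumOfFintype (Option S) N).symm, Sym.card_sym_eq_choose,
    Fintype.card_option]
  have h1 : Fintype.card S + 1 + N - 1 = N + Fintype.card S := by omega
  rw [h1]
  exact Nat.choose_symm_of_eq_add rfl

theorem card_T (n i : ℕ) (hi : 0 < i) :
    Nat.card {m : S → ℕ // i * ∑ s, m s ≤ n ∧ m ≠ 0} =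
      Nat.choose (n / i + Fintype.card S) (Fintype.card S) - 1 := by
  classical
  have e : {m : S → ℕ // i * ∑ s, m s ≤ n ∧ m ≠ 0} ≃
      {m : {m : S → ℕ // ∑ s, m s ≤ n / i} // ¬ (m.1 = 0)} :=
    { toFun := fun m => ⟨⟨m.1, by
        rw [Nat.le_div_iff_mul_le hi, mul_comm]; exact m.2.1⟩, m.2.2⟩
      invFun := fun m => ⟨m.1.1, by
        have := m.1.2
        rw [Nat.le_div_iff_mul_le hi, mul_comm] at this
        exact this, m.2⟩
      left_inv := fun m => rfl
      right_inv := fun m => rfl }
  rw [Nat.card_congr e, Nat.card_eq_fintype_card, Fintype.card_subtype_compl, card_sum_le]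
  congr 1
  rw [Fintype.card_eq_one_iff]
  refine ⟨⟨⟨0, by simp⟩, rfl⟩, ?_⟩
  rintro ⟨⟨m, hm⟩, h0⟩
  apply Subtype.ext
  apply Subtype.ext
  exact h0

end Cfsg.Agent.Lib.H13.SumLe
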