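import Cfsg.Agent.Lib.H13.GLPrime
import Cfsg.Agent.Lib.H13.CycFactor
import Cfsg.Agent.Lib.H13.SumLe

set_option autoImplicit false

namespace Cfsg.Agent.Lib.H13.GLPrimeCount

open Polynomial Module Matrix CycFactor

variable {F : Type*} [Field F] [Fintype F] {p q : ℕ} [Fact p.Prime] [CharP F p]

theorem main (hF : Fintype.card F = q) (n r i t : ℕ) (hr : r.Prime) (hrp : r ≠ p)
    (hi : i = orderOf (q : ZMod r)) (ht : t * i = r - 1) :
    Nat.card {C : ConjClasses (GL (Fin n) F) //
      ∃ g : GL (Fin n) F, ConjClasses.mk g = C ∧ orderOf g = r} =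
    Nat.choose (n / i + t) t - 1 := by
  classical
  haveI : Fact r.Prime := ⟨hr⟩
  have hi0 : 0 < i := by rw [hi]; exact CycFactor.orderOf_pos (F := F) hF hr hrp
  have hcard : Fintype.card (S r F) = t := by
    have := card_S (F := F) hF hr hrp
    rw [← hi, ← ht] at this
    exact Nat.eq_of_mul_eq_mul_right hi0 this
  have hirr := irreducible_fJ (F := F) (r := r)
  have hcop := coprime_fJ (F := F) hr hrp
  have hprod := prod_fJ (F := F) hr hrp
  have hdeg : ∀ s : S r F, (fJ r (some s)).natDegree = i := fun s => by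
    rw [hi]; exact natDegree_fJ_some hF hr hrp s
  -- the multiplicity vector of a parameter
  let M : {m : S r F → ℕ // i * ∑ s, m s ≤ n ∧ m ≠ 0} → Option (S r F) → ℕ :=
    fun m j => j.elim (n - i * ∑ s, m.1 s) m.1
  have hM : ∀ m, ∑ j, M m j * (fJ r j).natDegree = n := by
    intro m
    rw [Fintype.sum_option]
    simp only [M, Option.elim_none, Option.elim_some]
    have h1 : ∑ s, m.1 s * (fJ r (some s)).natDegree = i * ∑ s, m.1 s := by
      rw [Finset.mul_sum]
      exact Finset.sum_congr rfl (fun s _ => by rw [hdeg s, mul_comm])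
    rw [natDegree_fJ_none, mul_one, h1]
    have := m.2.1
    omega
  have ex : ∀ m, ∃ x : GL (Fin n) F, (x : Matrix (Fin n) (Fin n) F) ^ r = 1 ∧
      ∀ j, GLPrime.mu (fJ (F := F) r) (x : Matrix (Fin n) (Fin n) F) j = M m j * (fJ r j).natDegree :=
    fun m => GLPrime.exists_of_mu (fJ (F := F) r) hirr hcop hprod hr.pos (M m) (hM m)
  choose rep hrep1 hrep2 using ex
  -- an element with all nontrivial multiplicities zero is trivial
  have triv : ∀ x : GL (Fin n) F, (x : Matrix (Fin n) (Fin n) F) ^ r = 1 →
      (∀ s : S r F, GLPrime.mu (fJ (F := F) r) (x : Matrix (Fin n) (Fin n) F) (some s) = 0) → x = 1 := by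
    intro x hx h0
    have h1 := GLPrime.sum_mu (fJ (F := F) r) hcop hprod _ hx
    rw [Fintype.sum_option, Finset.sum_congr rfl (fun s _ => h0 s), Finset.sum_const_zero,
      add_zero] at h1
    unfold GLPrime.mu at h1
    have h2 : LinearMap.ker (aeval (Matrix.toLin' (x : Matrix (Fin n) (Fin n) F)) (fJ (F := F) r none)) = ⊤ := by
      apply Submodule.eq_top_of_finrank_eq
      rw [h1, Module.finrank_fintype_fun_eq_card, Fintype.card_fin]
    rw [LinearMap.ker_eq_top] at h2
    have h3 : aeval (Matrix.toLin' (x : Matrix (Fin n) (Fin n) F)) (X - 1 : F[X]) = 0 := h2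
    rw [map_sub, aeval_X, map_one, sub_eq_zero] at h3
    apply Units.ext
    rw [Units.val_one]
    apply (Matrix.toLin' (R := F) (n := Fin n) (m := Fin n)).injective
    rw [h3, Matrix.toLin'_one]
    rfl
  have hsplit : ∀ x : GL (Fin n) F, (x : Matrix (Fin n) (Fin n) F) ^ r = 1 →
      GLPrime.mu (fJ (F := F) r) (x : Matrix (Fin n) (Fin n) F) none +
        ∑ s, GLPrime.mu (fJ (F := F) r) (x : Matrix (Fin n) (Fin n) F) (some s) = n := by
    intro x hx
    have h1 := GLPrime.sum_mu (fJ (F := F) r) hcop hprod _ hx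
    rwa [Fintype.sum_option] at h1
  rw [← hcard, ← SumLe.card_T (S r F) n i hi0]
  apply PGLInvol.card_classes (fun g : GL (Fin n) F => orderOf g = r) rep
  · -- order
    intro m
    apply orderOf_eq_prime
    · apply Units.ext
      rw [Units.val_pow_eq_pow_val, hrep1, Units.val_one]
    · intro h1
      apply m.2.2
      funext s
      have h2 := hrep2 m (some s)
      rw [h1, hdeg] at h2
      have h3 := hsplit 1 (by rw [Units.val_one, one_pow])
      have h4 : GLPrime.mu (fJ (F := F) r) ((1 : GL (Fin n) F) : Matrix (Fin n) (Fin n) F) none = n := by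
        unfold GLPrime.mu
        have : aeval (Matrix.toLin' ((1 : GL (Fin n) F) : Matrix (Fin n) (Fin n) F))
            (fJ (F := F) r none) = 0 := by
          show aeval _ (X - 1 : F[X]) = 0
          rw [map_sub, aeval_X, map_one, Units.val_one, Matrix.toLin'_one, sub_eq_zero]
          rfl
        rw [this, LinearMap.ker_zero, finrank_top, Module.finrank_fintype_fun_eq_card,
          Fintype.card_fin]
      rw [h4] at h3
      have h5 : GLPrime.mu (fJ (F := F) r) ((1 : GL (Fin n) F) : Matrix (Fin n) (Fin n) F) (some s) = 0 := by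
        have := Finset.single_le_sum (f := fun s => GLPrime.mu (fJ (F := F) r)
          ((1 : GL (Fin n) F) : Matrix (Fin n) (Fin n) F) (some s)) (fun _ _ => Nat.zero_le _)
          (Finset.mem_univ s)
        omega
      rw [h5] at h2
      have h6 : M m (some s) = 0 := by
        rcases Nat.mul_eq_zero.mp h2.symm with h | h
        · exact h
        · omega
      exact h6
  · -- injectivity
    intro m m' hc
    apply Subtype.ext
    funext s
    have h1 := GLPrime.mu_eq_of_isConj (fJ (F := F) r) _ _ hc (some s)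
    rw [hrep2, hrep2, hdeg] at h1
    exact Nat.eq_of_mul_eq_mul_right hi0 h1
  · -- surjectivity
    intro g hg
    have hg1 : (g : Matrix (Fin n) (Fin n) F) ^ r = 1 := by
      rw [← Units.val_pow_eq_pow_val, ← hg, pow_orderOf_eq_one, Units.val_one]
    have hdv : ∀ s : S r F, ∃ c, GLPrime.mu (fJ (F := F) r) (g : Matrix (Fin n) (Fin n) F) (some s) = c * i := by
      intro s
      obtain ⟨c, hc⟩ := GLPrime.dvd_mu (fJ (F := F) r) hirr (g : Matrix (Fin n) (Fin n) F) (some s)
      exact ⟨c, by rw [hc, hdeg, mul_comm]⟩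
    choose m hm using hdv
    have h1 := hsplit g hg1
    rw [Finset.sum_congr rfl (fun s _ => hm s), ← Finset.sum_mul, mul_comm _ i] at h1
    have hm0 : m ≠ 0 := by
      intro h0
      have : g = 1 := triv g hg1 (fun s => by rw [hm s, h0, Pi.zero_apply, zero_mul])
      rw [this, orderOf_one] at hg
      exact hr.one_lt.ne hg
    refine ⟨⟨m, by omega, hm0⟩, ?_⟩
    apply GLPrime.conj_of_mu_eq (fJ (F := F) r) hirr hcop hprod g _ hg1 (hrep1 _)
    intro j
    rw [hrep2]
    cases j with
    | none =>
      simp only [M, Option.elim_none]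
      rw [natDegree_fJ_none, mul_one]
      omega
    | some s =>
      simp only [M, Option.elim_some]
      rw [hdeg, hm s]

end Cfsg.Agent.Lib.H13.GLPrimeCount
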