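import Cfsg.Agent.Lib.H13.PGLPrime
import Cfsg.Agent.S0837
import Cfsg.Agent.Lib.H4.Herm
import Cfsg.Agent.Lib.H2.Unitary3

set_option autoImplicit false

namespace Cfsg.Agent.Lib.H13.GUField

section part1


open Module

variable {K : Type*} [Field K] [Fintype K] (σ : K ≃+* K)

/-- the fixed field of `σ` -/
abbrev K0 : Subfield K := FixedPoints.subfield (Subgroup.zpowers σ) K

theorem mem_K0_iff (x : K) : x ∈ K0 σ ↔ σ x = x := by
  constructor
  · intro h
    exact h ⟨σ, Subgroup.mem_zpowers σ⟩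
  · intro h
    rintro ⟨g, hg⟩
    obtain ⟨k, rfl⟩ := Subgroup.mem_zpowers_iff.mp hg
    show (σ ^ k) x = x
    clear hg
    induction k using Int.induction_on with
    | zero => simp
    | succ i ih =>
      rw [zpow_add_one, RingAut.mul_apply, h, ih]
    | pred i ih =>
      rw [zpow_sub_one, RingAut.mul_apply]
      have : σ⁻¹ x = x := by
        rw [RingAut.inv_apply, RingEquiv.symm_apply_eq, h]
      rw [this, ih]

theorem card_K0 {q₀ r : ℕ} (hr : 0 < r) (hσ : orderOf σ = r) (hK : Fintype.card K = (q₀ ^ 2) ^ r) :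
    Nat.card (K0 σ) = q₀ ^ 2 := by
  classical
  have hcard : Nat.card (Subgroup.zpowers σ) = r := by rw [Nat.card_zpowers, hσ]
  haveI : Finite (Subgroup.zpowers σ) := Nat.finite_of_card_ne_zero (by rw [hcard]; exact hr.ne')
  haveI : Fintype (Subgroup.zpowers σ) := Fintype.ofFinite _
  have h1 := FixedPoints.finrank_eq_card (Subgroup.zpowers σ) K
  rw [← Nat.card_eq_fintype_card, hcard] at h1
  have h2 := Module.card_eq_pow_finrank (K := K0 σ) (V := K)
  rw [h1, hK] at h2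
  rw [Nat.card_eq_fintype_card]
  exact (Nat.pow_left_injective hr.ne' h2).symm


end part1

section part2


open Module

variable {K : Type*} [Field K] (σ : K ≃+* K)

/-- partial norms -/
def PN (c : K) : ℕ → K
  | 0 => 1
  | (i + 1) => σ (PN c i) * c

theorem map_pow_eq {n : ℕ} (g : Matrix (Fin n) (Fin n) K) (c : K) (h : g.map σ = c • g) (i : ℕ) :
    g.map (σ ^ i) = PN σ c i • g := by
  induction i with
  | zero =>
    ext a b
    simp [PN]
  | succ i ih =>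
    ext a b
    have h1 : (g.map (σ ^ (i + 1))) a b = σ ((g.map (σ ^ i)) a b) := by
      rw [Matrix.map_apply, Matrix.map_apply, pow_succ', RingAut.mul_apply]
    rw [h1, ih, Matrix.smul_apply, smul_eq_mul, map_mul]
    have h2 : σ (g a b) = c * g a b := by
      have := congrFun (congrFun h a) b
      rwa [Matrix.map_apply, Matrix.smul_apply, smul_eq_mul] at this
    rw [h2, Matrix.smul_apply, smul_eq_mul, PN]
    ring

theorem PN_eq_one {n r : ℕ} (hσ : σ ^ r = 1) (g : Matrix (Fin n) (Fin n) K) (c : K)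
    (h : g.map σ = c • g) (a b : Fin n) (hab : g a b ≠ 0) : PN σ c r = 1 := by
  have h1 := congrFun (congrFun (map_pow_eq σ g c h r) a) b
  rw [hσ, Matrix.map_apply, RingAut.one_apply, Matrix.smul_apply, smul_eq_mul] at h1
  have h2 : (PN σ c r - 1) * g a b = 0 := by rw [sub_mul, ← h1, one_mul, sub_self]
  rcases mul_eq_zero.mp h2 with h3 | h3
  · exact sub_eq_zero.mp h3
  · exact absurd h3 hab

theorem hilbert90 {r : ℕ} (hr : 0 < r) (hσ : orderOf σ = r) (c : K) (hc : PN σ c r = 1) :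
    ∃ l : K, l ≠ 0 ∧ c * σ l = l := by
  classical
  -- the combination
  have hsum : ∀ θ : K, c * σ (∑ i ∈ Finset.range r, PN σ c i * (σ ^ i) θ) =
      ∑ i ∈ Finset.range r, PN σ c i * (σ ^ i) θ := by
    intro θ
    rw [map_sum, Finset.mul_sum]
    have h1 : ∀ i ∈ Finset.range r, c * σ (PN σ c i * (σ ^ i) θ) =
        PN σ c (i + 1) * (σ ^ (i + 1)) θ := by
      intro i _
      rw [map_mul, PN, pow_succ', RingAut.mul_apply]
      ring
    rw [Finset.sum_congr rfl h1]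
    have h2 := Finset.sum_range_succ (fun i => PN σ c i * (σ ^ i) θ) r
    have h3 := Finset.sum_range_succ' (fun i => PN σ c i * (σ ^ i) θ) r
    rw [h2] at h3
    have h4 : (σ ^ r) θ = θ := by rw [← hσ, pow_orderOf_eq_one, RingAut.one_apply]
    simp only [hc, h4, PN, pow_zero, RingAut.one_apply, one_mul] at h3
    exact (add_right_cancel h3).symm
  by_contra hcon
  push Not at hcon
  have hzero : ∀ θ : K, ∑ i ∈ Finset.range r, PN σ c i * (σ ^ i) θ = 0 := by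
    intro θ
    by_contra hne
    exact hcon _ hne (hsum θ)
  -- Dedekind
  have hli := linearIndependent_monoidHom K K
  have hinj : Function.Injective (fun i : Fin r => ((σ ^ (i : ℕ) : K ≃+* K) : K →+* K).toMonoidHom) := by
    intro i j hij
    have h1 : σ ^ (i : ℕ) = σ ^ (j : ℕ) := by
      ext x
      have := DFunLike.congr_fun hij x
      exact this
    apply Fin.ext
    apply pow_injOn_Iio_orderOf (x := σ)
    · rw [Set.mem_Iio, hσ]; exact i.2
    · rw [Set.mem_Iio, hσ]; exact j.2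
    · exact h1
  have hli' := hli.comp _ hinj
  rw [Fintype.linearIndependent_iff] at hli'
  have h0 := hli' (fun i => PN σ c i) (by
    funext θ
    have := hzero θ
    rw [← Fin.sum_univ_eq_sum_range (fun i => PN σ c i * (σ ^ i) θ) r] at this
    simp only [Finset.sum_apply, Pi.smul_apply, Function.comp_apply, smul_eq_mul, Pi.zero_apply]
    exact this) ⟨0, hr⟩
  simp only [PN] at h0
  exact one_ne_zero h0


end part2

section part3


open Module

variable {K : Type*} [Field K] [Fintype K] (σ : K ≃+* K) {q₀ q r : ℕ}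

noncomputable instance instFintypeK0 : Fintype (K0 σ) := Fintype.ofFinite _

section fixed

variable (hr : r.Prime) (hr2 : r ≠ 2) (hq : q = q₀ ^ r) (hK : Fintype.card K = q ^ 2)
  (hσ : orderOf σ = r)

include hr hq hK hσ in
theorem card_K0' : Nat.card (K0 σ) = q₀ ^ 2 := by
  apply card_K0 σ hr.pos hσ
  rw [hK, hq, ← pow_mul, ← pow_mul, mul_comm]

include hr hq hK hσ in
theorem two_le_q0 : 2 ≤ q₀ := by
  have h1 := card_K0' σ hr hq hK hσ
  have h2 : 1 < Nat.card (K0 σ) := by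
    rw [Nat.card_eq_fintype_card]
    exact Fintype.one_lt_card
  rw [h1] at h2
  by_contra h
  push Not at h
  interval_cases q₀ <;> omega

include hr hq hK hσ in
theorem fixed_pow_card (x : K) (hx : σ x = x) : x ^ (q₀ ^ 2) = x := by
  have h1 := card_K0' σ hr hq hK hσ
  have h2 := FiniteField.pow_card (⟨x, (mem_K0_iff σ x).mpr hx⟩ : K0 σ)
  rw [← Nat.card_eq_fintype_card, h1] at h2
  exact congrArg Subtype.val h2

include hr hr2 hq hK hσ in
theorem fixed_pow_q (x : K) (hx : σ x = x) : x ^ q = x ^ q₀ := by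
  have hodd : Odd r := hr.odd_of_ne_two hr2
  obtain ⟨t, rfl⟩ := hodd
  have key : ∀ t : ℕ, x ^ (q₀ ^ (2 * t + 1)) = x ^ q₀ := by
    intro t
    induction t with
    | zero => simp
    | succ t ih =>
      have : q₀ ^ (2 * (t + 1) + 1) = q₀ ^ 2 * q₀ ^ (2 * t + 1) := by rw [← pow_add]; ring_nf
      rw [this, pow_mul, fixed_pow_card σ hr hq hK hσ x hx, ih]
  rw [hq]
  exact key t

include hr hr2 hq hK hσ in
theorem norm_surj (μ : K) (hμ0 : μ ≠ 0) (hμσ : σ μ = μ) (hμq : μ ^ q = μ) :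
    ∃ ν : K, ν ≠ 0 ∧ σ ν = ν ∧ ν ^ (q + 1) = μ := by
  classical
  have hq0 := two_le_q0 σ hr hq hK hσ
  obtain ⟨γ, hγ⟩ := IsCyclic.exists_generator (α := (K0 σ)ˣ)
  have hcard : (q₀ + 1) * (q₀ - 1) = Fintype.card (K0 σ) - 1 := by
    rw [← Nat.card_eq_fintype_card, card_K0' σ hr hq hK hσ]
    have : q₀ ^ 2 = (q₀ - 1 + 1) ^ 2 := by rw [Nat.sub_add_cancel (by omega)]
    rw [this]
    have h2 : q₀ + 1 = q₀ - 1 + 2 := by omega
    rw [h2]
    ring_nf
    omega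
  let μ₀ : K0 σ := ⟨μ, (mem_K0_iff σ μ).mpr hμσ⟩
  have hμ₀ : μ₀ ≠ 0 := fun h => hμ0 (congrArg Subtype.val h)
  have h1 : μ₀ ^ (q₀ - 1) = 1 := by
    have h2 : μ ^ q₀ = μ := by rw [← fixed_pow_q σ hr hr2 hq hK hσ μ hμσ, hμq]
    have h3 : μ₀ ^ (q₀ - 1) * μ₀ = μ₀ := by
      rw [← pow_succ, Nat.sub_add_cancel (by omega)]
      exact Subtype.ext h2
    exact mul_right_cancel₀ hμ₀ (by rw [h3, one_mul])
  obtain ⟨w, hw0, hw⟩ := PGLPrime.exists_root_of_chi γ hγ (q₀ - 1) hcard (by omega) μ₀ hμ₀ h1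
  refine ⟨(w : K), fun h => hw0 (Subtype.ext h), (mem_K0_iff σ _).mp w.2, ?_⟩
  rw [pow_succ, fixed_pow_q σ hr hr2 hq hK hσ _ ((mem_K0_iff σ _).mp w.2), ← pow_succ]
  exact congrArg Subtype.val hw

end fixed


end part3

section part4


open Module Matrix

variable {K : Type*} [Field K] [Fintype K] (σ : K ≃+* K) {q₀ q r n : ℕ}

section descent

variable (hr : r.Prime) (hr2 : r ≠ 2) (hq : q = q₀ ^ r) (hK : Fintype.card K = q ^ 2)
  (hσ : orderOf σ = r) (φ : K →+* K) (hφ : ∀ x, φ x = x ^ q) (hφφ : ∀ x, φ (φ x) = x)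

theorem smul_isU (a : K) (M : Matrix (Fin n) (Fin n) K) :
    (a • M)ᵀ * (a • M).map φ = (a * φ a) • (Mᵀ * M.map φ) := by
  have h1 : (a • M).map φ = φ a • M.map φ := by
    ext i j
    simp [Matrix.map_apply]
  rw [h1, Matrix.transpose_smul, Matrix.smul_mul, Matrix.mul_smul, smul_smul]

theorem smul_map (a : K) (M : Matrix (Fin n) (Fin n) K) :
    (a • M).map σ = σ a • M.map σ := by
  ext i j
  simp [Matrix.map_apply]

include hr hr2 hq hK hσ hφ hφφ in
theorem descent (hn : 1 ≤ n) (g : Matrix (Fin n) (Fin n) K) (hg : gᵀ * g.map φ = 1) (c : K)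
    (hgc : g.map σ = c • g) :
    ∃ (κ : K) (h : Matrix (Fin n) (Fin n) K), κ ^ (q + 1) = 1 ∧ hᵀ * h.map φ = 1 ∧
      h.map σ = h ∧ g = κ • h := by
  haveI : Nonempty (Fin n) := ⟨⟨0, hn⟩⟩
  let i0 : Fin n := ⟨0, hn⟩
  -- a nonzero entry
  have hne : ∃ a b, g a b ≠ 0 := by
    by_contra hcon
    push Not at hcon
    have h0 : g = 0 := by ext a b; exact hcon a b
    rw [h0, Matrix.transpose_zero, Matrix.zero_mul] at hg
    exact zero_ne_one hg
  obtain ⟨a, b, hab⟩ := hne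
  have hσr : σ ^ r = 1 := by rw [← hσ, pow_orderOf_eq_one]
  have hPN := PN_eq_one σ hσr g c hgc a b hab
  obtain ⟨l, hl0, hl⟩ := hilbert90 σ hr.pos hσ c hPN
  -- g' = l • g is σ-fixed
  have hg'σ : (l • g).map σ = l • g := by
    rw [smul_map, hgc, smul_smul, mul_comm, hl]
  have hg'U : (l • g)ᵀ * (l • g).map φ = (l * φ l) • 1 := by
    rw [smul_isU, hg]
  have hσφ : ∀ x, σ (φ x) = φ (σ x) := by
    intro x
    rw [hφ, hφ, map_pow]
  have hμσ : σ (l * φ l) = l * φ l := by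
    have h1 : ((l • g)ᵀ * (l • g).map φ).map σ = (l • g)ᵀ * (l • g).map φ := by
      rw [Matrix.map_mul, Matrix.transpose_map, hg'σ]
      congr 1
      ext i j
      simp only [Matrix.map_apply]
      rw [hσφ]
      have := congrFun (congrFun hg'σ i) j
      rw [Matrix.map_apply] at this
      rw [this]
    rw [hg'U] at h1
    have h2 := congrFun (congrFun h1 i0) i0
    simpa using h2
  have hμq : (l * φ l) ^ q = l * φ l := by
    rw [← hφ, map_mul, hφφ, mul_comm]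
  have hφl0 : φ l ≠ 0 := by rw [hφ]; exact pow_ne_zero _ hl0
  have hμ0 : l * φ l ≠ 0 := mul_ne_zero hl0 hφl0
  obtain ⟨ν, hν0, hνσ, hν⟩ := norm_surj σ hr hr2 hq hK hσ (l * φ l) hμ0 hμσ hμq
  have hνφ : ν * φ ν = l * φ l := by rw [hφ, ← pow_succ', hν]
  refine ⟨ν * l⁻¹, (ν⁻¹ * l) • g, ?_, ?_, ?_, ?_⟩
  · rw [mul_pow, hν, inv_pow, pow_succ' l, ← hφ]
    exact mul_inv_cancel₀ hμ0
  · rw [smul_isU, hg, map_mul, map_inv₀]
    have : ν⁻¹ * l * ((φ ν)⁻¹ * φ l) = (ν * φ ν)⁻¹ * (l * φ l) := by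
      rw [_root_.mul_inv_rev]; ring
    rw [this, hνφ, inv_mul_cancel₀ hμ0, one_smul]
  · rw [← smul_smul, smul_map, hg'σ, map_inv₀, hνσ]
  · rw [smul_smul]
    have : ν * l⁻¹ * (ν⁻¹ * l) = 1 := by
      field_simp
    rw [this, one_smul]

end descent


end part4

section part5


open Module Matrix

/-- counting by fibres of constant size -/
theorem card_of_fibers {A X U : Type*} [Finite A] [Finite X] (π : A → X)
    (hfib : ∀ x, Nonempty ({a // π a = x} ≃ U)) : Nat.card A = Nat.card X * Nat.card U := by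
  classical
  haveI : Fintype X := Fintype.ofFinite X
  rw [Nat.card_congr (Equiv.sigmaFiberEquiv π).symm, Nat.card_sigma,
    Finset.sum_congr rfl (fun x _ => Nat.card_congr (hfib x).some), Finset.sum_const,
    Finset.card_univ, smul_eq_mul, ← Nat.card_eq_fintype_card]

theorem card_roots {F : Type*} [Field F] [Fintype F] (r d : ℕ) (hd : r * d = Fintype.card F - 1)
    (hr : 0 < r) : Nat.card {κ : F // κ ^ r = 1} = r := by
  classical
  obtain ⟨γ, hγ⟩ := IsCyclic.exists_generator (α := Fˣ)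
  have hζ := PGLPrime.isPrimitiveRoot_gen_pow γ hγ d hd hr
  have h1 : Nat.card {κ : F // κ ^ r = 1} = (Polynomial.nthRootsFinset r (1 : F)).card := by
    rw [← Fintype.card_coe, ← Nat.card_eq_fintype_card]
    apply Nat.card_congr
    exact Equiv.subtypeEquivRight (fun κ => (Polynomial.mem_nthRootsFinset hr (1 : F)).symm)
  rw [h1, hζ.card_nthRootsFinset]

variable {F : Type*} [Field F] {q n : ℕ}

/-- `GU` as a set of matrices -/
def guEquiv (φ : F →+* F) (hφ : ∀ x, φ x = x ^ q) :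
    Cfsg.GU n F q ≃ {M : Matrix (Fin n) (Fin n) F // Mᵀ * M.map φ = 1} where
  toFun g := ⟨((g : GL (Fin n) F) : Matrix (Fin n) (Fin n) F),
    (Cfsg.Agent.S0837.mem_GU_iff' φ hφ g.1).mp g.2⟩
  invFun M := ⟨⟨M.1, (M.1.map φ)ᵀ, by
      have h := M.2
      rw [← Matrix.transpose_transpose (M.1 * (M.1.map φ)ᵀ), Matrix.transpose_mul,
        Matrix.transpose_transpose]
      rw [mul_eq_one_comm] at h
      rw [h, Matrix.transpose_one], by
      have h := M.2
      rw [← Matrix.transpose_transpose ((M.1.map φ)ᵀ * M.1), Matrix.transpose_mul,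
        Matrix.transpose_transpose, h, Matrix.transpose_one]⟩,
    (Cfsg.Agent.S0837.mem_GU_iff' φ hφ _).mpr M.2⟩
  left_inv g := by
    apply Subtype.ext
    apply Units.ext
    rfl
  right_inv M := rfl

theorem guEquiv_val (φ : F →+* F) (hφ : ∀ x, φ x = x ^ q) (g : Cfsg.GU n F q) :
    (guEquiv φ hφ g).1 = ((g : GL (Fin n) F) : Matrix (Fin n) (Fin n) F) := rfl


end part5

section part6


open Module Matrix

variable {K : Type*} [Field K] [Fintype K] (σ : K ≃+* K) {q₀ q r n : ℕ}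

section count

variable (φ : K →+* K)

/-- unitary matrices projectively fixed by `σ` -/
abbrev XS (n : ℕ) := {M : Matrix (Fin n) (Fin n) K //
  Mᵀ * M.map φ = 1 ∧ ∃ c : K, c ≠ 0 ∧ M.map σ = c • M}

/-- unitary matrices fixed by `σ` -/
abbrev HS (n : ℕ) := {M : Matrix (Fin n) (Fin n) K // Mᵀ * M.map φ = 1 ∧ M.map σ = M}

/-- unitary scalars -/
abbrev U1 (K : Type*) [Field K] (q : ℕ) := {κ : K // κ ^ (q + 1) = 1}

/-- fixed unitary scalars -/
abbrev U0 (q : ℕ) := {κ : K // κ ^ (q + 1) = 1 ∧ σ κ = κ}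

theorem U1_ne_zero (κ : K) (h : κ ^ (q + 1) = 1) : κ ≠ 0 := by
  rintro rfl
  rw [zero_pow (Nat.succ_ne_zero q)] at h
  exact zero_ne_one h

variable (hφ : ∀ x, φ x = x ^ q)

include hφ in
theorem isU_smul (κ : K) (hκ : κ ^ (q + 1) = 1) (h : Matrix (Fin n) (Fin n) K)
    (hh : hᵀ * h.map φ = 1) : (κ • h)ᵀ * (κ • h).map φ = 1 := by
  rw [smul_isU, hh, hφ, ← pow_succ', hκ, one_smul]

/-- the product map -/
def piMap (x : U1 K q × HS σ φ n) : XS σ φ n :=
  ⟨x.1.1 • x.2.1, isU_smul φ hφ x.1.1 x.1.2 x.2.1 x.2.2.1,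
    σ x.1.1 * x.1.1⁻¹, mul_ne_zero (by
      intro h
      exact U1_ne_zero x.1.1 x.1.2 ((map_eq_zero σ).mp h))
      (inv_ne_zero (U1_ne_zero x.1.1 x.1.2)), by
    rw [smul_map, x.2.2.2, smul_smul, mul_assoc, inv_mul_cancel₀ (U1_ne_zero x.1.1 x.1.2),
      mul_one]⟩

theorem exists_entry_ne_zero (hn : 1 ≤ n) (M : Matrix (Fin n) (Fin n) K)
    (hM : Mᵀ * M.map φ = 1) : ∃ a b, M a b ≠ 0 := by
  haveI : Nonempty (Fin n) := ⟨⟨0, hn⟩⟩
  by_contra hcon
  push Not at hcon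
  have h0 : M = 0 := by ext a b; exact hcon a b
  rw [h0, Matrix.transpose_zero, Matrix.zero_mul] at hM
  exact zero_ne_one hM

variable (hr : r.Prime) (hr2 : r ≠ 2) (hq : q = q₀ ^ r) (hK : Fintype.card K = q ^ 2)
  (hσ : orderOf σ = r) (hφφ : ∀ x, φ (φ x) = x)

include hr hr2 hq hK hσ hφφ in
theorem fiber_equiv (hn : 1 ≤ n) (x : XS σ φ n) :
    Nonempty ({a : U1 K q × HS σ φ n // piMap σ φ hφ a = x} ≃ U0 σ q) := by
  obtain ⟨c, hc0, hc⟩ := x.2.2
  obtain ⟨κ₀, h₀, hκ₀, hh₀U, hh₀σ, hx⟩ :=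
    descent σ hr hr2 hq hK hσ φ hφ hφφ hn x.1 x.2.1 c hc
  have hκ₀0 := U1_ne_zero κ₀ hκ₀
  obtain ⟨a0, b0, hab⟩ := exists_entry_ne_zero φ hn h₀ hh₀U
  let f : U0 σ q → {a : U1 K q × HS σ φ n // piMap σ φ hφ a = x} := fun ε =>
    ⟨(⟨κ₀ * ε.1⁻¹, by rw [mul_pow, inv_pow, ε.2.1, hκ₀, inv_one, mul_one]⟩,
      ⟨ε.1 • h₀, isU_smul φ hφ ε.1 ε.2.1 h₀ hh₀U, by rw [smul_map, hh₀σ, ε.2.2]⟩), by
      apply Subtype.ext
      show (κ₀ * ε.1⁻¹) • (ε.1 • h₀) = x.1
      rw [smul_smul, mul_assoc, inv_mul_cancel₀ (U1_ne_zero ε.1 ε.2.1), mul_one, hx]⟩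
  refine ⟨(Equiv.ofBijective f ⟨?_, ?_⟩).symm⟩
  · intro ε ε' h
    have h1 := congrArg (fun a : {a : U1 K q × HS σ φ n // piMap σ φ hφ a = x} => a.1.1.1) h
    simp only [f] at h1
    apply Subtype.ext
    have h2 := mul_left_cancel₀ hκ₀0 h1
    exact inv_injective h2
  · rintro ⟨⟨⟨κ, hκ⟩, ⟨h, hhU, hhσ⟩⟩, ha⟩
    have hκ0 := U1_ne_zero κ hκ
    have ha' : κ • h = κ₀ • h₀ := by
      have := congrArg Subtype.val ha
      rw [← hx]
      exact this
    have hh : h = (κ₀ * κ⁻¹) • h₀ := by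
      rw [mul_comm, ← smul_smul, ← ha', smul_smul, inv_mul_cancel₀ hκ0, one_smul]
    have hεσ : σ (κ₀ * κ⁻¹) = κ₀ * κ⁻¹ := by
      have h1 := hhσ
      rw [hh, smul_map, hh₀σ] at h1
      have h2 := congrFun (congrFun h1 a0) b0
      rw [Matrix.smul_apply, Matrix.smul_apply, smul_eq_mul, smul_eq_mul] at h2
      exact mul_right_cancel₀ hab h2
    refine ⟨⟨κ₀ * κ⁻¹, by rw [mul_pow, inv_pow, hκ, hκ₀, inv_one, mul_one], hεσ⟩, ?_⟩
    apply Subtype.ext
    apply Prod.ext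
    · apply Subtype.ext
      show κ₀ * (κ₀ * κ⁻¹)⁻¹ = κ
      rw [_root_.mul_inv_rev, inv_inv, mul_comm κ, ← mul_assoc, mul_inv_cancel₀ hκ₀0, one_mul]
    · apply Subtype.ext
      show (κ₀ * κ⁻¹) • h₀ = h
      exact hh.symm

end count


end part6

section part7


open Module Matrix

variable {K : Type*} [Field K] [Fintype K] (σ : K ≃+* K) {q₀ q r n : ℕ}

section count2

variable (φ : K →+* K) (hφ : ∀ x, φ x = x ^ q)
variable (hr : r.Prime) (hr2 : r ≠ 2) (hq : q = q₀ ^ r) (hK : Fintype.card K = q ^ 2)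
  (hσ : orderOf σ = r)

include hr hr2 hq hK hσ in
theorem card_U0 : Nat.card (U0 σ q) = q₀ + 1 := by
  have hq0 := two_le_q0 σ hr hq hK hσ
  have hcard : (q₀ + 1) * (q₀ - 1) = Fintype.card (K0 σ) - 1 := by
    rw [← Nat.card_eq_fintype_card, card_K0' σ hr hq hK hσ]
    have : q₀ ^ 2 = (q₀ - 1 + 1) ^ 2 := by rw [Nat.sub_add_cancel (by omega)]
    rw [this]
    have h2 : q₀ + 1 = q₀ - 1 + 2 := by omega
    rw [h2]
    ring_nf
    omega
  rw [← card_roots (F := K0 σ) (q₀ + 1) (q₀ - 1) hcard (Nat.succ_pos _)]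
  apply Nat.card_congr
  refine
    { toFun := fun κ => ⟨⟨κ.1, (mem_K0_iff σ _).mpr κ.2.2⟩, ?_⟩
      invFun := fun κ => ⟨κ.1.1, ?_, (mem_K0_iff σ _).mp κ.1.2⟩
      left_inv := fun κ => rfl
      right_inv := fun κ => rfl }
  · apply Subtype.ext
    have h1 := κ.2.1
    rw [pow_succ, fixed_pow_q σ hr hr2 hq hK hσ _ κ.2.2, ← pow_succ] at h1
    exact h1
  · have h1 : (κ.1.1 : K) ^ (q₀ + 1) = 1 := congrArg Subtype.val κ.2
    rw [pow_succ, fixed_pow_q σ hr hr2 hq hK hσ _ ((mem_K0_iff σ _).mp κ.1.2), ← pow_succ]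
    exact h1

include hK in
theorem card_U1 : Nat.card (U1 K q) = q + 1 := by
  have hq1 : 1 ≤ q := by
    rcases Nat.eq_zero_or_pos q with h | h
    · rw [h] at hK
      have := Fintype.one_lt_card (α := K)
      omega
    · exact h
  have hcard : (q + 1) * (q - 1) = Fintype.card K - 1 := by
    rw [hK]
    have : q ^ 2 = (q - 1 + 1) ^ 2 := by rw [Nat.sub_add_cancel hq1]
    rw [this]
    have h2 : q + 1 = q - 1 + 2 := by omega
    rw [h2]
    ring_nf
    omega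
  exact card_roots (F := K) (q + 1) (q - 1) hcard (Nat.succ_pos _)

/-- a `σ`-fixed matrix as a matrix over the fixed field -/
def toK0 (M : Matrix (Fin n) (Fin n) K) (hM : M.map σ = M) : Matrix (Fin n) (Fin n) (K0 σ) :=
  fun i j => ⟨M i j, (mem_K0_iff σ _).mpr (by
    have := congrFun (congrFun hM i) j
    rwa [Matrix.map_apply] at this)⟩

theorem toK0_map (M : Matrix (Fin n) (Fin n) K) (hM : M.map σ = M) :
    (toK0 σ M hM).map (K0 σ).subtype = M := by
  ext i j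
  rfl

include hr hr2 hq hK hσ hφ in
theorem card_HS (φ₀ : K0 σ →+* K0 σ) (hφ₀ : ∀ x, φ₀ x = x ^ q₀) :
    Nat.card (HS σ φ n) =
      Nat.card {M : Matrix (Fin n) (Fin n) (K0 σ) // Mᵀ * M.map φ₀ = 1} := by
  have hcompat : ∀ x : K0 σ, φ ((K0 σ).subtype x) = (K0 σ).subtype (φ₀ x) := by
    intro x
    rw [hφ, hφ₀, map_pow]
    exact fixed_pow_q σ hr hr2 hq hK hσ _ ((mem_K0_iff σ _).mp x.2)
  have hmap : ∀ M : Matrix (Fin n) (Fin n) (K0 σ),
      (M.map (K0 σ).subtype)ᵀ * (M.map (K0 σ).subtype).map φ =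
        (Mᵀ * M.map φ₀).map (K0 σ).subtype := by
    intro M
    rw [Matrix.map_mul, Matrix.transpose_map]
    congr 1
    ext i j
    simp only [Matrix.map_apply]
    exact hcompat _
  have hinv : ∀ (M : Matrix (Fin n) (Fin n) K) (hMU : Mᵀ * M.map φ = 1) (hMσ : M.map σ = M),
      (toK0 σ M hMσ)ᵀ * (toK0 σ M hMσ).map φ₀ = 1 := by
    intro M hMU hMσ
    have h1 := hmap (toK0 σ M hMσ)
    rw [toK0_map, hMU] at h1
    apply Matrix.map_injective (Subtype.val_injective : Function.Injective (K0 σ).subtype)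
    show ((toK0 σ M hMσ)ᵀ * (toK0 σ M hMσ).map φ₀).map (K0 σ).subtype =
      (1 : Matrix (Fin n) (Fin n) (K0 σ)).map (K0 σ).subtype
    rw [← h1, Matrix.map_one _ (map_zero _) (map_one _)]
  symm
  apply Nat.card_congr
  refine
    { toFun := fun M => ⟨M.1.map (K0 σ).subtype, ?_, ?_⟩
      invFun := fun M => ⟨toK0 σ M.1 M.2.2, hinv M.1 M.2.1 M.2.2⟩
      left_inv := fun M => rfl
      right_inv := fun M => rfl }
  · rw [hmap, M.2, Matrix.map_one _ (map_zero _) (map_one _)]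
  · ext i j
    rw [Matrix.map_apply, Matrix.map_apply]
    exact (mem_K0_iff σ _).mp (M.1 i j).2

end count2


end part7

section part8


open Module Matrix

variable {K : Type*} [Field K] [Fintype K] {q₀ q r n : ℕ}

theorem cast_ordGU (q₀ n : ℕ) (hq0 : 1 ≤ q₀) :
    ((Cfsg.Agent.Lib.H2.Unitary.ordGU q₀ n : ℕ) : ℤ) =
      (q₀ : ℤ) ^ (n * (n - 1) / 2) *
        ∏ i : Fin n, ((q₀ : ℤ) ^ ((i : ℕ) + 1) - (-1) ^ ((i : ℕ) + 1)) := by
  unfold Cfsg.Agent.Lib.H2.Unitary.ordGU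
  rw [Nat.cast_mul, Nat.cast_pow, Nat.cast_prod,
    Fin.prod_univ_eq_prod_range (fun i => (q₀ : ℤ) ^ (i + 1) - (-1) ^ (i + 1)) n]
  congr 1
  apply Finset.prod_congr rfl
  intro i _
  split_ifs with h
  · rw [pow_succ (-1 : ℤ), h.neg_one_pow]
    push_cast
    ring
  · rw [Nat.not_even_iff_odd] at h
    rw [pow_succ (-1 : ℤ), h.neg_one_pow, Nat.cast_sub (Nat.one_le_pow _ _ hq0)]
    push_cast
    ring

theorem main (hr : r.Prime) (hr2 : r ≠ 2) (hn : 1 ≤ n) (hq : q = q₀ ^ r)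
    (hK : Fintype.card K = q ^ 2) (σ : K ≃+* K) (hσ : orderOf σ = r) :
    (Nat.card {g : ↥(Cfsg.GU n K q) // ∃ c : K, c ≠ 0 ∧
      ((g : GL (Fin n) K) : Matrix (Fin n) (Fin n) K).map σ =
        c • ((g : GL (Fin n) K) : Matrix (Fin n) (Fin n) K)} : ℤ) =
    ((q + 1) / (q₀ + 1) : ℕ) * ((q₀ : ℤ) ^ (n * (n - 1) / 2) *
      ∏ i : Fin n, ((q₀ : ℤ) ^ ((i : ℕ) + 1) - (-1) ^ ((i : ℕ) + 1))) := by
  classical
  obtain ⟨φ, hφ, hφφ⟩ := Cfsg.Agent.Lib.H4.exists_frob hK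
  have hq0 := two_le_q0 σ hr hq hK hσ
  have hK0 : Fintype.card (K0 σ) = q₀ ^ 2 := by
    rw [← Nat.card_eq_fintype_card]
    exact card_K0' σ hr hq hK hσ
  obtain ⟨φ₀, hφ₀, -⟩ := Cfsg.Agent.Lib.H4.exists_frob hK0
  -- the statement's set as matrices
  have e1 : {g : ↥(Cfsg.GU n K q) // ∃ c : K, c ≠ 0 ∧
      ((g : GL (Fin n) K) : Matrix (Fin n) (Fin n) K).map σ =
        c • ((g : GL (Fin n) K) : Matrix (Fin n) (Fin n) K)} ≃ XS σ φ n :=
    (Equiv.subtypeEquiv (guEquiv (n := n) φ hφ)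
      (q := fun M => ∃ c : K, c ≠ 0 ∧ M.1.map σ = c • M.1) (fun g => Iff.rfl)).trans
      (Equiv.subtypeSubtypeEquivSubtypeInter (fun M : Matrix (Fin n) (Fin n) K => Mᵀ * M.map φ = 1)
        (fun M => ∃ c : K, c ≠ 0 ∧ M.map σ = c • M))
  have h1 := card_of_fibers (piMap σ φ hφ (n := n))
    (fiber_equiv σ φ hφ hr hr2 hq hK hσ hφφ hn)
  rw [Nat.card_prod, card_U1 hK, card_U0 σ hr hr2 hq hK hσ,
    card_HS σ φ hφ hr hr2 hq hK hσ φ₀ hφ₀,
    ← Nat.card_congr (guEquiv (n := n) φ₀ hφ₀), Cfsg.Agent.Lib.H2.Unitary.card_GU hK0 n,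
    ← Nat.card_congr e1] at h1
  have hdvd : q₀ + 1 ∣ q + 1 := by
    have := Odd.nat_add_dvd_pow_add_pow q₀ 1 (hr.odd_of_ne_two hr2)
    rwa [one_pow, ← hq] at this
  obtain ⟨t, ht⟩ := hdvd
  have h2 : Nat.card {g : ↥(Cfsg.GU n K q) // ∃ c : K, c ≠ 0 ∧
      ((g : GL (Fin n) K) : Matrix (Fin n) (Fin n) K).map σ =
        c • ((g : GL (Fin n) K) : Matrix (Fin n) (Fin n) K)} =
      t * Cfsg.Agent.Lib.H2.Unitary.ordGU q₀ n := by
    rw [ht] at h1
    have h3 : (q₀ + 1) * (t * Cfsg.Agent.Lib.H2.Unitary.ordGU q₀ n) =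
        (q₀ + 1) * Nat.card {g : ↥(Cfsg.GU n K q) // ∃ c : K, c ≠ 0 ∧
          ((g : GL (Fin n) K) : Matrix (Fin n) (Fin n) K).map σ =
            c • ((g : GL (Fin n) K) : Matrix (Fin n) (Fin n) K)} := by
      rw [← mul_assoc, h1, mul_comm]
    exact (Nat.eq_of_mul_eq_mul_left (Nat.succ_pos _) h3).symm
  rw [h2, ht, Nat.mul_div_cancel_left _ (Nat.succ_pos _), Nat.cast_mul,
    cast_ordGU q₀ n (by omega)]


end part8

end Cfsg.Agent.Lib.H13.GUField
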