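import Mathlib
import Cfsg.Prelude.Def_HallClasses

/-!
# Hall subgroups of the symmetric groups (P. Hall 1956, Thompson 1966): definitions

Shared vocabulary for the farm-out of S2536 / S2535 / S2538 / S2534.
-/

namespace Cfsg.Agent.Lib.H13.HS

open Equiv MulAction
open scoped Pointwise

/-- `k` is a `π`-number. -/
def PiNum (π : Set ℕ) (k : ℕ) : Prop := ∀ p : ℕ, p.Prime → p ∣ k → p ∈ π

/-- `k` is a `π'`-number. -/
def PiFree (π : Set ℕ) (k : ℕ) : Prop := ∀ p : ℕ, p.Prime → p ∈ π → ¬ p ∣ k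

theorem isPiHall_iff {G : Type*} [Group G] (π : Set ℕ) (H : Subgroup G) :
    Cfsg.IsPiHall π H ↔ PiNum π (Nat.card H) ∧ PiFree π H.index := Iff.rfl

/-- at most one prime of `π` is `≤ n`. -/
def Few (π : Set ℕ) (n : ℕ) : Prop :=
  ∀ r s : ℕ, r.Prime → s.Prime → r ∈ π → s ∈ π → r ≤ n → s ≤ n → r = s

/-- every prime `≤ n` lies in `π`. -/
def Full (π : Set ℕ) (n : ℕ) : Prop := ∀ r : ℕ, r.Prime → r ≤ n → r ∈ π

/-- `n` is prime and the primes of `π` that are `≤ n` are exactly the primes `< n`. -/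
def Below (π : Set ℕ) (n : ℕ) : Prop :=
  n.Prime ∧ ∀ r : ℕ, r.Prime → r ≤ n → (r ∈ π ↔ r < n)

/-- the primes of `π` that are `≤ n` are exactly `2` and `3`. -/
def TwoThree (π : Set ℕ) (n : ℕ) : Prop :=
  ∀ r : ℕ, r.Prime → r ≤ n → (r ∈ π ↔ (r = 2 ∨ r = 3))

/-- the numeric classification: the `(π, n)` for which `S_n` has a Hall `π`-subgroup. -/
def Cls (π : Set ℕ) (n : ℕ) : Prop :=
  Few π n ∨ Full π n ∨ Below π n ∨ ((n = 7 ∨ n = 8) ∧ TwoThree π n)

/-- the point stabilizer `H_a`, as a subgroup of the symmetric group on the other points: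
`σ ∈ ptRes H a ↔ ofSubtype σ ∈ H`. -/
noncomputable def ptRes {α : Type*} (H : Subgroup (Perm α)) (a : α) :
    Subgroup (Perm {x : α // x ≠ a}) :=
  H.comap (@Equiv.Perm.ofSubtype α (fun x => x ≠ a) (Classical.decPred _))

/-- the group induced by `H ⊓ stabilizer s` on the set `s`. -/
noncomputable def setRes {α : Type*} (H : Subgroup (Perm α)) (s : Set α) : Subgroup (Perm ↥s) :=
  (H.subgroupOf (stabilizer (Perm α) s)).map (MulAction.toPermHom (stabilizer (Perm α) s) s)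

/-- the stabilizer of the partition `{s, sᶜ}`. -/
def partStab {α : Type*} (s : Set α) : Subgroup (Perm α) :=
  stabilizer (Perm α) ({s, sᶜ} : Set (Set α))

/-- the conclusion of the (weak) structure theorem. -/
def Concl {α : Type} [Finite α] (π : Set ℕ) (H : Subgroup (Perm α)) : Prop :=
  Few π (Nat.card α) ∨ Full π (Nat.card α) ∨
  (Below π (Nat.card α) ∧ ∃ x : α, H = stabilizer (Perm α) x) ∨
  (Nat.card α = 7 ∧ TwoThree π 7 ∧ ∃ s : Set α, s.ncard = 3 ∧ H = stabilizer (Perm α) s) ∨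
  (Nat.card α = 8 ∧ TwoThree π 8)

theorem Concl.cls {α : Type} [Finite α] {π : Set ℕ} {H : Subgroup (Perm α)} (h : Concl π H) :
    Cls π (Nat.card α) := by
  rcases h with h | h | ⟨h, _⟩ | ⟨h7, h, _⟩ | ⟨h8, h⟩
  · exact Or.inl h
  · exact Or.inr (Or.inl h)
  · exact Or.inr (Or.inr (Or.inl h))
  · exact Or.inr (Or.inr (Or.inr ⟨Or.inl h7, h7 ▸ h⟩))
  · exact Or.inr (Or.inr (Or.inr ⟨Or.inr h8, h8 ▸ h⟩))

end Cfsg.Agent.Lib.H13.HS
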