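import Cfsg.Agent.Lib.H13.HSDefs
import Cfsg.Agent.Lib.H27.HSL1D
import Cfsg.Agent.Lib.H14.HSL1A
import Cfsg.Agent.Lib.H14.HSL1B
import Cfsg.Agent.Lib.H6.HSL1C
import Cfsg.Agent.Lib.H21.HSP8

/-!
# The binomial lemma L1 and the numeric analysis of the intransitive case (HS project)

`L1`: if `2 ≤ a ≤ n/2` and no prime `≤ n - a` divides `C(n,a)` then `(n,a) = (7,3)`.
Assembled from the pieces of helper27 (Kummer), helper14 (L1A, L1B) and helper6 (L1C).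
-/

namespace Cfsg.Agent.Lib.H13.HS

theorem L1 {n a : ℕ} (ha : 2 ≤ a) (han : 2 * a ≤ n)
    (h : ∀ l : ℕ, l.Prime → l ≤ n - a → ¬ l ∣ n.choose a) : n = 7 ∧ a = 3 := by
  obtain ⟨m, rfl⟩ : ∃ m, n = a + m := ⟨n - a, by omega⟩
  have ham : a ≤ m := by omega
  have h' : ∀ l : ℕ, l.Prime → l ≤ m → ¬ l ∣ (a + m).choose a := by
    intro l hl hlm; exact h l hl (by omega)
  have hF : ∀ l : ℕ, l.Prime → l ≤ m → ∀ j : ℕ, a % l ^ j + m % l ^ j < l ^ j :=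
    fun l hl hlm j => Cfsg.Agent.Lib.H27.HS.noCarry hl (h' l hl hlm) j
  obtain ⟨hlt, ⟨k, hk⟩, hp, hu, hodd, hev⟩ := Cfsg.Agent.Lib.H14.HS.L1A ha ham hF
  have ha3 : 3 ≤ a := by
    obtain ⟨c, hc⟩ := hodd; omega
  have hk1 : 1 ≤ k := by
    rcases Nat.eq_zero_or_pos k with h0 | h0
    · subst h0; omega
    · exact h0
  rcases Cfsg.Agent.Lib.H14.HS.L1B ha3 hodd hk hk1 hF with ⟨rfl, rfl⟩ | hlt2
  · subst hk; exact ⟨by norm_num, rfl⟩
  · exfalso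
    obtain ⟨t, ht⟩ := hodd
    subst ht
    refine Cfsg.Agent.Lib.H6.HS.L1C (t := t) (m := m) (by omega) ?_ hev h'
    have : (2 * t + 1 + 1) * (2 * t + 1 + 1) < 2 * m := by
      calc (2 * t + 1 + 1) * (2 * t + 1 + 1) < (2 * t + 1 + 1) * (2 * k) :=
            Nat.mul_lt_mul_of_pos_left hlt2 (by omega)
        _ = 2 * m := by rw [hk]; ring
    nlinarith

theorem intrans_numeric {π : Set ℕ} {n a : ℕ} (h2 : ¬ Few π n) (hnf : ¬ Full π n)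
    (ha1 : 1 ≤ a) (ha2 : 2 * a ≤ n) (hfree : PiFree π (n.choose a)) (hc : Cls π (n - a)) :
    (a = 1 ∧ Below π n ∧ Full π (n - 1)) ∨ (n = 7 ∧ a = 3 ∧ TwoThree π 7) :=
  Cfsg.Agent.Lib.H21.HS.intrans_numeric_of (fun ha han h => L1 ha han h) h2 hnf ha1 ha2 hfree hc

end Cfsg.Agent.Lib.H13.HS
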