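import Cfsg.Agent.Lib.H13.HSDefs
import Cfsg.Agent.Lib.H13.HSL1
import Cfsg.Agent.Lib.H1.HSP1
import Cfsg.Agent.Lib.H24.HSP2
import Cfsg.Agent.Lib.H27.HSP3
import Cfsg.Agent.Lib.H20.HSP4
import Cfsg.Agent.Lib.H27.HSP5
import Cfsg.Agent.Lib.H6.HSP6
import Cfsg.Agent.Lib.H22.HSP10

/-!
# Hall subgroups of the symmetric groups: the structure theorem (weak form) and S2536

`main_aux`: by strong induction on the degree, a Hall `π`-subgroup `H` of `Perm α` satisfies `Concl π H`.
Pieces by helper1 (P1), helper24 (P2), helper27 (P3, P5, Kummer), helper20 (P4), helper6 (P6, L1C),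
helper14 (L1A, L1B), helper21 (P8), helper22 (P10), helper25/helper20 (P9).
-/

namespace Cfsg.Agent.Lib.H13.HS

open Equiv MulAction
open scoped Pointwise

open Cfsg.Agent.Lib.H1.HS (hall_piFree_index_of_le hall_eq_of_le)
open Cfsg.Agent.Lib.H24.HS (card_stabilizer_set index_stabilizer_set card_stabilizer_point hall_setRes
  hall_ptRes ptRes_eq_stabilizer)
open Cfsg.Agent.Lib.H27.HS (exists_invariant_set caseC)
open Cfsg.Agent.Lib.H20.HS (caseA)
open Cfsg.Agent.Lib.H6.HS (caseE)
open Cfsg.Agent.Lib.H22.HS (hall_stabilizer_point hall_stabilizer_three hall_partStab)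

/-! ## ASSEMBLY -/

theorem five_le_of {π : Set ℕ} {n : ℕ} (h2 : ¬ Few π n) (hnf : ¬ Full π n) : 5 ≤ n := by
  unfold Few at h2; unfold Full at hnf
  push Not at h2 hnf
  obtain ⟨r, s, hr, hs, hrπ, hsπ, hrn, hsn, hrs⟩ := h2
  obtain ⟨t, ht, htn, htπ⟩ := hnf
  by_contra hlt
  have hn : n ≤ 4 := by omega
  have hr2 := hr.two_le; have hs2 := hs.two_le; have ht2 := ht.two_le
  have hrt : r ≠ t := fun h => htπ (h ▸ hrπ)
  have hst : s ≠ t := fun h => htπ (h ▸ hsπ)
  have h4 : ¬ (4 : ℕ).Prime := by decide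
  have : r = 4 ∨ s = 4 ∨ t = 4 := by omega
  rcases this with h | h | h
  · exact h4 (h ▸ hr)
  · exact h4 (h ▸ hs)
  · exact h4 (h ▸ ht)

theorem twoThree_seven_eight {π : Set ℕ} (h : TwoThree π 7) : TwoThree π 8 := by
  intro r hr hr8
  have : r ≠ 8 := fun h8 => by rw [h8] at hr; exact absurd hr (by decide)
  exact h r hr (by omega)

theorem piNum_factorial_of_full {π : Set ℕ} {k : ℕ} (h : Full π k) : PiNum π k.factorial := by
  intro p hp hdvd
  exact h p hp ((hp.dvd_factorial).1 hdvd)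

theorem main_aux : ∀ n : ℕ, ∀ (α : Type) [Finite α], Nat.card α = n →
    ∀ (π : Set ℕ) (H : Subgroup (Perm α)), Cfsg.IsPiHall π H → Concl π H := by
  intro n
  induction n using Nat.strong_induction_on with
  | _ n ih =>
  intro α _ hn π H hH
  by_cases hfew : Few π n
  · exact Or.inl (hn ▸ hfew)
  by_cases hfull : Full π n
  · exact Or.inr (Or.inl (hn ▸ hfull))
  have hn5 : 5 ≤ n := five_le_of hfew hfull
  have : Nonempty α := by
    rw [← Finite.card_pos_iff]; omega
  by_cases htr : IsPretransitive H α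
  · -- transitive case
    obtain ⟨a⟩ := ‹Nonempty α›
    have hcard : Nat.card {x : α // x ≠ a} = n - 1 := by
      have h0 : Nat.card {x : α // x ≠ a} = ({a}ᶜ : Set α).ncard := by
        rw [← Nat.card_coe_set_eq]; rfl
      rw [h0, Set.ncard_compl, Set.ncard_singleton, hn]
    have hc : Concl π (ptRes H a) :=
      ih (n - 1) (by omega) _ hcard π _ (hall_ptRes hH htr a)
    have hdiv : n ∣ Nat.card H := by
      have h1 := MulAction.index_stabilizer_of_transitive H a
      rw [hn] at h1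
      rw [← h1]
      exact Subgroup.index_dvd_card _
    unfold Concl at hc
    rw [hcard] at hc
    unfold Few at hfew; unfold Full at hfull
    push Not at hfew hfull
    obtain ⟨r, s, hr, hs, hrπ, hsπ, hrn, hsn, hrs⟩ := hfew
    obtain ⟨t, ht, htn, htπ⟩ := hfull
    rcases hc with hf | hf | ⟨hb, x, hx⟩ | ⟨h7, h23, _⟩ | ⟨h8, h23⟩
    · -- Few π (n-1)
      have key : ∀ r s : ℕ, r.Prime → s.Prime → r ∈ π → s ∈ π → r ≤ n → s ≤ n → r ≠ s →
          s ≠ n → False := by
        intro r s hr hs hrπ hsπ hrn hsn hrs hsne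
        have hrn' : r = n := by
          by_contra hne
          exact hrs (hf r s hr hs hrπ hsπ (by omega) (by omega))
        subst hrn'
        refine caseA hH htr (hn ▸ hr) hs hsπ (by rw [hn]; omega) ?_ ⟨t, ht, hn ▸ htn, htπ⟩
        intro u hu huπ hun
        rw [hn] at hun ⊢
        by_cases hur : u = r
        · exact Or.inr hur
        · exact Or.inl (hf u s hu hs huπ hsπ (by omega) (by omega))
      by_cases hsn' : s = n
      · exact (key s r hs hr hsπ hrπ hsn hrn (Ne.symm hrs) (by omega)).elim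
      · exact (key r s hr hs hrπ hsπ hrn hsn hrs hsn').elim
    · -- Full π (n-1)
      have htn' : t = n := by
        by_contra hne
        exact htπ (hf t ht (by omega))
      exact (htπ (hH.1 t ht (htn' ▸ hdiv))).elim
    · -- Below π (n-1), point stabilizer
      exact (caseC (by omega) htr a x x.2.symm (ptRes_eq_stabilizer hx)).elim
    · -- n = 8
      exact Or.inr (Or.inr (Or.inr (Or.inr ⟨by omega, twoThree_seven_eight h23⟩)))
    · -- n = 9
      have h9 : Nat.card α = 9 := by omega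
      exact (caseE h9 hH htr ((h23 2 (by decide) (by decide)).2 (Or.inl rfl))
        ((h23 3 (by decide) (by decide)).2 (Or.inr rfl))
        (fun h5 => by have := (h23 5 (by decide) (by decide)).1 h5; omega)).elim
  · -- intransitive case
    obtain ⟨s, hs, h1, h2⟩ := exists_invariant_set H htr
    have hfree : PiFree π (n.choose s.ncard) := by
      have := hall_piFree_index_of_le hH hs
      rwa [index_stabilizer_set, hn] at this
    have hproj : Cfsg.IsPiHall π (setRes H sᶜ) :=
      hall_setRes hH (by rwa [_root_.stabilizer_compl])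
    have hcard : Nat.card ↥sᶜ = n - s.ncard := by
      rw [Nat.card_coe_set_eq, Set.ncard_compl, hn]
    have hc : Cls π (n - s.ncard) := by
      have := (ih (n - s.ncard) (by omega) _ hcard π _ hproj).cls
      rwa [hcard] at this
    rcases intrans_numeric hfew hfull h1 (by omega) hfree hc with ⟨ha, hb, hfl⟩ | ⟨h7, ha3, h23⟩
    · obtain ⟨x, rfl⟩ := Set.ncard_eq_one.1 ha
      rw [MulAction.stabilizer_singleton] at hs
      refine Or.inr (Or.inr (Or.inl ⟨hn ▸ hb, x, ?_⟩))
      refine hall_eq_of_le hH hs ?_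
      rw [card_stabilizer_point, hn]
      exact piNum_factorial_of_full hfl
    · refine Or.inr (Or.inr (Or.inr (Or.inl ⟨by omega, h23, s, ha3, ?_⟩)))
      refine hall_eq_of_le hH hs ?_
      rw [card_stabilizer_set, Set.ncard_compl, ha3, hn, h7]
      intro p hp hdvd
      have : p ∣ 144 := by simpa [Nat.factorial] using hdvd
      have hp' : p = 2 ∨ p = 3 := by
        have h144 : (144 : ℕ) = 2 ^ 4 * 3 ^ 2 := by norm_num
        rw [h144] at this
        rcases (Nat.Prime.dvd_mul hp).1 this with h | h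
        · exact Or.inl ((Nat.prime_dvd_prime_iff_eq hp Nat.prime_two).1 (hp.dvd_of_dvd_pow h))
        · exact Or.inr ((Nat.prime_dvd_prime_iff_eq hp Nat.prime_three).1 (hp.dvd_of_dvd_pow h))
      rcases hp' with rfl | rfl
      · exact (h23 2 (by decide) (by decide)).2 (Or.inl rfl)
      · exact (h23 3 (by decide) (by decide)).2 (Or.inr rfl)


theorem exists_set_ncard {α : Type*} [Finite α] (k : ℕ) (hk : k ≤ Nat.card α) :
    ∃ s : Set α, s.ncard = k := by
  have h : k ≤ (Set.univ : Set α).ncard := by rwa [Set.ncard_univ]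
  obtain ⟨s, _, hs⟩ := Set.exists_subset_card_eq h
  exact ⟨s, hs⟩

theorem S2536_main (n : ℕ) (π : Set ℕ)
    (h2 : ∃ r s : ℕ, r.Prime ∧ s.Prime ∧ r ≠ s ∧ r ∈ π ∧ s ∈ π ∧ r ≤ n ∧ s ≤ n)
    (hns : ∃ r : ℕ, r.Prime ∧ r ≤ n ∧ r ∉ π) :
    Cfsg.IsEPiGroup π (Equiv.Perm (Fin n)) ↔
      ((n.Prime ∧ ∀ r : ℕ, r.Prime → r ≤ n → (r ∈ π ↔ r < n)) ∨
       ((n = 7 ∨ n = 8) ∧ ∀ r : ℕ, r.Prime → r ≤ n → (r ∈ π ↔ (r = 2 ∨ r = 3)))) := by
  have hcard : Nat.card (Fin n) = n := by simp
  constructor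
  · rintro ⟨H, hH⟩
    have hc := main_aux n (Fin n) hcard π H hH
    unfold Concl at hc
    rw [hcard] at hc
    rcases hc with hf | hf | ⟨hb, _⟩ | ⟨h7, h23, _⟩ | ⟨h8, h23⟩
    · obtain ⟨r, s, hr, hs, hrs, hrπ, hsπ, hrn, hsn⟩ := h2
      exact (hrs (hf r s hr hs hrπ hsπ hrn hsn)).elim
    · obtain ⟨r, hr, hrn, hrπ⟩ := hns
      exact (hrπ (hf r hr hrn)).elim
    · exact Or.inl hb
    · exact Or.inr ⟨Or.inl h7, h7 ▸ h23⟩
    · exact Or.inr ⟨Or.inr h8, h8 ▸ h23⟩
  · rintro (hb | ⟨h78, h23⟩)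
    · have hpos : 0 < n := hb.1.pos
      exact ⟨stabilizer (Perm (Fin n)) (⟨0, hpos⟩ : Fin n),
        hall_stabilizer_point (by rw [hcard]; exact hb) _⟩
    · rcases h78 with h7 | h8
      · subst h7
        obtain ⟨s, hs⟩ := exists_set_ncard (α := Fin 7) 3 (by simp)
        exact ⟨_, hall_stabilizer_three (by simp) h23 s hs⟩
      · subst h8
        obtain ⟨s, hs⟩ := exists_set_ncard (α := Fin 8) 4 (by simp)
        exact ⟨_, hall_partStab (by simp) h23 s hs⟩


end Cfsg.Agent.Lib.H13.HS
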