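import Cfsg.Agent.Lib.H13.HSDefs2
import Cfsg.Agent.Lib.H13.HSMain
import Cfsg.Agent.Lib.H2.HSA0
import Cfsg.Agent.Lib.H2.HSA1
import Cfsg.Agent.Lib.H24.HSA2
import Cfsg.Agent.Lib.H24.HSA3
import Cfsg.Agent.Lib.H24.HSA4
import Cfsg.Agent.Lib.H22.HSA5
import Cfsg.Agent.Lib.H5.HSA6
import Cfsg.Agent.Lib.H16.HSA7
import Cfsg.Agent.Lib.H18.HSA8
import Cfsg.Agent.Lib.H16.HSQ1
import Cfsg.Agent.Lib.H6.HSQ2

/-!
# Hall subgroups of the alternating groups, conjugacy in S_n, and S2538 (HS project, stage 2)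
-/

namespace Cfsg.Agent.Lib.H13.HS

open Equiv MulAction
open scoped Pointwise

open Cfsg.Agent.Lib.H1.HS (hall_eq_of_le hall_inf_normal)
open Cfsg.Agent.Lib.H24.HS (ptRes_eq_stabilizer ptRes_eq_stabilizer_set alt_ptRes alt_transport_point
  alt_transport_set alt_setRes alt_piFree_choose)
open Cfsg.Agent.Lib.H27.HS (exists_invariant_set)
open Cfsg.Agent.Lib.H22.HS (hall_stabilizer_three hall_partStab)
open Cfsg.Agent.Lib.H2.HS (hallOf_iff altHall_inf hall_of_altHall_of_two_notMem hallOf_eq_of_le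
  alt_few hall_top_of_full card_dvd_of_transitive)
open Cfsg.Agent.Lib.H24.HS (alt_ptRes_of_fixed piFree_card_of_fixed hall_ptLift le_map_ptLift)
open Cfsg.Agent.Lib.H22.HS (caseA_alt)
open Cfsg.Agent.Lib.H5.HS (caseC_alt)
open Cfsg.Agent.Lib.H16.HS (struct8_alt)
open Cfsg.Agent.Lib.H18.HS (caseE_alt)
open Cfsg.Agent.Lib.H16.HS (struct8)
open Cfsg.Agent.Lib.H6.HS (conj_of_few stabilizer_conj_set partStab_conj)

/-! ## ASSEMBLY stage 2 -/

theorem card_ne_subtype {α : Type*} [Finite α] (a : α) :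
    Nat.card {x : α // x ≠ a} = Nat.card α - 1 := by
  have h0 : Nat.card {x : α // x ≠ a} = ({a}ᶜ : Set α).ncard := by
    rw [← Nat.card_coe_set_eq]; rfl
  rw [h0, Set.ncard_compl, Set.ncard_singleton]

theorem alt_main_aux : ∀ n : ℕ, ∀ (α : Type) [Finite α], Nat.card α = n →
    ∀ (π : Set ℕ) (M : Subgroup (Perm α)), Cfsg.IsPiHallOf π M (altSub α) →
    ∃ M₀ : Subgroup (Perm α), Cfsg.IsPiHall π M₀ ∧ M ≤ M₀ := by
  intro n
  induction n using Nat.strong_induction_on with
  | _ n ih =>
  intro α _ hn π M hM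
  by_cases h2 : 2 ∈ π
  swap
  · exact ⟨M, hall_of_altHall_of_two_notMem h2 hM, le_rfl⟩
  by_cases hfew : Few π n
  · exact alt_few (hn ▸ hfew) hM
  by_cases hfull : Full π n
  · exact ⟨⊤, hall_top_of_full (hn ▸ hfull), le_top⟩
  have hn5 : 5 ≤ n := five_le_of hfew hfull
  have : Nonempty α := by
    rw [← Finite.card_pos_iff]; omega
  by_cases htr : IsPretransitive M α
  · obtain ⟨a⟩ := ‹Nonempty α›
    have hcard : Nat.card {x : α // x ≠ a} = n - 1 := by rw [card_ne_subtype, hn]
    have h1 := alt_ptRes hM htr (by omega) a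
    obtain ⟨M₁, hM₁, hle⟩ := ih (n - 1) (by omega) _ hcard π _ h1
    have hc := main_aux (n - 1) _ hcard π M₁ hM₁
    have heq : ptRes M a = M₁ ⊓ altSub _ :=
      hallOf_eq_of_le h1 (altHall_inf hM₁) (le_inf hle h1.1)
    have hdiv : n ∣ Nat.card M := hn ▸ card_dvd_of_transitive M htr
    unfold Concl at hc
    rw [hcard] at hc
    have hfew' := hfew; have hfull' := hfull
    unfold Few at hfew'; unfold Full at hfull'
    push Not at hfew' hfull'
    obtain ⟨r, s, hr, hs, hrπ, hsπ, hrn, hsn, hrs⟩ := hfew'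
    obtain ⟨t, ht, htn, htπ⟩ := hfull'
    rcases hc with hf | hf | ⟨hb, x, hx⟩ | ⟨h7, h23, t', ht', hxt⟩ | ⟨h8, h23⟩
    · -- Few π (n-1)
      exfalso
      have hnprime : n.Prime ∧ n ∈ π := by
        by_cases hrn' : r = n
        · exact ⟨hrn' ▸ hr, hrn' ▸ hrπ⟩
        by_cases hsn' : s = n
        · exact ⟨hsn' ▸ hs, hsn' ▸ hsπ⟩
        exact (hrs (hf r s hr hs hrπ hsπ (by omega) (by omega))).elim
      refine caseA_alt hM htr (hn ▸ hnprime.1) (by omega) h2 ?_
      intro u hu huπ hun
      rw [hn] at hun ⊢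
      by_cases hun' : u = n
      · exact Or.inr hun'
      · exact Or.inl (hf u 2 hu Nat.prime_two huπ h2 (by omega) (by omega))
    · -- Full π (n-1)
      exfalso
      have htn' : t = n := by
        by_contra hne
        exact htπ (hf t ht (by omega))
      exact htπ (hM.2.1 t ht (htn' ▸ hdiv))
    · -- Below π (n-1)
      exfalso
      rw [hx] at heq
      have hn1 : 5 ≤ n - 1 := by
        by_contra hlt
        have h4 : n - 1 ≤ 4 := by omega
        -- the primes of π below n-1 are all primes < n-1; we need two of them: r, s ≤ n, and n is not prime...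
        have hnp : ¬ n.Prime := by
          intro hnp
          have hodd := hb.1.eq_one_or_self_of_dvd 2
          have : n - 1 = 2 ∨ n - 1 = 3 ∨ n - 1 = 4 := by omega
          rcases this with h | h | h
          · omega
          · rw [show n = 4 by omega] at hnp; exact absurd hnp (by decide)
          · rw [h] at hb; exact absurd hb.1 (by decide)
        have hr' : r ≤ n - 1 := by
          rcases Nat.lt_or_ge r n with h | h
          · omega
          · exact (hnp ((le_antisymm hrn h) ▸ hr)).elim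
        have hs' : s ≤ n - 1 := by
          rcases Nat.lt_or_ge s n with h | h
          · omega
          · exact (hnp ((le_antisymm hsn h) ▸ hs)).elim
        have hr'' := (hb.2 r hr hr').1 hrπ
        have hs'' := (hb.2 s hs hs').1 hsπ
        have hr2 := hr.two_le; have hs2 := hs.two_le
        have : r = 2 ∨ r = 3 := by omega
        have : s = 2 ∨ s = 3 := by omega
        have h5 : n - 1 = 4 := by omega
        rw [h5] at hb; exact absurd hb.1 (by decide)
      exact caseC_alt (by omega) htr a x x.2.symm (alt_transport_point hM.1 heq)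
    · -- n = 8
      rw [hxt] at heq
      have hst := alt_transport_set hM.1 heq
      have h8 : Nat.card α = 8 := by omega
      have h23' : TwoThree π 8 := by
        intro r hr hr8
        have : r ≠ 8 := fun h8 => by rw [h8] at hr; exact absurd hr (by decide)
        exact h23 r hr (by omega)
      have hΔ : (Subtype.val '' t' : Set α).ncard = 3 := by
        rw [Set.ncard_image_of_injective _ Subtype.val_injective, ht']
      have ha : a ∉ (Subtype.val '' t' : Set α) := by
        rintro ⟨y, _, hy⟩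
        exact y.2 hy
      have hsub := struct8_alt h8 h23' hM htr a _ hΔ ha hst
      refine ⟨partStab (insert a (Subtype.val '' t')), hall_partStab h8 h23' _ ?_, hsub⟩
      rw [Set.ncard_insert_of_notMem ha, hΔ]
    · -- n = 9
      exfalso
      have h9 : Nat.card α = 9 := by omega
      exact caseE_alt h9 hM htr h2 ((h23 3 (by decide) (by decide)).2 (Or.inr rfl))
        (fun h5 => by have := (h23 5 (by decide) (by decide)).1 h5; omega)
  · -- intransitive
    obtain ⟨s, hs, h1, h2'⟩ := exists_invariant_set M htr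
    have hfree : PiFree π (n.choose s.ncard) := by
      have := alt_piFree_choose hM (by omega) hs
      rwa [hn] at this
    by_cases ha : s.ncard = 1
    · obtain ⟨x, rfl⟩ := Set.ncard_eq_one.1 ha
      rw [MulAction.stabilizer_singleton] at hs
      have hnfree : PiFree π (Nat.card α) := piFree_card_of_fixed hM (by omega) x hs
      have h1' := alt_ptRes_of_fixed hM x hs
      have hcard : Nat.card {y : α // y ≠ x} = n - 1 := by rw [card_ne_subtype, hn]
      obtain ⟨M₁, hM₁, hle⟩ := ih (n - 1) (by omega) _ hcard π _ h1'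
      exact ⟨M₁.map (ptLift x), hall_ptLift x hnfree hM₁, le_map_ptLift x hs hle⟩
    · have ha2 : 2 ≤ s.ncard := by omega
      have hproj : Cfsg.IsPiHall π (setRes M sᶜ) :=
        alt_setRes hM (by rwa [_root_.stabilizer_compl]) (by rwa [compl_compl])
      have hcard : Nat.card ↥sᶜ = n - s.ncard := by
        rw [Nat.card_coe_set_eq, Set.ncard_compl, hn]
      have hc : Cls π (n - s.ncard) := by
        have := (main_aux (n - s.ncard) _ hcard π _ hproj).cls
        rwa [hcard] at this
      rcases intrans_numeric hfew hfull h1 (by omega) hfree hc with ⟨ha1, _⟩ | ⟨h7, ha3, h23⟩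
      · omega
      · exact ⟨stabilizer (Perm α) s, hall_stabilizer_three (by omega) h23 s ha3, hs⟩

theorem alt_main {α : Type} [Finite α] {π : Set ℕ} {M : Subgroup (Perm α)}
    (hM : Cfsg.IsPiHallOf π M (altSub α)) :
    ∃ M₀ : Subgroup (Perm α), Cfsg.IsPiHall π M₀ ∧ M = M₀ ⊓ altSub α := by
  obtain ⟨M₀, hM₀, hle⟩ := alt_main_aux _ α rfl π M hM
  exact ⟨M₀, hM₀, hallOf_eq_of_le hM (altHall_inf hM₀) (le_inf hle hM.1)⟩


/-! ## ASSEMBLY stage 2b: conjugacy in S_n -/

theorem hall_eq_top' {α : Type*} [Finite α] {π : Set ℕ} (h : Full π (Nat.card α))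
    {H : Subgroup (Perm α)} (hH : Cfsg.IsPiHall π H) : H = ⊤ := by
  refine hall_eq_of_le hH le_top ?_
  exact (hall_top_of_full h).1

theorem sym_hall_conj {α : Type} [Finite α] {π : Set ℕ} {H K : Subgroup (Perm α)}
    (hH : Cfsg.IsPiHall π H) (hK : Cfsg.IsPiHall π K) :
    ∃ g : Perm α, K = H.map (MulAut.conj g).toMonoidHom := by
  by_cases hfew : Few π (Nat.card α)
  · refine conj_of_few ?_ hH hK
    intro r s hr hs hrπ hsπ hrG hsG
    rw [Nat.card_perm] at hrG hsG
    exact hfew r s hr hs hrπ hsπ ((hr.dvd_factorial).1 hrG) ((hs.dvd_factorial).1 hsG)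
  by_cases hfull : Full π (Nat.card α)
  · refine ⟨1, ?_⟩
    rw [hall_eq_top' hfull hH, hall_eq_top' hfull hK]
    simp
  have hcH := main_aux _ α rfl π H hH
  have hcK := main_aux _ α rfl π K hK
  rcases hcH with h | h | ⟨hb, x, hx⟩ | ⟨h7, h23, s, hs, hxs⟩ | ⟨h8, h23⟩
  · exact (hfew h).elim
  · exact (hfull h).elim
  · rcases hcK with h | h | ⟨hb', y, hy⟩ | ⟨h7, h23, s, hs, hxs⟩ | ⟨h8, h23⟩
    · exact (hfew h).elim
    · exact (hfull h).elim
    · obtain ⟨g, _, hg⟩ := stabilizer_conj_set ({x} : Set α) {y} (by simp)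
      rw [MulAction.stabilizer_singleton, MulAction.stabilizer_singleton] at hg
      exact ⟨g, by rw [hx, hy, hg]⟩
    · exfalso
      rw [h7] at hb
      have h5 : (5 : ℕ) ∈ π := (hb.2 5 (by decide) (by decide)).2 (by decide)
      have := (h23 5 (by decide) (by decide)).1 h5
      omega
    · exfalso
      rw [h8] at hb
      exact absurd hb.1 (by decide)
  · rcases hcK with h | h | ⟨hb', y, hy⟩ | ⟨_, _, t, ht, hxt⟩ | ⟨h8, _⟩
    · exact (hfew h).elim
    · exact (hfull h).elim
    · exfalso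
      rw [h7] at hb'
      have h5 : (5 : ℕ) ∈ π := (hb'.2 5 (by decide) (by decide)).2 (by decide)
      have := (h23 5 (by decide) (by decide)).1 h5
      omega
    · obtain ⟨g, _, hg⟩ := stabilizer_conj_set s t (by rw [hs, ht])
      exact ⟨g, by rw [hxs, hxt, hg]⟩
    · omega
  · rcases hcK with h | h | ⟨hb', y, hy⟩ | ⟨h7, _, t, ht, hxt⟩ | ⟨_, _⟩
    · exact (hfew h).elim
    · exact (hfull h).elim
    · exfalso
      rw [h8] at hb'
      exact absurd hb'.1 (by decide)
    · omega
    · obtain ⟨s, hs, hxs⟩ := struct8 h8 h23 hH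
      obtain ⟨t, ht, hxt⟩ := struct8 h8 h23 hK
      obtain ⟨g, hg⟩ := partStab_conj s t (by rw [hs, ht])
      exact ⟨g, by rw [hxs, hxt, hg]⟩

/-! ## finals -/

theorem hallOf_map_subtype {G : Type*} [Group G] {π : Set ℕ} (A : Subgroup G) (M : Subgroup A) :
    Cfsg.IsPiHall π M ↔ Cfsg.IsPiHallOf π (M.map A.subtype) A := by
  rw [hallOf_iff]
  have h1 : M.map A.subtype ≤ A := Subgroup.map_subtype_le M
  have h2 : (M.map A.subtype).subgroupOf A = M :=
    Subgroup.comap_map_eq_self_of_injective (Subgroup.subtype_injective A) M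
  rw [h2]
  exact ⟨fun h => ⟨h1, h⟩, fun h => h.2⟩

theorem S2538_main (n : ℕ) (π : Set ℕ) (M : Subgroup ↥(alternatingGroup (Fin n))) :
    Cfsg.IsPiHall π M ↔ ∃ M₀ : Subgroup (Equiv.Perm (Fin n)),
      Cfsg.IsPiHall π M₀ ∧ M = M₀.subgroupOf (alternatingGroup (Fin n)) := by
  constructor
  · intro hM
    have h1 : Cfsg.IsPiHallOf π (M.map (alternatingGroup (Fin n)).subtype) (altSub (Fin n)) := by
      rw [altSub_eq]; exact (hallOf_map_subtype (alternatingGroup (Fin n)) M).1 hM
    obtain ⟨M₀, hM₀, heq⟩ := alt_main h1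
    refine ⟨M₀, hM₀, ?_⟩
    have h2 : (M.map (alternatingGroup (Fin n)).subtype).subgroupOf (alternatingGroup (Fin n)) = M :=
      Subgroup.comap_map_eq_self_of_injective (Subgroup.subtype_injective _) M
    rw [← h2]
    rw [altSub_eq] at heq
    rw [heq, Subgroup.inf_subgroupOf_right]
  · rintro ⟨M₀, hM₀, rfl⟩
    exact hall_inf_normal hM₀ _


end Cfsg.Agent.Lib.H13.HS
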