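import Cfsg.Agent.Lib.H13.HSDefs

/-!
# Hall subgroups of the alternating groups: definitions (stage 2 of the HS project)
-/

namespace Cfsg.Agent.Lib.H13.HS

open Equiv MulAction
open scoped Pointwise

/-- the alternating group on a finite type, free of `Fintype`/`DecidableEq` instances. -/
noncomputable def altSub (α : Type*) [Finite α] : Subgroup (Perm α) :=
  @alternatingGroup α (Fintype.ofFinite α) (Classical.decEq α)

theorem altSub_eq (α : Type*) [Fintype α] [DecidableEq α] : altSub α = alternatingGroup α := by
  unfold altSub
  congr 1 <;> exact Subsingleton.elim _ _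

/-- extension by the identity of a permutation of the points `≠ a`. -/
noncomputable def ptLift {α : Type*} (a : α) : Perm {x : α // x ≠ a} →* Perm α :=
  @Equiv.Perm.ofSubtype α (fun x => x ≠ a) (Classical.decPred _)

theorem ptRes_eq_comap {α : Type*} (H : Subgroup (Perm α)) (a : α) :
    ptRes H a = H.comap (ptLift a) := rfl

end Cfsg.Agent.Lib.H13.HS
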