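import Cfsg.Agent.Lib.H13.HSAlt
import Cfsg.Agent.Lib.H6.HSQ3
import Cfsg.Agent.Lib.H14.HSF2

/-!
# HS project: conjugacy of Hall subgroups in A_n and S2535
-/

namespace Cfsg.Agent.Lib.H13.HS

open Equiv MulAction
open scoped Pointwise

theorem alt_conj {α : Type} [Finite α] {π : Set ℕ} {M M' : Subgroup (Perm α)}
    (hM : Cfsg.IsPiHallOf π M (altSub α)) (hM' : Cfsg.IsPiHallOf π M' (altSub α)) :
    ∃ g ∈ altSub α, M' = M.map (MulAut.conj g).toMonoidHom :=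
  Cfsg.Agent.Lib.H6.HS.alt_conj_of (fun h => alt_main h) (fun hH hK => sym_hall_conj hH hK)
    (fun H hH => (main_aux _ α rfl π H hH).cls) hM hM'

theorem S2535_main (n : ℕ) (π : Set ℕ) :
    (Cfsg.IsEPiGroup π (Equiv.Perm (Fin n)) ↔ Cfsg.IsCPiGroup π (Equiv.Perm (Fin n))) ∧
    (Cfsg.IsEPiGroup π (Equiv.Perm (Fin n)) ↔ Cfsg.IsEPiGroup π ↥(alternatingGroup (Fin n))) ∧
    (Cfsg.IsEPiGroup π ↥(alternatingGroup (Fin n)) ↔ Cfsg.IsCPiGroup π ↥(alternatingGroup (Fin n))) :=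
  Cfsg.Agent.Lib.H14.HS.S2535_main_of n π (fun hH => Cfsg.Agent.Lib.H2.HS.altHall_inf hH)
    (fun h => alt_main h) (fun hH hK => sym_hall_conj hH hK) (fun h h' => alt_conj h h')

end Cfsg.Agent.Lib.H13.HS
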