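import Cfsg.Agent.Lib.H13.HSAlt
import Cfsg.Agent.Lib.H14.HSF3
import Cfsg.Agent.Lib.H1.HSD13
import Cfsg.Agent.Lib.H1.HSD4

/-!
# HS project: S2534 (the full Sylow analogue D_π for the alternating groups)
-/

namespace Cfsg.Agent.Lib.H13.HS

open Equiv MulAction
open scoped Pointwise

theorem S2534_main (n : ℕ) (hn : 5 ≤ n) (π : Set ℕ) :
    Cfsg.IsDPiGroup π ↥(alternatingGroup (Fin n)) ↔
      ((∀ r s : ℕ, r.Prime → s.Prime → r ∈ π → s ∈ π → r ∣ Nat.card ↥(alternatingGroup (Fin n)) → s ∣ Nat.card ↥(alternatingGroup (Fin n)) → r = s) ∨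
        ∀ r : ℕ, r.Prime → r ∣ Nat.card ↥(alternatingGroup (Fin n)) → r ∈ π) :=
  Cfsg.Agent.Lib.H14.HS.S2534_main_of n hn π
    (fun h => Cfsg.Agent.Lib.H1.HS.dpi_of_few h)
    (fun h => Cfsg.Agent.Lib.H1.HS.dpi_of_full h)
    (fun h => Cfsg.Agent.Lib.H1.HS.hall_of_dpi h)
    (fun h => alt_main h)
    (fun H hH => main_aux _ (Fin n) rfl π H hH)
    (fun h8 h23 _ hH => Cfsg.Agent.Lib.H16.HS.struct8 h8 h23 hH)
    (fun hπ => Cfsg.Agent.Lib.H1.HS.exists_no_fixed_point (by simpa using hn) hπ)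
    (fun h7 h2 h3 => Cfsg.Agent.Lib.H1.HS.exists_no_three_set h7 h2 h3)
    (fun h8 h2 h3 => Cfsg.Agent.Lib.H1.HS.exists_no_partition h8 h2 h3)

end Cfsg.Agent.Lib.H13.HS
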