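import Cfsg.Agent.Lib.H4.HT.Defs

/-!
# S3371 piece DS (helper13): `semireg_of_isCompl`

If `V = U ⊕ W` with both summands invariant and non-zero, equal stabiliser orders force semiregularity.
-/

set_option autoImplicit false

namespace Cfsg.Agent.Lib.H13.HT

open Cfsg.Agent.Lib.H4.HT

variable {q : ℕ} {V : Type*} [AddCommGroup V] [Module (ZMod q) V] {G : Type*} [Group G]

/-- P4 (M): if `V = U ⊕ W` with both summands invariant and non-zero, equal stabiliser orders force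
semiregularity (`G_{u+w} = G_u ∩ G_w`, equal orders ⇒ `G_u = G_w` for all `u, w` ⇒ it fixes `U` and `W`). -/
theorem semireg_of_isCompl [Finite G] (ρ : G →* (V ≃ₗ[ZMod q] V)) (hρ : Function.Injective ρ)
    (hE : EqStab ρ) (U W : Submodule (ZMod q) V) (hU : ∀ g : G, ∀ u ∈ U, ρ g u ∈ U)
    (hW : ∀ g : G, ∀ w ∈ W, ρ g w ∈ W) (hUW : IsCompl U W) (hU0 : U ≠ ⊥) (hW0 : W ≠ ⊥) :
    Semireg ρ := by
  have hdis : ∀ x ∈ U, x ∈ W → x = 0 := Submodule.disjoint_def.1 hUW.disjoint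
  have key : ∀ u ∈ U, ∀ w ∈ W, u ≠ 0 → w ≠ 0 → stab ρ u = stab ρ w := by
    intro u hu w hw hu0 hw0
    have huw0 : u + w ≠ 0 := by
      intro h
      have h1 : u = -w := eq_neg_of_add_eq_zero_left h
      exact hu0 (hdis u hu (by rw [h1]; exact W.neg_mem hw))
    have hle : stab ρ (u + w) ≤ stab ρ u ⊓ stab ρ w := by
      intro g hg
      rw [mem_stab, map_add] at hg
      have h1 : ρ g u - u = w - ρ g w := by
        rw [sub_eq_sub_iff_add_eq_add, hg, add_comm]
      have h2 : ρ g u - u ∈ U := U.sub_mem (hU g u hu) hu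
      have h3 : ρ g u - u ∈ W := by rw [h1]; exact W.sub_mem hw (hW g w hw)
      have h4 := hdis _ h2 h3
      have h5 : w - ρ g w = 0 := by rw [← h1]; exact h4
      exact ⟨sub_eq_zero.1 h4, (sub_eq_zero.1 h5).symm⟩
    have e1 : stab ρ (u + w) = stab ρ u :=
      Subgroup.eq_of_le_of_card_ge (hle.trans inf_le_left) (le_of_eq (hE u (u + w) hu0 huw0))
    have e2 : stab ρ (u + w) = stab ρ w :=
      Subgroup.eq_of_le_of_card_ge (hle.trans inf_le_right) (le_of_eq (hE w (u + w) hw0 huw0))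
    rw [← e1, e2]
  obtain ⟨u₀, hu₀, hu₀0⟩ := Submodule.exists_mem_ne_zero_of_ne_bot hU0
  obtain ⟨w₀, hw₀, hw₀0⟩ := Submodule.exists_mem_ne_zero_of_ne_bot hW0
  have hbot : stab ρ u₀ = ⊥ := by
    rw [eq_bot_iff]
    intro g hg
    rw [Subgroup.mem_bot]
    apply hρ
    rw [map_one]
    ext v
    have hv : v ∈ U ⊔ W := by rw [hUW.sup_eq_top]; trivial
    obtain ⟨u, hu, w, hw, rfl⟩ := Submodule.mem_sup.1 hv
    have hgu : ρ g u = u := by
      by_cases h0 : u = 0
      · rw [h0, map_zero]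
      · have : g ∈ stab ρ u := by rw [key u hu w₀ hw₀ h0 hw₀0, ← key u₀ hu₀ w₀ hw₀ hu₀0 hw₀0]; exact hg
        exact this
    have hgw : ρ g w = w := by
      by_cases h0 : w = 0
      · rw [h0, map_zero]
      · have : g ∈ stab ρ w := by rw [← key u₀ hu₀ w hw hu₀0 h0]; exact hg
        exact this
    show ρ g (u + w) = u + w
    rw [map_add, hgu, hgw]
  intro v hv0 g hg
  have h1 : Nat.card (stab ρ v) = 1 := by
    rw [hE v u₀ hv0 hu₀0, hbot, Subgroup.card_bot]
  have h2 : stab ρ v = ⊥ := Subgroup.card_eq_one.1 h1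
  have h3 : g ∈ stab ρ v := hg
  rw [h2, Subgroup.mem_bot] at h3
  exact h3

end Cfsg.Agent.Lib.H13.HT
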