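import Cfsg.Agent.Lib.H2.HTTR
import Cfsg.Agent.Lib.H13.HTDS

/-!
# S3371 piece CF (helper13): `centFpf`

Non-identity central elements are fixed-point-free: apply `semireg_of_isCompl` to `U = C_V(z)` and
`W = ker (tr ρ (orderOf z) z)`; `orderOf z` is a power of `p`, invertible in `ZMod q`.
-/

set_option autoImplicit false

namespace Cfsg.Agent.Lib.H13.HT

open Cfsg.Agent.Lib.H4.HT

variable {q : ℕ} {V : Type*} [AddCommGroup V] [Module (ZMod q) V] {G : Type*} [Group G]

theorem cf_tr_smul (ρ : G →* (V ≃ₗ[ZMod q] V)) (n : ℕ) (g : G) (c : ZMod q) (v : V) :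
    tr ρ n g (c • v) = c • tr ρ n g v := by
  unfold tr
  rw [Finset.smul_sum]
  apply Finset.sum_congr rfl
  intro i _
  rw [map_smul]

theorem cf_tr_conj (ρ : G →* (V ≃ₗ[ZMod q] V)) (n : ℕ) (z g : G) (hz : ∀ h : G, h * z = z * h) (v : V) :
    tr ρ n z (ρ g v) = ρ g (tr ρ n z v) := by
  have h1 : ∀ i : ℕ, g * z ^ i = z ^ i * g := by
    intro i
    induction i with
    | zero => simp
    | succ i ih => rw [pow_succ, ← mul_assoc, ih, mul_assoc, hz g, ← mul_assoc]
  unfold tr
  rw [map_sum]
  apply Finset.sum_congr rfl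
  intro i _
  rw [← rho_mul, ← rho_mul, h1 i]

/-- P5 (M): non-identity central elements are fixed-point-free. -/
theorem centFpf [Fact q.Prime] [Finite G] {p : ℕ} [Fact p.Prime] (hG : IsPGroup p G) (hpq : p ≠ q)
    (ρ : G →* (V ≃ₗ[ZMod q] V)) (hρ : Function.Injective ρ) (hE : EqStab ρ) (hns : ¬ Semireg ρ) :
    CentFpf ρ := by
  intro z hz hz1
  have hp : p.Prime := Fact.out
  have hq : q.Prime := Fact.out
  have hzc : ∀ h : G, h * z = z * h := Subgroup.mem_center_iff.1 hz
  set n := orderOf z with hn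
  have hzn : z ^ n = 1 := pow_orderOf_eq_one z
  obtain ⟨k, hk⟩ := hG z
  have hnk : n ∣ p ^ k := orderOf_dvd_of_pow_eq_one hk
  have hn0 : ((n : ℕ) : ZMod q) ≠ 0 := by
    intro h0
    rw [ZMod.natCast_eq_zero_iff] at h0
    have h1 : q ∣ p ^ k := h0.trans hnk
    have h2 : q ∣ p := hq.dvd_of_dvd_pow h1
    rcases (Nat.dvd_prime hp).1 h2 with h3 | h3
    · exact hq.one_lt.ne' h3
    · exact hpq h3.symm
  have hnsmul : ∀ v : V, n • v = 0 → v = 0 := by
    intro v hv
    rw [← Nat.cast_smul_eq_nsmul (ZMod q)] at hv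
    rcases smul_eq_zero.1 hv with h | h
    · exact absurd h hn0
    · exact h
  let U : Submodule (ZMod q) V :=
    { carrier := {v | ρ z v = v}
      add_mem' := by
        intro a b ha hb
        change ρ z a = a at ha
        change ρ z b = b at hb
        change ρ z (a + b) = a + b
        rw [map_add, ha, hb]
      zero_mem' := map_zero _
      smul_mem' := by
        intro c v hv
        change ρ z v = v at hv
        change ρ z (c • v) = c • v
        rw [map_smul, hv] }
  let W : Submodule (ZMod q) V :=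
    { carrier := {v | tr ρ n z v = 0}
      add_mem' := by
        intro a b ha hb
        change tr ρ n z a = 0 at ha
        change tr ρ n z b = 0 at hb
        change tr ρ n z (a + b) = 0
        rw [Cfsg.Agent.Lib.H2.HT.tr_add, ha, hb, add_zero]
      zero_mem' := by
        show tr ρ n z 0 = 0
        unfold tr
        simp
      smul_mem' := by
        intro c v hv
        change tr ρ n z v = 0 at hv
        change tr ρ n z (c • v) = 0
        rw [cf_tr_smul, hv, smul_zero] }
  have hUmem : ∀ v : V, v ∈ U ↔ ρ z v = v := fun v => Iff.rfl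
  have hWmem : ∀ v : V, v ∈ W ↔ tr ρ n z v = 0 := fun v => Iff.rfl
  have hUinv : ∀ g : G, ∀ u ∈ U, ρ g u ∈ U := by
    intro g u hu
    rw [hUmem] at hu ⊢
    rw [← rho_mul, ← hzc g, rho_mul, hu]
  have hWinv : ∀ g : G, ∀ w ∈ W, ρ g w ∈ W := by
    intro g w hw
    rw [hWmem] at hw ⊢
    rw [cf_tr_conj ρ n z g hzc, hw, map_zero]
  have hcompl : IsCompl U W := by
    constructor
    · rw [Submodule.disjoint_def]
      intro v hvU hvW
      rw [hUmem] at hvU
      rw [hWmem, Cfsg.Agent.Lib.H2.HT.tr_of_fixed ρ n z v hvU] at hvW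
      exact hnsmul v hvW
    · rw [codisjoint_iff, eq_top_iff]
      intro v _
      rw [Submodule.mem_sup]
      set c : ZMod q := ((n : ℕ) : ZMod q)⁻¹ with hc
      have hcn : c * (n : ZMod q) = 1 := inv_mul_cancel₀ hn0
      have htrU : tr ρ n z v ∈ U := by
        rw [hUmem]; exact Cfsg.Agent.Lib.H2.HT.tr_fixed ρ z hzn v
      refine ⟨c • tr ρ n z v, U.smul_mem c htrU, v - c • tr ρ n z v, ?_, by abel⟩
      rw [hWmem]
      have h1 : tr ρ n z (v - c • tr ρ n z v) = tr ρ n z v - c • tr ρ n z (tr ρ n z v) := by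
        have h2 : v - c • tr ρ n z v = v + (-c) • tr ρ n z v := by
          rw [neg_smul, sub_eq_add_neg]
        rw [h2, Cfsg.Agent.Lib.H2.HT.tr_add, cf_tr_smul, neg_smul, sub_eq_add_neg]
      rw [h1, Cfsg.Agent.Lib.H2.HT.tr_of_fixed ρ n z _ ((hUmem _).1 htrU),
        ← Nat.cast_smul_eq_nsmul (ZMod q), smul_smul, hcn, one_smul, sub_self]
  intro v hv
  by_contra hv0
  have hU0 : U ≠ ⊥ := by
    intro h
    have : v ∈ U := (hUmem v).2 hv
    rw [h, Submodule.mem_bot] at this
    exact hv0 this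
  have hW0 : W ≠ ⊥ := by
    intro h
    have hUtop : U = ⊤ := by
      have := hcompl.sup_eq_top
      rw [h, sup_bot_eq] at this
      exact this
    apply hz1
    apply hρ
    rw [map_one]
    ext w
    have hw : w ∈ U := by rw [hUtop]; trivial
    exact (hUmem w).1 hw
  exact hns (semireg_of_isCompl ρ hρ hE U W hUinv hWinv hcompl hU0 hW0)

end Cfsg.Agent.Lib.H13.HT
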