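import Cfsg.Agent.Lib.H25.HTPAIR

/-!
# S3371 piece N2 (helper13): `two_normalize`

Normalisation for `p = 2`: in the four-group `{1, z, a, a z}` (`z` central, fixed-point-free) one of `a`, `a z`
has a non-zero fixed vector (`exists_fixed_of_pair`); it is not central.
-/

set_option autoImplicit false

namespace Cfsg.Agent.Lib.H13.HT

open Cfsg Cfsg.Agent.Lib.H4.HT

variable {q : ℕ} {V : Type*} [AddCommGroup V] [Module (ZMod q) V] {G : Type*} [Group G]

/-- P9a (M): normalisation for `p = 2`: replace `a` by `a` or `a z` so that `C_V(a) ≠ 0`; `a` is not central. -/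
theorem two_normalize [Fact q.Prime] [Nontrivial V] (hq2 : 2 ≠ q) (ρ : G →* (V ≃ₗ[ZMod q] V))
    (hc : CentFpf ρ) (a z : G) (hz : z ∈ Subgroup.center G) (hz1 : z ≠ 1) (hz2 : z ^ 2 = 1)
    (ha2 : a ^ 2 = 1) (haz : a ∉ Subgroup.zpowers z) (hconj : ∀ g : G, ∃ k : ℕ, g * a * g⁻¹ = a * z ^ k) :
    ∃ b : G, b * b = 1 ∧ b ≠ 1 ∧ (∀ g : G, g * b * g⁻¹ = b ∨ g * b * g⁻¹ = b * z) ∧
      (∃ w : V, w ≠ 0 ∧ ρ b w = w) ∧ ∃ t : G, t * b * t⁻¹ = b * z := by
  have hzc : ∀ g : G, g * z = z * g := Subgroup.mem_center_iff.1 hz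
  have hzpc : ∀ (m : ℕ) (g : G), g * z ^ m = z ^ m * g :=
    fun m => Subgroup.mem_center_iff.1 (Subgroup.pow_mem _ hz m)
  obtain ⟨i, j, hne, w, hw0, hw⟩ :=
    Cfsg.Agent.Lib.H25.HT.exists_fixed_of_pair Nat.prime_two hq2 ρ a z (hzc a) ha2 hz2 hz1 haz
  have hzpow : ∀ m : ℕ, z ^ m = 1 ∨ z ^ m = z := by
    intro m
    rw [pow_eq_pow_mod m hz2]
    rcases Nat.mod_two_eq_zero_or_one m with h | h <;> rw [h]
    · left; exact pow_zero z
    · right; exact pow_one z
  have hi : a ^ i = a := by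
    rw [pow_eq_pow_mod i ha2]
    rcases Nat.mod_two_eq_zero_or_one i with h | h
    · exfalso
      rw [pow_eq_pow_mod i ha2, h, pow_zero, one_mul] at hne hw
      rcases hzpow j with h1 | h1
      · exact hne h1
      · rw [h1] at hw
        exact hw0 (hc z hz hz1 w hw)
    · rw [h, pow_one]
  rw [hi] at hne hw
  set b := a * z ^ j with hb
  have hzj : z ^ j * z ^ j = 1 := by rw [← pow_add, ← two_mul, pow_mul, hz2, one_pow]
  have haa : a * a = 1 := by rw [← pow_two]; exact ha2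
  have hbb : b * b = 1 := by
    calc b * b = a * (z ^ j * a) * z ^ j := by rw [hb]; group
      _ = a * (a * z ^ j) * z ^ j := by rw [← hzpc j a]
      _ = (a * a) * (z ^ j * z ^ j) := by group
      _ = 1 := by rw [haa, hzj, one_mul]
  have hbconj : ∀ g : G, g * b * g⁻¹ = b ∨ g * b * g⁻¹ = b * z := by
    intro g
    obtain ⟨k, hk⟩ := hconj g
    have h1 : g * b * g⁻¹ = b * z ^ k := by
      calc g * b * g⁻¹ = g * a * (z ^ j * g⁻¹) := by rw [hb]; group
        _ = g * a * (g⁻¹ * z ^ j) := by rw [hzpc j g⁻¹]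
        _ = (g * a * g⁻¹) * z ^ j := by group
        _ = a * (z ^ k * z ^ j) := by rw [hk]; group
        _ = a * (z ^ j * z ^ k) := by rw [← pow_add, ← pow_add, add_comm]
        _ = b * z ^ k := by rw [hb]; group
    rcases hzpow k with h2 | h2
    · left; rw [h1, h2, mul_one]
    · right; rw [h1, h2]
  refine ⟨b, hbb, hne, hbconj, ⟨w, hw0, hw⟩, ?_⟩
  by_contra hno
  have hbc : b ∈ Subgroup.center G := by
    rw [Subgroup.mem_center_iff]
    intro g
    rcases hbconj g with h | h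
    · calc g * b = g * b * g⁻¹ * g := by group
        _ = b * g := by rw [h]
    · exact absurd ⟨g, h⟩ hno
  exact hw0 (hc b hbc hne w hw)

end Cfsg.Agent.Lib.H13.HT
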