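import Cfsg.Agent.S0016
import Cfsg.Agent.Lib.H25.HTPAIR

/-!
# S3371 piece SR (helper13): `cyclic_or_quat_of_semireg`

A `p`-group acting semiregularly on the non-zero vectors of `V ≠ 0` over `F_q`, `q ≠ p`, has a unique subgroup
of order `p` (a second one together with a central one would be a pair for `exists_fixed_of_pair`), so it is
cyclic or generalized quaternion (S0016).
-/

set_option autoImplicit false

namespace Cfsg.Agent.Lib.H13.HT

open Cfsg Cfsg.Agent.Lib.H4.HT

variable {q : ℕ} {V : Type*} [AddCommGroup V] [Module (ZMod q) V] {G : Type*} [Group G]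

/-- P3 (M): semiregular ⇒ cyclic or generalized quaternion. -/
theorem cyclic_or_quat_of_semireg [Fact q.Prime] [Nontrivial V] [Finite G] {p : ℕ} [Fact p.Prime]
    (hG : IsPGroup p G) (hpq : p ≠ q) (ρ : G →* (V ≃ₗ[ZMod q] V)) (hsr : Semireg ρ) :
    IsCyclic G ∨ ∃ n : ℕ, Nonempty (G ≃* QuaternionGroup n) := by
  have hp : p.Prime := Fact.out
  have key : ∀ z : G, z ∈ Subgroup.center G → orderOf z = p → ∀ H : Subgroup G,
      Nat.card H = p → H = Subgroup.zpowers z := by
    intro z hz hoz H hH
    by_contra hne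
    have hHnt : Nontrivial H := by
      rw [← Finite.one_lt_card_iff_nontrivial, hH]; exact hp.one_lt
    obtain ⟨⟨a, haH⟩, ha1⟩ := exists_ne (1 : H)
    have ha1' : a ≠ 1 := fun h => ha1 (Subtype.ext h)
    have hap : a ^ p = 1 := by
      have h1 : (⟨a, haH⟩ : H) ^ Nat.card H = 1 := pow_card_eq_one'
      rw [hH] at h1
      exact congrArg Subtype.val h1
    have hzp : z ^ p = 1 := by rw [← hoz]; exact pow_orderOf_eq_one z
    have hz1 : z ≠ 1 := by
      rintro rfl; rw [orderOf_one] at hoz; exact hp.one_lt.ne hoz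
    have hcomm : a * z = z * a := (Subgroup.mem_center_iff.1 hz a)
    have hanot : a ∉ Subgroup.zpowers z := by
      intro hmem
      apply hne
      have h1 : Subgroup.zpowers a ≤ H := (Subgroup.zpowers_le).2 haH
      have h2 : Nat.card (Subgroup.zpowers a) = p := by
        rw [Nat.card_zpowers]; exact orderOf_eq_prime hap ha1'
      have h3 : Subgroup.zpowers a = H := Subgroup.eq_of_le_of_card_ge h1 (by rw [h2, hH])
      have h4 : Subgroup.zpowers a ≤ Subgroup.zpowers z := (Subgroup.zpowers_le).2 hmem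
      have h5 : Subgroup.zpowers a = Subgroup.zpowers z :=
        Subgroup.eq_of_le_of_card_ge h4 (by rw [h2, Nat.card_zpowers, hoz])
      rw [← h3, h5]
    obtain ⟨i, j, hne1, v, hv0, hv⟩ :=
      Cfsg.Agent.Lib.H25.HT.exists_fixed_of_pair hp hpq ρ a z hcomm hap hzp hz1 hanot
    exact hne1 (hsr v hv0 _ hv)
  by_cases hGt : Subsingleton G
  · left; exact isCyclic_of_subsingleton
  rw [not_subsingleton_iff_nontrivial] at hGt
  have hcn : Nontrivial (Subgroup.center G) := hG.center_nontrivial
  have hdvd : p ∣ Nat.card (Subgroup.center G) := by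
    rcases (hG.to_subgroup (Subgroup.center G)).card_eq_or_dvd with h | h
    · exfalso
      have h2 := Finite.one_lt_card_iff_nontrivial.2 hcn
      omega
    · exact h
  obtain ⟨⟨z, hz⟩, hoz⟩ := exists_prime_orderOf_dvd_card' p hdvd
  have hoz' : orderOf z = p := by rw [← hoz]; exact (Subgroup.orderOf_mk z hz).symm
  rcases Cfsg.Agent.S0016.result p hG
      (fun H K hH hK => by rw [key z hz hoz' H hH, key z hz hoz' K hK]) with h | ⟨_, n, hn⟩
  · exact Or.inl h
  · exact Or.inr ⟨2 ^ n, hn⟩

end Cfsg.Agent.Lib.H13.HT
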