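/-
S4221 (architect helper21): auxiliary orbit–stabilizer counting for subgroups of `Perm α`.
-/
import Mathlib
import Cfsg.Agent.Lib.H21.Hall4Defs

set_option autoImplicit false

namespace Cfsg.Agent.Lib.H13.Hall4

open Equiv Cfsg.Agent.Lib.H21.Hall4

variable {α : Type*} [Fintype α] [DecidableEq α]

/-- orbit–stabilizer for a subgroup `C` of `Perm α` acting on `X` through `Perm α`, with the orbit given as a
finset `O` and the stabilizer as a subgroup `K` of `Perm α` -/
theorem card_eq_orbit_mul {X : Type*} [MulAction (Perm α) X] (C K : Subgroup (Perm α)) (x : X)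
    (O : Finset X) (hK : ∀ g, g ∈ K ↔ g ∈ C ∧ g • x = x) (hO : ∀ y, y ∈ O ↔ ∃ g ∈ C, g • x = y) :
    Nat.card C = O.card * Nat.card K := by
  have h1 := Subgroup.card_mul_index (MulAction.stabilizer C x)
  rw [MulAction.index_stabilizer] at h1
  have h2 : MulAction.orbit C x = (O : Set X) := by
    ext y
    rw [MulAction.mem_orbit_iff, Finset.mem_coe, hO]
    constructor
    · rintro ⟨g, hg⟩
      exact ⟨g.1, g.2, hg⟩
    · rintro ⟨g, hg, hy⟩
      exact ⟨⟨g, hg⟩, hy⟩
  rw [h2, Set.ncard_coe_finset] at h1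
  have hKC : K ≤ C := fun g hg => ((hK g).1 hg).1
  have h3 : MulAction.stabilizer C x = K.subgroupOf C := by
    ext g
    rw [MulAction.mem_stabilizer_iff, Subgroup.mem_subgroupOf, hK]
    constructor
    · intro h
      exact ⟨g.2, h⟩
    · rintro ⟨-, h⟩
      exact h
  rw [h3, Nat.card_congr (Subgroup.subgroupOfEquivOfLe hKC).toEquiv] at h1
  rw [← h1, mul_comm]

end Cfsg.Agent.Lib.H13.Hall4
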