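/-
S4221 (architect helper21), piece CU: `card_cent_U`.
-/
import Mathlib
import Cfsg.Agent.Lib.H21.Hall4Defs
import Cfsg.Agent.Lib.H13.Hall4Aux

set_option autoImplicit false

namespace Cfsg.Agent.Lib.H13.Hall4

open Equiv Cfsg.Agent.Lib.H21.Hall4

variable {α : Type*} [Fintype α] [DecidableEq α] {G : Subgroup (Perm α)}

theorem mem_cent_pair {g a b : Perm α} :
    g ∈ Subgroup.centralizer ({a, b} : Set (Perm α)) ↔ a * g = g * a ∧ b * g = g * b := by
  rw [Subgroup.mem_centralizer_iff]
  constructor
  · intro h
    exact ⟨h a (by simp), h b (by simp)⟩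
  · rintro ⟨h1, h2⟩ x hx
    rcases hx with rfl | hx
    · exact h1
    · rw [Set.mem_singleton_iff] at hx
      rw [hx]
      exact h2

theorem emb_ext4 {y y' : Fin 4 ↪ α} (h0 : y 0 = y' 0) (h1 : y 1 = y' 1) (h2 : y 2 = y' 2) (h3 : y 3 = y' 3) :
    y = y' := by
  apply Function.Embedding.ext
  intro i
  fin_cases i
  · exact h0
  · exact h1
  · exact h2
  · exact h3

/-- `C_G(t,t')` permutes `{s 0, s 1} = Fix t' ∖ Fix t` and `{s 2, s 3} = Fix t ∖ Fix t'`, and
`1, t, t', t t'` realise the four possibilities: `st G s ⊓ C(t,t')` has index 4 in `C_G(t,t')`. -/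
theorem card_cent_U {t t' : Perm α} (ht : t ∈ G) (ht' : t' ∈ G) (htt : t * t' = t' * t)
    (s : Fin 4 ↪ α) (hpt : Pat t s σ01) (hpt' : Pat t' s σ23)
    (h01 : ∀ x, t' x = x → t x ≠ x → x = s 0 ∨ x = s 1)
    (h23 : ∀ x, t x = x → t' x ≠ x → x = s 2 ∨ x = s 3) :
    Nat.card (G ⊓ Subgroup.centralizer ({t, t'} : Set (Perm α)) : Subgroup (Perm α)) =
      4 * Nat.card (st G s ⊓ Subgroup.centralizer ({t, t'} : Set (Perm α)) : Subgroup (Perm α)) := by
  classical
  -- the values of `t`, `t'` on the tuple
  have t0 : t (s 0) = s 1 := hpt 0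
  have t1 : t (s 1) = s 0 := hpt 1
  have t2 : t (s 2) = s 2 := hpt 2
  have t3 : t (s 3) = s 3 := hpt 3
  have u0 : t' (s 0) = s 0 := hpt' 0
  have u1 : t' (s 1) = s 1 := hpt' 1
  have u2 : t' (s 2) = s 3 := hpt' 2
  have u3 : t' (s 3) = s 2 := hpt' 3
  have n01 : s 0 ≠ s 1 := fun h => absurd (s.injective h) (by decide)
  have n23 : s 2 ≠ s 3 := fun h => absurd (s.injective h) (by decide)
  have key := card_eq_orbit_mul (X := Fin 4 ↪ α)
    (G ⊓ Subgroup.centralizer ({t, t'} : Set (Perm α)))
    (st G s ⊓ Subgroup.centralizer ({t, t'} : Set (Perm α))) s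
    ({s, t • s, t' • s, (t * t') • s} : Finset (Fin 4 ↪ α)) ?_ ?_
  · rw [key]
    congr 1
    have e1 : s ≠ t • s := fun h => n01 (by
      have := congrArg (fun y : Fin 4 ↪ α => y 0) h
      simpa [Function.Embedding.smul_apply, t0] using this)
    have e2 : s ≠ t' • s := fun h => n23 (by
      have := congrArg (fun y : Fin 4 ↪ α => y 2) h
      simpa [Function.Embedding.smul_apply, u2] using this)
    have e3 : s ≠ (t * t') • s := fun h => n01 (by
      have := congrArg (fun y : Fin 4 ↪ α => y 0) h
      simpa [Function.Embedding.smul_apply, u0, t0] using this)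
    have e4 : t • s ≠ t' • s := fun h => n01 (by
      have := congrArg (fun y : Fin 4 ↪ α => y 0) h
      simpa [Function.Embedding.smul_apply, u0, t0] using this.symm)
    have e5 : t • s ≠ (t * t') • s := fun h => n23 (by
      have := congrArg (fun y : Fin 4 ↪ α => y 2) h
      simpa [Function.Embedding.smul_apply, u2, t2, t3] using this)
    have e6 : t' • s ≠ (t * t') • s := fun h => n01 (by
      have := congrArg (fun y : Fin 4 ↪ α => y 0) h
      simpa [Function.Embedding.smul_apply, u0, t0] using this)
    rw [Finset.card_insert_of_notMem, Finset.card_insert_of_notMem, Finset.card_insert_of_notMem,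
      Finset.card_singleton]
    · simpa using e6
    · simp only [Finset.mem_insert, Finset.mem_singleton, not_or]
      exact ⟨e4, e5⟩
    · simp only [Finset.mem_insert, Finset.mem_singleton, not_or]
      exact ⟨e1, e2, e3⟩
  · -- the stabilizer
    intro g
    rw [Subgroup.mem_inf, Subgroup.mem_inf, mem_st]
    constructor
    · rintro ⟨⟨hg, hfix⟩, hc⟩
      refine ⟨⟨hg, hc⟩, ?_⟩
      apply Function.Embedding.ext
      intro i
      rw [Function.Embedding.smul_apply, Perm.smul_def]
      exact hfix i
    · rintro ⟨⟨hg, hc⟩, hfix⟩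
      refine ⟨⟨hg, fun i => ?_⟩, hc⟩
      have := congrArg (fun y : Fin 4 ↪ α => y i) hfix
      simpa [Function.Embedding.smul_apply] using this
  · -- the orbit
    intro y
    simp only [Finset.mem_insert, Finset.mem_singleton]
    constructor
    · rintro (rfl | rfl | rfl | rfl)
      · exact ⟨1, Subgroup.one_mem _, one_smul _ _⟩
      · refine ⟨t, ?_, rfl⟩
        rw [Subgroup.mem_inf, mem_cent_pair]
        exact ⟨ht, rfl, htt.symm⟩
      · refine ⟨t', ?_, rfl⟩
        rw [Subgroup.mem_inf, mem_cent_pair]
        exact ⟨ht', htt, rfl⟩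
      · refine ⟨t * t', ?_, rfl⟩
        rw [Subgroup.mem_inf, mem_cent_pair]
        refine ⟨G.mul_mem ht ht', ?_, ?_⟩
        · rw [mul_assoc, htt]
        · rw [← mul_assoc, ← htt]
    · rintro ⟨g, hg, rfl⟩
      rw [Subgroup.mem_inf, mem_cent_pair] at hg
      obtain ⟨-, hgt, hgt'⟩ := hg
      have ct : ∀ x, t (g x) = g (t x) := fun x => by
        have := congrArg (fun f : Perm α => f x) hgt
        simpa [Perm.mul_apply] using this
      have cu : ∀ x, t' (g x) = g (t' x) := fun x => by
        have := congrArg (fun f : Perm α => f x) hgt'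
        simpa [Perm.mul_apply] using this
      -- `g (s 0) ∈ {s 0, s 1}`
      have hA : g (s 0) = s 0 ∨ g (s 0) = s 1 := by
        apply h01
        · rw [cu, u0]
        · rw [ct, t0]
          intro h
          exact n01 (g.injective h).symm
      have hB : g (s 2) = s 2 ∨ g (s 2) = s 3 := by
        apply h23
        · rw [ct, t2]
        · rw [cu, u2]
          intro h
          exact n23 (g.injective h).symm
      have g1 : g (s 1) = t (g (s 0)) := by rw [ct, t0]
      have g3 : g (s 3) = t' (g (s 2)) := by rw [cu, u2]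
      have hfin : ∀ z : Fin 4 ↪ α, z 0 = g (s 0) → z 1 = g (s 1) → z 2 = g (s 2) → z 3 = g (s 3) →
          z = g • s := by
        intro z z0 z1 z2 z3
        apply emb_ext4 <;> simp only [Function.Embedding.smul_apply, Perm.smul_def]
        · exact z0
        · exact z1
        · exact z2
        · exact z3
      rcases hA with hA | hA <;> rcases hB with hB | hB
      · left
        symm
        apply hfin
        · exact hA.symm
        · rw [g1, hA, t0]
        · exact hB.symm
        · rw [g3, hB, u2]
      · right; right; left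
        symm
        apply hfin <;> simp only [Function.Embedding.smul_apply, Perm.smul_def]
        · rw [hA, u0]
        · rw [g1, hA, t0, u1]
        · rw [hB, u2]
        · rw [g3, hB]
      · right; left
        symm
        apply hfin <;> simp only [Function.Embedding.smul_apply, Perm.smul_def]
        · rw [hA, t0]
        · rw [g1, hA]
        · rw [hB, t2]
        · rw [g3, hB, u2, t3]
      · right; right; right
        symm
        apply hfin <;> simp only [Function.Embedding.smul_apply, Perm.smul_def, Perm.mul_apply]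
        · rw [hA, u0, t0]
        · rw [g1, hA, u1]
        · rw [hB, u2, t3]
        · rw [g3, hB, u3, t2]

end Cfsg.Agent.Lib.H13.Hall4
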