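/-
S4221 (architect helper21), piece TRIV: `cent_four_trivial`.
-/
import Mathlib
import Cfsg.Agent.Lib.H21.Hall4Defs
import Cfsg.Agent.Lib.H13.Hall4CU

set_option autoImplicit false

namespace Cfsg.Agent.Lib.H13.Hall4

open Equiv Cfsg.Agent.Lib.H21.Hall4

variable {α : Type*} [Fintype α] [DecidableEq α] {G : Subgroup (Perm α)}

/-- a power of `g` prime to the order of `g` has the same fixed points as `g` -/
theorem apply_eq_of_pow_apply_eq {g : Perm α} {m : ℕ} (hm : Nat.Coprime m (orderOf g)) {x : α}
    (hx : (g ^ m) x = x) : g x = x := by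
  obtain ⟨e, he⟩ := exists_pow_eq_self_of_coprime hm
  have := Equiv.Perm.pow_apply_eq_self_of_apply_eq_self hx e
  rw [he] at this
  exact this

/-- a non-trivial involution of `G` does not fix four distinct points -/
theorem invol_four_fixed (hG : Hyp G) {c : Perm α} (hc : c ∈ G) (hc2 : c * c = 1) (hc1 : c ≠ 1)
    {p q r w : α} (hp : c p = p) (hq : c q = q) (hr : c r = r) (hw : c w = w)
    (hpq : p ≠ q) (hpr : p ≠ r) (hpw : p ≠ w) (hqr : q ≠ r) (hqw : q ≠ w) (hrw : r ≠ w) : False := by
  let s' : Fin 4 ↪ α := ⟨![p, q, r, w], by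
    intro i j h
    fin_cases i <;> fin_cases j <;> simp_all⟩
  have hmem : c ∈ st G s' := by
    refine ⟨hc, fun i => ?_⟩
    fin_cases i
    · exact hp
    · exact hq
    · exact hr
    · exact hw
  have hodd : Odd (orderOf c) := hG.odd_orderOf hmem
  have h2 : orderOf c ∣ 2 := orderOf_dvd_of_pow_eq_one (by rw [pow_two]; exact hc2)
  have h1 : orderOf c = 1 := by
    rcases (Nat.dvd_prime Nat.prime_two).1 h2 with h | h
    · exact h
    · rw [h] at hodd
      exact absurd hodd (by decide)
  exact hc1 (orderOf_eq_one_iff.1 h1)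

/-- `g` of odd order commuting with the commuting involutions `c ∈ G∖1` and `d`, with at most two common fixed
points of `c` and `d`, fixes every fixed point of `c` -/
theorem fix_of_fix (hG : Hyp G) {c d g : Perm α} (hc : c ∈ G) (hc2 : c * c = 1) (hc1 : c ≠ 1)
    (hd2 : d * d = 1) (hcg : c * g = g * c) (hdg : d * g = g * d) (hcd : c * d = d * c)
    (hodd : Odd (orderOf g))
    (hf : (Finset.univ.filter (fun x => c x = x ∧ d x = x)).card ≤ 2) (x : α) (hx : c x = x) :
    g x = x := by
  by_contra hgx
  have cg : ∀ y, c (g y) = g (c y) := fun y => by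
    have := congrArg (fun f : Perm α => f y) hcg
    simpa [Perm.mul_apply] using this
  have dg : ∀ y, d (g y) = g (d y) := fun y => by
    have := congrArg (fun f : Perm α => f y) hdg
    simpa [Perm.mul_apply] using this
  have cd : ∀ y, c (d y) = d (c y) := fun y => by
    have := congrArg (fun f : Perm α => f y) hcd
    simpa [Perm.mul_apply] using this
  have dd : ∀ y, d (d y) = y := fun y => by
    have := congrArg (fun f : Perm α => f y) hd2
    simpa [Perm.mul_apply] using this
  have cop2 : Nat.Coprime 2 (orderOf g) := (Nat.coprime_two_left).2 hodd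
  have cop4 : Nat.Coprime 4 (orderOf g) := Nat.Coprime.pow_left 2 cop2
  have hxy : x ≠ g x := fun h => hgx h.symm
  have hyz : g x ≠ g (g x) := fun h => hxy (g.injective h)
  have hxz : x ≠ g (g x) := by
    intro h
    apply hgx
    apply apply_eq_of_pow_apply_eq cop2
    rw [pow_two, Perm.mul_apply]
    exact h.symm
  have cy : c (g x) = g x := by rw [cg, hx]
  have cz : c (g (g x)) = g (g x) := by rw [cg, cy]
  have cdx : c (d x) = d x := by rw [cd, hx]
  by_cases h1 : d x = x
  · -- three common fixed points
    have dy : d (g x) = g x := by rw [dg, h1]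
    have dz : d (g (g x)) = g (g x) := by rw [dg, dy]
    have hsub : ({x, g x, g (g x)} : Finset α) ⊆ Finset.univ.filter (fun x => c x = x ∧ d x = x) := by
      intro y hy
      simp only [Finset.mem_insert, Finset.mem_singleton] at hy
      rw [Finset.mem_filter]
      rcases hy with rfl | rfl | rfl
      · exact ⟨Finset.mem_univ _, hx, h1⟩
      · exact ⟨Finset.mem_univ _, cy, dy⟩
      · exact ⟨Finset.mem_univ _, cz, dz⟩
    have hcard : ({x, g x, g (g x)} : Finset α).card = 3 := by
      rw [Finset.card_insert_of_notMem, Finset.card_insert_of_notMem, Finset.card_singleton]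
      · simpa using hyz
      · simp only [Finset.mem_insert, Finset.mem_singleton, not_or]
        exact ⟨hxy, hxz⟩
    have := Finset.card_le_card hsub
    omega
  · by_cases h2 : d x = g x
    · apply hxz
      have : d (d x) = g (g x) := by rw [h2, dg, h2]
      rw [dd] at this
      exact this
    · by_cases h3 : d x = g (g x)
      · apply hgx
        apply apply_eq_of_pow_apply_eq cop4
        have : d (d x) = g (g (g (g x))) := by rw [h3, dg, dg, h3]
        rw [dd] at this
        have e : (g ^ 4) x = g (g (g (g x))) := by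
          simp [pow_succ, Perm.mul_apply]
        rw [e]
        exact this.symm
      · exact invol_four_fixed hG hc hc2 hc1 hx cy cz cdx hxy hxz (fun h => h1 h.symm) hyz
          (fun h => h2 h.symm) (fun h => h3 h.symm)

/-- If every regular point of `{1,a,b,ab}` is one of the `s i`, then `st G s ⊓ C(a,b) = ⊥`. -/
theorem cent_four_trivial (hG : Hyp G) {a b : Perm α} (ha : a ∈ G) (hb : b ∈ G) (ha2 : a * a = 1)
    (hb2 : b * b = 1) (hab : a * b = b * a) (hne : a ≠ 1) (hne' : b ≠ 1) (hneq : a ≠ b)
    (s : Fin 4 ↪ α) (hreg : ∀ x ∈ reg a b, ∃ i, x = s i)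
    (hf : (Finset.univ.filter (fun x => a x = x ∧ b x = x)).card ≤ 2) :
    (st G s ⊓ Subgroup.centralizer ({a, b} : Set (Perm α)) : Subgroup (Perm α)) = ⊥ := by
  rw [Subgroup.eq_bot_iff_forall]
  intro g hg
  rw [Subgroup.mem_inf, mem_cent_pair] at hg
  obtain ⟨hgs, hag, hbg⟩ := hg
  have hodd : Odd (orderOf g) := hG.odd_orderOf hgs
  have hab2 : (a * b) * (a * b) = 1 := by
    calc (a * b) * (a * b) = a * (b * a) * b := by group
      _ = a * (a * b) * b := by rw [hab]
      _ = (a * a) * (b * b) := by group
      _ = 1 := by rw [ha2, hb2, one_mul]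
  have habne : a * b ≠ 1 := by
    intro h
    apply hneq
    calc a = a * (b * b) := by rw [hb2, mul_one]
      _ = (a * b) * b := by group
      _ = b := by rw [h, one_mul]
  have habg : (a * b) * g = g * (a * b) := by
    rw [mul_assoc, hbg, ← mul_assoc, hag, mul_assoc]
  have haab : (a * b) * a = a * (a * b) := by
    rw [mul_assoc, ← hab]
  have hf2 : (Finset.univ.filter (fun x => b x = x ∧ a x = x)).card ≤ 2 := by
    refine le_trans (Finset.card_le_card ?_) hf
    intro x hx
    rw [Finset.mem_filter] at hx ⊢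
    exact ⟨hx.1, hx.2.2, hx.2.1⟩
  have hf3 : (Finset.univ.filter (fun x => (a * b) x = x ∧ a x = x)).card ≤ 2 := by
    refine le_trans (Finset.card_le_card ?_) hf
    intro x hx
    rw [Finset.mem_filter] at hx ⊢
    refine ⟨hx.1, hx.2.2, ?_⟩
    have h1 : a (b x) = x := hx.2.1
    have h2 : a (b x) = a x := by rw [h1, hx.2.2]
    exact a.injective h2
  ext x
  rw [Perm.one_apply]
  by_cases h1 : a x = x
  · exact fix_of_fix hG ha ha2 hne hb2 hag hbg hab hodd hf x h1
  · by_cases h2 : b x = x
    · exact fix_of_fix hG hb hb2 hne' ha2 hbg hag hab.symm hodd hf2 x h2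
    · by_cases h3 : (a * b) x = x
      · exact fix_of_fix hG (G.mul_mem ha hb) hab2 habne ha2 habg hag haab hodd hf3 x h3
      · obtain ⟨i, rfl⟩ := hreg x (mem_reg.2 ⟨h1, h2, h3⟩)
        exact hgs.2 i

end Cfsg.Agent.Lib.H13.Hall4
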