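import Cfsg.Agent.Lib.H13.Char2Mat
import Cfsg.Agent.S0750
import Cfsg.Agent.Lib.H11.OrthStep

set_option autoImplicit false

namespace Cfsg.Agent.Lib.H13.InvolConj

open Module QuadraticMap

section abstract

variable {F : Type*} [Field F] {V : Type*} [AddCommGroup V] [Module F V] (Q : QuadraticForm F V)

/-- an element fixing `im (t - 1)` pointwise and preserving the polar form commutes with `t` -/
theorem comm_of_fix (hQ : (polarBilin Q).Nondegenerate) (t L : V ≃ₗ[F] V)
    (ht : ∀ x y, polar (⇑Q) (t x) (t y) = polar (⇑Q) x y)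
    (hL : ∀ x y, polar (⇑Q) (L x) (L y) = polar (⇑Q) x y)
    (hfix : ∀ x, L (t x - x) = t x - x) (x : V) : t (L x) = L (t x) := by
  -- `z := L x - x` is orthogonal to `im (t - 1)`
  have hz : ∀ y, polar (⇑Q) (L x - x) (t y - y) = 0 := by
    intro y
    rw [polar_sub_left]
    have := hL x (t y - y)
    rw [hfix] at this
    rw [this, sub_self]
  -- hence fixed by `t`
  have htz : t (L x - x) = L x - x := by
    have h0 : ∀ y, polar (⇑Q) (t (L x - x) - (L x - x)) (t y) = 0 := by
      intro y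
      have h1 := hz y
      rw [polar_sub_right] at h1
      rw [polar_sub_left, ht]
      linear_combination -h1
    have h1 : t (L x - x) - (L x - x) = 0 := by
      apply hQ.1
      intro y
      have := h0 (t.symm y)
      rw [LinearEquiv.apply_symm_apply] at this
      exact this
    exact sub_eq_zero.mp h1
  have h2 : L (t x) = L x + (t x - x) := by
    have := hfix x
    rw [map_sub] at this
    rw [← this]
    abel
  rw [h2]
  have h3 : t (L x) = t (L x - x) + t x := by
    rw [← map_add]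
    congr 1
    abel
  rw [h3, htz]
  abel

/-- elements of `O(Q)` conjugate under the isometry group of the polar form are conjugate in
`O(Q)` -/
theorem exists_isometry_conj [Finite F] [FiniteDimensional F V] (hQ : (polarBilin Q).Nondegenerate)
    (t s g : V ≃ₗ[F] V) (ht : ∀ x, Q (t x) = Q x) (hs : ∀ x, Q (s x) = Q x)
    (hg : ∀ x y, polar (⇑Q) (g x) (g y) = polar (⇑Q) x y) (hconj : ∀ x, g (t x) = s (g x)) :
    ∃ h : V ≃ₗ[F] V, (∀ x, Q (h x) = Q x) ∧ ∀ x, h (t x) = s (h x) := by
  have hpol : ∀ (r : V ≃ₗ[F] V), (∀ x, Q (r x) = Q x) →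
      ∀ x y, polar (⇑Q) (r x) (r y) = polar (⇑Q) x y := by
    intro r hr x y
    unfold polar
    rw [← map_add, hr, hr, hr]
  have h2Q : ∀ x, Q (g x) + Q (g x) = Q x + Q x := by
    intro x
    have := hg x x
    rw [polar_self, polar_self, two_nsmul, two_nsmul] at this
    exact this
  let Nmap : V →ₗ[F] V := (t : V →ₗ[F] V) - LinearMap.id
  have hN : ∀ x, Nmap x = t x - x := fun x => rfl
  set W : Submodule F V := LinearMap.range Nmap with hW
  let φ : W ≃ₗ[F] W.map (g : V →ₗ[F] V) := g.submoduleMap W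
  have hφ : ∀ w : W, Q (φ w : V) = Q (w : V) := by
    rintro ⟨w, x, rfl⟩
    show Q (g (Nmap x)) = Q (Nmap x)
    rw [hN, map_sub, hconj]
    have q1 : ∀ (r : V ≃ₗ[F] V), (∀ x, Q (r x) = Q x) → ∀ y, Q (r y - y) =
        Q y + Q y - polar (⇑Q) (r y) y := by
      intro r hr y
      rw [sub_eq_add_neg, QuadraticMap.map_add (⇑Q), QuadraticMap.map_neg, polar_neg_right, hr]
      ring
    rw [q1 s hs, q1 t ht, h2Q, ← hconj, hg]
  obtain ⟨h, hh, hext⟩ := Cfsg.Agent.S0750.result Q hQ W (W.map (g : V →ₗ[F] V)) φ hφ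
  refine ⟨h, hh, ?_⟩
  -- `L := g⁻¹ h` fixes `W` pointwise
  have hLfix : ∀ x, (h.trans g.symm) (t x - x) = t x - x := by
    intro x
    have hmem : t x - x ∈ W := ⟨x, rfl⟩
    have := hext ⟨t x - x, hmem⟩
    show g.symm (h (t x - x)) = t x - x
    rw [this]
    show g.symm (g (t x - x)) = t x - x
    rw [LinearEquiv.symm_apply_apply]
  have hLpol : ∀ x y, polar (⇑Q) ((h.trans g.symm) x) ((h.trans g.symm) y) = polar (⇑Q) x y := by
    intro x y
    show polar (⇑Q) (g.symm (h x)) (g.symm (h y)) = polar (⇑Q) x y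
    have := hg (g.symm (h x)) (g.symm (h y))
    rw [LinearEquiv.apply_symm_apply, LinearEquiv.apply_symm_apply] at this
    rw [← this, hpol h hh]
  intro x
  have key := comm_of_fix Q hQ t (h.trans g.symm) (hpol t ht) hLpol hLfix x
  -- `t (g⁻¹ h x) = g⁻¹ h (t x)`
  have key' : t (g.symm (h x)) = g.symm (h (t x)) := key
  have := congrArg g key'
  rw [LinearEquiv.apply_symm_apply, hconj, LinearEquiv.apply_symm_apply] at this
  exact this.symm

end abstract

section matrix

open Matrix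
open scoped MatrixGroups
open Cfsg.Agent.Lib.H11.OrthStep Cfsg.Agent.Lib.H13.Char2Mat

variable {F : Type*} [Field F] [Finite F] {ι : Type} [Fintype ι] [DecidableEq ι]
  (Q : QuadraticForm F (ι → F))

/-- conjugacy in `O(Q)` is conjugacy under the isometry group of the polar form -/
theorem isConj_iff_polar_conj (hQ : (polarBilin Q).Nondegenerate)
    (t s : ↥(Cfsg.isometryGroup F ⇑Q)) :
    IsConj t s ↔ ∃ g ∈ Cfsg.preserving (Units.coeHom (Matrix ι ι F))
      (fun u v => Q (u + v) - Q u - Q v), g * (t : GL ι F) * g⁻¹ = (s : GL ι F) := by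
  constructor
  · intro h
    obtain ⟨c, hc⟩ := isConj_iff.mp h
    refine ⟨(c : GL ι F), ?_, ?_⟩
    · intro u v
      have hc' : ∀ x, Q (((c : GL ι F) : Matrix ι ι F) *ᵥ x) = Q x :=
        (Cfsg.Agent.Lib.H11.IsoReindex.mem_iso_iff' _ _).mp c.2
      show Q (((c : GL ι F) : Matrix ι ι F) *ᵥ u + ((c : GL ι F) : Matrix ι ι F) *ᵥ v) -
        Q (((c : GL ι F) : Matrix ι ι F) *ᵥ u) - Q (((c : GL ι F) : Matrix ι ι F) *ᵥ v) = _
      rw [← Matrix.mulVec_add, hc', hc', hc']
    · rw [← hc]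
      rfl
  · rintro ⟨g, hg, hconj⟩
    have hg' : ∀ u v, polar (⇑Q) ((g : Matrix ι ι F) *ᵥ u) ((g : Matrix ι ι F) *ᵥ v) =
        polar (⇑Q) u v := hg
    have ht' : ∀ x, Q (((t : GL ι F) : Matrix ι ι F) *ᵥ x) = Q x :=
      (Cfsg.Agent.Lib.H11.IsoReindex.mem_iso_iff' _ _).mp t.2
    have hs' : ∀ x, Q (((s : GL ι F) : Matrix ι ι F) *ᵥ x) = Q x :=
      (Cfsg.Agent.Lib.H11.IsoReindex.mem_iso_iff' _ _).mp s.2
    have hgt : g * (t : GL ι F) = (s : GL ι F) * g := by
      rw [← hconj]
      group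
    obtain ⟨h, hh, hht⟩ := exists_isometry_conj Q hQ (toEquiv (t : GL ι F)) (toEquiv (s : GL ι F))
      (toEquiv g) (fun x => by rw [toEquiv_apply]; exact ht' x)
      (fun x => by rw [toEquiv_apply]; exact hs' x)
      (fun x y => by rw [toEquiv_apply, toEquiv_apply]; exact hg' x y)
      (fun x => by
        rw [toEquiv_apply, toEquiv_apply, toEquiv_apply, toEquiv_apply, Matrix.mulVec_mulVec,
          Matrix.mulVec_mulVec, ← Units.val_mul, ← Units.val_mul, hgt])
    have hmem : glOfEquiv h ∈ Cfsg.isometryGroup F ⇑Q := by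
      rw [Cfsg.Agent.Lib.H11.IsoReindex.mem_iso_iff']
      intro x
      rw [glOfEquiv_mulVec]
      exact hh x
    rw [isConj_iff]
    refine ⟨⟨glOfEquiv h, hmem⟩, ?_⟩
    rw [mul_inv_eq_iff_eq_mul]
    apply Subtype.ext
    apply Units.ext
    show (glOfEquiv h).1 * ((t : GL ι F) : Matrix ι ι F) =
      ((s : GL ι F) : Matrix ι ι F) * (glOfEquiv h).1
    apply Matrix.ext_iff_mulVec.mpr
    intro x
    rw [← Matrix.mulVec_mulVec, ← Matrix.mulVec_mulVec, glOfEquiv_mulVec, glOfEquiv_mulVec]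
    have := hht x
    rw [toEquiv_apply, toEquiv_apply] at this
    exact this

end matrix

end Cfsg.Agent.Lib.H13.InvolConj
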