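import Mathlib

set_option autoImplicit false

namespace Cfsg.Agent.Lib.H13.JordanBasis


open Polynomial Module DirectSum

universe u v

variable {F : Type u} [Field F] {V : Type v} [AddCommGroup V] [Module F V]

/-- `b` is a Jordan basis of shape `k` for the nilpotent endomorphism `N` -/
def IsJB (N : End F V) {ι : Type*} (k : ι → ℕ) (b : Basis (Σ i, Fin (k i)) F V) : Prop :=
  ∀ (i : ι) (t : Fin (k i)),
    N (b ⟨i, t⟩) = if h : t.val + 1 < k i then b ⟨i, ⟨t.val + 1, h⟩⟩ else 0

section exist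

/-- the cyclic summands -/
abbrev Cyc (k : ℕ) (F : Type u) [Field F] := F[X] ⧸ (Submodule.span F[X] {(X : F[X]) ^ k})

/-- generator of the `i`-th summand -/
noncomputable def gen {d : ℕ} (k : Fin d → ℕ) (i : Fin d) : ⨁ i : Fin d, Cyc (k i) F :=
  DirectSum.lof F[X] (Fin d) (fun i => Cyc (k i) F) i 1

theorem pow_smul_gen_eq_zero {d : ℕ} (k : Fin d → ℕ) (i : Fin d) (t : ℕ) (ht : k i ≤ t) :
    (X : F[X]) ^ t • gen (F := F) k i = 0 := by
  unfold gen
  rw [← map_smul]
  have h2 : (X : F[X]) ^ t • (1 : Cyc (k i) F) = 0 := by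
    show (X : F[X]) ^ t • Submodule.Quotient.mk (1 : F[X]) = 0
    rw [← Submodule.Quotient.mk_smul, smul_eq_mul, mul_one, Submodule.Quotient.mk_eq_zero,
      Submodule.mem_span_singleton]
    exact ⟨X ^ (t - k i), by rw [smul_eq_mul, ← pow_add, Nat.sub_add_cancel ht]⟩
  rw [h2, map_zero]

theorem smul_gen_mem {d : ℕ} (k : Fin d → ℕ) (i : Fin d) (p : F[X]) :
    p • gen (F := F) k i ∈ Submodule.span F (Set.range (fun x : (Σ i : Fin d, Fin (k i)) =>
        ((X : F[X]) ^ x.2.val) • gen (F := F) k x.1)) := by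
  induction p using Polynomial.induction_on' with
  | add p q hp hq =>
    rw [add_smul]
    exact Submodule.add_mem _ hp hq
  | monomial t c =>
    rw [← C_mul_X_pow_eq_monomial, mul_smul, ← algebraMap_eq, algebraMap_smul]
    apply Submodule.smul_mem
    by_cases ht : t < k i
    · apply Submodule.subset_span
      exact ⟨⟨i, ⟨t, ht⟩⟩, rfl⟩
    · rw [pow_smul_gen_eq_zero k i t (not_lt.mp ht)]
      exact Submodule.zero_mem _

theorem span_pow_smul (d : ℕ) (k : Fin d → ℕ) :
    (⊤ : Submodule F (⨁ i : Fin d, Cyc (k i) F)) ≤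
      Submodule.span F (Set.range (fun x : (Σ i : Fin d, Fin (k i)) =>
        ((X : F[X]) ^ x.2.val) • gen (F := F) k x.1)) := by
  rintro g -
  induction g using DirectSum.induction_on with
  | zero => exact Submodule.zero_mem _
  | add x y hx hy => exact Submodule.add_mem _ hx hy
  | of i a =>
    obtain ⟨p, rfl⟩ := Submodule.Quotient.mk_surjective _ a
    have h1 : DirectSum.of (fun i => Cyc (k i) F) i (Submodule.Quotient.mk p) =
        p • gen (F := F) k i := by
      unfold gen
      rw [← map_smul, DirectSum.lof_eq_of]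
      congr 1
      show Submodule.Quotient.mk p = p • Submodule.Quotient.mk (1 : F[X])
      rw [← Submodule.Quotient.mk_smul, smul_eq_mul, mul_one]
    rw [h1]
    exact smul_gen_mem k i p

theorem finrank_cyc (k : ℕ) : finrank F (Cyc k F) = k := by
  have := finrank_quotient_span_eq_natDegree (f := (X : F[X]) ^ k)
  rw [natDegree_X_pow] at this
  exact this

theorem exists_isJB [Module.Finite F V] (N : End F V) (hN : ∃ n, N ^ n = 0) :
    ∃ (d : ℕ) (k : Fin d → ℕ) (b : Basis (Σ i, Fin (k i)) F V), IsJB N k b := by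
  obtain ⟨n, hn⟩ := hN
  have htors : Module.IsTorsion' (AEval' N) (Submonoid.powers (X : F[X])) := by
    intro x
    refine ⟨⟨X ^ n, n, rfl⟩, ?_⟩
    show (X : F[X]) ^ n • x = 0
    obtain ⟨m, rfl⟩ := (AEval'.of N).surjective x
    rw [AEval.X_pow_smul_of, hn, zero_smul, map_zero]
  obtain ⟨d, k, ⟨e⟩⟩ := Module.torsion_by_prime_power_decomposition (irreducible_X (R := F)) htors
  let Φ : (⨁ i : Fin d, Cyc (k i) F) ≃ₗ[F] V :=
    (e.symm.restrictScalars F).trans (AEval'.of N).symm
  have hΦX : ∀ g, Φ ((X : F[X]) • g) = N (Φ g) := by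
    intro g
    show (AEval'.of N).symm (e.symm ((X : F[X]) • g)) = N ((AEval'.of N).symm (e.symm g))
    rw [map_smul, AEval.of_symm_X_smul]
    rfl
  let bf : (Σ i : Fin d, Fin (k i)) → V := fun x => Φ ((X : F[X]) ^ x.2.val • gen k x.1)
  have hspan : ⊤ ≤ Submodule.span F (Set.range bf) := by
    have h0 := span_pow_smul (F := F) d k
    have h1 : Set.range bf = Φ '' (Set.range (fun x : (Σ i : Fin d, Fin (k i)) =>
        ((X : F[X]) ^ x.2.val) • gen (F := F) k x.1)) := by
      rw [← Set.range_comp]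
      rfl
    rw [h1]
    intro v _
    have hv := h0 (Submodule.mem_top : Φ.symm v ∈ ⊤)
    have := Submodule.apply_mem_span_image_of_mem_span (Φ : _ →ₗ[F] V) hv
    rwa [LinearEquiv.coe_coe, Φ.apply_symm_apply] at this
  haveI : ∀ i, Module.Finite F (Cyc (k i) F) := fun i =>
    Polynomial.Monic.finite_quotient (monic_X_pow (k i))
  have hcard : Fintype.card (Σ i, Fin (k i)) = finrank F V := by
    rw [← Φ.finrank_eq, Module.finrank_directSum, Fintype.card_sigma]
    apply Finset.sum_congr rfl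
    intro i _
    rw [Fintype.card_fin, finrank_cyc]
  refine ⟨d, k, basisOfTopLeSpanOfCardEqFinrank bf hspan hcard, ?_⟩
  intro i t
  rw [coe_basisOfTopLeSpanOfCardEqFinrank]
  show N (Φ ((X : F[X]) ^ t.val • gen k i)) = _
  rw [← hΦX, ← mul_smul, ← pow_succ']
  split_ifs with h
  · rfl
  · rw [pow_smul_gen_eq_zero k i _ (not_lt.mp h), map_zero]

end exist




universe w

variable {W : Type w} [AddCommGroup W] [Module F W]

section basic

variable {ι : Type*} {k : ι → ℕ} {N : End F V} {b : Basis (Σ i, Fin (k i)) F V}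

theorem pow_apply (hb : IsJB N k b) (j : ℕ) (i : ι) (t : Fin (k i)) :
    (N ^ j) (b ⟨i, t⟩) = if h : t.val + j < k i then b ⟨i, ⟨t.val + j, h⟩⟩ else 0 := by
  induction j with
  | zero =>
    rw [pow_zero, Module.End.one_apply, dif_pos (by simp)]
    rfl
  | succ j ih =>
    rw [pow_succ', Module.End.mul_apply, ih]
    by_cases h1 : t.val + j < k i
    · rw [dif_pos h1, hb]
      by_cases h2 : t.val + (j + 1) < k i
      · rw [dif_pos h2, dif_pos (show (⟨t.val + j, h1⟩ : Fin (k i)).val + 1 < k i from h2)]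
        rfl
      · rw [dif_neg h2, dif_neg (show ¬ (⟨t.val + j, h1⟩ : Fin (k i)).val + 1 < k i from h2)]
    · rw [dif_neg h1, map_zero, dif_neg (by omega)]

theorem pow_eq_zero_iff (hb : IsJB N k b) (j : ℕ) : N ^ j = 0 ↔ ∀ i, k i ≤ j := by
  constructor
  · intro h i
    by_contra hlt
    push Not at hlt
    have h1 := pow_apply hb j i ⟨0, by omega⟩
    rw [h, LinearMap.zero_apply, dif_pos (show (0 : ℕ) + j < k i by omega)] at h1
    exact b.ne_zero _ h1.symm
  · intro h
    apply b.ext
    rintro ⟨i, t⟩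
    rw [pow_apply hb, dif_neg (by have := h i; omega), LinearMap.zero_apply]

theorem range_pow (hb : IsJB N k b) (j : ℕ) :
    LinearMap.range (N ^ j) = Submodule.span F (Set.range
      (fun y : {y : Σ i, Fin (k i) // j ≤ y.2.val} => b y.1)) := by
  apply le_antisymm
  · rw [LinearMap.range_eq_map, ← b.span_eq, Submodule.map_span, Submodule.span_le]
    rintro _ ⟨_, ⟨⟨i, t⟩, rfl⟩, rfl⟩
    rw [pow_apply hb]
    split_ifs with h
    · apply Submodule.subset_span
      exact ⟨⟨⟨i, ⟨t.val + j, h⟩⟩, by simp⟩, rfl⟩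
    · exact Submodule.zero_mem _
  · rw [Submodule.span_le]
    rintro _ ⟨⟨⟨i, s⟩, hs⟩, rfl⟩
    simp only at hs
    refine ⟨b ⟨i, ⟨s.val - j, by omega⟩⟩, ?_⟩
    rw [pow_apply hb, dif_pos (by simp only; omega)]
    congr 2
    apply Fin.ext
    simp only
    omega

theorem card_fin_ge (k j : ℕ) : Fintype.card {s : Fin k // j ≤ s.val} = k - j := by
  rw [Fintype.card_subtype]
  have h1 : (Finset.univ.filter (fun s : Fin k => j ≤ s.val)) =
      Finset.univ \ (Finset.univ.filter (fun s : Fin k => s.val < j)) := by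
    ext s
    simp only [Finset.mem_filter, Finset.mem_univ, true_and, Finset.mem_sdiff, not_lt]
  rw [h1, Finset.card_sdiff_of_subset (Finset.filter_subset _ _), Finset.card_univ,
    Fintype.card_fin, Fin.card_filter_val_lt]
  omega

theorem finrank_range_pow [Fintype ι] (hb : IsJB N k b) (j : ℕ) :
    finrank F (LinearMap.range (N ^ j)) = ∑ i, (k i - j) := by
  classical
  rw [range_pow hb j]
  have hli : LinearIndependent F (fun y : {y : Σ i, Fin (k i) // j ≤ y.2.val} => b y.1) :=
    b.linearIndependent.comp _ Subtype.val_injective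
  rw [finrank_span_eq_card hli]
  have e : {y : Σ i, Fin (k i) // j ≤ y.2.val} ≃ Σ i, {s : Fin (k i) // j ≤ s.val} :=
    { toFun := fun y => ⟨y.1.1, ⟨y.1.2, y.2⟩⟩
      invFun := fun y => ⟨⟨y.1, y.2.1⟩, y.2.2⟩
      left_inv := fun y => rfl
      right_inv := fun y => rfl }
  rw [Fintype.card_congr e, Fintype.card_sigma]
  exact Finset.sum_congr rfl (fun i _ => card_fin_ge (k i) j)

end basic

section conj

variable {ι : Type*} {ι' : Type*}

theorem exists_equiv_of_isJB (N : End F V) (N' : End F W) (k : ι → ℕ) (k' : ι' → ℕ)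
    (b : Basis (Σ i, Fin (k i)) F V) (b' : Basis (Σ i, Fin (k' i)) F W)
    (hb : IsJB N k b) (hb' : IsJB N' k' b') (σ : ι ≃ ι') (hσ : ∀ i, k' (σ i) = k i) :
    ∃ g : V ≃ₗ[F] W, ∀ v, g (N v) = N' (g v) := by
  let τ : (Σ i, Fin (k i)) ≃ (Σ i, Fin (k' i)) :=
    Equiv.sigmaCongr σ (fun i => finCongr (hσ i).symm)
  have hτ : ∀ (i : ι) (t : Fin (k i)), τ ⟨i, t⟩ = ⟨σ i, ⟨t.val, by rw [hσ]; exact t.2⟩⟩ := by
    intro i t
    rfl
  refine ⟨b.equiv b' τ, ?_⟩
  have h : ((b.equiv b' τ : V ≃ₗ[F] W) : V →ₗ[F] W) ∘ₗ N =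
      N' ∘ₗ ((b.equiv b' τ : V ≃ₗ[F] W) : V →ₗ[F] W) := by
    apply b.ext
    rintro ⟨i, t⟩
    simp only [LinearMap.comp_apply, LinearEquiv.coe_coe, Basis.equiv_apply]
    rw [hb, hτ, hb']
    by_cases h1 : t.val + 1 < k i
    · rw [dif_pos h1, dif_pos (show t.val + 1 < k' (σ i) by rw [hσ]; exact h1), Basis.equiv_apply,
        hτ]
    · rw [dif_neg h1, dif_neg (show ¬ t.val + 1 < k' (σ i) by rw [hσ]; exact h1), map_zero]
  intro v
  exact LinearMap.congr_fun h v

theorem exists_isJB_of_shape [Fintype ι] [Module.Finite F V] (k : ι → ℕ)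
    (hk : ∑ i, k i = finrank F V) :
    ∃ (N : End F V) (b : Basis (Σ i, Fin (k i)) F V), IsJB N k b := by
  have hcard : Fintype.card (Fin (finrank F V)) = Fintype.card (Σ i, Fin (k i)) := by
    rw [Fintype.card_fin, Fintype.card_sigma, ← hk]
    exact Finset.sum_congr rfl (fun i _ => (Fintype.card_fin _).symm)
  let b : Basis (Σ i, Fin (k i)) F V :=
    (Module.finBasis F V).reindex (Fintype.equivOfCardEq hcard)
  refine ⟨b.constr F (fun x => if h : x.2.val + 1 < k x.1 then b ⟨x.1, ⟨x.2.val + 1, h⟩⟩ else 0),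
    b, ?_⟩
  intro i t
  rw [Basis.constr_basis]

theorem exists_isJB_pos [Module.Finite F V] (N : End F V) (hN : ∃ n, N ^ n = 0) :
    ∃ (ι : Type) (_ : Fintype ι) (k : ι → ℕ) (b : Basis (Σ i, Fin (k i)) F V),
      IsJB N k b ∧ ∀ i, 0 < k i := by
  obtain ⟨d, k, b, hb⟩ := exists_isJB N hN
  let e : (Σ i : {i : Fin d // 0 < k i}, Fin (k i.1)) ≃ (Σ i, Fin (k i)) :=
    { toFun := fun x => ⟨x.1.1, x.2⟩
      invFun := fun x => ⟨⟨x.1, by have := x.2.2; omega⟩, x.2⟩
      left_inv := fun x => rfl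
      right_inv := fun x => rfl }
  refine ⟨{i : Fin d // 0 < k i}, inferInstance, fun i => k i.1, b.reindex e.symm, ?_, fun i => i.2⟩
  intro i t
  rw [Basis.reindex_apply, Equiv.symm_symm]
  show N (b ⟨i.1, t⟩) = _
  rw [hb]
  split_ifs with h
  · rw [Basis.reindex_apply, Equiv.symm_symm]
    rfl
  · rfl

theorem exists_equiv_of_map_eq [Fintype ι] [Fintype ι'] (k : ι → ℕ) (k' : ι' → ℕ)
    (h : Finset.univ.val.map k = Finset.univ.val.map k') :
    ∃ σ : ι ≃ ι', ∀ i, k' (σ i) = k i := by
  classical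
  have hc : ∀ c : ℕ, Fintype.card {i // k i = c} = Fintype.card {i' // k' i' = c} := by
    intro c
    have := congrArg (Multiset.count c) h
    rw [Multiset.count_map, Multiset.count_map] at this
    rw [Fintype.card_subtype, Fintype.card_subtype]
    simp only [Finset.card_def, Finset.filter_val]
    convert this using 2
    · apply Multiset.filter_congr
      intro x _
      exact eq_comm
    · apply Multiset.filter_congr
      intro x _
      exact eq_comm
  exact ⟨Equiv.ofFiberEquiv (fun c => Fintype.equivOfCardEq (hc c)),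
    fun i => Equiv.ofFiberEquiv_map _ i⟩

end conj






/-- the rank type of a nilpotent endomorphism -/
def HasType (N : End F V) (m : Multiset ℕ) : Prop :=
  ∀ j : ℕ, finrank F (LinearMap.range (N ^ j)) = (m.map (fun a => a - j)).sum

theorem hasType_of_isJB {ι : Type*} [Fintype ι] {k : ι → ℕ} {N : End F V}
    {b : Basis (Σ i, Fin (k i)) F V} (hb : IsJB N k b) :
    HasType N (Finset.univ.val.map k) := by
  intro j
  rw [finrank_range_pow hb j, Multiset.map_map]
  rfl

theorem pow_intertwine (N : End F V) (N' : End F W) (g : V →ₗ[F] W)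
    (h : ∀ v, g (N v) = N' (g v)) (j : ℕ) (v : V) : g ((N ^ j) v) = (N' ^ j) (g v) := by
  induction j generalizing v with
  | zero => simp
  | succ j ih => rw [pow_succ, pow_succ, Module.End.mul_apply, Module.End.mul_apply, ih, h]

theorem hasType_conj (N : End F V) (N' : End F W) (g : V ≃ₗ[F] W)
    (h : ∀ v, g (N v) = N' (g v)) (m : Multiset ℕ) (hm : HasType N m) : HasType N' m := by
  intro j
  rw [← hm j]
  have : LinearMap.range (N' ^ j) = (LinearMap.range (N ^ j)).map (g : V →ₗ[F] W) := by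
    ext w
    rw [Submodule.mem_map, LinearMap.mem_range]
    constructor
    · rintro ⟨v, rfl⟩
      refine ⟨(N ^ j) (g.symm v), LinearMap.mem_range_self _ _, ?_⟩
      have := pow_intertwine N N' (g : V →ₗ[F] W) h j (g.symm v)
      rw [LinearEquiv.coe_coe, g.apply_symm_apply] at this
      exact this
    · rintro ⟨_, ⟨v, rfl⟩, rfl⟩
      exact ⟨g v, (pow_intertwine N N' (g : V →ₗ[F] W) h j v).symm⟩
  rw [this]
  exact LinearEquiv.finrank_map_eq g _

theorem rank_identity (m : Multiset ℕ) (a : ℕ) (ha : 1 ≤ a) :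
    (m.map (fun x => x - (a - 1))).sum + (m.map (fun x => x - (a + 1))).sum =
      2 * (m.map (fun x => x - a)).sum + m.count a := by
  induction m using Multiset.induction_on with
  | empty => simp
  | cons x m ih =>
    simp only [Multiset.map_cons, Multiset.sum_cons, Multiset.count_cons]
    split_ifs with h <;> omega

theorem type_unique (m m' : Multiset ℕ) (hm : ∀ a ∈ m, 0 < a) (hm' : ∀ a ∈ m', 0 < a)
    (h : ∀ j, (m.map (fun a => a - j)).sum = (m'.map (fun a => a - j)).sum) : m = m' := by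
  ext a
  rcases Nat.eq_zero_or_pos a with ha | ha
  · subst ha
    rw [Multiset.count_eq_zero_of_notMem (fun h0 => absurd (hm 0 h0) (lt_irrefl 0)),
      Multiset.count_eq_zero_of_notMem (fun h0 => absurd (hm' 0 h0) (lt_irrefl 0))]
  · have h1 := rank_identity m a ha
    have h2 := rank_identity m' a ha
    rw [h (a - 1), h (a + 1), h a] at h1
    omega

theorem hasType_unique (N : End F V) (m m' : Multiset ℕ) (hm : ∀ a ∈ m, 0 < a)
    (hm' : ∀ a ∈ m', 0 < a) (h : HasType N m) (h' : HasType N m') : m = m' :=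
  type_unique m m' hm hm' (fun j => (h j).symm.trans (h' j))

end Cfsg.Agent.Lib.H13.JordanBasis
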