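import Mathlib
import Cfsg.Agent.Lib.H2.KRDEFS
import Cfsg.Agent.Lib.H23.BlockEquiv

/-!
S4651 piece (K6) `pull_bsub_eq` (architect helper2): transitivity of block induction, both ways, as an
equality of sets of characters.
-/

set_option autoImplicit false

namespace Cfsg.Agent.Lib.H13.KR

open Cfsg MonoidAlgebra Cfsg.Agent.Lib.H2.KR Cfsg.Agent.Lib.H23 Cfsg.Agent.Lib.H24 Cfsg.Agent.Lib.L0
open scoped Classical ComplexConjugate

section transport

variable {G : Type*} [Group G] [Fintype G] {p : ℕ} {M : Ideal AlgInt}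

/-- A block containing `ψ` is the block of `ψ`. -/
theorem eq_blockOf_of_mem_isPBlock {A : Type*} [Group A] [Fintype A] [M.IsPrime]
    {B : Set (IrrCharacter A)} (hB : IsPBlock M B) {ψ : IrrCharacter A} (hψ : ψ ∈ B) :
    B = blockOf M (ψ : A → ℂ) := by
  obtain ⟨χ, rfl⟩ := hB
  exact (blockOf_eq_of_mem hψ).symm

/-- If `b ^ K = c` and `b ^ G = B` then `c ^ G = B` (same proof as lead's
`L0.HarrisKnorr.isInducedBlock_of_trans`, restated here to keep the import closure small). -/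
theorem isInducedBlock_of_trans' [hP : M.IsPrime] (H K : Subgroup G) (hHK : H ≤ K) [Fintype H]
    [Fintype K] [Fintype ↥(H.subgroupOf K)]
    (θ : IrrCharacter H) (ζ : IrrCharacter K) (χ : IrrCharacter G)
    (h1 : IsInducedBlock M (H.subgroupOf K)
      (blockOf M (irrEquiv (Subgroup.subgroupOfEquivOfLe hHK) θ : ↥(H.subgroupOf K) → ℂ))
      (blockOf M (ζ : K → ℂ)))
    (h3 : IsInducedBlock M H (blockOf M (θ : H → ℂ)) (blockOf M (χ : G → ℂ))) :
    IsInducedBlock M K (blockOf M (ζ : K → ℂ)) (blockOf M (χ : G → ℂ)) := by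
  refine ⟨⟨ζ, rfl⟩, ⟨χ, rfl⟩, fun ζ' hζ' χ' hχ' g => ?_⟩
  set e := Subgroup.subgroupOfEquivOfLe hHK with he
  set z := resAlg K (classSum g) with hz
  have hzc : z ∈ Subalgebra.center ℂ (MonoidAlgebra ℂ K) :=
    resAlg_mem_center K (classSum_mem_center g)
  have hzi : z ∈ intCoeff (G := K) M := resAlg_mem_intCoeff K (classSum_mem_intCoeff g)
  have hθ' : irrEquiv e θ ∈ blockOf M (irrEquiv e θ : ↥(H.subgroupOf K) → ℂ) :=
    mem_blockOf_self _
  have hA := omega_resAlg_sub_memLocalIdeal (H.subgroupOf K) h1 hθ' hζ' hzc hzi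
  have hC : omega (irrEquiv e θ : ↥(H.subgroupOf K) → ℂ) (resAlg (H.subgroupOf K) z) =
      omega (θ : H → ℂ) (resAlg H (classSum g)) := by
    apply omega_irrEquiv
    intro a
    rw [coeff_resAlg, hz, coeff_resAlg, coeff_resAlg]
    rfl
  rw [hC] at hA
  have hB := h3.2.2 θ (mem_blockOf_self θ) χ' hχ' g
  rw [inducedCentralChar_eq_omega] at hB
  rw [inducedCentralChar_eq_omega]
  have h5 := memLocalIdeal_neg hA
  rw [neg_sub] at h5
  have := memLocalIdeal_add h5 hB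
  rwa [sub_add_sub_cancel] at this

/-- (K6 TRS) transitivity of block induction, as an equality of sets of characters. -/
theorem pull_bsub_eq (hM : IsPModular p M) (b : Set (IrrCharacter G)) (hb : IsPBlock M b)
    (L H : Subgroup G) (hLH : L ≤ H)
    (hdef : ∀ ξ₀ : IrrCharacter (L.subgroupOf H), ∃ ζ₁ : IrrCharacter H,
      IsInducedBlock M (L.subgroupOf H) (blockOf M (ξ₀ : L.subgroupOf H → ℂ))
        (blockOf M (ζ₁ : H → ℂ))) :
    pull M (bsub M H b) (L.subgroupOf H) =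
      (irrEquiv (Subgroup.subgroupOfEquivOfLe hLH)) '' (bsub M L b) := by
  have hP : M.IsPrime := hM.2.1.isPrime
  obtain ⟨χ, rfl⟩ := hb
  set e := Subgroup.subgroupOfEquivOfLe hLH with he
  ext ψ
  constructor
  · rintro ⟨b', β, hψb', hind, hβ⟩
    -- θ corresponds to ψ
    set θ : IrrCharacter L := (irrEquiv e).symm ψ with hθ
    have hψθ : irrEquiv e θ = ψ := (irrEquiv e).apply_symm_apply ψ
    have hb' : b' = blockOf M (ψ : L.subgroupOf H → ℂ) := eq_blockOf_of_mem_isPBlock hind.1 hψb'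
    obtain ⟨ζ, hζβ⟩ : ∃ ζ : IrrCharacter H, ζ ∈ β := by
      obtain ⟨ζ, rfl⟩ := hind.2.1
      exact ⟨ζ, mem_blockOf_self ζ⟩
    have hβ' : β = blockOf M (ζ : H → ℂ) := eq_blockOf_of_mem_isPBlock hind.2.1 hζβ
    obtain ⟨β₂, hζβ₂, hind₂⟩ := hβ hζβ
    have hβ₂ : β₂ = blockOf M (ζ : H → ℂ) := eq_blockOf_of_mem_isPBlock hind₂.1 hζβ₂
    rw [hb', hβ', ← hψθ] at hind
    rw [hβ₂] at hind₂
    have h3 := isInducedBlock_trans L H hLH θ ζ χ hind hind₂
    exact ⟨θ, ⟨blockOf M (θ : L → ℂ), mem_blockOf_self θ, h3⟩, hψθ⟩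
  · rintro ⟨θ, ⟨β₀, hθβ₀, hind₀⟩, rfl⟩
    have hβ₀ : β₀ = blockOf M (θ : L → ℂ) := eq_blockOf_of_mem_isPBlock hind₀.1 hθβ₀
    rw [hβ₀] at hind₀
    obtain ⟨ζ₁, h1⟩ := hdef (irrEquiv e θ)
    have h2 := isInducedBlock_of_trans' L H hLH θ ζ₁ χ h1 hind₀
    refine ⟨blockOf M ((irrEquiv e θ : IrrCharacter (L.subgroupOf H)) : L.subgroupOf H → ℂ),
      blockOf M (ζ₁ : H → ℂ), mem_blockOf_self _, h1, ?_⟩
    intro ζ' hζ'
    exact ⟨blockOf M (ζ₁ : H → ℂ), hζ', h2⟩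

end transport

end Cfsg.Agent.Lib.H13.KR
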