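import Cfsg.Agent.Lib.H23.ContribP

/-!
# S4540 piece D1 (helper13): the STRICT lower bound for the diagonal contributions of a major
subsection at a character of positive height

* `contrib_inv_swap`: `contrib (u⁻¹) ψ χ = contrib u χ ψ`.
* `omega_secElt_self_memLocalIdeal`: for `χ ∈ B` of positive height, `ω_χ(secElt^{(u)} χ)` lies in
  the local ideal.
* `ordCompl_mul_pow_mul_contrib_self_eq`: `|G|_{p'} p^d contrib^{(u)} χ χ = p^{h(χ)} w` with `w` in the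
  local ideal (positive height).
* `card_units_mul_pow_lt_sum_contrib_self`: `φ(m) p^h < ∑_k p^d m^{(y^k, b)}_{χχ}` for `h = h(χ) ≥ 1`.
-/

set_option autoImplicit false

namespace Cfsg.Agent.Lib.H13.KZ

open Cfsg MonoidAlgebra Cfsg.Agent.Lib.H23 Cfsg.Agent.Lib.H24 Cfsg.Agent.Lib.L0
  Cfsg.Agent.Lib.H23.Contrib
open scoped ComplexConjugate

variable {G : Type*} [Group G] [Fintype G] {p : ℕ} [Fact p.Prime] {M : Ideal AlgInt}

section Swap

variable [Fintype (IrrCharacter G)] (H : Subgroup G) [Fintype H] [Fintype (IrrCharacter H)]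

omit [Fintype G] [Fact p.Prime] [Fintype (IrrCharacter G)] [Fintype (IrrCharacter H)] in
theorem lamW_inv_swap (u : H) (ξ ξ' : IrrCharacter H) :
    lamW H u⁻¹ ξ' ξ = lamW H u ξ ξ' := by
  have h1 : conj ((ξ : H → ℂ) 1) = (ξ : H → ℂ) 1 := by
    rw [← irr_inv, inv_one]
  have h1' : conj ((ξ' : H → ℂ) 1) = (ξ' : H → ℂ) 1 := by
    rw [← irr_inv, inv_one]
  unfold lamW
  rw [irr_inv ξ' u, irr_inv ξ u, map_div₀, map_div₀, Complex.conj_conj, h1, h1']
  ring

/-- The contribution of `(u⁻¹, b)` to `(ψ, χ)` is the contribution of `(u, b)` to `(χ, ψ)`. -/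
theorem contrib_inv_swap (hM : IsPModular p M) (b : Set (IrrCharacter H)) [DecidablePred (· ∈ b)]
    {u : H} (huc : u ∈ Subgroup.center H)
    (ξ₀ : IrrCharacter H) (hb : b = blockOf M (ξ₀ : H → ℂ)) (χ ψ : IrrCharacter G) :
    contrib p H b u⁻¹ (ψ : G → ℂ) (χ : G → ℂ) = contrib p H b u (χ : G → ℂ) (ψ : G → ℂ) := by
  have hp : p.Prime := Fact.out
  rw [contrib_eq_sum H b u⁻¹ hM (Subgroup.inv_mem _ huc) ξ₀ hb ψ χ,
    contrib_eq_sum H b u hM huc ξ₀ hb χ ψ, Finset.sum_comm]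
  refine Finset.sum_congr rfl fun ξ _ => Finset.sum_congr rfl fun ξ' _ => ?_
  by_cases h : ξ ∈ b ∧ ξ' ∈ b
  · rw [if_pos h, if_pos h.symm, lamW_inv_swap, pin_symm_irr hp ξ' ξ]
    ring
  · rw [if_neg h, if_neg (fun h' => h h'.symm)]

end Swap

section Main

variable (H : Subgroup G) [Fintype H] [Fintype (IrrCharacter H)]
  (ξ₁ : IrrCharacter H) [DecidablePred (· ∈ blockOf M (ξ₁ : H → ℂ))]
  [Fintype (IrrCharacter G)]

/-- For `χ ∈ B` of positive height, `ω_χ(secElt^{(u)} χ)` lies in the local ideal. -/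
theorem omega_secElt_self_memLocalIdeal (hM : IsPModular p M) {B : Set (IrrCharacter G)}
    (hind : IsInducedBlock M H (blockOf M (ξ₁ : H → ℂ)) B)
    (hdef : blockDefect p (blockOf M (ξ₁ : H → ℂ)) = blockDefect p B) {u : H}
    (huc : u ∈ Subgroup.center H) {χ : IrrCharacter G}
    (hχ : χ ∈ B) (hpos : 1 ≤ blockHeight p B (χ : G → ℂ)) :
    MemLocalIdeal M (omega (χ : G → ℂ)
      (secElt H (blockOf M (ξ₁ : H → ℂ)) u p (χ : G → ℂ))) := by
  have hP := isPrime_of_isPModular hM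
  have hp : p.Prime := Fact.out
  obtain ⟨χ₁, hχ₁⟩ := hind.2.1
  subst hχ₁
  obtain ⟨ψ₀, hψ₀B, hψ₀0⟩ := Cfsg.Agent.Lib.L0.BlockHeight.exists_height_zero (p := p) (M := M) χ₁
  set b := blockOf M (ξ₁ : H → ℂ) with hb
  have huc' : u⁻¹ ∈ Subgroup.center H := Subgroup.inv_mem _ huc
  -- the two key identities
  have hkey1 := ordCompl_mul_pow_mul_contrib H hM b u χ₁ hψ₀B (χ : G → ℂ)
  rw [hψ₀0, pow_zero, one_mul] at hkey1
  have hkey2 := ordCompl_mul_pow_mul_contrib H hM b u⁻¹ χ₁ hχ (ψ₀ : G → ℂ)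
  rw [contrib_inv_swap H hM b huc ξ₁ hb χ ψ₀, hkey1] at hkey2
  -- the right hand side of `hkey2` lies in the ideal
  have hω2 : MemLocalRing M (omega (χ : G → ℂ) (secElt H b u⁻¹ p (ψ₀ : G → ℂ))) :=
    omega_memLocalRing χ (secElt_mem_center H _ _ _) (secElt_mem_intCoeff H _ _ huc' ψ₀)
  have hpow : MemLocalIdeal M ((p : ℂ) ^ blockHeight p (blockOf M (χ₁ : G → ℂ)) (χ : G → ℂ)) := by
    obtain ⟨t, ht⟩ := Nat.exists_eq_add_of_le hpos
    rw [ht, pow_add, pow_one]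
    exact memLocalIdeal_mul_right (memLocalIdeal_p hM)
      (memLocalRing_pow (natCast_mem_localRing p) t)
  have hR : MemLocalIdeal M
      (((charDegree (ψ₀ : G → ℂ) / p ^ (charDegree (ψ₀ : G → ℂ)).factorization p : ℕ) : ℂ) *
        omega (ψ₀ : G → ℂ) (secElt H b u p (χ : G → ℂ))) := by
    rw [hkey2, mul_assoc]
    exact memLocalIdeal_mul_right hpow (memLocalRing_mul (natCast_mem_localRing _) hω2)
  -- the unit `r_{ψ₀}`
  have hr : ¬ MemLocalIdeal M
      (((charDegree (ψ₀ : G → ℂ) / p ^ (charDegree (ψ₀ : G → ℂ)).factorization p : ℕ) : ℂ)) := by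
    rw [natCast_memLocalIdeal_iff hM]
    exact Nat.not_dvd_ordCompl hp (charDegree_pos _ ψ₀.2).ne'
  have hω1 : MemLocalIdeal M (omega (ψ₀ : G → ℂ) (secElt H b u p (χ : G → ℂ))) := by
    by_contra hcon
    exact not_memLocalIdeal_mul (natCast_mem_localRing _) hr hcon hR
  -- same block
  have hsame : SameBlock M (χ : G → ℂ) (ψ₀ : G → ℂ) :=
    sameBlock_trans (sameBlock_symm hχ) hψ₀B
  have h1 := omega_sub_memLocalIdeal hsame (secElt_mem_center H b u (χ : G → ℂ))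
    (secElt_mem_intCoeff (M := M) (p := p) H b u huc χ)
  have := memLocalIdeal_add h1 hω1
  rwa [sub_add_cancel] at this

/-- `|G|_{p'} p^d contrib^{(u)} χ χ = p^{h(χ)} w` with `w` in the local ideal, for `χ ∈ B` of positive
height. -/
theorem ordCompl_mul_pow_mul_contrib_self_eq (hM : IsPModular p M) {B : Set (IrrCharacter G)}
    (hind : IsInducedBlock M H (blockOf M (ξ₁ : H → ℂ)) B)
    (hdef : blockDefect p (blockOf M (ξ₁ : H → ℂ)) = blockDefect p B) {u : H}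
    (huc : u ∈ Subgroup.center H) {χ : IrrCharacter G}
    (hχ : χ ∈ B) (hpos : 1 ≤ blockHeight p B (χ : G → ℂ)) :
    ∃ w : ℂ, MemLocalIdeal M w ∧
      ((Nat.card G / p ^ (Nat.card G).factorization p : ℕ) : ℂ) *
        ((p : ℂ) ^ blockDefect p B *
          contrib p H (blockOf M (ξ₁ : H → ℂ)) u (χ : G → ℂ) (χ : G → ℂ)) =
      (p : ℂ) ^ blockHeight p B (χ : G → ℂ) * w := by
  have hP := isPrime_of_isPModular hM
  have hω := omega_secElt_self_memLocalIdeal H ξ₁ hM hind hdef huc hχ hpos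
  obtain ⟨χ₁, hχ₁⟩ := hind.2.1
  subst hχ₁
  have hkey := ordCompl_mul_pow_mul_contrib H hM (blockOf M (ξ₁ : H → ℂ)) u χ₁ hχ (χ : G → ℂ)
  refine ⟨((charDegree (χ : G → ℂ) / p ^ (charDegree (χ : G → ℂ)).factorization p : ℕ) : ℂ) *
    omega (χ : G → ℂ) (secElt H (blockOf M (ξ₁ : H → ℂ)) u p (χ : G → ℂ)), ?_, ?_⟩
  · exact memLocalIdeal_mul_left (natCast_mem_localRing _) hω
  · rw [hkey]
    ring

/-- A finite family of nonnegative reals whose product is at least `c > 1` has sum strictly larger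
than its cardinality (AM-GM). -/
theorem card_lt_sum_of_lt_prod {ι : Type*} [Fintype ι] [Nonempty ι] (z : ι → ℝ) (hz : ∀ i, 0 ≤ z i)
    {c : ℝ} (hc : 1 < c) (hprod : c ≤ ∏ i, z i) : (Fintype.card ι : ℝ) < ∑ i, z i := by
  have hn : 0 < Fintype.card ι := Fintype.card_pos
  have hnR : (0 : ℝ) < Fintype.card ι := by exact_mod_cast hn
  set t : ℝ := c ^ ((Fintype.card ι : ℝ))⁻¹ with ht
  have hc0 : (0 : ℝ) ≤ c := by linarith
  have ht1 : 1 < t := Real.one_lt_rpow hc (inv_pos.2 hnR)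
  have ht0 : 0 < t := by linarith
  have htpow : t ^ Fintype.card ι = c := Real.rpow_inv_natCast_pow hc0 hn.ne'
  have h1 : (Fintype.card ι : ℝ) ≤ ∑ i, z i / t := by
    apply card_le_sum_of_one_le_prod
    · intro i
      exact div_nonneg (hz i) ht0.le
    · rw [Finset.prod_div_distrib, Finset.prod_const, Finset.card_univ, htpow,
        le_div_iff₀ (by linarith), one_mul]
      exact hprod
  rw [← Finset.sum_div, le_div_iff₀ ht0] at h1
  have h2 : (Fintype.card ι : ℝ) < (Fintype.card ι : ℝ) * t := by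
    nlinarith
  linarith

/-- **The strict lower bound** for the sum over the Galois conjugates of the diagonal contribution
of a major subsection at a character of positive height. -/
theorem card_units_mul_pow_lt_sum_contrib_self (hM : IsPModular p M)
    {B : Set (IrrCharacter G)}
    (hind : IsInducedBlock M H (blockOf M (ξ₁ : H → ℂ)) B)
    (hdef : blockDefect p (blockOf M (ξ₁ : H → ℂ)) = blockDefect p B) (y : H)
    (hyc : y ∈ Subgroup.center H) (hy : ∃ k : ℕ, orderOf y = p ^ k)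
    (hC : ∀ g : G, g * (y : G) * g⁻¹ = (y : G) → g ∈ H) {χ : IrrCharacter G}
    (hχ : χ ∈ B) (hpos : 1 ≤ blockHeight p B (χ : G → ℂ)) (m : ℕ) [NeZero m]
    (hm : m = Nat.card G) :
    (Fintype.card (ZMod m)ˣ : ℝ) * (p : ℝ) ^ blockHeight p B (χ : G → ℂ) <
      ∑ k : (ZMod m)ˣ, (p : ℝ) ^ blockDefect p B * ∑ ψ : IrrCharacter G,
        ‖contrib p H (blockOf M (ξ₁ : H → ℂ)) (y ^ (k : ZMod m).val) (χ : G → ℂ) (ψ : G → ℂ)‖ ^ 2 := by
  classical
  have hPr := isPrime_of_isPModular hM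
  have hp : p.Prime := Fact.out
  have hp0 : (p : ℂ) ≠ 0 := Nat.cast_ne_zero.2 hp.ne_zero
  have hpR : (0 : ℝ) < p := by exact_mod_cast hp.pos
  set d := blockDefect p B with hd
  set h := blockHeight p B (χ : G → ℂ) with hh
  obtain ⟨χ₁, hχ₁⟩ := hind.2.1
  -- data for the powers of `y`
  have hord_dvd : orderOf y ∣ m := by
    rw [hm]
    exact (orderOf_dvd_natCard y).trans (Subgroup.card_subgroup_dvd_card H)
  have hdata : ∀ σ : Gal(CyclotomicField m ℚ/ℚ),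
      y ^ (cycPow m σ).val ∈ Subgroup.center H ∧
      (∃ k : ℕ, orderOf (y ^ (cycPow m σ).val) = p ^ k) ∧
      ∀ g : G, g * ((y ^ (cycPow m σ).val : H) : G) * g⁻¹ = ((y ^ (cycPow m σ).val : H) : G) →
        g ∈ H := by
    intro σ
    exact pow_central_data H hyc hy hp hC
      (Nat.Coprime.coprime_dvd_right hord_dvd (cycPow_val_coprime m σ))
  -- the real numbers `r σ`
  set r : Gal(CyclotomicField m ℚ/ℚ) → ℝ := fun σ => ∑ ψ : IrrCharacter G,
    ‖contrib p H (blockOf M (ξ₁ : H → ℂ)) (y ^ (cycPow m σ).val) (χ : G → ℂ) (ψ : G → ℂ)‖ ^ 2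
    with hr
  have hr0 : ∀ σ, 0 ≤ r σ := fun σ => Finset.sum_nonneg fun ψ _ => by positivity
  have hcr : ∀ σ, contrib p H (blockOf M (ξ₁ : H → ℂ)) (y ^ (cycPow m σ).val) (χ : G → ℂ)
      (χ : G → ℂ) = ((r σ : ℝ) : ℂ) := fun σ =>
    contrib_self_eq_sum H hM (hdata σ).1 (hdata σ).2.1 (hdata σ).2.2 ξ₁ χ
  obtain ⟨x, hx⟩ := exists_cyc_contrib (p := p) H (blockOf M (ξ₁ : H → ℂ)) y hyc χ χ
    ((p ^ d : ℕ) : ℚ) m hm
  have hcast : (((p ^ d : ℕ) : ℚ) : ℂ) = (p : ℂ) ^ d := by push_cast; rfl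
  simp only [hcast] at hx
  have hx' : ∀ σ, cycEmb m (σ x) = (((p : ℝ) ^ d * r σ : ℝ) : ℂ) := by
    intro σ
    rw [hx σ, hcr σ]
    push_cast
    rfl
  have hym : y ^ m = 1 := by
    rw [hm]
    obtain ⟨q, hq⟩ := Subgroup.card_subgroup_dvd_card H
    rw [hq, pow_mul, pow_card_eq_one', one_pow]
  have hk1 : (cycPow m (1 : Gal(CyclotomicField m ℚ/ℚ))) = 1 := by simp [cycPow]
  have h1 : cycEmb m x = (p : ℂ) ^ d *
      contrib p H (blockOf M (ξ₁ : H → ℂ)) y (χ : G → ℂ) (χ : G → ℂ) := by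
    have := hx 1
    rw [AlgEquiv.one_apply] at this
    rw [this, hk1, pow_val_one_eq m y hym]
  have hdb : blockDefect p (blockOf M (ξ₁ : H → ℂ)) = d := hdef
  have hint : IsIntegral ℤ (cycEmb m x) := by
    rw [h1, ← hdb]
    exact isIntegral_pow_mul_contrib H ξ₁ hM hyc χ χ
  -- non-vanishing
  obtain ⟨ψ₀, hψ₀B, hψ₀0⟩ := Cfsg.Agent.Lib.L0.BlockHeight.exists_height_zero (p := p) (M := M) χ₁
  rw [← hχ₁] at hψ₀B hψ₀0
  have hne : cycEmb m x ≠ 0 := by
    rw [h1]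
    refine mul_ne_zero (pow_ne_zero _ hp0) ?_
    have h2 := contrib_ne_zero_of_height_zero H ξ₁ hM hind hdef hyc hy hψ₀B hψ₀0 hχ
    have h3 := contrib_conj H (blockOf M (ξ₁ : H → ℂ)) y hM hyc ξ₁ rfl ψ₀ χ
    have h4 : contrib p H (blockOf M (ξ₁ : H → ℂ)) y (χ : G → ℂ) (ψ₀ : G → ℂ) ≠ 0 := by
      rw [← h3]
      exact (map_ne_zero _).2 h2
    have h5 := hcr 1
    rw [hk1, pow_val_one_eq m y hym] at h5
    rw [h5]
    have h6 : 0 < r 1 := by
      rw [hr]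
      simp only
      rw [hk1, pow_val_one_eq m y hym]
      refine lt_of_lt_of_le ?_ (Finset.single_le_sum (fun ψ _ => by positivity)
        (Finset.mem_univ ψ₀))
      have := norm_pos_iff.2 h4
      positivity
    exact_mod_cast h6.ne'
  obtain ⟨N, hN0, hN⟩ := exists_int_prod_galois m x hint hne
  set φ := Fintype.card Gal(CyclotomicField m ℚ/ℚ) with hφ
  have hφpos : 0 < φ := Fintype.card_pos
  -- divisibility of `N`
  set m' : ℕ := Nat.card G / p ^ (Nat.card G).factorization p with hm'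
  have hm'p : ¬ p ∣ m' := Nat.not_dvd_ordCompl hp Nat.card_pos.ne'
  have hfac : ∀ σ : Gal(CyclotomicField m ℚ/ℚ), ∃ w : ℂ, MemLocalIdeal M w ∧
      (m' : ℂ) * cycEmb m (σ x) = (p : ℂ) ^ h * w := by
    intro σ
    obtain ⟨w, hw, hweq⟩ := ordCompl_mul_pow_mul_contrib_self_eq H ξ₁ hM hind hdef (hdata σ).1
      hχ hpos
    exact ⟨w, hw, by rw [hx σ]; exact hweq⟩
  choose w hwI hw using hfac
  have hwR : ∀ σ, MemLocalRing M (w σ) := fun σ => memLocalRing_of_memLocalIdeal (hwI σ)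
  have hprod : ((m' ^ φ * N : ℤ) : ℂ) = (p : ℂ) ^ (h * φ) * ∏ σ : Gal(CyclotomicField m ℚ/ℚ), w σ := by
    have h2 : ∏ σ : Gal(CyclotomicField m ℚ/ℚ), ((m' : ℂ) * cycEmb m (σ x)) =
        ∏ σ : Gal(CyclotomicField m ℚ/ℚ), ((p : ℂ) ^ h * w σ) :=
      Finset.prod_congr rfl fun σ _ => hw σ
    rw [Finset.prod_mul_distrib, Finset.prod_mul_distrib, Finset.prod_const, Finset.prod_const,
      Finset.card_univ, hN, ← hφ, ← pow_mul] at h2
    push_cast
    exact h2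
  -- the product of the `w σ` lies in the ideal
  have hprodI : MemLocalIdeal M (∏ σ : Gal(CyclotomicField m ℚ/ℚ), w σ) := by
    rw [← Finset.mul_prod_erase Finset.univ w (Finset.mem_univ (1 : Gal(CyclotomicField m ℚ/ℚ)))]
    exact memLocalIdeal_mul_right (hwI 1) (memLocalRing_prod _ _ fun σ _ => hwR σ)
  have hdvd : (p : ℤ) ^ (h * φ) ∣ m' ^ φ * N := by
    apply pow_dvd_of_intCast_div_mem hM
    rw [hprod, mul_div_cancel_left₀ _ (pow_ne_zero _ hp0)]
    exact memLocalRing_prod _ _ fun σ _ => hwR σ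
  obtain ⟨c, hc⟩ := hdvd
  have hcI : MemLocalIdeal M ((c : ℤ) : ℂ) := by
    have h2 : ((c : ℤ) : ℂ) = ∏ σ : Gal(CyclotomicField m ℚ/ℚ), w σ := by
      have h3 : (p : ℂ) ^ (h * φ) * ((c : ℤ) : ℂ) =
          (p : ℂ) ^ (h * φ) * ∏ σ : Gal(CyclotomicField m ℚ/ℚ), w σ := by
        rw [← hprod, hc]
        push_cast
        ring
      exact mul_left_cancel₀ (pow_ne_zero _ hp0) h3
    rw [h2]
    exact hprodI
  have hpc : (p : ℤ) ∣ c := (intCast_memLocalIdeal_iff hM c).1 hcI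
  have hdvd' : (p : ℤ) ^ (h * φ + 1) ∣ m' ^ φ * N := by
    rw [hc, pow_succ]
    exact mul_dvd_mul_left _ hpc
  have hdvdN : p ^ (h * φ + 1) ∣ N.natAbs := by
    have h2 : p ^ (h * φ + 1) ∣ (m' ^ φ * N).natAbs := by
      have := Int.natAbs_dvd_natAbs.2 hdvd'
      simpa [Int.natAbs_pow] using this
    rw [Int.natAbs_mul, Int.natAbs_pow, Int.natAbs_natCast] at h2
    refine (Nat.Coprime.dvd_of_dvd_mul_left ?_ h2)
    exact Nat.Coprime.pow _ _ ((Nat.Prime.coprime_iff_not_dvd hp).2 hm'p)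
  have hNle : p ^ (h * φ + 1) ≤ N.natAbs :=
    Nat.le_of_dvd (Int.natAbs_pos.2 hN0) hdvdN
  -- the real product
  have hprodR : ∏ σ : Gal(CyclotomicField m ℚ/ℚ), ((p : ℝ) ^ d * r σ) = (N : ℝ) := by
    have h2 : ((∏ σ : Gal(CyclotomicField m ℚ/ℚ), ((p : ℝ) ^ d * r σ) : ℝ) : ℂ) = ((N : ℝ) : ℂ) := by
      push_cast
      rw [← hN]
      refine Finset.prod_congr rfl fun σ _ => ?_
      rw [hx' σ]
      push_cast
      rfl
    exact_mod_cast h2
  have hNnonneg : (0 : ℝ) ≤ N := by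
    rw [← hprodR]
    exact Finset.prod_nonneg fun σ _ => mul_nonneg (pow_nonneg hpR.le _) (hr0 σ)
  have hNge : (p : ℝ) ^ (h * φ + 1) ≤ (N : ℝ) := by
    have h2 : (N : ℝ) = (N.natAbs : ℝ) := by
      have h3 : 0 ≤ N := by exact_mod_cast hNnonneg
      have h4 : (N.natAbs : ℤ) = N := Int.natAbs_of_nonneg h3
      calc (N : ℝ) = ((N.natAbs : ℤ) : ℝ) := by rw [h4]
        _ = (N.natAbs : ℝ) := Int.cast_natCast _
    rw [h2]
    exact_mod_cast hNle
  -- AM-GM, strict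
  have : Nonempty Gal(CyclotomicField m ℚ/ℚ) := ⟨1⟩
  have hp1 : (1 : ℝ) < p := by exact_mod_cast hp.one_lt
  have hamgm : (φ : ℝ) < ∑ σ : Gal(CyclotomicField m ℚ/ℚ), ((p : ℝ) ^ d * r σ) / (p : ℝ) ^ h := by
    apply card_lt_sum_of_lt_prod _ _ hp1
    · rw [Finset.prod_div_distrib, hprodR, Finset.prod_const, Finset.card_univ, ← hφ, ← pow_mul,
        le_div_iff₀ (pow_pos hpR _), ← pow_succ']
      exact hNge
    · intro σ
      exact div_nonneg (mul_nonneg (pow_nonneg hpR.le _) (hr0 σ)) (pow_nonneg hpR.le _)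
  have hsum : ∑ k : (ZMod m)ˣ, (p : ℝ) ^ d * ∑ ψ : IrrCharacter G,
      ‖contrib p H (blockOf M (ξ₁ : H → ℂ)) (y ^ (k : ZMod m).val) (χ : G → ℂ) (ψ : G → ℂ)‖ ^ 2 =
      ∑ σ : Gal(CyclotomicField m ℚ/ℚ), (p : ℝ) ^ d * r σ := by
    symm
    refine Fintype.sum_equiv (cycGalEquiv m).toEquiv _ _ fun σ => ?_
    rfl
  have hcard : Fintype.card (ZMod m)ˣ = φ :=
    (Fintype.card_congr (cycGalEquiv m).toEquiv).symm
  rw [hsum, hcard]
  rw [← Finset.sum_div, lt_div_iff₀ (pow_pos hpR _)] at hamgm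
  exact hamgm

end Main

end Cfsg.Agent.Lib.H13.KZ
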