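/-
helper13: LS-SE (helper15 S2335 farm-out; mathematics = lead, tools/blueprints/S2335.md section 0).
The subgroups `t(Herm)` and `l(SL_m)` of `Cfsg.SU (m + m) F q`: in a hyperbolic basis `t X = [[1, eps X], [0, 1]]`,
`l g = [[g, 0], [0, (g^*)^-1]]`, transported to the standard form by a base change `P` with `P^T sigma(P) = J`.
-/
import Cfsg.Agent.Lib.H15.LSDefs
import Cfsg.Prelude.Def_Classical
import Cfsg.Agent.Lib.H11.UnitaryGen3
import Cfsg.Agent.S0782
import Cfsg.Agent.S0837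

set_option autoImplicit false

namespace Cfsg.Agent.Lib.H13.LS

open Matrix Cfsg.Agent.Lib.H15.LS

variable {F : Type*} [Field F]

section general

variable {ι : Type*} [Fintype ι] [DecidableEq ι] (σ : F →+* F)

/-- conjugating a `J`-unitary matrix by a base change `P` with `Pᵀ σ(P) = J` gives a unitary matrix -/
theorem transport_unitary (P Q J M : Matrix ι ι F)
    (hPQ : P * Q = 1) (hP : Pᵀ * P.map σ = J) (hM : Mᵀ * J * M.map σ = J) :
    (P * M * Q)ᵀ * (P * M * Q).map σ = 1 := by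
  have h1 : (P * M * Q)ᵀ = Qᵀ * Mᵀ * Pᵀ := by
    rw [Matrix.transpose_mul, Matrix.transpose_mul, Matrix.mul_assoc]
  have h2 : (P * M * Q).map σ = P.map σ * M.map σ * Q.map σ := by
    rw [Matrix.map_mul, Matrix.map_mul]
  have h3 : Qᵀ * Pᵀ = 1 := by
    rw [← Matrix.transpose_mul, hPQ, Matrix.transpose_one]
  have h4 : P.map σ * Q.map σ = 1 := by
    rw [← Matrix.map_mul, hPQ, Matrix.map_one σ (map_zero σ) (map_one σ)]
  calc (P * M * Q)ᵀ * (P * M * Q).map σ
      = Qᵀ * (Mᵀ * (Pᵀ * P.map σ) * M.map σ) * Q.map σ := by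
        rw [h1, h2]; simp only [Matrix.mul_assoc]
    _ = Qᵀ * J * Q.map σ := by rw [hP, hM]
    _ = (Qᵀ * Pᵀ) * (P.map σ * Q.map σ) := by rw [← hP]; simp only [Matrix.mul_assoc]
    _ = 1 := by rw [h3, h4, Matrix.mul_one]

end general

section herm

variable {n q : ℕ} (σ : F →+* F)

theorem preserves_of_unitary (hσ : ∀ x, σ x = x ^ q) (A : Matrix (Fin n) (Fin n) F)
    (hA : Aᵀ * A.map σ = 1) (u v : Fin n → F) :
    Cfsg.hermForm n F q (A *ᵥ u) (A *ᵥ v) = Cfsg.hermForm n F q u v := by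
  have key : ∀ x y : Fin n → F, Cfsg.hermForm n F q x y = x ⬝ᵥ (σ ∘ y) := by
    intro x y
    simp only [Cfsg.hermForm, dotProduct, Function.comp_apply, hσ]
  rw [key, key]
  have h1 : σ ∘ (A *ᵥ v) = A.map σ *ᵥ (σ ∘ v) := by
    ext i
    exact (RingHom.map_mulVec σ A v i)
  rw [h1]
  have h2 : (A *ᵥ u) ⬝ᵥ (A.map σ *ᵥ (σ ∘ v)) = u ⬝ᵥ ((Aᵀ * A.map σ) *ᵥ (σ ∘ v)) := by
    rw [← Matrix.mulVec_mulVec, dotProduct_comm, Matrix.dotProduct_mulVec, ← Matrix.mulVec_transpose,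
      dotProduct_comm]
  rw [h2, hA, Matrix.one_mulVec]

end herm

section blocks

variable {m : ℕ} (σ : F →+* F)

/-- Gram matrix of the hyperbolic form -/
def hypJ (F : Type*) [Field F] (m : ℕ) : Matrix (Fin m ⊕ Fin m) (Fin m ⊕ Fin m) F := fromBlocks 0 1 1 0

/-- `t(X) = [[1, ε X], [0, 1]]` -/
def Tm (ε : F) (X : Matrix (Fin m) (Fin m) F) : Matrix (Fin m ⊕ Fin m) (Fin m ⊕ Fin m) F :=
  fromBlocks 1 (ε • X) 0 1

/-- `l(g) = [[g, 0], [0, (g^*)⁻¹]]` -/
def Lm (g : Matrix.SpecialLinearGroup (Fin m) F) : Matrix (Fin m ⊕ Fin m) (Fin m ⊕ Fin m) F :=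
  fromBlocks g.1 0 0 ((g⁻¹).1.map σ)ᵀ

theorem hypJ_mul_self : hypJ F m * hypJ F m = 1 := by
  simp [hypJ, fromBlocks_multiply]

theorem hypJ_map : (hypJ F m).map σ = hypJ F m := by
  simp [hypJ, fromBlocks_map]

theorem hypJ_transpose : (hypJ F m)ᵀ = hypJ F m := by
  simp [hypJ, fromBlocks_transpose]

theorem Tm_add (ε : F) (X X' : Matrix (Fin m) (Fin m) F) : Tm ε (X + X') = Tm ε X * Tm ε X' := by
  simp [Tm, fromBlocks_multiply, smul_add, add_comm]

theorem Tm_det (ε : F) (X : Matrix (Fin m) (Fin m) F) : (Tm ε X).det = 1 := by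
  simp [Tm, det_fromBlocks_zero₂₁]

theorem Tm_injective (ε : F) (hε : ε ≠ 0) : Function.Injective (Tm (m := m) ε) := by
  intro X X' h
  have h2 : ε • X = ε • X' := by
    have := congrArg Matrix.toBlocks₁₂ h
    simpa [Tm] using this
  ext i j
  have := congrFun (congrFun h2 i) j
  simpa [hε] using this

theorem Tm_unitary (ε : F) (hε : σ ε = -ε) (X : Matrix (Fin m) (Fin m) F) (hX : (X.map σ)ᵀ = X) :
    (Tm ε X)ᵀ * hypJ F m * (Tm ε X).map σ = hypJ F m := by
  have hX' : X.map σ = Xᵀ := by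
    have := congrArg Matrix.transpose hX
    rwa [transpose_transpose] at this
  have h1 : (ε • X).map σ = -(ε • Xᵀ) := by
    ext i j
    have := congrFun (congrFun hX' i) j
    simp only [Matrix.map_apply, Matrix.transpose_apply] at this
    simp only [Matrix.map_apply, Matrix.smul_apply, smul_eq_mul, map_mul, hε, Matrix.neg_apply,
      Matrix.transpose_apply, this]
    ring
  simp only [Tm, hypJ, fromBlocks_transpose, fromBlocks_map, fromBlocks_multiply, h1,
    Matrix.map_one σ (map_zero σ) (map_one σ), Matrix.map_zero σ (map_zero σ), transpose_one, transpose_zero,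
    transpose_smul]
  simp

theorem Lm_one : Lm σ (1 : Matrix.SpecialLinearGroup (Fin m) F) = 1 := by
  simp [Lm, Matrix.map_one σ (map_zero σ) (map_one σ)]

theorem Lm_mul (g h : Matrix.SpecialLinearGroup (Fin m) F) : Lm σ (g * h) = Lm σ g * Lm σ h := by
  simp only [Lm, fromBlocks_multiply, _root_.mul_inv_rev, Matrix.SpecialLinearGroup.coe_mul, Matrix.map_mul,
    transpose_mul, Matrix.mul_zero, Matrix.zero_mul, add_zero, zero_add]

theorem Lm_det (g : Matrix.SpecialLinearGroup (Fin m) F) : (Lm σ g).det = 1 := by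
  simp only [Lm, det_fromBlocks_zero₂₁, det_transpose]
  have h := RingHom.map_det σ (g⁻¹).1
  rw [RingHom.mapMatrix_apply] at h
  rw [← h, g.2, (g⁻¹).2, map_one, mul_one]

theorem coe_inv_mul (g : Matrix.SpecialLinearGroup (Fin m) F) : (g⁻¹).1 * g.1 = 1 := by
  rw [← Matrix.SpecialLinearGroup.coe_mul, inv_mul_cancel, Matrix.SpecialLinearGroup.coe_one]

theorem coe_mul_inv (g : Matrix.SpecialLinearGroup (Fin m) F) : g.1 * (g⁻¹).1 = 1 := by
  rw [← Matrix.SpecialLinearGroup.coe_mul, mul_inv_cancel, Matrix.SpecialLinearGroup.coe_one]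

theorem Lm_unitary (hσ2 : ∀ x, σ (σ x) = x) (g : Matrix.SpecialLinearGroup (Fin m) F) :
    (Lm σ g)ᵀ * hypJ F m * (Lm σ g).map σ = hypJ F m := by
  have hmm : ∀ A : Matrix (Fin m) (Fin m) F, (A.map σ).map σ = A := by
    intro A; ext i j; simp [hσ2]
  have h1 : g.1ᵀ * (((g⁻¹).1.map σ)ᵀ).map σ = 1 := by
    rw [← transpose_map, hmm, ← transpose_mul, coe_inv_mul, transpose_one]
  have h2 : (((g⁻¹).1.map σ)ᵀ)ᵀ * g.1.map σ = 1 := by
    rw [transpose_transpose, ← Matrix.map_mul, coe_inv_mul, Matrix.map_one σ (map_zero σ) (map_one σ)]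
  simp only [Lm, hypJ, fromBlocks_transpose, fromBlocks_map, fromBlocks_multiply,
    Matrix.map_zero σ (map_zero σ), transpose_zero, Matrix.mul_zero, Matrix.zero_mul, add_zero, zero_add,
    Matrix.mul_one, Matrix.one_mul, h1, h2]

theorem Lm_Tm (ε : F) (g : Matrix.SpecialLinearGroup (Fin m) F) (X : Matrix (Fin m) (Fin m) F) :
    Lm σ g * Tm ε X = Tm ε (hAct σ g.1 X) * Lm σ g := by
  have h1 : (g.1.map σ)ᵀ * ((g⁻¹).1.map σ)ᵀ = 1 := by
    rw [← transpose_mul, ← Matrix.map_mul, coe_inv_mul, Matrix.map_one σ (map_zero σ) (map_one σ),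
      transpose_one]
  simp only [Lm, Tm, fromBlocks_multiply, hAct]
  congr 1
  · simp
  · simp only [Matrix.mul_zero, Matrix.zero_mul, zero_add, Matrix.one_mul, add_zero, Matrix.mul_smul,
      Matrix.smul_mul, Matrix.mul_assoc, h1, Matrix.mul_one]
  · simp
  · simp

end blocks

section pm

variable {m : ℕ} (σ : F →+* F)

/-- the base change matrix built from a `2 × 2` matrix -/
def Pm (m : ℕ) (a b c d : F) : Matrix (Fin m ⊕ Fin m) (Fin m ⊕ Fin m) F :=
  fromBlocks (a • 1) (b • 1) (c • 1) (d • 1)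

theorem Pm_gram (a b c d : F) (h11 : a * σ a + c * σ c = 0) (h12 : a * σ b + c * σ d = 1)
    (h21 : b * σ a + d * σ c = 1) (h22 : b * σ b + d * σ d = 0) :
    (Pm m a b c d)ᵀ * (Pm m a b c d).map σ = hypJ F m := by
  have hs : ∀ x : F, (x • (1 : Matrix (Fin m) (Fin m) F)).map σ = σ x • 1 := by
    intro x
    ext i j
    by_cases hij : i = j
    · subst hij; simp
    · simp [hij]
  simp only [Pm, hypJ, fromBlocks_transpose, fromBlocks_map, fromBlocks_multiply, hs, transpose_smul,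
    transpose_one, Matrix.smul_mul, Matrix.mul_smul, Matrix.one_mul, smul_smul, ← add_smul]
  rw [mul_comm (σ a) a, mul_comm (σ c) c, mul_comm (σ b) a, mul_comm (σ d) c, mul_comm (σ a) b,
    mul_comm (σ c) d, mul_comm (σ b) b, mul_comm (σ d) d, h11, h12, h21, h22]
  simp

end pm

section exist

variable [Fintype F] {q : ℕ}

/-- the scalars needed: `ε ≠ 0` with `σ ε = -ε`, and a hyperbolic pair `(a, c), (b, d)` of the standard
two-dimensional unitary space -/
theorem exists_scalars (hF : Fintype.card F = q ^ 2) (σ : F →+* F) (hσ : ∀ x, σ x = x ^ q)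
    (hσ2 : ∀ x, σ (σ x) = x) :
    ∃ ε a b c d : F, ε ≠ 0 ∧ σ ε = -ε ∧ a * σ a + c * σ c = 0 ∧ a * σ b + c * σ d = 1 ∧
      b * σ a + d * σ c = 1 ∧ b * σ b + d * σ d = 0 := by
  have hne : σ ≠ RingHom.id F := Cfsg.Agent.S0837.phi_ne_id σ hF hσ
  have hx : ∃ x : F, σ x ≠ x := by
    by_contra hcon
    push Not at hcon
    exact hne (RingHom.ext hcon)
  obtain ⟨x, hx⟩ := hx
  have hm1 : σ (-1 : F) = -1 := by simp
  obtain ⟨μ, hμ⟩ := Cfsg.Agent.Lib.H11.UGen.exists_norm σ hF hσ (-1 : F) (by simp) hm1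
  obtain ⟨α, hα⟩ := Cfsg.Agent.S0782.exists_trace hne hσ2 (1 : F) (map_one σ)
  refine ⟨x - σ x, 1, 1 + α, μ, α * μ, sub_ne_zero.2 (Ne.symm hx), ?_, ?_, ?_, ?_, ?_⟩
  · rw [map_sub, hσ2]; ring
  · rw [map_one]; linear_combination hμ
  · rw [map_add, map_one, map_mul]; linear_combination (σ α) * hμ
  · rw [map_one]; linear_combination α * hμ
  · rw [map_add, map_one, map_mul]
    linear_combination hα + (α * σ α) * hμ

end exist


section main

variable {m : ℕ}

/-- transport of a matrix of the hyperbolic model to `Fin (m + m)`-indexed matrices: conjugate by `P`, reindex -/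
def theta (P Q M : Matrix (Fin m ⊕ Fin m) (Fin m ⊕ Fin m) F) : Matrix (Fin (m + m)) (Fin (m + m)) F :=
  (P * M * Q).submatrix (finSumFinEquiv (m := m) (n := m)).symm (finSumFinEquiv (m := m) (n := m)).symm

theorem theta_mul (P Q : Matrix (Fin m ⊕ Fin m) (Fin m ⊕ Fin m) F) (hQP : Q * P = 1)
    (M N : Matrix (Fin m ⊕ Fin m) (Fin m ⊕ Fin m) F) :
    theta P Q (M * N) = theta P Q M * theta P Q N := by
  unfold theta
  rw [Matrix.submatrix_mul_equiv]
  congr 1
  calc P * (M * N) * Q = P * M * (1 * N) * Q := by rw [Matrix.one_mul, Matrix.mul_assoc P M N]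
    _ = P * M * Q * (P * N * Q) := by rw [← hQP]; simp only [Matrix.mul_assoc]

theorem theta_one (P Q : Matrix (Fin m ⊕ Fin m) (Fin m ⊕ Fin m) F) (hPQ : P * Q = 1) :
    theta P Q 1 = 1 := by
  unfold theta
  rw [Matrix.mul_one, hPQ, Matrix.submatrix_one_equiv]

theorem theta_det (P Q : Matrix (Fin m ⊕ Fin m) (Fin m ⊕ Fin m) F) (hPQ : P * Q = 1)
    (M : Matrix (Fin m ⊕ Fin m) (Fin m ⊕ Fin m) F) : (theta P Q M).det = M.det := by
  unfold theta
  rw [Matrix.det_submatrix_equiv_self, Matrix.det_mul, Matrix.det_mul, mul_comm (P.det) M.det, mul_assoc,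
    ← Matrix.det_mul, hPQ, Matrix.det_one, mul_one]

theorem theta_unitary (σ : F →+* F) (P Q J : Matrix (Fin m ⊕ Fin m) (Fin m ⊕ Fin m) F) (hPQ : P * Q = 1)
    (hP : Pᵀ * P.map σ = J) (M : Matrix (Fin m ⊕ Fin m) (Fin m ⊕ Fin m) F)
    (hM : Mᵀ * J * M.map σ = J) : (theta P Q M)ᵀ * (theta P Q M).map σ = 1 := by
  unfold theta
  rw [Matrix.transpose_submatrix, ← Matrix.submatrix_map, Matrix.submatrix_mul_equiv,
    transport_unitary σ P Q J M hPQ hP hM, Matrix.submatrix_one_equiv]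

theorem theta_injective (P Q : Matrix (Fin m ⊕ Fin m) (Fin m ⊕ Fin m) F) (hPQ : P * Q = 1)
    (hQP : Q * P = 1) : Function.Injective (theta P Q) := by
  intro M N h
  unfold theta at h
  have h2 : P * M * Q = P * N * Q := by
    ext i j
    have := congrFun (congrFun h (finSumFinEquiv i)) (finSumFinEquiv j)
    simpa using this
  calc M = Q * (P * M * Q) * P := by
        rw [Matrix.mul_assoc P M Q, ← Matrix.mul_assoc Q P, hQP, Matrix.one_mul, Matrix.mul_assoc, hQP,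
          Matrix.mul_one]
    _ = Q * (P * N * Q) * P := by rw [h2]
    _ = N := by
        rw [Matrix.mul_assoc P N Q, ← Matrix.mul_assoc Q P, hQP, Matrix.one_mul, Matrix.mul_assoc, hQP,
          Matrix.mul_one]

variable {q n : ℕ}

/-- a unitary matrix of determinant one, as an element of `Cfsg.SU n F q` -/
def mkSU (σ : F →+* F) (hσ : ∀ x, σ x = x ^ q) (A : Matrix (Fin n) (Fin n) F) (hdet : A.det = 1)
    (hA : Aᵀ * A.map σ = 1) : Cfsg.SU n F q :=
  ⟨⟨A, hdet⟩, fun u v => preserves_of_unitary σ hσ A hA u v⟩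

theorem mkSU_coe (σ : F →+* F) (hσ : ∀ x, σ x = x ^ q) (A : Matrix (Fin n) (Fin n) F) (hdet : A.det = 1)
    (hA : Aᵀ * A.map σ = 1) : ((mkSU σ hσ A hdet hA : Cfsg.SU n F q).1).1 = A := rfl

theorem SU_ext (x y : Cfsg.SU n F q) (h : x.1.1 = y.1.1) : x = y :=
  Subtype.ext (Subtype.ext h)

/-- **LS-SE** (n = m + m): the subgroups `t(Herm)` and `l(SL_m)` of `Cfsg.SU (m + m) F q`. -/
theorem exists_even_structure [Fintype F] (hF : Fintype.card F = q ^ 2) (σ : F →+* F) (hσ : ∀ x, σ x = x ^ q)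
    (hσ2 : ∀ x, σ (σ x) = x) (m : ℕ) (hm : 1 ≤ m) :
    ∃ (t : Herm σ m → Cfsg.SU (m + m) F q)
      (l : Matrix.SpecialLinearGroup (Fin m) F →* Cfsg.SU (m + m) F q),
      (∀ X X', t (X + X') = t X * t X') ∧ Function.Injective t ∧
      (∀ (g : Matrix.SpecialLinearGroup (Fin m) F) (X Y : Herm σ m),
        (Y : Matrix (Fin m) (Fin m) F) = hAct σ g.1 X.1 → l g * t X * (l g)⁻¹ = t Y) := by
  obtain ⟨ε, a, b, c, d, hε0, hε, h11, h12, h21, h22⟩ := exists_scalars hF σ hσ hσ2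
  set P : Matrix (Fin m ⊕ Fin m) (Fin m ⊕ Fin m) F := Pm m a b c d with hPdef
  have hP : Pᵀ * P.map σ = hypJ F m := Pm_gram σ a b c d h11 h12 h21 h22
  set Q : Matrix (Fin m ⊕ Fin m) (Fin m ⊕ Fin m) F := hypJ F m * (P.map σ)ᵀ with hQdef
  have hmm : ∀ A : Matrix (Fin m ⊕ Fin m) (Fin m ⊕ Fin m) F, (A.map σ).map σ = A := by
    intro A; ext i j; simp [hσ2]
  have hQP : Q * P = 1 := by
    have h1 : (P.map σ)ᵀ * P = hypJ F m := by
      have := congrArg (fun A => A.map σ) hP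
      simp only [Matrix.map_mul, hmm, hypJ_map] at this
      rw [← this, transpose_map]
    rw [hQdef, Matrix.mul_assoc, h1, hypJ_mul_self]
  have hPQ : P * Q = 1 := mul_eq_one_comm.1 hQP
  -- the two maps
  let t : Herm σ m → Cfsg.SU (m + m) F q := fun X =>
    mkSU σ hσ (theta P Q (Tm ε X.1)) (by rw [theta_det P Q hPQ, Tm_det])
      (theta_unitary σ P Q (hypJ F m) hPQ hP _ (Tm_unitary σ ε hε X.1 X.2))
  let l : Matrix.SpecialLinearGroup (Fin m) F →* Cfsg.SU (m + m) F q :=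
    { toFun := fun g => mkSU σ hσ (theta P Q (Lm σ g)) (by rw [theta_det P Q hPQ, Lm_det])
        (theta_unitary σ P Q (hypJ F m) hPQ hP _ (Lm_unitary σ hσ2 g))
      map_one' := by
        apply SU_ext
        show theta P Q (Lm σ 1) = 1
        rw [Lm_one, theta_one P Q hPQ]
      map_mul' := by
        intro g h
        apply SU_ext
        show theta P Q (Lm σ (g * h)) = theta P Q (Lm σ g) * theta P Q (Lm σ h)
        rw [Lm_mul, theta_mul P Q hQP] }
  refine ⟨t, l, ?_, ?_, ?_⟩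
  · intro X X'
    apply SU_ext
    show theta P Q (Tm ε (X + X' : Herm σ m).1) = theta P Q (Tm ε X.1) * theta P Q (Tm ε X'.1)
    rw [← theta_mul P Q hQP, ← Tm_add]
    rfl
  · intro X X' h
    have h1 : theta P Q (Tm ε X.1) = theta P Q (Tm ε X'.1) := congrArg (fun z => z.1.1) h
    exact Subtype.ext (Tm_injective ε hε0 (theta_injective P Q hPQ hQP h1))
  · intro g X Y hY
    rw [mul_inv_eq_iff_eq_mul]
    apply SU_ext
    show theta P Q (Lm σ g) * theta P Q (Tm ε X.1) = theta P Q (Tm ε Y.1) * theta P Q (Lm σ g)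
    rw [← theta_mul P Q hQP, ← theta_mul P Q hQP, Lm_Tm, hY]

end main

end Cfsg.Agent.Lib.H13.LS
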