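/-
S0420 piece ABS (helper13): the purely combinatorial core `abs_graph` of helper1's blueprint
(`tools/blueprints/S0420_sigs.lean`): a 55-point graph, regular of degree 18, with constant `μ`, whose
neighbourhood of a point `P` is `D1 ⊔ D2` with a matching `m : D1 → D2` and homogeneous adjacency bits
`a` (inside `D1`, `D2`) and `b` (unmatched cross pairs), must have `a = 1`, `b = 0`.
-/
import Mathlib

set_option autoImplicit false

namespace Cfsg.Agent.Lib.H13.M11

section
variable {Ω : Type*} [Fintype Ω] [DecidableEq Ω] (adj : Ω → Ω → Prop) [DecidableRel adj]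

omit [Fintype Ω] [DecidableEq Ω] in
/-- double counting of the edges between two sets of vertices -/
theorem abs_double_count (hsymm : ∀ x y, adj x y → adj y x) (S T : Finset Ω) :
    ∑ x ∈ S, (T.filter (fun w => adj x w)).card = ∑ w ∈ T, (S.filter (fun x => adj w x)).card := by
  have h := Finset.sum_card_bipartiteAbove_eq_sum_card_bipartiteBelow (s := S) (t := T) adj
  simp only [Finset.bipartiteAbove, Finset.bipartiteBelow] at h
  rw [h]
  refine Finset.sum_congr rfl (fun w _ => ?_)
  congr 1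
  apply Finset.filter_congr
  intro x _
  exact ⟨hsymm x w, hsymm w x⟩

/-- splitting a count over a set and its complement -/
theorem abs_card_split (K : Finset Ω) (q : Ω → Prop) [DecidablePred q] :
    (Finset.univ.filter q).card = (K.filter q).card + ((Finset.univ \ K).filter q).card := by
  have h := Finset.card_filter_add_card_filter_not (s := Finset.univ.filter q) (fun x => x ∈ K)
  rw [← h]
  congr 1
  · congr 1
    ext x
    simp [and_comm]
  · congr 1
    ext x
    simp [and_comm]

/-- `μ = 0` is impossible: three pairwise disjoint closed neighbourhoods of size 19 in 55 points -/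
theorem abs_mu_ne_zero (hsymm : ∀ x y, adj x y → adj y x) (hirr : ∀ x, ¬ adj x x)
    (hcard : Fintype.card Ω = 55)
    (hdeg : ∀ x, (Finset.univ.filter (fun y => adj x y)).card = 18)
    (hμ : ∀ x y, x ≠ y → ¬ adj x y →
      (Finset.univ.filter (fun w => adj x w ∧ adj y w)).card = 0) (P : Ω) : False := by
  classical
  set cl : Ω → Finset Ω := fun x => insert x (Finset.univ.filter (fun y => adj x y)) with hcl
  have hclcard : ∀ x, (cl x).card = 19 := by
    intro x
    rw [hcl]
    simp only
    rw [Finset.card_insert_of_notMem, hdeg]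
    simp [hirr]
  have hmem : ∀ x z, z ∈ cl x ↔ z = x ∨ adj x z := by
    intro x z
    simp [hcl]
  have hdisj : ∀ x y, y ∉ cl x → Disjoint (cl x) (cl y) := by
    intro x y hy
    rw [hmem] at hy
    push Not at hy
    obtain ⟨hyx, hadj⟩ := hy
    rw [Finset.disjoint_left]
    intro z hzx hzy
    rw [hmem] at hzx hzy
    rcases hzx with rfl | hzx
    · rcases hzy with rfl | hzy
      · exact hyx rfl
      · exact hadj (hsymm _ _ hzy)
    · rcases hzy with rfl | hzy
      · exact hadj hzx
      · have h0 := hμ x y (fun h => hyx h.symm) hadj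
        rw [Finset.card_eq_zero] at h0
        have : z ∈ Finset.univ.filter (fun w => adj x w ∧ adj y w) := by simp [hzx, hzy]
        rw [h0] at this
        simp at this
  -- second point
  obtain ⟨x₂, hx₂⟩ : ∃ x₂, x₂ ∉ cl P := by
    by_contra hcon
    push Not at hcon
    have : cl P = Finset.univ := Finset.eq_univ_iff_forall.2 hcon
    have h1 := hclcard P
    rw [this, Finset.card_univ, hcard] at h1
    omega
  obtain ⟨x₃, hx₃⟩ : ∃ x₃, x₃ ∉ cl P ∪ cl x₂ := by
    by_contra hcon
    push Not at hcon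
    have : cl P ∪ cl x₂ = Finset.univ := Finset.eq_univ_iff_forall.2 hcon
    have h1 := Finset.card_union_le (cl P) (cl x₂)
    rw [this, Finset.card_univ, hcard, hclcard, hclcard] at h1
    omega
  rw [Finset.mem_union] at hx₃
  push Not at hx₃
  have d12 := hdisj P x₂ hx₂
  have d13 := hdisj P x₃ hx₃.1
  have d23 := hdisj x₂ x₃ hx₃.2
  have hc : ((cl P ∪ cl x₂) ∪ cl x₃).card = 57 := by
    rw [Finset.card_union_of_disjoint, Finset.card_union_of_disjoint d12, hclcard, hclcard, hclcard]
    rw [Finset.disjoint_union_left]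
    exact ⟨d13, d23⟩
  have := Finset.card_le_univ ((cl P ∪ cl x₂) ∪ cl x₃)
  rw [hc, hcard] at this
  omega

/-- splitting a count over `{P} ⊔ D1 ⊔ D2 ⊔ rest` -/
theorem abs_card_split4 (P : Ω) (D1 D2 : Finset Ω) (hP1 : P ∉ D1) (hP2 : P ∉ D2)
    (hdisj : Disjoint D1 D2) (q : Ω → Prop) [DecidablePred q] :
    (Finset.univ.filter q).card = (if q P then 1 else 0) + (D1.filter q).card + (D2.filter q).card
      + ((Finset.univ \ insert P (D1 ∪ D2)).filter q).card := by
  rw [abs_card_split (insert P (D1 ∪ D2)) q]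
  congr 1
  have hPn : P ∉ (D1 ∪ D2).filter q := by
    intro h
    rw [Finset.mem_filter, Finset.mem_union] at h
    rcases h.1 with h | h
    · exact hP1 h
    · exact hP2 h
  have hu : ((D1 ∪ D2).filter q).card = (D1.filter q).card + (D2.filter q).card := by
    rw [Finset.filter_union, Finset.card_union_of_disjoint (Finset.disjoint_filter_filter hdisj)]
  rw [Finset.filter_insert]
  split_ifs with hq
  · rw [Finset.card_insert_of_notMem hPn, hu]
    omega
  · rw [hu]
    omega

end

/-- **ABS** (helper1's blueprint `abs_graph`). -/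
theorem abs_graph {Ω : Type*} [Fintype Ω] [DecidableEq Ω] (adj : Ω → Ω → Prop) [DecidableRel adj]
    (hsymm : ∀ x y, adj x y → adj y x) (hirr : ∀ x, ¬ adj x x)
    (hcard : Fintype.card Ω = 55)
    (hdeg : ∀ x, (Finset.univ.filter (fun y => adj x y)).card = 18)
    (μ : ℕ) (hμ : ∀ x y, x ≠ y → ¬ adj x y →
      (Finset.univ.filter (fun w => adj x w ∧ adj y w)).card = μ)
    (P : Ω) (D1 D2 : Finset Ω) (hD1 : D1.card = 9) (hD2 : D2.card = 9) (hdisj : Disjoint D1 D2)
    (hΔ : ∀ x, adj P x ↔ x ∈ D1 ∨ x ∈ D2)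
    (m : Ω → Ω) (hm : ∀ x ∈ D1, m x ∈ D2) (hminj : ∀ x ∈ D1, ∀ y ∈ D1, m x = m y → x = y)
    (hmadj : ∀ x ∈ D1, adj x (m x))
    (ha : ∀ x ∈ D1, ∀ y ∈ D1, ∀ x' ∈ D1, ∀ y' ∈ D1, x ≠ y → x' ≠ y' → (adj x y ↔ adj x' y'))
    (ha' : ∀ x ∈ D1, ∀ y ∈ D1, ∀ x' ∈ D2, ∀ y' ∈ D2, x ≠ y → x' ≠ y' → (adj x y ↔ adj x' y'))
    (hb : ∀ x ∈ D1, ∀ y ∈ D2, ∀ x' ∈ D1, ∀ y' ∈ D2, y ≠ m x → y' ≠ m x' → (adj x y ↔ adj x' y'))
    (hΓ : ∀ w w', w ≠ P → ¬ adj P w → w' ≠ P → ¬ adj P w' →
        ((D1.filter (fun x => adj w x)).card = (D1.filter (fun x => adj w' x)).card ∧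
         (D2.filter (fun x => adj w x)).card = (D2.filter (fun x => adj w' x)).card) ∨
        ((D1.filter (fun x => adj w x)).card = (D2.filter (fun x => adj w' x)).card ∧
         (D2.filter (fun x => adj w x)).card = (D1.filter (fun x => adj w' x)).card)) :
    (∀ x ∈ D1, ∀ y ∈ D1, x ≠ y → adj x y) ∧ (∀ x ∈ D1, ∀ y ∈ D2, y ≠ m x → ¬ adj x y) := by
  classical
  -- basic facts
  have hP1 : P ∉ D1 := fun h => hirr P ((hΔ P).2 (Or.inl h))
  have hP2 : P ∉ D2 := fun h => hirr P ((hΔ P).2 (Or.inr h))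
  have h1P : ∀ x ∈ D1, adj P x := fun x hx => (hΔ x).2 (Or.inl hx)
  have h2P : ∀ x ∈ D2, adj P x := fun x hx => (hΔ x).2 (Or.inr hx)
  have h12 : ∀ x ∈ D1, x ∉ D2 := fun x h1 h2 => Finset.disjoint_left.1 hdisj h1 h2
  have hsy : ∀ x y, adj x y ↔ adj y x := fun x y => ⟨hsymm x y, hsymm y x⟩
  -- the rest `Γ`
  set Γ : Finset Ω := Finset.univ \ insert P (D1 ∪ D2) with hΓdef
  have hΓmem : ∀ w, w ∈ Γ ↔ w ≠ P ∧ ¬ adj P w := by
    intro w
    rw [hΓdef, Finset.mem_sdiff, Finset.mem_insert, Finset.mem_union, hΔ w]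
    simp
  have hΓcard : Γ.card = 36 := by
    rw [hΓdef, Finset.card_univ_sdiff, hcard, Finset.card_insert_of_notMem,
      Finset.card_union_of_disjoint hdisj, hD1, hD2]
    rw [Finset.mem_union]
    tauto
  have hsplit : ∀ (q : Ω → Prop) [DecidablePred q],
      (Finset.univ.filter q).card = (if q P then 1 else 0) + (D1.filter q).card + (D2.filter q).card
        + (Γ.filter q).card := fun q _ => abs_card_split4 P D1 D2 hP1 hP2 hdisj q
  -- two distinct points of `D1`
  obtain ⟨x₀, hx₀, y₀, hy₀, hxy₀⟩ : ∃ x₀ ∈ D1, ∃ y₀ ∈ D1, x₀ ≠ y₀ :=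
    Finset.one_lt_card.1 (by rw [hD1]; norm_num)
  -- `m` is onto `D2`
  have hmsurj : ∀ y ∈ D2, ∃ x ∈ D1, m x = y := by
    have himg : D1.image m = D2 := by
      apply Finset.eq_of_subset_of_card_le
      · intro y hy
        obtain ⟨x, hx, rfl⟩ := Finset.mem_image.1 hy
        exact hm x hx
      · rw [Finset.card_image_of_injOn, hD1, hD2]
        intro x hx y hy hxy
        exact hminj x hx y hy hxy
    intro y hy
    rw [← himg] at hy
    obtain ⟨x, hx, hxy⟩ := Finset.mem_image.1 hy
    exact ⟨x, hx, hxy⟩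
  -- the bits
  have hA : (∀ x ∈ D1, ∀ y ∈ D1, x ≠ y → adj x y) ∨ (∀ x ∈ D1, ∀ y ∈ D1, x ≠ y → ¬ adj x y) := by
    by_cases h : ∃ x ∈ D1, ∃ y ∈ D1, x ≠ y ∧ adj x y
    · obtain ⟨x, hx, y, hy, hxy, hadj⟩ := h
      left
      intro x' hx' y' hy' hxy'
      exact (ha x hx y hy x' hx' y' hy' hxy hxy').1 hadj
    · right
      push Not at h
      exact fun x hx y hy hxy => h x hx y hy hxy
  have hB : (∀ x ∈ D1, ∀ y ∈ D2, y ≠ m x → adj x y) ∨ (∀ x ∈ D1, ∀ y ∈ D2, y ≠ m x → ¬ adj x y) := by
    by_cases h : ∃ x ∈ D1, ∃ y ∈ D2, y ≠ m x ∧ adj x y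
    · obtain ⟨x, hx, y, hy, hxy, hadj⟩ := h
      left
      intro x' hx' y' hy' hxy'
      exact (hb x hx y hy x' hx' y' hy' hxy hxy').1 hadj
    · right
      push Not at h
      exact fun x hx y hy hxy => h x hx y hy hxy
  -- neighbour counts inside `D1`, `D2` in terms of the bits
  have hA1 : (∀ x ∈ D1, ∀ y ∈ D1, x ≠ y → adj x y) →
      (∀ x ∈ D1, (D1.filter (fun y => adj x y)).card = 8) ∧
      (∀ x ∈ D2, (D2.filter (fun y => adj x y)).card = 8) := by
    intro hcl
    have hcl' : ∀ x ∈ D2, ∀ y ∈ D2, x ≠ y → adj x y := fun x hx y hy hxy =>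
      (ha' x₀ hx₀ y₀ hy₀ x hx y hy hxy₀ hxy).1 (hcl x₀ hx₀ y₀ hy₀ hxy₀)
    constructor
    · intro x hx
      have : D1.filter (fun y => adj x y) = D1.erase x := by
        ext y
        rw [Finset.mem_filter, Finset.mem_erase]
        constructor
        · rintro ⟨hy, hadj⟩
          exact ⟨fun h => hirr x (h ▸ hadj), hy⟩
        · rintro ⟨hne, hy⟩
          exact ⟨hy, hcl x hx y hy (Ne.symm hne)⟩
      rw [this, Finset.card_erase_of_mem hx, hD1]
    · intro x hx
      have : D2.filter (fun y => adj x y) = D2.erase x := by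
        ext y
        rw [Finset.mem_filter, Finset.mem_erase]
        constructor
        · rintro ⟨hy, hadj⟩
          exact ⟨fun h => hirr x (h ▸ hadj), hy⟩
        · rintro ⟨hne, hy⟩
          exact ⟨hy, hcl' x hx y hy (Ne.symm hne)⟩
      rw [this, Finset.card_erase_of_mem hx, hD2]
  have hA0 : (∀ x ∈ D1, ∀ y ∈ D1, x ≠ y → ¬ adj x y) →
      (∀ x ∈ D1, (D1.filter (fun y => adj x y)).card = 0) ∧
      (∀ x ∈ D2, (D2.filter (fun y => adj x y)).card = 0) := by
    intro hcl
    have hcl' : ∀ x ∈ D2, ∀ y ∈ D2, x ≠ y → ¬ adj x y := fun x hx y hy hxy h =>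
      hcl x₀ hx₀ y₀ hy₀ hxy₀ ((ha' x₀ hx₀ y₀ hy₀ x hx y hy hxy₀ hxy).2 h)
    constructor
    · intro x hx
      rw [Finset.card_eq_zero, Finset.filter_eq_empty_iff]
      intro y hy hadj
      by_cases hxy : x = y
      · exact hirr x (hxy ▸ hadj)
      · exact hcl x hx y hy hxy hadj
    · intro x hx
      rw [Finset.card_eq_zero, Finset.filter_eq_empty_iff]
      intro y hy hadj
      by_cases hxy : x = y
      · exact hirr x (hxy ▸ hadj)
      · exact hcl' x hx y hy hxy hadj
  have hB1 : (∀ x ∈ D1, ∀ y ∈ D2, y ≠ m x → adj x y) →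
      (∀ x ∈ D1, (D2.filter (fun y => adj x y)).card = 9) ∧
      (∀ x ∈ D2, (D1.filter (fun y => adj x y)).card = 9) := by
    intro hcr
    have hall : ∀ x ∈ D1, ∀ y ∈ D2, adj x y := by
      intro x hx y hy
      by_cases h : y = m x
      · rw [h]; exact hmadj x hx
      · exact hcr x hx y hy h
    constructor
    · intro x hx
      rw [Finset.filter_true_of_mem (fun y hy => hall x hx y hy), hD2]
    · intro y hy
      rw [Finset.filter_true_of_mem (fun x hx => hsymm _ _ (hall x hx y hy)), hD1]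
  have hB0 : (∀ x ∈ D1, ∀ y ∈ D2, y ≠ m x → ¬ adj x y) →
      (∀ x ∈ D1, (D2.filter (fun y => adj x y)).card = 1) ∧
      (∀ x ∈ D2, (D1.filter (fun y => adj x y)).card = 1) := by
    intro hcr
    constructor
    · intro x hx
      have : D2.filter (fun y => adj x y) = {m x} := by
        ext y
        rw [Finset.mem_filter, Finset.mem_singleton]
        constructor
        · rintro ⟨hy, hadj⟩
          by_contra h
          exact hcr x hx y hy h hadj
        · rintro rfl
          exact ⟨hm x hx, hmadj x hx⟩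
      rw [this, Finset.card_singleton]
    · intro y hy
      obtain ⟨x, hx, rfl⟩ := hmsurj y hy
      have : D1.filter (fun z => adj (m x) z) = {x} := by
        ext z
        rw [Finset.mem_filter, Finset.mem_singleton]
        constructor
        · rintro ⟨hz, hadj⟩
          by_contra h
          have hne : m x ≠ m z := fun h' => h (hminj z hz x hx h'.symm)
          exact hcr z hz (m x) hy hne (hsymm _ _ hadj)
        · rintro rfl
          exact ⟨hx, hsymm _ _ (hmadj z hx)⟩
      rw [this, Finset.card_singleton]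
  -- neighbours in `Γ` of a vertex of `D1 ∪ D2`
  have hΓdeg : ∀ α β : ℕ,
      (∀ x ∈ D1, (D1.filter (fun y => adj x y)).card = α) →
      (∀ x ∈ D2, (D2.filter (fun y => adj x y)).card = α) →
      (∀ x ∈ D1, (D2.filter (fun y => adj x y)).card = β) →
      (∀ x ∈ D2, (D1.filter (fun y => adj x y)).card = β) →
      ∀ x ∈ D1 ∪ D2, (Γ.filter (fun y => adj x y)).card + 1 + α + β = 18 := by
    intro α β h11 h22 h12' h21 x hx
    have h := hsplit (fun y => adj x y)
    rw [hdeg x] at h
    rcases Finset.mem_union.1 hx with hx | hx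
    · rw [if_pos (hsymm _ _ (h1P x hx)), h11 x hx, h12' x hx] at h
      omega
    · rw [if_pos (hsymm _ _ (h2P x hx)), h21 x hx, h22 x hx] at h
      omega
  -- a vertex of `Γ` has `μ` neighbours in `D1 ∪ D2`
  have hΓμ : ∀ w ∈ Γ,
      (D1.filter (fun x => adj w x)).card + (D2.filter (fun x => adj w x)).card = μ := by
    intro w hw
    obtain ⟨hwP, hwadj⟩ := (hΓmem w).1 hw
    have h := hμ P w (Ne.symm hwP) hwadj
    have h2 := hsplit (fun z => adj P z ∧ adj w z)
    rw [h, if_neg (fun h => hirr P h.1)] at h2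
    have e1 : D1.filter (fun z => adj P z ∧ adj w z) = D1.filter (fun z => adj w z) :=
      Finset.filter_congr (fun z hz => ⟨fun h => h.2, fun h => ⟨h1P z hz, h⟩⟩)
    have e2 : D2.filter (fun z => adj P z ∧ adj w z) = D2.filter (fun z => adj w z) :=
      Finset.filter_congr (fun z hz => ⟨fun h => h.2, fun h => ⟨h2P z hz, h⟩⟩)
    have e3 : Γ.filter (fun z => adj P z ∧ adj w z) = ∅ := by
      rw [Finset.filter_eq_empty_iff]
      intro z hz h
      exact ((hΓmem z).1 hz).2 h.1
    rw [e1, e2, e3, Finset.card_empty] at h2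
    omega
  -- the value of `μ`
  have hμval : ∀ α β : ℕ,
      (∀ x ∈ D1, (D1.filter (fun y => adj x y)).card = α) →
      (∀ x ∈ D2, (D2.filter (fun y => adj x y)).card = α) →
      (∀ x ∈ D1, (D2.filter (fun y => adj x y)).card = β) →
      (∀ x ∈ D2, (D1.filter (fun y => adj x y)).card = β) →
      36 * μ + 18 * (1 + α + β) = 18 * 18 := by
    intro α β h11 h22 h12' h21
    have hdc := abs_double_count adj hsymm (D1 ∪ D2) Γ
    have hL : ∑ x ∈ D1 ∪ D2, (Γ.filter (fun w => adj x w)).card + 18 * (1 + α + β) = 18 * 18 := by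
      have hle : 1 + α + β ≤ 18 := by
        have := hΓdeg α β h11 h22 h12' h21 x₀ (Finset.mem_union_left _ hx₀)
        omega
      have hval : ∀ x ∈ D1 ∪ D2, (Γ.filter (fun w => adj x w)).card = 18 - (1 + α + β) :=
        fun x hx => by
          have := hΓdeg α β h11 h22 h12' h21 x hx
          omega
      rw [Finset.sum_congr rfl hval, Finset.sum_const, Finset.card_union_of_disjoint hdisj, hD1,
        hD2, smul_eq_mul]
      omega
    have hR : ∑ w ∈ Γ, ((D1 ∪ D2).filter (fun x => adj w x)).card = 36 * μ := by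
      have hval : ∀ w ∈ Γ, ((D1 ∪ D2).filter (fun x => adj w x)).card = μ := fun w hw => by
        rw [Finset.filter_union,
          Finset.card_union_of_disjoint (Finset.disjoint_filter_filter hdisj)]
        exact hΓμ w hw
      rw [Finset.sum_congr rfl hval, Finset.sum_const, hΓcard, smul_eq_mul]
    rw [hdc, hR] at hL
    exact hL
  rcases hA with hA | hA <;> rcases hB with hB | hB
  · -- bits (1,1): `μ = 0`
    exfalso
    obtain ⟨h11, h22⟩ := hA1 hA
    obtain ⟨h12', h21⟩ := hB1 hB
    have hμ0 : μ = 0 := by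
      have := hμval 8 9 h11 h22 h12' h21
      omega
    rw [hμ0] at hμ
    exact abs_mu_ne_zero adj hsymm hirr hcard hdeg hμ P
  · -- bits (1,0)
    exact ⟨hA, hB⟩
  · -- bits (0,1): `μ = 4`, but two points of `D1` have all of `D2` as common neighbours
    exfalso
    obtain ⟨h11, h22⟩ := hA0 hA
    obtain ⟨h12', h21⟩ := hB1 hB
    have hμ4 : μ = 4 := by
      have := hμval 0 9 h11 h22 h12' h21
      omega
    have h := hμ x₀ y₀ hxy₀ (hA x₀ hx₀ y₀ hy₀ hxy₀)
    have hall : ∀ x ∈ D1, ∀ y ∈ D2, adj x y := by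
      intro x hx y hy
      by_cases h : y = m x
      · rw [h]; exact hmadj x hx
      · exact hB x hx y hy h
    have hsub : D2 ⊆ Finset.univ.filter (fun w => adj x₀ w ∧ adj y₀ w) := by
      intro w hw
      rw [Finset.mem_filter]
      exact ⟨Finset.mem_univ _, hall x₀ hx₀ w hw, hall y₀ hy₀ w hw⟩
    have := Finset.card_le_card hsub
    rw [h, hD2, hμ4] at this
    omega
  · -- bits (0,0): `μ = 8`, the quadratic count
    exfalso
    obtain ⟨h11, h22⟩ := hA0 hA
    obtain ⟨h12', h21⟩ := hB0 hB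
    have hμ8 : μ = 8 := by
      have := hμval 0 1 h11 h22 h12' h21
      omega
    -- each `x ∈ D1` has 16 neighbours in `Γ`
    have hx16 : ∀ x ∈ D1, (Γ.filter (fun w => adj x w)).card = 16 := fun x hx => by
      have := hΓdeg 0 1 h11 h22 h12' h21 x (Finset.mem_union_left _ hx)
      omega
    -- first moment
    have hS1 : ∑ w ∈ Γ, (D1.filter (fun x => adj w x)).card = 144 := by
      rw [← abs_double_count adj hsymm D1 Γ, Finset.sum_congr rfl hx16, Finset.sum_const, hD1]
      rfl
    -- two distinct points of `D1` have 7 common neighbours in `Γ`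
    have hpair : ∀ x ∈ D1, ∀ y ∈ D1, x ≠ y →
        (Γ.filter (fun w => adj w x ∧ adj w y)).card = 7 := by
      intro x hx y hy hxy
      have h := hμ x y hxy (hA x hx y hy hxy)
      have h2 := hsplit (fun w => adj x w ∧ adj y w)
      rw [h, hμ8, if_pos ⟨hsymm _ _ (h1P x hx), hsymm _ _ (h1P y hy)⟩] at h2
      have e1 : D1.filter (fun w => adj x w ∧ adj y w) = ∅ := by
        rw [Finset.filter_eq_empty_iff]
        intro w hw h
        by_cases hxw : x = w
        · exact hirr x (by rw [← hxw] at h; exact h.1)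
        · exact hA x hx w hw hxw h.1
      have e2 : D2.filter (fun w => adj x w ∧ adj y w) = ∅ := by
        rw [Finset.filter_eq_empty_iff]
        intro w hw h
        have hwx : w = m x := by
          by_contra hne
          exact hB x hx w hw hne h.1
        have hwy : w = m y := by
          by_contra hne
          exact hB y hy w hw hne h.2
        exact hxy (hminj x hx y hy (hwx.symm.trans hwy))
      have e3 : Γ.filter (fun w => adj x w ∧ adj y w) = Γ.filter (fun w => adj w x ∧ adj w y) :=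
        Finset.filter_congr (fun w _ => by rw [hsy x w, hsy y w])
      rw [e1, e2, e3, Finset.card_empty] at h2
      omega
    -- second moment
    have hsq : ∀ w, ((D1.filter (fun x => adj w x)).card) ^ 2 =
        ((D1 ×ˢ D1).filter (fun p : Ω × Ω => adj w p.1 ∧ adj w p.2)).card := by
      intro w
      rw [Finset.filter_product (fun x => adj w x) (fun y => adj w y), Finset.card_product, sq]
    have hT : ∑ w ∈ Γ, ((D1.filter (fun x => adj w x)).card) ^ 2 = 648 := by
      rw [Finset.sum_congr rfl (fun w _ => hsq w)]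
      have hbip := Finset.sum_card_bipartiteAbove_eq_sum_card_bipartiteBelow (s := Γ)
        (t := D1 ×ˢ D1) (fun (w : Ω) (p : Ω × Ω) => adj w p.1 ∧ adj w p.2)
      simp only [Finset.bipartiteAbove, Finset.bipartiteBelow] at hbip
      rw [hbip, Finset.sum_product]
      have hrow : ∀ x ∈ D1,
          ∑ y ∈ D1, (Γ.filter (fun w => adj w (x, y).1 ∧ adj w (x, y).2)).card = 72 := by
        intro x hx
        rw [← Finset.add_sum_erase D1 _ hx]
        have hxx : (Γ.filter (fun w => adj w x ∧ adj w x)).card = 16 := by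
          rw [← hx16 x hx]
          congr 1
          apply Finset.filter_congr
          intro w _
          rw [and_self, hsy]
        have hoff : ∀ y ∈ D1.erase x, (Γ.filter (fun w => adj w x ∧ adj w y)).card = 7 :=
          fun y hy => hpair x hx y (Finset.mem_of_mem_erase hy) (Ne.symm (Finset.ne_of_mem_erase hy))
        simp only
        rw [hxx, Finset.sum_congr rfl hoff, Finset.sum_const, Finset.card_erase_of_mem hx, hD1]
        rfl
      rw [Finset.sum_congr rfl hrow, Finset.sum_const, hD1]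
      rfl
    -- `(a₁ - 4)^2` is constant on `Γ`
    have hsum8 : ∀ w ∈ Γ,
        (D1.filter (fun x => adj w x)).card + (D2.filter (fun x => adj w x)).card = 8 :=
      fun w hw => by rw [← hμ8]; exact hΓμ w hw
    obtain ⟨w₀, hw₀⟩ : Γ.Nonempty := Finset.card_pos.1 (by rw [hΓcard]; norm_num)
    have hconst : ∀ w ∈ Γ, (((D1.filter (fun x => adj w x)).card : ℤ) - 4) ^ 2 =
        (((D1.filter (fun x => adj w₀ x)).card : ℤ) - 4) ^ 2 := by
      intro w hw
      obtain ⟨hwP, hwadj⟩ := (hΓmem w).1 hw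
      obtain ⟨hw₀P, hw₀adj⟩ := (hΓmem w₀).1 hw₀
      have h8 := hsum8 w hw
      have h8' := hsum8 w₀ hw₀
      rcases hΓ w w₀ hwP hwadj hw₀P hw₀adj with ⟨h1, _⟩ | ⟨h1, _⟩
      · rw [h1]
      · have h2 : ((D1.filter (fun x => adj w x)).card : ℤ) =
            8 - ((D1.filter (fun x => adj w₀ x)).card : ℤ) := by omega
        rw [h2]
        ring
    have hsumZ : ∑ w ∈ Γ, (((D1.filter (fun x => adj w x)).card : ℤ) - 4) ^ 2 = 72 := by
      have hexp : ∀ w ∈ Γ, (((D1.filter (fun x => adj w x)).card : ℤ) - 4) ^ 2 =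
          ((((D1.filter (fun x => adj w x)).card) ^ 2 : ℕ) : ℤ) -
            8 * (((D1.filter (fun x => adj w x)).card : ℕ) : ℤ) + 16 := by
        intro w _
        push_cast
        ring
      rw [Finset.sum_congr rfl hexp, Finset.sum_add_distrib, Finset.sum_sub_distrib,
        ← Finset.mul_sum, ← Nat.cast_sum, ← Nat.cast_sum, hT, hS1, Finset.sum_const, hΓcard]
      norm_num
    rw [Finset.sum_congr rfl hconst, Finset.sum_const, hΓcard] at hsumZ
    generalize (((D1.filter (fun x => adj w₀ x)).card : ℤ) - 4) = c at hsumZ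
    have hc2 : c ^ 2 = 2 := by
      rw [nsmul_eq_mul] at hsumZ
      push_cast at hsumZ
      linarith
    have hl : -2 < c := by nlinarith
    have hr : c < 2 := by nlinarith
    interval_cases c <;> omega

end Cfsg.Agent.Lib.H13.M11
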