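/-
S0420 piece KACT (helper13): the concrete group `K = Stab_{M24}(d) ⊓ Stab_{M24}(p)` (`d` a dodecad,
`p ∈ d`) acts on the 11 points of `d` other than `p`, this action is 4-fold transitive and the
stabilizer of every injective 4-tuple is trivial.  From the landed sharp 5-transitivity of the
dodecad stabilizer (`Cfsg.Agent.Lib.H28.dodTrans_of_mem`, `dodSharp_of_mem`).
-/
import Mathlib
import Cfsg.Prelude.Def_Sporadic_a
import Cfsg.Agent.Lib.H28.M12

set_option autoImplicit false
open scoped Pointwise
open Cfsg

namespace Cfsg.Agent.Lib.H13.M11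

/-- The eleven points: the points of `d` other than `p`. -/
abbrev KPts (d : Finset GolayPt) (p : GolayPt) : Type := {x : GolayPt // x ∈ d ∧ x ≠ p}

/-- The group `Stab(d) ⊓ Stab(p)` inside `M24`. -/
abbrev KSub (d : Finset GolayPt) (p : GolayPt) : Subgroup M24 :=
  MulAction.stabilizer M24 d ⊓ MulAction.stabilizer M24 p

theorem kSub_smul_finset {d : Finset GolayPt} {p : GolayPt} (g : ↥(KSub d p)) :
    (((g : M24) : Equiv.Perm GolayPt)) • d = d := by
  have h : (g : M24) ∈ MulAction.stabilizer M24 d := (Subgroup.mem_inf.1 g.2).1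
  exact MulAction.mem_stabilizer_iff.1 h

theorem kSub_apply_point {d : Finset GolayPt} {p : GolayPt} (g : ↥(KSub d p)) :
    (((g : M24) : Equiv.Perm GolayPt)) p = p := by
  have h : (g : M24) ∈ MulAction.stabilizer M24 p := (Subgroup.mem_inf.1 g.2).2
  exact MulAction.mem_stabilizer_iff.1 h

theorem kSub_apply_mem {d : Finset GolayPt} {p : GolayPt} (g : ↥(KSub d p)) {x : GolayPt}
    (hx : x ∈ d) : (((g : M24) : Equiv.Perm GolayPt)) x ∈ d := by
  have h := kSub_smul_finset g
  have h2 : (((g : M24) : Equiv.Perm GolayPt)) • x ∈ (((g : M24) : Equiv.Perm GolayPt)) • d :=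
    Finset.smul_mem_smul_finset hx
  rw [h] at h2
  exact h2

theorem kSub_apply_ne {d : Finset GolayPt} {p : GolayPt} (g : ↥(KSub d p)) {x : GolayPt}
    (hx : x ≠ p) : (((g : M24) : Equiv.Perm GolayPt)) x ≠ p := by
  intro h
  apply hx
  have h2 := kSub_apply_point g
  exact (((g : M24) : Equiv.Perm GolayPt)).injective (h.trans h2.symm)

/-- The action of `K` on the eleven points, as a plain function. -/
def kSmul {d : Finset GolayPt} {p : GolayPt} (g : ↥(KSub d p)) (x : KPts d p) : KPts d p :=
  ⟨(((g : M24) : Equiv.Perm GolayPt)) x.1, kSub_apply_mem g x.2.1, kSub_apply_ne g x.2.2⟩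

/-- The action of `K` on the eleven points (a named, non-instance definition). -/
@[reducible] def kAction (d : Finset GolayPt) (p : GolayPt) : MulAction ↥(KSub d p) (KPts d p) where
  smul := kSmul
  one_smul := by
    intro x
    apply Subtype.ext
    show (((1 : ↥(KSub d p)) : M24) : Equiv.Perm GolayPt) x.1 = x.1
    simp
  mul_smul := by
    intro g h x
    apply Subtype.ext
    show ((((g * h : ↥(KSub d p)) : M24)) : Equiv.Perm GolayPt) x.1 =
      (((g : M24) : Equiv.Perm GolayPt)) ((((h : M24) : Equiv.Perm GolayPt)) x.1)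
    simp

theorem kAction_smul_val {d : Finset GolayPt} {p : GolayPt} (g : ↥(KSub d p)) (x : KPts d p) :
    ((kAction d p).smul g x).1 = (((g : M24) : Equiv.Perm GolayPt)) x.1 := rfl

theorem card_kPts {d : Finset GolayPt} (hd : d ∈ dodecads) {p : GolayPt} (hp : p ∈ d) :
    Fintype.card (KPts d p) = 11 := by
  rw [Fintype.card_subtype]
  have h : (Finset.univ.filter fun x : GolayPt => x ∈ d ∧ x ≠ p) = d.erase p := by
    ext x
    simp [and_comm]
  rw [h, Finset.card_erase_of_mem hp, hd.2]

/-- prepend `p` to a 4-tuple of the eleven points -/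
def consPt {d : Finset GolayPt} {p : GolayPt} (x : Fin 4 ↪ KPts d p) : Fin 5 → GolayPt :=
  Fin.cons p (fun i => (x i).1)

theorem consPt_zero {d : Finset GolayPt} {p : GolayPt} (x : Fin 4 ↪ KPts d p) : consPt x 0 = p := rfl

theorem consPt_succ {d : Finset GolayPt} {p : GolayPt} (x : Fin 4 ↪ KPts d p) (i : Fin 4) :
    consPt x i.succ = (x i).1 := rfl

theorem consPt_mem {d : Finset GolayPt} {p : GolayPt} (hp : p ∈ d) (x : Fin 4 ↪ KPts d p) (i : Fin 5) :
    consPt x i ∈ d := by
  refine Fin.cases ?_ (fun j => ?_) i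
  · exact hp
  · exact (x j).2.1

theorem consPt_injective {d : Finset GolayPt} {p : GolayPt} (x : Fin 4 ↪ KPts d p) :
    Function.Injective (consPt x) := by
  intro i j hij
  refine Fin.cases (motive := fun i => consPt x i = consPt x j → i = j) ?_ (fun i' => ?_) i hij
  · refine Fin.cases (motive := fun j => consPt x 0 = consPt x j → (0 : Fin 5) = j) ?_ (fun j' => ?_) j
    · intro _; rfl
    · intro h
      exfalso
      rw [consPt_zero, consPt_succ] at h
      exact (x j').2.2 h.symm
  · refine Fin.cases (motive := fun j => consPt x i'.succ = consPt x j → i'.succ = j) ?_ (fun j' => ?_) j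
    · intro h
      exfalso
      rw [consPt_zero, consPt_succ] at h
      exact (x i').2.2 h
    · intro h
      rw [consPt_succ, consPt_succ] at h
      have : x i' = x j' := Subtype.ext h
      rw [x.injective this]

/-- **KACT**: `K = Stab(d) ⊓ Stab(p)` acts 4-transitively on the eleven points of `d` other than `p`,
and the stabilizer of every injective 4-tuple is trivial. -/
theorem kact (d : Finset GolayPt) (hd : d ∈ dodecads) (p : GolayPt) (hp : p ∈ d) :
    ∃ (α : Type) (_ : Fintype α) (_ : DecidableEq α)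
      (_ : MulAction ↥(MulAction.stabilizer M24 d ⊓ MulAction.stabilizer M24 p) α),
      Fintype.card α = 11 ∧
      MulAction.IsMultiplyPretransitive ↥(MulAction.stabilizer M24 d ⊓ MulAction.stabilizer M24 p) α 4 ∧
      ∀ x : Fin 4 ↪ α,
        MulAction.stabilizer ↥(MulAction.stabilizer M24 d ⊓ MulAction.stabilizer M24 p) x = ⊥ := by
  refine ⟨KPts d p, inferInstance, inferInstance, kAction d p, card_kPts hd hp, ?_, ?_⟩
  · let _ : MulAction ↥(KSub d p) (KPts d p) := kAction d p
    rw [MulAction.isMultiplyPretransitive_iff]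
    intro x y
    obtain ⟨g, hg, hgd, hmap⟩ := Cfsg.Agent.Lib.H28.dodTrans_of_mem hd 5 (le_refl 5) (consPt x) (consPt y)
      (consPt_injective x) (consPt_injective y) (consPt_mem hp x) (consPt_mem hp y)
    have hgp : g p = p := hmap 0
    have hmemd : (⟨g, hg⟩ : M24) ∈ MulAction.stabilizer M24 d := MulAction.mem_stabilizer_iff.2 hgd
    have hmemp : (⟨g, hg⟩ : M24) ∈ MulAction.stabilizer M24 p := MulAction.mem_stabilizer_iff.2 hgp
    refine ⟨⟨⟨g, hg⟩, Subgroup.mem_inf.2 ⟨hmemd, hmemp⟩⟩, ?_⟩
    · apply Function.Embedding.ext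
      intro i
      apply Subtype.ext
      rw [Function.Embedding.smul_apply]
      exact hmap i.succ
  · let _ : MulAction ↥(KSub d p) (KPts d p) := kAction d p
    intro x
    rw [Subgroup.eq_bot_iff_forall]
    intro k hk
    rw [MulAction.mem_stabilizer_iff] at hk
    have hfix : ∀ i : Fin 5, (((k : M24) : Equiv.Perm GolayPt)) (consPt x i) = consPt x i := by
      intro i
      refine Fin.cases ?_ (fun j => ?_) i
      · exact kSub_apply_point k
      · have h := congrArg (fun e : Fin 4 ↪ KPts d p => (e j).1) hk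
        simp only [Function.Embedding.smul_apply] at h
        exact h
    have h1 := Cfsg.Agent.Lib.H28.dodSharp_of_mem hd (((k : M24) : Equiv.Perm GolayPt)) (k : M24).2
      (kSub_smul_finset k) (consPt x) (consPt_injective x) (consPt_mem hp x) hfix
    apply Subtype.ext
    apply Subtype.ext
    exact h1

end Cfsg.Agent.Lib.H13.M11
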