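/-
S0420, piece QTRANS of QREG (helper13): `Q = N(P) ∩ N(P')` (order 8) acts regularly on the 8
nonidentity elements of `P`, given that it acts semiregularly (`Q_semiregular`, taken as a hypothesis).
-/
import Mathlib
import Cfsg.Agent.Lib.H1.M11U.Defs
import Cfsg.Agent.Lib.H7.M7920TI3

set_option autoImplicit false
open scoped Pointwise

universe u

namespace Cfsg.Agent.Lib.H13.M11U

open Cfsg.Agent.Lib.H1.M11U

variable {G : Type u} [Group G] [Finite G]

/-- **QTRANS, core**: a semiregular `Q` of order 8 is transitive on the 8 elements of `P#`. -/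
theorem Q_trans_core (h : Hyp G) {P P' : Sylow 3 G} (hadj : Adj P P')
    (hsemi : ∀ {q : G}, q ∈ Nrm P ⊓ Nrm P' → q ≠ 1 → ∀ {v : G}, v ∈ (P : Subgroup G) → v ≠ 1 →
      q * v * q⁻¹ ≠ v)
    {u u' : G} (hu : u ∈ (P : Subgroup G)) (hu1 : u ≠ 1) (hu' : u' ∈ (P : Subgroup G))
    (hu'1 : u' ≠ 1) : ∃ q ∈ Nrm P ⊓ Nrm P', q * u * q⁻¹ = u' := by
  have hQ8 : Nat.card ↥(Nrm P ⊓ Nrm P') = 8 := hadj
  have hP9 : Nat.card (P : Subgroup G) = 9 := Cfsg.Agent.Lib.H7.M7920.card_sylow3 h.card P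
  have hmemP : ∀ q : ↥(Nrm P ⊓ Nrm P'), (q : G) * u * (q : G)⁻¹ ∈ (P : Subgroup G) := by
    intro q
    have hq : (q : G) ∈ Nrm P := (Subgroup.mem_inf.1 q.2).1
    exact (Subgroup.mem_normalizer_iff.1 hq u).1 hu
  let f : ↥(Nrm P ⊓ Nrm P') → ↥(P : Subgroup G) := fun q => ⟨(q : G) * u * (q : G)⁻¹, hmemP q⟩
  have hf : Function.Injective f := by
    intro q₁ q₂ h12
    have h1 : (q₁ : G) * u * (q₁ : G)⁻¹ = (q₂ : G) * u * (q₂ : G)⁻¹ := congrArg Subtype.val h12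
    by_contra hne
    have hq : ((q₂ : G)⁻¹ * (q₁ : G)) ∈ Nrm P ⊓ Nrm P' := Subgroup.mul_mem _ (Subgroup.inv_mem _ q₂.2) q₁.2
    have hq1 : ((q₂ : G)⁻¹ * (q₁ : G)) ≠ 1 := by
      intro hc
      apply hne
      apply Subtype.ext
      have : (q₁ : G) = (q₂ : G) := by
        have := congrArg (fun x => (q₂ : G) * x) hc
        simpa using this
      exact this
    apply hsemi hq hq1 hu hu1
    calc (q₂ : G)⁻¹ * (q₁ : G) * u * ((q₂ : G)⁻¹ * (q₁ : G))⁻¹
        = (q₂ : G)⁻¹ * ((q₁ : G) * u * (q₁ : G)⁻¹) * (q₂ : G) := by group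
      _ = (q₂ : G)⁻¹ * ((q₂ : G) * u * (q₂ : G)⁻¹) * (q₂ : G) := by rw [h1]
      _ = u := by group
  have hsub : Set.range f ⊆ ({1} : Set ↥(P : Subgroup G))ᶜ := by
    rintro _ ⟨q, rfl⟩
    rw [Set.mem_compl_iff, Set.mem_singleton_iff]
    intro hc
    have h1 : (q : G) * u * (q : G)⁻¹ = 1 := congrArg Subtype.val hc
    apply hu1
    have : u = (q : G)⁻¹ * ((q : G) * u * (q : G)⁻¹) * (q : G) := by group
    rw [this, h1]
    group
  have hcr : (Set.range f).ncard = 8 := by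
    rw [← Set.image_univ, Set.ncard_image_of_injective _ hf, Set.ncard_univ, hQ8]
  have hcc : (({1} : Set ↥(P : Subgroup G))ᶜ).ncard = 8 := by
    have := Set.ncard_add_ncard_compl ({1} : Set ↥(P : Subgroup G))
    rw [Set.ncard_singleton, hP9] at this
    omega
  have heq : Set.range f = ({1} : Set ↥(P : Subgroup G))ᶜ :=
    Set.eq_of_subset_of_ncard_le hsub (by rw [hcr, hcc]) (Set.toFinite _)
  have hmem : (⟨u', hu'⟩ : ↥(P : Subgroup G)) ∈ Set.range f := by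
    rw [heq, Set.mem_compl_iff, Set.mem_singleton_iff]
    intro hc
    exact hu'1 (congrArg Subtype.val hc)
  obtain ⟨q, hq⟩ := hmem
  exact ⟨(q : G), q.2, congrArg Subtype.val hq⟩

end Cfsg.Agent.Lib.H13.M11U
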