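import Mathlib
import Cfsg.Agent.Lib.H13.Sp4Card
import Cfsg.Agent.Lib.H13.AutPO16

/-!
Local balance for field automorphisms of prime order of `PSp_{2m}(F)` (helper13).
`core_abstract` (the abstract form of the argument), `muSp`, `Msp` (the image of `Sp_{2m}` over the fixed field), `Msp_conj`, `pr_eq_of_smul`,
`cent_Msp_le` (semilinear automorphisms commuting with the standard field automorphism and centralising `Msp` are its powers),
`normal_dichotomy'` (a normal subgroup of `Sp_{2m}` is central or contains the commutator subgroup), `index_commutator_dvd_two` (characteristic two),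
`muJ`, `two_dvd_card_Msp`, `sq_fixed`, `inn_cent_le_Msp`, `Msp_key`, `core_fSp`, `semi_of_cent_Msp`, `semi_of_odd_order` (for `PSp₄(2^f)`), `s2730_gen`.
-/

set_option autoImplicit false
set_option linter.unusedSectionVars false
set_option linter.unusedVariables false
set_option linter.unusedSimpArgs false
set_option linter.deprecated false

namespace Cfsg.Agent.Lib.H13.Sp4Graph

section

open Cfsg.Agent.Lib.H13.AutPO

section abstract

variable {G : Type*} [Group G]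

/-- the abstract form of the local balance argument for an element `φ` of prime order `p`:
`Nn` plays the role of the inner automorphisms, `M` that of the group of fixed points over the
fixed field -/
theorem core_abstract (Nn A M : Subgroup G) (φ : G) {p : ℕ} (hp : p.Prime) (hφ : orderOf φ = p)
    [hN : Nn.Normal] (hNA : Nn ≤ A) (hMN : M ≤ Nn ⊓ Subgroup.centralizer {φ})
    (hcent : ∀ ρ ∈ A ⊓ Subgroup.centralizer {φ}, (∀ μ ∈ M, ρ * μ = μ * ρ) →
      ρ ∈ Subgroup.zpowers φ)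
    (hconj : ∀ ν ∈ Nn ⊓ Subgroup.centralizer {φ}, ∀ μ ∈ M, ν * μ * ν⁻¹ ∈ M)
    (hkey : ∀ N' : Subgroup G, N' ≤ M → (∀ μ ∈ M, ∀ n ∈ N', μ * n * μ⁻¹ ∈ N') → N' ≠ ⊥ →
      (Nat.card N').Coprime p → (Nat.card ↥(Nn ⊓ Subgroup.centralizer {φ})).Coprime p)
    (hMne : M ≠ ⊥) :
    HasNPC p ↥(A ⊓ Subgroup.centralizer {φ}) ↔
      (Nat.card ↥(Nn ⊓ Subgroup.centralizer {φ})).Coprime p := by
  have hNC : Nn ⊓ Subgroup.centralizer {φ} ≤ A ⊓ Subgroup.centralizer {φ} :=
    inf_le_inf hNA le_rfl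
  have hNnorm : ∀ c ∈ Subgroup.centralizer {φ}, ∀ ν ∈ Nn ⊓ Subgroup.centralizer {φ},
      c * ν * c⁻¹ ∈ Nn ⊓ Subgroup.centralizer {φ} := by
    intro c hc ν hν
    exact ⟨hN.conj_mem ν hν.1 c,
      Subgroup.mul_mem _ (Subgroup.mul_mem _ hc hν.2) (Subgroup.inv_mem _ hc)⟩
  rw [hasNPC_subgroup_iff]
  constructor
  · rintro ⟨R, hRC, hnorm, hcop, hne⟩
    have hkey2 : ∀ S : Subgroup G, S ≤ A ⊓ Subgroup.centralizer {φ} →
        (∀ ρ ∈ S, ∀ μ ∈ M, ρ * μ = μ * ρ) → (Nat.card S).Coprime p → S = ⊥ := by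
      intro S hSC hSM hScop
      have hle : S ≤ Subgroup.zpowers φ := fun ρ hρ => hcent ρ (hSC hρ) (hSM ρ hρ)
      have hd : Nat.card S ∣ p := by
        have := Subgroup.card_dvd_of_le hle
        rwa [Nat.card_zpowers, hφ] at this
      exact Subgroup.card_eq_one.1 (Nat.Coprime.eq_one_of_dvd hScop hd)
    by_cases hRM : R ⊓ M = ⊥
    · exfalso
      have hR₂ : R ⊓ (Nn ⊓ Subgroup.centralizer {φ}) = ⊥ := by
        apply hkey2
        · exact le_trans inf_le_right hNC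
        · intro ρ hρ μ hμ
          have hinf : (R ⊓ (Nn ⊓ Subgroup.centralizer {φ})) ⊓ M = ⊥ := by
            rw [eq_bot_iff, ← hRM]
            exact inf_le_inf inf_le_left le_rfl
          refine commute_of_inf_eq_bot _ _ ?_ ?_ hinf ρ hρ μ hμ
          · intro n hn ρ' hρ'
            have hnN := hMN hn
            exact ⟨hnorm n (hNC hnN) ρ' hρ'.1, hNnorm n hnN.2 ρ' hρ'.2⟩
          · intro ρ' hρ' n hn
            exact hconj ρ' hρ'.2 n hn
        · exact Nat.Coprime.coprime_dvd_left (Subgroup.card_dvd_of_le inf_le_left) hcop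
      have hRbot : R = ⊥ := by
        apply hkey2 R hRC _ hcop
        intro ρ hρ μ hμ
        refine commute_of_inf_eq_bot R _ ?_ ?_ hR₂ ρ hρ μ (hMN hμ)
        · intro n hn ρ' hρ'
          exact hnorm n (hNC hn) ρ' hρ'
        · intro ρ' hρ' n hn
          exact hNnorm ρ' (hRC hρ').2 n hn
      exact hne hRbot
    · apply hkey (R ⊓ M) inf_le_right _ hRM
      · exact Nat.Coprime.coprime_dvd_left (Subgroup.card_dvd_of_le inf_le_left) hcop
      · intro μ hμ n hn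
        exact ⟨hnorm μ (hNC (hMN hμ)) n hn.1, M.mul_mem (M.mul_mem hμ hn.2) (M.inv_mem hμ)⟩
  · intro hcop
    refine ⟨_, hNC, ?_, hcop, ?_⟩
    · intro c hc ν hν
      exact hNnorm c hc.2 ν hν
    · intro hbot
      apply hMne
      rw [eq_bot_iff, ← hbot]
      exact hMN

end abstract

end

section

open Matrix Cfsg.Agent.Lib.H13.AutPSp Cfsg.Agent.Lib.H2.Sp Cfsg.Agent.Lib.H4
open Cfsg.Agent.Lib.H13

section msp

variable {F : Type*} [Field F] {m : ℕ} (σ : F ≃+* F)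

/-- `Sp_{2m}(F^σ) → Aut(PSp_{2m}(F))` -/
noncomputable def muSp : SpG m (AutPSL.fixF σ) →* MulAut (Cfsg.PSp m F) :=
  (cGSp (m := m) (F := F)).comp ((jSp σ).comp spGSp)

theorem muSp_apply (s₀ : SpG m (AutPSL.fixF σ)) : muSp σ s₀ = cGSp (jSp σ (spGSp s₀)) := rfl

/-- the image of `Sp_{2m}(F^σ)` in `Aut(PSp_{2m}(F))` -/
noncomputable def Msp : Subgroup (MulAut (Cfsg.PSp m F)) := (muSp (m := m) σ).range

theorem exists_spGSp_jSp (hm : 1 ≤ m) (g₀ : ↥(Cfsg.GSp m (AutPSL.fixF σ))) (h : mult hm g₀ = 1) :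
    ∃ s : SpG m F, jSp σ g₀ = spGSp s := by
  apply exists_spGSp_of_mult hm
  rw [mult_mapGSp, h, map_one]

theorem muSp_eq_conj (hm : 1 ≤ m) (s₀ : SpG m (AutPSL.fixF σ)) :
    ∃ s : SpG m F, muSp σ s₀ = MulAut.conj (pr s) := by
  obtain ⟨s, hs⟩ := exists_spGSp_jSp σ hm (spGSp s₀) (mult_spGSp hm s₀)
  exact ⟨s, by rw [muSp_apply, hs, cGSp_spGSp]⟩

theorem Msp_le_inn (hm : 1 ≤ m) : Msp (m := m) σ ≤ Cfsg.Inn (Cfsg.PSp m F) := by
  rintro _ ⟨s₀, rfl⟩
  obtain ⟨s, hs⟩ := muSp_eq_conj σ hm s₀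
  exact ⟨pr s, hs.symm⟩

theorem Msp_le_range (hm : 2 ≤ m) :
    Msp (m := m) σ ≤ ((cGSp (m := m) (F := F)).comp (jSp σ)).range := by
  rintro _ ⟨s₀, rfl⟩
  exact ⟨spGSp s₀, rfl⟩

theorem Msp_le_cent (hm : 2 ≤ m) {r : ℕ} (hr : 0 < r) (hσ : orderOf σ = r) :
    Msp (m := m) σ ≤ Subgroup.centralizer {fSp σ} := by
  intro μ hμ
  have := Msp_le_range σ hm hμ
  rw [← centralizer_fSp σ hm hr hσ] at this
  exact this.2

/-- an element of `GSp(F^σ)` normalises `Sp(F^σ)` -/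
theorem Msp_conj_aux (hm : 1 ≤ m) (g₀ : ↥(Cfsg.GSp m (AutPSL.fixF σ)))
    (s₀ : SpG m (AutPSL.fixF σ)) :
    ∃ s₁ : SpG m (AutPSL.fixF σ), g₀ * spGSp s₀ * g₀⁻¹ = spGSp s₁ := by
  apply exists_spGSp_of_mult hm
  rw [map_mul, map_mul, map_inv, mult_spGSp, mul_one, mul_inv_cancel]

theorem Msp_conj (hm : 2 ≤ m) {r : ℕ} (hr : 0 < r) (hσ : orderOf σ = r)
    (ν : MulAut (Cfsg.PSp m F))
    (hν : ν ∈ (cGSp (m := m) (F := F)).range ⊓ Subgroup.centralizer {fSp σ})
    (μ : MulAut (Cfsg.PSp m F)) (hμ : μ ∈ Msp (m := m) σ) : ν * μ * ν⁻¹ ∈ Msp (m := m) σ := by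
  rw [centralizer_fSp σ hm hr hσ] at hν
  obtain ⟨g₀, rfl⟩ := hν
  obtain ⟨s₀, rfl⟩ := hμ
  obtain ⟨s₁, hs₁⟩ := Msp_conj_aux σ (by omega) g₀ s₀
  refine ⟨s₁, ?_⟩
  rw [muSp_apply, ← hs₁, muSp_apply, MonoidHom.comp_apply, map_mul, map_mul, map_mul, map_mul,
    map_inv, map_inv]

end msp

end

section

open Matrix Cfsg.Agent.Lib.H13.AutPSp Cfsg.Agent.Lib.H2.Sp Cfsg.Agent.Lib.H4
open Cfsg.Agent.Lib.H13

section prsmul

variable {F : Type*} [Field F] {m : ℕ}

/-- symplectic matrices differing by a scalar have the same image in `PSp` -/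
theorem pr_eq_of_smul {s t : SpG m F} {c : F} (h : mat s = c • mat t) : pr s = pr t := by
  symm
  rw [pr_eq_pr_iff, Subgroup.mem_center_iff]
  have h1 : mat (t⁻¹ * s) = c • 1 := by
    rw [mat_mul, h, Matrix.mul_smul, mat_inv_mul]
  intro g
  apply mat_injective
  rw [mat_mul g, mat_mul _ g, h1, Matrix.mul_smul, Matrix.smul_mul, Matrix.mul_one, Matrix.one_mul]

variable (σ τ : F ≃+* F) (hc : ∀ x, τ (σ x) = σ (τ x))

theorem gmapSp_jSp_res (g₀ : ↥(Cfsg.GSp m (AutPSL.fixF σ))) :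
    gmapSp τ (jSp σ g₀) = jSp σ (gmapSp (AutPO.resF σ τ hc) g₀) := by
  apply Subtype.ext
  apply Units.ext
  ext i k
  rfl

end prsmul

section cent

variable {F : Type*} [Field F] [Finite F] {m : ℕ}

/-- a semilinear-induced automorphism commuting with the standard field automorphism `φ` of `σ`
and centralising the image of `Sp` over the fixed field is a power of `φ` -/
theorem cent_Msp_le (hm : 2 ≤ m) (hcomm : ∀ σ τ : F ≃+* F, σ * τ = τ * σ)
    (σ : F ≃+* F) {r : ℕ} (hr : 0 < r) (hσ : orderOf σ = r)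
    {g : GL (K m) F} (hg : g ∈ Cfsg.GSp m F) (τ : F ≃+* F)
    (hρφ : cSp hg τ * fSp σ = fSp σ * cSp hg τ)
    (hρM : ∀ μ ∈ Msp (m := m) σ, cSp hg τ * μ = μ * cSp hg τ) :
    cSp hg τ ∈ Subgroup.zpowers (fSp (m := m) σ) := by
  have hm1 : 1 ≤ m := by omega
  have hc : ∀ x, τ (σ x) = σ (τ x) := fun x => RingEquiv.congr_fun (hcomm τ σ) x
  rw [cSp_eq_mul] at hρφ hρM ⊢
  set ĝ : ↥(Cfsg.GSp m F) := ⟨g, hg⟩ with hĝ
  have hstd : fSp (m := m) τ * fSp σ = fSp σ * fSp τ := by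
    rw [← map_mul, ← map_mul, hcomm]
  have hgφ : cGSp ĝ * fSp σ = fSp σ * cGSp ĝ := by
    have h1 : cGSp ĝ * fSp σ * fSp τ = fSp σ * cGSp ĝ * fSp τ := by
      calc cGSp ĝ * fSp σ * fSp τ = cGSp ĝ * (fSp τ * fSp σ) := by rw [hstd, mul_assoc]
        _ = (cGSp ĝ * fSp τ) * fSp σ := by rw [mul_assoc]
        _ = fSp σ * (cGSp ĝ * fSp τ) := hρφ
        _ = _ := by rw [mul_assoc]
    exact mul_right_cancel h1
  have hmem : cGSp ĝ ∈ (cGSp (m := m) (F := F)).range ⊓ Subgroup.centralizer {fSp σ} := by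
    refine ⟨⟨ĝ, rfl⟩, ?_⟩
    show _ ∈ Subgroup.centralizer {fSp σ}
    rw [Subgroup.mem_centralizer_iff]
    intro h hh
    rw [Set.mem_singleton_iff] at hh
    subst hh
    exact hgφ.symm
  rw [centralizer_fSp σ hm hr hσ] at hmem
  obtain ⟨g₀, hg₀⟩ := hmem
  rw [MonoidHom.comp_apply] at hg₀
  set τ₀ := AutPO.resF σ τ hc with hτ₀def
  have hθ : cSp g₀.2 τ₀ = MulEquiv.refl _ := by
    apply MulEquiv.ext
    intro x
    obtain ⟨s₀, rfl⟩ := pr_surjective x
    rw [cSp_pr, MulEquiv.refl_apply]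
    have h1 := hρM _ ⟨s₀, rfl⟩
    rw [muSp_apply, ← hg₀, mul_assoc, fSp_mul_cGSp, ← mul_assoc, ← mul_assoc,
      gmapSp_jSp_res σ τ hc] at h1
    have h2 := mul_right_cancel h1
    rw [← map_mul, ← map_mul, ← map_mul, ← map_mul] at h2
    have h4 : (spGSp s₀ * g₀)⁻¹ * (g₀ * gmapSp τ₀ (spGSp s₀)) ∈
        ((cGSp (m := m) (F := F)).comp (jSp σ)).ker := by
      rw [MonoidHom.mem_ker, map_mul, map_inv, MonoidHom.comp_apply, MonoidHom.comp_apply, h2,
        inv_mul_cancel]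
    rw [ker_cGSp_jSp σ hm, Subgroup.mem_subgroupOf, Cfsg.Geo.mem_scalars_iff] at h4
    obtain ⟨c, hc'⟩ := h4
    apply pr_eq_of_smul (c := (c : AutPSL.fixF σ))
    rw [mat_semiSp]
    -- `g₀ τ₀(s₀) = s₀ g₀ (c • 1)`
    have h5 : ((g₀ : GL (K m) (AutPSL.fixF σ)) : Matrix (K m) (K m) (AutPSL.fixF σ)) *
        (mat s₀).map τ₀ = mat s₀ *
          ((g₀ : GL (K m) (AutPSL.fixF σ)) : Matrix (K m) (K m) (AutPSL.fixF σ)) *
          ((c : AutPSL.fixF σ) • 1) := by
      rw [← hc']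
      have h6 : (spGSp s₀ * g₀) * ((spGSp s₀ * g₀)⁻¹ * (g₀ * gmapSp τ₀ (spGSp s₀))) =
          g₀ * gmapSp τ₀ (spGSp s₀) := mul_inv_cancel_left _ _
      have h7 := congrArg (fun y : ↥(Cfsg.GSp m (AutPSL.fixF σ)) =>
        ((y : GL (K m) (AutPSL.fixF σ)) : Matrix (K m) (K m) (AutPSL.fixF σ))) h6
      exact h7.symm
    rw [h5, Matrix.mul_smul, Matrix.mul_one, Matrix.smul_mul, Matrix.mul_assoc, ← Units.val_mul,
      mul_inv_cancel, Units.val_one, Matrix.mul_one]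
  obtain ⟨hτ₀1, c, hg₀Z⟩ := ker_cSp hm g₀.2 τ₀ hθ
  have hτmem : τ ∈ Subgroup.zpowers σ :=
    AutPO.mem_zpowers_of_fix σ τ (fun x hx => AutPO.fix_of_resF_refl σ τ hc hτ₀1 x hx)
  have hg1 : cGSp ĝ = 1 := by
    rw [← hg₀, cGSp_eq_one_iff hm]
    refine ⟨((c : AutPSL.fixF σ) : F), ?_⟩
    ext i k
    rw [jSp_coe, hg₀Z, Matrix.smul_apply, Matrix.smul_apply, Matrix.one_apply, Matrix.one_apply]
    by_cases hik : i = k
    · simp [hik]
    · simp [hik]
  rw [hg1, one_mul, ← MonoidHom.map_zpowers]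
  exact Subgroup.mem_map_of_mem _ hτmem

end cent

end

section

open Matrix Cfsg.Agent.Lib.H13.AutPSp Cfsg.Agent.Lib.H2.Sp Cfsg.Agent.Lib.H4
open Cfsg.Agent.Lib.H13

section dich

variable {F : Type*} [Field F] {m : ℕ}

/-- a normal subgroup of `Sp_{2m}` is central or contains the commutator subgroup -/
theorem normal_dichotomy' (hm : 2 ≤ m)
    (N : Subgroup (Matrix.symplecticGroup (Fin m) F)) [N.Normal] :
    N ≤ Subgroup.center (Matrix.symplecticGroup (Fin m) F) ∨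
      commutator (Matrix.symplecticGroup (Fin m) F) ≤ N := by
  have := isPreprimitive_PP (F := F) hm
  by_cases hfix : MulAction.fixedPoints N (PP m F) = Set.univ
  · left
    intro n hn
    have h1 : ∀ v : K m → F, v ≠ 0 → ∃ c : F, (n : Matrix (K m) (K m) F) *ᵥ v = c • v := by
      intro v hv
      have h2 : (Projectivization.mk F v hv : PP m F) ∈ MulAction.fixedPoints N (PP m F) := by
        rw [hfix]; exact Set.mem_univ _
      have h3 := h2 ⟨n, hn⟩
      change n • (Projectivization.mk F v hv : PP m F) = _ at h3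
      rw [smul_mk', Projectivization.mk_eq_mk_iff'] at h3
      obtain ⟨a, ha⟩ := h3
      exact ⟨a, ha.symm⟩
    obtain ⟨c, hc⟩ := scalar_of_eigen (by omega) n.1 h1
    have hmem : (c • 1 : Matrix (K m) (K m) F) ∈ Matrix.symplecticGroup (Fin m) F := by
      rw [← hc]; exact n.2
    have hcen := center_eq (F := F) m (by omega)
    rw [← SetLike.mem_coe, hcen]
    rcases scalar_sq m (by omega) c hmem with rfl | rfl
    · left
      apply Subtype.ext
      rw [hc, one_smul]; rfl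
    · right
      apply Subtype.ext
      rw [hc, neg_smul, one_smul]; rfl
  · right
    exact MulAction.IwasawaStructure.commutator_le (iwa (F := F) (m := m)) N hfix

/-- in characteristic two the commutator subgroup of `Sp_{2m}(F)` has index at most two -/
theorem index_commutator_dvd_two [Fintype F] [CharP F 2] (hm : 1 ≤ m) :
    (commutator (Matrix.symplecticGroup (Fin m) F)).index ∣ 2 := by
  classical
  set G := Matrix.symplecticGroup (Fin m) F with hG
  let v₀ : K m → F := Pi.single (Sum.inl ⟨0, hm⟩) 1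
  have hv₀ : v₀ ≠ 0 := by
    intro h
    have := congrFun h (Sum.inl ⟨0, hm⟩)
    simp [v₀] at this
  set t : Abelianization G := Abelianization.of (tv m v₀ 1) with ht
  have ht2 : t * t = 1 := by
    rw [ht, ← map_mul, tv_mul, CharTwo.add_self_eq_zero, tv_zero_right, map_one]
  have hall : ∀ x : Abelianization G, x = 1 ∨ x = t := by
    have hker : (⊤ : Subgroup G) ≤
        ((Subgroup.zpowers t).comap (Abelianization.of : G →* Abelianization G)) := by
      rw [← TS_eq_top m]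
      unfold TS
      rw [Subgroup.closure_le]
      rintro _ ⟨v, c, rfl⟩
      rw [SetLike.mem_coe, Subgroup.mem_comap]
      by_cases hv : v = 0
      · have : tv m v c = 1 := by
          apply Subtype.ext
          rw [tv_val, Matrix.ext_iff_mulVec]
          intro x
          rw [sympTransvection_mulVec, hv, smul_zero, add_zero]
          simp
        rw [this, map_one]
        exact one_mem _
      by_cases hc : c = 0
      · rw [hc, tv_zero_right, map_one]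
        exact one_mem _
      obtain ⟨d, hd⟩ := units_sq_of_char_two (Units.mk0 c hc)
      have h1 : tv m v c = tv m ((d : F) • v) 1 := by
        rw [tv_smul, one_mul]
        congr 1
        have := congrArg Units.val hd
        simpa using this
      rw [h1, of_tv_eq _ v₀ (smul_ne_zero d.ne_zero hv) hv₀ 1]
      exact Subgroup.mem_zpowers t
    intro x
    obtain ⟨g, rfl⟩ := QuotientGroup.mk_surjective (s := commutator G) x
    have h1 : Abelianization.of g ∈ Subgroup.zpowers t := hker (Subgroup.mem_top g)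
    obtain ⟨k, hk⟩ := Subgroup.mem_zpowers_iff.1 h1
    change Abelianization.of g = 1 ∨ Abelianization.of g = t
    rw [← hk]
    rcases Int.even_or_odd' k with ⟨j, rfl | rfl⟩
    · left
      rw [_root_.zpow_mul, zpow_two, ht2, _root_.one_zpow]
    · right
      rw [_root_.zpow_add, _root_.zpow_mul, zpow_two, ht2, _root_.one_zpow, one_mul, zpow_one]
  have hcard : Nat.card (Abelianization G) ∣ 2 := by
    haveI : Finite (Abelianization G) := by
      unfold Abelianization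
      infer_instance
    by_cases ht1 : t = 1
    · have : Nat.card (Abelianization G) = 1 := by
        rw [Nat.card_eq_one_iff_unique]
        refine ⟨⟨fun a b => ?_⟩, ⟨1⟩⟩
        rcases hall a with rfl | rfl <;> rcases hall b with rfl | rfl <;> simp [ht1]
      rw [this]
      exact one_dvd _
    · have : Nat.card (Abelianization G) = 2 := by
        rw [Nat.card_eq_two_iff]
        refine ⟨1, t, fun h => ht1 h.symm, ?_⟩
        ext x
        simp only [Set.mem_insert_iff, Set.mem_singleton_iff, Set.mem_univ, iff_true]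
        exact hall x
      rw [this]
  have hidx : (commutator G).index = Nat.card (Abelianization G) := rfl
  rw [hidx]
  exact hcard

end dich

end

section

open Matrix Cfsg.Agent.Lib.H13.AutPSp Cfsg.Agent.Lib.H2.Sp Cfsg.Agent.Lib.H4
open Cfsg.Agent.Lib.H13

section jel

variable {F : Type*} [Field F] {m : ℕ} (σ : F ≃+* F)

/-- the image of `J` in `M` -/
noncomputable def muJ : MulAut (Cfsg.PSp m F) :=
  muSp σ (SymplecticGroup.symJ (Fin m) (AutPSL.fixF σ))

theorem muJ_mem : muJ (m := m) σ ∈ Msp (m := m) σ := ⟨_, rfl⟩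

theorem muJ_ne_one (hm : 2 ≤ m) : muJ (m := m) σ ≠ 1 := by
  intro h
  unfold muJ at h
  rw [muSp_apply, cGSp_eq_one_iff hm] at h
  obtain ⟨c, hc⟩ := h
  have h1 := congrFun (congrFun hc (Sum.inl ⟨0, by omega⟩)) (Sum.inr ⟨0, by omega⟩)
  rw [jSp_coe, spGSp_coe] at h1
  change (((Matrix.J (Fin m) (AutPSL.fixF σ)) (Sum.inl ⟨0, by omega⟩) (Sum.inr ⟨0, by omega⟩) :
    AutPSL.fixF σ) : F) = _ at h1
  simp [Matrix.J, Matrix.fromBlocks] at h1

theorem muJ_sq (hm : 2 ≤ m) : muJ (m := m) σ * muJ σ = 1 := by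
  unfold muJ
  rw [← map_mul, muSp_apply, cGSp_eq_one_iff hm]
  refine ⟨-1, ?_⟩
  ext i k
  rw [jSp_coe, spGSp_coe]
  change (((Matrix.J (Fin m) (AutPSL.fixF σ) * Matrix.J (Fin m) (AutPSL.fixF σ)) i k :
    AutPSL.fixF σ) : F) = _
  rw [Matrix.J_squared]
  simp [Matrix.one_apply]
  split_ifs <;> simp

theorem Msp_ne_bot (hm : 2 ≤ m) : Msp (m := m) σ ≠ ⊥ := by
  intro h
  have h1 := muJ_mem (m := m) σ
  rw [h, Subgroup.mem_bot] at h1
  exact muJ_ne_one σ hm h1

theorem two_dvd_card_Msp [Finite F] (hm : 2 ≤ m) : 2 ∣ Nat.card ↥(Msp (m := m) σ) := by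
  haveI : Finite (Cfsg.PSp m F) := by
    unfold Cfsg.PSp
    infer_instance
  haveI : Finite (MulAut (Cfsg.PSp m F)) :=
    Finite.of_injective (fun f : MulAut (Cfsg.PSp m F) =>
      (f : Cfsg.PSp m F → Cfsg.PSp m F)) (fun f g h => MulEquiv.ext (congrFun h))
  have h1 : orderOf (⟨muJ σ, muJ_mem σ⟩ : ↥(Msp (m := m) σ)) = 2 := by
    apply orderOf_eq_prime
    · apply Subtype.ext
      rw [pow_two]
      exact muJ_sq σ hm
    · intro h
      exact muJ_ne_one σ hm (congrArg Subtype.val h)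
  rw [← h1]
  exact orderOf_dvd_natCard _

end jel

section sqfix

variable {F : Type*} [Field F]

/-- an element whose square is fixed by an automorphism of odd order is fixed -/
theorem sq_fixed (σ : F ≃+* F) {p : ℕ} (hp : Odd p) (hσ : orderOf σ = p) (c : F)
    (h : σ (c ^ 2) = c ^ 2) : σ c = c := by
  rw [map_pow, sq_eq_sq_iff_eq_or_eq_neg] at h
  rcases h with h | h
  · exact h
  · have hk : ∀ k : ℕ, (σ ^ k) c = (-1) ^ k * c := by
      intro k
      induction k with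
      | zero => simp
      | succ k ih =>
        rw [pow_succ', RingAut.mul_apply, ih, map_mul, map_pow, map_neg, map_one, h, pow_succ]
        ring
    have h1 := hk p
    rw [← hσ, pow_orderOf_eq_one, RingAut.one_apply, hσ, hp.neg_one_pow] at h1
    rw [h]
    linear_combination (-1 : F) * h1

end sqfix

end

section

open Matrix Cfsg.Agent.Lib.H13.AutPSp Cfsg.Agent.Lib.H2.Sp Cfsg.Agent.Lib.H4
open Cfsg.Agent.Lib.H13

section innc

variable {F : Type*} [Field F] {m : ℕ} (σ : F ≃+* F)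

theorem cGSp_jSp_scM (hm : 2 ≤ m) (c₀ : (AutPSL.fixF σ)ˣ) :
    cGSp (jSp σ (scM (m := m) c₀)) = 1 := by
  have h : scM (m := m) c₀ ∈ ((cGSp (m := m) (F := F)).comp (jSp σ)).ker := by
    rw [ker_cGSp_jSp σ hm, Subgroup.mem_subgroupOf, Cfsg.Geo.mem_scalars_iff]
    exact ⟨c₀, scM_coe c₀⟩
  exact h

/-- for `σ` of odd order, the inner automorphisms commuting with the standard field automorphism
are induced by the symplectic group over the fixed field -/
theorem inn_cent_le_Msp (hm : 2 ≤ m) {p : ℕ} (hp : Odd p) (hσ : orderOf σ = p) :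
    Cfsg.Inn (Cfsg.PSp m F) ⊓ Subgroup.centralizer {fSp σ} ≤ Msp (m := m) σ := by
  have hm1 : 1 ≤ m := by omega
  have hp0 : 0 < p := hp.pos
  rintro ν ⟨⟨y, rfl⟩, hν2⟩
  obtain ⟨s, rfl⟩ := pr_surjective y
  have h1 : MulAut.conj (pr s) ∈
      (cGSp (m := m) (F := F)).range ⊓ Subgroup.centralizer {fSp σ} :=
    ⟨⟨spGSp s, cGSp_spGSp s⟩, hν2⟩
  rw [centralizer_fSp σ hm hp0 hσ] at h1
  obtain ⟨g₀, hg₀⟩ := h1
  rw [MonoidHom.comp_apply, ← cGSp_spGSp] at hg₀
  have h2 : cGSp ((spGSp s)⁻¹ * jSp σ g₀) = 1 := by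
    rw [map_mul, map_inv, hg₀, inv_mul_cancel]
  obtain ⟨c, hc⟩ := (cGSp_eq_one_iff hm _).1 h2
  -- `jSp g₀ = c • s`
  have h3 : (((jSp σ g₀ : ↥(Cfsg.GSp m F)) : GL (K m) F) : Matrix (K m) (K m) F) = c • mat s := by
    have h4 : spGSp s * ((spGSp s)⁻¹ * jSp σ g₀) = jSp σ g₀ := mul_inv_cancel_left _ _
    have h5 := congrArg (fun y : ↥(Cfsg.GSp m F) => ((y : GL (K m) F) : Matrix (K m) (K m) F)) h4
    rw [← h5]
    change mat s * (((((spGSp s)⁻¹ * jSp σ g₀ : ↥(Cfsg.GSp m F)) : GL (K m) F)) :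
      Matrix (K m) (K m) F) = _
    rw [hc, Matrix.mul_smul, Matrix.mul_one]
  -- the multiplier
  have h6 : mult hm1 (jSp σ g₀) = Units.map (AutPSL.fixF σ).subtype.toMonoidHom (mult hm1 g₀) :=
    mult_mapGSp hm1 _ g₀
  obtain ⟨u, v, huv⟩ := exists_B_one (F := F) hm1
  have h7 : ((mult hm1 (jSp σ g₀) : Fˣ) : F) = c ^ 2 := by
    have h8 := mult_spec hm1 (jSp σ g₀) u v
    rw [h3, smul_mulVec, smul_mulVec, sympForm_smul_left, sympForm_smul_right, huv, mul_one] at h8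
    have h9 : Cfsg.sympForm m F (mat s *ᵥ u) (mat s *ᵥ v) = 1 := by
      have := B_sv s u v
      rw [huv] at this
      exact this
    rw [h9, mul_one] at h8
    rw [← h8]
    ring
  have h10 : σ (c ^ 2) = c ^ 2 := by
    rw [← h7, h6]
    exact (AutPSL.mem_fixF_iff σ _).1 (SetLike.coe_mem _)
  have hcfix : σ c = c := sq_fixed σ hp hσ c h10
  have hc0 : c ≠ 0 := by
    intro h0
    rw [h0] at h7
    simp at h7
  set c₀ : AutPSL.fixF σ := ⟨c, (AutPSL.mem_fixF_iff σ c).2 hcfix⟩ with hc₀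
  have hc₀0 : c₀ ≠ 0 := by
    intro h0
    exact hc0 (congrArg Subtype.val h0)
  set cu : (AutPSL.fixF σ)ˣ := Units.mk0 c₀ hc₀0 with hcu
  have h11 : mult hm1 ((scM (m := m) cu)⁻¹ * g₀) = 1 := by
    rw [map_mul, map_inv, mult_scM, inv_mul_eq_one]
    apply Units.ext
    apply Subtype.ext
    have h12 : (((mult hm1 g₀ : (AutPSL.fixF σ)ˣ) : AutPSL.fixF σ) : F) = c ^ 2 := by
      rw [← h7, h6]
      rfl
    rw [h12]
    rfl
  obtain ⟨s₁, hs₁⟩ := exists_spGSp_of_mult hm1 h11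
  refine ⟨s₁, ?_⟩
  rw [muSp_apply, ← hs₁, map_mul, map_mul, map_inv, map_inv, cGSp_jSp_scM σ hm, inv_one, one_mul,
    hg₀, cGSp_spGSp]

end innc

end

section

open Matrix Cfsg.Agent.Lib.H13.AutPSp Cfsg.Agent.Lib.H2.Sp Cfsg.Agent.Lib.H4
open Cfsg.Agent.Lib.H13

section key

variable {F : Type*} [Field F] [Fintype F] {m : ℕ}

example (σ : F ≃+* F) {r : ℕ} [CharP F r] : CharP (AutPSL.fixF σ) r := inferInstance

theorem muSp_central (hm : 2 ≤ m) (σ : F ≃+* F) (s₀ : SpG m (AutPSL.fixF σ))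
    (hs : s₀ ∈ Subgroup.center (SpG m (AutPSL.fixF σ))) : muSp σ s₀ = 1 := by
  obtain ⟨c, hc⟩ := central_scalar m (by omega) s₀ hs
  rw [muSp_apply, cGSp_eq_one_iff hm]
  refine ⟨(c : F), ?_⟩
  ext i k
  rw [jSp_coe, spGSp_coe]
  change (((s₀ : Matrix (K m) (K m) (AutPSL.fixF σ)) i k : AutPSL.fixF σ) : F) = _
  rw [hc, Matrix.smul_apply, Matrix.smul_apply, Matrix.one_apply, Matrix.one_apply]
  by_cases hik : i = k
  · simp [hik]
  · simp [hik]

/-- a nontrivial normal subgroup of `M` of order prime to `p` forces the group of fixed points to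
have order prime to `p` -/
theorem Msp_key {r : ℕ} [Fact r.Prime] [CharP F r] (hm : 2 ≤ m) (σ : F ≃+* F) {p : ℕ}
    (hp : p.Prime) (hσ : orderOf σ = p) (hpr : p ≠ r)
    (N' : Subgroup (MulAut (Cfsg.PSp m F))) (hN'M : N' ≤ Msp (m := m) σ)
    (hnorm : ∀ μ ∈ Msp (m := m) σ, ∀ n ∈ N', μ * n * μ⁻¹ ∈ N') (hne : N' ≠ ⊥)
    (hcop : (Nat.card N').Coprime p) :
    (Nat.card ↥(Cfsg.Inn (Cfsg.PSp m F) ⊓ Subgroup.centralizer {fSp σ})).Coprime p := by
  classical
  haveI : Fintype (AutPSL.fixF σ) := Fintype.ofFinite _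
  set G₀ := SpG m (AutPSL.fixF σ) with hG₀
  set Nh : Subgroup G₀ := N'.comap (muSp σ) with hNh
  haveI hNhn : Nh.Normal := by
    constructor
    intro n hn g
    rw [hNh, Subgroup.mem_comap] at hn ⊢
    rw [map_mul, map_mul, map_inv]
    exact hnorm _ ⟨g, rfl⟩ _ hn
  -- the index relation
  have hidx : Nat.card ↥(Msp (m := m) σ) = Nat.card N' * Nh.index := by
    set f : G₀ →* ↥(Msp (m := m) σ) := (muSp σ).rangeRestrict with hf
    have hfs : Function.Surjective f := MonoidHom.rangeRestrict_surjective _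
    have h1 : Nh = (N'.subgroupOf (Msp (m := m) σ)).comap f := by
      ext x
      rfl
    rw [h1, Subgroup.index_comap_of_surjective _ hfs,
      ← Nat.card_congr (Subgroup.subgroupOfEquivOfLe hN'M).toEquiv]
    exact (Subgroup.card_mul_index _).symm
  rcases normal_dichotomy' hm Nh with hcen | hcomm
  · exfalso
    apply hne
    rw [eq_bot_iff]
    intro n hn
    obtain ⟨s₀, rfl⟩ := hN'M hn
    rw [Subgroup.mem_bot]
    exact muSp_central hm σ s₀ (hcen hn)
  · have hdvd : Nh.index ∣ (commutator G₀).index := Subgroup.index_dvd_of_le hcomm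
    have hMcop : p ≠ 2 → (Nat.card ↥(Msp (m := m) σ)).Coprime p → 
        (Nat.card ↥(Cfsg.Inn (Cfsg.PSp m F) ⊓ Subgroup.centralizer {fSp σ})).Coprime p := by
      intro hp2 h
      have hodd : Odd p := hp.odd_of_ne_two hp2
      have hEq : Cfsg.Inn (Cfsg.PSp m F) ⊓ Subgroup.centralizer {fSp σ} = Msp (m := m) σ :=
        le_antisymm (inn_cent_le_Msp σ hm hodd hσ)
          (le_inf (Msp_le_inn σ (by omega)) (Msp_le_cent σ hm hp.pos hσ))
      rw [hEq]
      exact h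
    by_cases hr2 : r = 2
    · subst hr2
      have hp2 : p ≠ 2 := hpr
      have h2 := index_commutator_dvd_two (F := AutPSL.fixF σ) (m := m) (by omega)
      have h3 : Nh.index ∣ 2 := dvd_trans hdvd h2
      apply hMcop hp2
      rw [hidx]
      apply Nat.Coprime.mul_left hcop
      apply Nat.Coprime.coprime_dvd_left h3
      rw [Nat.coprime_comm]
      exact (Nat.Prime.coprime_iff_not_dvd hp).2 (fun h => hp2 ((Nat.prime_dvd_prime_iff_eq hp Nat.prime_two).1 h))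
    · have hq3 : 3 ≤ Fintype.card (AutPSL.fixF σ) := by
        obtain ⟨k, hk⟩ := FiniteField.card (AutPSL.fixF σ) r
        have hr3 : 3 ≤ r := by
          have := (Fact.out : r.Prime).two_le
          omega
        rw [hk.2]
        calc 3 ≤ r := hr3
          _ = r ^ 1 := (pow_one r).symm
          _ ≤ r ^ (k : ℕ) := Nat.pow_le_pow_right (by omega) k.pos
      have hperf : commutator G₀ = ⊤ := by
        apply perfect
        by_cases h3 : 3 ≤ m
        · left; exact h3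
        · right; left; exact ⟨by omega, hq3⟩
      rw [hperf, Subgroup.index_top, Nat.dvd_one] at hdvd
      rw [hdvd, mul_one] at hidx
      by_cases hp2 : p = 2
      · exfalso
        subst hp2
        have h2d := two_dvd_card_Msp (m := m) σ hm
        rw [hidx] at h2d
        have := Nat.dvd_gcd h2d (dvd_refl 2)
        rw [Nat.Coprime] at hcop
        rw [hcop] at this
        omega
      · apply hMcop hp2
        rw [hidx]
        exact hcop

end key

end

section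

open Matrix Cfsg.Agent.Lib.H13.AutPSp Cfsg.Agent.Lib.H2.Sp Cfsg.Agent.Lib.H4
open Cfsg.Agent.Lib.H13

section core

variable {F : Type*} [Field F] [Fintype F] {m : ℕ}

theorem conj_pr_injective (hm : 2 ≤ m) :
    Function.Injective (MulAut.conj : Cfsg.PSp m F →* MulAut (Cfsg.PSp m F)) := by
  rw [injective_iff_map_eq_one]
  intro y hy
  obtain ⟨s, rfl⟩ := pr_surjective y
  rw [← cGSp_spGSp, cGSp_eq_one_iff hm] at hy
  obtain ⟨c, hc⟩ := hy
  rw [← map_one pr]
  apply pr_eq_of_smul (c := c)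
  rw [mat_one]
  exact hc

/-- local balance for the standard field automorphism of prime order `p` of `PSp_{2m}(F)` -/
theorem core_fSp {r : ℕ} [Fact r.Prime] [CharP F r] (hm : 2 ≤ m) (σ : F ≃+* F) {p : ℕ}
    (hp : p.Prime) (hσ : orderOf σ = p) (hpr : p ≠ r)
    (A : Subgroup (MulAut (Cfsg.PSp m F))) (hInnA : Cfsg.Inn (Cfsg.PSp m F) ≤ A)
    (hsemi : ∀ ρ ∈ A ⊓ Subgroup.centralizer {fSp σ},
      (∀ μ ∈ Msp (m := m) σ, ρ * μ = μ * ρ) →
      ∃ (g : GL (K m) F) (hg : g ∈ Cfsg.GSp m F) (τ : F ≃+* F), ρ = cSp hg τ) :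
    AutPO.HasNPC p ↥(A ⊓ Subgroup.centralizer {fSp (m := m) σ}) ↔
      (Nat.card ↥(Cfsg.Inn (Cfsg.PSp m F) ⊓ Subgroup.centralizer {fSp σ})).Coprime p := by
  obtain ⟨n, -, hF⟩ := FiniteField.card F r
  have hcomm : ∀ σ τ : F ≃+* F, σ * τ = τ * σ := AutPO.ringAut_comm (p := r) hF
  have hφ : orderOf (fSp (m := m) σ) = p := by
    rw [orderOf_injective fSp (fSp_injective hm) σ, hσ]
  refine core_abstract (Cfsg.Inn (Cfsg.PSp m F)) A (Msp (m := m) σ) (fSp σ) hp hφ hInnA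
    (le_inf (Msp_le_inn σ (by omega)) (Msp_le_cent σ hm hp.pos hσ)) ?_ ?_ ?_ (Msp_ne_bot σ hm)
  · intro ρ hρ hρM
    obtain ⟨g, hg, τ, rfl⟩ := hsemi ρ hρ hρM
    apply cent_Msp_le hm hcomm σ hp.pos hσ hg τ _ hρM
    have h1 : cSp hg τ ∈ Subgroup.centralizer {fSp (m := m) σ} := hρ.2
    rw [Subgroup.mem_centralizer_iff] at h1
    exact (h1 _ (Set.mem_singleton _)).symm
  · intro ν hν μ hμ
    exact Msp_conj σ hm hp.pos hσ ν ⟨inn_le_range_cGSp hν.1, hν.2⟩ μ hμ
  · intro N' hN'M hnorm hne hcop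
    exact Msp_key hm σ hp hσ hpr N' hN'M hnorm hne hcop

end core

end

section

open Matrix Cfsg.Agent.Lib.H13.AutPSp Cfsg.Agent.Lib.H2.Sp Cfsg.Agent.Lib.H4
open Cfsg.Agent.Lib.H13

section std

variable {F : Type*} [Field F] {m : ℕ}

theorem fSp_isStd (σ : F ≃+* F) : Cfsg.IsStdFieldAutPSp σ (fSp (m := m) σ) := by
  intro s s' h
  have h1 := isInduced_cSp (one_mem (Cfsg.GSp m F)) σ
  apply h1 s s'
  rw [h]
  simp

theorem conj_comm_iff {G : Type*} [Group G] (ρ : MulAut G) (y : G) :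
    ρ * MulAut.conj y = MulAut.conj (ρ y) * ρ := by
  ext z
  simp [MulAut.conj_apply, map_mul, map_inv]

end std

section char2

variable {F : Type*} [Field F] [Fintype F] [CharP F 2]

/-- the inner automorphism of the base transvection lies in `M` -/
theorem conj_x0_mem_Msp (σ : F ≃+* F) :
    MulAut.conj (x0 : Cfsg.PSp 2 F) ∈ Msp (m := 2) σ := by
  refine ⟨tv 2 (Pi.single (Sum.inl 0) 1) 1, ?_⟩
  unfold x0
  rw [muSp_apply, ← cGSp_spGSp]
  congr 1
  apply Subtype.ext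
  apply Units.ext
  ext i k
  rw [jSp_coe, spGSp_coe, spGSp_coe]
  change ((Cfsg.sympTransvection 2 (Pi.single (Sum.inl 0) 1 : K2 → AutPSL.fixF σ) 1 i k :
    AutPSL.fixF σ) : F) = Cfsg.sympTransvection 2 (e1 : K2 → F) 1 i k
  rw [tvmat_apply, tvmat_apply]
  rcases i with i | i <;> fin_cases i <;> rcases k with k | k <;> fin_cases k <;>
    simp [e1, Pi.single_apply]

/-- an automorphism centralising `M` is semilinear-induced -/
theorem semi_of_cent_Msp (σ : F ≃+* F) (ρ : MulAut (Cfsg.PSp 2 F))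
    (hρM : ∀ μ ∈ Msp (m := 2) σ, ρ * μ = μ * ρ) :
    ∃ (g : GL (K 2) F) (hg : g ∈ Cfsg.GSp 2 F) (τ : F ≃+* F), ρ = cSp hg τ := by
  rcases aut_dichotomy ρ with h | ⟨g, hg, τ, rfl⟩
  · exact h
  · exfalso
    have h1 := hρM _ (conj_x0_mem_Msp σ)
    rw [conj_comm_iff] at h1
    have h2 := conj_pr_injective (F := F) (m := 2) (by norm_num) (mul_right_cancel h1)
    rw [MulAut.mul_apply] at h2
    have h3 : cSp hg τ (x0 : Cfsg.PSp 2 F) ∈ TB 2 F := cSp_mem_TB hg τ x0_mem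
    have h4 := forall_mem_A2 (gamBar : MulAut (Cfsg.PSp 2 F)) gamBar_x0_mem_A2 h3
    rw [h2] at h4
    exact TB_disjoint_A2 x0_mem h4

/-- an automorphism of odd order of `PSp₄(2^f)` is semilinear-induced -/
theorem semi_of_odd_order {f : ℕ} (hf : 1 ≤ f) (hF : Fintype.card F = 2 ^ f)
    (x : MulAut (Cfsg.PSp 2 F)) {p : ℕ} (hp : Odd p) (hx : x ^ p = 1) :
    ∃ (g : GL (K 2) F) (hg : g ∈ Cfsg.GSp 2 F) (τ : F ≃+* F), x = cSp hg τ := by
  rcases aut_dichotomy x with h | ⟨g, hg, τ, rfl⟩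
  · exact h
  · exfalso
    obtain ⟨k, hk⟩ := Subgroup.mem_zpowers_iff.1 (AutPO.frob_generates (p := 2) hF τ)
    have h1 : outMk ((gamBar : MulAut (Cfsg.PSp 2 F)) * cSp hg τ) =
        (outMk (gamBar : MulAut (Cfsg.PSp 2 F))) ^ (1 + 2 * k) := by
      rw [cSp_eq_mul, map_mul, map_mul, outMk_cGSp, one_mul, ← hk, outMk_fSp_zpow,
        _root_.zpow_add, zpow_one]
    have h2 := congrArg outMk hx
    rw [map_pow, map_one, h1, ← zpow_natCast, ← _root_.zpow_mul] at h2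
    have h3 := (orderOf_dvd_iff_zpow_eq_one).2 h2
    rw [orderOf_outMk_gamBar hf hF] at h3
    obtain ⟨j, rfl⟩ := hp
    obtain ⟨t, ht⟩ := h3
    push_cast at ht
    have h4 : (1 + 2 * k) * (2 * (j : ℤ) + 1) = 2 * (j + k + 2 * k * j) + 1 := by ring
    have h5 : (2 * (f : ℤ)) * t = 2 * (f * t) := by ring
    omega

end char2

end

section

open Matrix Cfsg.Agent.Lib.H13.AutPSp Cfsg.Agent.Lib.H2.Sp Cfsg.Agent.Lib.H4
open Cfsg.Agent.Lib.H13 Cfsg.Agent.Lib.H13.AutPO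

/-- **local balance for automorphisms of prime order of `PSp_{2m}(F)` outside the inner-diagonal
group** -/
theorem s2730_gen {F : Type*} [Field F] [Fintype F] {r : ℕ} [Fact r.Prime] [CharP F r] {m : ℕ}
    (hm : 2 ≤ m)
    (A : Subgroup (MulAut (Cfsg.PSp m F)))
    (hinn : ∀ k : Cfsg.PSp m F, MulAut.conj k ∈ A) {p : ℕ} (hp : p.Prime) (hpr : p ≠ r)
    (x : MulAut (Cfsg.PSp m F)) (hord : orderOf x = p)
    (hnot : ¬ Cfsg.IsInnerDiagonalAutPSp x) :
    Cfsg.pPrimeCore p ↥(A ⊓ Subgroup.centralizer {x}) ≠ ⊥ ↔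
      (Cfsg.IsFieldAutClassPSp x ∧ Nat.Coprime p (Nat.card
        ↥(MonoidHom.eqLocus x.toMonoidHom (MonoidHom.id (Cfsg.PSp m F))))) := by
  classical
  obtain ⟨n, -, hF⟩ := FiniteField.card F r
  have hxp : x ^ p = 1 := by rw [← hord]; exact pow_orderOf_eq_one x
  have hInnA : Cfsg.Inn (Cfsg.PSp m F) ≤ A := by
    rintro _ ⟨k, rfl⟩
    exact hinn k
  -- all relevant automorphisms are semilinear-induced
  have hsemiAll : ∀ ρ : MulAut (Cfsg.PSp m F), (ρ ^ p = 1 ∨ ∃ σ : F ≃+* F,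
      ∀ μ ∈ Msp (m := m) σ, ρ * μ = μ * ρ) →
      ∃ (g : GL (K m) F) (hg : g ∈ Cfsg.GSp m F) (τ : F ≃+* F), ρ = cSp hg τ := by
    intro ρ hρ
    by_cases h22 : m = 2 ∧ r = 2
    · obtain ⟨rfl, rfl⟩ := h22
      rcases hρ with hρ | ⟨σ, hρ⟩
      · have hodd : Odd p := hp.odd_of_ne_two hpr
        exact semi_of_odd_order n.pos hF ρ hodd hρ
      · exact semi_of_cent_Msp σ ρ hρ
    · exact isSemi hm (fun h1 h2 => h22 ⟨h1, h2⟩) ρ
  obtain ⟨g, hg, σ, rfl⟩ := hsemiAll x (Or.inl hxp)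
  rw [cSp_eq_mul] at hord hxp hnot ⊢
  set ĝ : ↥(Cfsg.GSp m F) := ⟨g, hg⟩ with hĝ
  have hσ1 : σ ≠ 1 := by
    rintro rfl
    apply hnot
    rw [map_one, mul_one]
    exact ⟨g, hg, isInduced_cSp hg _⟩
  have hσp : orderOf σ = p := by
    have h1 := hxp
    rw [pow_cGSp_fSp] at h1
    have h2 : cGSp (PNSp σ ĝ p) * fSp (σ ^ p) = cGSp (1 : ↥(Cfsg.GSp m F)) * fSp (1 : F ≃+* F) := by
      rw [h1, map_one, map_one, mul_one]
    have h3 := uniq_sigma hm h2
    have := orderOf_dvd_of_pow_eq_one h3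
    rcases (Nat.dvd_prime hp).1 this with h | h
    · exact absurd (orderOf_eq_one_iff.1 h) hσ1
    · exact h
  obtain ⟨k, hk⟩ := symp_field_conj hm σ hp.pos hσp ĝ hxp
  set a := cGSp k with ha
  have hxa : cGSp ĝ * fSp σ = a * fSp σ * a⁻¹ := hk
  have hfield : Cfsg.IsFieldAutClassPSp (cGSp ĝ * fSp σ) := by
    refine ⟨a⁻¹, σ, hσ1, ?_⟩
    have : a⁻¹ * (cGSp ĝ * fSp σ) * a⁻¹⁻¹ = fSp σ := by rw [hxa]; group
    rw [this]
    exact fSp_isStd σ
  rw [pPrimeCore_ne_bot_iff, card_eqLocus_eq (conj_pr_injective hm) _, Nat.coprime_comm]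
  obtain ⟨E1⟩ := centralizer_map_equiv (MulAut.conj a⁻¹) A (cGSp ĝ * fSp σ)
  have hx' : MulAut.conj a⁻¹ (cGSp ĝ * fSp σ) = fSp σ := by
    rw [hxa, MulAut.conj_apply]; group
  rw [hx'] at E1
  have hInnA' : Cfsg.Inn (Cfsg.PSp m F) ≤ A.map (MulAut.conj a⁻¹).toMonoidHom := by
    rw [← map_conj_of_normal (Cfsg.Inn (Cfsg.PSp m F)) a⁻¹]
    exact Subgroup.map_mono hInnA
  obtain ⟨E2, -⟩ := conj_transport (Cfsg.Inn (Cfsg.PSp m F)) (Cfsg.Inn (Cfsg.PSp m F))
    le_rfl a (fSp σ)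
  rw [← hxa] at E2
  obtain ⟨E2⟩ := E2
  rw [hasNPC_congr p E1, core_fSp hm σ hp hσp hpr _ hInnA'
    (fun ρ _ hρM => hsemiAll ρ (Or.inr ⟨σ, hρM⟩)), Nat.card_congr E2.toEquiv]
  exact ⟨fun h => ⟨hfield, h⟩, fun h => h.2⟩

end

end Cfsg.Agent.Lib.H13.Sp4Graph
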