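import Mathlib
import Cfsg.Agent.Lib.H13.Sp4Balance
import Cfsg.Agent.Lib.H11.OmegaAll
import Cfsg.Agent.S0789

/-!
Local balance in `PΩ⁻_{2m+2}(q)`, part 1 (helper13): automorphisms of prime order not induced by a similarity. Lang's theorem for
semisimilarities (`lang_semi`), standard models of forms similar to the minus-type form (`exists_std_model`), transport along
similarities (`conjLPs`), and `field_case_minus`: such an automorphism is a field automorphism and local balance is decided by the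
number of fixed points.
-/

set_option autoImplicit false
set_option linter.unusedSectionVars false
set_option linter.unusedVariables false
set_option linter.unusedSimpArgs false
set_option linter.deprecated false

namespace Cfsg.Agent.Lib.H13.MBal

section

open Matrix QuadraticMap Module
open Cfsg.Agent.Lib.H11.ConfOrth
open Cfsg.Agent.Lib.H13 Cfsg.Agent.Lib.H13.HypPairs Cfsg.Agent.Lib.H13.PlusTS
open Cfsg.Agent.Lib.H13.AutPO

section gen

variable {F : Type*} [Field F] [Fintype F] {ι : Type} [Fintype ι] [DecidableEq ι]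
variable (Q : QuadraticForm F (ι → F))
variable (hQ : (polarBilin Q).Nondegenerate) (hcard : 7 ≤ Fintype.card ι)
variable (hall : Cfsg.gammaPOmega F ⇑Q = ⊤)

omit [Fintype F] in
theorem glmap_mem_Zs_iff (τ : F ≃+* F) (x : GL ι F) : glmap τ x ∈ Zs ι F ↔ x ∈ Zs ι F := by
  constructor
  · intro h
    obtain ⟨c, hc⟩ := (mem_Zs_iff _).1 h
    have h1 : x = glmap τ.symm (glmap τ x) := by
      rw [← glmap_trans]
      have : τ.trans τ.symm = RingEquiv.refl F := by ext a; simp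
      rw [this, glmap_refl]
    rw [h1, hc, glmap_scalar, mem_Zs_iff]
    exact ⟨_, rfl⟩
  · intro h
    obtain ⟨c, hc⟩ := (mem_Zs_iff _).1 h
    rw [hc, glmap_scalar, mem_Zs_iff]
    exact ⟨_, rfl⟩

include hQ hcard hall in
/-- two semilinear pairs with the same field automorphism inducing the same automorphism differ by a
scalar -/
theorem semiAut_eq_imp {g g' : GL ι F} {σ : F ≃+* F} (hp : Cfsg.IsSemisimilarityPair ⇑Q g σ)
    (hp' : Cfsg.IsSemisimilarityPair ⇑Q g' σ)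
    (h : semiAut ⇑Q g σ hp = semiAut ⇑Q g' σ hp') : g'⁻¹ * g ∈ Zs ι F := by
  obtain ⟨k, τ, hk, hinv⟩ := exists_formO Q hall (semiAut ⇑Q g σ hp)⁻¹
  have e1 : semiAut ⇑Q k τ hk * semiAut ⇑Q g σ hp = 1 := by rw [← hinv]; group
  have e2 : semiAut ⇑Q k τ hk * semiAut ⇑Q g' σ hp' = 1 := by rw [← h]; exact e1
  rw [semiAut_mul] at e1 e2
  have s1 := (semi_ker_all Q hQ hcard _ _ _ e1).2
  have s2 := (semi_ker_all Q hQ hcard _ _ _ e2).2
  have h3 : glmap τ (g'⁻¹ * g) = (k * glmap τ g')⁻¹ * (k * glmap τ g) := by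
    rw [map_mul, map_inv]; group
  rw [← glmap_mem_Zs_iff τ, h3]
  exact Subgroup.mul_mem _ (Subgroup.inv_mem _ s2) s1

include hQ hcard in
/-- multiplying the linear part by a scalar does not change the induced automorphism -/
theorem semiAut_Zs_mul (z : GL ι F) (hz : z ∈ Zs ι F) {g : GL ι F} {τ : F ≃+* F}
    (hp : Cfsg.IsSemisimilarityPair ⇑Q g τ) :
    ∃ hp' : Cfsg.IsSemisimilarityPair ⇑Q (z * g) τ, semiAut ⇑Q (z * g) τ hp' = semiAut ⇑Q g τ hp := by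
  set zS : ↥(Sim ⇑Q) := ⟨z, Zs_le_sim' Q hz⟩ with hzS
  have h1 := semiAut_mul ⇑Q zS.1 g (RingEquiv.refl F) τ (pair_refl_of_sim ⇑Q zS) hp
  have hp' : Cfsg.IsSemisimilarityPair ⇑Q (z * g) τ := by
    have := pair_mul ⇑Q (pair_refl_of_sim ⇑Q zS) hp
    rw [glmap_refl] at this
    exact this
  refine ⟨hp', ?_⟩
  have hPhi : Phi ⇑Q zS = 1 := by
    rw [← MonoidHom.mem_ker, ker_Phi_all Q hQ hcard, Subgroup.mem_subgroupOf]
    exact hz
  rw [semiAut_refl, hPhi, one_mul] at h1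
  rw [h1]
  exact semiAut_congr ⇑Q (by rw [glmap_refl]) rfl _ _

omit [Fintype F] in
theorem map_pow_of_map_eq_smul (σ : F ≃+* F) (M : Matrix ι ι F) (c : F)
    (h : M.map σ = c • M) (i : ℕ) : M.map ⇑(σ ^ i) = AutPSL.Nm σ i c • M := by
  induction i with
  | zero =>
    rw [AutPSL.Nm_zero, one_smul, pow_zero]
    ext a b
    rfl
  | succ i ih =>
    have e : M.map ⇑(σ ^ (i + 1)) = (M.map ⇑(σ ^ i)).map σ := by
      ext a b
      rw [pow_succ']
      rfl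
    rw [e, ih, AutPSL.Nm_succ']
    ext a b
    have := congrFun (congrFun h a) b
    simp only [Matrix.map_apply, Matrix.smul_apply, smul_eq_mul] at this ⊢
    rw [map_mul, this]
    ring

include hQ hcard hall in
/-- an automorphism commuting with the standard field automorphism `φ` of `σ` and centralising the
image of `Ω` over the fixed field is a power of `φ` (only `σ` is assumed compatible with `Q`) -/
theorem cent_M_le_gen (σ : F ≃+* F) (hσQ : SigEq σ Q)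
    (hcomm : ∀ τ : F ≃+* F, ∀ x, τ (σ x) = σ (τ x))
    {r : ℕ} (hr : 0 < r) (hσ : orderOf σ = r)
    (ρ : MulAut (Cfsg.POmega F ⇑Q))
    (hρφ : ρ * stdAut Q σ hσQ = stdAut Q σ hσQ * ρ)
    (hρM : ∀ ω₀ : ↥(Sim ⇑(down Q hσQ)),
      ω₀.1 ∈ Cfsg.Geo.omegaGL ⇑(down Q hσQ) →
      ρ * Phi ⇑Q (upSim Q hσQ ω₀) = Phi ⇑Q (upSim Q hσQ ω₀) * ρ) :
    ρ ∈ Subgroup.zpowers (stdAut Q σ hσQ) := by
  classical
  haveI : Fintype (AutPSL.fixF σ) := Fintype.ofFinite _
  haveI : Nonempty ι := by rw [← Fintype.card_pos_iff]; omega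
  have hker := ker_Phi_all Q hQ hcard
  have hQ₀ := down_nondeg Q hσQ hQ
  have hσr : σ ^ r = 1 := by rw [← hσ, pow_orderOf_eq_one]
  obtain ⟨g, τ, hp, rfl⟩ := exists_formO Q hall ρ
  have hc : ∀ x, τ (σ x) = σ (τ x) := hcomm τ
  -- step 1: `σ(g)` is a scalar multiple of `g`
  have hstep1 : (glmap σ g)⁻¹ * g ∈ Zs ι F := by
    unfold stdAut at hρφ
    rw [semiAut_mul, semiAut_mul] at hρφ
    have hθ : τ.trans σ = σ.trans τ := by
      ext x
      simp only [RingEquiv.trans_apply]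
      exact (hc x).symm
    have hp2 : Cfsg.IsSemisimilarityPair ⇑Q (1 * glmap σ g) (σ.trans τ) := by
      rw [← hθ]
      exact pair_mul ⇑Q (pair_one_of_sigEq Q σ hσQ) hp
    have h2 : semiAut ⇑Q (g * glmap τ 1) (σ.trans τ) (pair_mul ⇑Q hp (pair_one_of_sigEq Q σ hσQ)) =
        semiAut ⇑Q (1 * glmap σ g) (σ.trans τ) hp2 := by
      rw [hρφ]
      exact semiAut_congr ⇑Q rfl hθ _ _
    have h3 := semiAut_eq_imp Q hQ hcard hall _ _ h2
    rwa [one_mul, map_one, mul_one] at h3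
  obtain ⟨c, hc1⟩ := (mem_Zs_iff _).1 hstep1
  have hσg : (g.1).map σ = ((c⁻¹ : Fˣ) : F) • g.1 := by
    have h4 : glmap σ g = Matrix.GeneralLinearGroup.scalar ι c⁻¹ * g := by
      have : g = glmap σ g * Matrix.GeneralLinearGroup.scalar ι c := by
        rw [← hc1]; group
      rw [map_inv]
      conv_rhs => rw [this]
      rw [← Matrix.GeneralLinearGroup.scalar_commute, inv_mul_cancel_left]
    have h5 := congrArg (fun x : GL ι F => (x : Matrix ι ι F)) h4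
    simp only [glmap_val, Units.val_mul, Matrix.GeneralLinearGroup.coe_scalar] at h5
    rw [h5]
    ext a b
    simp [Matrix.mul_apply, Matrix.scalar_apply, Matrix.diagonal_apply]
  have hNm : AutPSL.Nm σ r ((c⁻¹ : Fˣ) : F) = 1 := by
    have h6 := map_pow_of_map_eq_smul σ g.1 _ hσg r
    rw [hσr] at h6
    have h7 : (g.1).map ⇑(1 : F ≃+* F) = g.1 := by ext a b; rfl
    rw [h7] at h6
    have h8 : (AutPSL.Nm σ r ((c⁻¹ : Fˣ) : F) - 1) • g.1 = 0 := by
      rw [sub_smul, one_smul, ← h6, sub_self]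
    rcases smul_eq_zero.1 h8 with h9 | h9
    · exact sub_eq_zero.1 h9
    · exfalso
      have h10 : (g : Matrix ι ι F) * ((g⁻¹ : GL ι F) : Matrix ι ι F) = 1 := by
        rw [← Units.val_mul, mul_inv_cancel, Units.val_one]
      rw [h9, Matrix.zero_mul] at h10
      obtain ⟨i⟩ := ‹Nonempty ι›
      have := congrFun (congrFun h10 i) i
      simp at this
  obtain ⟨d, hd0, hd⟩ := AutPSL.hilbert90_scalar σ hr hσ _ hNm
  set du : Fˣ := Units.mk0 d hd0 with hdu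
  have hdZ : Matrix.GeneralLinearGroup.scalar ι du ∈ Zs ι F := (mem_Zs_iff _).2 ⟨du, rfl⟩
  obtain ⟨hp₁, hρ₁⟩ := semiAut_Zs_mul Q hQ hcard _ hdZ hp
  set g₁ : GL ι F := Matrix.GeneralLinearGroup.scalar ι du * g with hg₁
  have hg₁val : g₁.1 = d • g.1 := by
    rw [hg₁, Units.val_mul, Matrix.GeneralLinearGroup.coe_scalar, hdu, Units.val_mk0]
    ext a b
    simp [Matrix.mul_apply, Matrix.scalar_apply, Matrix.diagonal_apply]
  have hg₁σ : glmap σ g₁ = g₁ := by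
    apply Units.ext
    rw [glmap_val, hg₁val]
    ext a b
    have h11 := congrFun (congrFun hσg a) b
    simp only [Matrix.map_apply, Matrix.smul_apply, smul_eq_mul] at h11
    simp only [Matrix.map_apply, Matrix.smul_apply, smul_eq_mul, RingHom.coe_coe]
    rw [map_mul, h11]
    linear_combination (g.1 a b) * hd
  obtain ⟨g₀, hg₀⟩ := exists_upGL_of_fixed g₁ hg₁σ
  rw [← hρ₁] at hρM ⊢
  clear hρ₁ hρφ
  set τ₀ := resF σ τ hc with hτ₀def
  -- the pair over the fixed field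
  have hp₀ : Cfsg.IsSemisimilarityPair ⇑(down Q hσQ) g₀ τ₀ := by
    obtain ⟨c₁, hc₁⟩ := hp₁
    obtain ⟨v₀, hv₀⟩ := exists_upV_ne (σ := σ) Q (exists_neO Q hQ hcard)
    have hkey : ∀ v : ι → AutPSL.fixF σ,
        ((down Q hσQ (g₀.1 *ᵥ vmap τ₀ v) : AutPSL.fixF σ) : F) =
          (c₁ : F) * ((τ₀ (down Q hσQ v) : AutPSL.fixF σ) : F) := by
      intro v
      rw [down_apply, ← upGL_mulVec, hg₀, ← vmap_upV_res σ τ hc, resF_coe, down_apply]
      exact hc₁ (upV σ v)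
    have hτv₀ : ((τ₀ (down Q hσQ v₀) : AutPSL.fixF σ) : F) ≠ 0 := by
      rw [resF_coe, down_apply]
      exact (map_ne_zero τ).2 hv₀
    have hc₁fix : σ (c₁ : F) = c₁ := by
      have e : (c₁ : F) = ((down Q hσQ (g₀.1 *ᵥ vmap τ₀ v₀) : AutPSL.fixF σ) : F) /
          ((τ₀ (down Q hσQ v₀) : AutPSL.fixF σ) : F) := by
        rw [hkey v₀]
        field_simp
      rw [e, map_div₀, (AutPSL.mem_fixF_iff σ _).1 (SetLike.coe_mem _),
        (AutPSL.mem_fixF_iff σ _).1 (SetLike.coe_mem _)]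
    have hc₁0 : (⟨(c₁ : F), (AutPSL.mem_fixF_iff σ _).2 hc₁fix⟩ : AutPSL.fixF σ) ≠ 0 := by
      intro h
      exact c₁.ne_zero (congrArg Subtype.val h)
    refine ⟨Units.mk0 _ hc₁0, fun v => ?_⟩
    apply Subtype.ext
    exact hkey v
  have hθ : semiAut ⇑(down Q hσQ) g₀ τ₀ hp₀ = 1 := by
    apply MulEquiv.ext
    intro x
    induction x using QuotientGroup.induction_on with
    | H s =>
      rw [semiAut_mk, MulAut.one_apply]
      symm
      apply QuotientGroup.eq.2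
      apply central_of_scalar
      set ω₀ : ↥(Sim ⇑(down Q hσQ)) := ⟨s.1.1, iso_le_sim _ s.1.2⟩ with hω₀
      have hω₀mem : ω₀.1 ∈ Cfsg.Geo.omegaGL ⇑(down Q hσQ) :=
        (mem_omegaGL_iff _ _).2 ⟨s.1.2, s.2⟩
      have h1 := hρM ω₀ hω₀mem
      have hpL : Cfsg.IsSemisimilarityPair ⇑Q (g₁ * glmap τ (upSim Q hσQ ω₀).1) τ := by
        have := pair_mul ⇑Q hp₁ (pair_refl_of_sim ⇑Q (upSim Q hσQ ω₀))
        exact this
      have hpR : Cfsg.IsSemisimilarityPair ⇑Q ((upSim Q hσQ ω₀).1 * g₁) τ := by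
        have := pair_mul ⇑Q (pair_refl_of_sim ⇑Q (upSim Q hσQ ω₀)) hp₁
        rw [glmap_refl] at this
        exact this
      have h2 : semiAut ⇑Q (g₁ * glmap τ (upSim Q hσQ ω₀).1) τ hpL =
          semiAut ⇑Q ((upSim Q hσQ ω₀).1 * g₁) τ hpR := by
        rw [← semiAut_mul_Phi Q τ hp₁ (upSim Q hσQ ω₀) hpL, h1, ← semiAut_refl, semiAut_mul]
        exact semiAut_congr ⇑Q (by rw [glmap_refl]) rfl _ _
      have h3 := semiAut_eq_imp Q hQ hcard hall _ _ h2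
      rw [upSim_val, ← hg₀, glmap_upGL_res σ τ hc, ← upGL_mul, ← upGL_mul, ← upGL_inv, ← upGL_mul,
        upGL_mem_Zs_iff] at h3
      obtain ⟨c', hc'⟩ := (mem_Zs_iff _).1 h3
      rw [mem_Zs_iff]
      refine ⟨c', ?_⟩
      show (s.1.1)⁻¹ * (g₀ * glmap τ₀ s.1.1 * g₀⁻¹) = _
      have h6 : (s.1.1)⁻¹ * (g₀ * glmap τ₀ s.1.1 * g₀⁻¹) =
          g₀ * ((ω₀.1 * g₀)⁻¹ * (g₀ * glmap τ₀ ω₀.1)) * g₀⁻¹ := by
        rw [hω₀]
        group
      rw [h6, hc', ← Matrix.GeneralLinearGroup.scalar_commute, mul_inv_cancel_right]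
  obtain ⟨hτ₀1, hg₀Z⟩ := semi_ker_all (down Q hσQ) hQ₀ hcard g₀ τ₀ hp₀ hθ
  have hτmem : τ ∈ Subgroup.zpowers σ :=
    mem_zpowers_of_fix σ τ (fun x hx => fix_of_resF_refl σ τ hc hτ₀1 x hx)
  have hg₁Z : g₁ ∈ Zs ι F := by
    rw [← hg₀, upGL_mem_Zs_iff]
    exact hg₀Z
  -- `ρ = semiAut 1 τ`
  have hp1τ : Cfsg.IsSemisimilarityPair ⇑Q (1 : GL ι F) τ := by
    obtain ⟨hp', -⟩ := semiAut_Zs_mul Q hQ hcard g₁⁻¹ (Subgroup.inv_mem _ hg₁Z) hp₁
    rwa [inv_mul_cancel] at hp'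
  have hρ1 : semiAut ⇑Q g₁ τ hp₁ = semiAut ⇑Q 1 τ hp1τ := by
    obtain ⟨hp', h⟩ := semiAut_Zs_mul Q hQ hcard g₁ hg₁Z hp1τ
    rw [← h]
    exact semiAut_congr ⇑Q (by rw [mul_one]) rfl _ _
  rw [hρ1]
  haveI : Finite (F ≃+* F) := Finite.of_injective (fun σ => (σ : F → F)) DFunLike.coe_injective
  rw [← mem_powers_iff_mem_zpowers] at hτmem
  obtain ⟨k, hk⟩ := hτmem
  refine ⟨(k : ℤ), ?_⟩
  show stdAut Q σ hσQ ^ (k : ℤ) = _
  rw [zpow_natCast]
  unfold stdAut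
  rw [semiAut_pow]
  exact semiAut_congr ⇑Q (PN_one σ k) hk _ _

end gen

section char2

variable {F : Type*} [Field F] [Fintype F] {ι : Type} [Fintype ι] [DecidableEq ι]
variable {σ : F ≃+* F} (Q : QuadraticForm F (ι → F)) (hσQ : SigEq σ Q)
variable (hQ : (polarBilin Q).Nondegenerate) (hcard : 7 ≤ Fintype.card ι)

include hQ hcard in
/-- characteristic two: the inner automorphisms commuting with the standard field automorphism
come from `Ω` over the fixed field -/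
theorem inn_cent_le_Msub2 [CharP F 2] {r : ℕ} (hr : 0 < r) (hσ : orderOf σ = r) :
    Cfsg.Inn (Cfsg.POmega F ⇑Q) ⊓ Subgroup.centralizer {stdAut Q σ hσQ} ≤ Msub Q hσQ := by
  classical
  haveI : Fintype (AutPSL.fixF σ) := Fintype.ofFinite _
  haveI : Nonempty ι := by rw [← Fintype.card_pos_iff]; omega
  have hker := ker_Phi_all Q hQ hcard
  have hQ₀ := down_nondeg Q hσQ hQ
  rintro β ⟨hβI, hβC⟩
  have h1 : β ∈ (Phi ⇑Q).range ⊓ Subgroup.centralizer {stdAut Q σ hσQ} := by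
    refine ⟨?_, hβC⟩
    rw [inn_eq] at hβI
    obtain ⟨ω, -, rfl⟩ := hβI
    exact ⟨ω, rfl⟩
  rw [centralizer_stdAut Q hσQ hker (exists_neO Q hQ hcard) hr hσ] at h1
  obtain ⟨s₀, hs₀⟩ := h1
  rw [MonoidHom.comp_apply] at hs₀
  rw [inn_eq] at hβI
  obtain ⟨ω, hω, hωβ⟩ := hβI
  rw [SetLike.mem_coe, Subgroup.mem_subgroupOf] at hω
  have h3 : ω⁻¹ * upSim Q hσQ s₀ ∈ (Phi ⇑Q).ker := by
    rw [MonoidHom.mem_ker, map_mul, map_inv, hωβ, hs₀, inv_mul_cancel]
  rw [hker, Subgroup.mem_subgroupOf] at h3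
  obtain ⟨c, hc⟩ := (mem_Zs_iff _).1 h3
  have hc' : upGL s₀.1 = ω.1 * Matrix.GeneralLinearGroup.scalar ι c := by
    have h4 : (ω.1)⁻¹ * upGL s₀.1 = Matrix.GeneralLinearGroup.scalar ι c := hc
    rw [← h4]
    group
  obtain ⟨v₀, hv₀⟩ := exists_upV_ne (σ := σ) Q (exists_neO Q hQ hcard)
  have hωiso : ∀ x, Q (ω.1.1 *ᵥ x) = Q x :=
    (Cfsg.Agent.Lib.H11.ConfOrth.mem_iso_iff _ _).1 (omegaGL_le_iso _ hω)
  have hcsq : (c : F) ^ 2 * Q (upV σ v₀) = Q (upV σ (s₀.1.1 *ᵥ v₀)) := by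
    rw [← upGL_mulVec, hc', Units.val_mul, ← Matrix.mulVec_mulVec, hωiso, scalar_mulVec,
      QuadraticMap.map_smul, smul_eq_mul]
    ring
  have hfix : σ ((c : F) ^ 2) = (c : F) ^ 2 := by
    have e : (c : F) ^ 2 = Q (upV σ (s₀.1.1 *ᵥ v₀)) / Q (upV σ v₀) := by
      rw [← hcsq]
      field_simp
    rw [e, map_div₀, ← down_apply Q hσQ, ← down_apply Q hσQ,
      (AutPSL.mem_fixF_iff σ _).1 (SetLike.coe_mem _),
      (AutPSL.mem_fixF_iff σ _).1 (SetLike.coe_mem _)]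
  have hσc : σ (c : F) = c := by
    rw [map_pow] at hfix
    have h5 : (σ (c : F) - c) ^ 2 = 0 := by
      rw [sub_sq, hfix]
      have h2 : (2 : F) = 0 := CharTwo.two_eq_zero
      linear_combination ((c : F) ^ 2 - σ (c : F) * c) * h2
    exact sub_eq_zero.1 (pow_eq_zero_iff (two_ne_zero) |>.1 h5)
  have hc0 : (⟨(c : F), (AutPSL.mem_fixF_iff σ _).2 hσc⟩ : AutPSL.fixF σ) ≠ 0 := by
    intro h
    exact c.ne_zero (congrArg Subtype.val h)
  set c₀ : (AutPSL.fixF σ)ˣ := Units.mk0 _ hc0 with hc₀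
  have hc₀c : Units.map (AutPSL.fixF σ).subtype.toMonoidHom c₀ = c := Units.ext rfl
  set ω₀ : GL ι (AutPSL.fixF σ) := (Matrix.GeneralLinearGroup.scalar ι c₀)⁻¹ * s₀.1 with hω₀
  have hup : upGL ω₀ = ω.1 := by
    rw [hω₀, upGL_mul, upGL_inv, upGL_scalar, hc₀c, hc',
      ← Matrix.GeneralLinearGroup.scalar_commute, inv_mul_cancel_left]
  have hω₀iso : ω₀ ∈ Cfsg.isometryGroup (AutPSL.fixF σ) ⇑(down Q hσQ) :=
    mem_iso_of_upGL Q hσQ ω₀ (by rw [hup]; exact omegaGL_le_iso _ hω)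
  have hω₀Ω : ω₀ ∈ Cfsg.Geo.omegaGL ⇑(down Q hσQ) := by
    rw [mem_omegaGL_iff]
    refine ⟨hω₀iso, ?_⟩
    rw [← up_mem_Omega_iff Q hσQ hQ hcard ω₀ hω₀iso]
    obtain ⟨h, hs⟩ := (mem_omegaGL_iff _ _).1 hω
    convert hs using 2
  rw [mem_Msub_iff]
  refine ⟨⟨ω₀, omegaGL_le_sim _ hω₀Ω⟩, hω₀Ω, ?_⟩
  rw [← hωβ]
  congr 1
  exact Subtype.ext hup

end char2

section simple

variable {F : Type*} [Field F] [Fintype F] {ι : Type} [Fintype ι] [DecidableEq ι]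
variable {σ : F ≃+* F} (Q : QuadraticForm F (ι → F)) (hσQ : SigEq σ Q)
variable (hQ : (polarBilin Q).Nondegenerate) (hcard : 8 ≤ Fintype.card ι)

include hQ hcard in
/-- `Msub` is simple (all characteristics, dimension at least 8) -/
theorem Msub_simple_all : IsSimpleGroup ↥(Msub Q hσQ) := by
  classical
  haveI : Fintype (AutPSL.fixF σ) := Fintype.ofFinite _
  haveI : Nonempty ι := by rw [← Fintype.card_pos_iff]; omega
  have hc7 : 7 ≤ Fintype.card ι := by omega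
  have hker := ker_Phi_all Q hQ hc7
  have hQ₀ := down_nondeg Q hσQ hQ
  have hker₀ := ker_Phi_all (down Q hσQ) hQ₀ hc7
  have hk : ((Phi ⇑Q).comp (upSim Q hσQ)).ker = (Phi ⇑(down Q hσQ)).ker := by
    rw [ker_Phi_upSim Q hσQ hker, hker₀]
  obtain ⟨E1⟩ := map_equiv_of_ker_eq ((Phi ⇑Q).comp (upSim Q hσQ)) (Phi ⇑(down Q hσQ)) hk
    ((Cfsg.Geo.omegaGL ⇑(down Q hσQ)).subgroupOf (Sim ⇑(down Q hσQ)))
  have h3 : ((Cfsg.Geo.omegaGL ⇑(down Q hσQ)).subgroupOf (Sim ⇑(down Q hσQ))).map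
      (Phi ⇑(down Q hσQ)) = Cfsg.Inn (Cfsg.POmega (AutPSL.fixF σ) ⇑(down Q hσQ)) :=
    (inn_eq _).symm
  have E2 := MonoidHom.ofInjective (conj_injective_pomega (down Q hσQ) hker₀)
  haveI := Cfsg.Agent.Lib.H11.OmegaAll.simple_any (down Q hσQ) hQ₀ hcard (fun h2 => by
    haveI : CharP (AutPSL.fixF σ) 2 := CharTwo.of_one_ne_zero_of_two_eq_zero one_ne_zero h2
    refine Cfsg.Agent.S0789.result (by omega) _
      (Cfsg.Agent.Lib.H11.IsoReindex.nondeg_trQF _ _ hQ₀) (Or.inr (by omega)))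
  exact ((E1.trans (MulEquiv.subgroupCongr h3)).trans E2.symm).isSimpleGroup

end simple

section corestd

variable {F : Type*} [Field F] [Fintype F] {ι : Type} [Fintype ι] [DecidableEq ι]
variable (Q : QuadraticForm F (ι → F))
variable (hQ : (polarBilin Q).Nondegenerate) (hcard : 8 ≤ Fintype.card ι)
variable (hall : Cfsg.gammaPOmega F ⇑Q = ⊤)

include hQ hcard hall in
/-- local balance for the standard field automorphism of odd prime order `p` of a form compatible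
with `σ` only: all characteristics -/
theorem core_std_gen (σ : F ≃+* F) (hσQ : SigEq σ Q)
    (hcomm : ∀ τ : F ≃+* F, ∀ x, τ (σ x) = σ (τ x))
    {p : ℕ} (hp : p.Prime) (hpodd : Odd p) (hσ : orderOf σ = p)
    (A : Subgroup (MulAut (Cfsg.POmega F ⇑Q))) (hInnA : Cfsg.Inn (Cfsg.POmega F ⇑Q) ≤ A) :
    HasNPC p ↥(A ⊓ Subgroup.centralizer {stdAut Q σ hσQ}) ↔
      (Nat.card ↥(Cfsg.Inn (Cfsg.POmega F ⇑Q) ⊓
        Subgroup.centralizer {stdAut Q σ hσQ})).Coprime p := by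
  classical
  haveI : Nonempty ι := by rw [← Fintype.card_pos_iff]; omega
  haveI := inn_normal (Cfsg.POmega F ⇑Q)
  have hc7 : 7 ≤ Fintype.card ι := by omega
  have hker := ker_Phi_all Q hQ hc7
  have hMN : Msub Q hσQ ≤ Cfsg.Inn (Cfsg.POmega F ⇑Q) ⊓
      Subgroup.centralizer {stdAut Q σ hσQ} :=
    le_inf (Msub_le_inn Q hσQ) (Msub_le_cent Q hσQ)
  have hsimp := Msub_simple_all Q hσQ hQ hcard
  have hNM : Cfsg.Inn (Cfsg.POmega F ⇑Q) ⊓ Subgroup.centralizer {stdAut Q σ hσQ} ≤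
      Msub Q hσQ := by
    by_cases h2 : (2 : F) = 0
    · haveI : CharP F 2 := CharTwo.of_one_ne_zero_of_two_eq_zero one_ne_zero h2
      exact inn_cent_le_Msub2 Q hσQ hQ hc7 hp.pos hσ
    · exact inn_cent_le_Msub Q hσQ hQ h2 hc7 hpodd hσ
  have hEq : Cfsg.Inn (Cfsg.POmega F ⇑Q) ⊓ Subgroup.centralizer {stdAut Q σ hσQ} =
      Msub Q hσQ := le_antisymm hNM hMN
  refine Cfsg.Agent.Lib.H13.Sp4Graph.core_abstract (Cfsg.Inn (Cfsg.POmega F ⇑Q)) A (Msub Q hσQ)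
    (stdAut Q σ hσQ) hp ?_ hInnA hMN ?_ ?_ ?_ ?_
  · rw [orderOf_stdAutA Q σ hQ hc7 hall hσQ, hσ]
  · intro ρ hρ hρM
    refine cent_M_le_gen Q hQ hc7 hall σ hσQ hcomm hp.pos hσ ρ ?_ ?_
    · have h1 : ρ ∈ Subgroup.centralizer {stdAut Q σ hσQ} := hρ.2
      rw [Subgroup.mem_centralizer_iff] at h1
      exact (h1 _ (Set.mem_singleton _)).symm
    · intro ω₀ hω₀
      exact hρM _ ((mem_Msub_iff Q hσQ _).2 ⟨ω₀, hω₀, rfl⟩)
  · intro ν hν μ hμ
    rw [hEq] at hν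
    exact (Msub Q hσQ).mul_mem ((Msub Q hσQ).mul_mem hν hμ) ((Msub Q hσQ).inv_mem hν)
  · intro N' hN'M hnorm hne hcop
    rw [hEq]
    have hM' : (N'.subgroupOf (Msub Q hσQ)).Normal := by
      constructor
      intro n hn g
      rw [Subgroup.mem_subgroupOf] at hn ⊢
      simp only [Subgroup.coe_mul, Subgroup.coe_inv]
      exact hnorm g.1 g.2 n.1 hn
    haveI := hsimp
    rcases hM'.eq_bot_or_eq_top with hbot | htop
    · exfalso
      apply hne
      rw [Subgroup.subgroupOf_eq_bot] at hbot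
      have := disjoint_iff.1 hbot
      rwa [inf_of_le_left hN'M] at this
    · rw [Subgroup.subgroupOf_eq_top] at htop
      exact Nat.Coprime.coprime_dvd_left (Subgroup.card_dvd_of_le htop) hcop
  · intro hbot
    haveI := hsimp
    obtain ⟨x, hx⟩ := exists_ne (1 : ↥(Msub Q hσQ))
    apply hx
    apply Subtype.ext
    have h5 : (x : MulAut (Cfsg.POmega F ⇑Q)) ∈ (⊥ : Subgroup _) := by
      rw [← hbot]
      exact x.2
    exact Subgroup.mem_bot.1 h5

end corestd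

end

section

open Matrix QuadraticMap Module
open Cfsg.Agent.Lib.H11.ConfOrth
open Cfsg.Agent.Lib.H13 Cfsg.Agent.Lib.H13.HypPairs Cfsg.Agent.Lib.H13.PlusTS
open Cfsg.Agent.Lib.H13.AutPO

section langsemi

variable {F : Type*} [Field F] [Fintype F] {ι : Type} [Fintype ι] [DecidableEq ι]
variable (Q : QuadraticForm F (ι → F)) (σ : F ≃+* F)

omit [Fintype F] in
/-- the multiplier of the partial norms of a semisimilarity -/
theorem PN_mult_semi (g : GL ι F) (c : F) (hc : ∀ v, Q (g.1 *ᵥ vmap σ v) = c * σ (Q v))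
    (i : ℕ) (v : ι → F) :
    Q ((PN σ g i).1 *ᵥ vmap (σ ^ i) v) = AutPSL.Nm σ i c * (σ ^ i) (Q v) := by
  induction i generalizing v with
  | zero =>
    rw [PN_zero, AutPSL.Nm_zero, pow_zero, Units.val_one, Matrix.one_mulVec, one_mul]
    rfl
  | succ i ih =>
    have e1 : (PN σ g (i + 1)).1 *ᵥ vmap (σ ^ (i + 1)) v =
        g.1 *ᵥ vmap σ ((PN σ g i).1 *ᵥ vmap (σ ^ i) v) := by
      rw [PN_succ, Units.val_mul, glmap_val, ← Matrix.mulVec_mulVec, ← map_mulVec_vmap]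
      congr 2
      rw [pow_succ']
      rfl
    rw [e1, hc, ih, AutPSL.Nm_succ', map_mul, pow_succ', RingAut.mul_apply]
    ring

/-- Lang-type statement for a semisimilarity of an arbitrary form: it is the standard semilinear map
of a similar form with coefficients in the fixed field -/
theorem lang_semi (hQ : (polarBilin Q).Nondegenerate) (hne : ∃ v, Q v ≠ 0)
    {r : ℕ} (hr : 0 < r) (hσ : orderOf σ = r)
    (g : GL ι F) (c : F) (hc : ∀ v, Q (g.1 *ᵥ vmap σ v) = c * σ (Q v)) (hN : PN σ g r = 1) :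
    ∃ (h : GL ι F) (l : F), l ≠ 0 ∧ g * glmap σ h = h ∧
      SigEq σ (l⁻¹ • Q.comp (Matrix.toLin' h.1)) := by
  have hσr : σ ^ r = 1 := by rw [← hσ, pow_orderOf_eq_one]
  have hNc : AutPSL.Nm σ r c = 1 := by
    obtain ⟨v, hv⟩ := hne
    have h1 := PN_mult_semi Q σ g c hc r v
    rw [hN, hσr, Units.val_one] at h1
    have h2 : vmap (1 : F ≃+* F) v = v := rfl
    rw [h2, Matrix.one_mulVec, RingAut.one_apply] at h1
    have h3 : (AutPSL.Nm σ r c - 1) * Q v = 0 := by linear_combination -h1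
    rcases mul_eq_zero.1 h3 with h4 | h4
    · linear_combination h4
    · exact absurd h4 hv
  obtain ⟨l, hl0, hl⟩ := AutPSL.hilbert90_scalar σ hr hσ c hNc
  obtain ⟨h, hh⟩ := hilbert90_GLι σ hr hσ g hN
  have hσl : σ l ≠ 0 := (map_ne_zero σ).2 hl0
  refine ⟨h, l, hl0, hh, ?_⟩
  have hQ'v : ∀ v, (l⁻¹ • Q.comp (Matrix.toLin' h.1)) v = l⁻¹ * Q (h.1 *ᵥ v) := by
    intro v
    rw [QuadraticMap.smul_apply, QuadraticMap.comp_apply, Matrix.toLin'_apply, smul_eq_mul]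
  intro u
  rw [hQ'v, hQ'v]
  have e1 : h.1 *ᵥ vmap σ u = g.1 *ᵥ vmap σ (h.1 *ᵥ u) := by
    conv_lhs => rw [← hh]
    rw [Units.val_mul, glmap_val, ← Matrix.mulVec_mulVec, map_mulVec_vmap]
  rw [e1, hc, map_mul, map_inv₀]
  have hc' : c = l * (σ l)⁻¹ := (eq_mul_inv_iff_mul_eq₀ hσl).2 hl
  rw [hc']
  field_simp

end langsemi

section rescale

variable {F : Type*} [Field F] [Fintype F] {ι : Type} [Fintype ι] [DecidableEq ι]
variable (Q : QuadraticForm F (ι → F)) (σ : F ≃+* F)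
variable (hQ : (polarBilin Q).Nondegenerate) (hcard : 7 ≤ Fintype.card ι)

include hQ hcard in
/-- an automorphism of order dividing `r = |σ|` induced by a `σ`-semilinear map is induced by one
whose partial norm is trivial -/
theorem rescale_pair {r : ℕ} (hr : 0 < r) (hσ : orderOf σ = r) (g : GL ι F)
    (hp : Cfsg.IsSemisimilarityPair ⇑Q g σ) (hpow : (semiAut ⇑Q g σ hp) ^ r = 1) :
    ∃ (g₁ : GL ι F) (hp₁ : Cfsg.IsSemisimilarityPair ⇑Q g₁ σ),
      semiAut ⇑Q g₁ σ hp₁ = semiAut ⇑Q g σ hp ∧ PN σ g₁ r = 1 := by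
  have hσr : σ ^ r = 1 := by rw [← hσ, pow_orderOf_eq_one]
  rw [semiAut_pow] at hpow
  obtain ⟨-, hz⟩ := semi_ker_all Q hQ hcard _ _ _ hpow
  obtain ⟨c, hc⟩ := (mem_Zs_iff _).1 hz
  have hcσ : σ (c : F) = c := by
    have h1 := PN_succ_right σ g r
    rw [PN_succ, hc, hσr] at h1
    have h3 : glmap (1 : F ≃+* F) g = g := glmap_refl _
    rw [h3] at h1
    have h4 : glmap σ (Matrix.GeneralLinearGroup.scalar ι c) =
        Matrix.GeneralLinearGroup.scalar ι (Units.map (σ : F →* F) c) := by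
      apply Units.ext
      rw [glmap_val, Matrix.GeneralLinearGroup.coe_scalar, Matrix.GeneralLinearGroup.coe_scalar]
      ext a b
      rw [Matrix.map_apply, Matrix.scalar_apply, Matrix.scalar_apply, Matrix.diagonal_apply,
        Matrix.diagonal_apply]
      split_ifs
      · rfl
      · exact map_zero σ
    rw [h4, ← Matrix.GeneralLinearGroup.scalar_commute] at h1
    have h5 := mul_right_cancel h1
    have hne' : Nonempty ι := by
      rw [← Fintype.card_pos_iff]; omega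
    obtain ⟨i⟩ := hne'
    have h6 := congrArg (fun M : GL ι F => (M : Matrix ι ι F) i i) h5
    simp only [Matrix.GeneralLinearGroup.coe_scalar, Matrix.scalar_apply,
      Matrix.diagonal_apply_eq] at h6
    exact h6
  have hc0 : ((c⁻¹ : Fˣ) : F) ≠ 0 := Units.ne_zero _
  have hcσ' : σ ((c⁻¹ : Fˣ) : F) = ((c⁻¹ : Fˣ) : F) := by
    rw [Units.val_inv_eq_inv_val, map_inv₀, hcσ]
  obtain ⟨d, hd0, hd⟩ := AutPSL.Nm_surjective σ hr hσ _ hc0 hcσ'
  set du : Fˣ := Units.mk0 d hd0 with hdu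
  obtain ⟨hp₁, h₁⟩ := semiAut_Zs_mul Q hQ hcard (Matrix.GeneralLinearGroup.scalar ι du)
    ((mem_Zs_iff _).2 ⟨du, rfl⟩) hp
  refine ⟨_, hp₁, h₁, ?_⟩
  rw [PN_scalar_mul σ du g r, hc, ← map_mul]
  have : Units.mk0 (AutPSL.Nm σ r (du : F)) (AutPSL.Nm_ne_zero σ r du.ne_zero) * c = 1 := by
    apply Units.ext
    rw [Units.val_mul, Units.val_mk0, hdu, Units.val_mk0, hd, Units.val_one,
      Units.inv_mul]
  rw [this, map_one]

end rescale

end

section

open Matrix QuadraticMap Module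
open Cfsg.Agent.Lib.H11.ConfOrth
open Cfsg.Agent.Lib.H13 Cfsg.Agent.Lib.H13.HypPairs Cfsg.Agent.Lib.H13.PlusTS
open Cfsg.Agent.Lib.H13.AutPO

section model

variable {F : Type*} [Field F] {m : ℕ}

local notation "IM" => ((Fin m ⊕ Fin m) ⊕ Fin 2)

/-- the linear map spanning a totally singular subspace of dimension `m + 1` of a minus-type form
with isotropic binary part -/
def tsMap (z₁ z₂ : F) : ((Fin m → F) × F) →ₗ[F] (IM → F) where
  toFun p := Sum.elim (Sum.elim p.1 0) (fun j => if j = 0 then p.2 * z₁ else p.2 * z₂)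
  map_add' p q := by
    funext i
    rcases i with (i | i) | j
    · simp
    · simp
    · simp only [Sum.elim_inr, Pi.add_apply, Prod.snd_add]
      split_ifs <;> ring
  map_smul' c p := by
    funext i
    rcases i with (i | i) | j
    · simp
    · simp
    · simp only [Sum.elim_inr, Pi.smul_apply, Prod.smul_snd, smul_eq_mul, RingHom.id_apply]
      split_ifs <;> ring

theorem tsMap_injective (z₁ z₂ : F) (hz : z₁ ≠ 0 ∨ z₂ ≠ 0) :
    Function.Injective (tsMap (m := m) z₁ z₂) := by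
  intro p q h
  have h1 : ∀ i, tsMap (m := m) z₁ z₂ p i = tsMap (m := m) z₁ z₂ q i := fun i => congrFun h i
  apply Prod.ext
  · funext i
    have := h1 (Sum.inl (Sum.inl i))
    simpa [tsMap] using this
  · have e0 := h1 (Sum.inr 0)
    have e1 := h1 (Sum.inr 1)
    simp only [tsMap, LinearMap.coe_mk, AddHom.coe_mk, Sum.elim_inr, if_true] at e0
    simp only [tsMap, LinearMap.coe_mk, AddHom.coe_mk, Sum.elim_inr, Fin.one_eq_zero_iff,
      OfNat.ofNat_ne_one, if_false] at e1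
    rcases hz with hz | hz
    · exact mul_right_cancel₀ hz e0
    · exact mul_right_cancel₀ hz e1

theorem ts_of_iso_binary (a b z₁ z₂ : F) (hz : z₁ ≠ 0 ∨ z₂ ≠ 0)
    (h : z₁ ^ 2 + a * z₁ * z₂ + b * z₂ ^ 2 = 0) :
    ∃ U : Submodule F (IM → F), finrank F U = m + 1 ∧ ∀ u ∈ U, minusQF F m a b u = 0 := by
  refine ⟨LinearMap.range (tsMap (m := m) z₁ z₂), ?_, ?_⟩
  · rw [LinearMap.finrank_range_of_inj (tsMap_injective z₁ z₂ hz), Module.finrank_prod,
      Module.finrank_fintype_fun_eq_card, Module.finrank_self, Fintype.card_fin]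
  · rintro _ ⟨p, rfl⟩
    rw [minusQF_apply]
    unfold Cfsg.quadFormMinus
    simp only [tsMap, LinearMap.coe_mk, AddHom.coe_mk, Sum.elim_inl, Sum.elim_inr, Pi.zero_apply,
      mul_zero, Finset.sum_const_zero, zero_add, if_true, Fin.one_eq_zero_iff,
      OfNat.ofNat_ne_one, if_false]
    linear_combination p.2 ^ 2 * h

/-- a minus-type form similar to one with anisotropic binary part has anisotropic binary part -/
theorem aniso_of_similar [Fintype F] (a b a' b' : F)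
    (hab : ∀ z₁ z₂ : F, z₁ ^ 2 + a * z₁ * z₂ + b * z₂ ^ 2 = 0 → z₁ = 0 ∧ z₂ = 0)
    (L : GL IM F) (l : F) (hl : l ≠ 0)
    (hL : ∀ v, minusQF F m a b (L.1 *ᵥ v) = l * minusQF F m a' b' v) :
    ∀ z₁ z₂ : F, z₁ ^ 2 + a' * z₁ * z₂ + b' * z₂ ^ 2 = 0 → z₁ = 0 ∧ z₂ = 0 := by
  intro z₁ z₂ h
  by_contra hne
  have hz : z₁ ≠ 0 ∨ z₂ ≠ 0 := by
    by_contra h'
    push Not at h'
    exact hne h'
  obtain ⟨U, hUfin, hUts⟩ := ts_of_iso_binary (m := m) a' b' z₁ z₂ hz h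
  have hts : ∀ x ∈ U.map ((Char2Mat.toEquiv L : (IM → F) ≃ₗ[F] (IM → F)) :
      (IM → F) →ₗ[F] (IM → F)), minusQF F m a b x = 0 := by
    rintro _ ⟨u, hu, rfl⟩
    rw [LinearEquiv.coe_coe, Char2Mat.toEquiv_apply, hL, hUts u hu, mul_zero]
  have h3 := no_ts_minus m a b hab _ hts
  rw [LinearEquiv.finrank_map_eq, hUfin] at h3
  omega

/-- a form with coefficients in the fixed field of `σ`, similar to a minus-type form with anisotropic
binary part, is similar through a `σ`-fixed matrix to a minus-type form with anisotropic binary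
part with coefficients in the fixed field -/
theorem exists_std_model [Fintype F] (σ : F ≃+* F) (a b : F)
    (hab : ∀ z₁ z₂ : F, z₁ ^ 2 + a * z₁ * z₂ + b * z₂ ^ 2 = 0 → z₁ = 0 ∧ z₂ = 0)
    (Q'' : QuadraticForm F (IM → F)) (hQ'' : (polarBilin Q'').Nondegenerate)
    (hσQ'' : SigEq σ Q'') (h : GL IM F) (l : F) (hl : l ≠ 0)
    (hsim : ∀ v, Q'' v = l * minusQF F m a b (h.1 *ᵥ v)) :
    ∃ (ζ : F) (k : GL IM F) (c : F), c ≠ 0 ∧ σ ζ = ζ ∧ glmap σ k = k ∧
      (∀ z₁ z₂ : F, z₁ ^ 2 + 1 * z₁ * z₂ + ζ * z₂ ^ 2 = 0 → z₁ = 0 ∧ z₂ = 0) ∧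
      ∀ v, Q'' (k.1 *ᵥ v) = c * minusQF F m 1 ζ v := by
  haveI : Fintype (AutPSL.fixF σ) := Fintype.ofFinite _
  have hfr : finrank (AutPSL.fixF σ) (IM → AutPSL.fixF σ) = 2 * (m + 1) := by
    rw [Module.finrank_fintype_fun_eq_card, card_minus]
  rcases MinusClass.classify (down Q'' hσQ'') (down_nondeg Q'' hσQ'' hQ'') (d := m + 1) (by omega)
    hfr with ⟨Φ, hΦ⟩ | ⟨ζ₀, hζ₀, Φ, hΦ⟩
  · exfalso
    obtain ⟨U, hUfin, hUts⟩ := ts_of_plus_down Q'' hσQ'' (m + 1) Φ hΦ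
    have hts : ∀ x ∈ U.map ((Char2Mat.toEquiv h : (IM → F) ≃ₗ[F] (IM → F)) :
        (IM → F) →ₗ[F] (IM → F)), minusQF F m a b x = 0 := by
      rintro _ ⟨u, hu, rfl⟩
      rw [LinearEquiv.coe_coe, Char2Mat.toEquiv_apply]
      have h1 := hsim u
      rw [hUts u hu] at h1
      rcases mul_eq_zero.1 h1.symm with h0 | h0
      · exact absurd h0 hl
      · exact h0
    have h3 := no_ts_minus m a b hab _ hts
    rw [LinearEquiv.finrank_map_eq, hUfin] at h3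
    omega
  · obtain ⟨Φ, hΦ⟩ : ∃ Φ' : (IM → AutPSL.fixF σ) ≃ₗ[AutPSL.fixF σ] (IM → AutPSL.fixF σ),
        ∀ v, down Q'' hσQ'' v = Cfsg.quadFormMinus m (AutPSL.fixF σ) 1 ζ₀ (Φ' v) := ⟨Φ, hΦ⟩
    have hζσ : σ (ζ₀ : F) = ζ₀ := (AutPSL.mem_fixF_iff σ _).1 ζ₀.2
    have hσQ := sigEq_minus (m := m) σ 1 (ζ₀ : F) (map_one σ) hζσ
    have hfs : FixSim (minusQF F m 1 (ζ₀ : F)) σ Q'' := by
      apply fixSim_of_down (minusQF F m 1 (ζ₀ : F)) σ hσQ Q'' hσQ'' Φ.symm 1 one_ne_zero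
      intro v
      rw [hΦ, LinearEquiv.apply_symm_apply, one_mul,
        down_minus σ 1 (ζ₀ : F) hσQ (1 : AutPSL.fixF σ) ζ₀ rfl rfl, minusQF_apply]
    obtain ⟨k, c, hc0, hkσ, hk⟩ := hfs
    refine ⟨(ζ₀ : F), k, c, hc0, hζσ, hkσ, ?_, hk⟩
    apply aniso_of_similar a b 1 (ζ₀ : F) hab (h * k) (l⁻¹ * c) (mul_ne_zero (inv_ne_zero hl) hc0)
    intro v
    have h1 := hsim (k.1 *ᵥ v)
    rw [hk] at h1
    rw [Units.val_mul, ← Matrix.mulVec_mulVec]
    have h2 : minusQF F m a b (h.1 *ᵥ (k.1 *ᵥ v)) = l⁻¹ * (c * minusQF F m 1 (ζ₀ : F) v) := by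
      rw [h1, ← mul_assoc, inv_mul_cancel₀ hl, one_mul]
    rw [h2, mul_assoc]

end model

end

section

open Matrix QuadraticMap Module
open Cfsg.Agent.Lib.H11.ConfOrth
open Cfsg.Agent.Lib.H13 Cfsg.Agent.Lib.H13.HypPairs Cfsg.Agent.Lib.H13.PlusTS
open Cfsg.Agent.Lib.H13.AutPO

section conjLs

variable {F : Type*} [Field F] {ι : Type} [Fintype ι] [DecidableEq ι]
variable (Q Q' : (ι → F) → F) (L : GL ι F) (l : F) (hl : l ≠ 0)
variable (hL : ∀ v, Q (L.1 *ᵥ v) = l * Q' v)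

include hl hL in
theorem hLs_inv : ∀ v, Q' ((L⁻¹).1 *ᵥ v) = l⁻¹ * Q v := by
  intro v
  have := hL ((L⁻¹).1 *ᵥ v)
  rw [mulVec_inv_mulVec] at this
  rw [this, ← mul_assoc, inv_mul_cancel₀ hl, one_mul]

include hl hL in
theorem conjLs_mem_iso {s : GL ι F} (hs : s ∈ Cfsg.isometryGroup F Q') :
    L * s * L⁻¹ ∈ Cfsg.isometryGroup F Q := by
  rw [Cfsg.Agent.Lib.H11.ConfOrth.mem_iso_iff] at hs ⊢
  intro v
  have h1 : (L * s * L⁻¹).1 *ᵥ v = L.1 *ᵥ (s.1 *ᵥ ((L⁻¹).1 *ᵥ v)) := by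
    rw [Units.val_mul, Units.val_mul, ← Matrix.mulVec_mulVec, ← Matrix.mulVec_mulVec]
  rw [h1, hL, hs, hLs_inv Q Q' L l hl hL, ← mul_assoc, mul_inv_cancel₀ hl, one_mul]

/-- conjugation by a linear similarity between two forms, on the isometry groups -/
def conjLOs : ↥(Cfsg.isometryGroup F Q') ≃* ↥(Cfsg.isometryGroup F Q) where
  toFun k := ⟨L * k.1 * L⁻¹, conjLs_mem_iso Q Q' L l hl hL k.2⟩
  invFun k := ⟨L⁻¹ * k.1 * (L⁻¹)⁻¹, conjLs_mem_iso Q' Q L⁻¹ l⁻¹ (inv_ne_zero hl)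
    (hLs_inv Q Q' L l hl hL) k.2⟩
  left_inv k := by
    apply Subtype.ext
    simp only [inv_inv]
    group
  right_inv k := by
    apply Subtype.ext
    simp only [inv_inv]
    group
  map_mul' k k' := by
    apply Subtype.ext
    simp only [Subgroup.coe_mul]
    group

theorem conjLOs_val (k : ↥(Cfsg.isometryGroup F Q')) :
    (conjLOs Q Q' L l hl hL k).1 = L * k.1 * L⁻¹ := rfl

/-- the induced isomorphism `PΩ(Q') ≃* PΩ(Q)` -/
noncomputable def conjLPs : Cfsg.POmega F Q' ≃* Cfsg.POmega F Q :=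
  Cfsg.Agent.Lib.H11.OmegaSimple.centerQuotCongr
    (Cfsg.Agent.Lib.H11.OmegaSimple.commutatorCongr (conjLOs Q Q' L l hl hL))

theorem conjLPs_mk (s : ↥(Cfsg.Omega F Q')) :
    conjLPs Q Q' L l hl hL (QuotientGroup.mk s) =
      QuotientGroup.mk (Cfsg.Agent.Lib.H11.OmegaSimple.commutatorCongr
        (conjLOs Q Q' L l hl hL) s) := rfl

theorem commutatorCongrs_val (s : ↥(Cfsg.Omega F Q')) :
    ((Cfsg.Agent.Lib.H11.OmegaSimple.commutatorCongr (conjLOs Q Q' L l hl hL) s :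
      ↥(Cfsg.Omega F Q)) : ↥(Cfsg.isometryGroup F Q)) = conjLOs Q Q' L l hl hL s.1 := rfl

variable [Fintype F]

include hl hL in
theorem pair_conjLs {g : GL ι F} {σ : F ≃+* F} (hp : Cfsg.IsSemisimilarityPair Q' g σ) :
    Cfsg.IsSemisimilarityPair Q (L * g * glmap σ L⁻¹) σ := by
  obtain ⟨c, hc⟩ := hp
  have hσl : σ l ≠ 0 := (map_ne_zero σ).2 hl
  refine ⟨Units.mk0 (l * c * (σ l)⁻¹) (mul_ne_zero (mul_ne_zero hl c.ne_zero)
    (inv_ne_zero hσl)), fun v => ?_⟩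
  have h1 : (L * g * glmap σ L⁻¹).1 *ᵥ (fun i => σ (v i)) =
      L.1 *ᵥ (g.1 *ᵥ (fun i => σ (((L⁻¹).1 *ᵥ v) i))) := by
    rw [Units.val_mul, Units.val_mul, ← Matrix.mulVec_mulVec, ← Matrix.mulVec_mulVec, glmap_val]
    congr 2
    exact map_mulVec_vmap σ _ v
  rw [h1, hL, hc, hLs_inv Q Q' L l hl hL, map_mul, map_inv₀, Units.val_mk0]
  ring

/-- transport of the automorphism induced by a semilinear map along the similarity -/
theorem conjLPs_semiAut (g : GL ι F) (σ : F ≃+* F) (hp : Cfsg.IsSemisimilarityPair Q' g σ) :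
    MulAut.congr (conjLPs Q Q' L l hl hL) (semiAut Q' g σ hp) =
      semiAut Q (L * g * glmap σ L⁻¹) σ (pair_conjLs Q Q' L l hl hL hp) := by
  apply MulEquiv.ext
  intro y
  obtain ⟨y', rfl⟩ := (conjLPs Q Q' L l hl hL).surjective y
  show conjLPs Q Q' L l hl hL (semiAut Q' g σ hp ((conjLPs Q Q' L l hl hL).symm
    (conjLPs Q Q' L l hl hL y'))) = _
  rw [MulEquiv.symm_apply_apply]
  induction y' using QuotientGroup.induction_on with
  | H s =>
    rw [semiAut_mk, conjLPs_mk, conjLPs_mk, semiAut_mk]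
    congr 1
    apply Subtype.ext
    apply Subtype.ext
    rw [commutatorCongrs_val, conjLOs_val, semiOmega_val, semiOmega_val, commutatorCongrs_val,
      conjLOs_val]
    simp only [map_mul, map_inv]
    group

end conjLs

end

section

open Matrix QuadraticMap Module
open Cfsg.Agent.Lib.H11.ConfOrth
open Cfsg.Agent.Lib.H13 Cfsg.Agent.Lib.H13.HypPairs Cfsg.Agent.Lib.H13.PlusTS
open Cfsg.Agent.Lib.H13.AutPO

section fieldcase

variable {F : Type*} [Field F] [Fintype F] {m : ℕ}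

local notation "IM" => ((Fin m ⊕ Fin m) ⊕ Fin 2)

set_option maxHeartbeats 1600000 in
/-- the case of an automorphism of prime order outside the image of the similarity group: it is a
field automorphism, `p` is odd and local balance is decided by the fixed points -/
theorem field_case_minus (hm : 3 ≤ m) (a b : F)
    (hab : ∀ z₁ z₂ : F, z₁ ^ 2 + a * z₁ * z₂ + b * z₂ ^ 2 = 0 → z₁ = 0 ∧ z₂ = 0)
    (Q : QuadraticForm F (IM → F)) (hQdef : Q = minusQF F m a b)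
    (A : Subgroup (MulAut (Cfsg.POmega F ⇑Q)))
    (hInnA : Cfsg.Inn (Cfsg.POmega F ⇑Q) ≤ A)
    {p : ℕ} (hp : p.Prime) (x : MulAut (Cfsg.POmega F ⇑Q))
    (hxp : orderOf x = p) (hx : x ∉ (Phi ⇑Q).range) :
    (∃ (ζ : F) (σ : F ≃+* F), σ ≠ RingEquiv.refl F ∧ σ ζ = ζ ∧
      (∀ z₁ z₂ : F, z₁ ^ 2 + 1 * z₁ * z₂ + ζ * z₂ ^ 2 = 0 → z₁ = 0 ∧ z₂ = 0) ∧
      ∀ (Q₁ : (IM → F) → F) (hQ₁ : ⇑(minusQF F m 1 ζ) = Q₁),
        ∃ ψ : Cfsg.POmega F ⇑Q ≃* Cfsg.POmega F Q₁,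
          Cfsg.IsFieldAutPOmegaOf Q₁ σ ((ψ.symm.trans x).trans ψ)) ∧
    (HasNPC p ↥(A ⊓ Subgroup.centralizer {x}) ↔
      (Nat.card ↥(Cfsg.Inn (Cfsg.POmega F ⇑Q) ⊓
        Subgroup.centralizer {x})).Coprime p) := by
  classical
  have hQ : (polarBilin Q).Nondegenerate := by
    rw [hQdef]; exact Cfsg.Agent.S0288.nondeg (F := F) a b hab m
  have hcard : Fintype.card IM = 2 * (m + 1) := card_minus
  have hc7 : 7 ≤ Fintype.card IM := by rw [hcard]; omega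
  have hc8 : 8 ≤ Fintype.card IM := by rw [hcard]; omega
  have hall : Cfsg.gammaPOmega F ⇑Q = ⊤ := by rw [hQdef]; exact hall_minus hm a b hab
  have hne := exists_neO Q hQ hc7
  obtain ⟨g, σ, hpair, rfl⟩ := exists_formO Q hall x
  have hσ1 : σ ≠ RingEquiv.refl F := by
    rintro rfl
    apply hx
    exact ⟨⟨g, sim_of_pair_refl ⇑Q hpair⟩, (semiAut_refl ⇑Q _).symm⟩
  have hpow : (semiAut ⇑Q g σ hpair) ^ p = 1 := by rw [← hxp, pow_orderOf_eq_one]
  have hσp : σ ^ p = 1 := by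
    have := congrArg (psiA Q hQ hc7 hall) hpow
    rwa [map_pow, psiA_apply, map_one] at this
  have hσ : orderOf σ = p := by
    haveI := Fact.mk hp
    exact orderOf_eq_prime hσp hσ1
  obtain ⟨g₁, hp₁, hx₁, hN⟩ := rescale_pair Q σ hQ hc7 hp.pos hσ g hpair hpow
  obtain ⟨c, hc⟩ := id hp₁
  obtain ⟨h, l, hl0, hh, hσQ''⟩ := lang_semi Q σ hQ hne hp.pos hσ g₁ c hc hN
  have hQ''nd := nondeg_smul_comp Q hQ h l⁻¹ (inv_ne_zero hl0)
  have hQ''v : ∀ v, (l⁻¹ • Q.comp (Matrix.toLin' h.1)) v = l⁻¹ * Q (h.1 *ᵥ v) := by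
    intro v
    rw [QuadraticMap.smul_apply, QuadraticMap.comp_apply, Matrix.toLin'_apply, smul_eq_mul]
  obtain ⟨ζ, k, c', hc'0, hζσ, hkσ, hζan, hk⟩ := exists_std_model σ a b hab _ hQ''nd hσQ'' h l⁻¹
    (inv_ne_zero hl0) (by rw [← hQdef]; exact hQ''v)
  obtain ⟨Q', hQ'def⟩ : ∃ Q', Q' = minusQF F m 1 ζ := ⟨_, rfl⟩
  rw [← hQ'def] at hk
  have hlc : l * c' ≠ 0 := mul_ne_zero hl0 hc'0
  have hL : ∀ v, Q ((h * k).1 *ᵥ v) = (l * c') * Q' v := by
    intro v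
    have h1 := hk v
    rw [hQ''v] at h1
    rw [Units.val_mul, ← Matrix.mulVec_mulVec, mul_assoc, ← h1, ← mul_assoc, mul_inv_cancel₀ hl0,
      one_mul]
  have hσQ' : SigEq σ Q' := by
    rw [hQ'def]; exact sigEq_minus σ 1 ζ (map_one σ) hζσ
  have hQ' : (polarBilin Q').Nondegenerate := by
    rw [hQ'def]; exact Cfsg.Agent.S0288.nondeg (F := F) 1 ζ hζan m
  have hall' : Cfsg.gammaPOmega F ⇑Q' = ⊤ := by rw [hQ'def]; exact hall_minus hm 1 ζ hζan
  have hpodd : Odd p := by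
    rcases hp.eq_two_or_odd' with h2 | h2
    · exfalso
      rw [h2] at hσ
      exact order_ne_two_of_aniso σ hσ 1 ζ (map_one σ) hζσ hζan
    · exact h2
  obtain ⟨Λ, hΛ⟩ : ∃ Λ, Λ = conjLPs ⇑Q ⇑Q' (h * k) (l * c') hlc hL := ⟨_, rfl⟩
  have htr0 : MulAut.congr Λ (stdAut Q' σ hσQ') = semiAut ⇑Q g σ hpair := by
    rw [hΛ]
    unfold stdAut
    rw [conjLPs_semiAut, ← hx₁]
    apply semiAut_congr
    · rw [mul_one, _root_.mul_inv_rev, map_mul, map_inv, map_inv, hkσ]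
      have h5 : h * k * (k⁻¹ * (glmap σ h)⁻¹) = h * (glmap σ h)⁻¹ := by group
      rw [h5, mul_inv_eq_iff_eq_mul, hh]
    · rfl
  have htr : MulAut.congr Λ.symm (semiAut ⇑Q g σ hpair) = stdAut Q' σ hσQ' := by
    rw [← htr0]
    apply MulEquiv.ext
    intro y
    simp [MulAut.congr]
  have hcomm : ∀ τ : F ≃+* F, ∀ y, τ (σ y) = σ (τ y) := by
    obtain ⟨r, hr⟩ := CharP.exists F
    haveI := hr
    haveI : Fact r.Prime := ⟨CharP.char_is_prime F r⟩
    obtain ⟨n, -, hF⟩ := FiniteField.card F r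
    intro τ y
    exact RingEquiv.congr_fun (ringAut_comm (p := r) hF τ σ) y
  refine ⟨⟨ζ, σ, hσ1, hζσ, hζan, ?_⟩, ?_⟩
  · intro Q₁ hQ₁
    rw [← hQ'def] at hQ₁
    subst hQ₁
    refine ⟨Λ.symm, ?_⟩
    have h3 := stdAut_isField Q' σ hσQ'
    rw [← htr, congr_apply_eq] at h3
    exact h3
  · obtain ⟨E1⟩ := centralizer_map_equiv (MulAut.congr Λ.symm) A (semiAut ⇑Q g σ hpair)
    rw [htr] at E1
    have hInnA' : Cfsg.Inn (Cfsg.POmega F ⇑Q') ≤ A.map (MulAut.congr Λ.symm).toMonoidHom := by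
      rw [← map_inn_congr Λ.symm]
      exact Subgroup.map_mono hInnA
    obtain ⟨E2⟩ := centralizer_map_equiv (MulAut.congr Λ.symm) (Cfsg.Inn (Cfsg.POmega F ⇑Q))
      (semiAut ⇑Q g σ hpair)
    rw [htr, map_inn_congr] at E2
    rw [hasNPC_congr p E1, core_std_gen Q' hQ' hc8 hall' σ hσQ' hcomm hp hpodd hσ _ hInnA',
      Nat.card_congr E2.toEquiv]

end fieldcase

end

end Cfsg.Agent.Lib.H13.MBal
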