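import Mathlib
import Cfsg.Agent.Lib.H13.HypPairs
import Cfsg.Agent.Lib.H11.ConfOrth6

/-!
Class fusion of elements of odd prime order in `PΩ^±_{2m}(q)`, `q` odd, part 1 (helper13): every isometry `A` of a nondegenerate subspace `U`
without fixed vectors is a product of exactly `dim U` reflections in vectors of `U` (`exists_good`, `exists_exact_list`, after Artin); the
determinant formula `det_formula_list` (`∏ Q(v_i) · det (1 - ∏ r_{v_i}) = a² · det (Gram)`), and **Zassenhaus' formula** `zassenhaus`: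
for an isometry `c` of an even-dimensional space with `1 + c` invertible, `c ∈ Ω` iff `det (1 + c)` is a square.
-/

set_option autoImplicit false
set_option linter.unusedSectionVars false
set_option linter.unusedVariables false
set_option linter.unusedSimpArgs false
set_option linter.deprecated false

namespace Cfsg.Agent.Lib.H13.OFus

section

open Matrix Cfsg.Agent.Lib.H4 Cfsg.Agent.Lib.H13.HypPairs

variable {F : Type*} [Field F] {ι : Type} [Fintype ι] [DecidableEq ι]
  (Q : QuadraticForm F (ι → F))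

set_option quotPrecheck false in
local notation "B" => QuadraticMap.polar (⇑Q)

theorem polar_mulVec (A : Matrix ι ι F) (hA : ∀ x, Q (A *ᵥ x) = Q x) (x y : ι → F) :
    B (A *ᵥ x) (A *ᵥ y) = B x y := by
  simp only [QuadraticMap.polar, ← Matrix.mulVec_add, hA]

theorem refl_of_polar_zero (v x : ι → F) (h : B v x = 0) :
    Cfsg.reflectionMatrix ⇑Q v *ᵥ x = x := by
  rw [reflectionMatrix_mulVec, h, mul_zero, zero_smul, sub_zero]

theorem Q_sub' (w v : ι → F) : Q (w - v) = Q w + Q v - B w v := by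
  have h1 : w - v = w + (-1 : F) • v := by rw [neg_one_smul, sub_eq_add_neg]
  rw [h1, Q_add_smul]
  ring

theorem refl_sub (w v : ι → F) (hQ : Q w = Q v) (h : Q (w - v) ≠ 0) :
    Cfsg.reflectionMatrix ⇑Q (w - v) *ᵥ w = v := by
  rw [reflectionMatrix_mulVec]
  have h1 : B (w - v) w = Q (w - v) := by
    rw [QuadraticMap.polar_sub_left, Cfsg.Agent.Lib.H4.polar_self, Q_sub', hQ,
      QuadraticMap.polar_comm (⇑Q) v w]
    ring
  rw [h1, inv_mul_cancel₀ h, one_smul]
  abel

theorem parallelogram (x y : ι → F) : Q (x + y) + Q (x - y) = 2 * Q x + 2 * Q y := by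
  rw [Q_sub', QuadraticMap.map_add (⇑Q)]
  ring

end

section

open Matrix Cfsg.Agent.Lib.H4 Cfsg.Agent.Lib.H13.HypPairs

variable {F : Type*} [Field F] {ι : Type} [Fintype ι] [DecidableEq ι]
  (Q : QuadraticForm F (ι → F))

set_option quotPrecheck false in
local notation "B" => QuadraticMap.polar (⇑Q)

theorem Q_comb (x z : ι → F) (a b : F) :
    Q (a • x + b • z) = a * a * Q x + b * b * Q z + a * b * B x z := by
  rw [QuadraticMap.map_add (⇑Q), QuadraticMap.map_smul, QuadraticMap.map_smul,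
    QuadraticMap.polar_smul_left, QuadraticMap.polar_smul_right]
  simp only [smul_eq_mul]
  ring

theorem polar_comb (x z : ι → F) (a b c d : F) :
    B (a • x + b • z) (c • x + d • z) =
      a * c * B x x + b * d * B z z + (a * d + b * c) * B x z := by
  rw [QuadraticMap.polar_add_left, QuadraticMap.polar_add_right, QuadraticMap.polar_add_right,
    QuadraticMap.polar_smul_left, QuadraticMap.polar_smul_left, QuadraticMap.polar_smul_left,
    QuadraticMap.polar_smul_left, QuadraticMap.polar_smul_right, QuadraticMap.polar_smul_right,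
    QuadraticMap.polar_smul_right, QuadraticMap.polar_smul_right,
    QuadraticMap.polar_comm (⇑Q) z x]
  simp only [smul_eq_mul]
  ring

/-- in a nondegenerate `U` containing a nonzero singular `x` all of whose `U`-perpendicular vectors
are singular, `U` is the hyperbolic plane on `x` and a partner `z` -/
theorem hyp_plane (U : Submodule F (ι → F))
    (hnd : ∀ u ∈ U, (∀ u' ∈ U, B u u' = 0) → u = 0)
    (x : ι → F) (hx : x ∈ U) (hx0 : Q x = 0) (hxz : x ≠ 0)
    (hy : ∀ y ∈ U, B x y = 0 → Q y = 0) :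
    ∃ z ∈ U, Q z = 0 ∧ B x z = 1 ∧ ∀ u ∈ U, u = B u z • x + B u x • z := by
  obtain ⟨z₀, hz₀U, hz₀⟩ : ∃ z₀ ∈ U, B x z₀ ≠ 0 := by
    by_contra hcon
    push Not at hcon
    exact hxz (hnd x hx hcon)
  obtain ⟨z₁, hz₁⟩ : ∃ z₁, z₁ = (B x z₀)⁻¹ • z₀ := ⟨_, rfl⟩
  have hz₁U : z₁ ∈ U := by rw [hz₁]; exact U.smul_mem _ hz₀U
  have hxz₁ : B x z₁ = 1 := by
    rw [hz₁, QuadraticMap.polar_smul_right, smul_eq_mul, inv_mul_cancel₀ hz₀]
  have hxx : B x x = 0 := by rw [Cfsg.Agent.Lib.H4.polar_self, hx0, mul_zero]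
  obtain ⟨z, hz⟩ : ∃ z, z = z₁ - Q z₁ • x := ⟨_, rfl⟩
  have hzU : z ∈ U := by rw [hz]; exact U.sub_mem hz₁U (U.smul_mem _ hx)
  have hxz' : B x z = 1 := by
    rw [hz, QuadraticMap.polar_sub_right, QuadraticMap.polar_smul_right, hxx, hxz₁]
    simp
  have hQz : Q z = 0 := by
    have h1 : z = (1 : F) • z₁ + (- Q z₁) • x := by rw [hz, one_smul, neg_smul, sub_eq_add_neg]
    rw [h1, Q_comb, hx0, QuadraticMap.polar_comm (⇑Q) z₁ x, hxz₁]
    ring
  have hzz : B z z = 0 := by rw [Cfsg.Agent.Lib.H4.polar_self, hQz, mul_zero]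
  refine ⟨z, hzU, hQz, hxz', ?_⟩
  -- projection
  have hP : ∀ u ∈ U, u - (B u z • x + B u x • z) ∈ U ∧ B x (u - (B u z • x + B u x • z)) = 0 ∧
      B z (u - (B u z • x + B u x • z)) = 0 := by
    intro u hu
    refine ⟨U.sub_mem hu (U.add_mem (U.smul_mem _ hx) (U.smul_mem _ hzU)), ?_, ?_⟩
    · rw [QuadraticMap.polar_sub_right, QuadraticMap.polar_add_right,
        QuadraticMap.polar_smul_right, QuadraticMap.polar_smul_right, hxx, hxz',
        QuadraticMap.polar_comm (⇑Q) x u]
      simp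
    · rw [QuadraticMap.polar_sub_right, QuadraticMap.polar_add_right,
        QuadraticMap.polar_smul_right, QuadraticMap.polar_smul_right, hzz,
        QuadraticMap.polar_comm (⇑Q) z x, hxz', QuadraticMap.polar_comm (⇑Q) z u]
      simp
  intro u hu
  obtain ⟨h1, h2, h3⟩ := hP u hu
  obtain ⟨pu, hpu⟩ : ∃ pu, pu = u - (B u z • x + B u x • z) := ⟨_, rfl⟩
  rw [← hpu] at h1 h2 h3
  have hzero : pu = 0 := by
    apply hnd _ h1
    intro v hv
    obtain ⟨k1, k2, k3⟩ := hP v hv
    obtain ⟨pv, hpv⟩ : ∃ pv, pv = v - (B v z • x + B v x • z) := ⟨_, rfl⟩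
    rw [← hpv] at k1 k2 k3
    have e1 : v = pv + (B v z • x + B v x • z) := by rw [hpv]; abel
    have e2 : Q (pu + pv) = 0 := by
      apply hy _ (U.add_mem h1 k1)
      rw [QuadraticMap.polar_add_right, h2, k2, add_zero]
    have e3 := hy _ h1 h2
    have e4 := hy _ k1 k2
    have e5 : B pu pv = 0 := by
      rw [QuadraticMap.polar, e2, e3, e4]; simp
    have e6 : B pu x = 0 := by rw [QuadraticMap.polar_comm]; exact h2
    have e7 : B pu z = 0 := by rw [QuadraticMap.polar_comm]; exact h3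
    rw [e1, QuadraticMap.polar_add_right, QuadraticMap.polar_add_right,
      QuadraticMap.polar_smul_right, QuadraticMap.polar_smul_right, e5, e6, e7]
    simp
  rw [hpu] at hzero
  exact sub_eq_zero.mp hzero

end

section

open Matrix Cfsg.Agent.Lib.H4 Cfsg.Agent.Lib.H13.HypPairs

variable {F : Type*} [Field F] {ι : Type} [Fintype ι] [DecidableEq ι]
  (Q : QuadraticForm F (ι → F))

set_option quotPrecheck false in
local notation "B" => QuadraticMap.polar (⇑Q)

theorem exists_good (h2 : (2 : F) ≠ 0) (U : Submodule F (ι → F)) (hU : U ≠ ⊥)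
    (hnd : ∀ u ∈ U, (∀ u' ∈ U, B u u' = 0) → u = 0)
    (A : Matrix ι ι F) (hA : ∀ x, Q (A *ᵥ x) = Q x) (hAU : ∀ u ∈ U, A *ᵥ u ∈ U)
    (hnf : ∀ u ∈ U, A *ᵥ u = u → u = 0) :
    ∃ u ∈ U, Q u ≠ 0 ∧ Q (A *ᵥ u - u) ≠ 0 := by
  by_contra hcon
  push Not at hcon
  have hfalse : (∀ x ∈ U, Q (A *ᵥ x - x) = 0) → False := by
    intro hβ
    have hmaps : ∀ u ∈ U, ((Matrix.toLin' A - LinearMap.id : (ι → F) →ₗ[F] (ι → F))) u ∈ U := by
      intro u hu
      rw [LinearMap.sub_apply, Matrix.toLin'_apply, LinearMap.id_apply]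
      exact U.sub_mem (hAU u hu) hu
    obtain ⟨D, hD⟩ : ∃ D : U →ₗ[F] U, D = ((Matrix.toLin' A - LinearMap.id : (ι → F) →ₗ[F] (ι → F))).restrict hmaps :=
      ⟨_, rfl⟩
    have hDv : ∀ u : U, ((D u : U) : ι → F) = A *ᵥ (u : ι → F) - u := by
      intro u
      rw [hD, LinearMap.restrict_coe_apply, LinearMap.sub_apply, Matrix.toLin'_apply,
        LinearMap.id_apply]
    have hDinj : Function.Injective D := by
      rw [← LinearMap.ker_eq_bot, LinearMap.ker_eq_bot']
      intro u hu
      have h1 := hDv u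
      rw [hu, Submodule.coe_zero] at h1
      have h3 := hnf u u.2 (sub_eq_zero.mp h1.symm)
      exact Subtype.ext h3
    have hDsurj : Function.Surjective D := LinearMap.injective_iff_surjective.mp hDinj
    have hQ0 : ∀ y ∈ U, Q y = 0 := by
      intro y hy
      obtain ⟨x, hx⟩ := hDsurj ⟨y, hy⟩
      have h1 := hβ x x.2
      rw [← hDv x, hx] at h1
      exact h1
    apply hU
    rw [eq_bot_iff]
    intro u hu
    rw [Submodule.mem_bot]
    apply hnd u hu
    intro u' hu'
    rw [QuadraticMap.polar, hQ0 _ (U.add_mem hu hu'), hQ0 u hu, hQ0 u' hu']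
    simp
  apply hfalse
  intro x hx
  by_cases hx0 : Q x ≠ 0
  · exact hcon x hx hx0
  rw [not_not] at hx0
  by_cases hxz : x = 0
  · rw [hxz]; simp
  by_cases hy : ∃ y ∈ U, B x y = 0 ∧ Q y ≠ 0
  · obtain ⟨y, hyU, hxy, hyQ⟩ := hy
    have h1 : Q (x + y) ≠ 0 := by
      rw [QuadraticMap.map_add (⇑Q), hx0, hxy]; simpa using hyQ
    have h3 : Q (x - y) ≠ 0 := by
      rw [Q_sub', hx0, hxy]; simpa using hyQ
    have k1 := hcon _ (U.add_mem hx hyU) h1
    have k2 := hcon _ (U.sub_mem hx hyU) h3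
    have k3 := hcon _ hyU hyQ
    have e1 : A *ᵥ (x + y) - (x + y) = (A *ᵥ x - x) + (A *ᵥ y - y) := by
      rw [Matrix.mulVec_add]; abel
    have e2 : A *ᵥ (x - y) - (x - y) = (A *ᵥ x - x) - (A *ᵥ y - y) := by
      rw [Matrix.mulVec_sub]; abel
    rw [e1] at k1
    rw [e2] at k2
    have h4 := parallelogram Q (A *ᵥ x - x) (A *ᵥ y - y)
    rw [k1, k2, k3] at h4
    have h5 : 2 * Q (A *ᵥ x - x) = 0 := by linear_combination -h4
    rcases mul_eq_zero.mp h5 with h | h
    · exact absurd h h2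
    · exact h
  · exfalso
    push Not at hy
    have hy' : ∀ y ∈ U, B x y = 0 → Q y = 0 := fun y hyU hxy => hy y hyU hxy
    obtain ⟨z, hzU, hQz, hxz', hdec⟩ := hyp_plane Q U hnd x hx hx0 hxz hy'
    have hxx : B x x = 0 := by rw [Cfsg.Agent.Lib.H4.polar_self, hx0, mul_zero]
    have hzz : B z z = 0 := by rw [Cfsg.Agent.Lib.H4.polar_self, hQz, mul_zero]
    obtain ⟨a, ha⟩ : ∃ a, a = B (A *ᵥ x) z := ⟨_, rfl⟩
    obtain ⟨b, hb⟩ : ∃ b, b = B (A *ᵥ x) x := ⟨_, rfl⟩
    obtain ⟨c, hc⟩ : ∃ c, c = B (A *ᵥ z) z := ⟨_, rfl⟩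
    obtain ⟨d, hd⟩ : ∃ d, d = B (A *ᵥ z) x := ⟨_, rfl⟩
    have hAx : A *ᵥ x = a • x + b • z := by rw [ha, hb]; exact hdec _ (hAU x hx)
    have hAz : A *ᵥ z = c • x + d • z := by rw [hc, hd]; exact hdec _ (hAU z hzU)
    have hab : a * b = 0 := by
      have h1 := hA x
      rw [hAx, Q_comb, hx0, hQz, hxz'] at h1
      linear_combination h1
    have hcd : c * d = 0 := by
      have h1 := hA z
      rw [hAz, Q_comb, hx0, hQz, hxz'] at h1
      linear_combination h1
    have hadbc : a * d + b * c = 1 := by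
      have h1 := polar_mulVec Q A hA x z
      rw [hAx, hAz, polar_comb, hxx, hzz, hxz'] at h1
      linear_combination h1
    have hQu : Q (x + z) = 1 := by
      rw [QuadraticMap.map_add (⇑Q), hx0, hQz, hxz']; simp
    rcases mul_eq_zero.mp hab with ha0 | hb0
    · -- a = 0: swap type, fixed vector
      rw [ha0, zero_mul, zero_add] at hadbc
      have hc0 : c ≠ 0 := by intro h; rw [h, mul_zero] at hadbc; exact zero_ne_one hadbc
      have hd0 : d = 0 := by
        rcases mul_eq_zero.mp hcd with h | h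
        · exact absurd h hc0
        · exact h
      have hfix : A *ᵥ (x + b • z) = x + b • z := by
        rw [Matrix.mulVec_add, Matrix.mulVec_smul, hAx, hAz, ha0, hd0, zero_smul, zero_smul,
          zero_add, add_zero, smul_smul, hadbc, one_smul, add_comm]
      have h0 := hnf _ (U.add_mem hx (U.smul_mem _ hzU)) hfix
      have h1 : B x (x + b • z) = b := by
        rw [QuadraticMap.polar_add_right, QuadraticMap.polar_smul_right, hxx, hxz']; simp
      rw [h0] at h1
      have hb0 : b = 0 := by rw [← h1]; simp [QuadraticMap.polar]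
      rw [hb0, zero_mul] at hadbc
      exact zero_ne_one hadbc
    · -- b = 0: diagonal type
      rw [hb0, zero_mul, add_zero] at hadbc
      have hd0 : d ≠ 0 := by intro h; rw [h, mul_zero] at hadbc; exact zero_ne_one hadbc
      have hc0 : c = 0 := by
        rcases mul_eq_zero.mp hcd with h | h
        · exact h
        · exact absurd h hd0
      have hu := hcon _ (U.add_mem hx hzU) (by rw [hQu]; exact one_ne_zero)
      have e1 : A *ᵥ (x + z) - (x + z) = (a - 1) • x + (d - 1) • z := by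
        rw [Matrix.mulVec_add, hAx, hAz, hb0, hc0, zero_smul, zero_smul, add_zero, zero_add,
          sub_smul, sub_smul, one_smul, one_smul]
        abel
      rw [e1, Q_comb, hx0, hQz, hxz'] at hu
      have h1 : (a - 1) * (d - 1) = 0 := by linear_combination hu
      have ha1 : a = 1 := by
        rcases mul_eq_zero.mp h1 with h | h
        · exact sub_eq_zero.mp h
        · have hd1 : d = 1 := sub_eq_zero.mp h
          rw [hd1, mul_one] at hadbc
          exact hadbc
      have hfix : A *ᵥ x = x := by rw [hAx, ha1, hb0, one_smul, zero_smul, add_zero]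
      exact hxz (hnf x hx hfix)

end

section

open Matrix Cfsg.Agent.Lib.H4 Cfsg.Agent.Lib.H13.HypPairs

variable {F : Type*} [Field F] {ι : Type} [Fintype ι] [DecidableEq ι]
  (Q : QuadraticForm F (ι → F))

set_option quotPrecheck false in
local notation "B" => QuadraticMap.polar (⇑Q)

/-- dimension of the hyperplane `U ∩ v^⊥` for `v ∈ U` nonsingular -/
theorem finrank_inf_perp (h2 : (2 : F) ≠ 0) (U : Submodule F (ι → F)) (v : ι → F) (hvU : v ∈ U)
    (hv : Q v ≠ 0) (d : ℕ) (hd : Module.finrank F U = d + 1) :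
    Module.finrank F ↥(U ⊓ LinearMap.ker (QuadraticMap.polarBilin Q v)) = d := by
  obtain ⟨f, hf⟩ : ∃ f : U →ₗ[F] F, f = (QuadraticMap.polarBilin Q v).domRestrict U := ⟨_, rfl⟩
  have hfa : ∀ u : U, f u = B v u := by
    intro u; rw [hf]; rfl
  have hsurj : LinearMap.range f = ⊤ := by
    rw [eq_top_iff]
    intro c _
    have hvv : B v v ≠ 0 := by
      rw [Cfsg.Agent.Lib.H4.polar_self]; exact mul_ne_zero h2 hv
    refine ⟨(c / B v v) • ⟨v, hvU⟩, ?_⟩
    rw [map_smul, hfa, smul_eq_mul]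
    exact div_mul_cancel₀ c hvv
  have h1 := LinearMap.finrank_range_add_finrank_ker f
  rw [hsurj, finrank_top, Module.finrank_self, hd] at h1
  have h3 : (LinearMap.ker f).map U.subtype = U ⊓ LinearMap.ker (QuadraticMap.polarBilin Q v) := by
    ext x
    constructor
    · rintro ⟨u, hu, rfl⟩
      refine ⟨u.2, ?_⟩
      have hu' : f u = 0 := hu
      rw [hfa] at hu'
      exact hu'
    · rintro ⟨hxU, hx⟩
      refine ⟨⟨x, hxU⟩, ?_, rfl⟩
      show f ⟨x, hxU⟩ = 0
      rw [hfa]
      exact hx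
  rw [← h3, Submodule.finrank_map_subtype_eq]
  omega

theorem exists_exact_list (h2 : (2 : F) ≠ 0) :
    ∀ d : ℕ, ∀ U : Submodule F (ι → F), Module.finrank F U = d →
      (∀ u ∈ U, (∀ u' ∈ U, B u u' = 0) → u = 0) →
      ∀ A : Matrix ι ι F, (∀ x, Q (A *ᵥ x) = Q x) → (∀ u ∈ U, A *ᵥ u ∈ U) →
        (∀ x, (∀ u ∈ U, B u x = 0) → A *ᵥ x = x) →
        (∀ u ∈ U, A *ᵥ u = u → u = 0) →
        ∃ vs : List (ι → F), vs.length = d ∧ (∀ v ∈ vs, v ∈ U ∧ Q v ≠ 0) ∧
          A = (vs.map (fun v => Cfsg.reflectionMatrix ⇑Q v)).prod := by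
  intro d
  induction d with
  | zero =>
    intro U hd hnd A hA hAU hfix hnf
    have hU : U = ⊥ := Submodule.finrank_eq_zero.mp hd
    refine ⟨[], rfl, by simp, ?_⟩
    rw [List.map_nil, List.prod_nil]
    apply Matrix.ext_iff_mulVec.mpr
    intro x
    rw [Matrix.one_mulVec]
    apply hfix
    intro u hu
    rw [hU, Submodule.mem_bot] at hu
    rw [hu]; simp [QuadraticMap.polar]
  | succ d ih =>
    intro U hd hnd A hA hAU hfix hnf
    have hU : U ≠ ⊥ := by
      intro h
      rw [h, finrank_bot] at hd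
      omega
    obtain ⟨u, huU, hu, hw⟩ := exists_good Q h2 U hU hnd A hA hAU hnf
    obtain ⟨w, hwd⟩ : ∃ w, w = A *ᵥ u - u := ⟨_, rfl⟩
    rw [← hwd] at hw
    have hwU : w ∈ U := by rw [hwd]; exact U.sub_mem (hAU u huU) huU
    obtain ⟨A', hA'⟩ : ∃ A', A' = Cfsg.reflectionMatrix ⇑Q w * A := ⟨_, rfl⟩
    have hA'v : ∀ x, A' *ᵥ x = Cfsg.reflectionMatrix ⇑Q w *ᵥ (A *ᵥ x) := by
      intro x; rw [hA', Matrix.mulVec_mulVec]
    have hA'u : A' *ᵥ u = u := by
      rw [hA'v, hwd]
      exact refl_sub Q (A *ᵥ u) u (hA u) (by rw [← hwd]; exact hw)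
    have hA'iso : ∀ x, Q (A' *ᵥ x) = Q x := by
      intro x; rw [hA'v, refl_isometry Q w hw, hA]
    have hvv : B u u ≠ 0 := by
      rw [Cfsg.Agent.Lib.H4.polar_self]; exact mul_ne_zero h2 hu
    obtain ⟨U', hU'⟩ : ∃ U' : Submodule F (ι → F),
        U' = U ⊓ LinearMap.ker (QuadraticMap.polarBilin Q u) := ⟨_, rfl⟩
    have hmemU' : ∀ y, y ∈ U' ↔ y ∈ U ∧ B u y = 0 := by
      intro y
      rw [hU', Submodule.mem_inf, LinearMap.mem_ker]
      rfl
    have hU'le : U' ≤ U := fun y hy => ((hmemU' y).1 hy).1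
    have hproj : ∀ y ∈ U, y - (B u y / B u u) • u ∈ U' := by
      intro y hy
      rw [hmemU']
      refine ⟨U.sub_mem hy (U.smul_mem _ huU), ?_⟩
      rw [QuadraticMap.polar_sub_right, QuadraticMap.polar_smul_right, smul_eq_mul,
        div_mul_cancel₀ _ hvv, sub_self]
    have hnd' : ∀ y ∈ U', (∀ y' ∈ U', B y y' = 0) → y = 0 := by
      intro y hy h
      apply hnd y (hU'le hy)
      intro y' hy'
      have h1 := h _ (hproj y' hy')
      rw [QuadraticMap.polar_sub_right, QuadraticMap.polar_smul_right,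
        QuadraticMap.polar_comm (⇑Q) y u, ((hmemU' y).1 hy).2, smul_zero, sub_zero] at h1
      exact h1
    have hfix' : ∀ x, (∀ y ∈ U', B y x = 0) → A' *ᵥ x = x := by
      intro x hx
      obtain ⟨c, hc⟩ : ∃ c, c = B u x / B u u := ⟨_, rfl⟩
      have hy : ∀ y ∈ U, B y (x - c • u) = 0 := by
        intro y hy
        have h1 := hx _ (hproj y hy)
        rw [QuadraticMap.polar_sub_left, QuadraticMap.polar_smul_left, smul_eq_mul,
          sub_eq_zero] at h1
        rw [QuadraticMap.polar_sub_right, QuadraticMap.polar_smul_right, smul_eq_mul, h1, hc,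
          QuadraticMap.polar_comm (⇑Q) y u]
        field_simp
        ring
      have h3 : A' *ᵥ (x - c • u) = x - c • u := by
        rw [hA'v, hfix _ hy]
        apply refl_of_polar_zero
        exact hy w hwU
      have : x = (x - c • u) + c • u := by abel
      rw [this, Matrix.mulVec_add, h3, Matrix.mulVec_smul, hA'u]
    have hA'U' : ∀ y ∈ U', A' *ᵥ y ∈ U' := by
      intro y hy
      rw [hmemU']
      refine ⟨?_, ?_⟩
      · rw [hA'v, reflectionMatrix_mulVec]
        exact U.sub_mem (hAU y (hU'le hy)) (U.smul_mem _ hwU)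
      · nth_rewrite 1 [← hA'u]
        rw [polar_mulVec Q A' hA'iso]
        exact ((hmemU' y).1 hy).2
    have hnf' : ∀ y ∈ U', A' *ᵥ y = y → y = 0 := by
      intro y hy hfy
      -- A y = r_w y = y - c' w
      have h1 : A *ᵥ y = Cfsg.reflectionMatrix ⇑Q w *ᵥ y := by
        have : Cfsg.reflectionMatrix ⇑Q w *ᵥ (A' *ᵥ y) = Cfsg.reflectionMatrix ⇑Q w *ᵥ y := by
          rw [hfy]
        rw [hA'v, Matrix.mulVec_mulVec, refl_mul_self Q w hw, Matrix.one_mulVec] at this
        exact this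
      rw [reflectionMatrix_mulVec] at h1
      obtain ⟨c', hc'⟩ : ∃ c', c' = (Q w)⁻¹ * B w y := ⟨_, rfl⟩
      rw [← hc'] at h1
      have h3 : A *ᵥ (y + c' • u) = y + c' • u := by
        rw [Matrix.mulVec_add, Matrix.mulVec_smul, h1]
        have : A *ᵥ u = w + u := by rw [hwd]; abel
        rw [this, smul_add]
        abel
      have h4 := hnf _ (U.add_mem (hU'le hy) (U.smul_mem _ huU)) h3
      have h5 : B u (y + c' • u) = c' * B u u := by
        rw [QuadraticMap.polar_add_right, QuadraticMap.polar_smul_right, ((hmemU' y).1 hy).2,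
          zero_add, smul_eq_mul]
      rw [h4] at h5
      have h6 : c' = 0 := by
        have : c' * B u u = 0 := by rw [← h5]; simp [QuadraticMap.polar]
        rcases mul_eq_zero.mp this with h | h
        · exact h
        · exact absurd h hvv
      rw [h6, zero_smul, add_zero] at h4
      exact h4
    have hdim : Module.finrank F U' = d := by
      rw [hU']
      exact finrank_inf_perp Q h2 U u huU hu d hd
    obtain ⟨vs, hlen, hvs, hrep⟩ := ih U' hdim hnd' A' hA'iso hA'U' hfix' hnf'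
    refine ⟨w :: vs, by rw [List.length_cons, hlen], ?_, ?_⟩
    · intro v hv
      rcases List.mem_cons.mp hv with h | h
      · rw [h]; exact ⟨hwU, hw⟩
      · exact ⟨hU'le (hvs v h).1, (hvs v h).2⟩
    · rw [List.map_cons, List.prod_cons, ← hrep, hA', ← Matrix.mul_assoc,
        refl_mul_self Q w hw, Matrix.one_mul]

end

section

open Matrix Cfsg.Agent.Lib.H4 Cfsg.Agent.Lib.H13.HypPairs

variable {F : Type*} [Field F] {ι : Type} [Fintype ι] [DecidableEq ι]
  (Q : QuadraticForm F (ι → F))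

set_option quotPrecheck false in
local notation "B" => QuadraticMap.polar (⇑Q)

/-- Gram matrix of the polar form -/
def gram : Matrix ι ι F := Matrix.of fun i j => B (Pi.single i 1) (Pi.single j 1)

theorem vecMul_gram (v : ι → F) : v ᵥ* gram Q = Cfsg.polarVec ⇑Q v := by
  ext j
  have h := LinearMap.pi_apply_eq_sum_univ ((QuadraticMap.polarBilin Q).flip (Pi.single j 1)) v
  simp only [LinearMap.flip_apply, QuadraticMap.polarBilin_apply_apply, smul_eq_mul] at h
  unfold Cfsg.polarVec
  rw [h, Matrix.vecMul, dotProduct]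
  refine Finset.sum_congr rfl fun i _ => ?_
  unfold gram
  rw [Matrix.of_apply]
  congr 2
  ext j'
  simp [Pi.single_apply, eq_comm]

def colMat {k : ℕ} (f : Fin k → ι → F) : Matrix ι (Fin k) F := Matrix.of fun i j => f j i

def triMat {k : ℕ} (f : Fin k → ι → F) : Matrix (Fin k) (Fin k) F :=
  Matrix.of fun i j => if i = j then Q (f i) else if i < j then B (f i) (f j) else 0

def polMat {k : ℕ} (f : Fin k → ι → F) : Matrix (Fin k) ι F :=
  Matrix.of fun j => Cfsg.polarVec ⇑Q (f j)

def prodRefl {k : ℕ} (f : Fin k → ι → F) : Matrix ι ι F :=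
  (List.ofFn fun i => Cfsg.reflectionMatrix ⇑Q (f i)).prod

theorem polMat_eq {k : ℕ} (f : Fin k → ι → F) : polMat Q f = (colMat f)ᵀ * gram Q := by
  ext j l
  have := congrFun (vecMul_gram Q (f j)) l
  rw [Matrix.vecMul, dotProduct] at this
  rw [polMat, Matrix.of_apply, ← this, Matrix.mul_apply]
  rfl

theorem vecMulVec_mul' {k : ℕ} (v : ι → F) (w : ι → F) (A : Matrix ι ι F) :
    Matrix.vecMulVec v w * A = Matrix.vecMulVec v (w ᵥ* A) := by
  ext i l
  rw [Matrix.mul_apply, Matrix.vecMulVec_apply, Matrix.vecMul, dotProduct, Finset.mul_sum]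
  refine Finset.sum_congr rfl fun j _ => ?_
  rw [Matrix.vecMulVec_apply, mul_assoc]

theorem key : ∀ (k : ℕ) (f : Fin k → ι → F), (∀ i, Q (f i) ≠ 0) →
    ∃ X : Matrix (Fin k) ι F, 1 - prodRefl Q f = colMat f * X ∧ triMat Q f * X = polMat Q f := by
  intro k
  induction k with
  | zero =>
    intro f _
    refine ⟨Matrix.of fun i => i.elim0, ?_, ?_⟩
    · unfold prodRefl
      rw [List.ofFn_zero, List.prod_nil, sub_self]
      ext i l
      rw [Matrix.mul_apply]
      simp
    · ext i l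
      exact i.elim0
  | succ k ih =>
    intro f hf
    obtain ⟨f', hf'⟩ : ∃ f' : Fin k → ι → F, f' = fun i => f i.succ := ⟨_, rfl⟩
    obtain ⟨v, hv⟩ : ∃ v, v = f 0 := ⟨_, rfl⟩
    have hQv : Q v ≠ 0 := by rw [hv]; exact hf 0
    obtain ⟨X', hX1, hX2⟩ := ih f' (by intro i; rw [hf']; exact hf i.succ)
    have hprod : prodRefl Q f = Cfsg.reflectionMatrix ⇑Q v * prodRefl Q f' := by
      unfold prodRefl
      rw [List.ofFn_succ, List.prod_cons, hv, hf']
    obtain ⟨x₀, hx₀⟩ : ∃ x₀ : ι → F, x₀ = (Q v)⁻¹ • (Cfsg.polarVec ⇑Q v -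
        (Cfsg.polarVec ⇑Q v ᵥ* colMat f') ᵥ* X') := ⟨_, rfl⟩
    have hQx₀ : Q v • x₀ = Cfsg.polarVec ⇑Q v - (Cfsg.polarVec ⇑Q v ᵥ* colMat f') ᵥ* X' := by
      rw [hx₀, smul_smul, mul_inv_cancel₀ hQv, one_smul]
    have hcol : ∀ i (j : Fin k), colMat f i j.succ = colMat f' i j := by
      intro i j
      rw [colMat, colMat, Matrix.of_apply, Matrix.of_apply, hf']
    have hcol0 : ∀ i, colMat f i 0 = v i := by
      intro i
      rw [colMat, Matrix.of_apply, hv]
    refine ⟨Matrix.of (Matrix.vecCons x₀ X'), ?_, ?_⟩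
    · -- first identity
      have h1 : colMat f * Matrix.of (Matrix.vecCons x₀ X') =
          Matrix.vecMulVec v x₀ + colMat f' * X' := by
        ext i l
        rw [Matrix.mul_apply, Fin.sum_univ_succ, Matrix.add_apply, Matrix.vecMulVec_apply,
          Matrix.mul_apply, hcol0]
        congr 1
        refine Finset.sum_congr rfl fun j _ => ?_
        rw [hcol]
        rfl
      have hg' : prodRefl Q f' = 1 - colMat f' * X' := by rw [← hX1]; abel
      have h3 : Cfsg.polarVec ⇑Q v ᵥ* prodRefl Q f' = Q v • x₀ := by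
        rw [hQx₀, hg', Matrix.vecMul_sub, Matrix.vecMul_one, Matrix.vecMul_vecMul]
      rw [h1, hprod, ← hX1]
      have h4 : Cfsg.reflectionMatrix ⇑Q v = 1 - (Q v)⁻¹ • Matrix.vecMulVec v (Cfsg.polarVec ⇑Q v) :=
        rfl
      rw [h4, Matrix.sub_mul, Matrix.one_mul, Matrix.smul_mul, vecMulVec_mul' (k := k), h3]
      have h5 : (Q v)⁻¹ • Matrix.vecMulVec v (Q v • x₀) = Matrix.vecMulVec v x₀ := by
        ext i l
        rw [Matrix.smul_apply, Matrix.vecMulVec_apply, Matrix.vecMulVec_apply, Pi.smul_apply,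
          smul_eq_mul, smul_eq_mul]
        field_simp
      rw [h5]
      abel
    · ext i l
      rw [Matrix.mul_apply, Fin.sum_univ_succ]
      refine Fin.cases ?_ ?_ i
      · -- row 0
        have h1 : triMat Q f 0 0 = Q v := by
          rw [triMat, Matrix.of_apply, if_pos rfl, hv]
        have h2 : ∀ j : Fin k, triMat Q f 0 j.succ = B v (f' j) := by
          intro j
          rw [triMat, Matrix.of_apply, if_neg (Fin.succ_ne_zero j).symm, if_pos (Fin.succ_pos j), hv,
            hf']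
        have h3 : polMat Q f 0 l = Cfsg.polarVec ⇑Q v l := by
          rw [polMat, Matrix.of_apply, hv]
        rw [h1, h3]
        have h4 := congrFun hQx₀ l
        rw [Pi.smul_apply, smul_eq_mul, Pi.sub_apply] at h4
        have h5 : (Matrix.of (Matrix.vecCons x₀ X')) 0 l = x₀ l := rfl
        rw [h5, h4]
        have h6 : ((Cfsg.polarVec ⇑Q v ᵥ* colMat f') ᵥ* X') l =
            ∑ j : Fin k, triMat Q f 0 j.succ * (Matrix.of (Matrix.vecCons x₀ X')) j.succ l := by
          rw [Matrix.vecMul, dotProduct]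
          refine Finset.sum_congr rfl fun j _ => ?_
          rw [h2]
          congr 1
          rw [Matrix.vecMul, ← polarVec_dotProduct, dotProduct]
          rfl
        rw [h6]
        ring
      · intro i
        have h1 : triMat Q f i.succ 0 = 0 := by
          rw [triMat, Matrix.of_apply, if_neg (Fin.succ_ne_zero i), if_neg (by simp)]
        have h2 : ∀ j : Fin k, triMat Q f i.succ j.succ = triMat Q f' i j := by
          intro j
          rw [triMat, triMat, Matrix.of_apply, Matrix.of_apply, hf']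
          simp only [Fin.succ_inj, Fin.succ_lt_succ_iff]
        rw [h1, zero_mul, zero_add]
        have h3 : polMat Q f i.succ l = polMat Q f' i l := by
          rw [polMat, polMat, Matrix.of_apply, Matrix.of_apply, hf']
        rw [h3, ← hX2, Matrix.mul_apply]
        refine Finset.sum_congr rfl fun j _ => ?_
        rw [h2]
        rfl

theorem det_triMat {k : ℕ} (f : Fin k → ι → F) : (triMat Q f).det = ∏ i, Q (f i) := by
  rw [Matrix.det_of_upperTriangular]
  · refine Finset.prod_congr rfl fun i _ => ?_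
    rw [triMat, Matrix.of_apply, if_pos rfl]
  · intro i j hij
    have hij' : j < i := hij
    rw [triMat, Matrix.of_apply, if_neg (ne_of_gt hij'), if_neg (not_lt.mpr (le_of_lt hij'))]

theorem det_formula {n : ℕ} (e : ι ≃ Fin n) (f : Fin n → ι → F) (hf : ∀ i, Q (f i) ≠ 0) :
    ∃ a : F, (∏ i, Q (f i)) * (1 - prodRefl Q f).det = a ^ 2 * (gram Q).det := by
  obtain ⟨X, hX1, hX2⟩ := key Q n f hf
  obtain ⟨A', hA'⟩ : ∃ A' : Matrix ι ι F, A' = (colMat f).submatrix id e := ⟨_, rfl⟩
  obtain ⟨X', hX'⟩ : ∃ X' : Matrix ι ι F, X' = X.submatrix e id := ⟨_, rfl⟩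
  have h1 : 1 - prodRefl Q f = A' * X' := by
    rw [hX1, hA', hX', Matrix.submatrix_mul_equiv, Matrix.submatrix_id_id]
  have h2 : (triMat Q f).submatrix e e * X' = A'ᵀ * gram Q := by
    rw [hX', Matrix.submatrix_mul_equiv, hX2, polMat_eq, hA']
    ext i l
    rw [Matrix.submatrix_apply, Matrix.mul_apply, Matrix.mul_apply]
    rfl
  have h3 := congrArg Matrix.det h2
  rw [Matrix.det_mul, Matrix.det_mul, Matrix.det_submatrix_equiv_self, det_triMat,
    Matrix.det_transpose] at h3
  refine ⟨A'.det, ?_⟩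
  rw [h1, Matrix.det_mul]
  calc (∏ i, Q (f i)) * (A'.det * X'.det) = A'.det * ((∏ i, Q (f i)) * X'.det) := by ring
    _ = A'.det * (A'.det * (gram Q).det) := by rw [h3]
    _ = A'.det ^ 2 * (gram Q).det := by ring

theorem det_formula_list (vs : List (ι → F)) (e : ι ≃ Fin vs.length) (hvs : ∀ v ∈ vs, Q v ≠ 0) :
    ∃ a : F, (vs.map (fun v => Q v)).prod *
      (1 - (vs.map (fun v => Cfsg.reflectionMatrix ⇑Q v)).prod).det = a ^ 2 * (gram Q).det := by
  obtain ⟨a, ha⟩ := det_formula Q e vs.get (fun i => hvs _ (List.get_mem vs i))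
  refine ⟨a, ?_⟩
  rw [← ha]
  congr 1
  · rw [← List.prod_ofFn]
    congr 1
    conv_lhs => rw [← List.ofFn_get vs]
    rw [List.map_ofFn]
    rfl
  · unfold prodRefl
    congr 3
    conv_lhs => rw [← List.ofFn_get vs]
    rw [List.map_ofFn]
    rfl

end

section

open Matrix Cfsg.Agent.Lib.H4 Cfsg.Agent.Lib.H13.HypPairs Cfsg.Agent.Lib.H11.ConfOrth

variable {F : Type*} [Field F] {ι : Type} [Fintype ι] [DecidableEq ι]
  (Q : QuadraticForm F (ι → F))

set_option quotPrecheck false in
local notation "B" => QuadraticMap.polar (⇑Q)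

/-- an isometry without non-zero fixed vectors is a product of exactly `n` reflections -/
theorem exists_full_list (hQ : (QuadraticMap.polarBilin Q).Nondegenerate) (h2 : (2 : F) ≠ 0)
    (A : Matrix ι ι F) (hA : ∀ x, Q (A *ᵥ x) = Q x) (hnf : ∀ u, A *ᵥ u = u → u = 0) :
    ∃ vs : List (ι → F), vs.length = Fintype.card ι ∧ (∀ v ∈ vs, Q v ≠ 0) ∧
      A = (vs.map (fun v => Cfsg.reflectionMatrix ⇑Q v)).prod := by
  have hd : Module.finrank F (⊤ : Submodule F (ι → F)) = Fintype.card ι := by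
    rw [finrank_top, Module.finrank_fintype_fun_eq_card]
  obtain ⟨vs, hlen, hvs, hrep⟩ := exists_exact_list Q h2 (Fintype.card ι) ⊤ hd
    (by
      intro u _ h
      apply hQ.1 u
      intro y
      exact h y Submodule.mem_top)
    A hA (fun _ _ => Submodule.mem_top)
    (by
      intro x hx
      have : x = 0 := by
        apply hQ.2 x
        intro y
        exact hx y Submodule.mem_top
      rw [this, Matrix.mulVec_zero])
    (fun u _ h => hnf u h)
  exact ⟨vs, hlen, fun v hv => (hvs v hv).2, hrep⟩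

/-- **Zassenhaus' formula** for the spinor norm (even dimension, `1 + c` invertible) -/
theorem zassenhaus [Fintype F] (hQ : (QuadraticMap.polarBilin Q).Nondegenerate) (h2 : (2 : F) ≠ 0)
    (hcard : 2 ≤ Fintype.card ι) (heven : Even (Fintype.card ι))
    (c : GL ι F) (hc : c ∈ Cfsg.isometryGroup F ⇑Q) (hdet : (1 + (c : Matrix ι ι F)).det ≠ 0) :
    c ∈ Cfsg.Geo.omegaGL ⇑Q ↔ IsSquare (1 + (c : Matrix ι ι F)).det := by
  have hciso := (mem_iso_iff (⇑Q) c).1 hc
  -- `-c` as product of `n` reflections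
  obtain ⟨vs, hvlen, hvs, hvrep⟩ := exists_full_list Q hQ h2 (-(c : Matrix ι ι F))
    (by
      intro x
      rw [Matrix.neg_mulVec, QuadraticMap.map_neg]
      exact hciso x)
    (by
      intro u hu
      apply Matrix.eq_zero_of_mulVec_eq_zero hdet
      rw [Matrix.add_mulVec, Matrix.one_mulVec]
      rw [Matrix.neg_mulVec] at hu
      nth_rewrite 1 [← hu]
      exact neg_add_cancel _)
  -- `-1` as product of `n` reflections
  obtain ⟨ws, hwlen, hws, hwrep⟩ := exists_full_list Q hQ h2 (-(1 : Matrix ι ι F))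
    (by
      intro x
      rw [Matrix.neg_mulVec, QuadraticMap.map_neg, Matrix.one_mulVec])
    (by
      intro u hu
      rw [Matrix.neg_mulVec, Matrix.one_mulVec] at hu
      have h3 : (2 : F) • u = 0 := by
        rw [two_smul]
        nth_rewrite 1 [← hu]
        simp
      rcases smul_eq_zero.mp h3 with h | h
      · exact absurd h h2
      · exact h)
  have hrep : (c : Matrix ι ι F) = ((ws ++ vs).map (fun v => Cfsg.reflectionMatrix ⇑Q v)).prod := by
    rw [List.map_append, List.prod_append, ← hvrep, ← hwrep]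
    simp
  have hall : ∀ v ∈ ws ++ vs, Q v ≠ 0 := by
    intro v hv
    rcases List.mem_append.mp hv with h | h
    · exact hws v h
    · exact hvs v h
  rw [omegaGL_iff_list Q hQ h2 hcard c hc (ws ++ vs) hall hrep]
  have hev : Even (ws ++ vs).length := by
    rw [List.length_append, hwlen, hvlen]
    exact Even.add heven heven
  rw [List.map_append, List.prod_append]
  have e : ι ≃ Fin (Fintype.card ι) := Fintype.equivFin ι
  obtain ⟨a, ha⟩ := det_formula_list Q vs (hvlen ▸ e) hvs
  obtain ⟨b, hb⟩ := det_formula_list Q ws (hwlen ▸ e) hws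
  rw [← hvrep, sub_neg_eq_add] at ha
  rw [← hwrep, sub_neg_eq_add] at hb
  have h11 : (1 + 1 : Matrix ι ι F) = (2 : F) • (1 : Matrix ι ι F) := by
    rw [two_smul]
  rw [h11, Matrix.det_smul, Matrix.det_one, mul_one] at hb
  obtain ⟨k, hk⟩ := heven
  have hpv : (vs.map (fun v => Q v)).prod ≠ 0 := by
    apply List.prod_ne_zero
    intro h
    obtain ⟨v, hv, hv0⟩ := List.mem_map.mp h
    exact hvs v hv hv0
  have hpw : (ws.map (fun v => Q v)).prod ≠ 0 := by
    apply List.prod_ne_zero
    intro h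
    obtain ⟨v, hv, hv0⟩ := List.mem_map.mp h
    exact hws v hv hv0
  obtain ⟨pv, hpvd⟩ : ∃ pv, pv = (vs.map (fun v => Q v)).prod := ⟨_, rfl⟩
  obtain ⟨pw, hpwd⟩ : ∃ pw, pw = (ws.map (fun v => Q v)).prod := ⟨_, rfl⟩
  obtain ⟨D, hD⟩ : ∃ D, D = (1 + (c : Matrix ι ι F)).det := ⟨_, rfl⟩
  rw [← hpvd] at ha hpv
  rw [← hpwd] at hb hpw
  rw [← hD] at ha hdet
  rw [← hpvd, ← hpwd, ← hD]
  have h2k : (2 : F) ^ Fintype.card ι = (2 ^ k) ^ 2 := by
    rw [hk, ← pow_mul, mul_two]
  rw [h2k] at hb
  have h2k0 : (2 : F) ^ k ≠ 0 := pow_ne_zero _ h2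
  have hg0 : (gram Q).det ≠ 0 := by
    intro h
    rw [h, mul_zero] at ha
    exact (mul_ne_zero hpv hdet) ha
  have ha0 : a ≠ 0 := by
    intro h
    rw [h] at ha
    simp at ha
    rcases ha with h | h
    · exact hpv h
    · exact hdet h
  have hb0 : b ≠ 0 := by
    intro h
    rw [h] at hb
    simp at hb
    rcases hb with h | h
    · exact hpw h
    · exact absurd h (by simpa using h2k0)
  have hmain : pw * pv * D * ((2 : F) ^ k) ^ 2 = (a * b * (gram Q).det) ^ 2 := by
    calc pw * pv * D * ((2 : F) ^ k) ^ 2 = (pv * D) * (pw * (2 ^ k) ^ 2) := by ring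
      _ = (a ^ 2 * (gram Q).det) * (b ^ 2 * (gram Q).det) := by rw [ha, hb]
      _ = _ := by ring
  constructor
  · rintro ⟨_, ⟨z, hz⟩⟩
    have hz0 : z ≠ 0 := by
      intro h
      rw [h, mul_zero] at hz
      exact (mul_ne_zero hpw hpv) hz
    refine ⟨a * b * (gram Q).det / (z * 2 ^ k), ?_⟩
    rw [hz] at hmain
    field_simp
    linear_combination hmain
  · rintro ⟨z, hz⟩
    refine ⟨hev, ?_⟩
    have hz0 : z ≠ 0 := by
      intro h
      rw [h, mul_zero] at hz
      exact hdet hz
    refine ⟨a * b * (gram Q).det / (z * 2 ^ k), ?_⟩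
    rw [hz] at hmain
    field_simp
    linear_combination hmain

end

end Cfsg.Agent.Lib.H13.OFus
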