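import Mathlib
import Cfsg.Agent.Lib.H13.OFus1
import Cfsg.Agent.Lib.H13.SympBasis
import Cfsg.Agent.S0756
import Cfsg.Agent.Lib.H13.PlusTS
import Cfsg.Agent.Lib.H12.OrdOD

/-!
Class fusion in `PΩ^±_{2m}(q)`, part 2 (helper13): antisymmetric matrices (`exists_symp_basis_mat`, `det_of_alt_similitude`,
`isSquare_det_of_alt_selfadjoint`); the fixed space of an isometry of order prime to `p` (`fix_nondeg`, `even_codim_fix`,
`exists_so_not_omega_comm_of_fix`); the antisymmetric matrix `Nmat` of a fixed-point-free isometry of odd order, `det_of_comm_similitude`,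
`isSquare_det_of_selfadjoint`, the criterion `exists_so_not_omega_of_pair`, and `exists_similitude_comm` (a similitude with nonsquare
multiplier and `δ = 1` centralising a given isometry of odd order).
-/

set_option autoImplicit false
set_option linter.unusedSectionVars false
set_option linter.unusedVariables false
set_option linter.unusedSimpArgs false
set_option linter.deprecated false

namespace Cfsg.Agent.Lib.H13.OFus

section

open Matrix Module

variable {F : Type*} [Field F] {ι : Type} [Fintype ι] [DecidableEq ι]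

theorem toBilin'_self_of_antisymm (h2 : (2 : F) ≠ 0) (N : Matrix ι ι F) (hN : Nᵀ = -N)
    (v : ι → F) : Matrix.toBilin' N v v = 0 := by
  rw [Matrix.toBilin'_apply']
  have h1 : v ⬝ᵥ N *ᵥ v = -(v ⬝ᵥ N *ᵥ v) := by
    calc v ⬝ᵥ N *ᵥ v = (v ᵥ* N) ⬝ᵥ v := Matrix.dotProduct_mulVec v N v
      _ = (Nᵀ *ᵥ v) ⬝ᵥ v := by rw [Matrix.mulVec_transpose]
      _ = -(N *ᵥ v ⬝ᵥ v) := by rw [hN, Matrix.neg_mulVec, neg_dotProduct]
      _ = -(v ⬝ᵥ N *ᵥ v) := by rw [dotProduct_comm]
  have h3 : (2 : F) * (v ⬝ᵥ N *ᵥ v) = 0 := by linear_combination h1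
  rcases mul_eq_zero.mp h3 with h | h
  · exact absurd h h2
  · exact h

/-- standard form of a nondegenerate antisymmetric matrix -/
theorem exists_symp_basis_mat (h2 : (2 : F) ≠ 0) {m' : ℕ} (hcard : Fintype.card ι = 2 * m')
    (N : Matrix ι ι F) (hN : Nᵀ = -N) (hdet : N.det ≠ 0) :
    ∃ b : Basis (Fin m' ⊕ Fin m') F (ι → F),
      LinearMap.BilinForm.toMatrix b (Matrix.toBilin' N) = Matrix.J (Fin m') F := by
  have halt := toBilin'_self_of_antisymm h2 N hN
  have hnd : ∀ v, (∀ w, Matrix.toBilin' N v w = 0) → v = 0 := by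
    have := (Matrix.Nondegenerate.toBilin' (Matrix.nondegenerate_of_det_ne_zero hdet)).1
    exact this
  have hV : finrank F (ι → F) = 2 * m' := by
    rw [Module.finrank_fintype_fun_eq_card, hcard]
  obtain ⟨b, h⟩ := exists_symp_basis (Matrix.toBilin' N) halt hnd hV
  refine ⟨b.reindex (Equiv.sumComm (Fin m') (Fin m')), ?_⟩
  ext x y
  rw [LinearMap.BilinForm.toMatrix_apply]
  simp only [Basis.reindex_apply, Equiv.sumComm_symm, Equiv.sumComm_apply]
  rcases x with i | i <;> rcases y with j | j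
  · simp [Matrix.J, h.iso_r]
  · simp only [Sum.swap_inl, Sum.swap_inr, Matrix.J, Matrix.fromBlocks_apply₁₂,
      Matrix.neg_apply, Matrix.one_apply]
    rw [alt_skew (Matrix.toBilin' N) halt, h.pair]
    simp [eq_comm]
  · simp only [Sum.swap_inl, Sum.swap_inr, Matrix.J, Matrix.fromBlocks_apply₂₁,
      Matrix.one_apply]
    rw [h.pair]
  · simp [Matrix.J, h.iso_l]

/-- a similitude of a nondegenerate antisymmetric matrix with multiplier `μ` has determinant
`μ ^ m'` -/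
theorem det_of_alt_similitude (h2 : (2 : F) ≠ 0) {m' : ℕ} (hcard : Fintype.card ι = 2 * m')
    (N : Matrix ι ι F) (hN : Nᵀ = -N) (hdet : N.det ≠ 0) (c : Matrix ι ι F) (μ : F) (hμ : μ ≠ 0)
    (hc : cᵀ * N * c = μ • N) : c.det = μ ^ m' := by
  obtain ⟨b, hb⟩ := exists_symp_basis_mat h2 hcard N hN hdet
  obtain ⟨c', hc'⟩ : ∃ c' : Matrix (Fin m' ⊕ Fin m') (Fin m' ⊕ Fin m') F,
      c' = LinearMap.toMatrix b b (Matrix.toLin' c) := ⟨_, rfl⟩
  have hdetc : c'.det = c.det := by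
    rw [hc', LinearMap.det_toMatrix, LinearMap.det_toLin']
  have hcomp : (Matrix.toBilin' N).comp (Matrix.toLin' c) (Matrix.toLin' c) =
      μ • Matrix.toBilin' N := by
    apply LinearMap.ext₂
    intro x y
    rw [LinearMap.BilinForm.comp_apply, LinearMap.smul_apply, LinearMap.smul_apply,
      Matrix.toBilin'_apply', Matrix.toBilin'_apply', Matrix.toLin'_apply, Matrix.toLin'_apply]
    have h1 : c *ᵥ x ⬝ᵥ N *ᵥ (c *ᵥ y) = x ⬝ᵥ (cᵀ * N * c) *ᵥ y := by
      rw [← Matrix.mulVec_mulVec, ← Matrix.mulVec_mulVec, Matrix.dotProduct_mulVec x cᵀ,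
        Matrix.vecMul_transpose]
    rw [h1, hc, Matrix.smul_mulVec, dotProduct_smul]
  have h3 : c'ᵀ * Matrix.J (Fin m') F * c' = μ • Matrix.J (Fin m') F := by
    have := LinearMap.BilinForm.toMatrix_comp b b (Matrix.toBilin' N) (Matrix.toLin' c)
      (Matrix.toLin' c)
    rw [hcomp, hb, ← hc'] at this
    rw [← this, map_smul, hb]
  obtain ⟨d, hd⟩ : ∃ d : Matrix (Fin m' ⊕ Fin m') (Fin m' ⊕ Fin m') F,
      d = Matrix.diagonal (Sum.elim (fun _ => μ⁻¹) (fun _ => 1)) := ⟨_, rfl⟩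
  have hdJ : dᵀ * Matrix.J (Fin m') F * d = μ⁻¹ • Matrix.J (Fin m') F := by
    rw [hd, Matrix.diagonal_transpose]
    ext x y
    rw [Matrix.mul_diagonal, Matrix.diagonal_mul, Matrix.smul_apply]
    rcases x with i | i <;> rcases y with j | j <;>
      simp [Matrix.J, Matrix.fromBlocks]
    ring
  have hmem : c' * d ∈ Matrix.symplecticGroup (Fin m') F := by
    rw [SymplecticGroup.mem_iff', Matrix.transpose_mul]
    calc dᵀ * c'ᵀ * Matrix.J (Fin m') F * (c' * d)
        = dᵀ * (c'ᵀ * Matrix.J (Fin m') F * c') * d := by simp only [Matrix.mul_assoc]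
      _ = μ • (dᵀ * Matrix.J (Fin m') F * d) := by
          rw [h3, Matrix.mul_smul, Matrix.smul_mul]
      _ = Matrix.J (Fin m') F := by
          rw [hdJ, smul_smul, mul_inv_cancel₀ hμ, one_smul]
  have h4 := SymplecticGroup.det_eq_one hmem
  rw [Matrix.det_mul, hdetc] at h4
  have h5 : d.det = (μ⁻¹) ^ m' := by
    rw [hd, Matrix.det_diagonal, Fintype.prod_sum_type]
    simp
  rw [h5] at h4
  have h6 : μ ^ m' * (μ⁻¹) ^ m' = 1 := by
    rw [← mul_pow, mul_inv_cancel₀ hμ, one_pow]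
  have h7 : (μ⁻¹) ^ m' ≠ 0 := pow_ne_zero _ (inv_ne_zero hμ)
  exact mul_right_cancel₀ h7 (h4.trans h6.symm)

/-- the determinant of a nondegenerate antisymmetric matrix is a nonzero square times a constant
depending only on the dimension -/
theorem det_alt_eq (h2 : (2 : F) ≠ 0) {m' : ℕ} (hcard : Fintype.card ι = 2 * m')
    (N : Matrix ι ι F) (hN : Nᵀ = -N) (hdet : N.det ≠ 0) :
    ∃ d : F, d ≠ 0 ∧ d ^ 2 * N.det = (Matrix.J (Fin m') F).det := by
  obtain ⟨b, hb⟩ := exists_symp_basis_mat h2 hcard N hN hdet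
  have e : ι ≃ Fin m' ⊕ Fin m' := Fintype.equivOfCardEq (by
    rw [hcard, Fintype.card_sum, Fintype.card_fin]; ring)
  obtain ⟨P, hP⟩ : ∃ P : Matrix ι (Fin m' ⊕ Fin m') F, P = (Pi.basisFun F ι).toMatrix ⇑b :=
    ⟨_, rfl⟩
  have h1 := LinearMap.BilinForm.toMatrix_mul_basis_toMatrix (Pi.basisFun F ι) b
    (Matrix.toBilin' N)
  rw [hb, LinearMap.BilinForm.toMatrix_basisFun, LinearMap.BilinForm.toMatrix'_toBilin', ← hP]
    at h1
  obtain ⟨P', hP'⟩ : ∃ P' : Matrix ι ι F, P' = P.submatrix id e := ⟨_, rfl⟩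
  have h3 : P'ᵀ * N * P' = (Matrix.J (Fin m') F).submatrix e e := by
    rw [← h1, hP']
    ext i j
    rw [Matrix.submatrix_apply, Matrix.mul_apply, Matrix.mul_apply]
    refine Finset.sum_congr rfl fun k _ => ?_
    rw [Matrix.mul_apply, Matrix.mul_apply]
    rfl
  have h4 := congrArg Matrix.det h3
  rw [Matrix.det_mul, Matrix.det_mul, Matrix.det_transpose, Matrix.det_submatrix_equiv_self] at h4
  refine ⟨P'.det, ?_, ?_⟩
  · intro h0
    rw [h0] at h4
    have hJ := Matrix.J_det_mul_J_det (Fin m') F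
    rw [← h4] at hJ
    simp at hJ
  · rw [← h4]; ring

/-- an operator which is self-adjoint for a nondegenerate antisymmetric matrix has square
determinant -/
theorem isSquare_det_of_alt_selfadjoint (h2 : (2 : F) ≠ 0) {m' : ℕ}
    (hcard : Fintype.card ι = 2 * m')
    (N : Matrix ι ι F) (hN : Nᵀ = -N) (hdet : N.det ≠ 0) (τ : Matrix ι ι F)
    (hτ : τᵀ * N = N * τ) (hτdet : τ.det ≠ 0) : IsSquare τ.det := by
  have hN2 : (N * τ)ᵀ = -(N * τ) := by
    rw [Matrix.transpose_mul, hN, Matrix.mul_neg, hτ]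
  have hdet2 : (N * τ).det ≠ 0 := by
    rw [Matrix.det_mul]; exact mul_ne_zero hdet hτdet
  obtain ⟨d₁, hd₁, h1⟩ := det_alt_eq h2 hcard N hN hdet
  obtain ⟨d₂, hd₂, h3⟩ := det_alt_eq h2 hcard (N * τ) hN2 hdet2
  rw [Matrix.det_mul, ← h1] at h3
  refine ⟨d₁ / d₂, ?_⟩
  have : d₂ ^ 2 * τ.det = d₁ ^ 2 := by
    have h5 : d₁ ^ 2 * N.det ≠ 0 := mul_ne_zero (pow_ne_zero _ hd₁) hdet
    have h6 : N.det * (d₂ ^ 2 * τ.det) = N.det * d₁ ^ 2 := by linear_combination h3
    exact mul_left_cancel₀ hdet h6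
  field_simp
  linear_combination this

end

section

open Matrix Module Cfsg.Agent.Lib.H4 Cfsg.Agent.Lib.H13.HypPairs

variable {F : Type*} [Field F] {ι : Type} [Fintype ι] [DecidableEq ι]
  (Q : QuadraticForm F (ι → F))

set_option quotPrecheck false in
local notation "B" => QuadraticMap.polar (⇑Q)

theorem polarBilin_isSymm' : (QuadraticMap.polarBilin Q).IsSymm :=
  ⟨fun x y => by
    simp only [QuadraticMap.polarBilin_apply_apply, RingHom.id_apply]
    exact QuadraticMap.polar_comm _ _ _⟩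

theorem polarBilin_isRefl' : (QuadraticMap.polarBilin Q).IsRefl :=
  (polarBilin_isSymm' Q).isRefl

/-- fixed space of a matrix -/
def fixSub (A : Matrix ι ι F) : Submodule F (ι → F) := LinearMap.ker (Matrix.toLin' (A - 1))

omit [DecidableEq ι] in
theorem mem_fixSub [DecidableEq ι] (A : Matrix ι ι F) (v : ι → F) : v ∈ fixSub A ↔ A *ᵥ v = v := by
  unfold fixSub
  rw [LinearMap.mem_ker, Matrix.toLin'_apply, Matrix.sub_mulVec, Matrix.one_mulVec, sub_eq_zero]

theorem pow_isometry (A : Matrix ι ι F) (hA : ∀ x, Q (A *ᵥ x) = Q x) (i : ℕ) (x : ι → F) :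
    Q ((A ^ i) *ᵥ x) = Q x := by
  induction i generalizing x with
  | zero => rw [pow_zero, Matrix.one_mulVec]
  | succ i ih => rw [pow_succ, ← Matrix.mulVec_mulVec, ih, hA]

theorem pow_fix (A : Matrix ι ι F) (x : ι → F) (hx : A *ᵥ x = x) (i : ℕ) :
    (A ^ i) *ᵥ x = x := by
  induction i with
  | zero => rw [pow_zero, Matrix.one_mulVec]
  | succ i ih => rw [pow_succ, ← Matrix.mulVec_mulVec, hx, ih]

/-- the fixed space of an isometry of order prime to the characteristic is nondegenerate -/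
theorem fix_nondeg (A : Matrix ι ι F) (hA : ∀ x, Q (A *ᵥ x) = Q x) (r : ℕ) (hAr : A ^ r = 1)
    (hrF : (r : F) ≠ 0) (x : ι → F) (hx : x ∈ fixSub A)
    (h : ∀ y ∈ fixSub A, B x y = 0) (y : ι → F) : B x y = 0 := by
  rw [mem_fixSub] at hx
  obtain ⟨S, hS⟩ : ∃ S : Matrix ι ι F, S = ∑ i ∈ Finset.range r, A ^ i := ⟨_, rfl⟩
  have hAS : A * S = S := by
    rw [hS, Finset.mul_sum]
    have h1 : ∀ i ∈ Finset.range r, A * A ^ i = A ^ (i + 1) := by
      intro i _; rw [pow_succ']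
    rw [Finset.sum_congr rfl h1]
    have h3 := Finset.sum_range_succ' (fun i => A ^ i) r
    have h4 := Finset.sum_range_succ (fun i => A ^ i) r
    rw [h4] at h3
    simp only [pow_zero, hAr] at h3
    exact (add_right_cancel h3).symm
  have hSy : S *ᵥ y ∈ fixSub A := by
    rw [mem_fixSub, Matrix.mulVec_mulVec, hAS]
  have h1 := h _ hSy
  have h3 : B x (S *ᵥ y) = (r : F) * B x y := by
    rw [hS, Matrix.sum_mulVec]
    have : ∀ (s : Finset ℕ) (f : ℕ → ι → F), B x (∑ i ∈ s, f i) = ∑ i ∈ s, B x (f i) := by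
      intro s f
      exact map_sum (QuadraticMap.polarBilin Q x) f s
    rw [this]
    have h5 : ∀ i ∈ Finset.range r, B x ((A ^ i) *ᵥ y) = B x y := by
      intro i _
      nth_rewrite 1 [← pow_fix A x hx i]
      exact polar_mulVec Q (A ^ i) (pow_isometry Q A hA i) x y
    rw [Finset.sum_congr rfl h5, Finset.sum_const, Finset.card_range, nsmul_eq_mul]
  rw [h3] at h1
  rcases mul_eq_zero.mp h1 with h | h
  · exact absurd h hrF
  · exact h

theorem fix_disjoint (hQ : (QuadraticMap.polarBilin Q).Nondegenerate)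
    (A : Matrix ι ι F) (hA : ∀ x, Q (A *ᵥ x) = Q x) (r : ℕ) (hAr : A ^ r = 1)
    (hrF : (r : F) ≠ 0) :
    Disjoint (fixSub A) (LinearMap.BilinForm.orthogonal (QuadraticMap.polarBilin Q) (fixSub A)) := by
  rw [Submodule.disjoint_def]
  intro x hx hx'
  apply hQ.1 x
  intro y
  apply fix_nondeg Q A hA r hAr hrF x hx
  intro y' hy'
  have := LinearMap.BilinForm.mem_orthogonal_iff.mp hx' y' hy'
  rw [QuadraticMap.polarBilin_apply_apply, QuadraticMap.polar_comm] at this
  exact this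

/-- a nonzero nondegenerate subspace contains a nonsingular vector -/
theorem exists_nonsingular_of_disjoint (h2 : (2 : F) ≠ 0) (X : Submodule F (ι → F)) (hX0 : X ≠ ⊥)
    (hX : Disjoint X (LinearMap.BilinForm.orthogonal (QuadraticMap.polarBilin Q) X)) :
    ∃ a ∈ X, Q a ≠ 0 := by
  by_contra hcon
  push Not at hcon
  obtain ⟨x, hxX, hx0⟩ := Submodule.exists_mem_ne_zero_of_ne_bot hX0
  apply hx0
  rw [Submodule.disjoint_def] at hX
  apply hX x hxX
  rw [LinearMap.BilinForm.mem_orthogonal_iff]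
  intro y hy
  rw [QuadraticMap.polarBilin_apply_apply]
  unfold QuadraticMap.polar
  rw [hcon _ (X.add_mem hy hxX), hcon _ hy, hcon _ hxX]
  ring

/-- universality of a nondegenerate subspace of dimension at least two (odd characteristic) -/
theorem exists_Q_eq_of_mem' [Finite F] (h2 : (2 : F) ≠ 0) (X : Submodule F (ι → F))
    (hX : Disjoint X (LinearMap.BilinForm.orthogonal (QuadraticMap.polarBilin Q) X))
    (hdim : 2 ≤ finrank F X) (c : F) (hc : c ≠ 0) : ∃ x ∈ X, Q x = c := by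
  have hnd := LinearMap.BilinForm.nondegenerate_restrict_of_disjoint_orthogonal
    (QuadraticMap.polarBilin Q) (polarBilin_isRefl' Q) hX
  let B' : LinearMap.BilinForm F X :=
    (2 * c)⁻¹ • LinearMap.BilinForm.restrict (QuadraticMap.polarBilin Q) X
  have hk : (2 * c)⁻¹ ≠ 0 := inv_ne_zero (mul_ne_zero h2 hc)
  have hB'app : ∀ x y : X, B' x y = (2 * c)⁻¹ * QuadraticMap.polar (⇑Q) (x : ι → F) y :=
    fun x y => rfl
  have hS : B'.IsSymm := ⟨fun x y => by
    rw [hB'app, hB'app, QuadraticMap.polar_comm]⟩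
  have hB : B'.Nondegenerate := by
    constructor
    · intro x hx
      apply hnd.1 x
      intro y
      have := hx y
      simp only [B', LinearMap.smul_apply, smul_eq_mul] at this
      exact (mul_eq_zero.1 this).resolve_left hk
    · intro x hx
      apply hnd.2 x
      intro y
      have := hx y
      simp only [B', LinearMap.smul_apply, smul_eq_mul] at this
      exact (mul_eq_zero.1 this).resolve_left hk
  obtain ⟨x, hx⟩ := Cfsg.Agent.S0756.exists_norm_one h2 B' hS hB hdim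
  refine ⟨x, x.2, ?_⟩
  rw [hB'app, Cfsg.Agent.Lib.H4.polar_self] at hx
  field_simp at hx
  linear_combination hx

theorem neg_one_pow_eq_one_iff' (h2 : (2 : F) ≠ 0) (d : ℕ) : (-1 : F) ^ d = 1 ↔ Even d := by
  constructor
  · intro h
    by_contra hodd
    rw [Nat.not_even_iff_odd] at hodd
    rw [hodd.neg_one_pow] at h
    apply h2
    linear_combination -h
  · intro h
    exact h.neg_one_pow

/-- the codimension of the fixed space of an isometry of determinant one is even -/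
theorem even_codim_fix (hQ : (QuadraticMap.polarBilin Q).Nondegenerate) (h2 : (2 : F) ≠ 0)
    (A : Matrix ι ι F) (hA : ∀ x, Q (A *ᵥ x) = Q x) (r : ℕ) (hAr : A ^ r = 1)
    (hrF : (r : F) ≠ 0) (hdet : A.det = 1) :
    Even (Fintype.card ι - finrank F (fixSub A)) := by
  obtain ⟨U, hU⟩ : ∃ U : Submodule F (ι → F),
      U = LinearMap.BilinForm.orthogonal (QuadraticMap.polarBilin Q) (fixSub A) := ⟨_, rfl⟩
  have hdis := fix_disjoint Q hQ A hA r hAr hrF
  rw [← hU, Submodule.disjoint_def] at hdis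
  have hmemU : ∀ u, u ∈ U ↔ ∀ y ∈ fixSub A, B y u = 0 := by
    intro u
    rw [hU, LinearMap.BilinForm.mem_orthogonal_iff]
    rfl
  have hUU : LinearMap.BilinForm.orthogonal (QuadraticMap.polarBilin Q) U = fixSub A := by
    rw [hU, LinearMap.BilinForm.orthogonal_orthogonal hQ (polarBilin_isRefl' Q)]
  have hd : finrank F U = Fintype.card ι - finrank F (fixSub A) := by
    rw [hU, LinearMap.BilinForm.finrank_orthogonal hQ, Module.finrank_fintype_fun_eq_card]
  obtain ⟨vs, hlen, hvs, hrep⟩ := exists_exact_list Q h2 _ U hd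
    (by
      intro u hu h
      apply hdis u ?_ hu
      rw [← hUU, LinearMap.BilinForm.mem_orthogonal_iff]
      intro u' hu'
      rw [QuadraticMap.polarBilin_apply_apply, QuadraticMap.polar_comm]
      exact h u' hu')
    A hA
    (by
      intro u hu
      rw [hmemU] at hu ⊢
      intro y hy
      have hy' := (mem_fixSub A y).1 hy
      nth_rewrite 1 [← hy']
      rw [polar_mulVec Q A hA]
      exact hu y hy)
    (by
      intro x hx
      rw [← mem_fixSub, ← hUU, LinearMap.BilinForm.mem_orthogonal_iff]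
      intro u hu
      exact hx u hu)
    (by
      intro u hu h
      exact hdis u ((mem_fixSub A u).2 h) hu)
  have h3 := Cfsg.Agent.Lib.H13.PlusTS.det_refl_list Q vs (fun v hv => (hvs v hv).2)
  rw [← hrep, hdet, hlen] at h3
  exact (neg_one_pow_eq_one_iff' h2 _).1 h3.symm

end

section

open Matrix Module Cfsg.Agent.Lib.H4 Cfsg.Agent.Lib.H13.HypPairs Cfsg.Agent.Lib.H11.ConfOrth
open Cfsg.Agent.Lib.H12.OrdO

variable {F : Type*} [Field F] {ι : Type} [Fintype ι] [DecidableEq ι]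
  (Q : QuadraticForm F (ι → F))

set_option quotPrecheck false in
local notation "B" => QuadraticMap.polar (⇑Q)

theorem refl_comm (A : Matrix ι ι F) (hA : ∀ x, Q (A *ᵥ x) = Q x) (a : ι → F) (ha : A *ᵥ a = a) :
    A * Cfsg.reflectionMatrix ⇑Q a = Cfsg.reflectionMatrix ⇑Q a * A := by
  apply Matrix.ext_iff_mulVec.mpr
  intro x
  rw [← Matrix.mulVec_mulVec, ← Matrix.mulVec_mulVec, reflectionMatrix_mulVec,
    reflectionMatrix_mulVec, Matrix.mulVec_sub, Matrix.mulVec_smul, ha]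
  congr 3
  nth_rewrite 2 [← ha]
  rw [polar_mulVec Q A hA]

theorem det_sq_eq_one (hQ : (QuadraticMap.polarBilin Q).Nondegenerate) (g : GL ι F)
    (hg : g ∈ Cfsg.isometryGroup F ⇑Q) : g.1.det * g.1.det = 1 := by
  have h := congrArg Matrix.det (transpose_gramM_mul Q g hg)
  rw [Matrix.det_mul, Matrix.det_mul, Matrix.det_transpose] at h
  have h0 := gramM_det_ne_zero Q hQ
  have : (gramM Q).det * (g.1.det * g.1.det) = (gramM Q).det * 1 := by linear_combination h
  exact mul_left_cancel₀ h0 this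

theorem det_eq_one_of_odd (hQ : (QuadraticMap.polarBilin Q).Nondegenerate) (g : GL ι F)
    (hg : g ∈ Cfsg.isometryGroup F ⇑Q) (r : ℕ) (hodd : Odd r) (hgr : g ^ r = 1) :
    g.1.det = 1 := by
  have h1 := det_sq_eq_one Q hQ g hg
  have h3 : g.1.det ^ r = 1 := by
    rw [← Matrix.det_pow, ← Units.val_pow_eq_pow_val, hgr, Units.val_one, Matrix.det_one]
  obtain ⟨k, hk⟩ := hodd
  rw [hk, pow_succ, pow_mul, pow_two, h1, one_pow, one_mul] at h3
  exact h3

theorem val_pow_eq_one (g : GL ι F) (r : ℕ) (hgr : g ^ r = 1) : g.1 ^ r = 1 := by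
  rw [← Units.val_pow_eq_pow_val, hgr, Units.val_one]

/-- `(B)` when the fixed space is nonzero -/
theorem exists_so_not_omega_comm_of_fix [Fintype F]
    (hQ : (QuadraticMap.polarBilin Q).Nondegenerate) (h2 : (2 : F) ≠ 0)
    (hcard : 2 ≤ Fintype.card ι) (heven : Even (Fintype.card ι))
    (g : GL ι F) (hg : g ∈ Cfsg.isometryGroup F ⇑Q) (r : ℕ) (hodd : Odd r) (hgr : g ^ r = 1)
    (hrF : (r : F) ≠ 0) (hV : fixSub g.1 ≠ ⊥) :
    ∃ c : GL ι F, c ∈ Cfsg.specialIsometryGL F ⇑Q ∧ c ∉ Cfsg.Geo.omegaGL ⇑Q ∧ c * g = g * c := by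
  have hgiso := (mem_iso_iff (⇑Q) g).1 hg
  have hgr' := val_pow_eq_one g r hgr
  have hdet := det_eq_one_of_odd Q hQ g hg r hodd hgr
  have hdis := fix_disjoint Q hQ g.1 hgiso r hgr' hrF
  have hev := even_codim_fix Q hQ h2 g.1 hgiso r hgr' hrF hdet
  have hle : finrank F (fixSub g.1) ≤ Fintype.card ι := by
    rw [← Module.finrank_fintype_fun_eq_card (R := F) (η := ι)]
    exact Submodule.finrank_le _
  have hpos : 0 < finrank F (fixSub g.1) := by
    rw [Module.finrank_pos_iff_exists_ne_zero]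
    obtain ⟨x, hx, hx0⟩ := Submodule.exists_mem_ne_zero_of_ne_bot hV
    exact ⟨⟨x, hx⟩, fun h => hx0 (congrArg Subtype.val h)⟩
  have hdim : 2 ≤ finrank F (fixSub g.1) := by
    obtain ⟨k, hk⟩ := heven
    obtain ⟨l, hl⟩ := hev
    omega
  have hchar : ringChar F ≠ 2 := by
    intro h
    apply h2
    have := ringChar.spec F 2
    rw [h] at this
    exact_mod_cast (this.2 (dvd_refl 2))
  obtain ⟨ν, hν⟩ := FiniteField.exists_nonsquare hchar
  have hν0 : ν ≠ 0 := by
    rintro rfl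
    exact hν ⟨0, by simp⟩
  obtain ⟨a, haV, ha⟩ := exists_Q_eq_of_mem' Q h2 _ hdis hdim 1 one_ne_zero
  obtain ⟨b, hbV, hb⟩ := exists_Q_eq_of_mem' Q h2 _ hdis hdim ν hν0
  have ha0 : Q a ≠ 0 := by rw [ha]; exact one_ne_zero
  have hb0 : Q b ≠ 0 := by rw [hb]; exact hν0
  obtain ⟨c, hc⟩ : ∃ c : ↥(Cfsg.isometryGroup F ⇑Q), c = reflG Q a ha0 * reflG Q b hb0 := ⟨_, rfl⟩
  have hrep : ((c : GL ι F) : Matrix ι ι F) =
      ([a, b].map (fun v => Cfsg.reflectionMatrix ⇑Q v)).prod := by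
    rw [hc]
    simp only [List.map_cons, List.map_nil, List.prod_cons, List.prod_nil, Matrix.mul_one]
    rfl
  have hall : ∀ v ∈ [a, b], Q v ≠ 0 := by
    intro v hv
    simp only [List.mem_cons, List.not_mem_nil, or_false] at hv
    rcases hv with rfl | rfl
    · exact ha0
    · exact hb0
  refine ⟨c.1, ?_, ?_, ?_⟩
  · rw [sO_iff_even Q h2 c.1 c.2 [a, b] hall hrep]
    exact ⟨1, rfl⟩
  · rw [omegaGL_iff_list Q hQ h2 hcard c.1 c.2 [a, b] hall hrep]
    rintro ⟨_, hsq⟩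
    apply hν
    simpa [ha, hb] using hsq
  · apply Units.ext
    rw [Units.val_mul, Units.val_mul, hrep]
    simp only [List.map_cons, List.map_nil, List.prod_cons, List.prod_nil, Matrix.mul_one]
    have h1 := refl_comm Q g.1 hgiso a ((mem_fixSub g.1 a).1 haV)
    have h3 := refl_comm Q g.1 hgiso b ((mem_fixSub g.1 b).1 hbV)
    rw [Matrix.mul_assoc, ← h3, ← Matrix.mul_assoc, ← h1, Matrix.mul_assoc]

end

section

open Matrix Module Polynomial Cfsg.Agent.Lib.H4 Cfsg.Agent.Lib.H13.HypPairs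
open Cfsg.Agent.Lib.H11.ConfOrth Cfsg.Agent.Lib.H12.OrdO

variable {F : Type*} [Field F] {ι : Type} [Fintype ι] [DecidableEq ι]
  (Q : QuadraticForm F (ι → F))

set_option quotPrecheck false in
local notation "B" => QuadraticMap.polar (⇑Q)

theorem gramM_transpose : (gramM Q)ᵀ = gramM Q := by
  ext i j
  rw [Matrix.transpose_apply, gramM, LinearMap.BilinForm.toMatrix'_apply,
    LinearMap.BilinForm.toMatrix'_apply, QuadraticMap.polarBilin_apply_apply,
    QuadraticMap.polarBilin_apply_apply, QuadraticMap.polar_comm]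

theorem polar_eq_gramM (x y : ι → F) : B x y = x ⬝ᵥ gramM Q *ᵥ y := by
  rw [← Matrix.toBilin'_apply', gramM, Matrix.toBilin'_toMatrix']
  rfl

theorem gramM_similitude (c : Matrix ι ι F) (μ : F) (hc : ∀ x, Q (c *ᵥ x) = μ * Q x) :
    cᵀ * gramM Q * c = μ • gramM Q := by
  have h1 : LinearMap.BilinForm.comp (QuadraticMap.polarBilin Q)
      (Matrix.toLin' c) (Matrix.toLin' c) = μ • QuadraticMap.polarBilin Q := by
    apply LinearMap.BilinForm.ext
    intro v w
    rw [LinearMap.BilinForm.comp_apply, LinearMap.smul_apply, LinearMap.smul_apply,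
      QuadraticMap.polarBilin_apply_apply,
      QuadraticMap.polarBilin_apply_apply, Matrix.toLin'_apply, Matrix.toLin'_apply]
    simp only [QuadraticMap.polar, ← Matrix.mulVec_add, hc, smul_eq_mul]
    ring
  have h2 := LinearMap.BilinForm.toMatrix'_comp (QuadraticMap.polarBilin Q)
    (Matrix.toLin' c) (Matrix.toLin' c)
  rw [h1, LinearMap.toMatrix'_toLin', map_smul] at h2
  exact h2.symm

/-- a matrix preserving the Gram matrix is an isometry (odd characteristic) -/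
theorem isometry_of_gramM (h2 : (2 : F) ≠ 0) (c : Matrix ι ι F)
    (hc : cᵀ * gramM Q * c = gramM Q) (x : ι → F) : Q (c *ᵥ x) = Q x := by
  have h1 : B (c *ᵥ x) (c *ᵥ x) = B x x := by
    rw [polar_eq_gramM, polar_eq_gramM]
    nth_rewrite 2 [← hc]
    rw [← Matrix.mulVec_mulVec, ← Matrix.mulVec_mulVec, Matrix.dotProduct_mulVec x cᵀ,
      Matrix.vecMul_transpose]
  rw [Cfsg.Agent.Lib.H4.polar_self, Cfsg.Agent.Lib.H4.polar_self] at h1
  exact mul_left_cancel₀ h2 h1

section iso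

variable (g gi : Matrix ι ι F) (hggi : g * gi = 1) (hgig : gi * g = 1)
  (hg : ∀ x, Q (g *ᵥ x) = Q x)

include hggi hg in
theorem gT_gram : gᵀ * gramM Q = gramM Q * gi := by
  have h := gramM_similitude Q g 1 (by intro x; rw [hg, one_mul])
  rw [one_smul] at h
  calc gᵀ * gramM Q = gᵀ * gramM Q * (g * gi) := by rw [hggi, Matrix.mul_one]
    _ = (gᵀ * gramM Q * g) * gi := by simp only [Matrix.mul_assoc]
    _ = gramM Q * gi := by rw [h]

include hggi hgig hg in
theorem giT_gram : giᵀ * gramM Q = gramM Q * g := by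
  have h := gT_gram Q g gi hggi hg
  have h1 : giᵀ * gᵀ = 1 := by rw [← Matrix.transpose_mul, hggi, Matrix.transpose_one]
  calc giᵀ * gramM Q = giᵀ * gramM Q * (gi * g) := by rw [hgig, Matrix.mul_one]
    _ = giᵀ * (gramM Q * gi) * g := by simp only [Matrix.mul_assoc]
    _ = giᵀ * (gᵀ * gramM Q) * g := by rw [h]
    _ = (giᵀ * gᵀ) * gramM Q * g := by simp only [Matrix.mul_assoc]
    _ = gramM Q * g := by rw [h1, Matrix.one_mul]

/-- the antisymmetric matrix attached to an isometry -/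
noncomputable def Nmat : Matrix ι ι F := gramM Q * (g - gi)

include hggi hgig hg in
theorem Nmat_transpose : (Nmat Q g gi)ᵀ = -Nmat Q g gi := by
  unfold Nmat
  rw [Matrix.transpose_mul, Matrix.transpose_sub, gramM_transpose, Matrix.sub_mul,
    gT_gram Q g gi hggi hg, giT_gram Q g gi hggi hgig hg, Matrix.mul_sub]
  abel

include hggi in
theorem sub_inv_det_ne_zero (r : ℕ) (hodd : Odd r) (hgr : g ^ r = 1)
    (hfix : ∀ v, g *ᵥ v = v → v = 0) : (g - gi).det ≠ 0 := by
  intro h0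
  obtain ⟨v, hv0, hv⟩ := Matrix.exists_mulVec_eq_zero_iff.mpr h0
  apply hv0
  apply hfix
  rw [Matrix.sub_mulVec, sub_eq_zero] at hv
  have h1 : (g * g) *ᵥ v = v := by
    rw [← Matrix.mulVec_mulVec, hv, Matrix.mulVec_mulVec, hggi, Matrix.one_mulVec]
  obtain ⟨k, hk⟩ := hodd
  have h3 : g = (g * g) ^ (k + 1) := by
    rw [← pow_two, ← pow_mul]
    have : 2 * (k + 1) = r + 1 := by omega
    rw [this, pow_succ, hgr, Matrix.one_mul]
  rw [h3]
  exact pow_fix _ v h1 _

include hggi hgig hg in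
theorem Nmat_det_ne_zero (hQ : (QuadraticMap.polarBilin Q).Nondegenerate)
    (r : ℕ) (hodd : Odd r) (hgr : g ^ r = 1)
    (hfix : ∀ v, g *ᵥ v = v → v = 0) : (Nmat Q g gi).det ≠ 0 := by
  unfold Nmat
  rw [Matrix.det_mul]
  exact mul_ne_zero (gramM_det_ne_zero Q hQ) (sub_inv_det_ne_zero g gi hggi r hodd hgr hfix)

include hggi hgig hg in
/-- `T1`: a similitude commuting with a fixed-point-free isometry of odd order has determinant
`μ ^ m'` -/
theorem det_of_comm_similitude (hQ : (QuadraticMap.polarBilin Q).Nondegenerate)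
    (h2 : (2 : F) ≠ 0) {m' : ℕ} (hcard : Fintype.card ι = 2 * m')
    (r : ℕ) (hodd : Odd r) (hgr : g ^ r = 1) (hfix : ∀ v, g *ᵥ v = v → v = 0)
    (c : Matrix ι ι F) (μ : F) (hμ : μ ≠ 0) (hc : ∀ x, Q (c *ᵥ x) = μ * Q x)
    (hcg : c * g = g * c) (hcgi : c * gi = gi * c) : c.det = μ ^ m' := by
  apply det_of_alt_similitude h2 hcard (Nmat Q g gi) (Nmat_transpose Q g gi hggi hgig hg)
    (Nmat_det_ne_zero Q g gi hggi hgig hg hQ r hodd hgr hfix) c μ hμ
  unfold Nmat
  have h1 := gramM_similitude Q c μ hc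
  calc cᵀ * (gramM Q * (g - gi)) * c = cᵀ * gramM Q * ((g - gi) * c) := by
        simp only [Matrix.mul_assoc]
    _ = cᵀ * gramM Q * (c * (g - gi)) := by
        rw [Matrix.sub_mul, Matrix.mul_sub c, hcg, hcgi]
    _ = (cᵀ * gramM Q * c) * (g - gi) := by simp only [Matrix.mul_assoc]
    _ = μ • (gramM Q * (g - gi)) := by rw [h1, Matrix.smul_mul]

include hggi hgig hg in
/-- `T2`: a self-adjoint matrix commuting with a fixed-point-free isometry of odd order has
square determinant -/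
theorem isSquare_det_of_selfadjoint (hQ : (QuadraticMap.polarBilin Q).Nondegenerate)
    (h2 : (2 : F) ≠ 0) {m' : ℕ} (hcard : Fintype.card ι = 2 * m')
    (r : ℕ) (hodd : Odd r) (hgr : g ^ r = 1) (hfix : ∀ v, g *ᵥ v = v → v = 0)
    (τ : Matrix ι ι F) (hτ : τᵀ * gramM Q = gramM Q * τ)
    (hτg : τ * g = g * τ) (hτgi : τ * gi = gi * τ) (hτdet : τ.det ≠ 0) : IsSquare τ.det := by
  apply isSquare_det_of_alt_selfadjoint h2 hcard (Nmat Q g gi)
    (Nmat_transpose Q g gi hggi hgig hg)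
    (Nmat_det_ne_zero Q g gi hggi hgig hg hQ r hodd hgr hfix) τ ?_ hτdet
  unfold Nmat
  calc τᵀ * (gramM Q * (g - gi)) = (τᵀ * gramM Q) * (g - gi) := by rw [Matrix.mul_assoc]
    _ = gramM Q * (τ * (g - gi)) := by rw [hτ, Matrix.mul_assoc]
    _ = gramM Q * ((g - gi) * τ) := by rw [Matrix.mul_sub, Matrix.sub_mul, hτg, hτgi]
    _ = gramM Q * (g - gi) * τ := by rw [Matrix.mul_assoc]

include hggi hg in
theorem adj_pow (n : ℕ) : (g ^ n)ᵀ * gramM Q = gramM Q * gi ^ n := by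
  induction n with
  | zero => simp
  | succ n ih =>
    rw [pow_succ, Matrix.transpose_mul, Matrix.mul_assoc, ih, ← Matrix.mul_assoc,
      gT_gram Q g gi hggi hg, Matrix.mul_assoc, ← pow_succ']

include hggi hg in
theorem adj_aeval (a : F[X]) : (aeval g a)ᵀ * gramM Q = gramM Q * aeval gi a := by
  induction a using Polynomial.induction_on' with
  | add p q hp hq =>
    rw [map_add, map_add, Matrix.transpose_add, Matrix.add_mul, hp, hq, Matrix.mul_add]
  | monomial n c =>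
    rw [Polynomial.aeval_monomial, Polynomial.aeval_monomial, Matrix.transpose_mul,
      Matrix.mul_assoc]
    have h1 : (algebraMap F (Matrix ι ι F) c)ᵀ = algebraMap F (Matrix ι ι F) c := by
      rw [Matrix.algebraMap_eq_diagonal, Matrix.diagonal_transpose]
    rw [h1, Algebra.commutes c (gramM Q), ← Matrix.mul_assoc, adj_pow Q g gi hggi hg n,
      Algebra.commutes c (gi ^ n), Matrix.mul_assoc]

end iso

end

section

open Matrix Module Polynomial Cfsg.Agent.Lib.H4 Cfsg.Agent.Lib.H13.HypPairs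
open Cfsg.Agent.Lib.H11.ConfOrth Cfsg.Agent.Lib.H12.OrdO

variable {F : Type*} [Field F] {ι : Type} [Fintype ι] [DecidableEq ι]
  (Q : QuadraticForm F (ι → F))

set_option quotPrecheck false in
local notation "B" => QuadraticMap.polar (⇑Q)

theorem inv_comm_of_comm (X Xi Y : Matrix ι ι F) (h1 : X * Xi = 1) (h2 : Xi * X = 1)
    (h : X * Y = Y * X) : Xi * Y = Y * Xi := by
  calc Xi * Y = Xi * Y * (X * Xi) := by rw [h1, Matrix.mul_one]
    _ = Xi * (Y * X) * Xi := by simp only [Matrix.mul_assoc]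
    _ = Xi * (X * Y) * Xi := by rw [h]
    _ = (Xi * X) * Y * Xi := by simp only [Matrix.mul_assoc]
    _ = Y * Xi := by rw [h2, Matrix.one_mul]

/-- the criterion producing elements of `C_SO(g) \ Ω` -/
theorem exists_so_not_omega_of_pair [Fintype F]
    (hQ : (QuadraticMap.polarBilin Q).Nondegenerate) (h2 : (2 : F) ≠ 0) {m' : ℕ}
    (hcard : Fintype.card ι = 2 * m') (hm' : 1 ≤ m')
    (g : GL ι F) (hg : g ∈ Cfsg.isometryGroup F ⇑Q) (r : ℕ) (hodd : Odd r) (hgr : g ^ r = 1)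
    (hfix : ∀ v, g.1 *ᵥ v = v → v = 0)
    (Ξ Ξ' : Matrix ι ι F) (hadj : Ξᵀ * gramM Q = gramM Q * Ξ') (hcomm : Ξ * Ξ' = Ξ' * Ξ)
    (h1 : Ξ * g.1 = g.1 * Ξ) (h1i : Ξ * (g⁻¹).1 = (g⁻¹).1 * Ξ)
    (h1' : Ξ' * g.1 = g.1 * Ξ') (h1i' : Ξ' * (g⁻¹).1 = (g⁻¹).1 * Ξ')
    (hns : ¬ IsSquare Ξ.det) (hd : (Ξ + Ξ').det ≠ 0) :
    ∃ c : GL ι F, c ∈ Cfsg.specialIsometryGL F ⇑Q ∧ c ∉ Cfsg.Geo.omegaGL ⇑Q ∧ c * g = g * c := by
  have hgiso := (mem_iso_iff (⇑Q) g).1 hg
  have hggi : g.1 * (g⁻¹).1 = 1 := by rw [← Units.val_mul, mul_inv_cancel, Units.val_one]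
  have hgig : (g⁻¹).1 * g.1 = 1 := by rw [← Units.val_mul, inv_mul_cancel, Units.val_one]
  have hgr' := val_pow_eq_one g r hgr
  have hM0 := gramM_det_ne_zero Q hQ
  have hdΞ : Ξ.det ≠ 0 := by
    intro h
    apply hns
    rw [h]
    exact ⟨0, by simp⟩
  have hdΞ' : Ξ'.det = Ξ.det := by
    have := congrArg Matrix.det hadj
    rw [Matrix.det_mul, Matrix.det_mul, Matrix.det_transpose] at this
    have h3 : (gramM Q).det * Ξ'.det = (gramM Q).det * Ξ.det := by linear_combination -this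
    exact mul_left_cancel₀ hM0 h3
  have hu : IsUnit Ξ'.det := by rw [hdΞ']; exact hdΞ.isUnit
  obtain ⟨Ξi, hΞi⟩ : ∃ Ξi : Matrix ι ι F, Ξi = Ξ'⁻¹ := ⟨_, rfl⟩
  have hi1 : Ξ' * Ξi = 1 := by rw [hΞi]; exact Matrix.mul_nonsing_inv _ hu
  have hi2 : Ξi * Ξ' = 1 := by rw [hΞi]; exact Matrix.nonsing_inv_mul _ hu
  have hadj' : Ξ'ᵀ * gramM Q = gramM Q * Ξ := by
    have := congrArg Matrix.transpose hadj
    rw [Matrix.transpose_mul, Matrix.transpose_mul, Matrix.transpose_transpose,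
      gramM_transpose] at this
    exact this.symm
  obtain ⟨cm, hcm⟩ : ∃ cm : Matrix ι ι F, cm = Ξ * Ξi := ⟨_, rfl⟩
  have hcM : cmᵀ * gramM Q * cm = gramM Q := by
    rw [hcm, Matrix.transpose_mul]
    calc Ξiᵀ * Ξᵀ * gramM Q * (Ξ * Ξi) = Ξiᵀ * (Ξᵀ * gramM Q) * Ξ * Ξi := by
          simp only [Matrix.mul_assoc]
      _ = Ξiᵀ * gramM Q * (Ξ' * Ξ) * Ξi := by rw [hadj]; simp only [Matrix.mul_assoc]
      _ = Ξiᵀ * gramM Q * Ξ * (Ξ' * Ξi) := by rw [← hcomm]; simp only [Matrix.mul_assoc]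
      _ = Ξiᵀ * (gramM Q * Ξ) := by rw [hi1, Matrix.mul_one, Matrix.mul_assoc]
      _ = (Ξ' * Ξi)ᵀ * gramM Q := by rw [← hadj', Matrix.transpose_mul, Matrix.mul_assoc]
      _ = gramM Q := by rw [hi1, Matrix.transpose_one, Matrix.one_mul]
  have hciso : ∀ x, Q (cm *ᵥ x) = Q x := isometry_of_gramM Q h2 cm hcM
  have hΞig : Ξi * g.1 = g.1 * Ξi := inv_comm_of_comm Ξ' Ξi g.1 hi1 hi2 h1'
  have hcg : cm * g.1 = g.1 * cm := by
    rw [hcm, Matrix.mul_assoc, hΞig, ← Matrix.mul_assoc, h1, Matrix.mul_assoc]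
  have hdetcm : cm.det = 1 := by
    have h3 : Ξi.det * Ξ'.det = 1 := by rw [← Matrix.det_mul, hi2, Matrix.det_one]
    rw [hcm, Matrix.det_mul, ← hdΞ', mul_comm]
    exact h3
  obtain ⟨c, hc⟩ : ∃ c : GL ι F, c.1 = cm :=
    ⟨Matrix.GeneralLinearGroup.mkOfDetNeZero cm (by rw [hdetcm]; exact one_ne_zero), rfl⟩
  have hcmem : c ∈ Cfsg.isometryGroup F ⇑Q := by
    rw [mem_iso_iff, hc]; exact hciso
  have h1c : 1 + cm = (Ξ + Ξ') * Ξi := by
    rw [Matrix.add_mul, hi1, hcm, add_comm]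
  have hd1 : (1 + cm).det ≠ 0 := by
    rw [h1c, Matrix.det_mul]
    apply mul_ne_zero hd
    intro h
    have h3 : Ξi.det * Ξ'.det = 1 := by rw [← Matrix.det_mul, hi2, Matrix.det_one]
    rw [h, zero_mul] at h3
    exact zero_ne_one h3
  have hm1 : 2 ≤ Fintype.card ι := by omega
  have hev : Even (Fintype.card ι) := ⟨m', by omega⟩
  refine ⟨c, ?_, ?_, ?_⟩
  · rw [mem_sO_iff, hc]
    exact ⟨hcmem, hdetcm⟩
  · rw [zassenhaus Q hQ h2 hm1 hev c hcmem (by rw [hc]; exact hd1), hc, h1c, Matrix.det_mul]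
    intro hsq
    apply hns
    have hτ : IsSquare (Ξ + Ξ').det := by
      apply isSquare_det_of_selfadjoint Q g.1 (g⁻¹).1 hggi hgig hgiso hQ h2 hcard r hodd hgr' hfix
        (Ξ + Ξ') ?_ ?_ ?_ hd
      · rw [Matrix.transpose_add, Matrix.add_mul, hadj, hadj', Matrix.mul_add, add_comm]
      · rw [Matrix.add_mul, Matrix.mul_add, h1, h1']
      · rw [Matrix.add_mul, Matrix.mul_add, h1i, h1i']
    have h3 : Ξi.det * Ξ.det = 1 := by
      rw [← hdΞ', ← Matrix.det_mul, hi2, Matrix.det_one]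
    obtain ⟨s, hs⟩ := hsq
    obtain ⟨t, ht⟩ := hτ
    have hs0 : s ≠ 0 := by
      intro h
      rw [h, mul_zero] at hs
      rcases mul_eq_zero.mp hs with h' | h'
      · exact hd h'
      · rw [h', zero_mul] at h3; exact zero_ne_one h3
    refine ⟨t / s, ?_⟩
    have h5 : Ξ.det * (s * s) = t * t := by
      rw [← hs, ← ht]
      linear_combination (Ξ + Ξ').det * h3
    field_simp
    linear_combination h5
  · apply Units.ext
    rw [Units.val_mul, Units.val_mul, hc]
    exact hcg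

end

section

open Matrix Module Polynomial Cfsg.Agent.Lib.H4 Cfsg.Agent.Lib.H13.HypPairs
open Cfsg.Agent.Lib.H11.ConfOrth Cfsg.Agent.Lib.H12.OrdO

variable {F : Type*} [Field F] {ι : Type} [Fintype ι] [DecidableEq ι]
  (Q : QuadraticForm F (ι → F))

set_option quotPrecheck false in
local notation "B" => QuadraticMap.polar (⇑Q)

/-- `(A)`: a similitude with prescribed multiplier and determinant commuting with `g` -/
theorem exists_similitude_comm [Fintype F] (p : ℕ) [Fact p.Prime] [CharP F p]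
    (hQ : (QuadraticMap.polarBilin Q).Nondegenerate) (h2 : (2 : F) ≠ 0) {m' : ℕ}
    (hcard : Fintype.card ι = 2 * m')
    (g : GL ι F) (hg : g ∈ Cfsg.isometryGroup F ⇑Q) (r : ℕ) (hodd : Odd r) (hrp : r.Coprime p)
    (hgr : g ^ r = 1)
    (s₀ : GL ι F) (ν : F) (hν : ν ≠ 0) (hs₀ : ∀ x, Q (s₀.1 *ᵥ x) = ν * Q x)
    (hs₀det : s₀.1.det = ν ^ m') :
    ∃ c : GL ι F, (∀ x, Q (c.1 *ᵥ x) = ν * Q x) ∧ c.1.det = ν ^ m' ∧ c * g = g * c := by
  have hgiso := (mem_iso_iff (⇑Q) g).1 hg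
  have hggi : g.1 * (g⁻¹).1 = 1 := by rw [← Units.val_mul, mul_inv_cancel, Units.val_one]
  have hgig : (g⁻¹).1 * g.1 = 1 := by rw [← Units.val_mul, inv_mul_cancel, Units.val_one]
  have hgr' := val_pow_eq_one g r hgr
  have hrF : (r : F) ≠ 0 := by
    rw [Ne, CharP.cast_eq_zero_iff F p]
    intro hd
    have := Nat.Coprime.eq_one_of_dvd hrp.symm hd
    exact (Fact.out : p.Prime).one_lt.ne' this
  -- the conjugate `h = s₀⁻¹ g s₀`
  obtain ⟨h, hh⟩ : ∃ h : GL ι F, h = s₀⁻¹ * g * s₀ := ⟨_, rfl⟩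
  have hs₀i : ∀ x, Q ((s₀⁻¹).1 *ᵥ x) = ν⁻¹ * Q x := by
    intro x
    have h1 := hs₀ ((s₀⁻¹).1 *ᵥ x)
    rw [Matrix.mulVec_mulVec, ← Units.val_mul, mul_inv_cancel, Units.val_one,
      Matrix.one_mulVec] at h1
    rw [h1, ← mul_assoc, inv_mul_cancel₀ hν, one_mul]
  have hhiso : h ∈ Cfsg.isometryGroup F ⇑Q := by
    rw [mem_iso_iff]
    intro x
    rw [hh, Units.val_mul, Units.val_mul, ← Matrix.mulVec_mulVec, ← Matrix.mulVec_mulVec, hs₀i,
      hgiso, hs₀, ← mul_assoc, inv_mul_cancel₀ hν, one_mul]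
  obtain ⟨g', hg'⟩ : ∃ g' : ↥(Cfsg.isometryGroup F ⇑Q), g' = ⟨g, hg⟩ := ⟨_, rfl⟩
  obtain ⟨h', hh'⟩ : ∃ h' : ↥(Cfsg.isometryGroup F ⇑Q), h' = ⟨h, hhiso⟩ := ⟨_, rfl⟩
  have hg'r : g' ^ r = 1 := by
    apply Subtype.ext
    rw [Subgroup.coe_pow, hg']
    exact hgr
  have hh'r : h' ^ r = 1 := by
    apply Subtype.ext
    rw [Subgroup.coe_pow, hh']
    show h ^ r = 1
    rw [hh]
    have : s₀⁻¹ * g * s₀ = s₀⁻¹ * g * s₀⁻¹⁻¹ := by rw [inv_inv]
    rw [this, conj_pow, hgr, mul_one, inv_inv, inv_mul_cancel]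
  have ho1 : orderOf g' ∣ r := orderOf_dvd_of_pow_eq_one hg'r
  have ho2 : orderOf h' ∣ r := orderOf_dvd_of_pow_eq_one hh'r
  have hconj : IsConj g' h' := by
    apply isConj_of_charpoly_eq Q p hQ g' h' (hodd.of_dvd_nat ho1)
      (Nat.Coprime.coprime_dvd_left ho1 hrp) (Nat.Coprime.coprime_dvd_left ho2 hrp)
    rw [hg', hh']
    show g.1.charpoly = h.1.charpoly
    rw [hh, Units.val_mul, Units.val_mul, Matrix.coe_units_inv]
    exact (Matrix.charpoly_units_conj' s₀ g.1).symm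
  obtain ⟨t, ht⟩ := isConj_iff.mp hconj
  have ht' : t.1 * g * t.1⁻¹ = s₀⁻¹ * g * s₀ := by
    have := congrArg Subtype.val ht
    rw [hg', hh', Subgroup.coe_mul, Subgroup.coe_mul, Subgroup.coe_inv] at this
    rw [← hh]
    exact this
  obtain ⟨c, hc⟩ : ∃ c : GL ι F, c = s₀ * t.1 := ⟨_, rfl⟩
  have hcg : c * g = g * c := by
    have h3 : c * g * c⁻¹ = g := by
      calc c * g * c⁻¹ = s₀ * (t.1 * g * t.1⁻¹) * s₀⁻¹ := by rw [hc]; group
        _ = g := by rw [ht']; group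
    calc c * g = c * g * c⁻¹ * c := by group
      _ = g * c := by rw [h3]
  have htiso := (mem_iso_iff (⇑Q) t.1).1 t.2
  have hcsim : ∀ x, Q (c.1 *ᵥ x) = ν * Q x := by
    intro x
    rw [hc, Units.val_mul, ← Matrix.mulVec_mulVec, hs₀, htiso]
  by_cases hV : fixSub g.1 = ⊥
  · refine ⟨c, hcsim, ?_, hcg⟩
    have hfix : ∀ v, g.1 *ᵥ v = v → v = 0 := by
      intro v hv
      have : v ∈ fixSub g.1 := (mem_fixSub g.1 v).2 hv
      rw [hV, Submodule.mem_bot] at this
      exact this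
    have hcg' : c.1 * g.1 = g.1 * c.1 := by
      rw [← Units.val_mul, ← Units.val_mul, hcg]
    apply det_of_comm_similitude Q g.1 (g⁻¹).1 hggi hgig hgiso hQ h2 hcard r hodd hgr' hfix c.1 ν hν
      hcsim hcg'
    exact (inv_comm_of_comm g.1 (g⁻¹).1 c.1 hggi hgig hcg'.symm).symm
  · have hdt := det_sq_eq_one Q hQ t.1 t.2
    have hdt' : t.1.1.det = 1 ∨ t.1.1.det = -1 := by
      have : (t.1.1.det - 1) * (t.1.1.det + 1) = 0 := by linear_combination hdt
      rcases mul_eq_zero.mp this with h | h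
      · left; linear_combination h
      · right; linear_combination h
    have hcdet : c.1.det = ν ^ m' * t.1.1.det := by
      rw [hc, Units.val_mul, Matrix.det_mul, hs₀det]
    rcases hdt' with hd | hd
    · refine ⟨c, hcsim, ?_, hcg⟩
      rw [hcdet, hd, mul_one]
    · have hdis := fix_disjoint Q hQ g.1 hgiso r hgr' hrF
      obtain ⟨a, haV, ha⟩ := exists_nonsingular_of_disjoint Q h2 _ hV hdis
      have hag := (mem_fixSub g.1 a).1 haV
      refine ⟨c * (reflG Q a ha).1, ?_, ?_, ?_⟩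
      · intro x
        rw [Units.val_mul, ← Matrix.mulVec_mulVec, hcsim]
        congr 1
        exact refl_isometry Q a ha x
      · rw [Units.val_mul, Matrix.det_mul, hcdet, hd]
        have : ((reflG Q a ha).1 : GL ι F).1.det = -1 :=
          Cfsg.Agent.Lib.H13.PlusTS.det_reflectionMatrix Q a ha
        rw [this]
        ring
      · have h5 : (reflG Q a ha).1 * g = g * (reflG Q a ha).1 := by
          apply Units.ext
          rw [Units.val_mul, Units.val_mul]
          exact (refl_comm Q g.1 hgiso a hag).symm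
        rw [mul_assoc, h5, ← mul_assoc, hcg, mul_assoc]

end

end Cfsg.Agent.Lib.H13.OFus
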