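import Mathlib

/-!
Local balance in `PSL_n(q)`, part 1 (helper13): sesquilinear forms `sf σ H` on `F^ι` given by a Gram matrix, isometries `IsIso`, `isoGrp`,
the involution trick `odd_inv_trick`, transvections `tvM`, `tvG`, hyperbolic pairs (`decomp2`, `mem_span2`), the quarter turn argument
(`quarter_turn_contra`), `core_II` (odd-order normal subgroups of symplectic and unitary isometry groups are scalar), `semi_scalar`
(a semilinear map preserving all isotropic lines is a scalar), `herm_T2b`.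
-/

set_option autoImplicit false
set_option linter.unusedSectionVars false
set_option linter.unusedVariables false
set_option linter.unusedSimpArgs false
set_option linter.deprecated false

namespace Cfsg.Agent.Lib.H13.PSLBal

section

open Matrix

variable {F : Type*} [Field F] {ι : Type*} [Fintype ι] [DecidableEq ι]

/-- entrywise image of a vector under a field automorphism -/
def vmap (σ : F ≃+* F) (u : ι → F) : ι → F := fun i => σ (u i)

theorem vmap_apply (σ : F ≃+* F) (u : ι → F) (i : ι) : vmap σ u i = σ (u i) := rfl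

theorem vmap_add (σ : F ≃+* F) (u v : ι → F) : vmap σ (u + v) = vmap σ u + vmap σ v := by
  ext i; simp [vmap]

theorem vmap_smul (σ : F ≃+* F) (c : F) (u : ι → F) : vmap σ (c • u) = σ c • vmap σ u := by
  ext i; simp [vmap]

theorem vmap_zero (σ : F ≃+* F) : vmap σ (0 : ι → F) = 0 := by
  ext i; simp [vmap]

theorem vmap_neg (σ : F ≃+* F) (u : ι → F) : vmap σ (-u) = -vmap σ u := by
  ext i; simp [vmap]

theorem vmap_sub (σ : F ≃+* F) (u v : ι → F) : vmap σ (u - v) = vmap σ u - vmap σ v := by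
  ext i; simp [vmap]

theorem vmap_vmap (σ τ : F ≃+* F) (u : ι → F) : vmap σ (vmap τ u) = vmap (σ * τ) u := by
  ext i; rfl

theorem vmap_one (u : ι → F) : vmap (1 : F ≃+* F) u = u := by
  ext i; rfl

theorem vmap_injective (σ : F ≃+* F) : Function.Injective (vmap (ι := ι) σ) := by
  intro u v h
  ext i
  exact σ.injective (congrFun h i)

theorem vmap_eq_zero (σ : F ≃+* F) {u : ι → F} : vmap σ u = 0 ↔ u = 0 := by
  constructor
  · intro h
    apply vmap_injective σ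
    rw [h, vmap_zero]
  · rintro rfl
    exact vmap_zero σ

theorem vmap_mulVec (σ : F ≃+* F) (M : Matrix ι ι F) (u : ι → F) :
    vmap σ (M *ᵥ u) = M.map σ *ᵥ vmap σ u := by
  ext i
  simp [vmap, Matrix.mulVec, dotProduct, map_sum]

theorem vmap_dotProduct (σ : F ≃+* F) (u v : ι → F) :
    σ (u ⬝ᵥ v) = vmap σ u ⬝ᵥ vmap σ v := by
  simp [vmap, dotProduct, map_sum]

/-- the `σ`-sesquilinear form with Gram matrix `H`: `B(u,v) = σ(u)ᵀ H v` -/
def sf (σ : F ≃+* F) (H : Matrix ι ι F) (u v : ι → F) : F := vmap σ u ⬝ᵥ (H *ᵥ v)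

variable (σ : F ≃+* F) (H : Matrix ι ι F)

theorem sf_add_left (u u' v : ι → F) : sf σ H (u + u') v = sf σ H u v + sf σ H u' v := by
  unfold sf; rw [vmap_add, add_dotProduct]

theorem sf_add_right (u v v' : ι → F) : sf σ H u (v + v') = sf σ H u v + sf σ H u v' := by
  unfold sf; rw [Matrix.mulVec_add, dotProduct_add]

theorem sf_smul_left (c : F) (u v : ι → F) : sf σ H (c • u) v = σ c * sf σ H u v := by
  unfold sf; rw [vmap_smul, smul_dotProduct, smul_eq_mul]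

theorem sf_smul_right (c : F) (u v : ι → F) : sf σ H u (c • v) = c * sf σ H u v := by
  unfold sf; rw [Matrix.mulVec_smul, dotProduct_smul, smul_eq_mul]

theorem sf_zero_left (v : ι → F) : sf σ H 0 v = 0 := by
  unfold sf; rw [vmap_zero, zero_dotProduct]

theorem sf_zero_right (u : ι → F) : sf σ H u 0 = 0 := by
  unfold sf; rw [Matrix.mulVec_zero, dotProduct_zero]

theorem sf_neg_left (u v : ι → F) : sf σ H (-u) v = -sf σ H u v := by
  unfold sf; rw [vmap_neg, neg_dotProduct]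

theorem sf_neg_right (u v : ι → F) : sf σ H u (-v) = -sf σ H u v := by
  unfold sf; rw [Matrix.mulVec_neg, dotProduct_neg]

theorem sf_sub_left (u u' v : ι → F) : sf σ H (u - u') v = sf σ H u v - sf σ H u' v := by
  rw [sub_eq_add_neg, sf_add_left, sf_neg_left, sub_eq_add_neg]

theorem sf_sub_right (u v v' : ι → F) : sf σ H u (v - v') = sf σ H u v - sf σ H u v' := by
  rw [sub_eq_add_neg, sf_add_right, sf_neg_right, sub_eq_add_neg]

theorem sf_single (i j : ι) : sf σ H (Pi.single i 1) (Pi.single j 1) = H i j := by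
  unfold sf
  have h1 : vmap σ (Pi.single i (1 : F)) = Pi.single i 1 := by
    ext k
    by_cases hk : k = i
    · subst hk; simp [vmap]
    · simp [vmap, Pi.single_eq_of_ne hk]
  rw [h1, single_one_dotProduct, Matrix.mulVec_single_one]
  rfl

/-- the form determines the Gram matrix -/
theorem eq_of_sf_eq {H H' : Matrix ι ι F} (h : ∀ u v, sf σ H u v = sf σ H' u v) : H = H' := by
  ext i j
  rw [← sf_single σ H, ← sf_single σ H', h]

theorem sf_mulVec (g : Matrix ι ι F) (u v : ι → F) :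
    sf σ H (g *ᵥ u) (g *ᵥ v) = sf σ ((g.map σ)ᵀ * H * g) u v := by
  unfold sf
  rw [vmap_mulVec, ← Matrix.mulVec_mulVec, ← Matrix.mulVec_mulVec,
    Matrix.dotProduct_mulVec (vmap σ u) (g.map σ)ᵀ, Matrix.vecMul_transpose]


theorem sf_symm {ε : F} (hσ : ∀ a, σ (σ a) = a) (hH : (H.map σ)ᵀ = ε • H) (u v : ι → F) :
    σ (sf σ H u v) = ε * sf σ H v u := by
  unfold sf
  rw [vmap_dotProduct, vmap_mulVec]
  have h1 : vmap σ (vmap σ u) = u := by
    ext i; exact hσ (u i)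
  rw [h1, Matrix.dotProduct_mulVec]
  have h2 : u ᵥ* H.map σ = (H.map σ)ᵀ *ᵥ u := (Matrix.mulVec_transpose _ _).symm
  rw [h2, hH, dotProduct_comm, Matrix.smul_mulVec, dotProduct_smul, smul_eq_mul]

theorem sf_right_nondeg (hdet : H.det ≠ 0) {v : ι → F} (h : ∀ u, sf σ H u v = 0) : v = 0 := by
  have h1 : H *ᵥ v = 0 := by
    ext i
    have := h (Pi.single i 1)
    unfold sf at this
    have h2 : vmap σ (Pi.single i (1 : F)) = Pi.single i 1 := by
      ext k
      by_cases hk : k = i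
      · subst hk; simp [vmap]
      · simp [vmap, Pi.single_eq_of_ne hk]
    rw [h2, single_one_dotProduct] at this
    exact this
  exact Matrix.eq_zero_of_mulVec_eq_zero hdet h1

theorem sf_left_nondeg (hdet : H.det ≠ 0) {u : ι → F} (h : ∀ v, sf σ H u v = 0) : u = 0 := by
  have h1 : vmap σ u ᵥ* H = 0 := by
    ext j
    have := h (Pi.single j 1)
    unfold sf at this
    rw [Matrix.dotProduct_mulVec, dotProduct_single_one] at this
    exact this
  have h2 := Matrix.eq_zero_of_vecMul_eq_zero hdet h1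
  exact (vmap_eq_zero σ).1 h2

theorem exists_sf_ne_zero (hdet : H.det ≠ 0) {z : ι → F} (hz : z ≠ 0) :
    ∃ v, sf σ H z v ≠ 0 := by
  by_contra hcon
  push Not at hcon
  exact hz (sf_left_nondeg σ H hdet hcon)

/-- `g` is an isometry of the form -/
def IsIso (g : Matrix ι ι F) : Prop := (g.map σ)ᵀ * H * g = H

theorem sf_iso {g : Matrix ι ι F} (hg : IsIso σ H g) (u v : ι → F) :
    sf σ H (g *ᵥ u) (g *ᵥ v) = sf σ H u v := by
  rw [sf_mulVec, hg]

theorem isIso_of_sf {g : Matrix ι ι F}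
    (h : ∀ u v, sf σ H (g *ᵥ u) (g *ᵥ v) = sf σ H u v) : IsIso σ H g := by
  apply eq_of_sf_eq σ
  intro u v
  rw [← sf_mulVec, h]

theorem isIso_one : IsIso σ H 1 := by
  apply isIso_of_sf
  intro u v
  rw [Matrix.one_mulVec, Matrix.one_mulVec]

theorem IsIso.mul {g h : Matrix ι ι F} (hg : IsIso σ H g) (hh : IsIso σ H h) :
    IsIso σ H (g * h) := by
  apply isIso_of_sf
  intro u v
  rw [← Matrix.mulVec_mulVec, ← Matrix.mulVec_mulVec, sf_iso σ H hg, sf_iso σ H hh]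

theorem IsIso.inv {g g' : Matrix ι ι F} (hg : IsIso σ H g) (h1 : g * g' = 1) :
    IsIso σ H g' := by
  apply isIso_of_sf
  intro u v
  rw [← sf_iso σ H hg (g' *ᵥ u) (g' *ᵥ v), Matrix.mulVec_mulVec, Matrix.mulVec_mulVec, h1,
    Matrix.one_mulVec, Matrix.one_mulVec]

/-- moving an isometry across the form -/
theorem sf_iso_left {g g' : Matrix ι ι F} (hg : IsIso σ H g) (h1 : g' * g = 1) (u v : ι → F) :
    sf σ H (g *ᵥ u) v = sf σ H u (g' *ᵥ v) := by
  have h2 : g * g' = 1 := by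
    exact mul_eq_one_comm.1 h1
  rw [← sf_iso σ H hg u (g' *ᵥ v), Matrix.mulVec_mulVec, h2, Matrix.one_mulVec]

/-- the isometry group as a subgroup of `GL` -/
def isoGrp : Subgroup (GL ι F) where
  carrier := {g | IsIso σ H (g : Matrix ι ι F)}
  one_mem' := isIso_one σ H
  mul_mem' := fun {a b} ha hb => by
    show IsIso σ H ((a * b : GL ι F) : Matrix ι ι F)
    rw [Units.val_mul]
    exact IsIso.mul σ H ha hb
  inv_mem' := fun {a} ha => by
    show IsIso σ H ((a⁻¹ : GL ι F) : Matrix ι ι F)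
    apply IsIso.inv σ H ha
    rw [← Units.val_mul, mul_inv_cancel, Units.val_one]

theorem mem_isoGrp (g : GL ι F) : g ∈ isoGrp σ H ↔ IsIso σ H (g : Matrix ι ι F) := Iff.rfl

end

section

open Matrix

section grp

variable {G : Type*} [Group G]

theorem odd_pow_orderOf_half {k : G} (hk : Odd (orderOf k)) :
    ∃ j ∈ Subgroup.zpowers k, j * j = k := by
  obtain ⟨f, hf⟩ := hk
  refine ⟨k ^ (f + 1), ⟨((f + 1 : ℕ) : ℤ), by show k ^ ((f + 1 : ℕ) : ℤ) = _; rw [zpow_natCast]⟩, ?_⟩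
  rw [← pow_add]
  have : f + 1 + (f + 1) = orderOf k + 1 := by omega
  rw [this, pow_succ, pow_orderOf_eq_one, one_mul]

/-- the involution trick: `H` a subgroup all of whose elements have odd order, normalised by `t`,
with `t²` centralising `H`; then an odd power of `x t` (`x ∈ H`) is an `H`-conjugate of `t` times
a power of `t²`. -/
theorem odd_inv_trick (H : Subgroup G) (hodd : ∀ h ∈ H, Odd (orderOf h)) (t : G)
    (hnorm : ∀ h ∈ H, t * h * t⁻¹ ∈ H) (hc : ∀ h ∈ H, (t * t) * h = h * (t * t))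
    (x : G) (hx : x ∈ H) :
    ∃ j ∈ H, ∃ e : ℕ, (x * t) ^ (2 * e + 1) = j * t * j⁻¹ * (t * t) ^ e := by
  set c := t * t with hcdef
  have hct : c * t = t * c := by rw [hcdef]; group
  have hnormpow : ∀ h ∈ H, ∀ i : ℕ, t * h ^ i * t⁻¹ = (t * h * t⁻¹) ^ i := by
    intro h _ i
    rw [conj_pow]
  -- w² = h c
  set h := x * (t * x * t⁻¹) with hhdef
  have hh : h ∈ H := H.mul_mem hx (hnorm x hx)
  have hw2 : (x * t) * (x * t) = h * c := by rw [hhdef, hcdef]; group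
  have hcomm : Commute h c := (hc h hh).symm
  obtain ⟨e, he⟩ := hodd h hh
  -- (x t)^(2e) = h^e c^e
  have hw2e : (x * t) ^ (2 * e) = h ^ e * c ^ e := by
    rw [pow_mul, pow_two, hw2, hcomm.mul_pow]
  set k := x * (t * h ^ e * t⁻¹) with hkdef
  have hk : k ∈ H := H.mul_mem hx (hnorm _ (H.pow_mem hh e))
  have hcpow : ∀ i : ℕ, ∀ y ∈ H, c ^ i * y = y * c ^ i := by
    intro i y hy
    exact ((Commute.pow_left (hc y hy) i)).eq
  have hctpow : ∀ i : ℕ, c ^ i * t = t * c ^ i := by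
    intro i
    exact (Commute.pow_left hct i).eq
  have hwm : (x * t) ^ (2 * e + 1) = k * t * c ^ e := by
    rw [pow_succ', hw2e, hkdef]
    group
  -- (k t)^2 = c
  have hsq : (k * t) * (k * t) = c := by
    have h1 : ((x * t) ^ (2 * e + 1)) * ((x * t) ^ (2 * e + 1)) = c ^ (2 * e + 1) := by
      rw [← pow_add]
      have : 2 * e + 1 + (2 * e + 1) = 2 * (2 * e + 1) := by ring
      rw [this, pow_mul, pow_two, hw2, hcomm.mul_pow, ← he, pow_orderOf_eq_one, one_mul]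
    rw [hwm] at h1
    have h2 : k * t * c ^ e * (k * t * c ^ e) = (k * t) * (k * t) * (c ^ e * c ^ e) := by
      calc k * t * c ^ e * (k * t * c ^ e) = k * t * (c ^ e * k) * t * c ^ e := by group
        _ = k * t * (k * c ^ e) * t * c ^ e := by rw [hcpow e k hk]
        _ = k * t * k * (c ^ e * t) * c ^ e := by group
        _ = k * t * k * (t * c ^ e) * c ^ e := by rw [hctpow]
        _ = _ := by group
    rw [h2, ← pow_add] at h1
    have h3 : c ^ (2 * e + 1) = c * c ^ (e + e) := by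
      rw [← pow_succ']; congr 1; ring
    rw [h3] at h1
    exact mul_right_cancel h1
  -- t k t⁻¹ = k⁻¹
  have hinv : t * k * t⁻¹ = k⁻¹ := by
    have h1 : k * t * k * t = t * t := by
      rw [← hcdef, ← hsq]; group
    have h2 : k * t * k = t := by
      have := congrArg (fun y => y * t⁻¹) h1
      simpa [mul_assoc] using this
    calc t * k * t⁻¹ = k⁻¹ * (k * t * k) * t⁻¹ := by group
      _ = k⁻¹ := by rw [h2]; group
  obtain ⟨j, hj, hjk⟩ := odd_pow_orderOf_half (hodd k hk)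
  have hjH : j ∈ H := by
    obtain ⟨i, hi⟩ := hj
    rw [← hi]
    exact H.zpow_mem hk i
  have hjinv : t * j * t⁻¹ = j⁻¹ := by
    obtain ⟨i, hi⟩ := hj
    have hi' : j = k ^ i := hi.symm
    rw [hi', ← conj_zpow, hinv, _root_.inv_zpow]
  refine ⟨j, hjH, e, ?_⟩
  rw [hwm]
  congr 1
  have : j * t * j⁻¹ = j * (t * j * t⁻¹)⁻¹ * t := by group
  rw [this, hjinv, inv_inv, hjk]

end grp

section ker

variable {F : Type*} [Field F] {ι : Type*} [Fintype ι] [DecidableEq ι]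

/-- `k` linear functionals on `F^ι` with `k < |ι|` have a common non-trivial zero -/
theorem exists_ne_zero_forall_dot_eq_zero {k : ℕ} (f : Fin k → (ι → F))
    (hk : k < Fintype.card ι) : ∃ v : ι → F, v ≠ 0 ∧ ∀ i, f i ⬝ᵥ v = 0 := by
  let M : Matrix (Fin k) ι F := Matrix.of f
  let L : (ι → F) →ₗ[F] (Fin k → F) := Matrix.mulVecLin M
  have h1 : Module.finrank F (Fin k → F) < Module.finrank F (ι → F) := by
    rw [Module.finrank_fin_fun, Module.finrank_fintype_fun_eq_card]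
    exact hk
  obtain ⟨v, hv, hv0⟩ : ∃ v : ι → F, L v = 0 ∧ v ≠ 0 := by
    have hker : LinearMap.ker L ≠ ⊥ := LinearMap.ker_ne_bot_of_finrank_lt h1
    obtain ⟨v, hv, hv0⟩ := (Submodule.ne_bot_iff _).1 hker
    exact ⟨v, hv, hv0⟩
  refine ⟨v, hv0, ?_⟩
  intro i
  have := congrFun hv i
  simpa [L, M, Matrix.mulVecLin_apply, Matrix.mulVec] using this

end ker

end

section

open Matrix

variable {F : Type*} [Field F] {ι : Type*} [Fintype ι] [DecidableEq ι]

theorem mat_ext_mulVec {A B : Matrix ι ι F} (h : ∀ v, A *ᵥ v = B *ᵥ v) : A = B :=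
  Matrix.ext_of_mulVec_single (fun i => h _)

theorem gl_mulVec_inv (g : GL ι F) (v : ι → F) :
    (g : Matrix ι ι F) *ᵥ (((g⁻¹ : GL ι F) : Matrix ι ι F) *ᵥ v) = v := by
  rw [Matrix.mulVec_mulVec, ← Units.val_mul, mul_inv_cancel, Units.val_one, Matrix.one_mulVec]

theorem gl_inv_mulVec (g : GL ι F) (v : ι → F) :
    ((g⁻¹ : GL ι F) : Matrix ι ι F) *ᵥ ((g : Matrix ι ι F) *ᵥ v) = v := by
  rw [Matrix.mulVec_mulVec, ← Units.val_mul, inv_mul_cancel, Units.val_one, Matrix.one_mulVec]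

theorem gl_mulVec_ne_zero (g : GL ι F) {v : ι → F} (hv : v ≠ 0) :
    (g : Matrix ι ι F) *ᵥ v ≠ 0 := by
  intro h
  apply hv
  have := gl_inv_mulVec g v
  rw [h, Matrix.mulVec_zero] at this
  exact this.symm

variable (σ : F ≃+* F) (H : Matrix ι ι F)

/-- the transvection matrix `v ↦ v + c B(a,v) a` -/
def tvM (a : ι → F) (c : F) : Matrix ι ι F := 1 + c • vecMulVec a (vmap σ a ᵥ* H)

theorem tvM_mulVec (a : ι → F) (c : F) (v : ι → F) :
    tvM σ H a c *ᵥ v = v + (c * sf σ H a v) • a := by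
  unfold tvM sf
  rw [Matrix.add_mulVec, Matrix.one_mulVec, Matrix.smul_mulVec, Matrix.vecMulVec_mulVec,
    ← Matrix.dotProduct_mulVec, op_smul_eq_smul, smul_smul]

theorem tvM_zero (a : ι → F) : tvM σ H a 0 = 1 := by
  unfold tvM; rw [zero_smul, add_zero]

theorem tvM_mul {a : ι → F} (ha : sf σ H a a = 0) (c c' : F) :
    tvM σ H a c * tvM σ H a c' = tvM σ H a (c + c') := by
  apply mat_ext_mulVec
  intro v
  rw [← Matrix.mulVec_mulVec, tvM_mulVec, tvM_mulVec, tvM_mulVec, sf_add_right, sf_smul_right, ha,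
    mul_zero, add_zero, add_assoc, ← add_smul]
  congr 2
  ring

theorem tvM_mul_neg {a : ι → F} (ha : sf σ H a a = 0) (c : F) :
    tvM σ H a c * tvM σ H a (-c) = 1 := by
  rw [tvM_mul σ H ha, add_neg_cancel, tvM_zero]

theorem tvM_neg_mul {a : ι → F} (ha : sf σ H a a = 0) (c : F) :
    tvM σ H a (-c) * tvM σ H a c = 1 := by
  rw [tvM_mul σ H ha, neg_add_cancel, tvM_zero]

theorem det_tvM {a : ι → F} (ha : sf σ H a a = 0) (c : F) : (tvM σ H a c).det = 1 := by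
  unfold tvM
  have h1 : c • vecMulVec a (vmap σ a ᵥ* H) = vecMulVec a (c • (vmap σ a ᵥ* H)) := by
    rw [Matrix.vecMulVec_smul]
  rw [h1, Matrix.vecMulVec_eq Unit, Matrix.det_one_add_replicateCol_mul_replicateRow,
    smul_dotProduct, ← Matrix.dotProduct_mulVec]
  have : vmap σ a ⬝ᵥ H *ᵥ a = sf σ H a a := rfl
  rw [this, ha, smul_zero, add_zero]

open Classical in
/-- the transvection as an element of `GL` -/
noncomputable def tvG (a : ι → F) (c : F) : GL ι F :=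
  if ha : sf σ H a a = 0 then
    ⟨tvM σ H a c, tvM σ H a (-c), tvM_mul_neg σ H ha c, tvM_neg_mul σ H ha c⟩
  else 1

theorem tvG_coe {a : ι → F} (ha : sf σ H a a = 0) (c : F) :
    ((tvG σ H a c : GL ι F) : Matrix ι ι F) = tvM σ H a c := by
  unfold tvG
  rw [dif_pos ha]

theorem tvG_inv_coe {a : ι → F} (ha : sf σ H a a = 0) (c : F) :
    (((tvG σ H a c)⁻¹ : GL ι F) : Matrix ι ι F) = tvM σ H a (-c) := by
  unfold tvG
  rw [dif_pos ha]
  rfl

section refl

variable {ε : F} (hσ : ∀ a, σ (σ a) = a) (hε : ε * ε = 1) (hH : (H.map σ)ᵀ = ε • H)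

include hσ hε hH in
theorem sf_symm' (u v : ι → F) : sf σ H v u = ε * σ (sf σ H u v) := by
  rw [sf_symm σ H hσ hH, ← mul_assoc, hε, one_mul]

include hσ hε hH in
theorem sf_eq_zero_symm {u v : ι → F} (h : sf σ H u v = 0) : sf σ H v u = 0 := by
  rw [sf_symm' σ H hσ hε hH, h, map_zero, mul_zero]

include hσ hε hH in
theorem isIso_tvM {a : ι → F} (ha : sf σ H a a = 0) {c : F} (hc : σ c = -ε * c) :
    IsIso σ H (tvM σ H a c) := by
  apply isIso_of_sf
  intro u v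
  rw [tvM_mulVec, tvM_mulVec, sf_add_left, sf_add_right, sf_add_right, sf_smul_left,
    sf_smul_right, sf_smul_right, sf_smul_left, ha, map_mul, hc,
    sf_symm' σ H hσ hε hH a u]
  have h1 : ε * ε = 1 := hε
  linear_combination (-(c * sf σ H a v * σ (sf σ H a u)) +
    c * sf σ H a v * σ (sf σ H a u)) * h1

include hσ hε hH in
theorem tvG_mem {a : ι → F} (ha : sf σ H a a = 0) {c : F} (hc : σ c = -ε * c) :
    tvG σ H a c ∈ isoGrp σ H := by
  rw [mem_isoGrp, tvG_coe σ H ha]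
  exact isIso_tvM σ H hσ hε hH ha hc

/-- conjugating a transvection by an isometry -/
theorem conj_tvG {g : GL ι F} (hg : g ∈ isoGrp σ H) {a : ι → F} (ha : sf σ H a a = 0) (c : F) :
    g * tvG σ H a c * g⁻¹ = tvG σ H ((g : Matrix ι ι F) *ᵥ a) c := by
  have ha' : sf σ H ((g : Matrix ι ι F) *ᵥ a) ((g : Matrix ι ι F) *ᵥ a) = 0 := by
    rw [sf_iso σ H hg, ha]
  apply Units.ext
  rw [Units.val_mul, Units.val_mul, tvG_coe σ H ha, tvG_coe σ H ha']
  apply mat_ext_mulVec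
  intro v
  rw [← Matrix.mulVec_mulVec, ← Matrix.mulVec_mulVec, tvM_mulVec, tvM_mulVec, Matrix.mulVec_add,
    gl_mulVec_inv, Matrix.mulVec_smul]
  congr 2
  have h1 : ((g⁻¹ : GL ι F) : Matrix ι ι F) * (g : Matrix ι ι F) = 1 := by
    rw [← Units.val_mul, inv_mul_cancel, Units.val_one]
  rw [sf_iso_left σ H hg h1]

end refl

end

section

open Matrix

variable {F : Type*} [Field F] {ι : Type*} [Fintype ι] [DecidableEq ι]

theorem scalar_of_sq_pow (y : GL ι F) {m : ℕ} (hm : Odd m) {s s' : F}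
    (h1 : ((y * y : GL ι F) : Matrix ι ι F) = s' • 1)
    (h2 : ((y ^ m : GL ι F) : Matrix ι ι F) = s • 1) : ∃ r : F, (y : Matrix ι ι F) = r • 1 := by
  obtain ⟨e, rfl⟩ := hm
  by_cases hne : Nonempty ι
  swap
  · rw [not_nonempty_iff] at hne
    exact ⟨1, Subsingleton.elim _ _⟩
  obtain ⟨i₀⟩ := hne
  have hs' : s' ≠ 0 := by
    rintro rfl
    rw [zero_smul] at h1
    have h3 : ((y * y : GL ι F) : Matrix ι ι F) * (((y * y)⁻¹ : GL ι F) : Matrix ι ι F) = 1 := by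
      rw [← Units.val_mul, mul_inv_cancel, Units.val_one]
    rw [h1, Matrix.zero_mul] at h3
    have := congrFun (congrFun h3 i₀) i₀
    simp at this
  have h3 : ((y ^ (2 * e) : GL ι F) : Matrix ι ι F) = (s' ^ e) • 1 := by
    rw [pow_mul, pow_two, Units.val_pow_eq_pow_val, h1, smul_pow, one_pow]
  have h4 : ((y ^ (2 * e + 1) : GL ι F) : Matrix ι ι F) = (s' ^ e) • (y : Matrix ι ι F) := by
    rw [pow_succ, Units.val_mul, h3, Matrix.smul_mul, Matrix.one_mul]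
  rw [h4] at h2
  refine ⟨(s' ^ e)⁻¹ * s, ?_⟩
  have h5 := congrArg (fun M : Matrix ι ι F => (s' ^ e)⁻¹ • M) h2
  simp only [smul_smul, inv_mul_cancel₀ (pow_ne_zero e hs'), one_smul] at h5
  exact h5


section pair

variable (σ : F ≃+* F) (H : Matrix ι ι F) {ε : F} (hσ : ∀ a, σ (σ a) = a) (hε : ε * ε = 1)
  (hH : (H.map σ)ᵀ = ε • H) (hdet : H.det ≠ 0)

/-- the orthogonal complement of the pair `z₁, z₂` -/
def Perp2 (z₁ z₂ u : ι → F) : Prop := sf σ H z₁ u = 0 ∧ sf σ H z₂ u = 0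

include hσ hε hH in
theorem decomp2 {z₁ z₂ : ι → F} (h1 : sf σ H z₁ z₁ = 0) (h2 : sf σ H z₂ z₂ = 0)
    (hφ : sf σ H z₁ z₂ ≠ 0) (v : ι → F) :
    ∃ (α β : F) (u : ι → F), v = α • z₁ + β • z₂ + u ∧ Perp2 σ H z₁ z₂ u := by
  have hψ : sf σ H z₂ z₁ ≠ 0 := by
    intro h
    exact hφ (sf_eq_zero_symm σ H hσ hε hH h)
  refine ⟨sf σ H z₂ v / sf σ H z₂ z₁, sf σ H z₁ v / sf σ H z₁ z₂,
    v - (sf σ H z₂ v / sf σ H z₂ z₁) • z₁ - (sf σ H z₁ v / sf σ H z₁ z₂) • z₂, by abel, ?_, ?_⟩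
  · rw [sf_sub_right, sf_sub_right, sf_smul_right, sf_smul_right, h1, mul_zero, sub_zero,
      div_mul_cancel₀ _ hφ, sub_self]
  · rw [sf_sub_right, sf_sub_right, sf_smul_right, sf_smul_right, h2, mul_zero, sub_zero,
      div_mul_cancel₀ _ hψ, sub_self]

include hσ hε hH hdet in
/-- a vector orthogonal to the complement of a hyperbolic pair lies in its span -/
theorem mem_span2 {z₁ z₂ : ι → F} (h1 : sf σ H z₁ z₁ = 0) (h2 : sf σ H z₂ z₂ = 0)
    (hφ : sf σ H z₁ z₂ ≠ 0) {w : ι → F} (hw : ∀ u, Perp2 σ H z₁ z₂ u → sf σ H u w = 0) :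
    ∃ α β : F, w = α • z₁ + β • z₂ := by
  obtain ⟨α, β, u₀, hw₀, hu₀⟩ := decomp2 σ H hσ hε hH h1 h2 hφ w
  refine ⟨α, β, ?_⟩
  have hu0 : u₀ = 0 := by
    apply sf_right_nondeg σ H hdet
    intro v
    obtain ⟨α', β', u', hv, hu'⟩ := decomp2 σ H hσ hε hH h1 h2 hφ v
    rw [hv, sf_add_left, sf_add_left, sf_smul_left, sf_smul_left, hu₀.1, hu₀.2, mul_zero, mul_zero,
      zero_add, zero_add]
    have h3 : u₀ = w - α • z₁ - β • z₂ := by rw [hw₀]; abel
    rw [h3, sf_sub_right, sf_sub_right, sf_smul_right, sf_smul_right, hw u' hu',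
      sf_eq_zero_symm σ H hσ hε hH hu'.1, sf_eq_zero_symm σ H hσ hε hH hu'.2]
    ring
  rw [hw₀, hu0, add_zero]

include hσ hε hH hdet in
/-- an isometry fixing the complement of a hyperbolic pair pointwise preserves its span -/
theorem fix_perp_span {z₁ z₂ : ι → F} (h1 : sf σ H z₁ z₁ = 0) (h2 : sf σ H z₂ z₂ = 0)
    (hφ : sf σ H z₁ z₂ ≠ 0) {k : Matrix ι ι F} (hk : IsIso σ H k)
    (hfix : ∀ u, Perp2 σ H z₁ z₂ u → k *ᵥ u = u) (a b : F) :
    ∃ α β : F, k *ᵥ (a • z₁ + b • z₂) = α • z₁ + β • z₂ := by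
  apply mem_span2 σ H hσ hε hH hdet h1 h2 hφ
  intro u hu
  have h3 : sf σ H u (k *ᵥ (a • z₁ + b • z₂)) = sf σ H (k *ᵥ u) (k *ᵥ (a • z₁ + b • z₂)) := by
    rw [hfix u hu]
  rw [h3, sf_iso σ H hk, sf_add_right, sf_smul_right, sf_smul_right,
    sf_eq_zero_symm σ H hσ hε hH hu.1, sf_eq_zero_symm σ H hσ hε hH hu.2]
  ring

end pair

end

section

open Matrix

variable {F : Type*} [Field F] {ι : Type*} [Fintype ι] [DecidableEq ι]

variable (σ : F ≃+* F) (H : Matrix ι ι F) {ε : F} (hσ : ∀ a, σ (σ a) = a) (hε : ε * ε = 1)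
  (hσε : σ ε = ε) (hH : (H.map σ)ᵀ = ε • H) (hdet : H.det ≠ 0)

/-- there is a non-zero vector orthogonal to two given vectors when the dimension is at least 3 -/
theorem exists_perp2 (hn : 3 ≤ Fintype.card ι) (z₁ z₂ : ι → F) :
    ∃ u : ι → F, u ≠ 0 ∧ Perp2 σ H z₁ z₂ u := by
  obtain ⟨v, hv0, hv⟩ := exists_ne_zero_forall_dot_eq_zero (F := F) (ι := ι) (k := 2)
    ![vmap σ z₁ ᵥ* H, vmap σ z₂ ᵥ* H] (by omega)
  refine ⟨v, hv0, ?_, ?_⟩
  · have := hv 0
    simp only [Matrix.cons_val_zero] at this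
    unfold sf
    rw [Matrix.dotProduct_mulVec]
    exact this
  · have := hv 1
    simp only [Matrix.cons_val_one, Matrix.cons_val_zero] at this
    unfold sf
    rw [Matrix.dotProduct_mulVec]
    exact this

include hσ hε hσε hH hdet in
/-- the key configuration is contradictory: a subgroup of isometries with all elements of odd order
fixing the complement of a hyperbolic pair `z₁, z₂` pointwise, normalised by the "quarter turn"
`z₁ ↦ z₂ ↦ -z₁`, cannot contain an element mapping `z₁` to `z₂`. -/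
theorem quarter_turn_contra (h2 : (2 : F) ≠ 0) {z₁ z₂ : ι → F} (h1 : sf σ H z₁ z₁ = 0)
    (h2' : sf σ H z₂ z₂ = 0) (hφ : sf σ H z₁ z₂ ≠ 0) (hφσ : σ (sf σ H z₁ z₂) = -ε * sf σ H z₁ z₂)
    (H₁ : Subgroup (GL ι F)) (hH₁iso : H₁ ≤ isoGrp σ H)
    (hH₁fix : ∀ k ∈ H₁, ∀ u, Perp2 σ H z₁ z₂ u → (k : Matrix ι ι F) *ᵥ u = u)
    (hH₁odd : ∀ k ∈ H₁, Odd (orderOf k))
    (hH₁norm : ∀ t ∈ isoGrp σ H, (∀ u, Perp2 σ H z₁ z₂ u → (t : Matrix ι ι F) *ᵥ u = u) →
      ∀ k ∈ H₁, t * k * t⁻¹ ∈ H₁)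
    (x : GL ι F) (hx : x ∈ H₁) (hxz : (x : Matrix ι ι F) *ᵥ z₁ = z₂) : False := by
  set φ := sf σ H z₁ z₂ with hφdef
  have hψ : sf σ H z₂ z₁ = -φ := by
    rw [sf_symm' σ H hσ hε hH z₁ z₂, hφσ]
    linear_combination (-φ) * hε
  set κ : F := -1 / φ with hκdef
  have hκσ : σ κ = -ε * κ := by
    rw [hκdef, map_div₀, map_neg, map_one, hφσ]
    have hε0 : ε ≠ 0 := by
      rintro rfl
      rw [mul_zero] at hε
      exact zero_ne_one hε
    field_simp
    linear_combination (-1 : F) * hε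
  -- the quarter turn
  set t : GL ι F := tvG σ H z₁ κ * tvG σ H z₂ κ * tvG σ H z₁ κ with htdef
  have ht1 : tvG σ H z₁ κ ∈ isoGrp σ H := tvG_mem σ H hσ hε hH h1 hκσ
  have ht2 : tvG σ H z₂ κ ∈ isoGrp σ H := tvG_mem σ H hσ hε hH h2' hκσ
  have ht : t ∈ isoGrp σ H := Subgroup.mul_mem _ (Subgroup.mul_mem _ ht1 ht2) ht1
  have htv : ∀ v, (t : Matrix ι ι F) *ᵥ v =
      tvM σ H z₁ κ *ᵥ (tvM σ H z₂ κ *ᵥ (tvM σ H z₁ κ *ᵥ v)) := by
    intro v
    rw [htdef, Units.val_mul, Units.val_mul, tvG_coe σ H h1, tvG_coe σ H h2',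
      Matrix.mulVec_mulVec, Matrix.mulVec_mulVec, Matrix.mul_assoc]
  have hκφ : κ * φ = -1 := by
    rw [hκdef]; field_simp
  have e1 : κ * -φ = 1 := by rw [mul_neg, hκφ, neg_neg]
  have s1 : tvM σ H z₁ κ *ᵥ z₁ = z₁ := by
    rw [tvM_mulVec, h1, mul_zero, zero_smul, add_zero]
  have s2 : tvM σ H z₂ κ *ᵥ z₁ = z₁ + z₂ := by
    rw [tvM_mulVec, hψ, e1, one_smul]
  have s3 : tvM σ H z₁ κ *ᵥ z₂ = z₂ - z₁ := by
    rw [tvM_mulVec, ← hφdef, hκφ, neg_smul, one_smul, sub_eq_add_neg]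
  have s4 : tvM σ H z₂ κ *ᵥ z₂ = z₂ := by
    rw [tvM_mulVec, h2', mul_zero, zero_smul, add_zero]
  have htz1 : (t : Matrix ι ι F) *ᵥ z₁ = z₂ := by
    rw [htv, s1, s2, Matrix.mulVec_add, s1, s3]
    abel
  have htz2 : (t : Matrix ι ι F) *ᵥ z₂ = -z₁ := by
    rw [htv, s3, Matrix.mulVec_sub, s4, s2, Matrix.mulVec_sub, Matrix.mulVec_add, s1, s3]
    abel
  have sfix : ∀ (z : ι → F) (c : F) (u : ι → F), sf σ H z u = 0 → tvM σ H z c *ᵥ u = u := by
    intro z c u hzu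
    rw [tvM_mulVec, hzu, mul_zero, zero_smul, add_zero]
  have htfix : ∀ u, Perp2 σ H z₁ z₂ u → (t : Matrix ι ι F) *ᵥ u = u := by
    intro u hu
    rw [htv, sfix z₁ κ u hu.1, sfix z₂ κ u hu.2, sfix z₁ κ u hu.1]
  -- c = t * t is -1 on the span, 1 on the complement
  have hcW : ∀ a b : F, ((t * t : GL ι F) : Matrix ι ι F) *ᵥ (a • z₁ + b • z₂) =
      -(a • z₁ + b • z₂) := by
    intro a b
    rw [Units.val_mul, ← Matrix.mulVec_mulVec, Matrix.mulVec_add, Matrix.mulVec_smul,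
      Matrix.mulVec_smul, htz1, htz2, Matrix.mulVec_add, Matrix.mulVec_smul, Matrix.mulVec_smul,
      htz2, Matrix.mulVec_neg, htz1]
    simp only [smul_neg]
    abel
  have hcfix : ∀ u, Perp2 σ H z₁ z₂ u → ((t * t : GL ι F) : Matrix ι ι F) *ᵥ u = u := by
    intro u hu
    rw [Units.val_mul, ← Matrix.mulVec_mulVec, htfix u hu, htfix u hu]
  have hcomm : ∀ k ∈ H₁, (t * t) * k = k * (t * t) := by
    intro k hk
    apply Units.ext
    rw [Units.val_mul (t * t) k, Units.val_mul k (t * t)]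
    apply mat_ext_mulVec
    intro v
    obtain ⟨α, β, u, rfl, hu⟩ := decomp2 σ H hσ hε hH h1 h2' hφ v
    obtain ⟨α', β', hk'⟩ := fix_perp_span σ H hσ hε hH hdet h1 h2' hφ (hH₁iso hk)
      (hH₁fix k hk) α β
    have hL : ((t * t : GL ι F) : Matrix ι ι F) *ᵥ ((k : Matrix ι ι F) *ᵥ (α • z₁ + β • z₂ + u)) =
        -(α' • z₁ + β' • z₂) + u := by
      rw [Matrix.mulVec_add, hH₁fix k hk u hu, hk', Matrix.mulVec_add, hcW, hcfix u hu]
    have hR : (k : Matrix ι ι F) *ᵥ (((t * t : GL ι F) : Matrix ι ι F) *ᵥ (α • z₁ + β • z₂ + u)) =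
        -(α' • z₁ + β' • z₂) + u := by
      rw [Matrix.mulVec_add, hcW, hcfix u hu, Matrix.mulVec_add, Matrix.mulVec_neg, hk',
        hH₁fix k hk u hu]
    rw [← Matrix.mulVec_mulVec, ← Matrix.mulVec_mulVec, hL, hR]
  have hnorm : ∀ k ∈ H₁, t * k * t⁻¹ ∈ H₁ := hH₁norm t ht htfix
  have hxinv : x⁻¹ ∈ H₁ := H₁.inv_mem hx
  obtain ⟨j, hj, e, hje⟩ := odd_inv_trick H₁ hH₁odd t hnorm hcomm x⁻¹ hxinv
  -- `x⁻¹ t` fixes `z₁`
  have hw : ((x⁻¹ * t : GL ι F) : Matrix ι ι F) *ᵥ z₁ = z₁ := by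
    rw [Units.val_mul, ← Matrix.mulVec_mulVec, htz1, ← hxz, gl_inv_mulVec]
  have hwpow : ∀ i : ℕ, (((x⁻¹ * t) ^ i : GL ι F) : Matrix ι ι F) *ᵥ z₁ = z₁ := by
    intro i
    induction i with
    | zero => rw [pow_zero, Units.val_one, Matrix.one_mulVec]
    | succ i ih => rw [pow_succ, Units.val_mul, ← Matrix.mulVec_mulVec, hw, ih]
  have hcpow : ∀ i : ℕ, (((t * t) ^ i : GL ι F) : Matrix ι ι F) *ᵥ z₁ = (-1 : F) ^ i • z₁ := by
    intro i
    induction i with
    | zero => rw [pow_zero, Units.val_one, Matrix.one_mulVec, pow_zero, one_smul]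
    | succ i ih =>
      rw [pow_succ', Units.val_mul, ← Matrix.mulVec_mulVec, ih, Matrix.mulVec_smul]
      have := hcW 1 0
      rw [one_smul, zero_smul, add_zero] at this
      rw [this, pow_succ]
      simp
  have h3 := hwpow (2 * e + 1)
  rw [hje, Units.val_mul, Units.val_mul, Units.val_mul, ← Matrix.mulVec_mulVec, hcpow,
    Matrix.mulVec_smul, ← Matrix.mulVec_mulVec, ← Matrix.mulVec_mulVec] at h3
  set v := ((j⁻¹ : GL ι F) : Matrix ι ι F) *ᵥ z₁ with hvdef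
  -- t v = ± v
  have h4 : (t : Matrix ι ι F) *ᵥ v = (-1 : F) ^ e • v := by
    have h5 := congrArg (fun w => ((j⁻¹ : GL ι F) : Matrix ι ι F) *ᵥ w) h3
    simp only [Matrix.mulVec_smul, gl_inv_mulVec] at h5
    rw [← hvdef] at h5
    have h6 := congrArg (fun w => (-1 : F) ^ e • w) h5
    simp only [smul_smul] at h6
    have h7 : (-1 : F) ^ e * (-1 : F) ^ e = 1 := by
      rw [← mul_pow]; simp
    rw [h7, one_smul] at h6
    exact h6
  -- v is in the span
  obtain ⟨α, β, hv⟩ : ∃ α β : F, v = α • z₁ + β • z₂ := by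
    have hjinv : j⁻¹ ∈ H₁ := H₁.inv_mem hj
    have := fix_perp_span σ H hσ hε hH hdet h1 h2' hφ (hH₁iso hjinv) (hH₁fix _ hjinv) 1 0
    rw [one_smul, zero_smul, add_zero] at this
    exact this
  have h8 : ((t * t : GL ι F) : Matrix ι ι F) *ᵥ v = v := by
    rw [Units.val_mul, ← Matrix.mulVec_mulVec, h4, Matrix.mulVec_smul, h4, smul_smul]
    have h7 : (-1 : F) ^ e * (-1 : F) ^ e = 1 := by
      rw [← mul_pow]; simp
    rw [h7, one_smul]
  rw [hv, hcW, ← hv] at h8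
  have hv0 : v = 0 := by
    have h9 : (2 : F) • v = 0 := by
      rw [two_smul]
      nth_rw 1 [← h8]
      rw [neg_add_cancel]
    rcases smul_eq_zero.1 h9 with h | h
    · exact absurd h h2
    · exact h
  have hz10 : z₁ = 0 := by
    have := gl_mulVec_inv j z₁
    rw [← hvdef, hv0, Matrix.mulVec_zero] at this
    exact this.symm
  apply hφ
  rw [hφdef, hz10, sf_zero_left]

end

section

open Matrix

variable {F : Type*} [Field F] {ι : Type*} [Fintype ι] [DecidableEq ι]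

variable (σ : F ≃+* F) (H : Matrix ι ι F) {ε : F} (hσ : ∀ a, σ (σ a) = a) (hε : ε * ε = 1)
  (hσε : σ ε = ε) (hH : (H.map σ)ᵀ = ε • H) (hdet : H.det ≠ 0)

/-- the subgroup of `𝒩` fixing the complement of `z₁, z₂` pointwise -/
def fixPerp (𝒩 : Subgroup (GL ι F)) (z₁ z₂ : ι → F) : Subgroup (GL ι F) where
  carrier := {k | k ∈ 𝒩 ∧ ∀ u, Perp2 σ H z₁ z₂ u → (k : Matrix ι ι F) *ᵥ u = u}
  one_mem' := ⟨𝒩.one_mem, fun u _ => by rw [Units.val_one, Matrix.one_mulVec]⟩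
  mul_mem' := fun {a b} ha hb => ⟨𝒩.mul_mem ha.1 hb.1, fun u hu => by
    rw [Units.val_mul, ← Matrix.mulVec_mulVec, hb.2 u hu, ha.2 u hu]⟩
  inv_mem' := fun {a} ha => ⟨𝒩.inv_mem ha.1, fun u hu => by
    have := gl_inv_mulVec a u
    rw [ha.2 u hu] at this
    exact this⟩

theorem mem_fixPerp (𝒩 : Subgroup (GL ι F)) (z₁ z₂ : ι → F) (k : GL ι F) :
    k ∈ fixPerp σ H 𝒩 z₁ z₂ ↔
      k ∈ 𝒩 ∧ ∀ u, Perp2 σ H z₁ z₂ u → (k : Matrix ι ι F) *ᵥ u = u := Iff.rfl

theorem pow_mulVec_fix (k : GL ι F) {u : ι → F} (h : (k : Matrix ι ι F) *ᵥ u = u) (i : ℕ) :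
    ((k ^ i : GL ι F) : Matrix ι ι F) *ᵥ u = u := by
  induction i with
  | zero => rw [pow_zero, Units.val_one, Matrix.one_mulVec]
  | succ i ih => rw [pow_succ, Units.val_mul, ← Matrix.mulVec_mulVec, h, ih]

include hσ hε hσε hH hdet in
theorem core_II (h2 : (2 : F) ≠ 0) (hn : 3 ≤ Fintype.card ι) {c₀ : F} (hc₀ : c₀ ≠ 0)
    (hc₀σ : σ c₀ = -ε * c₀)
    (hT2b : ∀ y ∈ isoGrp σ H,
      (∀ a, sf σ H a a = 0 → sf σ H a ((y : Matrix ι ι F) *ᵥ a) = 0) →
      ∃ s : F, ((y * y : GL ι F) : Matrix ι ι F) = s • 1)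
    (𝒩 : Subgroup (GL ι F)) (h𝒩 : 𝒩 ≤ isoGrp σ H)
    (hnormal : ∀ k ∈ isoGrp σ H, ∀ x ∈ 𝒩, k * x * k⁻¹ ∈ 𝒩) {m : ℕ} (hm : Odd m)
    (hpow : ∀ x ∈ 𝒩, ∃ s : F, ((x ^ m : GL ι F) : Matrix ι ι F) = s • 1) :
    ∀ y ∈ 𝒩, ∃ s : F, (y : Matrix ι ι F) = s • 1 := by
  intro y hy
  by_contra hns
  have hex : ∃ a, sf σ H a a = 0 ∧ sf σ H a ((y : Matrix ι ι F) *ᵥ a) ≠ 0 := by
    by_contra h
    push Not at h
    obtain ⟨s', hs'⟩ := hT2b y (h𝒩 hy) h
    obtain ⟨s, hs⟩ := hpow y hy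
    exact hns (scalar_of_sq_pow y hm hs' hs)
  obtain ⟨a, ha, hφ₀⟩ := hex
  set b := (y : Matrix ι ι F) *ᵥ a with hbdef
  set φ₀ := sf σ H a b with hφ₀def
  have hyiso : y ∈ isoGrp σ H := h𝒩 hy
  have hb : sf σ H b b = 0 := by rw [hbdef, sf_iso σ H hyiso, ha]
  have hε0 : ε ≠ 0 := by
    rintro rfl
    rw [mul_zero] at hε
    exact zero_ne_one hε
  have hnegc : σ (-c₀) = -ε * (-c₀) := by rw [map_neg, hc₀σ]; ring
  have ht₀ : tvG σ H a c₀ ∈ isoGrp σ H := tvG_mem σ H hσ hε hH ha hc₀σ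
  set x : GL ι F := y * tvG σ H a c₀ * y⁻¹ * (tvG σ H a c₀)⁻¹ with hxdef
  have hx𝒩 : x ∈ 𝒩 := by
    have h1 : tvG σ H a c₀ * y⁻¹ * (tvG σ H a c₀)⁻¹ ∈ 𝒩 := hnormal _ ht₀ _ (𝒩.inv_mem hy)
    have h3 : x = y * (tvG σ H a c₀ * y⁻¹ * (tvG σ H a c₀)⁻¹) := by rw [hxdef]; group
    rw [h3]
    exact 𝒩.mul_mem hy h1
  have hxv : ∀ v, (x : Matrix ι ι F) *ᵥ v = tvM σ H b c₀ *ᵥ (tvM σ H a (-c₀) *ᵥ v) := by
    intro v
    rw [hxdef, conj_tvG σ H hyiso ha, Units.val_mul, tvG_coe σ H hb, tvG_inv_coe σ H ha,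
      Matrix.mulVec_mulVec]
  have hba : sf σ H b a = ε * σ φ₀ := sf_symm' σ H hσ hε hH a b
  set z₂ := (x : Matrix ι ι F) *ᵥ a with hz₂def
  have hz₂ : z₂ = a + (c₀ * sf σ H b a) • b := by
    have h3 : tvM σ H a (-c₀) *ᵥ a = a := by
      rw [tvM_mulVec, ha, mul_zero, zero_smul, add_zero]
    rw [hz₂def, hxv, h3, tvM_mulVec]
  have hσφ₀ : σ φ₀ ≠ 0 := (map_ne_zero_iff σ σ.injective).2 hφ₀
  have hcoef : c₀ * sf σ H b a ≠ 0 := by
    rw [hba]
    exact mul_ne_zero hc₀ (mul_ne_zero hε0 hσφ₀)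
  have hφ : sf σ H a z₂ = c₀ * (ε * σ φ₀) * φ₀ := by
    rw [hz₂, sf_add_right, sf_smul_right, ha, zero_add, hba]
  have hφne : sf σ H a z₂ ≠ 0 := by
    rw [hφ]
    exact mul_ne_zero (mul_ne_zero hc₀ (mul_ne_zero hε0 hσφ₀)) hφ₀
  have hφσ : σ (sf σ H a z₂) = -ε * sf σ H a z₂ := by
    rw [hφ, map_mul, map_mul, map_mul, hc₀σ, hσε, hσ]
    ring
  have hxiso : x ∈ isoGrp σ H := h𝒩 hx𝒩
  have hz₂iso : sf σ H z₂ z₂ = 0 := by rw [hz₂def, sf_iso σ H hxiso, ha]
  -- the subgroup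
  set H₁ := fixPerp σ H 𝒩 a z₂ with hH₁def
  have hH₁iso : H₁ ≤ isoGrp σ H := fun k hk => h𝒩 hk.1
  have hH₁fix : ∀ k ∈ H₁, ∀ u, Perp2 σ H a z₂ u → (k : Matrix ι ι F) *ᵥ u = u :=
    fun k hk => hk.2
  have hH₁odd : ∀ k ∈ H₁, Odd (orderOf k) := by
    intro k hk
    obtain ⟨s, hs⟩ := hpow k hk.1
    obtain ⟨u, hu0, hu⟩ := exists_perp2 σ H hn a z₂
    have h3 := pow_mulVec_fix k (hk.2 u hu) m
    rw [hs, Matrix.smul_mulVec, Matrix.one_mulVec] at h3
    have hs1 : s = 1 := by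
      by_contra hne
      have h4 : (s - 1) • u = 0 := by rw [sub_smul, h3, one_smul, sub_self]
      rcases smul_eq_zero.1 h4 with h | h
      · exact hne (sub_eq_zero.1 h)
      · exact hu0 h
    have h5 : k ^ m = 1 := by
      apply Units.ext
      rw [hs, hs1, one_smul, Units.val_one]
    exact Odd.of_dvd_nat hm (orderOf_dvd_of_pow_eq_one h5)
  have hH₁norm : ∀ t ∈ isoGrp σ H, (∀ u, Perp2 σ H a z₂ u → (t : Matrix ι ι F) *ᵥ u = u) →
      ∀ k ∈ H₁, t * k * t⁻¹ ∈ H₁ := by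
    intro t ht htfix k hk
    refine ⟨hnormal t ht k hk.1, ?_⟩
    intro u hu
    have h3 : ((t⁻¹ : GL ι F) : Matrix ι ι F) *ᵥ u = u := by
      have := gl_inv_mulVec t u
      rw [htfix u hu] at this
      exact this
    rw [Units.val_mul, Units.val_mul, ← Matrix.mulVec_mulVec, ← Matrix.mulVec_mulVec, h3,
      hk.2 u hu, htfix u hu]
  have hxH₁ : x ∈ H₁ := by
    refine ⟨hx𝒩, ?_⟩
    intro u hu
    have hbu : sf σ H b u = 0 := by
      have h3 := hu.2
      rw [hz₂, sf_add_left, sf_smul_left, hu.1, zero_add] at h3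
      rcases mul_eq_zero.1 h3 with h | h
      · exact absurd ((map_eq_zero_iff σ σ.injective).1 h) hcoef
      · exact h
    have h4 : tvM σ H a (-c₀) *ᵥ u = u := by
      rw [tvM_mulVec, hu.1, mul_zero, zero_smul, add_zero]
    rw [hxv, h4, tvM_mulVec, hbu, mul_zero, zero_smul, add_zero]
  exact quarter_turn_contra σ H hσ hε hσε hH hdet h2 ha hz₂iso hφne hφσ H₁ hH₁iso hH₁fix hH₁odd
    hH₁norm x hxH₁ rfl

end

section

open Matrix

variable {F : Type*} [Field F] {ι : Type*} [Fintype ι] [DecidableEq ι]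

variable (σ : F ≃+* F) (H : Matrix ι ι F) (hσ : ∀ a, σ (σ a) = a)
  (hH : (H.map σ)ᵀ = (1 : F) • H) (hdet : H.det ≠ 0)

include hσ hH in
theorem sf_symm1 (u v : ι → F) : sf σ H v u = σ (sf σ H u v) := by
  rw [sf_symm' σ H hσ (one_mul 1) hH, one_mul]

include hσ hH in
theorem sf_self_fixed (v : ι → F) : σ (sf σ H v v) = sf σ H v v :=
  (sf_symm1 σ H hσ hH v v).symm

theorem map_two (σ : F ≃+* F) : σ (2 : F) = 2 := by
  rw [← one_add_one_eq_two, map_add, map_one]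

include hσ hH hdet in
/-- a non-zero isotropic vector has an isotropic partner -/
theorem exists_hyp_partner (h2 : (2 : F) ≠ 0) {z : ι → F} (hz0 : z ≠ 0) (hz : sf σ H z z = 0) :
    ∃ z', sf σ H z' z' = 0 ∧ sf σ H z z' = 1 := by
  obtain ⟨v, hv⟩ := exists_sf_ne_zero σ H hdet hz0
  obtain ⟨v₁, hv₁⟩ : ∃ v₁, v₁ = (sf σ H z v)⁻¹ • v := ⟨_, rfl⟩
  have h1 : sf σ H z v₁ = 1 := by
    rw [hv₁, sf_smul_right, inv_mul_cancel₀ hv]
  obtain ⟨q, hq⟩ : ∃ q, q = sf σ H v₁ v₁ := ⟨_, rfl⟩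
  have hqσ : σ q = q := by rw [hq]; exact sf_self_fixed σ H hσ hH v₁
  have h1' : sf σ H v₁ z = 1 := by
    rw [sf_symm1 σ H hσ hH z v₁, h1, map_one]
  refine ⟨v₁ - (q / 2) • z, ?_, ?_⟩
  · rw [sf_sub_left, sf_sub_right, sf_sub_right, sf_smul_left, sf_smul_right, sf_smul_left,
      sf_smul_right, hz, h1, h1', ← hq, map_div₀, hqσ, map_two]
    field_simp
    ring
  · rw [sf_sub_right, sf_smul_right, hz, h1, mul_zero, sub_zero]

include hσ hH hdet in
/-- the complement of a hyperbolic pair contains an anisotropic vector in dimension at least 3 -/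
theorem exists_aniso_perp (h2 : (2 : F) ≠ 0) (hn : 3 ≤ Fintype.card ι) {z z' : ι → F}
    (hz : sf σ H z z = 0) (hz' : sf σ H z' z' = 0) (hzz' : sf σ H z z' = 1) :
    ∃ w, Perp2 σ H z z' w ∧ sf σ H w w ≠ 0 := by
  by_contra hcon
  push Not at hcon
  obtain ⟨u, hu0, hu⟩ := exists_perp2 σ H hn z z'
  have hφ : sf σ H z z' ≠ 0 := by rw [hzz']; exact one_ne_zero
  -- closure properties of the complement
  have hadd : ∀ a b, Perp2 σ H z z' a → Perp2 σ H z z' b → Perp2 σ H z z' (a + b) := by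
    intro a b ha hb
    exact ⟨by rw [sf_add_right, ha.1, hb.1, add_zero], by rw [sf_add_right, ha.2, hb.2, add_zero]⟩
  have hsmul : ∀ (c : F) a, Perp2 σ H z z' a → Perp2 σ H z z' (c • a) := by
    intro c a ha
    exact ⟨by rw [sf_smul_right, ha.1, mul_zero], by rw [sf_smul_right, ha.2, mul_zero]⟩
  have hpol : ∀ a b, Perp2 σ H z z' a → Perp2 σ H z z' b → sf σ H a b = 0 := by
    intro a b ha hb
    set s := sf σ H a b with hs
    have hba : sf σ H b a = σ s := sf_symm1 σ H hσ hH a b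
    have key : ∀ c : F, σ c * s + c * σ s = 0 := by
      intro c
      have h3 := hcon (c • a + b) (hadd _ _ (hsmul c a ha) hb)
      rw [sf_add_left, sf_add_right, sf_add_right, sf_smul_left, sf_smul_right, sf_smul_left,
        sf_smul_right, hcon a ha, hcon b hb, ← hs, hba] at h3
      linear_combination h3
    have h1 := key 1
    rw [map_one, one_mul, one_mul] at h1
    by_cases hfix : ∀ c : F, σ c = c
    · rw [hfix s] at h1
      have : (2 : F) * s = 0 := by linear_combination h1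
      rcases mul_eq_zero.1 this with h | h
      · exact absurd h h2
      · exact h
    · push Not at hfix
      obtain ⟨c, hc⟩ := hfix
      have h3 := key c
      have h4 : (σ c - c) * s = 0 := by linear_combination h3 - c * h1
      rcases mul_eq_zero.1 h4 with h | h
      · exact absurd (sub_eq_zero.1 h) hc
      · exact h
  apply hu0
  apply sf_right_nondeg σ H hdet
  intro v
  obtain ⟨α, β, u', rfl, hu'⟩ := decomp2 σ H hσ (one_mul 1) hH hz hz' hφ v
  rw [sf_add_left, sf_add_left, sf_smul_left, sf_smul_left, hu.1, hu.2, hpol u' u hu' hu]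
  ring

end

section

open Matrix

variable {F : Type*} [Field F] {ι : Type*} [Fintype ι] [DecidableEq ι]

/-- the `τ`-semilinear map `v ↦ g τ(v)` -/
def semi (g : GL ι F) (τ : F ≃+* F) (v : ι → F) : ι → F := (g : Matrix ι ι F) *ᵥ vmap τ v

theorem semi_add (g : GL ι F) (τ : F ≃+* F) (u v : ι → F) :
    semi g τ (u + v) = semi g τ u + semi g τ v := by
  unfold semi; rw [vmap_add, Matrix.mulVec_add]

theorem semi_sub (g : GL ι F) (τ : F ≃+* F) (u v : ι → F) :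
    semi g τ (u - v) = semi g τ u - semi g τ v := by
  unfold semi; rw [vmap_sub, Matrix.mulVec_sub]

theorem semi_smul (g : GL ι F) (τ : F ≃+* F) (c : F) (v : ι → F) :
    semi g τ (c • v) = τ c • semi g τ v := by
  unfold semi; rw [vmap_smul, Matrix.mulVec_smul]

theorem semi_ne_zero (g : GL ι F) (τ : F ≃+* F) {v : ι → F} (hv : v ≠ 0) : semi g τ v ≠ 0 := by
  unfold semi
  apply gl_mulVec_ne_zero
  intro h
  exact hv ((vmap_eq_zero τ).1 h)

theorem semi_one (g : GL ι F) (v : ι → F) : semi g 1 v = (g : Matrix ι ι F) *ᵥ v := by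
  unfold semi; rw [vmap_one]

variable (σ : F ≃+* F) (H : Matrix ι ι F) (hσ : ∀ a, σ (σ a) = a)
  (hH : (H.map σ)ᵀ = (1 : F) • H) (hdet : H.det ≠ 0)

include hσ hH in
theorem L_aux (h2 : (2 : F) ≠ 0) {z z' w : ι → F} (hz : sf σ H z z = 0) (hz' : sf σ H z' z' = 0)
    (hzz' : sf σ H z z' = 1) (hw : Perp2 σ H z z' w) (hγ : sf σ H w w ≠ 0)
    (g : GL ι F) (τ : F ≃+* F)
    (hT : ∀ v, sf σ H v v = 0 → ∃ μ : F, semi g τ v = μ • v) {μ : F} (hμ : semi g τ z = μ • z)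
    (hz0 : z ≠ 0) :
    (∀ s, τ s = s) ∧ semi g τ w = μ • w ∧ semi g τ z' = μ • z' := by
  obtain ⟨γ, hγdef⟩ : ∃ γ, γ = sf σ H w w := ⟨_, rfl⟩
  rw [← hγdef] at hγ
  have hγσ : σ γ = γ := by rw [hγdef]; exact sf_self_fixed σ H hσ hH w
  have hz'z : sf σ H z' z = 1 := by rw [sf_symm1 σ H hσ hH z z', hzz', map_one]
  have hwz : sf σ H w z = 0 := sf_eq_zero_symm σ H hσ (one_mul 1) hH hw.1
  have hwz' : sf σ H w z' = 0 := sf_eq_zero_symm σ H hσ (one_mul 1) hH hw.2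
  have hμ0 : μ ≠ 0 := by
    rintro rfl
    rw [zero_smul] at hμ
    exact semi_ne_zero g τ hz0 hμ
  obtain ⟨μ', hμ'⟩ := hT z' hz'
  obtain ⟨ω, hω⟩ : ∃ ω, ω = semi g τ w := ⟨_, rfl⟩
  -- the isotropic vectors z_s
  have hiso : ∀ s : F, sf σ H (z - (σ s * s * γ / 2) • z' + s • w)
      (z - (σ s * s * γ / 2) • z' + s • w) = 0 := by
    intro s
    have hc : σ (σ s * s * γ / 2) = σ s * s * γ / 2 := by
      rw [map_div₀, map_mul, map_mul, hσ, hγσ, map_two]
      ring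
    simp only [sf_add_left, sf_add_right, sf_sub_left, sf_sub_right, sf_smul_left, sf_smul_right,
      hz, hz', hzz', hz'z, hw.1, hw.2, hwz, hwz', ← hγdef, hc]
    field_simp
    ring
  -- the basic equation
  have hE : ∀ s : F, ∃ μs : F, μ • z - (τ (σ s * s * γ / 2) * μ') • z' + τ s • ω =
      μs • (z - (σ s * s * γ / 2) • z' + s • w) := by
    intro s
    obtain ⟨μs, hμs⟩ := hT _ (hiso s)
    refine ⟨μs, ?_⟩
    rw [← hμs, semi_add, semi_sub, semi_smul, semi_smul, hμ, hμ', ← hω, smul_smul]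
  -- apply the three functionals
  have hF1 : ∀ s μs, μ • z - (τ (σ s * s * γ / 2) * μ') • z' + τ s • ω =
      μs • (z - (σ s * s * γ / 2) • z' + s • w) → μ + τ s * sf σ H z' ω = μs := by
    intro s μs h
    have := congrArg (fun v => sf σ H z' v) h
    simp only [sf_add_right, sf_sub_right, sf_smul_right, hz'z, hz', hw.2] at this
    linear_combination this
  have hF3 : ∀ s μs, μ • z - (τ (σ s * s * γ / 2) * μ') • z' + τ s • ω =
      μs • (z - (σ s * s * γ / 2) • z' + s • w) → τ s * sf σ H w ω = μs * s * γ := by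
    intro s μs h
    have := congrArg (fun v => sf σ H w v) h
    simp only [sf_add_right, sf_sub_right, sf_smul_right, hwz, hwz', ← hγdef] at this
    linear_combination this
  obtain ⟨μ₁, hE1⟩ := hE 1
  obtain ⟨μ₂, hE2⟩ := hE (-1)
  have h11 := hF1 1 μ₁ hE1
  have h12 := hF1 (-1) μ₂ hE2
  have h31 := hF3 1 μ₁ hE1
  have h32 := hF3 (-1) μ₂ hE2
  rw [map_one, one_mul] at h11 h31
  rw [map_neg, map_one] at h12 h32
  have hμ12 : μ₁ = μ₂ := by
    have : (μ₁ - μ₂) * γ = 0 := by linear_combination (-1 : F) * h31 + (-1 : F) * h32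
    rcases mul_eq_zero.1 this with h | h
    · exact sub_eq_zero.1 h
    · exact absurd h hγ
  have hA : sf σ H z' ω = 0 := by
    have : (2 : F) * sf σ H z' ω = 0 := by linear_combination h11 - h12 + hμ12
    rcases mul_eq_zero.1 this with h | h
    · exact absurd h h2
    · exact h
  have hμ1 : μ₁ = μ := by rw [← h11, hA, add_zero]
  have hC : sf σ H w ω = μ * γ := by rw [h31, hμ1, mul_one]
  have hτ : ∀ s, τ s = s := by
    intro s
    obtain ⟨μs, hEs⟩ := hE s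
    have h1s := hF1 s μs hEs
    have h3s := hF3 s μs hEs
    rw [hA, mul_zero, add_zero] at h1s
    rw [hC, ← h1s] at h3s
    have : (τ s - s) * (μ * γ) = 0 := by linear_combination h3s
    rcases mul_eq_zero.1 this with h | h
    · exact sub_eq_zero.1 h
    · exact absurd h (mul_ne_zero hμ0 hγ)
  -- simplify E(1), E(-1)
  have hc1 : σ (1 : F) * 1 * γ / 2 = γ / 2 := by rw [map_one]; ring
  have hc2 : σ (-1 : F) * -1 * γ / 2 = γ / 2 := by rw [map_neg, map_one]; ring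
  rw [hc1, hτ, hτ, one_smul, one_smul, hμ1] at hE1
  rw [hc2, hτ, hτ, ← hμ12, hμ1] at hE2
  have hF2 := congrArg (fun v => sf σ H z v) hE1
  simp only [sf_add_right, sf_sub_right, sf_smul_right, hz, hzz', hw.1] at hF2
  have hF2' := congrArg (fun v => sf σ H z v) hE2
  simp only [sf_add_right, sf_sub_right, sf_smul_right, hz, hzz', hw.1] at hF2'
  have hγ2 : γ / 2 ≠ 0 := div_ne_zero hγ h2
  have hμ'eq : μ' = μ := by
    have : (2 : F) * ((γ / 2) * (μ' - μ)) = 0 := by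
      linear_combination (-1 : F) * hF2 + (-1 : F) * hF2'
    rcases mul_eq_zero.1 this with h | h
    · exact absurd h h2
    · rcases mul_eq_zero.1 h with h | h
      · exact absurd h hγ2
      · exact sub_eq_zero.1 h
  refine ⟨hτ, ?_, ?_⟩
  · rw [← hω]
    rw [hμ'eq] at hE1
    have h5 : ω = μ • (z - (γ / 2) • z' + w) - (μ • z - (γ / 2 * μ) • z') := by
      rw [← hE1]; abel
    rw [h5, smul_add, smul_sub, smul_smul, mul_comm μ (γ / 2)]
    abel
  · rw [hμ', hμ'eq]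


include hσ hH hdet in
/-- a semilinear map preserving every isotropic line is a scalar (and linear) -/
theorem semi_scalar (h2 : (2 : F) ≠ 0) (hn : 3 ≤ Fintype.card ι)
    (hiso : ∃ z : ι → F, z ≠ 0 ∧ sf σ H z z = 0) (g : GL ι F) (τ : F ≃+* F)
    (hT : ∀ v, sf σ H v v = 0 → ∃ μ : F, semi g τ v = μ • v) :
    (∀ s, τ s = s) ∧ ∃ μ : F, (g : Matrix ι ι F) = μ • 1 := by
  obtain ⟨z, hz0, hz⟩ := hiso
  obtain ⟨z', hz', hzz'⟩ := exists_hyp_partner σ H hσ hH hdet h2 hz0 hz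
  obtain ⟨w, hw, hγ⟩ := exists_aniso_perp σ H hσ hH hdet h2 hn hz hz' hzz'
  obtain ⟨μ, hμ⟩ := hT z hz
  obtain ⟨hτ, -, hμz'⟩ := L_aux σ H hσ hH h2 hz hz' hzz' hw hγ g τ hT hμ hz0
  refine ⟨hτ, μ, ?_⟩
  have hsemi : ∀ v, semi g τ v = (g : Matrix ι ι F) *ᵥ v := by
    intro v
    unfold semi
    congr 1
    ext i
    exact hτ (v i)
  have hφ : sf σ H z z' ≠ 0 := by rw [hzz']; exact one_ne_zero
  have hperp : ∀ u, Perp2 σ H z z' u → (g : Matrix ι ι F) *ᵥ u = μ • u := by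
    intro u hu
    by_cases huu : sf σ H u u = 0
    · have hz'u : sf σ H (z' + u) (z' + u) = 0 := by
        rw [sf_add_left, sf_add_right, sf_add_right, hz', huu, hu.2,
          sf_eq_zero_symm σ H hσ (one_mul 1) hH hu.2]
        ring
      obtain ⟨μ'', hμ''⟩ := hT _ hz'u
      rw [semi_add, hμz'] at hμ''
      have h3 := congrArg (fun v => sf σ H z v) hμ''
      simp only [sf_add_right, sf_smul_right, hzz', hu.1, hsemi] at h3
      have hzgu : sf σ H z ((g : Matrix ι ι F) *ᵥ u) = 0 := by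
        obtain ⟨μu, hμu⟩ := hT u huu
        rw [← hsemi, hμu, sf_smul_right, hu.1, mul_zero]
      rw [hzgu] at h3
      have h4 : μ'' = μ := by linear_combination -h3
      rw [h4, smul_add] at hμ''
      rw [← hsemi]
      exact add_left_cancel hμ''
    · obtain ⟨-, h3, -⟩ := L_aux σ H hσ hH h2 hz hz' hzz' hu huu g τ hT hμ hz0
      rw [← hsemi]
      exact h3
  apply mat_ext_mulVec
  intro v
  obtain ⟨α, β, u, rfl, hu⟩ := decomp2 σ H hσ (one_mul 1) hH hz hz' hφ v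
  rw [Matrix.mulVec_add, Matrix.mulVec_add, Matrix.mulVec_smul, Matrix.mulVec_smul, hperp u hu,
    ← hsemi z, ← hsemi z', hμ, hμz', Matrix.smul_mulVec, Matrix.one_mulVec]
  simp only [smul_add, smul_smul]
  congr 2
  · rw [mul_comm]
  · rw [mul_comm]

end

section

open Matrix

variable {F : Type*} [Field F] {ι : Type*} [Fintype ι] [DecidableEq ι]

section herm

variable (σ : F ≃+* F) (H : Matrix ι ι F) (hσ : ∀ a, σ (σ a) = a)
  (hH : (H.map σ)ᵀ = (1 : F) • H) (hdet : H.det ≠ 0)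

include hσ hH in
/-- one half of the polarisation argument -/
theorem herm_aux (h2 : (2 : F) ≠ 0) {d₀ : F} (hd₀ : σ d₀ ≠ d₀) (y : GL ι F)
    (hy : ∀ a, sf σ H a a = 0 → sf σ H a ((y : Matrix ι ι F) *ᵥ a) = 0)
    {z z' : ι → F} (hz : sf σ H z z = 0) (hz' : sf σ H z' z' = 0) (hzz' : sf σ H z z' = 1)
    {w : ι → F} (hw : Perp2 σ H z z' w) :
    sf σ H w ((y : Matrix ι ι F) *ᵥ z') = 0 ∧ sf σ H z' ((y : Matrix ι ι F) *ᵥ w) = 0 := by
  have hz'z : sf σ H z' z = 1 := by rw [sf_symm1 σ H hσ hH z z', hzz', map_one]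
  have hwz : sf σ H w z = 0 := sf_eq_zero_symm σ H hσ (one_mul 1) hH hw.1
  have hwz' : sf σ H w z' = 0 := sf_eq_zero_symm σ H hσ (one_mul 1) hH hw.2
  -- a trace-zero element
  obtain ⟨d, hd⟩ : ∃ d, d = d₀ - σ d₀ := ⟨_, rfl⟩
  have hdσ : σ d = -d := by rw [hd, map_sub, hσ]; ring
  have hd0 : d ≠ 0 := by
    rw [hd]
    exact sub_ne_zero.2 (Ne.symm hd₀)
  -- isotropy criterion
  have hisoc : ∀ (c : F) (w : ι → F), Perp2 σ H z z' w → c + σ c + sf σ H w w = 0 →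
      sf σ H (z + c • z' + w) (z + c • z' + w) = 0 := by
    intro c w hw hc
    have hwz : sf σ H w z = 0 := sf_eq_zero_symm σ H hσ (one_mul 1) hH hw.1
    have hwz' : sf σ H w z' = 0 := sf_eq_zero_symm σ H hσ (one_mul 1) hH hw.2
    simp only [sf_add_left, sf_add_right, sf_smul_left, sf_smul_right, hz, hz', hzz', hz'z, hw.1,
      hw.2, hwz, hwz']
    linear_combination hc
  -- expansion of Y(v,v)
  have hexp : ∀ (c : F) (w : ι → F), Perp2 σ H z z' w → c + σ c + sf σ H w w = 0 →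
      c * sf σ H z ((y : Matrix ι ι F) *ᵥ z') + sf σ H z ((y : Matrix ι ι F) *ᵥ w) +
      σ c * sf σ H z' ((y : Matrix ι ι F) *ᵥ z) + σ c * sf σ H z' ((y : Matrix ι ι F) *ᵥ w) +
      sf σ H w ((y : Matrix ι ι F) *ᵥ z) + c * sf σ H w ((y : Matrix ι ι F) *ᵥ z') +
      sf σ H w ((y : Matrix ι ι F) *ᵥ w) = 0 := by
    intro c w hw hc
    have h3 := hy _ (hisoc c w hw hc)
    simp only [Matrix.mulVec_add, Matrix.mulVec_smul, sf_add_left, sf_add_right, sf_smul_left,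
      sf_smul_right, hy z hz, hy z' hz'] at h3
    linear_combination h3
  have hzero : Perp2 σ H z z' (0 : ι → F) := ⟨sf_zero_right σ H z, sf_zero_right σ H z'⟩
  -- step 1
  have h1 : sf σ H z ((y : Matrix ι ι F) *ᵥ z') = sf σ H z' ((y : Matrix ι ι F) *ᵥ z) := by
    have h3 := hexp d 0 hzero (by rw [hdσ, sf_zero_left]; ring)
    simp only [Matrix.mulVec_zero, sf_zero_left, sf_zero_right, hdσ] at h3
    have : d * (sf σ H z ((y : Matrix ι ι F) *ᵥ z') - sf σ H z' ((y : Matrix ι ι F) *ᵥ z)) = 0 := by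
      linear_combination h3
    rcases mul_eq_zero.1 this with h | h
    · exact absurd h hd0
    · exact sub_eq_zero.1 h
  -- step 2
  have h2s : ∀ w, Perp2 σ H z z' w →
      sf σ H w ((y : Matrix ι ι F) *ᵥ z') = sf σ H z' ((y : Matrix ι ι F) *ᵥ w) := by
    intro w hw
    have hfix : σ (sf σ H w w) = sf σ H w w := sf_self_fixed σ H hσ hH w
    have hc1 : -(sf σ H w w) / 2 + σ (-(sf σ H w w) / 2) + sf σ H w w = 0 := by
      rw [map_div₀, map_neg, hfix, map_two]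
      field_simp
      ring
    have hc2 : (-(sf σ H w w) / 2 + d) + σ (-(sf σ H w w) / 2 + d) + sf σ H w w = 0 := by
      rw [map_add, hdσ]
      linear_combination hc1
    have e1 := hexp _ w hw hc1
    have e2 := hexp _ w hw hc2
    rw [map_add, hdσ] at e2
    have : d * (sf σ H w ((y : Matrix ι ι F) *ᵥ z') - sf σ H z' ((y : Matrix ι ι F) *ᵥ w)) = 0 := by
      linear_combination e2 - e1 - d * h1
    rcases mul_eq_zero.1 this with h | h
    · exact absurd h hd0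
    · exact sub_eq_zero.1 h
  -- step 3
  have h3s := h2s (d₀ • w) ⟨by rw [sf_smul_right, hw.1, mul_zero], by rw [sf_smul_right, hw.2, mul_zero]⟩
  rw [sf_smul_left, Matrix.mulVec_smul, sf_smul_right, ← h2s w hw] at h3s
  have h4 : (σ d₀ - d₀) * sf σ H w ((y : Matrix ι ι F) *ᵥ z') = 0 := by linear_combination h3s
  rcases mul_eq_zero.1 h4 with h | h
  · exact absurd (sub_eq_zero.1 h) hd₀
  · exact ⟨h, by rw [← h2s w hw, h]⟩


include hσ hH hdet in
theorem herm_line (h2 : (2 : F) ≠ 0) {d₀ : F} (hd₀ : σ d₀ ≠ d₀) (y : GL ι F)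
    (hy : ∀ a, sf σ H a a = 0 → sf σ H a ((y : Matrix ι ι F) *ᵥ a) = 0)
    {z : ι → F} (hz : sf σ H z z = 0) : ∃ μ : F, (y : Matrix ι ι F) *ᵥ z = μ • z := by
  by_cases hz0 : z = 0
  · exact ⟨0, by rw [hz0, Matrix.mulVec_zero, smul_zero]⟩
  obtain ⟨z', hz', hzz'⟩ := exists_hyp_partner σ H hσ hH hdet h2 hz0 hz
  have hz'z : sf σ H z' z = 1 := by rw [sf_symm1 σ H hσ hH z z', hzz', map_one]
  have hφ : sf σ H z z' ≠ 0 := by rw [hzz']; exact one_ne_zero
  obtain ⟨α, β, hαβ⟩ := mem_span2 σ H hσ (one_mul 1) hH hdet hz hz' hφ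
    (w := (y : Matrix ι ι F) *ᵥ z) (by
      intro u hu
      exact (herm_aux σ H hσ hH h2 hd₀ y hy hz' hz hz'z (w := u) ⟨hu.2, hu.1⟩).1)
  have h3 := hy z hz
  rw [hαβ, sf_add_right, sf_smul_right, sf_smul_right, hz, hzz'] at h3
  have hβ : β = 0 := by linear_combination h3
  refine ⟨α, ?_⟩
  rw [hαβ, hβ, zero_smul, add_zero]

include hσ hH hdet in
theorem herm_T2b (h2 : (2 : F) ≠ 0) (hn : 3 ≤ Fintype.card ι) {d₀ : F} (hd₀ : σ d₀ ≠ d₀)
    (hiso : ∃ z : ι → F, z ≠ 0 ∧ sf σ H z z = 0) (y : GL ι F)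
    (hy : ∀ a, sf σ H a a = 0 → sf σ H a ((y : Matrix ι ι F) *ᵥ a) = 0) :
    ∃ s : F, ((y * y : GL ι F) : Matrix ι ι F) = s • 1 := by
  obtain ⟨-, μ, hμ⟩ := semi_scalar σ H hσ hH hdet h2 hn hiso y 1 (by
    intro v hv
    rw [semi_one]
    exact herm_line σ H hσ hH hdet h2 hd₀ y hy hv)
  refine ⟨μ * μ, ?_⟩
  rw [Units.val_mul, hμ, Matrix.smul_mul, Matrix.one_mul, smul_smul]

end herm

end

end Cfsg.Agent.Lib.H13.PSLBal
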