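import Mathlib
import Cfsg.Agent.Lib.H13.PSLBal1

/-!
Local balance in `PSL_n(q)`, part 2 (helper13): the involution trick modulo the centre (`odd_inv_trick_proj`), reflections `rfM`, `rfG`,
`decomp3`, `mem_span3`, `half_turn_contra`, `core_I` (odd-order normal subgroups of orthogonal groups are scalar), `lemma_L`,
`T_tv`, `T_cent_herm`, `T_cent_alt`, `core_alt`, `core_herm`, Siegel transformations and `T_cent_sym`.
-/

set_option autoImplicit false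
set_option linter.unusedSectionVars false
set_option linter.unusedVariables false
set_option linter.unusedSimpArgs false
set_option linter.deprecated false

namespace Cfsg.Agent.Lib.H13.PSLBal

section

open Matrix

section grp

variable {G : Type*} [Group G]

/-- the involution trick modulo a central subgroup -/
theorem odd_inv_trick_proj (Z : Subgroup G) (hZ : ∀ z ∈ Z, ∀ g : G, g * z = z * g)
    (H : Subgroup G) {m : ℕ} (hm : Odd m) (hpow : ∀ h ∈ H, h ^ m ∈ Z) (t : G)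
    (hnorm : ∀ h ∈ H, t * h * t⁻¹ ∈ H) (ht : t * t ∈ Z) (x : G) (hx : x ∈ H) :
    ∃ j ∈ H, ∃ e : ℕ, ∃ z ∈ Z, (x * t) ^ (2 * e + 1) = j * t * j⁻¹ * z := by
  haveI : Z.Normal := ⟨fun z hz g => by rw [hZ z hz g, mul_inv_cancel_right]; exact hz⟩
  let π := QuotientGroup.mk' Z
  have hodd : ∀ h' ∈ H.map π, Odd (orderOf h') := by
    rintro h' ⟨h, hh, rfl⟩
    apply Odd.of_dvd_nat hm
    apply orderOf_dvd_of_pow_eq_one
    rw [← map_pow]
    exact (QuotientGroup.eq_one_iff _).2 (hpow h hh)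
  have hnorm' : ∀ h' ∈ H.map π, π t * h' * (π t)⁻¹ ∈ H.map π := by
    rintro h' ⟨h, hh, rfl⟩
    refine ⟨t * h * t⁻¹, hnorm h hh, ?_⟩
    rw [map_mul, map_mul, map_inv]
  have ht1 : π t * π t = 1 := by
    rw [← map_mul]
    exact (QuotientGroup.eq_one_iff _).2 ht
  have hc' : ∀ h' ∈ H.map π, (π t * π t) * h' = h' * (π t * π t) := by
    intro h' _
    rw [ht1, one_mul, mul_one]
  obtain ⟨j', ⟨j, hj, rfl⟩, e, he⟩ := odd_inv_trick (H.map π) hodd (π t) hnorm' hc' (π x)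
    ⟨x, hx, rfl⟩
  rw [ht1, one_pow, mul_one, ← map_mul, ← map_pow, ← map_inv, ← map_mul, ← map_mul] at he
  have h3 : (j * t * j⁻¹)⁻¹ * (x * t) ^ (2 * e + 1) ∈ Z := by
    have := (QuotientGroup.eq (s := Z)).1 he.symm
    exact this
  refine ⟨j, hj, e, _, h3, ?_⟩
  group

end grp

variable {F : Type*} [Field F] {ι : Type*} [Fintype ι] [DecidableEq ι]

theorem mem_center_of_smul {g : GL ι F} {s : F} (h : (g : Matrix ι ι F) = s • 1) :
    g ∈ Subgroup.center (GL ι F) := by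
  rw [Subgroup.mem_center_iff]
  intro k
  apply Units.ext
  rw [Units.val_mul, Units.val_mul, h, Matrix.mul_smul, Matrix.smul_mul, Matrix.mul_one,
    Matrix.one_mul]

theorem smul_of_mem_center {g : GL ι F} (h : g ∈ Subgroup.center (GL ι F)) :
    ∃ s : F, (g : Matrix ι ι F) = s • 1 := by
  rw [Matrix.GeneralLinearGroup.center_eq_range_scalar] at h
  obtain ⟨u, rfl⟩ := h
  refine ⟨(u : F), ?_⟩
  rw [Matrix.GeneralLinearGroup.coe_scalar]
  show Matrix.scalar ι (u : F) = _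
  rw [Matrix.scalar_apply, Matrix.smul_one_eq_diagonal]

section refl

variable (σ : F ≃+* F) (H : Matrix ι ι F) (hσ : ∀ a, σ (σ a) = a)
  (hH : (H.map σ)ᵀ = (1 : F) • H) (hdet : H.det ≠ 0)

/-- the reflection in the hyperplane orthogonal to `a` -/
def rfM (a : ι → F) : Matrix ι ι F := tvM σ H a (-2 / sf σ H a a)

theorem rfM_mulVec (a v : ι → F) :
    rfM σ H a *ᵥ v = v + (-2 / sf σ H a a * sf σ H a v) • a := by
  unfold rfM
  rw [tvM_mulVec]

theorem rfM_mul_self {a : ι → F} (ha : sf σ H a a ≠ 0) : rfM σ H a * rfM σ H a = 1 := by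
  apply mat_ext_mulVec
  intro v
  rw [← Matrix.mulVec_mulVec, rfM_mulVec, rfM_mulVec, Matrix.one_mulVec, sf_add_right,
    sf_smul_right, add_assoc, ← add_smul]
  have : -2 / sf σ H a a * sf σ H a v +
      -2 / sf σ H a a * (sf σ H a v + -2 / sf σ H a a * sf σ H a v * sf σ H a a) = 0 := by
    field_simp
    ring
  rw [this, zero_smul, add_zero]

open Classical in
/-- the reflection as an element of `GL` -/
noncomputable def rfG (a : ι → F) : GL ι F :=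
  if ha : sf σ H a a ≠ 0 then
    ⟨rfM σ H a, rfM σ H a, rfM_mul_self σ H ha, rfM_mul_self σ H ha⟩
  else 1

theorem rfG_coe {a : ι → F} (ha : sf σ H a a ≠ 0) :
    ((rfG σ H a : GL ι F) : Matrix ι ι F) = rfM σ H a := by
  unfold rfG
  rw [dif_pos ha]

theorem rfG_mul_self (a : ι → F) : rfG σ H a * rfG σ H a = 1 := by
  by_cases ha : sf σ H a a ≠ 0
  · apply Units.ext
    rw [Units.val_mul, rfG_coe σ H ha, rfM_mul_self σ H ha, Units.val_one]
  · unfold rfG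
    rw [dif_neg ha, mul_one]

theorem rfG_inv (a : ι → F) : (rfG σ H a)⁻¹ = rfG σ H a :=
  inv_eq_of_mul_eq_one_left (rfG_mul_self σ H a)

include hσ hH in
theorem isIso_rfM {a : ι → F} (ha : sf σ H a a ≠ 0) : IsIso σ H (rfM σ H a) := by
  apply isIso_of_sf
  intro u v
  obtain ⟨q, hq⟩ : ∃ q, q = sf σ H a a := ⟨_, rfl⟩
  have hqσ : σ q = q := by rw [hq]; exact sf_self_fixed σ H hσ hH a
  have hua : sf σ H u a = σ (sf σ H a u) := sf_symm1 σ H hσ hH a u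
  rw [← hq] at ha
  simp only [rfM_mulVec, sf_add_left, sf_add_right, sf_smul_left, sf_smul_right, ← hq, map_mul,
    map_div₀, map_neg, map_two, hqσ, hua]
  field_simp
  ring

include hσ hH in
theorem rfG_mem (a : ι → F) : rfG σ H a ∈ isoGrp σ H := by
  by_cases ha : sf σ H a a ≠ 0
  · rw [mem_isoGrp, rfG_coe σ H ha]
    exact isIso_rfM σ H hσ hH ha
  · unfold rfG
    rw [dif_neg ha]
    exact Subgroup.one_mem _

/-- conjugating a reflection by an isometry -/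
theorem conj_rfG {g : GL ι F} (hg : g ∈ isoGrp σ H) {a : ι → F} (ha : sf σ H a a ≠ 0) :
    g * rfG σ H a * g⁻¹ = rfG σ H ((g : Matrix ι ι F) *ᵥ a) := by
  have hq : sf σ H ((g : Matrix ι ι F) *ᵥ a) ((g : Matrix ι ι F) *ᵥ a) = sf σ H a a :=
    sf_iso σ H hg a a
  have ha' : sf σ H ((g : Matrix ι ι F) *ᵥ a) ((g : Matrix ι ι F) *ᵥ a) ≠ 0 := by
    rw [hq]; exact ha
  apply Units.ext
  rw [Units.val_mul, Units.val_mul, rfG_coe σ H ha, rfG_coe σ H ha']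
  apply mat_ext_mulVec
  intro v
  rw [← Matrix.mulVec_mulVec, ← Matrix.mulVec_mulVec, rfM_mulVec, rfM_mulVec, Matrix.mulVec_add,
    gl_mulVec_inv, Matrix.mulVec_smul, hq]
  congr 2
  have h1 : ((g⁻¹ : GL ι F) : Matrix ι ι F) * (g : Matrix ι ι F) = 1 := by
    rw [← Units.val_mul, inv_mul_cancel, Units.val_one]
  rw [sf_iso_left σ H hg h1]

end refl

section triple

variable (σ : F ≃+* F) (H : Matrix ι ι F) (hσ : ∀ a, σ (σ a) = a)
  (hH : (H.map σ)ᵀ = (1 : F) • H) (hdet : H.det ≠ 0)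

/-- the orthogonal complement of the triple `z₁, z₂, c` -/
def Perp3 (z₁ z₂ c u : ι → F) : Prop := sf σ H z₁ u = 0 ∧ sf σ H z₂ u = 0 ∧ sf σ H c u = 0

include hσ hH in
theorem decomp3 {z₁ z₂ c : ι → F} (h1 : sf σ H z₁ z₁ = 0) (h2 : sf σ H z₂ z₂ = 0)
    (hφ : sf σ H z₁ z₂ ≠ 0) (hc1 : sf σ H z₁ c = 0) (hc2 : sf σ H z₂ c = 0)
    (hγ : sf σ H c c ≠ 0) (v : ι → F) :
    ∃ (α β δ : F) (u : ι → F), v = α • z₁ + β • z₂ + δ • c + u ∧ Perp3 σ H z₁ z₂ c u := by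
  have hψ : sf σ H z₂ z₁ ≠ 0 := by
    intro h
    exact hφ (sf_eq_zero_symm σ H hσ (one_mul 1) hH h)
  have hc1' : sf σ H c z₁ = 0 := sf_eq_zero_symm σ H hσ (one_mul 1) hH hc1
  have hc2' : sf σ H c z₂ = 0 := sf_eq_zero_symm σ H hσ (one_mul 1) hH hc2
  refine ⟨sf σ H z₂ v / sf σ H z₂ z₁, sf σ H z₁ v / sf σ H z₁ z₂, sf σ H c v / sf σ H c c,
    v - (sf σ H z₂ v / sf σ H z₂ z₁) • z₁ - (sf σ H z₁ v / sf σ H z₁ z₂) • z₂ -
      (sf σ H c v / sf σ H c c) • c, by abel, ?_, ?_, ?_⟩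
  · simp only [sf_sub_right, sf_smul_right, h1, hc1, mul_zero, sub_zero,
      div_mul_cancel₀ _ hφ, sub_self]
  · simp only [sf_sub_right, sf_smul_right, h2, hc2, mul_zero, sub_zero,
      div_mul_cancel₀ _ hψ, sub_self]
  · simp only [sf_sub_right, sf_smul_right, hc1', hc2', mul_zero, sub_zero,
      div_mul_cancel₀ _ hγ, sub_self]

include hσ hH hdet in
theorem mem_span3 {z₁ z₂ c : ι → F} (h1 : sf σ H z₁ z₁ = 0) (h2 : sf σ H z₂ z₂ = 0)
    (hφ : sf σ H z₁ z₂ ≠ 0) (hc1 : sf σ H z₁ c = 0) (hc2 : sf σ H z₂ c = 0)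
    (hγ : sf σ H c c ≠ 0) {w : ι → F} (hw : ∀ u, Perp3 σ H z₁ z₂ c u → sf σ H u w = 0) :
    ∃ α β δ : F, w = α • z₁ + β • z₂ + δ • c := by
  obtain ⟨α, β, δ, u₀, hw₀, hu₀⟩ := decomp3 σ H hσ hH h1 h2 hφ hc1 hc2 hγ w
  refine ⟨α, β, δ, ?_⟩
  have hu0 : u₀ = 0 := by
    apply sf_right_nondeg σ H hdet
    intro v
    obtain ⟨α', β', δ', u', hv, hu'⟩ := decomp3 σ H hσ hH h1 h2 hφ hc1 hc2 hγ v
    rw [hv]
    simp only [sf_add_left, sf_smul_left, hu₀.1, hu₀.2.1, hu₀.2.2, mul_zero, zero_add]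
    have h3 : u₀ = w - α • z₁ - β • z₂ - δ • c := by rw [hw₀]; abel
    rw [h3]
    simp only [sf_sub_right, sf_smul_right, hw u' hu',
      sf_eq_zero_symm σ H hσ (one_mul 1) hH hu'.1, sf_eq_zero_symm σ H hσ (one_mul 1) hH hu'.2.1,
      sf_eq_zero_symm σ H hσ (one_mul 1) hH hu'.2.2]
    ring
  rw [hw₀, hu0, add_zero]

end triple

end

section

open Matrix

variable {F : Type*} [Field F] {ι : Type*} [Fintype ι] [DecidableEq ι]

variable (σ : F ≃+* F) (H : Matrix ι ι F) (hσ1 : ∀ a, σ a = a)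
  (hH : (H.map σ)ᵀ = (1 : F) • H) (hdet : H.det ≠ 0)

include hσ1 hH in
theorem sf_comm1 (u v : ι → F) : sf σ H u v = sf σ H v u := by
  have hσ : ∀ a, σ (σ a) = a := fun a => by rw [hσ1, hσ1]
  rw [sf_symm1 σ H hσ hH v u, hσ1]

include hσ1 hH hdet in
/-- the key configuration in the orthogonal case is contradictory -/
theorem half_turn_contra (h2 : (2 : F) ≠ 0) {ν : F} (hν : ∀ s : F, s * s ≠ ν)
    {z₁ z₂ c : ι → F} (h1 : sf σ H z₁ z₁ = 0) (h2' : sf σ H z₂ z₂ = 0)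
    (hφ : sf σ H z₁ z₂ ≠ 0) (hc1 : sf σ H z₁ c = 0) (hc2 : sf σ H z₂ c = 0)
    (hγ : sf σ H c c ≠ 0)
    (H₁ : Subgroup (GL ι F)) (hH₁iso : H₁ ≤ isoGrp σ H)
    (hH₁fix : ∀ k ∈ H₁, ∀ u, Perp3 σ H z₁ z₂ c u → (k : Matrix ι ι F) *ᵥ u = u)
    {m : ℕ} (hm : Odd m)
    (hH₁pow : ∀ k ∈ H₁, ∃ s : F, ((k ^ m : GL ι F) : Matrix ι ι F) = s • 1)
    (hH₁norm : ∀ t ∈ isoGrp σ H, (∀ u, Perp3 σ H z₁ z₂ c u → (t : Matrix ι ι F) *ᵥ u = u) →
      ∀ k ∈ H₁, t * k * t⁻¹ ∈ H₁)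
    (x : GL ι F) (hx : x ∈ H₁) (hxz : (x : Matrix ι ι F) *ᵥ z₁ = z₂) : False := by
  have hσ : ∀ a, σ (σ a) = a := fun a => by rw [hσ1, hσ1]
  have hsymm := sf_comm1 σ H hσ1 hH
  have hν0 : ν ≠ 0 := by
    intro h
    exact hν 0 (by rw [h, mul_zero])
  obtain ⟨φ, hφdef⟩ : ∃ φ, φ = sf σ H z₁ z₂ := ⟨_, rfl⟩
  obtain ⟨γ, hγdef⟩ : ∃ γ, γ = sf σ H c c := ⟨_, rfl⟩
  rw [← hφdef] at hφ
  rw [← hγdef] at hγ
  have hψ : sf σ H z₂ z₁ = φ := by rw [hsymm, hφdef]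
  have hc1' : sf σ H c z₁ = 0 := by rw [hsymm, hc1]
  have hc2' : sf σ H c z₂ = 0 := by rw [hsymm, hc2]
  have hz10 : z₁ ≠ 0 := by
    rintro rfl
    apply hφ
    rw [hφdef, sf_zero_left]
  obtain ⟨l, hl⟩ : ∃ l : F, l = -(ν * γ) / (2 * φ) := ⟨_, rfl⟩
  have hl0 : l ≠ 0 := by
    rw [hl]
    exact div_ne_zero (neg_ne_zero.2 (mul_ne_zero hν0 hγ)) (mul_ne_zero h2 hφ)
  have hlφ : 2 * l * φ = -(ν * γ) := by
    rw [hl]; field_simp
  obtain ⟨d, hd⟩ : ∃ d : ι → F, d = z₁ - l • z₂ := ⟨_, rfl⟩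
  have hdz1 : sf σ H d z₁ = -(l * φ) := by
    rw [hd, sf_sub_left, sf_smul_left, hσ1, h1, hψ]; ring
  have hdz2 : sf σ H d z₂ = φ := by
    rw [hd, sf_sub_left, sf_smul_left, hσ1, h2', ← hφdef]; ring
  have hdc : sf σ H d c = 0 := by
    rw [hd, sf_sub_left, sf_smul_left, hc1, hc2]; ring
  have hdd : sf σ H d d = ν * γ := by
    have : sf σ H d d = sf σ H d z₁ - l * sf σ H d z₂ := by
      rw [congrArg (sf σ H d) hd, sf_sub_right, sf_smul_right]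
    rw [this, hdz1, hdz2]
    linear_combination -hlφ
  have hdd0 : sf σ H d d ≠ 0 := by rw [hdd]; exact mul_ne_zero hν0 hγ
  -- the reflection
  obtain ⟨t, htdef⟩ : ∃ t : GL ι F, t = rfG σ H d := ⟨_, rfl⟩
  have ht : t ∈ isoGrp σ H := by rw [htdef]; exact rfG_mem σ H hσ hH d
  have htv : ∀ v, (t : Matrix ι ι F) *ᵥ v = v + (-2 / (ν * γ) * sf σ H d v) • d := by
    intro v
    rw [htdef, rfG_coe σ H hdd0, rfM_mulVec, hdd]
  have htz1 : (t : Matrix ι ι F) *ᵥ z₁ = l • z₂ := by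
    rw [htv, hdz1]
    have : -2 / (ν * γ) * -(l * φ) = -1 := by
      field_simp
      linear_combination hlφ
    rw [this, hd]
    simp only [neg_smul, one_smul]
    abel
  have htz2 : (t : Matrix ι ι F) *ᵥ z₂ = l⁻¹ • z₁ := by
    rw [htv, hdz2]
    have : -2 / (ν * γ) * φ = l⁻¹ := by
      field_simp
      linear_combination -hlφ
    rw [this, hd, smul_sub, smul_smul, inv_mul_cancel₀ hl0, one_smul]
    abel
  have htc : (t : Matrix ι ι F) *ᵥ c = c := by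
    rw [htv, hdc, mul_zero, zero_smul, add_zero]
  have htfix : ∀ u, Perp3 σ H z₁ z₂ c u → (t : Matrix ι ι F) *ᵥ u = u := by
    intro u hu
    have : sf σ H d u = 0 := by
      rw [hd, sf_sub_left, sf_smul_left, hu.1, hu.2.1]; ring
    rw [htv, this, mul_zero, zero_smul, add_zero]
  have htt : t * t = 1 := by rw [htdef]; exact rfG_mul_self σ H d
  -- the trick
  have hpowZ : ∀ k ∈ H₁, k ^ m ∈ Subgroup.center (GL ι F) := by
    intro k hk
    obtain ⟨s, hs⟩ := hH₁pow k hk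
    exact mem_center_of_smul hs
  obtain ⟨j, hj, e, z, hz, hje⟩ := odd_inv_trick_proj (Subgroup.center (GL ι F))
    (fun z hz g => (Subgroup.mem_center_iff.1 hz g)) H₁ hm hpowZ t (hH₁norm t ht htfix)
    (by rw [htt]; exact Subgroup.one_mem _) x⁻¹ (H₁.inv_mem hx)
  obtain ⟨s, hs⟩ := smul_of_mem_center hz
  have hs0 : s ≠ 0 := by
    rintro rfl
    have := gl_mulVec_inv z z₁
    rw [hs, zero_smul, Matrix.zero_mulVec] at this
    exact hz10 this.symm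
  -- `x⁻¹ t` has `z₁` as an eigenvector
  have hw : ((x⁻¹ * t : GL ι F) : Matrix ι ι F) *ᵥ z₁ = l • z₁ := by
    rw [Units.val_mul, ← Matrix.mulVec_mulVec, htz1, Matrix.mulVec_smul, ← hxz, gl_inv_mulVec]
  have hwpow : ∀ i : ℕ, (((x⁻¹ * t) ^ i : GL ι F) : Matrix ι ι F) *ᵥ z₁ = l ^ i • z₁ := by
    intro i
    induction i with
    | zero => rw [pow_zero, Units.val_one, Matrix.one_mulVec, pow_zero, one_smul]
    | succ i ih =>
      rw [pow_succ, Units.val_mul, ← Matrix.mulVec_mulVec, hw, Matrix.mulVec_smul, ih, smul_smul,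
        pow_succ, mul_comm]
  have h3 := hwpow (2 * e + 1)
  rw [hje, Units.val_mul, Units.val_mul, Units.val_mul, ← Matrix.mulVec_mulVec, hs,
    Matrix.smul_mulVec, Matrix.one_mulVec, Matrix.mulVec_smul, ← Matrix.mulVec_mulVec,
    ← Matrix.mulVec_mulVec] at h3
  obtain ⟨v, hvdef⟩ : ∃ v, v = ((j⁻¹ : GL ι F) : Matrix ι ι F) *ᵥ z₁ := ⟨_, rfl⟩
  rw [← hvdef] at h3
  obtain ⟨κ, hκ⟩ : ∃ κ : F, κ = s⁻¹ * l ^ (2 * e + 1) := ⟨_, rfl⟩
  have h4 : (t : Matrix ι ι F) *ᵥ v = κ • v := by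
    have h5 := congrArg (fun w => s⁻¹ • (((j⁻¹ : GL ι F) : Matrix ι ι F) *ᵥ w)) h3
    simp only [Matrix.mulVec_smul, gl_inv_mulVec, smul_smul, inv_mul_cancel₀ hs0, one_smul] at h5
    rw [← hvdef, ← hκ] at h5
    exact h5
  have hjinv : j⁻¹ ∈ H₁ := H₁.inv_mem hj
  have hv0 : v ≠ 0 := by
    rw [hvdef]
    exact gl_mulVec_ne_zero _ hz10
  have hvv : sf σ H v v = 0 := by
    rw [hvdef, sf_iso σ H (hH₁iso hjinv), h1]
  obtain ⟨α, β, δ, hv⟩ : ∃ α β δ : F, v = α • z₁ + β • z₂ + δ • c := by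
    apply mem_span3 σ H hσ hH hdet h1 h2' (by rw [← hφdef]; exact hφ) hc1 hc2
      (by rw [← hγdef]; exact hγ)
    intro u hu
    have h5 : sf σ H u v = sf σ H (((j⁻¹ : GL ι F) : Matrix ι ι F) *ᵥ u) v := by
      rw [hH₁fix _ hjinv u hu]
    rw [h5, hvdef, sf_iso σ H (hH₁iso hjinv), hsymm, hu.1]
  have htv' : (t : Matrix ι ι F) *ᵥ v = (β * l⁻¹) • z₁ + (α * l) • z₂ + δ • c := by
    rw [hv, Matrix.mulVec_add, Matrix.mulVec_add, Matrix.mulVec_smul, Matrix.mulVec_smul,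
      Matrix.mulVec_smul, htz1, htz2, htc, smul_smul, smul_smul]
    abel
  rw [htv', hv] at h4
  have e1 := congrArg (fun w => sf σ H z₂ w) h4
  have e2 := congrArg (fun w => sf σ H z₁ w) h4
  have e3 := congrArg (fun w => sf σ H c w) h4
  simp only [sf_add_right, sf_smul_right, h1, h2', hψ, ← hφdef, hc1, hc2, hc1', hc2', ← hγdef,
    mul_zero, add_zero, zero_add] at e1 e2 e3
  have e1' : β * l⁻¹ = κ * α := by
    have : (β * l⁻¹ - κ * α) * φ = 0 := by linear_combination e1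
    rcases mul_eq_zero.1 this with h | h
    · exact sub_eq_zero.1 h
    · exact absurd h hφ
  have e2' : α * l = κ * β := by
    have : (α * l - κ * β) * φ = 0 := by linear_combination e2
    rcases mul_eq_zero.1 this with h | h
    · exact sub_eq_zero.1 h
    · exact absurd h hφ
  have e3' : δ = κ * δ := by
    have : (δ - κ * δ) * γ = 0 := by linear_combination e3
    rcases mul_eq_zero.1 this with h | h
    · exact sub_eq_zero.1 h
    · exact absurd h hγ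
  have hQ : 2 * α * β * φ + δ * δ * γ = 0 := by
    have := hvv
    rw [hv] at this
    simp only [sf_add_left, sf_add_right, sf_smul_left, sf_smul_right, hσ1, h1, h2', hψ, ← hφdef,
      hc1, hc2, hc1', hc2', ← hγdef] at this
    linear_combination this
  have hβ : β = κ * α * l := by
    have := congrArg (fun w => w * l) e1'
    simp only [mul_assoc, inv_mul_cancel₀ hl0, mul_one] at this
    rw [this]; ring
  by_cases hδ : δ = 0
  · rw [hδ] at hQ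
    have hαβ : α * β = 0 := by
      have : (2 * φ) * (α * β) = 0 := by linear_combination hQ
      rcases mul_eq_zero.1 this with h | h
      · exact absurd h (mul_ne_zero h2 hφ)
      · exact h
    have hα : α = 0 := by
      rcases mul_eq_zero.1 hαβ with h | h
      · exact h
      · rw [h, mul_zero] at e2'
        rcases mul_eq_zero.1 e2' with h' | h'
        · exact h'
        · exact absurd h' hl0
    apply hv0
    rw [hv, hδ, hα, hβ, hα]
    simp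
  · have hκ1 : κ = 1 := by
      have : δ * (1 - κ) = 0 := by linear_combination e3'
      rcases mul_eq_zero.1 this with h | h
      · exact absurd h hδ
      · linear_combination -h
    rw [hκ1, one_mul] at hβ
    rw [hβ] at hQ
    have h6 : γ * (δ * δ - ν * (α * α)) = 0 := by
      linear_combination hQ - α * α * hlφ
    have h7 : δ * δ = ν * (α * α) := by
      rcases mul_eq_zero.1 h6 with h | h
      · exact absurd h hγ
      · exact sub_eq_zero.1 h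
    by_cases hα : α = 0
    · rw [hα, mul_zero, mul_zero] at h7
      exact hδ (mul_self_eq_zero.1 h7)
    · apply hν (δ / α)
      field_simp
      linear_combination h7

end

section

open Matrix

variable {F : Type*} [Field F] {ι : Type*} [Fintype ι] [DecidableEq ι]

variable (σ : F ≃+* F) (H : Matrix ι ι F) (hσ1 : ∀ a, σ a = a)
  (hH : (H.map σ)ᵀ = (1 : F) • H) (hdet : H.det ≠ 0)

/-- the subgroup of `𝒩` fixing the complement of `z₁, z₂, c` pointwise -/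
def fixPerp3 (𝒩 : Subgroup (GL ι F)) (z₁ z₂ c : ι → F) : Subgroup (GL ι F) where
  carrier := {k | k ∈ 𝒩 ∧ ∀ u, Perp3 σ H z₁ z₂ c u → (k : Matrix ι ι F) *ᵥ u = u}
  one_mem' := ⟨𝒩.one_mem, fun u _ => by rw [Units.val_one, Matrix.one_mulVec]⟩
  mul_mem' := fun {a b} ha hb => ⟨𝒩.mul_mem ha.1 hb.1, fun u hu => by
    rw [Units.val_mul, ← Matrix.mulVec_mulVec, hb.2 u hu, ha.2 u hu]⟩
  inv_mem' := fun {a} ha => ⟨𝒩.inv_mem ha.1, fun u hu => by
    have := gl_inv_mulVec a u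
    rw [ha.2 u hu] at this
    exact this⟩

include hσ1 hH hdet in
/-- double orthogonal complement of a line -/
theorem mem_line_of_perp {z₁ z₀ : ι → F} (hz1 : z₁ ≠ 0)
    (h : ∀ u, sf σ H z₁ u = 0 → sf σ H z₀ u = 0) : ∃ μ : F, z₀ = μ • z₁ := by
  obtain ⟨v₀, hv₀⟩ := exists_sf_ne_zero σ H hdet hz1
  obtain ⟨v₁, hv₁⟩ : ∃ v₁, v₁ = (sf σ H z₁ v₀)⁻¹ • v₀ := ⟨_, rfl⟩
  have h1 : sf σ H z₁ v₁ = 1 := by
    rw [hv₁, sf_smul_right, inv_mul_cancel₀ hv₀]
  refine ⟨sf σ H z₀ v₁, ?_⟩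
  have h3 : z₀ - sf σ H z₀ v₁ • z₁ = 0 := by
    apply sf_left_nondeg σ H hdet
    intro v
    have h4 : sf σ H z₁ (v - sf σ H z₁ v • v₁) = 0 := by
      rw [sf_sub_right, sf_smul_right, h1, mul_one, sub_self]
    have h5 := h _ h4
    rw [sf_sub_right, sf_smul_right] at h5
    rw [sf_sub_left, sf_smul_left, hσ1]
    linear_combination h5
  exact sub_eq_zero.1 h3

include hσ1 hH hdet in
theorem lemma_A (h2 : (2 : F) ≠ 0) (hn : 3 ≤ Fintype.card ι) {z₁ z₀ : ι → F} (hz1 : z₁ ≠ 0)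
    (hz1' : sf σ H z₁ z₁ = 0) (hz0 : ¬ ∃ μ : F, z₀ = μ • z₁) :
    ∃ a, sf σ H z₁ a = 0 ∧ sf σ H z₀ a ≠ 0 ∧ sf σ H a a ≠ 0 := by
  have hσ : ∀ a, σ (σ a) = a := fun a => by rw [hσ1, hσ1]
  have hsymm := sf_comm1 σ H hσ1 hH
  obtain ⟨a₁, ha₁, ha₁'⟩ : ∃ a₁, sf σ H z₁ a₁ = 0 ∧ sf σ H z₀ a₁ ≠ 0 := by
    by_contra hcon
    push Not at hcon
    exact hz0 (mem_line_of_perp σ H hσ1 hH hdet hz1 hcon)
  obtain ⟨z', hz', hzz'⟩ := exists_hyp_partner σ H hσ hH hdet h2 hz1 hz1'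
  obtain ⟨a₂, ha₂, ha₂'⟩ := exists_aniso_perp σ H hσ hH hdet h2 hn hz1' hz' hzz'
  by_cases hq1 : sf σ H a₁ a₁ = 0
  swap
  · exact ⟨a₁, ha₁, ha₁', hq1⟩
  by_cases hf2 : sf σ H z₀ a₂ = 0
  swap
  · exact ⟨a₂, ha₂.1, hf2, ha₂'⟩
  by_cases hq : sf σ H a₂ a₂ + 2 * sf σ H a₂ a₁ = 0
  · refine ⟨a₂ - a₁, ?_, ?_, ?_⟩
    · rw [sf_sub_right, ha₂.1, ha₁, sub_zero]
    · rw [sf_sub_right, hf2, zero_sub]
      exact neg_ne_zero.2 ha₁'
    · rw [sf_sub_left, sf_sub_right, sf_sub_right, hq1, hsymm a₁ a₂]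
      intro h
      apply ha₂'
      have : (2 : F) * sf σ H a₂ a₂ = 0 := by linear_combination h + hq
      rcases mul_eq_zero.1 this with h' | h'
      · exact absurd h' h2
      · exact h'
  · refine ⟨a₂ + a₁, ?_, ?_, ?_⟩
    · rw [sf_add_right, ha₂.1, ha₁, add_zero]
    · rw [sf_add_right, hf2, zero_add]
      exact ha₁'
    · rw [sf_add_left, sf_add_right, sf_add_right, hq1, hsymm a₁ a₂]
      intro h
      apply hq
      linear_combination h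

include hσ1 hH hdet in
/-- odd-order normal subgroups of the orthogonal group are scalar -/
theorem core_I (h2 : (2 : F) ≠ 0) (hn : 3 ≤ Fintype.card ι)
    (hiso : ∃ z : ι → F, z ≠ 0 ∧ sf σ H z z = 0) {ν : F} (hν : ∀ s : F, s * s ≠ ν)
    (𝒩 : Subgroup (GL ι F)) (h𝒩 : 𝒩 ≤ isoGrp σ H)
    (hnormal : ∀ k ∈ isoGrp σ H, ∀ x ∈ 𝒩, k * x * k⁻¹ ∈ 𝒩) {m : ℕ} (hm : Odd m)
    (hpow : ∀ x ∈ 𝒩, ∃ s : F, ((x ^ m : GL ι F) : Matrix ι ι F) = s • 1) :
    ∀ y ∈ 𝒩, ∃ s : F, (y : Matrix ι ι F) = s • 1 := by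
  intro y hy
  by_contra hns
  have hσ : ∀ a, σ (σ a) = a := fun a => by rw [hσ1, hσ1]
  have hsymm := sf_comm1 σ H hσ1 hH
  have hyiso : y ∈ isoGrp σ H := h𝒩 hy
  -- an isotropic vector moved by `y`
  obtain ⟨z₀, hz₀, hz₀'⟩ : ∃ z₀, sf σ H z₀ z₀ = 0 ∧ ∀ μ : F, (y : Matrix ι ι F) *ᵥ z₀ ≠ μ • z₀ := by
    by_contra hcon
    push Not at hcon
    obtain ⟨-, μ, hμ⟩ := semi_scalar σ H hσ hH hdet h2 hn hiso y 1 (by
      intro v hv
      rw [semi_one]
      exact hcon v hv)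
    exact hns ⟨μ, hμ⟩
  have hz₀0 : z₀ ≠ 0 := by
    rintro rfl
    apply hz₀' 0
    rw [Matrix.mulVec_zero, smul_zero]
  obtain ⟨z₁, hz₁def⟩ : ∃ z₁, z₁ = (y : Matrix ι ι F) *ᵥ z₀ := ⟨_, rfl⟩
  have hz₁0 : z₁ ≠ 0 := by rw [hz₁def]; exact gl_mulVec_ne_zero y hz₀0
  have hz₁ : sf σ H z₁ z₁ = 0 := by rw [hz₁def, sf_iso σ H hyiso, hz₀]
  have hnot : ¬ ∃ μ : F, z₀ = μ • z₁ := by
    rintro ⟨μ, hμ⟩
    have hμ0 : μ ≠ 0 := by
      rintro rfl
      rw [zero_smul] at hμ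
      exact hz₀0 hμ
    apply hz₀' μ⁻¹
    rw [← hz₁def, hμ, smul_smul, inv_mul_cancel₀ hμ0, one_smul]
  obtain ⟨a, ha1, ha0, haa⟩ := lemma_A σ H hσ1 hH hdet h2 hn hz₁0 hz₁ hnot
  obtain ⟨α, hα⟩ : ∃ α, α = sf σ H a a := ⟨_, rfl⟩
  rw [← hα] at haa
  obtain ⟨b, hbdef⟩ : ∃ b, b = (y : Matrix ι ι F) *ᵥ a := ⟨_, rfl⟩
  have hbb : sf σ H b b = α := by rw [hbdef, sf_iso σ H hyiso, hα]
  obtain ⟨r, hr⟩ : ∃ r, r = sf σ H b z₁ := ⟨_, rfl⟩
  have hr0 : r ≠ 0 := by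
    rw [hr, hbdef, hz₁def, sf_iso σ H hyiso, hsymm]
    exact ha0
  have haa' : sf σ H a a ≠ 0 := by rw [← hα]; exact haa
  have hbb' : sf σ H b b ≠ 0 := by rw [hbb]; exact haa
  -- the element `x`
  obtain ⟨x, hxdef⟩ : ∃ x : GL ι F, x = y * rfG σ H a * y⁻¹ * (rfG σ H a)⁻¹ := ⟨_, rfl⟩
  have hx𝒩 : x ∈ 𝒩 := by
    have h1 : rfG σ H a * y⁻¹ * (rfG σ H a)⁻¹ ∈ 𝒩 :=
      hnormal _ (rfG_mem σ H hσ hH a) _ (𝒩.inv_mem hy)
    have h3 : x = y * (rfG σ H a * y⁻¹ * (rfG σ H a)⁻¹) := by rw [hxdef]; group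
    rw [h3]
    exact 𝒩.mul_mem hy h1
  have hxv : ∀ v, (x : Matrix ι ι F) *ᵥ v = rfM σ H b *ᵥ (rfM σ H a *ᵥ v) := by
    intro v
    rw [hxdef, conj_rfG σ H hyiso haa', rfG_inv, Units.val_mul, ← hbdef, rfG_coe σ H hbb',
      rfG_coe σ H haa', Matrix.mulVec_mulVec]
  have haz1 : sf σ H a z₁ = 0 := by rw [hsymm, ha1]
  obtain ⟨z₂, hz₂def⟩ : ∃ z₂, z₂ = (x : Matrix ι ι F) *ᵥ z₁ := ⟨_, rfl⟩
  have hz₂ : z₂ = z₁ + (-2 / α * r) • b := by
    rw [hz₂def, hxv, rfM_mulVec σ H a, haz1, mul_zero, zero_smul, add_zero, rfM_mulVec, hbb, ← hr]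
  have hxiso : x ∈ isoGrp σ H := h𝒩 hx𝒩
  have hz₂iso : sf σ H z₂ z₂ = 0 := by rw [hz₂def, sf_iso σ H hxiso, hz₁]
  have hz1b : sf σ H z₁ b = r := by rw [hsymm, hr]
  obtain ⟨φ, hφdef⟩ : ∃ φ, φ = sf σ H z₁ z₂ := ⟨_, rfl⟩
  have hφ : φ = -2 / α * r * r := by
    rw [hφdef, hz₂, sf_add_right, sf_smul_right, hz₁, hz1b]; ring
  have hφ0 : φ ≠ 0 := by
    rw [hφ]
    exact mul_ne_zero (mul_ne_zero (div_ne_zero (neg_ne_zero.2 h2) haa) hr0) hr0
  have hφ0' : sf σ H z₁ z₂ ≠ 0 := by rw [← hφdef]; exact hφ0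
  have hz2z1 : sf σ H z₂ z₁ = φ := by rw [hsymm, hφdef]
  -- the third vector
  obtain ⟨c, hc⟩ : ∃ c, c = a - (sf σ H z₂ a / φ) • z₁ := ⟨_, rfl⟩
  have hc1 : sf σ H z₁ c = 0 := by
    rw [hc, sf_sub_right, sf_smul_right, ha1, hz₁]; ring
  have hc2 : sf σ H z₂ c = 0 := by
    rw [hc, sf_sub_right, sf_smul_right, hz2z1, div_mul_cancel₀ _ hφ0, sub_self]
  have hcc : sf σ H c c = α := by
    rw [hc]
    simp only [sf_sub_left, sf_sub_right, sf_smul_left, sf_smul_right, hσ1, hz₁, ha1, haz1, ← hα]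
    ring
  have hcc' : sf σ H c c ≠ 0 := by rw [hcc]; exact haa
  have hperp : ∀ u, Perp3 σ H z₁ z₂ c u → sf σ H a u = 0 ∧ sf σ H b u = 0 := by
    intro u hu
    have h3 := hu.2.2
    rw [hc, sf_sub_left, sf_smul_left, hu.1, mul_zero, sub_zero] at h3
    refine ⟨h3, ?_⟩
    have h4 := hu.2.1
    rw [hz₂, sf_add_left, sf_smul_left, hσ1, hu.1, zero_add] at h4
    rcases mul_eq_zero.1 h4 with h | h
    · exact absurd h (mul_ne_zero (div_ne_zero (neg_ne_zero.2 h2) haa) hr0)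
    · exact h
  -- the subgroup
  obtain ⟨H₁, hH₁def⟩ : ∃ H₁, H₁ = fixPerp3 σ H 𝒩 z₁ z₂ c := ⟨_, rfl⟩
  have hH₁iso : H₁ ≤ isoGrp σ H := by
    rw [hH₁def]
    exact fun k hk => h𝒩 hk.1
  have hH₁fix : ∀ k ∈ H₁, ∀ u, Perp3 σ H z₁ z₂ c u → (k : Matrix ι ι F) *ᵥ u = u := by
    rw [hH₁def]
    exact fun k hk => hk.2
  have hH₁pow : ∀ k ∈ H₁, ∃ s : F, ((k ^ m : GL ι F) : Matrix ι ι F) = s • 1 := by
    rw [hH₁def]
    exact fun k hk => hpow k hk.1
  have hH₁norm : ∀ t ∈ isoGrp σ H,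
      (∀ u, Perp3 σ H z₁ z₂ c u → (t : Matrix ι ι F) *ᵥ u = u) →
      ∀ k ∈ H₁, t * k * t⁻¹ ∈ H₁ := by
    rw [hH₁def]
    intro t ht htfix k hk
    refine ⟨hnormal t ht k hk.1, ?_⟩
    intro u hu
    have h3 : ((t⁻¹ : GL ι F) : Matrix ι ι F) *ᵥ u = u := by
      have := gl_inv_mulVec t u
      rw [htfix u hu] at this
      exact this
    rw [Units.val_mul, Units.val_mul, ← Matrix.mulVec_mulVec, ← Matrix.mulVec_mulVec, h3,
      hk.2 u hu, htfix u hu]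
  have hxH₁ : x ∈ H₁ := by
    rw [hH₁def]
    refine ⟨hx𝒩, ?_⟩
    intro u hu
    obtain ⟨hau, hbu⟩ := hperp u hu
    rw [hxv, rfM_mulVec σ H a, hau, mul_zero, zero_smul, add_zero, rfM_mulVec, hbu, mul_zero,
      zero_smul, add_zero]
  exact half_turn_contra σ H hσ1 hH hdet h2 hν hz₁ hz₂iso hφ0' hc1 hc2 hcc' H₁ hH₁iso hH₁fix hm
    hH₁pow hH₁norm x hxH₁ hz₂def.symm

end

section

open Matrix

variable {F : Type*} [Field F] {ι : Type*} [Fintype ι] [DecidableEq ι]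

theorem vmap_single (τ : F ≃+* F) (i : ι) : vmap τ (Pi.single i (1 : F)) = Pi.single i 1 := by
  ext k
  by_cases hk : k = i
  · subst hk; simp [vmap]
  · simp [vmap, Pi.single_eq_of_ne hk]

/-- a semilinear map preserving every line is a scalar (and linear) -/
theorem lemma_L (hn : 2 ≤ Fintype.card ι) (g : GL ι F) (τ : F ≃+* F)
    (hT : ∀ v, ∃ μ : F, semi g τ v = μ • v) :
    (∀ s, τ s = s) ∧ ∃ μ : F, (g : Matrix ι ι F) = μ • 1 := by
  choose μ hμ using fun i : ι => hT (Pi.single i 1)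
  have hcard : 1 < Fintype.card ι := by omega
  have key : ∀ i j : ι, i ≠ j → ∀ s : F, τ s * μ j = μ i * s := by
    intro i j hij s
    obtain ⟨μ', hμ'⟩ := hT (Pi.single i 1 + s • Pi.single j 1)
    rw [semi_add, semi_smul, hμ i, hμ j] at hμ'
    have e1 := congrFun hμ' i
    have e2 := congrFun hμ' j
    simp only [Pi.add_apply, Pi.smul_apply, Pi.single_eq_same, Pi.single_eq_of_ne hij,
      Pi.single_eq_of_ne (Ne.symm hij), smul_eq_mul, mul_one, mul_zero, add_zero, zero_add] at e1 e2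
    rw [e2, e1]
  have hμne : ∀ i, μ i ≠ 0 := by
    intro i h
    have h1 := hμ i
    rw [h, zero_smul] at h1
    exact semi_ne_zero g τ (by
      intro h0
      have := congrFun h0 i
      simp at this) h1
  have hμeq : ∀ i j : ι, i ≠ j → μ j = μ i := by
    intro i j hij
    have := key i j hij 1
    rw [map_one, one_mul, mul_one] at this
    exact this
  obtain ⟨i₀, j₀, hij₀⟩ := Fintype.one_lt_card_iff.1 hcard
  refine ⟨?_, μ i₀, ?_⟩
  · intro s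
    have h1 := key i₀ j₀ hij₀ s
    rw [hμeq i₀ j₀ hij₀] at h1
    have : (τ s - s) * μ i₀ = 0 := by linear_combination h1
    rcases mul_eq_zero.1 this with h | h
    · exact sub_eq_zero.1 h
    · exact absurd h (hμne i₀)
  · apply Matrix.ext_of_mulVec_single
    intro i
    have h1 := hμ i
    unfold semi at h1
    rw [vmap_single] at h1
    rw [h1, Matrix.smul_mulVec, Matrix.one_mulVec]
    by_cases hi : i = i₀
    · rw [hi]
    · rw [hμeq i₀ i (Ne.symm hi)]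

theorem semi_mulVec (g : GL ι F) (τ : F ≃+* F) (x : Matrix ι ι F) (v : ι → F) :
    semi g τ (x *ᵥ v) = ((g : Matrix ι ι F) * x.map τ) *ᵥ vmap τ v := by
  unfold semi
  rw [vmap_mulVec, Matrix.mulVec_mulVec]

/-- if `g τ(x) = c x g` then `S ∘ x = c x ∘ S` for `S = semi g τ` -/
theorem semi_comm {g : GL ι F} {τ : F ≃+* F} {x : Matrix ι ι F} {c : F}
    (h : (g : Matrix ι ι F) * x.map τ = c • (x * (g : Matrix ι ι F))) (v : ι → F) :
    semi g τ (x *ᵥ v) = c • (x *ᵥ semi g τ v) := by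
  rw [semi_mulVec, h, Matrix.smul_mulVec, ← Matrix.mulVec_mulVec]
  rfl

section tv

variable (σ : F ≃+* F) (H : Matrix ι ι F) (hdet : H.det ≠ 0)

include hdet in
/-- a semilinear map normalising (projectively) the transvection along `a` preserves the line
of `a` -/
theorem T_tv {a : ι → F} (ha : sf σ H a a = 0) {c₀ : F} (hc₀ : c₀ ≠ 0) (g : GL ι F)
    (τ : F ≃+* F) {c : F}
    (h : (g : Matrix ι ι F) * (tvM σ H a c₀).map τ = c • (tvM σ H a c₀ * (g : Matrix ι ι F))) :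
    ∃ μ : F, semi g τ a = μ • a := by
  by_cases ha0 : a = 0
  · refine ⟨0, ?_⟩
    rw [ha0, zero_smul]
    unfold semi
    rw [vmap_zero, Matrix.mulVec_zero]
  have hS := semi_comm h
  obtain ⟨w, hw⟩ : ∃ w, w = semi g τ a := ⟨_, rfl⟩
  have hw0 : w ≠ 0 := by rw [hw]; exact semi_ne_zero g τ ha0
  have hxa : tvM σ H a c₀ *ᵥ a = a := by
    rw [tvM_mulVec, ha, mul_zero, zero_smul, add_zero]
  have h1 := hS a
  rw [hxa, ← hw, tvM_mulVec] at h1
  -- c = 1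
  have hc1 : c = 1 := by
    have h2 := congrArg (fun u => sf σ H a u) h1
    simp only [sf_smul_right, sf_add_right, ha, mul_zero, add_zero] at h2
    have h3 : (1 - c) * sf σ H a w = 0 := by linear_combination h2
    rcases mul_eq_zero.1 h3 with h' | h'
    · linear_combination -h'
    · rw [h', mul_zero, zero_smul, add_zero] at h1
      have h4 : (1 - c) • w = 0 := by
        rw [sub_smul, one_smul, ← h1, sub_self]
      rcases smul_eq_zero.1 h4 with h5 | h5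
      · linear_combination -h5
      · exact absurd h5 hw0
  obtain ⟨v, hv⟩ := exists_sf_ne_zero σ H hdet ha0
  have h2 := hS v
  rw [hc1, one_smul, tvM_mulVec, tvM_mulVec, semi_add, semi_smul, ← hw] at h2
  have h3 : τ (c₀ * sf σ H a v) • w = (c₀ * sf σ H a (semi g τ v)) • a := add_left_cancel h2
  have hne : τ (c₀ * sf σ H a v) ≠ 0 :=
    (map_ne_zero_iff τ τ.injective).2 (mul_ne_zero hc₀ hv)
  refine ⟨(τ (c₀ * sf σ H a v))⁻¹ * (c₀ * sf σ H a (semi g τ v)), ?_⟩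
  rw [← hw, ← smul_smul, ← h3, smul_smul, inv_mul_cancel₀ hne, one_smul]

end tv

theorem det_tvM' (σ : F ≃+* F) (H : Matrix ι ι F) (a : ι → F) (c : F) :
    (tvM σ H a c).det = 1 + c * sf σ H a a := by
  unfold tvM
  have h1 : c • vecMulVec a (vmap σ a ᵥ* H) = vecMulVec a (c • (vmap σ a ᵥ* H)) := by
    rw [Matrix.vecMulVec_smul]
  rw [h1, Matrix.vecMulVec_eq Unit, Matrix.det_one_add_replicateCol_mul_replicateRow,
    smul_dotProduct, ← Matrix.dotProduct_mulVec]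
  have : vmap σ a ⬝ᵥ H *ᵥ a = sf σ H a a := rfl
  rw [this, smul_eq_mul]

section herm

variable (σ : F ≃+* F) (H : Matrix ι ι F) (hσ : ∀ a, σ (σ a) = a)
  (hH : (H.map σ)ᵀ = (1 : F) • H) (hdet : H.det ≠ 0)

include hσ hH hdet in
theorem T_cent_herm (h2 : (2 : F) ≠ 0) (hn : 3 ≤ Fintype.card ι) {d₀ : F} (hd₀ : σ d₀ ≠ d₀)
    (hiso : ∃ z : ι → F, z ≠ 0 ∧ sf σ H z z = 0) (g : GL ι F) (τ : F ≃+* F)
    (hcent : ∀ x ∈ isoGrp σ H, (x : Matrix ι ι F).det = 1 →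
      ∃ c : F, (g : Matrix ι ι F) * (x : Matrix ι ι F).map τ =
        c • ((x : Matrix ι ι F) * (g : Matrix ι ι F))) :
    (∀ s, τ s = s) ∧ ∃ μ : F, (g : Matrix ι ι F) = μ • 1 := by
  apply semi_scalar σ H hσ hH hdet h2 hn hiso g τ
  intro a ha
  obtain ⟨d, hd⟩ : ∃ d, d = d₀ - σ d₀ := ⟨_, rfl⟩
  have hdσ : σ d = -(1 : F) * d := by rw [hd, map_sub, hσ]; ring
  have hd0 : d ≠ 0 := by
    rw [hd]
    exact sub_ne_zero.2 (Ne.symm hd₀)
  have hmem : tvG σ H a d ∈ isoGrp σ H := tvG_mem σ H hσ (one_mul 1) hH ha hdσ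
  obtain ⟨c, hc⟩ := hcent _ hmem (by rw [tvG_coe σ H ha, det_tvM σ H ha])
  rw [tvG_coe σ H ha] at hc
  exact T_tv σ H hdet ha hd0 g τ hc

end herm

section alt

variable (σ : F ≃+* F) (H : Matrix ι ι F) (hσ1 : ∀ a, σ a = a)
  (hH : (H.map σ)ᵀ = (-1 : F) • H) (hdet : H.det ≠ 0)

include hσ1 hH in
theorem alt_self (h2 : (2 : F) ≠ 0) (v : ι → F) : sf σ H v v = 0 := by
  have hσ : ∀ a, σ (σ a) = a := fun a => by rw [hσ1, hσ1]
  have h1 := sf_symm σ H hσ hH v v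
  rw [hσ1] at h1
  have : (2 : F) * sf σ H v v = 0 := by linear_combination h1
  rcases mul_eq_zero.1 this with h | h
  · exact absurd h h2
  · exact h

include hσ1 hH in
theorem alt_symm (u v : ι → F) : sf σ H u v = -sf σ H v u := by
  have hσ : ∀ a, σ (σ a) = a := fun a => by rw [hσ1, hσ1]
  have h1 := sf_symm σ H hσ hH u v
  rw [hσ1] at h1
  linear_combination h1

include hσ1 hH hdet in
theorem T_cent_alt (h2 : (2 : F) ≠ 0) (hn : 2 ≤ Fintype.card ι) (g : GL ι F) (τ : F ≃+* F)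
    (hcent : ∀ x ∈ isoGrp σ H, (x : Matrix ι ι F).det = 1 →
      ∃ c : F, (g : Matrix ι ι F) * (x : Matrix ι ι F).map τ =
        c • ((x : Matrix ι ι F) * (g : Matrix ι ι F))) :
    (∀ s, τ s = s) ∧ ∃ μ : F, (g : Matrix ι ι F) = μ • 1 := by
  have hσ : ∀ a, σ (σ a) = a := fun a => by rw [hσ1, hσ1]
  apply lemma_L hn g τ
  intro a
  have ha := alt_self σ H hσ1 hH h2 a
  have h1σ : σ (1 : F) = -(-1 : F) * 1 := by rw [map_one]; ring
  have hmem : tvG σ H a 1 ∈ isoGrp σ H :=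
    tvG_mem σ H hσ (by ring : (-1 : F) * (-1) = 1) hH ha h1σ
  obtain ⟨c, hc⟩ := hcent _ hmem (by rw [tvG_coe σ H ha, det_tvM σ H ha])
  rw [tvG_coe σ H ha] at hc
  exact T_tv σ H hdet ha one_ne_zero g τ hc

include hσ1 hH hdet in
theorem alt_T2b (h2 : (2 : F) ≠ 0) (y : GL ι F) (hyiso : y ∈ isoGrp σ H)
    (hy : ∀ a, sf σ H a a = 0 → sf σ H a ((y : Matrix ι ι F) *ᵥ a) = 0) :
    ∃ s : F, ((y * y : GL ι F) : Matrix ι ι F) = s • 1 := by
  refine ⟨1, ?_⟩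
  rw [one_smul, Units.val_mul]
  have hall : ∀ a, sf σ H a ((y : Matrix ι ι F) *ᵥ a) = 0 :=
    fun a => hy a (alt_self σ H hσ1 hH h2 a)
  have hpol : ∀ a b, sf σ H a ((y : Matrix ι ι F) *ᵥ b) + sf σ H b ((y : Matrix ι ι F) *ᵥ a) = 0 := by
    intro a b
    have h1 := hall (a + b)
    rw [Matrix.mulVec_add, sf_add_left, sf_add_right, sf_add_right, hall a, hall b] at h1
    linear_combination h1
  have hinv1 : ((y⁻¹ : GL ι F) : Matrix ι ι F) * (y : Matrix ι ι F) = 1 := by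
    rw [← Units.val_mul, inv_mul_cancel, Units.val_one]
  have hkey : ∀ b, (y : Matrix ι ι F) *ᵥ b = ((y⁻¹ : GL ι F) : Matrix ι ι F) *ᵥ b := by
    intro b
    have h3 : (y : Matrix ι ι F) *ᵥ b - ((y⁻¹ : GL ι F) : Matrix ι ι F) *ᵥ b = 0 := by
      apply sf_right_nondeg σ H hdet
      intro a
      rw [sf_sub_right]
      have h4 := hpol a b
      rw [alt_symm σ H hσ1 hH b, sf_iso_left σ H hyiso hinv1] at h4
      linear_combination h4
    exact sub_eq_zero.1 h3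
  apply mat_ext_mulVec
  intro v
  rw [← Matrix.mulVec_mulVec, hkey ((y : Matrix ι ι F) *ᵥ v), gl_inv_mulVec, Matrix.one_mulVec]

include hσ1 hH hdet in
theorem core_alt (h2 : (2 : F) ≠ 0) (hn : 3 ≤ Fintype.card ι)
    (𝒩 : Subgroup (GL ι F)) (h𝒩 : 𝒩 ≤ isoGrp σ H)
    (hnormal : ∀ k ∈ isoGrp σ H, ∀ x ∈ 𝒩, k * x * k⁻¹ ∈ 𝒩) {m : ℕ} (hm : Odd m)
    (hpow : ∀ x ∈ 𝒩, ∃ s : F, ((x ^ m : GL ι F) : Matrix ι ι F) = s • 1) :
    ∀ y ∈ 𝒩, ∃ s : F, (y : Matrix ι ι F) = s • 1 := by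
  have hσ : ∀ a, σ (σ a) = a := fun a => by rw [hσ1, hσ1]
  exact core_II σ H hσ (by ring : (-1 : F) * (-1) = 1) (by rw [hσ1]) hH hdet h2 hn one_ne_zero
    (by rw [map_one]; ring)
    (fun y hyiso hy => alt_T2b σ H hσ1 hH hdet h2 y hyiso hy) 𝒩 h𝒩 hnormal hm hpow

end alt

section herm2

variable (σ : F ≃+* F) (H : Matrix ι ι F) (hσ : ∀ a, σ (σ a) = a)
  (hH : (H.map σ)ᵀ = (1 : F) • H) (hdet : H.det ≠ 0)

include hσ hH hdet in
theorem core_herm (h2 : (2 : F) ≠ 0) (hn : 3 ≤ Fintype.card ι) {d₀ : F} (hd₀ : σ d₀ ≠ d₀)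
    (hiso : ∃ z : ι → F, z ≠ 0 ∧ sf σ H z z = 0)
    (𝒩 : Subgroup (GL ι F)) (h𝒩 : 𝒩 ≤ isoGrp σ H)
    (hnormal : ∀ k ∈ isoGrp σ H, ∀ x ∈ 𝒩, k * x * k⁻¹ ∈ 𝒩) {m : ℕ} (hm : Odd m)
    (hpow : ∀ x ∈ 𝒩, ∃ s : F, ((x ^ m : GL ι F) : Matrix ι ι F) = s • 1) :
    ∀ y ∈ 𝒩, ∃ s : F, (y : Matrix ι ι F) = s • 1 := by
  have hd0 : d₀ - σ d₀ ≠ 0 := sub_ne_zero.2 (Ne.symm hd₀)
  exact core_II σ H hσ (one_mul 1) (map_one σ) hH hdet h2 hn hd0
    (by rw [map_sub, hσ]; ring)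
    (fun y _ hy => herm_T2b σ H hσ hH hdet h2 hn hd₀ hiso y hy) 𝒩 h𝒩 hnormal hm hpow

end herm2

end

section

open Matrix

variable {F : Type*} [Field F] {ι : Type*} [Fintype ι] [DecidableEq ι]

variable (σ : F ≃+* F) (H : Matrix ι ι F) (hσ1 : ∀ a, σ a = a)
  (hH : (H.map σ)ᵀ = (1 : F) • H) (hdet : H.det ≠ 0)

theorem det_rfM {a : ι → F} (ha : sf σ H a a ≠ 0) : (rfM σ H a).det = -1 := by
  unfold rfM
  rw [det_tvM', div_mul_cancel₀ _ ha]
  ring

include hσ1 hH hdet in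
/-- a semilinear map normalising (projectively) a Siegel transformation preserves its centre -/
theorem T_siegel (h2 : (2 : F) ≠ 0) {a z : ι → F} (hz0 : z ≠ 0) (hz : sf σ H z z = 0)
    (haz : sf σ H a z = 0) (ha : sf σ H a a ≠ 0) (g : GL ι F) (τ : F ≃+* F) {c : F}
    (h : (g : Matrix ι ι F) * (rfM σ H (a + z) * rfM σ H a).map τ =
      c • (rfM σ H (a + z) * rfM σ H a * (g : Matrix ι ι F))) :
    ∃ μ : F, semi g τ z = μ • z := by
  have hsymm := sf_comm1 σ H hσ1 hH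
  obtain ⟨α, hα⟩ : ∃ α, α = sf σ H a a := ⟨_, rfl⟩
  rw [← hα] at ha
  have hza : sf σ H z a = 0 := by rw [hsymm, haz]
  have hazaz : sf σ H (a + z) (a + z) = α := by
    rw [sf_add_left, sf_add_right, sf_add_right, haz, hza, hz, ← hα]; ring
  obtain ⟨x, hxdef⟩ : ∃ x, x = rfM σ H (a + z) * rfM σ H a := ⟨_, rfl⟩
  rw [← hxdef] at h
  have hxv : ∀ v, x *ᵥ v = v + (-2 / α * sf σ H z v) • a +
      (-2 / α * (sf σ H z v - sf σ H a v)) • z := by
    intro v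
    have e0 : sf σ H (a + z) (rfM σ H a *ᵥ v) = sf σ H z v - sf σ H a v := by
      rw [rfM_mulVec]
      simp only [sf_add_left, sf_add_right, sf_smul_right, ← hα, haz, hza]
      field_simp
      ring
    rw [hxdef, ← Matrix.mulVec_mulVec, rfM_mulVec σ H (a + z), hazaz, e0, rfM_mulVec, ← hα]
    module
  have hS := semi_comm h
  obtain ⟨w, hw⟩ : ∃ w, w = semi g τ z := ⟨_, rfl⟩
  have hw0 : w ≠ 0 := by rw [hw]; exact semi_ne_zero g τ hz0
  have hxz : x *ᵥ z = z := by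
    rw [hxv, hz, haz]
    simp
  have hxa : x *ᵥ a = a + (2 : F) • z := by
    rw [hxv, hza, ← hα]
    have : -2 / α * (0 - α) = 2 := by field_simp; ring
    rw [this]
    simp
  have h1 := hS z
  rw [hxz, ← hw, hxv] at h1
  -- c = 1
  have hc1 : c = 1 := by
    by_contra hne
    have h3 := congrArg (fun u => sf σ H z u) h1
    simp only [sf_smul_right, sf_add_right, hz, hza, mul_zero, add_zero] at h3
    have h4 : (1 - c) * sf σ H z w = 0 := by linear_combination h3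
    have hzw : sf σ H z w = 0 := by
      rcases mul_eq_zero.1 h4 with h' | h'
      · exact absurd (by linear_combination -h') hne
      · exact h'
    rw [hzw, mul_zero, zero_smul, add_zero, zero_sub] at h1
    have h5 := congrArg (fun u => sf σ H a u) h1
    simp only [sf_smul_right, sf_add_right, haz, mul_zero, add_zero] at h5
    have h6 : (1 - c) * sf σ H a w = 0 := by linear_combination h5
    have haw : sf σ H a w = 0 := by
      rcases mul_eq_zero.1 h6 with h' | h'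
      · exact absurd (by linear_combination -h') hne
      · exact h'
    rw [haw, neg_zero, mul_zero, zero_smul, add_zero] at h1
    have h7 : (1 - c) • w = 0 := by
      rw [sub_smul, one_smul, ← h1, sub_self]
    rcases smul_eq_zero.1 h7 with h8 | h8
    · exact hne (by linear_combination -h8)
    · exact hw0 h8
  rw [hc1] at hS
  simp only [one_smul] at hS
  -- the square of the nilpotent part
  have hN2 : ∀ v, x *ᵥ (x *ᵥ v) - (2 : F) • (x *ᵥ v) + v = (2 * (-2 / α * sf σ H z v)) • z := by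
    intro v
    have e1 : x *ᵥ (x *ᵥ v) = x *ᵥ v + (-2 / α * sf σ H z v) • (a + (2 : F) • z) +
        (-2 / α * (sf σ H z v - sf σ H a v)) • z := by
      conv_lhs => rw [hxv v]
      rw [Matrix.mulVec_add, Matrix.mulVec_add, Matrix.mulVec_smul, Matrix.mulVec_smul, hxa, hxz]
    rw [e1, hxv v]
    simp only [smul_add, smul_smul, two_smul, mul_add, add_smul, mul_comm]
    module
  obtain ⟨v, hv⟩ := exists_sf_ne_zero σ H hdet hz0
  have h3 := congrArg (semi g τ) (hN2 v)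
  rw [semi_add, semi_sub, semi_smul, semi_smul, hS, hS, map_two, hN2 (semi g τ v), ← hw] at h3
  have hne : τ (2 * (-2 / α * sf σ H z v)) ≠ 0 := by
    apply (map_ne_zero_iff τ τ.injective).2
    exact mul_ne_zero h2 (mul_ne_zero (div_ne_zero (neg_ne_zero.2 h2) ha) hv)
  refine ⟨(τ (2 * (-2 / α * sf σ H z v)))⁻¹ * (2 * (-2 / α * sf σ H z (semi g τ v))), ?_⟩
  rw [← hw, ← smul_smul, h3, smul_smul, inv_mul_cancel₀ hne, one_smul]

include hσ1 hH hdet in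
theorem T_cent_sym (h2 : (2 : F) ≠ 0) (hn : 3 ≤ Fintype.card ι)
    (hiso : ∃ z : ι → F, z ≠ 0 ∧ sf σ H z z = 0) (g : GL ι F) (τ : F ≃+* F)
    (hcent : ∀ x ∈ isoGrp σ H, (x : Matrix ι ι F).det = 1 →
      ∃ c : F, (g : Matrix ι ι F) * (x : Matrix ι ι F).map τ =
        c • ((x : Matrix ι ι F) * (g : Matrix ι ι F))) :
    (∀ s, τ s = s) ∧ ∃ μ : F, (g : Matrix ι ι F) = μ • 1 := by
  have hσ : ∀ a, σ (σ a) = a := fun a => by rw [hσ1, hσ1]
  have hsymm := sf_comm1 σ H hσ1 hH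
  apply semi_scalar σ H hσ hH hdet h2 hn hiso g τ
  intro z hz
  by_cases hz0 : z = 0
  · refine ⟨0, ?_⟩
    rw [hz0, zero_smul]
    unfold semi
    rw [vmap_zero, Matrix.mulVec_zero]
  obtain ⟨z', hz', hzz'⟩ := exists_hyp_partner σ H hσ hH hdet h2 hz0 hz
  obtain ⟨a, ha, haa⟩ := exists_aniso_perp σ H hσ hH hdet h2 hn hz hz' hzz'
  have haz : sf σ H a z = 0 := by rw [hsymm, ha.1]
  have hazaz : sf σ H (a + z) (a + z) ≠ 0 := by
    rw [sf_add_left, sf_add_right, sf_add_right, haz, ha.1, hz]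
    simpa using haa
  have hmem : rfG σ H (a + z) * rfG σ H a ∈ isoGrp σ H :=
    Subgroup.mul_mem _ (rfG_mem σ H hσ hH _) (rfG_mem σ H hσ hH _)
  obtain ⟨c, hc⟩ := hcent _ hmem (by
    rw [Units.val_mul, rfG_coe σ H hazaz, rfG_coe σ H haa, Matrix.det_mul, det_rfM σ H hazaz,
      det_rfM σ H haa]
    ring)
  rw [Units.val_mul, rfG_coe σ H hazaz, rfG_coe σ H haa] at hc
  exact T_siegel σ H hσ1 hH hdet h2 hz0 hz haz haa g τ hc

end

end Cfsg.Agent.Lib.H13.PSLBal
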