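import Mathlib
import Cfsg.Agent.Lib.H13.PSLBal2
import Cfsg.Agent.Lib.H13.Witt
import Cfsg.Agent.Lib.H13.AutPSLField
import Cfsg.Agent.Lib.H13.AutPO16
import Cfsg.Agent.Lib.H22.PPrimeCoreSub
import Cfsg.Agent.Lib.H13.AutPSLGraphField

/-!
Local balance in `PSL_n(q)`, part 3 (helper13): existence of isotropic vectors, similitudes `IsSim` and their reduction to isometries
(`core_reduce`), the abstract argument `lemma_G`, the centraliser of a graph-type involution in terms of its Gram matrix (`comm_to_sim`,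
`sim_to_comm`, `exists_gram`), and `graph_case`: for `q` odd the centraliser of a graph or graph-field involution of `PSL_n(q)`, `n ≥ 3`,
in any group of automorphisms containing the inner ones has trivial odd core.
-/

set_option autoImplicit false
set_option linter.unusedSectionVars false
set_option linter.unusedVariables false
set_option linter.unusedSimpArgs false
set_option linter.deprecated false

namespace Cfsg.Agent.Lib.H13.PSLBal

section

open Matrix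

variable {F : Type*} [Field F] {ι : Type*} [Fintype ι] [DecidableEq ι]

variable (σ : F ≃+* F) (H : Matrix ι ι F)

/-- isotropic vectors exist in dimension at least three over a finite field (bilinear case) -/
theorem exists_iso_sym [Finite F] (hσ1 : ∀ a, σ a = a) (hn : 3 ≤ Fintype.card ι) :
    ∃ z : ι → F, z ≠ 0 ∧ sf σ H z z = 0 := by
  have hfr : 3 ≤ Module.finrank F (ι → F) := by
    rw [Module.finrank_fintype_fun_eq_card]; exact hn
  obtain ⟨z, hz0, hz⟩ := Cfsg.Agent.Lib.H13.exists_singular_of_three_le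
    (Matrix.toQuadraticForm' H) hfr
  refine ⟨z, hz0, ?_⟩
  have h1 : vmap σ z = z := by
    ext i; exact hσ1 (z i)
  unfold sf
  rw [h1]
  rw [Matrix.toQuadraticForm', LinearMap.BilinMap.toQuadraticMap_apply,
    Matrix.toLinearMap₂'_apply'] at hz
  exact hz

theorem exists_nonsq [Finite F] (h2 : (2 : F) ≠ 0) : ∃ ν : F, ∀ s : F, s * s ≠ ν := by
  have := Fintype.ofFinite F
  have hch : ringChar F ≠ 2 := by
    intro h
    apply h2
    have := ringChar.Nat.cast_ringChar (R := F)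
    rw [h] at this
    exact_mod_cast this
  obtain ⟨ν, hν⟩ := FiniteField.exists_nonsquare hch
  refine ⟨ν, fun s hs => hν ⟨s, hs.symm⟩⟩

theorem Nm_two (d : F) : AutPSL.Nm σ 2 d = d * σ d := by
  simp [AutPSL.Nm, Finset.prod_range_succ]

/-- isotropic vectors exist in dimension at least two over a finite field (Hermitian case) -/
theorem exists_iso_herm [Finite F] (hσ : ∀ a, σ (σ a) = a) (hσne : σ ≠ 1)
    (hH : (H.map σ)ᵀ = (1 : F) • H) (hn : 2 ≤ Fintype.card ι) :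
    ∃ z : ι → F, z ≠ 0 ∧ sf σ H z z = 0 := by
  have := Fintype.ofFinite F
  have hord : orderOf σ = 2 := by
    apply orderOf_eq_prime
    · ext a
      rw [pow_two]
      exact hσ a
    · exact hσne
  have hcard : 1 < Fintype.card ι := by omega
  obtain ⟨i₀, j₀, hij⟩ := Fintype.one_lt_card_iff.1 hcard
  obtain ⟨v₁, hv₁⟩ : ∃ v₁ : ι → F, v₁ = Pi.single i₀ 1 := ⟨_, rfl⟩
  have hv₁0 : v₁ ≠ 0 := by
    rw [hv₁]
    intro h
    have := congrFun h i₀
    simp at this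
  by_cases hq1 : sf σ H v₁ v₁ = 0
  · exact ⟨v₁, hv₁0, hq1⟩
  obtain ⟨v₂, hv₂0, hv₂⟩ := exists_ne_zero_forall_dot_eq_zero (F := F) (ι := ι) (k := 1)
    ![vmap σ v₁ ᵥ* H] (by omega)
  have h12 : sf σ H v₁ v₂ = 0 := by
    have := hv₂ 0
    simp only [Matrix.cons_val_zero] at this
    unfold sf
    rw [Matrix.dotProduct_mulVec]
    exact this
  have h21 : sf σ H v₂ v₁ = 0 := sf_eq_zero_symm σ H hσ (one_mul 1) hH h12
  by_cases hq2 : sf σ H v₂ v₂ = 0
  · exact ⟨v₂, hv₂0, hq2⟩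
  obtain ⟨q₁, hq₁⟩ : ∃ q₁, q₁ = sf σ H v₁ v₁ := ⟨_, rfl⟩
  obtain ⟨q₂, hq₂⟩ : ∃ q₂, q₂ = sf σ H v₂ v₂ := ⟨_, rfl⟩
  rw [← hq₁] at hq1
  rw [← hq₂] at hq2
  have hq₁σ : σ q₁ = q₁ := by rw [hq₁]; exact sf_self_fixed σ H hσ hH v₁
  have hq₂σ : σ q₂ = q₂ := by rw [hq₂]; exact sf_self_fixed σ H hσ hH v₂
  obtain ⟨c, hc0, hc⟩ := AutPSL.Nm_surjective σ (by norm_num : 0 < 2) hord (-q₁ / q₂)
    (div_ne_zero (neg_ne_zero.2 hq1) hq2) (by rw [map_div₀, map_neg, hq₁σ, hq₂σ])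
  rw [Nm_two] at hc
  refine ⟨v₁ + c • v₂, ?_, ?_⟩
  · intro h
    apply hq1
    have h3 : sf σ H v₁ (v₁ + c • v₂) = 0 := by rw [h, sf_zero_right]
    rw [sf_add_right, sf_smul_right, h12, mul_zero, add_zero] at h3
    rw [hq₁]; exact h3
  · simp only [sf_add_left, sf_add_right, sf_smul_left, sf_smul_right, h12, h21, ← hq₁, ← hq₂,
      mul_zero, add_zero, zero_add]
    have : c * (σ c * q₂) = (c * σ c) * q₂ := by ring
    rw [this, hc]
    field_simp
    ring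

theorem exists_not_fixed (hσne : σ ≠ 1) : ∃ d₀ : F, σ d₀ ≠ d₀ := by
  by_contra hcon
  push Not at hcon
  apply hσne
  ext a
  exact hcon a

end

section

open Matrix

variable {F : Type*} [Field F] {ι : Type*} [Fintype ι] [DecidableEq ι]

variable (σ : F ≃+* F) (H : Matrix ι ι F)

theorem sf_smul_mat (μ : F) (u v : ι → F) : sf σ (μ • H) u v = μ * sf σ H u v := by
  unfold sf
  rw [Matrix.smul_mulVec, dotProduct_smul, smul_eq_mul]

/-- `x` is a similitude with multiplier `μ` -/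
def IsSim (x : Matrix ι ι F) (μ : F) : Prop := (x.map σ)ᵀ * H * x = μ • H

theorem sf_sim {x : Matrix ι ι F} {μ : F} (hx : IsSim σ H x μ) (u v : ι → F) :
    sf σ H (x *ᵥ u) (x *ᵥ v) = μ * sf σ H u v := by
  rw [sf_mulVec, hx, sf_smul_mat]

theorem sf_sim_pow {x : GL ι F} {μ : F} (hx : IsSim σ H (x : Matrix ι ι F) μ) (i : ℕ)
    (u v : ι → F) :
    sf σ H (((x ^ i : GL ι F) : Matrix ι ι F) *ᵥ u) (((x ^ i : GL ι F) : Matrix ι ι F) *ᵥ v) =
      μ ^ i * sf σ H u v := by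
  induction i generalizing u v with
  | zero => rw [pow_zero, Units.val_one, Matrix.one_mulVec, Matrix.one_mulVec, pow_zero, one_mul]
  | succ i ih =>
    rw [pow_succ, Units.val_mul, ← Matrix.mulVec_mulVec, ← Matrix.mulVec_mulVec, ih,
      sf_sim σ H hx, pow_succ, mul_assoc]

theorem isIso_smul_of_sim {x : Matrix ι ι F} {μ c : F} (hx : IsSim σ H x μ)
    (hc : σ c * c * μ = 1) : IsIso σ H (c • x) := by
  apply isIso_of_sf
  intro u v
  rw [Matrix.smul_mulVec, Matrix.smul_mulVec, sf_smul_left, sf_smul_right, sf_sim σ H hx]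
  linear_combination (sf σ H u v) * hc

/-- bilinear case: a similitude with an odd power scalar is a scalar multiple of an isometry -/
theorem sim_to_iso_bilin (hσ1 : ∀ a, σ a = a) (hdet : H.det ≠ 0) {z₀ : ι → F} (hz₀ : z₀ ≠ 0)
    {x : GL ι F} {μ : F}
    (hx : IsSim σ H (x : Matrix ι ι F) μ) {m : ℕ} (hm : Odd m) {s : F}
    (hs : ((x ^ m : GL ι F) : Matrix ι ι F) = s • 1) :
    ∃ c : F, c ≠ 0 ∧ IsIso σ H (c • (x : Matrix ι ι F)) := by
  obtain ⟨v₀, hv₀⟩ := exists_sf_ne_zero σ H hdet hz₀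
  have h1 := sf_sim_pow σ H hx m z₀ v₀
  rw [hs, Matrix.smul_mulVec, Matrix.smul_mulVec, Matrix.one_mulVec, Matrix.one_mulVec,
    sf_smul_left, sf_smul_right, hσ1] at h1
  have h2 : s * s = μ ^ m := by
    have : (s * s - μ ^ m) * sf σ H z₀ v₀ = 0 := by linear_combination h1
    rcases mul_eq_zero.1 this with h | h
    · exact sub_eq_zero.1 h
    · exact absurd h hv₀
  have hs0 : s ≠ 0 := by
    rintro rfl
    have := gl_mulVec_ne_zero (x ^ m) hz₀
    rw [hs, zero_smul, Matrix.zero_mulVec] at this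
    exact this rfl
  have hμ0 : μ ≠ 0 := by
    rintro rfl
    obtain ⟨k, rfl⟩ := hm
    rw [pow_succ, mul_zero] at h2
    exact hs0 (mul_self_eq_zero.1 h2)
  obtain ⟨k, rfl⟩ := hm
  refine ⟨μ ^ k / s, div_ne_zero (pow_ne_zero k hμ0) hs0, ?_⟩
  apply isIso_smul_of_sim σ H hx
  rw [hσ1]
  field_simp
  linear_combination -h2

/-- Hermitian case: the multiplier of a similitude is fixed, hence a norm -/
theorem sim_to_iso_herm [Finite F] (hσ : ∀ a, σ (σ a) = a) (hσne : σ ≠ 1)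
    (hH : (H.map σ)ᵀ = (1 : F) • H) (hdet : H.det ≠ 0) {z₀ : ι → F} (hz₀ : z₀ ≠ 0)
    {x : GL ι F} {μ : F} (hx : IsSim σ H (x : Matrix ι ι F) μ) :
    ∃ c : F, c ≠ 0 ∧ IsIso σ H (c • (x : Matrix ι ι F)) := by
  have := Fintype.ofFinite F
  have hord : orderOf σ = 2 := by
    apply orderOf_eq_prime
    · ext a
      rw [pow_two]
      exact hσ a
    · exact hσne
  obtain ⟨v₀, hv₀⟩ := exists_sf_ne_zero σ H hdet hz₀
  -- the multiplier is fixed
  have hμσ : σ μ = μ := by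
    have h1 := sf_sim σ H hx z₀ v₀
    have h2 := sf_sim σ H hx v₀ z₀
    rw [sf_symm1 σ H hσ hH ((x : Matrix ι ι F) *ᵥ z₀), sf_symm1 σ H hσ hH z₀, h1, map_mul] at h2
    have : (σ μ - μ) * σ (sf σ H z₀ v₀) = 0 := by linear_combination h2
    rcases mul_eq_zero.1 this with h | h
    · exact sub_eq_zero.1 h
    · exact absurd ((map_eq_zero_iff σ σ.injective).1 h) hv₀
  have hμ0 : μ ≠ 0 := by
    rintro rfl
    have h1 := sf_sim σ H hx (((x⁻¹ : GL ι F) : Matrix ι ι F) *ᵥ z₀)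
      (((x⁻¹ : GL ι F) : Matrix ι ι F) *ᵥ v₀)
    rw [gl_mulVec_inv, gl_mulVec_inv, zero_mul] at h1
    exact hv₀ h1
  obtain ⟨c, hc0, hc⟩ := AutPSL.Nm_surjective σ (by norm_num : 0 < 2) hord μ⁻¹
    (inv_ne_zero hμ0) (by rw [map_inv₀, hμσ])
  rw [Nm_two] at hc
  refine ⟨c, hc0, ?_⟩
  apply isIso_smul_of_sim σ H hx
  rw [mul_comm (σ c) c, hc, inv_mul_cancel₀ hμ0]

/-- the scalar matrix as an element of `GL` -/
noncomputable def scG (c : F) (hc : c ≠ 0) : GL ι F :=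
  ⟨c • 1, c⁻¹ • 1, by rw [Matrix.smul_mul, Matrix.mul_smul, Matrix.mul_one, smul_smul,
    mul_inv_cancel₀ hc, one_smul], by rw [Matrix.smul_mul, Matrix.mul_smul, Matrix.mul_one,
    smul_smul, inv_mul_cancel₀ hc, one_smul]⟩

theorem scG_coe (c : F) (hc : c ≠ 0) : ((scG c hc : GL ι F) : Matrix ι ι F) = c • 1 := rfl

theorem scG_mem_center (c : F) (hc : c ≠ 0) : (scG c hc : GL ι F) ∈ Subgroup.center (GL ι F) :=
  mem_center_of_smul (scG_coe c hc)

/-- reduction from similitudes to isometries -/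
theorem core_reduce
    (core : ∀ 𝒩' : Subgroup (GL ι F), 𝒩' ≤ isoGrp σ H →
      (∀ k ∈ isoGrp σ H, ∀ x ∈ 𝒩', k * x * k⁻¹ ∈ 𝒩') → ∀ {m : ℕ}, Odd m →
      (∀ x ∈ 𝒩', ∃ s : F, ((x ^ m : GL ι F) : Matrix ι ι F) = s • 1) →
      ∀ y ∈ 𝒩', ∃ s : F, (y : Matrix ι ι F) = s • 1)
    (𝒩 : Subgroup (GL ι F))
    (hsim : ∀ x ∈ 𝒩, ∃ c : F, c ≠ 0 ∧ IsIso σ H (c • (x : Matrix ι ι F)))
    (hnormal : ∀ k ∈ isoGrp σ H, ∀ x ∈ 𝒩, k * x * k⁻¹ ∈ 𝒩) {m : ℕ} (hm : Odd m)
    (hpow : ∀ x ∈ 𝒩, ∃ s : F, ((x ^ m : GL ι F) : Matrix ι ι F) = s • 1) :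
    ∀ y ∈ 𝒩, ∃ s : F, (y : Matrix ι ι F) = s • 1 := by
  set Z := Subgroup.center (GL ι F) with hZ
  set 𝒩' : Subgroup (GL ι F) := (𝒩 ⊔ Z) ⊓ isoGrp σ H with h𝒩'
  have hmem : ∀ y, y ∈ 𝒩 ⊔ Z ↔ ∃ x ∈ 𝒩, ∃ z ∈ Z, x * z = y := by
    intro y
    rw [← SetLike.mem_coe, Subgroup.mul_normal, Set.mem_mul]
    rfl
  have hall := core 𝒩' inf_le_right (by
    intro k hk y hy
    refine ⟨?_, Subgroup.mul_mem _ (Subgroup.mul_mem _ hk hy.2) (Subgroup.inv_mem _ hk)⟩
    obtain ⟨x, hx, z, hz, rfl⟩ := (hmem y).1 hy.1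
    apply (hmem _).2
    refine ⟨k * x * k⁻¹, hnormal k hk x hx, z, hz, ?_⟩
    have hzc : z * k⁻¹ = k⁻¹ * z := (Subgroup.mem_center_iff.1 hz k⁻¹).symm
    calc k * x * k⁻¹ * z = k * x * (k⁻¹ * z) := by group
      _ = k * x * (z * k⁻¹) := by rw [hzc]
      _ = k * (x * z) * k⁻¹ := by group) hm (by
    intro y hy
    obtain ⟨x, hx, z, hz, rfl⟩ := (hmem y).1 hy.1
    apply smul_of_mem_center
    have hcomm : Commute x z := (Subgroup.mem_center_iff.1 hz x)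
    rw [hcomm.mul_pow]
    obtain ⟨s, hs⟩ := hpow x hx
    exact Subgroup.mul_mem _ (mem_center_of_smul hs) (Subgroup.pow_mem _ hz m))
  intro x hx
  obtain ⟨c, hc0, hc⟩ := hsim x hx
  have hy : x * scG c hc0 ∈ 𝒩' := by
    refine ⟨(hmem _).2 ⟨x, hx, _, scG_mem_center c hc0, rfl⟩, ?_⟩
    show x * scG c hc0 ∈ isoGrp σ H
    rw [mem_isoGrp, Units.val_mul, scG_coe, Matrix.mul_smul, Matrix.mul_one]
    exact hc
  obtain ⟨s, hs⟩ := hall _ hy
  rw [Units.val_mul, scG_coe, Matrix.mul_smul, Matrix.mul_one] at hs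
  refine ⟨c⁻¹ * s, ?_⟩
  rw [← smul_smul, ← hs, smul_smul, inv_mul_cancel₀ hc0, one_smul]

end

section

open Cfsg.Agent.Lib.H13.AutPO

section abstractG

variable {G : Type*} [Group G]

/-- abstract form of the argument for graph-type involutions: the odd core of the centraliser is
trivial -/
theorem lemma_G [Finite G] (Nn D 𝒢 : Subgroup G) [hN : Nn.Normal]
    (hND : Nn ≤ D) (hN𝒢 : Nn ≤ 𝒢) (β : G)
    (g1 : ∀ N : Subgroup G, N ≤ D ⊓ Subgroup.centralizer {β} →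
      (∀ s ∈ D ⊓ Subgroup.centralizer {β}, ∀ x ∈ N, s * x * s⁻¹ ∈ N) →
      (Nat.card N).Coprime 2 → N = ⊥)
    (g2 : ∀ ρ ∈ 𝒢 ⊓ Subgroup.centralizer {β}, Odd (orderOf ρ) →
      (∀ μ ∈ Nn ⊓ Subgroup.centralizer {β}, ρ * μ = μ * ρ) → ρ = 1) :
    ¬ HasNPC 2 ↥(𝒢 ⊓ Subgroup.centralizer {β}) := by
  rw [hasNPC_subgroup_iff]
  rintro ⟨R, hRC, hnorm, hcop, hne⟩
  set 𝒮 := D ⊓ Subgroup.centralizer {β} with h𝒮
  set M := Nn ⊓ Subgroup.centralizer {β} with hM
  have hM𝒮 : M ≤ 𝒮 := inf_le_inf hND le_rfl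
  have hMC : M ≤ 𝒢 ⊓ Subgroup.centralizer {β} := inf_le_inf hN𝒢 le_rfl
  have hMnorm : ∀ c ∈ Subgroup.centralizer {β}, ∀ μ ∈ M, c * μ * c⁻¹ ∈ M := by
    intro c hc μ hμ
    exact ⟨hN.conj_mem μ hμ.1 c,
      Subgroup.mul_mem _ (Subgroup.mul_mem _ hc hμ.2) (Subgroup.inv_mem _ hc)⟩
  -- step 1
  have hRM : R ⊓ M = ⊥ := by
    set M' : Subgroup ↥𝒮 := M.subgroupOf 𝒮 with hM'
    set R' : Subgroup ↥𝒮 := (R ⊓ M).subgroupOf 𝒮 with hR'
    have hM'n : M'.Normal := by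
      constructor
      intro x hx s
      rw [hM', Subgroup.mem_subgroupOf] at hx ⊢
      exact hMnorm s s.2.2 x hx
    have hle : R' ≤ M' := by
      intro x hx
      rw [hR', Subgroup.mem_subgroupOf] at hx
      rw [hM', Subgroup.mem_subgroupOf]
      exact hx.2
    have hR'n : (R'.subgroupOf M').Normal := by
      constructor
      intro x hx m
      rw [Subgroup.mem_subgroupOf, hR', Subgroup.mem_subgroupOf] at hx ⊢
      have hm : ((m : ↥𝒮) : G) ∈ M := Subgroup.mem_subgroupOf.1 m.2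
      exact ⟨hnorm _ (hMC hm) _ hx.1, hMnorm _ hm.2 _ hx.2⟩
    have hsub : R'.IsSubnormal := Subgroup.IsSubnormal.step R' M' hle hM'n.isSubnormal hR'n
    have hcard : (Nat.card R').Coprime 2 := by
      have e : R' ≃* ↥(R ⊓ M) := Subgroup.subgroupOfEquivOfLe (le_trans inf_le_right hM𝒮)
      rw [Nat.card_congr e.toEquiv]
      exact Nat.Coprime.coprime_dvd_left (Subgroup.card_dvd_of_le inf_le_left) hcop
    have hfin : Finite ↥𝒮 := inferInstance
    have hle2 := Cfsg.Agent.Lib.H22.subnormal_coprime_le_pPrimeCore 2 hsub hcard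
    have hP : Cfsg.pPrimeCore 2 ↥𝒮 = ⊥ := by
      have hPn := Cfsg.Agent.Lib.H22.pPrimeCore_normal (G := ↥𝒮) 2
      have h1 := g1 ((Cfsg.pPrimeCore 2 ↥𝒮).map 𝒮.subtype) (by
        rintro _ ⟨x, -, rfl⟩
        exact x.2) (by
        rintro s hs _ ⟨x, hx, rfl⟩
        refine ⟨⟨s, hs⟩ * x * ⟨s, hs⟩⁻¹, hPn.conj_mem x hx ⟨s, hs⟩, ?_⟩
        simp) (by
        rw [Subgroup.card_map_of_injective (Subgroup.subtype_injective 𝒮)]
        exact Cfsg.Agent.Lib.H22.card_pPrimeCore_coprime 2)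
      rw [eq_bot_iff]
      intro x hx
      have h2 : (x : G) ∈ (Cfsg.pPrimeCore 2 ↥𝒮).map 𝒮.subtype := ⟨x, hx, rfl⟩
      rw [h1, Subgroup.mem_bot] at h2
      rw [Subgroup.mem_bot]
      exact Subtype.ext h2
    rw [hP] at hle2
    rw [eq_bot_iff]
    intro x hx
    have h3 : (⟨x, hM𝒮 hx.2⟩ : ↥𝒮) ∈ R' := by
      rw [hR', Subgroup.mem_subgroupOf]
      exact hx
    have h4 := hle2 h3
    rw [Subgroup.mem_bot] at h4 ⊢
    exact congrArg Subtype.val h4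
  -- step 2 and 3
  apply hne
  rw [eq_bot_iff]
  intro ρ hρ
  rw [Subgroup.mem_bot]
  apply g2 ρ (hRC hρ)
  · have hd : orderOf ρ ∣ Nat.card R := by
      have := Subgroup.orderOf_dvd_natCard R hρ
      exact this
    have hodd : Odd (Nat.card R) := Nat.Coprime.odd_of_left hcop.symm
    exact Odd.of_dvd_nat hodd hd
  · intro μ hμ
    refine commute_of_inf_eq_bot R M ?_ ?_ hRM ρ hρ μ hμ
    · intro n hn ρ' hρ'
      exact hnorm n (hMC hn) ρ' hρ'
    · intro ρ' hρ' n hn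
      exact hMnorm ρ' (hRC hρ').2 n hn

end abstractG

end

section

open Matrix Cfsg.Agent.Lib.H13.AutPSL Cfsg.Agent.Lib.H13.AutPO

variable {n : ℕ} {F : Type*} [Field F] [Fintype F]

theorem cGL_eq_imp (hn : 2 ≤ n) {a b : GL (Fin n) F} (h : cGL a = cGL b) :
    ∃ c : F, c ≠ 0 ∧ (a : Matrix (Fin n) (Fin n) F) = c • (b : Matrix (Fin n) (Fin n) F) := by
  have h1 : fAut (n := n) (1 : F ≃+* F) = cGL (b⁻¹ * a) := by
    rw [map_one, map_mul, map_inv, h, inv_mul_cancel]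
  obtain ⟨-, c, hc, h2⟩ := uniq0 hn (hasParPA_of hn) _ 1 h1
  refine ⟨c, hc, ?_⟩
  have h3 : (a : Matrix (Fin n) (Fin n) F) =
      (b : Matrix (Fin n) (Fin n) F) * ((b⁻¹ * a : GL (Fin n) F) : Matrix (Fin n) (Fin n) F) := by
    rw [← Units.val_mul, mul_inv_cancel_left]
  rw [h3, h2, Matrix.mul_smul, Matrix.mul_one]

section comm

variable (g₀ x : GL (Fin n) F) (σ : F ≃+* F)

theorem sigT_mul_inv :
    ((x : Matrix (Fin n) (Fin n) F).map σ)ᵀ *
      (((x⁻¹ : GL (Fin n) F) : Matrix (Fin n) (Fin n) F)ᵀ).map σ = 1 := by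
  rw [Matrix.transpose_map, ← Matrix.transpose_mul, ← Matrix.map_mul, ← Units.val_mul,
    inv_mul_cancel, Units.val_one, map_one_sig, Matrix.transpose_one]

theorem inv_mul_sigT :
    (((x⁻¹ : GL (Fin n) F) : Matrix (Fin n) (Fin n) F)ᵀ).map σ *
      ((x : Matrix (Fin n) (Fin n) F).map σ)ᵀ = 1 := by
  rw [Matrix.transpose_map, ← Matrix.transpose_mul, ← Matrix.map_mul, ← Units.val_mul,
    mul_inv_cancel, Units.val_one, map_one_sig, Matrix.transpose_one]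

theorem comm_iff_aux :
    cGL x * (cGL g₀ * gfAut σ) = (cGL g₀ * gfAut σ) * cGL x ↔
      cGL (x * g₀) = cGL (g₀ * gmap σ (tGL x)) := by
  rw [mul_assoc (cGL g₀), gfAut_mul_cGL, ← mul_assoc, ← mul_assoc, ← map_mul, ← map_mul]
  exact ⟨fun h => mul_right_cancel h, fun h => by rw [h]⟩

theorem comm_to_sim (hn : 2 ≤ n)
    (h : cGL x * (cGL g₀ * gfAut σ) = (cGL g₀ * gfAut σ) * cGL x) :
    ∃ μ : F, μ ≠ 0 ∧
      IsSim σ ((g₀⁻¹ : GL (Fin n) F) : Matrix (Fin n) (Fin n) F)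
        (x : Matrix (Fin n) (Fin n) F) μ := by
  rw [comm_iff_aux] at h
  obtain ⟨c, hc, h1⟩ := cGL_eq_imp hn h
  refine ⟨c, hc, ?_⟩
  rw [Units.val_mul, Units.val_mul, gmap_coe, tGL_coe] at h1
  unfold IsSim
  set X := (x : Matrix (Fin n) (Fin n) F)
  set G₀ := (g₀ : Matrix (Fin n) (Fin n) F)
  set Hm := ((g₀⁻¹ : GL (Fin n) F) : Matrix (Fin n) (Fin n) F)
  set A' := (((x⁻¹ : GL (Fin n) F) : Matrix (Fin n) (Fin n) F)ᵀ).map σ
  have hHG : Hm * G₀ = 1 := by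
    rw [← Units.val_mul, inv_mul_cancel, Units.val_one]
  have hGH : G₀ * Hm = 1 := by
    rw [← Units.val_mul, mul_inv_cancel, Units.val_one]
  have h2 : Hm * X = c • (A' * Hm) := by
    calc Hm * X = Hm * (X * G₀) * Hm := by
          rw [Matrix.mul_assoc, Matrix.mul_assoc, hGH, Matrix.mul_one]
      _ = Hm * (c • (G₀ * A')) * Hm := by rw [h1]
      _ = c • (A' * Hm) := by
          rw [Matrix.mul_smul, Matrix.smul_mul, ← Matrix.mul_assoc Hm, hHG, Matrix.one_mul]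
  rw [Matrix.mul_assoc, h2, Matrix.mul_smul, ← Matrix.mul_assoc, sigT_mul_inv, Matrix.one_mul]

theorem sim_to_comm {μ : F} (hμ : μ ≠ 0)
    (h : IsSim σ ((g₀⁻¹ : GL (Fin n) F) : Matrix (Fin n) (Fin n) F)
        (x : Matrix (Fin n) (Fin n) F) μ) :
    cGL x * (cGL g₀ * gfAut σ) = (cGL g₀ * gfAut σ) * cGL x := by
  rw [comm_iff_aux]
  apply cGL_eq_of_smul hμ
  rw [Units.val_mul, Units.val_mul, gmap_coe, tGL_coe]
  unfold IsSim at h
  set X := (x : Matrix (Fin n) (Fin n) F)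
  set G₀ := (g₀ : Matrix (Fin n) (Fin n) F)
  set Hm := ((g₀⁻¹ : GL (Fin n) F) : Matrix (Fin n) (Fin n) F)
  set A' := (((x⁻¹ : GL (Fin n) F) : Matrix (Fin n) (Fin n) F)ᵀ).map σ
  have hHG : Hm * G₀ = 1 := by
    rw [← Units.val_mul, inv_mul_cancel, Units.val_one]
  have hGH : G₀ * Hm = 1 := by
    rw [← Units.val_mul, mul_inv_cancel, Units.val_one]
  have h2 : Hm * X = μ • (A' * Hm) := by
    calc Hm * X = A' * ((X.map σ)ᵀ * Hm * X) := by
          rw [Matrix.mul_assoc, ← Matrix.mul_assoc A', inv_mul_sigT, Matrix.one_mul]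
      _ = μ • (A' * Hm) := by rw [h, Matrix.mul_smul]
  calc X * G₀ = G₀ * (Hm * X) * G₀ := by
        rw [← Matrix.mul_assoc, hGH, Matrix.one_mul]
    _ = G₀ * (μ • (A' * Hm)) * G₀ := by rw [h2]
    _ = μ • (G₀ * A') := by
        rw [Matrix.mul_smul, Matrix.smul_mul, Matrix.mul_assoc, Matrix.mul_assoc, hHG,
          Matrix.mul_one]

end comm

end

section

open Matrix Cfsg.Agent.Lib.H13.AutPSL Cfsg.Agent.Lib.H13.AutPO

variable {n : ℕ} {F : Type*} [Field F] [Fintype F]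

theorem isSim_smul_iff (σ : F ≃+* F) (H : Matrix (Fin n) (Fin n) F) {l : F} (hl : l ≠ 0)
    (x : Matrix (Fin n) (Fin n) F) (μ : F) : IsSim σ (l • H) x μ ↔ IsSim σ H x μ := by
  unfold IsSim
  rw [Matrix.mul_smul, Matrix.smul_mul, smul_comm μ l]
  constructor
  · intro h
    exact smul_right_injective _ hl h
  · intro h
    rw [h]

theorem isIso_iff_isSim (σ : F ≃+* F) (H : Matrix (Fin n) (Fin n) F)
    (x : Matrix (Fin n) (Fin n) F) : IsIso σ H x ↔ IsSim σ H x 1 := by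
  unfold IsIso IsSim
  rw [one_smul]

/-- the Gram matrix of an involutory graph(-field) automorphism -/
theorem gram_of_sq (hn : 2 ≤ n) (g₀ : GL (Fin n) F) (σ : F ≃+* F)
    (h : (cGL g₀ * gfAut σ) ^ 2 = 1) :
    σ * σ = 1 ∧ ∃ c : F, c ≠ 0 ∧ c * σ c = 1 ∧
      (((g₀⁻¹ : GL (Fin n) F) : Matrix (Fin n) (Fin n) F).map σ)ᵀ =
        c • ((g₀⁻¹ : GL (Fin n) F) : Matrix (Fin n) (Fin n) F) := by
  rw [sq_cGL_gfAut] at h
  have h1 : fAut (n := n) (σ * σ) = cGL (g₀ * gmap σ (tGL g₀))⁻¹ := by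
    rw [map_inv, eq_inv_iff_mul_eq_one]
    exact mul_eq_one_comm.1 h
  obtain ⟨hσσ, c, hc, h2⟩ := uniq0 hn (hasParPA_of hn) _ _ h1
  have hσσ' : σ * σ = 1 := hσσ
  have hσa : ∀ a, σ (σ a) = a := fun a => RingEquiv.congr_fun hσσ' a
  refine ⟨hσσ', ?_⟩
  have hHG : ((g₀⁻¹ : GL (Fin n) F) : Matrix (Fin n) (Fin n) F) *
      (g₀ : Matrix (Fin n) (Fin n) F) = 1 := by
    rw [← Units.val_mul, inv_mul_cancel, Units.val_one]
  obtain ⟨Hm, hHm⟩ : ∃ Hm, Hm = ((g₀⁻¹ : GL (Fin n) F) : Matrix (Fin n) (Fin n) F) := ⟨_, rfl⟩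
  rw [← hHm] at hHG ⊢
  -- P = c⁻¹ • 1
  have h3 : ((g₀ * gmap σ (tGL g₀) : GL (Fin n) F) : Matrix (Fin n) (Fin n) F) = c⁻¹ • 1 := by
    have h4 : ((g₀ * gmap σ (tGL g₀) : GL (Fin n) F) : Matrix (Fin n) (Fin n) F) *
        (((g₀ * gmap σ (tGL g₀))⁻¹ : GL (Fin n) F) : Matrix (Fin n) (Fin n) F) = 1 := by
      rw [← Units.val_mul, mul_inv_cancel, Units.val_one]
    rw [h2, Matrix.mul_smul, Matrix.mul_one] at h4
    have := congrArg (fun M => c⁻¹ • M) h4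
    simpa [smul_smul, inv_mul_cancel₀ hc] using this
  rw [Units.val_mul, gmap_coe, tGL_coe, ← hHm] at h3
  have h5 : (Hm.map σ)ᵀ = c⁻¹ • Hm := by
    have := congrArg (fun M => Hm * M) h3
    simp only [← Matrix.mul_assoc, hHG, Matrix.one_mul, Matrix.mul_smul, Matrix.mul_one] at this
    rw [← Matrix.transpose_map]
    exact this
  refine ⟨c⁻¹, inv_ne_zero hc, ?_, h5⟩
  -- apply the symmetry twice
  have h6 : ((Hm.map σ)ᵀ.map σ)ᵀ = Hm := by
    ext i j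
    simp only [Matrix.transpose_apply, Matrix.map_apply]
    exact hσa _
  rw [h5] at h6
  have h7 : ((c⁻¹ • Hm).map σ)ᵀ = σ c⁻¹ • (Hm.map σ)ᵀ := by
    ext i j
    simp [Matrix.transpose_apply, Matrix.map_apply]
  rw [h7, h5, smul_smul] at h6
  have h8 := congrArg (fun M => M * (g₀ : Matrix (Fin n) (Fin n) F)) h6
  simp only [Matrix.smul_mul, hHG] at h8
  have i0 : Fin n := ⟨0, by omega⟩
  have h9 := congrFun (congrFun h8 i0) i0
  simp only [Matrix.smul_apply, Matrix.one_apply_eq, smul_eq_mul, mul_one] at h9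
  rw [mul_comm]
  exact h9

/-- existence of a normalised Gram matrix -/
theorem exists_gram (hn : 2 ≤ n) (g₀ : GL (Fin n) F) (σ : F ≃+* F)
    (h : (cGL g₀ * gfAut σ) ^ 2 = 1) :
    σ * σ = 1 ∧ ∃ (H : Matrix (Fin n) (Fin n) F) (ε : F), H.det ≠ 0 ∧ (H.map σ)ᵀ = ε • H ∧
      (ε = 1 ∨ (ε = -1 ∧ σ = 1)) ∧
      (∀ x : GL (Fin n) F, cGL x * (cGL g₀ * gfAut σ) = (cGL g₀ * gfAut σ) * cGL x →
        ∃ μ : F, μ ≠ 0 ∧ IsSim σ H (x : Matrix (Fin n) (Fin n) F) μ) ∧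
      (∀ x : GL (Fin n) F, IsIso σ H (x : Matrix (Fin n) (Fin n) F) →
        cGL x * (cGL g₀ * gfAut σ) = (cGL g₀ * gfAut σ) * cGL x) := by
  obtain ⟨hσσ, c, hc0, hcσ, hH⟩ := gram_of_sq hn g₀ σ h
  refine ⟨hσσ, ?_⟩
  set Hm := ((g₀⁻¹ : GL (Fin n) F) : Matrix (Fin n) (Fin n) F) with hHm
  have hdet : Hm.det ≠ 0 := by
    have h1 : Hm * (g₀ : Matrix (Fin n) (Fin n) F) = 1 := by
      rw [← Units.val_mul, inv_mul_cancel, Units.val_one]
    intro h0
    have := congrArg Matrix.det h1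
    rw [Matrix.det_mul, h0, zero_mul, Matrix.det_one] at this
    exact zero_ne_one this
  by_cases hσ1 : σ = 1
  · -- bilinear case
    have hc2 : c * c = 1 := by
      rw [hσ1] at hcσ
      exact hcσ
    have hc : c = 1 ∨ c = -1 := by
      have : (c - 1) * (c + 1) = 0 := by linear_combination hc2
      rcases mul_eq_zero.1 this with h' | h'
      · left; linear_combination h'
      · right; linear_combination h'
    refine ⟨Hm, c, hdet, hH, ?_, ?_, ?_⟩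
    · rcases hc with h' | h'
      · left; exact h'
      · right; exact ⟨h', hσ1⟩
    · intro x hx
      exact comm_to_sim g₀ x σ hn hx
    · intro x hx
      exact sim_to_comm g₀ x σ one_ne_zero ((isIso_iff_isSim σ Hm _).1 hx)
  · -- Hermitian case
    have hord : orderOf σ = 2 := by
      apply orderOf_eq_prime
      · rw [pow_two]; exact hσσ
      · exact hσ1
    obtain ⟨l, hl0, hl⟩ := hilbert90_scalar σ (by norm_num : 0 < 2) hord c (by
      rw [Nm_two]; exact hcσ)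
    refine ⟨l • Hm, 1, ?_, ?_, Or.inl rfl, ?_, ?_⟩
    · rw [Matrix.det_smul]
      exact mul_ne_zero (pow_ne_zero _ hl0) hdet
    · have h7 : ((l • Hm).map σ)ᵀ = σ l • (Hm.map σ)ᵀ := by
        ext i j
        simp [Matrix.transpose_apply, Matrix.map_apply]
      rw [h7, hH, smul_smul, one_smul, mul_comm, hl]
    · intro x hx
      obtain ⟨μ, hμ, hsim⟩ := comm_to_sim g₀ x σ hn hx
      exact ⟨μ, hμ, (isSim_smul_iff σ Hm hl0 _ μ).2 hsim⟩
    · intro x hx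
      apply sim_to_comm g₀ x σ one_ne_zero
      exact (isSim_smul_iff σ Hm hl0 _ 1).1 ((isIso_iff_isSim σ _ _).1 hx)

end

section

open Matrix Cfsg.Agent.Lib.H13.AutPSL Cfsg.Agent.Lib.H13.AutPO

variable {n : ℕ} {F : Type*} [Field F] [Fintype F]

theorem zmod2_of_odd_nsmul {k : ℕ} (hk : Odd k) {e : ZMod 2} (h : k • e = 0) : e = 0 := by
  rw [nsmul_eq_mul, (ZMod.natCast_eq_one_iff_odd).2 hk, one_mul] at h
  exact h

/-- the odd core of the centraliser of a graph-type involution is trivial, given the two linear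
algebra inputs -/
theorem graph_pkg (hn : 3 ≤ n) (r : ℕ) [Fact r.Prime] [CharP F r]
    (𝒢 : Subgroup (MulAut (ProjectiveSpecialLinearGroup (Fin n) F)))
    (hinn : ∀ k : ProjectiveSpecialLinearGroup (Fin n) F, MulAut.conj k ∈ 𝒢)
    (β : MulAut (ProjectiveSpecialLinearGroup (Fin n) F)) (σ : F ≃+* F)
    (H : Matrix (Fin n) (Fin n) F)
    (hcomm1 : ∀ x : GL (Fin n) F, cGL x * β = β * cGL x →
      ∃ μ : F, μ ≠ 0 ∧ IsSim σ H (x : Matrix (Fin n) (Fin n) F) μ)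
    (hcomm2 : ∀ x : GL (Fin n) F, IsIso σ H (x : Matrix (Fin n) (Fin n) F) →
      cGL x * β = β * cGL x)
    (core : ∀ 𝒩 : Subgroup (GL (Fin n) F),
      (∀ x ∈ 𝒩, ∃ μ : F, μ ≠ 0 ∧ IsSim σ H (x : Matrix (Fin n) (Fin n) F) μ) →
      (∀ k ∈ isoGrp σ H, ∀ x ∈ 𝒩, k * x * k⁻¹ ∈ 𝒩) → ∀ {m : ℕ}, Odd m →
      (∀ x ∈ 𝒩, ∃ s : F, ((x ^ m : GL (Fin n) F) : Matrix (Fin n) (Fin n) F) = s • 1) →
      ∀ y ∈ 𝒩, ∃ s : F, (y : Matrix (Fin n) (Fin n) F) = s • 1)
    (cent : ∀ (g : GL (Fin n) F) (τ : F ≃+* F),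
      (∀ x ∈ isoGrp σ H, (x : Matrix (Fin n) (Fin n) F).det = 1 →
        ∃ c : F, (g : Matrix (Fin n) (Fin n) F) * (x : Matrix (Fin n) (Fin n) F).map τ =
          c • ((x : Matrix (Fin n) (Fin n) F) * (g : Matrix (Fin n) (Fin n) F))) →
      (∀ s, τ s = s) ∧ ∃ μ : F, (g : Matrix (Fin n) (Fin n) F) = μ • 1) :
    ¬ HasNPC 2 ↥(𝒢 ⊓ Subgroup.centralizer {β}) := by
  have hn2 : 2 ≤ n := by omega
  have hfin : Finite (MulAut (ProjectiveSpecialLinearGroup (Fin n) F)) := inferInstance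
  have hinn' : Cfsg.Inn (ProjectiveSpecialLinearGroup (Fin n) F) ≤ 𝒢 := by
    rintro _ ⟨k, rfl⟩
    exact hinn k
  have hcent_iff : ∀ a : MulAut (ProjectiveSpecialLinearGroup (Fin n) F),
      a ∈ Subgroup.centralizer {β} ↔ a * β = β * a := by
    intro a
    rw [Subgroup.mem_centralizer_iff]
    constructor
    · intro h
      exact (h β rfl).symm
    · rintro h _ rfl
      exact h.symm
  apply lemma_G (Cfsg.Inn (ProjectiveSpecialLinearGroup (Fin n) F))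
    (cGL (n := n) (F := F)).range 𝒢 inn_le_range_cGL hinn' β
  · -- g1
    intro N hN𝒮 hNnorm hNcop
    set 𝒩 : Subgroup (GL (Fin n) F) := N.comap cGL with h𝒩
    have hsim : ∀ x ∈ 𝒩, ∃ μ : F, μ ≠ 0 ∧ IsSim σ H (x : Matrix (Fin n) (Fin n) F) μ := by
      intro x hx
      have h1 : cGL x ∈ N := hx
      exact hcomm1 x ((hcent_iff _).1 (hN𝒮 h1).2)
    have hnormal : ∀ k ∈ isoGrp σ H, ∀ x ∈ 𝒩, k * x * k⁻¹ ∈ 𝒩 := by
      intro k hk x hx
      have h1 : cGL x ∈ N := hx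
      have hk𝒮 : cGL k ∈ (cGL (n := n) (F := F)).range ⊓ Subgroup.centralizer {β} :=
        ⟨⟨k, rfl⟩, (hcent_iff _).2 (hcomm2 k hk)⟩
      have := hNnorm _ hk𝒮 _ h1
      show cGL (k * x * k⁻¹) ∈ N
      rw [map_mul, map_mul, map_inv]
      exact this
    have hm : Odd (Nat.card N) := Nat.Coprime.odd_of_left hNcop.symm
    have hpow : ∀ x ∈ 𝒩, ∃ s : F,
        ((x ^ (Nat.card N) : GL (Fin n) F) : Matrix (Fin n) (Fin n) F) = s • 1 := by
      intro x hx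
      have h1 : cGL x ∈ N := hx
      have h2 : (⟨cGL x, h1⟩ : N) ^ (Nat.card N) = 1 := pow_card_eq_one'
      have h3 : cGL (x ^ (Nat.card N)) = 1 := by
        rw [map_pow]
        exact congrArg Subtype.val h2
      exact smul_of_mem_center (mem_center_of_cGL_eq_one hn2 (hasParPA_of hn2) h3)
    have hall := core 𝒩 hsim hnormal hm hpow
    rw [eq_bot_iff]
    intro ν hν
    obtain ⟨x, rfl⟩ := (hN𝒮 hν).1
    obtain ⟨s, hs⟩ := hall x hν
    rw [Subgroup.mem_bot]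
    exact cGL_eq_one_of_mem_center (mem_center_of_smul hs)
  · -- g2
    intro ρ hρ hodd hcentM
    obtain ⟨g, τ, e, hρe⟩ := exists_form3 hn r ρ
    have he : e = 0 := by
      obtain ⟨k, hk⟩ : ∃ k, k = orderOf ρ := ⟨_, rfl⟩
      have h1 : (psi3 hn r ρ) ^ k = 1 := by
        rw [hk, ← map_pow, pow_orderOf_eq_one, map_one]
      rw [← hk] at hodd
      rw [hρe, psi3_apply] at h1
      have h2 := congrArg Prod.snd h1
      simp only [Prod.pow_snd, Prod.snd_one] at h2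
      have h3 : k • e = 0 := by
        have := congrArg Multiplicative.toAdd h2
        rw [toAdd_pow, toAdd_ofAdd, toAdd_one] at this
        exact this
      exact zmod2_of_odd_nsmul hodd h3
    rw [he, tPow_zero, mul_one] at hρe
    have hcent' : ∀ x ∈ isoGrp σ H, (x : Matrix (Fin n) (Fin n) F).det = 1 →
        ∃ c : F, (g : Matrix (Fin n) (Fin n) F) * (x : Matrix (Fin n) (Fin n) F).map τ =
          c • ((x : Matrix (Fin n) (Fin n) F) * (g : Matrix (Fin n) (Fin n) F)) := by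
      intro x hx hdet
      have hxM : cGL x ∈ Cfsg.Inn (ProjectiveSpecialLinearGroup (Fin n) F) ⊓
          Subgroup.centralizer {β} := by
        refine ⟨?_, (hcent_iff _).2 (hcomm2 x hx)⟩
        obtain ⟨s, hs⟩ : ∃ s : SpecialLinearGroup (Fin n) F,
            (s : Matrix (Fin n) (Fin n) F) = (x : Matrix (Fin n) (Fin n) F) := ⟨⟨_, hdet⟩, rfl⟩
        have h1 : Matrix.SpecialLinearGroup.toGL s = x := Units.ext hs
        rw [← h1, cGL_toGL]
        exact ⟨_, rfl⟩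
      have h2 := hcentM _ hxM
      rw [hρe, mul_assoc, fAut_mul_cGL, ← mul_assoc, ← mul_assoc, ← map_mul, ← map_mul] at h2
      have h3 := mul_right_cancel h2
      obtain ⟨c, -, hc⟩ := cGL_eq_imp hn2 h3
      refine ⟨c, ?_⟩
      rw [Units.val_mul, Units.val_mul] at hc
      exact hc
    obtain ⟨hτ, μ, hμ⟩ := cent g τ hcent'
    have hτ1 : τ = 1 := by
      ext s
      exact hτ s
    rw [hρe, hτ1, map_one, mul_one]
    exact cGL_eq_one_of_mem_center (mem_center_of_smul hμ)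

end

section

open Matrix Cfsg.Agent.Lib.H13.AutPSL Cfsg.Agent.Lib.H13.AutPO

variable {n : ℕ} {F : Type*} [Field F] [Fintype F]

/-- graph and graph-field involutions of `PSL_n(q)`, `q` odd: the odd core of the centraliser is
trivial -/
theorem graph_case (hn : 3 ≤ n) (r : ℕ) [Fact r.Prime] [CharP F r] (h2 : (2 : F) ≠ 0)
    (𝒢 : Subgroup (MulAut (ProjectiveSpecialLinearGroup (Fin n) F)))
    (hinn : ∀ k : ProjectiveSpecialLinearGroup (Fin n) F, MulAut.conj k ∈ 𝒢)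
    (g₀ : GL (Fin n) F) (σ : F ≃+* F) (hsq : (cGL g₀ * gfAut σ) ^ 2 = 1) :
    ¬ HasNPC 2 ↥(𝒢 ⊓ Subgroup.centralizer {cGL g₀ * gfAut σ}) := by
  obtain ⟨hσσ, H, ε, hdet, hH, hε, hc1, hc2⟩ := exists_gram (by omega) g₀ σ hsq
  have hσ : ∀ a, σ (σ a) = a := fun a => RingEquiv.congr_fun hσσ a
  have hcard : 3 ≤ Fintype.card (Fin n) := by rw [Fintype.card_fin]; exact hn
  have hcard2 : 2 ≤ Fintype.card (Fin n) := by omega
  have hz₀ : (Pi.single (⟨0, by omega⟩ : Fin n) (1 : F) : Fin n → F) ≠ 0 := by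
    intro h
    have := congrFun h ⟨0, by omega⟩
    simp at this
  rcases hε with rfl | ⟨rfl, hσ1⟩
  · by_cases hσ1 : σ = 1
    · -- symmetric
      have hσ1' : ∀ a, σ a = a := fun a => by rw [hσ1]; rfl
      have hiso := exists_iso_sym σ H hσ1' hcard
      obtain ⟨ν, hν⟩ := exists_nonsq h2
      apply graph_pkg hn r 𝒢 hinn _ σ H hc1 hc2
      · intro 𝒩 hsim hnormal m hm hpow
        apply core_reduce σ H (fun 𝒩' h𝒩' hnormal' m' hm' hpow' =>
          core_I σ H hσ1' hH hdet h2 hcard hiso hν 𝒩' h𝒩' hnormal' hm' hpow') 𝒩 ?_ hnormal hm hpow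
        intro x hx
        obtain ⟨μ, hμ, hsimx⟩ := hsim x hx
        obtain ⟨s, hs⟩ := hpow x hx
        exact sim_to_iso_bilin σ H hσ1' hdet hz₀ hsimx hm hs
      · intro g τ hcent
        exact T_cent_sym σ H hσ1' hH hdet h2 hcard hiso g τ hcent
    · -- Hermitian
      have hiso := exists_iso_herm σ H hσ hσ1 hH hcard2
      obtain ⟨d₀, hd₀⟩ := exists_not_fixed σ hσ1
      apply graph_pkg hn r 𝒢 hinn _ σ H hc1 hc2
      · intro 𝒩 hsim hnormal m hm hpow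
        apply core_reduce σ H (fun 𝒩' h𝒩' hnormal' m' hm' hpow' =>
          core_herm σ H hσ hH hdet h2 hcard hd₀ hiso 𝒩' h𝒩' hnormal' hm' hpow') 𝒩 ?_ hnormal hm
          hpow
        intro x hx
        obtain ⟨μ, hμ, hsimx⟩ := hsim x hx
        exact sim_to_iso_herm σ H hσ hσ1 hH hdet hz₀ hsimx
      · intro g τ hcent
        exact T_cent_herm σ H hσ hH hdet h2 hcard hd₀ hiso g τ hcent
  · -- alternating
    have hσ1' : ∀ a, σ a = a := fun a => by rw [hσ1]; rfl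
    apply graph_pkg hn r 𝒢 hinn _ σ H hc1 hc2
    · intro 𝒩 hsim hnormal m hm hpow
      apply core_reduce σ H (fun 𝒩' h𝒩' hnormal' m' hm' hpow' =>
        core_alt σ H hσ1' hH hdet h2 hcard 𝒩' h𝒩' hnormal' hm' hpow') 𝒩 ?_ hnormal hm hpow
      intro x hx
      obtain ⟨μ, hμ, hsimx⟩ := hsim x hx
      obtain ⟨s, hs⟩ := hpow x hx
      exact sim_to_iso_bilin σ H hσ1' hdet hz₀ hsimx hm hs
    · intro g τ hcent
      exact T_cent_alt σ H hσ1' hH hdet h2 hcard2 g τ hcent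

end

end Cfsg.Agent.Lib.H13.PSLBal
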