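import Mathlib
import Cfsg.Agent.Lib.H13.PSLBal3
import Cfsg.Agent.Lib.H13.AutPSLCentr
import Cfsg.Agent.Lib.H13.Sp4Balance
import Cfsg.Agent.Lib.H2.PSLSimple

/-!
Local balance in `PSL_n(q)`, part 4 (helper13): the image `Msl` of `SL_n` over the fixed field of a field automorphism, `cent_Msl_le`,
`not_cent_graph`, the abelianisation of `PSL` is an `r`-group (`index_commutator_coprime`), `Msl_card_coprime`,
`coprime_of_Msl_coprime`, `core_fSL`, `field_case` and the general statement `s2686_gen`.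
-/

set_option autoImplicit false
set_option linter.unusedSectionVars false
set_option linter.unusedVariables false
set_option linter.unusedSimpArgs false
set_option linter.deprecated false

namespace Cfsg.Agent.Lib.H13.PSLBal

section

open Matrix Cfsg.Agent.Lib.H13.AutPSL Cfsg.Agent.Lib.H13.AutPO

variable {n : ℕ} {F : Type*} [Field F] (σ : F ≃+* F)

/-- `SL_n(F^σ) → Aut(PSL_n(F))` -/
noncomputable def muSL : SpecialLinearGroup (Fin n) (fixF σ) →*
    MulAut (ProjectiveSpecialLinearGroup (Fin n) F) :=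
  (cGL (n := n) (F := F)).comp ((jF σ).comp Matrix.SpecialLinearGroup.toGL)

theorem muSL_apply (s₀ : SpecialLinearGroup (Fin n) (fixF σ)) :
    muSL σ s₀ = cGL (jF σ (Matrix.SpecialLinearGroup.toGL s₀)) := rfl

/-- the image of `SL_n(F^σ)` in `Aut(PSL_n(F))` -/
noncomputable def Msl : Subgroup (MulAut (ProjectiveSpecialLinearGroup (Fin n) F)) :=
  (muSL (n := n) σ).range

theorem jF_toGL (s₀ : SpecialLinearGroup (Fin n) (fixF σ)) :
    jF σ (Matrix.SpecialLinearGroup.toGL s₀) =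
      Matrix.SpecialLinearGroup.toGL (Matrix.SpecialLinearGroup.map (fixF σ).subtype s₀) := by
  apply Units.ext
  ext i k
  rfl

theorem muSL_eq_conj (s₀ : SpecialLinearGroup (Fin n) (fixF σ)) :
    muSL σ s₀ = MulAut.conj (pr (Matrix.SpecialLinearGroup.map (fixF σ).subtype s₀)) := by
  rw [muSL_apply, jF_toGL, cGL_toGL]

theorem Msl_le_inn : Msl (n := n) σ ≤ Cfsg.Inn (ProjectiveSpecialLinearGroup (Fin n) F) := by
  rintro _ ⟨s₀, rfl⟩
  exact ⟨_, (muSL_eq_conj σ s₀).symm⟩

theorem Msl_le_range : Msl (n := n) σ ≤ ((cGL (n := n) (F := F)).comp (jF σ)).range := by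
  rintro _ ⟨s₀, rfl⟩
  exact ⟨Matrix.SpecialLinearGroup.toGL s₀, rfl⟩

section fin

variable [Fintype F]

theorem Msl_le_cent (hn : 2 ≤ n) {r : ℕ} (hr : 0 < r) (hσ : orderOf σ = r) :
    Msl (n := n) σ ≤ Subgroup.centralizer {fAut σ} := by
  intro μ hμ
  have := Msl_le_range σ hμ
  rw [← centralizer_fAut hn σ hr hσ] at this
  exact this.2

theorem Msl_conj (hn : 2 ≤ n) {r : ℕ} (hr : 0 < r) (hσ : orderOf σ = r)
    (ν : MulAut (ProjectiveSpecialLinearGroup (Fin n) F))
    (hν : ν ∈ (cGL (n := n) (F := F)).range ⊓ Subgroup.centralizer {fAut σ})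
    (μ : MulAut (ProjectiveSpecialLinearGroup (Fin n) F)) (hμ : μ ∈ Msl (n := n) σ) :
    ν * μ * ν⁻¹ ∈ Msl (n := n) σ := by
  rw [centralizer_fAut hn σ hr hσ] at hν
  obtain ⟨g₁, rfl⟩ := hν
  obtain ⟨s₀, rfl⟩ := hμ
  have hdet : ((g₁ : Matrix (Fin n) (Fin n) (fixF σ)) * (s₀ : Matrix (Fin n) (Fin n) (fixF σ)) *
      ((g₁⁻¹ : GL (Fin n) (fixF σ)) : Matrix (Fin n) (Fin n) (fixF σ))).det = 1 := by
    rw [Matrix.det_units_conj, s₀.2]
  obtain ⟨s₁, hs₁⟩ : ∃ s₁ : SpecialLinearGroup (Fin n) (fixF σ),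
      (s₁ : Matrix (Fin n) (Fin n) (fixF σ)) =
        (g₁ : Matrix (Fin n) (Fin n) (fixF σ)) * (s₀ : Matrix (Fin n) (Fin n) (fixF σ)) *
      ((g₁⁻¹ : GL (Fin n) (fixF σ)) : Matrix (Fin n) (Fin n) (fixF σ)) := ⟨⟨_, hdet⟩, rfl⟩
  refine ⟨s₁, ?_⟩
  have h1 : Matrix.SpecialLinearGroup.toGL s₁ =
      g₁ * Matrix.SpecialLinearGroup.toGL s₀ * g₁⁻¹ := by
    apply Units.ext
    rw [Units.val_mul, Units.val_mul]
    exact hs₁
  rw [muSL_apply, h1, muSL_apply, MonoidHom.comp_apply, map_mul, map_mul, map_mul, map_mul,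
    map_inv, map_inv]

/-- the kernel of `muSL` is the centre -/
theorem muSL_eq_one_iff (hn : 2 ≤ n) (s₀ : SpecialLinearGroup (Fin n) (fixF σ)) :
    muSL σ s₀ = 1 ↔ s₀ ∈ Subgroup.center (SpecialLinearGroup (Fin n) (fixF σ)) := by
  have h1 : muSL σ s₀ = 1 ↔ Matrix.SpecialLinearGroup.toGL s₀ ∈
      ((cGL (n := n) (F := F)).comp (jF σ)).ker := by
    rw [MonoidHom.mem_ker]
    rfl
  rw [h1, ker_cGL_jF hn σ]
  constructor
  · intro h
    rw [Subgroup.mem_center_iff]
    intro t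
    have h2 := Subgroup.mem_center_iff.1 h (Matrix.SpecialLinearGroup.toGL t)
    rw [← map_mul, ← map_mul] at h2
    apply Subtype.ext
    have h3 := congrArg (fun y : GL (Fin n) (fixF σ) =>
      (y : Matrix (Fin n) (Fin n) (fixF σ))) h2
    exact h3
  · intro h
    obtain ⟨c, -, hc⟩ := Matrix.SpecialLinearGroup.mem_center_iff.1 h
    apply mem_center_of_smul (s := c)
    show (s₀ : Matrix (Fin n) (Fin n) (fixF σ)) = c • 1
    rw [← hc, Matrix.scalar_apply, Matrix.smul_one_eq_diagonal]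

theorem Msl_ne_bot (hn : 2 ≤ n) : Msl (n := n) σ ≠ ⊥ := by
  intro h
  have h01 : (⟨0, by omega⟩ : Fin n) ≠ ⟨1, by omega⟩ := by
    intro h'
    have := congrArg Fin.val h'
    simp at this
  have h1 : muSL σ (Matrix.SpecialLinearGroup.transvection h01 (1 : fixF σ)) ∈ Msl (n := n) σ :=
    ⟨_, rfl⟩
  rw [h, Subgroup.mem_bot, muSL_eq_one_iff σ hn,
    Matrix.SpecialLinearGroup.transvection_mem_center_iff] at h1
  exact one_ne_zero h1

end fin

end

section

open Matrix

section general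

variable {K : Type*} [Field K] {ι : Type*} [Fintype ι] [DecidableEq ι]

/-- the transvection matrix `v ↦ v + ψ(v) a` -/
def tvF (a ψ : ι → K) : Matrix ι ι K := 1 + vecMulVec a ψ

theorem tvF_mulVec (a ψ v : ι → K) : tvF a ψ *ᵥ v = v + (ψ ⬝ᵥ v) • a := by
  unfold tvF
  rw [Matrix.add_mulVec, Matrix.one_mulVec, Matrix.vecMulVec_mulVec, op_smul_eq_smul]

theorem det_tvF {a ψ : ι → K} (h : ψ ⬝ᵥ a = 0) : (tvF a ψ).det = 1 := by
  unfold tvF
  rw [Matrix.vecMulVec_eq Unit, Matrix.det_one_add_replicateCol_mul_replicateRow, h, add_zero]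

/-- a semilinear map normalising (projectively) a transvection with centre `a` preserves the
line of `a` -/
theorem T_tvF {a ψ : ι → K} (ha : ψ ⬝ᵥ a = 0) (hψ : ψ ≠ 0) (g : GL ι K) (τ : K ≃+* K) {c : K}
    (h : (g : Matrix ι ι K) * (tvF a ψ).map τ = c • (tvF a ψ * (g : Matrix ι ι K))) :
    ∃ μ : K, semi g τ a = μ • a := by
  by_cases ha0 : a = 0
  · refine ⟨0, ?_⟩
    rw [ha0, zero_smul]
    unfold semi
    rw [vmap_zero, Matrix.mulVec_zero]
  have hS := semi_comm h
  obtain ⟨w, hw⟩ : ∃ w, w = semi g τ a := ⟨_, rfl⟩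
  have hw0 : w ≠ 0 := by rw [hw]; exact semi_ne_zero g τ ha0
  have hxa : tvF a ψ *ᵥ a = a := by
    rw [tvF_mulVec, ha, zero_smul, add_zero]
  have h1 := hS a
  rw [hxa, ← hw, tvF_mulVec] at h1
  have hc1 : c = 1 := by
    have h2 := congrArg (fun u => ψ ⬝ᵥ u) h1
    simp only [dotProduct_smul, dotProduct_add, ha, smul_eq_mul, mul_zero, add_zero] at h2
    have h3 : (1 - c) * (ψ ⬝ᵥ w) = 0 := by linear_combination h2
    rcases mul_eq_zero.1 h3 with h' | h'
    · linear_combination -h'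
    · rw [h', zero_smul, add_zero] at h1
      have h4 : (1 - c) • w = 0 := by
        rw [sub_smul, one_smul, ← h1, sub_self]
      rcases smul_eq_zero.1 h4 with h5 | h5
      · linear_combination -h5
      · exact absurd h5 hw0
  obtain ⟨v, hv⟩ : ∃ v : ι → K, ψ ⬝ᵥ v ≠ 0 := by
    by_contra hcon
    push Not at hcon
    apply hψ
    ext i
    have := hcon (Pi.single i 1)
    rw [dotProduct_single_one] at this
    exact this
  have h2 := hS v
  rw [hc1, one_smul, tvF_mulVec, tvF_mulVec, semi_add, semi_smul, ← hw] at h2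
  have h3 : τ (ψ ⬝ᵥ v) • w = (ψ ⬝ᵥ semi g τ v) • a := add_left_cancel h2
  have hne : τ (ψ ⬝ᵥ v) ≠ 0 := (map_ne_zero_iff τ τ.injective).2 hv
  refine ⟨(τ (ψ ⬝ᵥ v))⁻¹ * (ψ ⬝ᵥ semi g τ v), ?_⟩
  rw [← hw, ← smul_smul, ← h3, smul_smul, inv_mul_cancel₀ hne, one_smul]

/-- a semilinear map normalising every element of `SL` projectively is a scalar -/
theorem T_cent_SL (hn : 2 ≤ Fintype.card ι) (g : GL ι K) (τ : K ≃+* K)
    (hcent : ∀ x : Matrix ι ι K, x.det = 1 →
      ∃ c : K, (g : Matrix ι ι K) * x.map τ = c • (x * (g : Matrix ι ι K))) :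
    (∀ s, τ s = s) ∧ ∃ μ : K, (g : Matrix ι ι K) = μ • 1 := by
  apply lemma_L hn g τ
  intro a
  obtain ⟨ψ, hψ0, hψ⟩ := exists_ne_zero_forall_dot_eq_zero (F := K) (ι := ι) (k := 1)
    ![a] (by omega)
  have ha : ψ ⬝ᵥ a = 0 := by
    have := hψ 0
    simp only [Matrix.cons_val_zero] at this
    rw [dotProduct_comm]
    exact this
  obtain ⟨c, hc⟩ := hcent (tvF a ψ) (det_tvF ha)
  exact T_tvF ha hψ0 g τ hc

end general

end

section

open Matrix Cfsg.Agent.Lib.H13.AutPSL Cfsg.Agent.Lib.H13.AutPO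

variable {n : ℕ} {F : Type*} [Field F] (σ : F ≃+* F)

theorem one_add_single_mulVec {K : Type*} [Field K] (i j : Fin n) (c : K) (w : Fin n → K) :
    (1 + Matrix.single i j c) *ᵥ w = w + (c * w j) • Pi.single i 1 := by
  ext a
  rw [Matrix.add_mulVec, Matrix.one_mulVec, Pi.add_apply, Pi.add_apply, Pi.smul_apply,
    smul_eq_mul]
  congr 1
  simp only [Matrix.mulVec, dotProduct, Matrix.single_apply]
  by_cases ha : i = a
  · subst ha
    simp
  · simp [ha, Pi.single_eq_of_ne (Ne.symm ha)]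

theorem jF_transvection_coe {i j : Fin n} (h : i ≠ j) (c : fixF σ) :
    ((jF σ (Matrix.SpecialLinearGroup.toGL (Matrix.SpecialLinearGroup.transvection h c)) :
      GL (Fin n) F) : Matrix (Fin n) (Fin n) F) = 1 + Matrix.single i j (c : F) := by
  ext a b
  rw [jF_coe]
  show (((Matrix.SpecialLinearGroup.transvection h c : SpecialLinearGroup (Fin n) (fixF σ)) :
    Matrix (Fin n) (Fin n) (fixF σ)) a b : F) = _
  rw [Matrix.SpecialLinearGroup.transvection_coe, Matrix.add_apply, Matrix.add_apply,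
    Matrix.one_apply, Matrix.one_apply, Matrix.single_apply, Matrix.single_apply]
  split_ifs <;> simp

theorem gmap_jF_res (τ : F ≃+* F) (hc : ∀ x, τ (σ x) = σ (τ x)) (x : GL (Fin n) (fixF σ)) :
    gmap τ (jF σ x) =
      jF σ (Matrix.GeneralLinearGroup.map ((resF σ τ hc : fixF σ ≃+* fixF σ) : fixF σ →+* fixF σ)
        x) := by
  apply Units.ext
  ext i k
  rfl

section fin

variable [Fintype F]

/-- a graph-type automorphism does not centralise the image of `SL_n` over the fixed field -/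
theorem not_cent_graph (hn : 3 ≤ n) (g : GL (Fin n) F) (τ : F ≃+* F)
    (hρM : ∀ μ ∈ Msl (n := n) σ, (cGL g * fAut τ * tAut) * μ = μ * (cGL g * fAut τ * tAut)) :
    False := by
  have hn2 : 2 ≤ n := by omega
  obtain ⟨i₀, hi₀⟩ : ∃ i₀ : Fin n, i₀ = ⟨0, by omega⟩ := ⟨_, rfl⟩
  -- the key consequence of commuting with a transvection
  have key : ∀ j : Fin n, i₀ ≠ j → ∀ k : Fin n, k ≠ i₀ →
      ((g : Matrix (Fin n) (Fin n) F) *ᵥ Pi.single k 1) j = 0 := by
    intro j hj k hk
    set X : GL (Fin n) F := jF σ (Matrix.SpecialLinearGroup.toGL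
      (Matrix.SpecialLinearGroup.transvection hj (1 : fixF σ))) with hX
    have h1 := hρM (muSL σ (Matrix.SpecialLinearGroup.transvection hj (1 : fixF σ))) ⟨_, rfl⟩
    rw [muSL_apply, ← hX] at h1
    have h2 : cGL (g * gmap τ (tGL X)) * (fAut τ * tAut) = cGL (X * g) * (fAut τ * tAut) := by
      calc cGL (g * gmap τ (tGL X)) * (fAut τ * tAut)
          = cGL g * (cGL (gmap τ (tGL X)) * fAut τ) * tAut := by
            rw [map_mul]; simp only [mul_assoc]
        _ = cGL g * (fAut τ * cGL (tGL X)) * tAut := by rw [fAut_mul_cGL]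
        _ = cGL g * fAut τ * (cGL (tGL X) * tAut) := by simp only [mul_assoc]
        _ = cGL g * fAut τ * (tAut * cGL X) := by rw [tAut_mul_cGL']
        _ = (cGL g * fAut τ * tAut) * cGL X := by simp only [mul_assoc]
        _ = cGL X * (cGL g * fAut τ * tAut) := h1
        _ = cGL (X * g) * (fAut τ * tAut) := by rw [map_mul]; simp only [mul_assoc]
    obtain ⟨c, hc0, hc⟩ := cGL_eq_imp hn2 (mul_right_cancel h2)
    rw [Units.val_mul, Units.val_mul, gmap_coe, tGL_coe] at hc
    -- the inverse of X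
    have hXinv : ((X⁻¹ : GL (Fin n) F) : Matrix (Fin n) (Fin n) F) =
        1 + Matrix.single i₀ j ((-1 : fixF σ) : F) := by
      rw [hX, ← map_inv, ← map_inv, Matrix.SpecialLinearGroup.transvection_inv,
        jF_transvection_coe]
    have hXc : (X : Matrix (Fin n) (Fin n) F) = 1 + Matrix.single i₀ j ((1 : fixF σ) : F) := by
      rw [hX, jF_transvection_coe]
    -- claim A
    have hA : ((((X⁻¹ : GL (Fin n) F) : Matrix (Fin n) (Fin n) F))ᵀ.map τ) *ᵥ Pi.single k 1 =
        Pi.single k 1 := by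
      ext a
      rw [Matrix.mulVec_single_one]
      show τ ((((X⁻¹ : GL (Fin n) F) : Matrix (Fin n) (Fin n) F)) k a) = _
      rw [hXinv, Matrix.add_apply, Matrix.single_apply, if_neg (fun h => hk h.1.symm), add_zero,
        Matrix.one_apply]
      by_cases hka : k = a
      · subst hka; simp
      · rw [if_neg hka, map_zero, Pi.single_eq_of_ne (Ne.symm hka)]
    have h3 := congrArg (fun M => M *ᵥ (Pi.single k (1 : F))) hc
    simp only [← Matrix.mulVec_mulVec, hA, Matrix.smul_mulVec] at h3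
    rw [hXc, one_add_single_mulVec] at h3
    set w := (g : Matrix (Fin n) (Fin n) F) *ᵥ Pi.single k 1 with hw
    have e1 := congrFun h3 j
    simp only [Pi.smul_apply, Pi.add_apply, smul_eq_mul, Pi.single_eq_of_ne (Ne.symm hj),
      mul_zero, add_zero] at e1
    by_cases hc1 : c = 1
    · rw [hc1, one_smul] at h3
      have e2 := congrFun h3 i₀
      simp only [Pi.smul_apply, Pi.add_apply, smul_eq_mul, Pi.single_eq_same, mul_one] at e2
      have : ((1 : fixF σ) : F) * w j = 0 := by linear_combination -e2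
      simpa using this
    · have : (1 - c) * w j = 0 := by linear_combination e1
      rcases mul_eq_zero.1 this with h | h
      · exact absurd (by linear_combination -h) hc1
      · exact h
  -- the columns 1 and 2 are multiples of e₀
  obtain ⟨k₁, hk₁⟩ : ∃ k₁ : Fin n, k₁ = ⟨1, by omega⟩ := ⟨_, rfl⟩
  obtain ⟨k₂, hk₂⟩ : ∃ k₂ : Fin n, k₂ = ⟨2, by omega⟩ := ⟨_, rfl⟩
  have h10 : k₁ ≠ i₀ := by
    rw [hk₁, hi₀]; intro h; have := congrArg Fin.val h; simp at this
  have h20 : k₂ ≠ i₀ := by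
    rw [hk₂, hi₀]; intro h; have := congrArg Fin.val h; simp at this
  have h12 : k₁ ≠ k₂ := by
    rw [hk₁, hk₂]; intro h; have := congrArg Fin.val h; simp at this
  have hcol : ∀ k : Fin n, k ≠ i₀ → (g : Matrix (Fin n) (Fin n) F) *ᵥ Pi.single k 1 =
      (((g : Matrix (Fin n) (Fin n) F) *ᵥ Pi.single k 1) i₀) • Pi.single i₀ 1 := by
    intro k hk
    ext a
    by_cases ha : a = i₀
    · subst ha; simp
    · rw [key a (Ne.symm ha) k hk, Pi.smul_apply, Pi.single_eq_of_ne ha, smul_zero]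
  set a := ((g : Matrix (Fin n) (Fin n) F) *ᵥ Pi.single k₁ 1) i₀
  set b := ((g : Matrix (Fin n) (Fin n) F) *ᵥ Pi.single k₂ 1) i₀
  have h4 : (g : Matrix (Fin n) (Fin n) F) *ᵥ (b • Pi.single k₁ 1 - a • Pi.single k₂ 1) = 0 := by
    rw [Matrix.mulVec_sub, Matrix.mulVec_smul, Matrix.mulVec_smul, hcol k₁ h10, hcol k₂ h20,
      smul_smul, smul_smul, mul_comm, sub_self]
  have h5 : b • (Pi.single k₁ (1 : F) : Fin n → F) - a • Pi.single k₂ 1 = 0 := by
    by_contra hne
    exact gl_mulVec_ne_zero g hne h4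
  have h6 := congrFun h5 k₁
  simp only [Pi.sub_apply, Pi.smul_apply, Pi.single_eq_same, Pi.single_eq_of_ne h12, smul_eq_mul,
    mul_one, mul_zero, sub_zero, Pi.zero_apply] at h6
  have h7 := congrFun h5 k₂
  simp only [Pi.sub_apply, Pi.smul_apply, Pi.single_eq_same, Pi.single_eq_of_ne (Ne.symm h12),
    smul_eq_mul, mul_one, mul_zero, zero_sub, Pi.zero_apply, neg_eq_zero] at h7
  have h8 := hcol k₁ h10
  rw [show ((g : Matrix (Fin n) (Fin n) F) *ᵥ Pi.single k₁ 1) i₀ = a from rfl, h7, zero_smul] at h8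
  exact gl_mulVec_ne_zero g (by
    intro h
    have := congrFun h k₁
    simp at this) h8

end fin

end

section

open Matrix Cfsg.Agent.Lib.H13.AutPSL Cfsg.Agent.Lib.H13.AutPO

variable {n : ℕ} {F : Type*} [Field F] [Fintype F] (σ : F ≃+* F)

theorem cent_Msl_le_aux (hn : 2 ≤ n) (r : ℕ) [Fact r.Prime] [CharP F r] {p : ℕ} (hp : 0 < p)
    (hσ : orderOf σ = p) (g : GL (Fin n) F) (τ : F ≃+* F)
    (hρφ : (cGL g * fAut τ) * fAut σ = fAut σ * (cGL g * fAut τ))
    (hρM : ∀ μ ∈ Msl (n := n) σ, (cGL g * fAut τ) * μ = μ * (cGL g * fAut τ)) :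
    cGL g * fAut τ ∈ Subgroup.zpowers (fAut (n := n) σ) := by
  obtain ⟨f, -, hF⟩ := FiniteField.card F r
  have hcomm : σ * τ = τ * σ := ringAut_comm (p := r) hF σ τ
  have hc : ∀ x, τ (σ x) = σ (τ x) := fun x => (RingEquiv.congr_fun hcomm x).symm
  have hstd : fAut (n := n) τ * fAut σ = fAut σ * fAut τ := by
    rw [← map_mul, ← map_mul, hcomm]
  have hgφ : cGL g * fAut σ = fAut σ * cGL g := by
    have h1 : cGL g * fAut σ * fAut τ = fAut σ * cGL g * fAut τ := by
      calc cGL g * fAut σ * fAut τ = cGL g * (fAut τ * fAut σ) := by rw [hstd, mul_assoc]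
        _ = (cGL g * fAut τ) * fAut σ := by rw [mul_assoc]
        _ = fAut σ * (cGL g * fAut τ) := hρφ
        _ = _ := by rw [mul_assoc]
    exact mul_right_cancel h1
  have hmem : cGL g ∈ (cGL (n := n) (F := F)).range ⊓ Subgroup.centralizer {fAut σ} := by
    refine ⟨⟨g, rfl⟩, ?_⟩
    show _ ∈ Subgroup.centralizer {fAut σ}
    rw [Subgroup.mem_centralizer_iff]
    intro h hh
    rw [Set.mem_singleton_iff] at hh
    subst hh
    exact hgφ.symm
  rw [centralizer_fAut hn σ hp hσ] at hmem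
  obtain ⟨g₁, hg₁⟩ := hmem
  rw [MonoidHom.comp_apply] at hg₁
  set τ₀ := resF σ τ hc with hτ₀def
  have hcent : ∀ x : Matrix (Fin n) (Fin n) (fixF σ), x.det = 1 →
      ∃ c : fixF σ, (g₁ : Matrix (Fin n) (Fin n) (fixF σ)) * x.map τ₀ =
        c • (x * (g₁ : Matrix (Fin n) (Fin n) (fixF σ))) := by
    intro x hx
    obtain ⟨s₀, hs₀⟩ : ∃ s₀ : SpecialLinearGroup (Fin n) (fixF σ),
      (s₀ : Matrix (Fin n) (Fin n) (fixF σ)) = x := ⟨⟨_, hx⟩, rfl⟩
    have h1 := hρM _ ⟨s₀, rfl⟩
    rw [muSL_apply, ← hg₁, mul_assoc, fAut_mul_cGL, ← mul_assoc, ← mul_assoc,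
      gmap_jF_res σ τ hc] at h1
    have h2 := mul_right_cancel h1
    rw [← map_mul, ← map_mul, ← map_mul, ← map_mul] at h2
    have h4 : (Matrix.SpecialLinearGroup.toGL s₀ * g₁)⁻¹ *
        (g₁ * Matrix.GeneralLinearGroup.map ((τ₀ : fixF σ ≃+* fixF σ) : fixF σ →+* fixF σ)
          (Matrix.SpecialLinearGroup.toGL s₀)) ∈
        ((cGL (n := n) (F := F)).comp (jF σ)).ker := by
      rw [MonoidHom.mem_ker, map_mul, map_inv, MonoidHom.comp_apply, MonoidHom.comp_apply, h2,
        inv_mul_cancel]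
    rw [ker_cGL_jF hn σ] at h4
    obtain ⟨c, hc'⟩ := smul_of_mem_center h4
    refine ⟨c, ?_⟩
    have h6 : (Matrix.SpecialLinearGroup.toGL s₀ * g₁) *
        ((Matrix.SpecialLinearGroup.toGL s₀ * g₁)⁻¹ *
        (g₁ * Matrix.GeneralLinearGroup.map ((τ₀ : fixF σ ≃+* fixF σ) : fixF σ →+* fixF σ)
          (Matrix.SpecialLinearGroup.toGL s₀))) =
        g₁ * Matrix.GeneralLinearGroup.map ((τ₀ : fixF σ ≃+* fixF σ) : fixF σ →+* fixF σ)
          (Matrix.SpecialLinearGroup.toGL s₀) := mul_inv_cancel_left _ _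
    have h7 := congrArg (fun y : GL (Fin n) (fixF σ) =>
      (y : Matrix (Fin n) (Fin n) (fixF σ))) h6
    simp only [Units.val_mul] at h7
    rw [← Units.val_mul, ← Units.val_mul, ← Units.val_mul] at h7
    rw [hc'] at h7
    rw [← hs₀]
    have h8 : ((Matrix.GeneralLinearGroup.map ((τ₀ : fixF σ ≃+* fixF σ) : fixF σ →+* fixF σ)
        (Matrix.SpecialLinearGroup.toGL s₀) : GL (Fin n) (fixF σ)) :
        Matrix (Fin n) (Fin n) (fixF σ)) =
        (s₀ : Matrix (Fin n) (Fin n) (fixF σ)).map τ₀ := rfl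
    rw [Units.val_mul, Units.val_mul, h8, Matrix.mul_smul, Matrix.mul_one] at h7
    exact h7.symm
  have hcard : 2 ≤ Fintype.card (Fin n) := by rw [Fintype.card_fin]; exact hn
  obtain ⟨hτ₀, μ, hμ⟩ := T_cent_SL hcard g₁ τ₀ hcent
  have hτ₀1 : resF σ τ hc = RingEquiv.refl _ := by
    ext s
    exact congrArg Subtype.val (hτ₀ s)
  have hτmem : τ ∈ Subgroup.zpowers σ :=
    mem_zpowers_of_fix σ τ (fun x hx => fix_of_resF_refl σ τ hc hτ₀1 x hx)
  have hg1 : cGL g = 1 := by
    rw [← hg₁]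
    apply cGL_eq_one_of_mem_center
    apply mem_center_of_smul (s := (μ : F))
    ext i k
    rw [jF_coe, hμ, Matrix.smul_apply, Matrix.smul_apply, Matrix.one_apply, Matrix.one_apply]
    by_cases hik : i = k
    · simp [hik]
    · simp [hik]
  rw [hg1, one_mul, ← MonoidHom.map_zpowers]
  exact Subgroup.mem_map_of_mem _ hτmem

/-- an automorphism commuting with the standard field automorphism `φ` of `σ` and centralising
the image of `SL_n` over the fixed field is a power of `φ` -/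
theorem cent_Msl_le (hn : 2 ≤ n) (r : ℕ) [Fact r.Prime] [CharP F r] {p : ℕ} (hp : 0 < p)
    (hσ : orderOf σ = p) (ρ : MulAut (ProjectiveSpecialLinearGroup (Fin n) F))
    (hρφ : ρ * fAut σ = fAut σ * ρ)
    (hρM : ∀ μ ∈ Msl (n := n) σ, ρ * μ = μ * ρ) :
    ρ ∈ Subgroup.zpowers (fAut (n := n) σ) := by
  by_cases h3 : 3 ≤ n
  · obtain ⟨g, τ, e, rfl⟩ := exists_form3 h3 r ρ
    by_cases he : e = 0
    · rw [he, tPow_zero, mul_one] at hρφ hρM ⊢
      exact cent_Msl_le_aux σ hn r hp hσ g τ hρφ hρM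
    · exfalso
      rw [tPow_of_ne he] at hρM
      exact not_cent_graph σ h3 g τ hρM
  · have h2 : n = 2 := by omega
    subst h2
    obtain ⟨g, τ, rfl⟩ := exists_form2 r ρ
    exact cent_Msl_le_aux σ hn r hp hσ g τ hρφ hρM

end

section

open Matrix Cfsg.Agent.Lib.H13.AutPSL Cfsg.Agent.Lib.H13.AutPO
open scoped LinearAlgebra.Projectivization

section rgroup

variable {ι : Type*} [DecidableEq ι] [Fintype ι] {K : Type*} [Field K]

theorem transvection_pow {i j : ι} (h : i ≠ j) (c : K) (k : ℕ) :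
    (Matrix.SpecialLinearGroup.transvection h c) ^ k =
      Matrix.SpecialLinearGroup.transvection h (k • c) := by
  induction k with
  | zero => rw [pow_zero, zero_smul, Matrix.SpecialLinearGroup.transvection_coeff_zero]
  | succ k ih =>
    rw [pow_succ, ih, ← Matrix.SpecialLinearGroup.transvection_add, succ_nsmul]

/-- the abelianisation of `PSL` over a field of characteristic `r` has exponent `r` -/
theorem abel_pow_eq_one [Nontrivial ι] (r : ℕ) [CharP K r]
    (q : Abelianization (Matrix.ProjectiveSpecialLinearGroup ι K)) : q ^ r = 1 := by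
  obtain ⟨y, rfl⟩ := QuotientGroup.mk_surjective q
  obtain ⟨s, rfl⟩ := QuotientGroup.mk_surjective y
  show (Abelianization.of (QuotientGroup.mk s : Matrix.ProjectiveSpecialLinearGroup ι K)) ^ r = 1
  refine Cfsg.Agent.Lib.H2.SL_transvection_induction
    (fun s => (Abelianization.of (QuotientGroup.mk s :
      Matrix.ProjectiveSpecialLinearGroup ι K)) ^ r = 1) ?_ ?_ s
  · intro i j h c
    show (Abelianization.of (QuotientGroup.mk (Matrix.SpecialLinearGroup.transvection h c) :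
      Matrix.ProjectiveSpecialLinearGroup ι K)) ^ r = 1
    rw [← map_pow, ← QuotientGroup.mk_pow, transvection_pow, nsmul_eq_mul,
      CharP.cast_eq_zero, zero_mul, Matrix.SpecialLinearGroup.transvection_coeff_zero]
    exact map_one _
  · intro A B hA hB
    show (Abelianization.of (QuotientGroup.mk (A * B) :
      Matrix.ProjectiveSpecialLinearGroup ι K)) ^ r = 1
    rw [QuotientGroup.mk_mul, map_mul, mul_pow, hA, hB, one_mul]

theorem index_commutator_coprime [Nontrivial ι] [Finite K] (r : ℕ) [Fact r.Prime] [CharP K r]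
    {p : ℕ} (hp : p.Prime) (hpr : p ≠ r) :
    ((commutator (Matrix.ProjectiveSpecialLinearGroup ι K)).index).Coprime p := by
  have := Fintype.ofFinite K
  rw [Nat.coprime_comm, Nat.Prime.coprime_iff_not_dvd hp]
  intro hdvd
  have hcard : (commutator (Matrix.ProjectiveSpecialLinearGroup ι K)).index =
      Nat.card (Abelianization (Matrix.ProjectiveSpecialLinearGroup ι K)) := rfl
  rw [hcard] at hdvd
  haveI : Fact p.Prime := ⟨hp⟩
  obtain ⟨q, hq⟩ := exists_prime_orderOf_dvd_card' p hdvd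
  have h1 := orderOf_dvd_of_pow_eq_one (abel_pow_eq_one (ι := ι) (K := K) r q)
  rw [hq] at h1
  exact hpr ((Nat.prime_dvd_prime_iff_eq hp (Fact.out : r.Prime)).1 h1)

end rgroup

end

section

open Matrix Cfsg.Agent.Lib.H13.AutPSL Cfsg.Agent.Lib.H13.AutPO
open scoped LinearAlgebra.Projectivization

variable {n : ℕ} {F : Type*} [Field F] [Fintype F] (σ : F ≃+* F)

/-- `PSL_n(F^σ) → Aut(PSL_n(F))` -/
noncomputable def muP (hn : 2 ≤ n) : ProjectiveSpecialLinearGroup (Fin n) (fixF σ) →*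
    MulAut (ProjectiveSpecialLinearGroup (Fin n) F) :=
  QuotientGroup.lift _ (muSL σ) (fun s hs => MonoidHom.mem_ker.2 ((muSL_eq_one_iff σ hn s).2 hs))

theorem muP_mk (hn : 2 ≤ n) (s : SpecialLinearGroup (Fin n) (fixF σ)) :
    muP σ hn (QuotientGroup.mk s) = muSL σ s := rfl

theorem muP_mem (hn : 2 ≤ n) (y : ProjectiveSpecialLinearGroup (Fin n) (fixF σ)) :
    muP σ hn y ∈ Msl (n := n) σ := by
  obtain ⟨s, rfl⟩ := QuotientGroup.mk_surjective y
  exact ⟨s, rfl⟩

/-- a nontrivial normal subgroup of `M` of order prime to `p` forces `M` to have order prime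
to `p` -/
theorem Msl_card_coprime (hn : 2 ≤ n) (r : ℕ) [Fact r.Prime] [CharP F r] {p : ℕ}
    (hp : p.Prime) (hpr : p ≠ r)
    (N' : Subgroup (MulAut (ProjectiveSpecialLinearGroup (Fin n) F)))
    (hN'M : N' ≤ Msl (n := n) σ)
    (hnorm : ∀ μ ∈ Msl (n := n) σ, ∀ ν ∈ N', μ * ν * μ⁻¹ ∈ N') (hne : N' ≠ ⊥)
    (hcop : (Nat.card N').Coprime p) : (Nat.card ↥(Msl (n := n) σ)).Coprime p := by
  classical
  haveI : Nontrivial (Fin n) := Fin.nontrivial_iff_two_le.2 hn
  set P₀ := ProjectiveSpecialLinearGroup (Fin n) (fixF σ) with hP₀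
  set Nh : Subgroup P₀ := N'.comap (muP σ hn) with hNh
  haveI hNhn : Nh.Normal := by
    constructor
    intro x hx y
    rw [hNh, Subgroup.mem_comap] at hx ⊢
    rw [map_mul, map_mul, map_inv]
    exact hnorm _ (muP_mem σ hn y) _ hx
  have hidx : Nat.card ↥(Msl (n := n) σ) = Nat.card N' * Nh.index := by
    set f : P₀ →* ↥(Msl (n := n) σ) := (muP σ hn).codRestrict (Msl (n := n) σ) (muP_mem σ hn)
      with hf
    have hfs : Function.Surjective f := by
      rintro ⟨μ, s, rfl⟩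
      exact ⟨QuotientGroup.mk s, rfl⟩
    have h1 : Nh = (N'.subgroupOf (Msl (n := n) σ)).comap f := by
      ext x
      rfl
    rw [h1, Subgroup.index_comap_of_surjective _ hfs,
      ← Nat.card_congr (Subgroup.subgroupOfEquivOfLe hN'M).toEquiv]
    exact (Subgroup.card_mul_index _).symm
  by_cases hfix : MulAction.fixedPoints Nh (ℙ (fixF σ) (Fin n → fixF σ)) = Set.univ
  · exfalso
    apply hne
    rw [eq_bot_iff]
    intro ν hν
    obtain ⟨s₀, rfl⟩ := hN'M hν
    rw [Subgroup.mem_bot]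
    have hmem : (QuotientGroup.mk s₀ : P₀) ∈ Nh := hν
    have h1 : (QuotientGroup.mk s₀ : P₀) = 1 := by
      apply FaithfulSMul.eq_of_smul_eq_smul (α := ℙ (fixF σ) (Fin n → fixF σ))
      intro pt
      rw [one_smul]
      have : pt ∈ MulAction.fixedPoints Nh (ℙ (fixF σ) (Fin n → fixF σ)) := by
        rw [hfix]; exact Set.mem_univ _
      exact this ⟨_, hmem⟩
    rw [← muP_mk σ hn, h1, map_one]
  · have hcomm : commutator P₀ ≤ Nh :=
      MulAction.IwasawaStructure.commutator_le Cfsg.Agent.Lib.H2.PSLIwasawa Nh hfix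
    have hdvd : Nh.index ∣ (commutator P₀).index := Subgroup.index_dvd_of_le hcomm
    rw [hidx]
    apply Nat.Coprime.mul_left hcop
    exact Nat.Coprime.coprime_dvd_left hdvd (index_commutator_coprime r hp hpr)

end

section

open Matrix Cfsg.Agent.Lib.H13.AutPSL Cfsg.Agent.Lib.H13.AutPO

variable {n : ℕ} {F : Type*} [Field F] [Fintype F] (σ : F ≃+* F)

theorem dvd_card_Msl_of (hn : 2 ≤ n) {p : ℕ} (hp : p.Prime)
    (s : SpecialLinearGroup (Fin n) (fixF σ))
    (h1 : s ^ p ∈ Subgroup.center (SpecialLinearGroup (Fin n) (fixF σ)))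
    (h2 : s ∉ Subgroup.center (SpecialLinearGroup (Fin n) (fixF σ))) :
    p ∣ Nat.card ↥(Msl (n := n) σ) := by
  haveI : Fact p.Prime := ⟨hp⟩
  have h3 : orderOf (⟨muSL σ s, ⟨s, rfl⟩⟩ : ↥(Msl (n := n) σ)) = p := by
    apply orderOf_eq_prime
    · apply Subtype.ext
      show (muSL σ s) ^ p = 1
      rw [← map_pow, muSL_eq_one_iff σ hn]
      exact h1
    · intro h
      apply h2
      rw [← muSL_eq_one_iff σ hn]
      exact congrArg Subtype.val h
  rw [← h3]
  exact orderOf_dvd_natCard _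

/-- the torus element `diag(a, a⁻¹, 1, …, 1)` -/
theorem exists_torus (hn : 2 ≤ n) (K : Type*) [Field K] (a : Kˣ) :
    ∃ s : SpecialLinearGroup (Fin n) K, (s : Matrix (Fin n) (Fin n) K) =
      Matrix.diagonal (fun k => Function.update (1 : Fin n → K) ⟨0, by omega⟩ (a : K) k *
        Function.update (1 : Fin n → K) ⟨1, by omega⟩ ((a⁻¹ : Kˣ) : K) k) := by
  have hdet : (Matrix.diagonal (fun k => Function.update (1 : Fin n → K) ⟨0, by omega⟩ (a : K) k *
        Function.update (1 : Fin n → K) ⟨1, by omega⟩ ((a⁻¹ : Kˣ) : K) k)).det = 1 := by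
    rw [Matrix.det_diagonal, Finset.prod_mul_distrib,
      Finset.prod_update_of_mem (Finset.mem_univ _),
      Finset.prod_update_of_mem (Finset.mem_univ _)]
    simp
  exact ⟨⟨_, hdet⟩, rfl⟩

theorem coprime_of_Msl_coprime (hn : 2 ≤ n) (r : ℕ) [Fact r.Prime] [CharP F r] {p : ℕ}
    (hp : p.Prime) (hpr : p ≠ r) (hσ : orderOf σ = p)
    (hM : (Nat.card ↥(Msl (n := n) σ)).Coprime p) :
    (Nat.card ↥(Cfsg.Inn (ProjectiveSpecialLinearGroup (Fin n) F) ⊓
      Subgroup.centralizer {fAut σ})).Coprime p := by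
  classical
  haveI : Fact p.Prime := ⟨hp⟩
  have hnot : ¬ p ∣ Nat.card ↥(Msl (n := n) σ) := by
    intro h
    have := Nat.dvd_gcd h (dvd_refl p)
    rw [Nat.Coprime] at hM
    rw [hM] at this
    exact hp.one_lt.ne' (Nat.dvd_one.1 this)
  rw [Nat.coprime_comm, Nat.Prime.coprime_iff_not_dvd hp]
  intro hdvd
  obtain ⟨ν, hν⟩ := exists_prime_orderOf_dvd_card' p hdvd
  have hν1 : orderOf (ν : MulAut (ProjectiveSpecialLinearGroup (Fin n) F)) = p := by
    rw [← hν]
    exact (Subgroup.orderOf_coe ν)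
  have hmem : (ν : MulAut (ProjectiveSpecialLinearGroup (Fin n) F)) ∈
      (cGL (n := n) (F := F)).range ⊓ Subgroup.centralizer {fAut σ} :=
    ⟨inn_le_range_cGL ν.2.1, ν.2.2⟩
  rw [centralizer_fAut hn σ hp.pos hσ] at hmem
  obtain ⟨g₁, hg₁⟩ := hmem
  rw [MonoidHom.comp_apply] at hg₁
  haveI : Fintype (fixF σ) := Fintype.ofFinite _
  set q₁ := Fintype.card (fixF σ)ˣ with hq₁
  -- `g₁ ^ q₁` has determinant one
  have hdet : ((g₁ ^ q₁ : GL (Fin n) (fixF σ)) : Matrix (Fin n) (Fin n) (fixF σ)).det = 1 := by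
    have h1 : Matrix.GeneralLinearGroup.det (g₁ ^ q₁) = 1 := by
      rw [map_pow, hq₁]
      exact pow_card_eq_one
    have h2 := congrArg Units.val h1
    exact h2
  obtain ⟨s₁, hs₁⟩ : ∃ s₁ : SpecialLinearGroup (Fin n) (fixF σ),
      (s₁ : Matrix (Fin n) (Fin n) (fixF σ)) =
        ((g₁ ^ q₁ : GL (Fin n) (fixF σ)) : Matrix (Fin n) (Fin n) (fixF σ)) := ⟨⟨_, hdet⟩, rfl⟩
  have hs₁' : Matrix.SpecialLinearGroup.toGL s₁ = g₁ ^ q₁ := Units.ext hs₁
  have hνq : (ν : MulAut (ProjectiveSpecialLinearGroup (Fin n) F)) ^ q₁ = muSL σ s₁ := by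
    rw [muSL_apply, hs₁', map_pow, map_pow, hg₁]
  -- `ν ^ q₁ = 1`
  have hνq1 : (ν : MulAut (ProjectiveSpecialLinearGroup (Fin n) F)) ^ q₁ = 1 := by
    have h1 : orderOf (⟨muSL σ s₁, ⟨s₁, rfl⟩⟩ : ↥(Msl (n := n) σ)) ∣ p := by
      apply orderOf_dvd_of_pow_eq_one
      apply Subtype.ext
      show (muSL σ s₁) ^ p = 1
      rw [← hνq, ← pow_mul, mul_comm, pow_mul, ← hν1, pow_orderOf_eq_one, one_pow]
    have h2 : orderOf (⟨muSL σ s₁, ⟨s₁, rfl⟩⟩ : ↥(Msl (n := n) σ)) ∣
        Nat.card ↥(Msl (n := n) σ) := orderOf_dvd_natCard _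
    have h3 := Nat.dvd_gcd h2 h1
    rw [Nat.Coprime] at hM
    rw [hM, Nat.dvd_one, orderOf_eq_one_iff] at h3
    rw [hνq]
    exact congrArg Subtype.val h3
  have hpq : p ∣ q₁ := by
    rw [← hν1]
    exact orderOf_dvd_of_pow_eq_one hνq1
  -- an element of order `p` in the multiplicative group of the fixed field
  have hpq' : p ∣ Nat.card (fixF σ)ˣ := by
    rw [Nat.card_eq_fintype_card]; exact hpq
  obtain ⟨a, ha⟩ := exists_prime_orderOf_dvd_card' p hpq'
  have ha1 : a ≠ 1 := by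
    intro h
    rw [h, orderOf_one] at ha
    exact hp.one_lt.ne ha
  by_cases hcase : 3 ≤ n ∨ p ≠ 2
  · -- the torus element
    obtain ⟨s, hs⟩ := exists_torus hn (fixF σ) a
    apply hnot
    apply dvd_card_Msl_of σ hn hp s
    · have h1 : s ^ p = 1 := by
        apply Subtype.ext
        rw [Matrix.SpecialLinearGroup.coe_pow, hs, Matrix.diagonal_pow]
        show Matrix.diagonal _ = (1 : Matrix (Fin n) (Fin n) (fixF σ))
        rw [← Matrix.diagonal_one]
        congr 1
        funext k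
        rw [Pi.pow_apply, mul_pow]
        have e1 : (a : fixF σ) ^ p = 1 := by
          have := congrArg Units.val (show a ^ p = 1 by rw [← ha, pow_orderOf_eq_one])
          rwa [Units.val_pow_eq_pow_val] at this
        have e2 : ((a⁻¹ : (fixF σ)ˣ) : fixF σ) ^ p = 1 := by
          have := congrArg Units.val (show (a⁻¹) ^ p = 1 by
            rw [inv_pow, ← ha, pow_orderOf_eq_one, inv_one])
          rwa [Units.val_pow_eq_pow_val] at this
        by_cases hk0 : k = ⟨0, by omega⟩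
        · subst hk0
          have hne : (⟨0, by omega⟩ : Fin n) ≠ ⟨1, by omega⟩ := by
            intro h; have := congrArg Fin.val h; simp at this
          rw [Function.update_self, Function.update_of_ne hne, e1]
          simp
        · by_cases hk1 : k = ⟨1, by omega⟩
          · subst hk1
            rw [Function.update_of_ne hk0, Function.update_self, e2]
            simp
          · rw [Function.update_of_ne hk0, Function.update_of_ne hk1]
            simp
      rw [h1]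
      exact Subgroup.one_mem _
    · intro hcen
      obtain ⟨c, -, hc⟩ := Matrix.SpecialLinearGroup.mem_center_iff.1 hcen
      rw [hs, Matrix.scalar_apply] at hc
      have hfun := Matrix.diagonal_injective hc
      have hne : (⟨0, by omega⟩ : Fin n) ≠ ⟨1, by omega⟩ := by
        intro h; have := congrArg Fin.val h; simp at this
      have e0 := congrFun hfun ⟨0, by omega⟩
      have e1 := congrFun hfun ⟨1, by omega⟩
      simp only [Function.update_self, Function.update_of_ne hne, Function.update_of_ne hne.symm,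
        Pi.one_apply, mul_one, one_mul] at e0 e1
      rcases hcase with h3 | hp2
      · have h02 : (⟨2, by omega⟩ : Fin n) ≠ ⟨0, by omega⟩ := by
          intro h; have := congrArg Fin.val h; simp at this
        have h12 : (⟨2, by omega⟩ : Fin n) ≠ ⟨1, by omega⟩ := by
          intro h; have := congrArg Fin.val h; simp at this
        have e2 := congrFun hfun ⟨2, by omega⟩
        simp only [Function.update_of_ne h02, Function.update_of_ne h12, Pi.one_apply,
          mul_one] at e2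
        apply ha1
        apply Units.ext
        rw [← e0, e2]
        rfl
      · -- a = a⁻¹
        have h4 : a * a = 1 := by
          apply Units.ext
          rw [Units.val_mul, Units.val_one]
          have : (a : fixF σ) = ((a⁻¹ : (fixF σ)ˣ) : fixF σ) := by rw [← e0, ← e1]
          nth_rw 2 [this]
          rw [← Units.val_mul, mul_inv_cancel, Units.val_one]
        have h5 : orderOf a ∣ 2 := orderOf_dvd_of_pow_eq_one (by rw [pow_two]; exact h4)
        rw [ha] at h5
        exact hp2 ((Nat.prime_dvd_prime_iff_eq hp Nat.prime_two).1 h5)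
  · -- `n = 2`, `p = 2`
    push Not at hcase
    obtain ⟨hn3, hp2⟩ := hcase
    have hn2 : n = 2 := by omega
    subst hn2
    subst hp2
    have hdetw : (!![0, 1; -1, 0] : Matrix (Fin 2) (Fin 2) (fixF σ)).det = 1 := by
      rw [Matrix.det_fin_two_of]; ring
    obtain ⟨w, hw⟩ : ∃ w : SpecialLinearGroup (Fin 2) (fixF σ),
        (w : Matrix (Fin 2) (Fin 2) (fixF σ)) = !![0, 1; -1, 0] := ⟨⟨_, hdetw⟩, rfl⟩
    apply hnot
    apply dvd_card_Msl_of σ hn hp w
    · rw [Matrix.SpecialLinearGroup.mem_center_iff]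
      refine ⟨-1, by norm_num, ?_⟩
      rw [Matrix.SpecialLinearGroup.coe_pow, hw, pow_two, Matrix.scalar_apply]
      ext i j
      fin_cases i <;> fin_cases j <;> simp [Matrix.mul_apply, Fin.sum_univ_two]
    · intro hcen
      obtain ⟨c, -, hc⟩ := Matrix.SpecialLinearGroup.mem_center_iff.1 hcen
      rw [hw, Matrix.scalar_apply] at hc
      have := congrFun (congrFun hc 0) 1
      simp at this

end

section

open Matrix Cfsg.Agent.Lib.H13.AutPSL Cfsg.Agent.Lib.H13.AutPO

variable {n : ℕ} {F : Type*} [Field F] [Fintype F]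

theorem conj_psl_injective (hn : 2 ≤ n) :
    Function.Injective (MulAut.conj : ProjectiveSpecialLinearGroup (Fin n) F →*
      MulAut (ProjectiveSpecialLinearGroup (Fin n) F)) := by
  rw [injective_iff_map_eq_one]
  intro y hy
  obtain ⟨s, rfl⟩ := QuotientGroup.mk_surjective y
  have h1 : cGL (Matrix.SpecialLinearGroup.toGL s) = 1 := by
    rw [cGL_toGL]; exact hy
  have h2 := mem_center_of_cGL_eq_one hn (hasParPA_of hn) h1
  apply (QuotientGroup.eq_one_iff _).2
  rw [Subgroup.mem_center_iff]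
  intro t
  have h3 := Subgroup.mem_center_iff.1 h2 (Matrix.SpecialLinearGroup.toGL t)
  rw [← map_mul, ← map_mul] at h3
  apply Subtype.ext
  exact congrArg (fun y : GL (Fin n) F => (y : Matrix (Fin n) (Fin n) F)) h3

/-- local balance for the standard field automorphism of prime order `p` of `PSL_n(F)` -/
theorem core_fSL (hn : 2 ≤ n) (r : ℕ) [Fact r.Prime] [CharP F r] (σ : F ≃+* F) {p : ℕ}
    (hp : p.Prime) (hσ : orderOf σ = p) (hpr : p ≠ r)
    (A : Subgroup (MulAut (ProjectiveSpecialLinearGroup (Fin n) F)))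
    (hInnA : Cfsg.Inn (ProjectiveSpecialLinearGroup (Fin n) F) ≤ A) :
    HasNPC p ↥(A ⊓ Subgroup.centralizer {fAut (n := n) σ}) ↔
      (Nat.card ↥(Cfsg.Inn (ProjectiveSpecialLinearGroup (Fin n) F) ⊓
        Subgroup.centralizer {fAut σ})).Coprime p := by
  have hφ : orderOf (fAut (n := n) σ) = p := by
    rw [orderOf_injective fAut (fAut_injective hn (hasParPA_of hn)) σ, hσ]
  refine Cfsg.Agent.Lib.H13.Sp4Graph.core_abstract
    (Cfsg.Inn (ProjectiveSpecialLinearGroup (Fin n) F)) A (Msl (n := n) σ) (fAut σ) hp hφ hInnA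
    (le_inf (Msl_le_inn σ) (Msl_le_cent σ hn hp.pos hσ)) ?_ ?_ ?_ (Msl_ne_bot σ hn)
  · intro ρ hρ hρM
    apply cent_Msl_le σ hn r hp.pos hσ ρ _ hρM
    have h1 : ρ ∈ Subgroup.centralizer {fAut (n := n) σ} := hρ.2
    rw [Subgroup.mem_centralizer_iff] at h1
    exact (h1 _ (Set.mem_singleton _)).symm
  · intro ν hν μ hμ
    exact Msl_conj σ hn hp.pos hσ ν ⟨inn_le_range_cGL hν.1, hν.2⟩ μ hμ
  · intro N' hN'M hnorm hne hcop
    exact coprime_of_Msl_coprime σ hn r hp hpr hσ
      (Msl_card_coprime σ hn r hp hpr N' hN'M hnorm hne hcop)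

/-- the field-type case of the local balance criterion -/
theorem field_case (hn : 2 ≤ n) (r : ℕ) [Fact r.Prime] [CharP F r]
    (𝒢 : Subgroup (MulAut (ProjectiveSpecialLinearGroup (Fin n) F)))
    (hinn : ∀ k : ProjectiveSpecialLinearGroup (Fin n) F, MulAut.conj k ∈ 𝒢)
    {p : ℕ} (hp : p.Prime) (hpr : p ≠ r) (g : GL (Fin n) F) (σ : F ≃+* F)
    (hord : orderOf (cGL g * fAut σ) = p)
    (hnot : ¬ Cfsg.IsInnerDiagonalAutPSL (cGL g * fAut σ)) :
    Cfsg.pPrimeCore p ↥(𝒢 ⊓ Subgroup.centralizer {cGL g * fAut σ}) ≠ ⊥ ↔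
      ((∃ γ φ : MulAut (ProjectiveSpecialLinearGroup (Fin n) F),
          Cfsg.IsInnerDiagonalAutPSL γ ∧ Cfsg.IsFieldAutPSL φ ∧ cGL g * fAut σ = φ.trans γ) ∧
        Nat.Coprime p (Nat.card ↥(MonoidHom.eqLocus (cGL g * fAut σ).toMonoidHom
          (MonoidHom.id (ProjectiveSpecialLinearGroup (Fin n) F))))) := by
  classical
  have hxp : (cGL g * fAut σ) ^ p = 1 := by rw [← hord]; exact pow_orderOf_eq_one _
  have hInnA : Cfsg.Inn (ProjectiveSpecialLinearGroup (Fin n) F) ≤ 𝒢 := by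
    rintro _ ⟨k, rfl⟩
    exact hinn k
  have hσ1 : σ ≠ 1 := by
    rintro rfl
    apply hnot
    rw [map_one, mul_one]
    exact isInnerDiagonal_desc_conjGL g
  have hσp : orderOf σ = p := by
    have h1 := hxp
    rw [pow_cGL_fAut] at h1
    have h2 : fAut (n := n) (σ ^ p) = cGL (PG σ g p)⁻¹ := by
      rw [map_inv, eq_inv_iff_mul_eq_one]
      exact mul_eq_one_comm.1 h1
    obtain ⟨h3, -⟩ := uniq0 hn (hasParPA_of hn) _ _ h2
    have h3' : σ ^ p = 1 := h3
    have := orderOf_dvd_of_pow_eq_one h3'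
    rcases (Nat.dvd_prime hp).1 this with h | h
    · exact absurd (orderOf_eq_one_iff.1 h) hσ1
    · exact h
  obtain ⟨k, hk⟩ := field_conj hn (hasParPA_of hn) σ hp.pos hσp g hxp
  set a := cGL k with ha
  have hxa : cGL g * fAut σ = a * fAut σ * a⁻¹ := hk
  have hfield : ∃ γ φ : MulAut (ProjectiveSpecialLinearGroup (Fin n) F),
      Cfsg.IsInnerDiagonalAutPSL γ ∧ Cfsg.IsFieldAutPSL φ ∧ cGL g * fAut σ = φ.trans γ :=
    ⟨cGL g, fAut σ, isInnerDiagonal_desc_conjGL g, ⟨σ, isStdFieldAut_desc_fieldAut σ⟩, rfl⟩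
  rw [pPrimeCore_ne_bot_iff, card_eqLocus_eq (conj_psl_injective hn) _, Nat.coprime_comm]
  obtain ⟨E1⟩ := centralizer_map_equiv (MulAut.conj a⁻¹) 𝒢 (cGL g * fAut σ)
  have hx' : MulAut.conj a⁻¹ (cGL g * fAut σ) = fAut σ := by
    rw [hxa, MulAut.conj_apply]; group
  rw [hx'] at E1
  have hInnA' : Cfsg.Inn (ProjectiveSpecialLinearGroup (Fin n) F) ≤
      𝒢.map (MulAut.conj a⁻¹).toMonoidHom := by
    rw [← map_conj_of_normal (Cfsg.Inn (ProjectiveSpecialLinearGroup (Fin n) F)) a⁻¹]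
    exact Subgroup.map_mono hInnA
  obtain ⟨E2, -⟩ := conj_transport (Cfsg.Inn (ProjectiveSpecialLinearGroup (Fin n) F))
    (Cfsg.Inn (ProjectiveSpecialLinearGroup (Fin n) F)) le_rfl a (fAut σ)
  rw [← hxa] at E2
  obtain ⟨E2⟩ := E2
  rw [hasNPC_congr p E1, core_fSL hn r σ hp hσp hpr _ hInnA', Nat.card_congr E2.toEquiv]
  exact ⟨fun h => ⟨hfield, h⟩, fun h => h.2⟩

end

section

open Matrix Cfsg.Agent.Lib.H13.AutPSL Cfsg.Agent.Lib.H13.AutPO

/-- **local balance for automorphisms of prime order of `PSL_n(F)` outside the inner-diagonal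
group** -/
theorem s2686_gen {F : Type*} [Field F] [Fintype F] {r : ℕ} [Fact r.Prime] [CharP F r] {n : ℕ}
    (hn : 2 ≤ n)
    (𝒢 : Subgroup (MulAut (ProjectiveSpecialLinearGroup (Fin n) F)))
    (hinn : ∀ k : ProjectiveSpecialLinearGroup (Fin n) F, MulAut.conj k ∈ 𝒢)
    {p : ℕ} (hp : p.Prime) (hpr : p ≠ r)
    (β : MulAut (ProjectiveSpecialLinearGroup (Fin n) F)) (hord : orderOf β = p)
    (hnot : ¬ Cfsg.IsInnerDiagonalAutPSL β) :
    Cfsg.pPrimeCore p ↥(𝒢 ⊓ Subgroup.centralizer {β}) ≠ ⊥ ↔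
      ((∃ γ φ : MulAut (ProjectiveSpecialLinearGroup (Fin n) F),
          Cfsg.IsInnerDiagonalAutPSL γ ∧ Cfsg.IsFieldAutPSL φ ∧ β = φ.trans γ) ∧
        Nat.Coprime p (Nat.card ↥(MonoidHom.eqLocus β.toMonoidHom
          (MonoidHom.id (ProjectiveSpecialLinearGroup (Fin n) F))))) := by
  classical
  by_cases h3 : 3 ≤ n
  · obtain ⟨g, σ, e, rfl⟩ := exists_form3 h3 r β
    by_cases he : e = 0
    · rw [he, tPow_zero, mul_one] at hord hnot ⊢
      exact field_case hn r 𝒢 hinn hp hpr g σ hord hnot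
    · -- graph type
      have hxp : (cGL g * fAut σ * tPow e) ^ p = 1 := by rw [← hord]; exact pow_orderOf_eq_one _
      have hp2 : p = 2 := by
        have h1 : (psi3 h3 r (cGL g * fAut σ * tPow e)) ^ p = 1 := by
          rw [← map_pow, hxp, map_one]
        rw [psi3_apply] at h1
        have h2 := congrArg Prod.snd h1
        simp only [Prod.pow_snd, Prod.snd_one] at h2
        have h4 : p • e = 0 := by
          have := congrArg Multiplicative.toAdd h2
          rw [toAdd_pow, toAdd_ofAdd, toAdd_one] at this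
          exact this
        by_contra hne
        have hodd : Odd p := hp.odd_of_ne_two hne
        exact he (zmod2_of_odd_nsmul hodd h4)
      subst hp2
      have h2F : (2 : F) ≠ 0 := by
        intro h
        have h1 : ((2 : ℕ) : F) = 0 := by exact_mod_cast h
        have h2 := (CharP.cast_eq_zero_iff F r 2).1 h1
        exact hpr ((Nat.prime_dvd_prime_iff_eq (Fact.out : r.Prime) Nat.prime_two).1 h2).symm
      rw [tPow_of_ne he] at hxp hord hnot ⊢
      have hβ : cGL g * fAut σ * tAut = cGL g * gfAut σ := by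
        unfold gfAut
        rw [mul_assoc]
      rw [hβ] at hxp ⊢
      have hL := graph_case h3 r h2F 𝒢 hinn g σ hxp
      rw [pPrimeCore_ne_bot_iff]
      constructor
      · intro h
        exact absurd h hL
      · rintro ⟨⟨γ, φ, hγ, ⟨σ', hφ⟩, hγφ⟩, -⟩
        exfalso
        obtain ⟨g', hg'⟩ := hγ
        have e1 := eq_of_isInnerDiagonal g' hg'
        have e2 := eq_of_isStdFieldAut σ' hφ
        have e3 : cGL g * fAut σ * tPow (1 : ZMod 2) = cGL g' * fAut σ' * tPow (0 : ZMod 2) := by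
          rw [tPow_zero, mul_one, tPow_of_ne (by decide), hβ, hγφ, e1, e2]
          rfl
        have := (uniq3 h3 e3).2
        exact absurd this (by decide)
  · have h2 : n = 2 := by omega
    subst h2
    obtain ⟨g, σ, rfl⟩ := exists_form2 r β
    exact field_case hn r 𝒢 hinn hp hpr g σ hord hnot

end

end Cfsg.Agent.Lib.H13.PSLBal
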