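import Mathlib
import Cfsg.Agent.Lib.H13.MBal1
import Cfsg.Agent.Lib.H13.InvolConjLin
import Cfsg.Agent.Lib.H13.PSLBal4
import Cfsg.Agent.Lib.H13.OFus2

/-!
Local balance in `PΩ⁻_{2m+2}(q)`, part 2 (helper13): simultaneous block decompositions `Split G M κ₁ κ₂` of a symmetric matrix and a self-adjoint
involution, normal subgroups of odd order of the similitude group of a symmetric matrix are scalar (`core_sym`), Siegel elements as
commutators, and the relation `comm_rel` expressing that a semilinear automorphism commutes with a similarity.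
-/

set_option autoImplicit false
set_option linter.unusedSectionVars false
set_option linter.unusedVariables false
set_option linter.unusedSimpArgs false
set_option linter.deprecated false

namespace Cfsg.Agent.Lib.H13.MBal

section

open Matrix Module

section blocks

variable {K : Type*} [Field K] {κ₁ κ₂ : Type*} [Fintype κ₁] [Fintype κ₂] [DecidableEq κ₁]
  [DecidableEq κ₂]

/-- the diagonal sign matrix -/
def D0 (K : Type*) [Field K] (κ₁ κ₂ : Type*) [DecidableEq κ₁] [DecidableEq κ₂] :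
    Matrix (κ₁ ⊕ κ₂) (κ₁ ⊕ κ₂) K := fromBlocks 1 0 0 (-1)

theorem D0_mul_self : D0 K κ₁ κ₂ * D0 K κ₁ κ₂ = 1 := by
  unfold D0
  rw [fromBlocks_multiply]
  simp

theorem D0_transpose : (D0 K κ₁ κ₂)ᵀ = D0 K κ₁ κ₂ := by
  unfold D0
  rw [fromBlocks_transpose]
  simp

/-- a matrix commuting with the sign matrix is block diagonal -/
theorem blockdiag_of_comm (h2 : (2 : K) ≠ 0) (X : Matrix (κ₁ ⊕ κ₂) (κ₁ ⊕ κ₂) K)
    (h : X * D0 K κ₁ κ₂ = D0 K κ₁ κ₂ * X) :
    X = fromBlocks X.toBlocks₁₁ 0 0 X.toBlocks₂₂ := by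
  have hX := (fromBlocks_toBlocks X).symm
  rw [hX] at h
  unfold D0 at h
  rw [fromBlocks_multiply, fromBlocks_multiply] at h
  simp only [Matrix.mul_one, Matrix.mul_zero, add_zero, zero_add, Matrix.mul_neg, Matrix.one_mul,
    Matrix.zero_mul, Matrix.neg_mul] at h
  have h12 : X.toBlocks₁₂ = 0 := by
    have h1 := congrArg toBlocks₁₂ h
    simp only [toBlocks_fromBlocks₁₂] at h1
    ext i j
    have h3 := congrFun (congrFun h1 i) j
    simp only [Matrix.neg_apply, Matrix.zero_apply] at h3 ⊢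
    have h4 : (2 : K) * X.toBlocks₁₂ i j = 0 := by linear_combination -h3
    rcases mul_eq_zero.1 h4 with h5 | h5
    · exact absurd h5 h2
    · exact h5
  have h21 : X.toBlocks₂₁ = 0 := by
    have h1 := congrArg toBlocks₂₁ h
    simp only [toBlocks_fromBlocks₂₁] at h1
    ext i j
    have h3 := congrFun (congrFun h1 i) j
    simp only [Matrix.neg_apply, Matrix.zero_apply] at h3 ⊢
    have h4 : (2 : K) * X.toBlocks₂₁ i j = 0 := by linear_combination h3
    rcases mul_eq_zero.1 h4 with h5 | h5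
    · exact absurd h5 h2
    · exact h5
  conv_lhs => rw [hX, h12, h21]

/-- a matrix anticommuting with the sign matrix is block antidiagonal -/
theorem blockanti_of_anticomm (h2 : (2 : K) ≠ 0) (X : Matrix (κ₁ ⊕ κ₂) (κ₁ ⊕ κ₂) K)
    (h : X * D0 K κ₁ κ₂ = -(D0 K κ₁ κ₂ * X)) :
    X = fromBlocks 0 X.toBlocks₁₂ X.toBlocks₂₁ 0 := by
  have hX := (fromBlocks_toBlocks X).symm
  rw [hX] at h
  unfold D0 at h
  rw [fromBlocks_multiply, fromBlocks_multiply, fromBlocks_neg] at h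
  simp only [Matrix.mul_one, Matrix.mul_zero, add_zero, zero_add, Matrix.mul_neg, Matrix.one_mul,
    Matrix.zero_mul, Matrix.neg_mul, neg_neg] at h
  have h11 : X.toBlocks₁₁ = 0 := by
    have h1 := congrArg toBlocks₁₁ h
    simp only [toBlocks_fromBlocks₁₁] at h1
    ext i j
    have h3 := congrFun (congrFun h1 i) j
    simp only [Matrix.neg_apply, Matrix.zero_apply] at h3 ⊢
    have h4 : (2 : K) * X.toBlocks₁₁ i j = 0 := by linear_combination h3
    rcases mul_eq_zero.1 h4 with h5 | h5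
    · exact absurd h5 h2
    · exact h5
  have h22 : X.toBlocks₂₂ = 0 := by
    have h1 := congrArg toBlocks₂₂ h
    simp only [toBlocks_fromBlocks₂₂] at h1
    ext i j
    have h3 := congrFun (congrFun h1 i) j
    simp only [Matrix.neg_apply, Matrix.zero_apply] at h3 ⊢
    have h4 : (2 : K) * X.toBlocks₂₂ i j = 0 := by linear_combination -h3
    rcases mul_eq_zero.1 h4 with h5 | h5
    · exact absurd h5 h2
    · exact h5
  conv_lhs => rw [hX, h11, h22]

end blocks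

section split

variable {K : Type*} [Field K] {ι : Type*} [Fintype ι] [DecidableEq ι]

/-- an involutory matrix is diagonalisable with eigenvalues `1` and `-1` -/
theorem split_invol (h2 : (2 : K) ≠ 0) (M : Matrix ι ι K) (hM : M * M = 1) :
    ∃ (k₁ k₂ : ℕ) (P : Matrix ι (Fin k₁ ⊕ Fin k₂) K) (Pi : Matrix (Fin k₁ ⊕ Fin k₂) ι K),
      P * Pi = 1 ∧ Pi * P = 1 ∧ M * P = P * D0 K (Fin k₁) (Fin k₂) := by
  classical
  set t : (ι → K) →ₗ[K] (ι → K) := Matrix.toLin' M with ht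
  have htt : ∀ v, t (t v) = v := by
    intro v
    rw [ht, Matrix.toLin'_apply, Matrix.toLin'_apply, Matrix.mulVec_mulVec, hM, Matrix.one_mulVec]
  have hc := Cfsg.Agent.Lib.H13.InvolConjLin.isCompl_eigen h2 t htt
  set U₁ := LinearMap.ker (t - LinearMap.id) with hU₁
  set U₂ := LinearMap.ker (t + LinearMap.id) with hU₂
  set b₁ := Module.finBasis K U₁ with hb₁
  set b₂ := Module.finBasis K U₂ with hb₂
  set b : Basis (Fin (finrank K U₁) ⊕ Fin (finrank K U₂)) K (ι → K) :=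
    (b₁.prod b₂).map (Submodule.prodEquivOfIsCompl U₁ U₂ hc) with hb
  refine ⟨finrank K U₁, finrank K U₂, (Pi.basisFun K ι).toMatrix b, b.toMatrix (Pi.basisFun K ι),
    Basis.toMatrix_mul_toMatrix_flip _ _, Basis.toMatrix_mul_toMatrix_flip _ _, ?_⟩
  have hP : ∀ i j, (Pi.basisFun K ι).toMatrix b i j = b j i := by
    intro i j
    rw [Basis.toMatrix_apply, Pi.basisFun_repr]
  have hbl : ∀ a, b (Sum.inl a) = (b₁ a : ι → K) := by
    intro a
    rw [hb, Basis.map_apply, Basis.prod_apply, Sum.elim_inl]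
    simp [Submodule.coe_prodEquivOfIsCompl']
  have hbr : ∀ a, b (Sum.inr a) = (b₂ a : ι → K) := by
    intro a
    rw [hb, Basis.map_apply, Basis.prod_apply, Sum.elim_inr]
    simp [Submodule.coe_prodEquivOfIsCompl']
  have ht1 : ∀ a, M *ᵥ b (Sum.inl a) = b (Sum.inl a) := by
    intro a
    have h1 : (b₁ a : ι → K) ∈ LinearMap.ker (t - LinearMap.id) := (b₁ a).2
    rw [LinearMap.mem_ker, LinearMap.sub_apply, LinearMap.id_apply, sub_eq_zero, ht,
      Matrix.toLin'_apply] at h1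
    rw [hbl]; exact h1
  have ht2 : ∀ a, M *ᵥ b (Sum.inr a) = -b (Sum.inr a) := by
    intro a
    have h1 : (b₂ a : ι → K) ∈ LinearMap.ker (t + LinearMap.id) := (b₂ a).2
    rw [LinearMap.mem_ker, LinearMap.add_apply, LinearMap.id_apply, ht,
      Matrix.toLin'_apply] at h1
    rw [hbr]; exact eq_neg_of_add_eq_zero_left h1
  ext i j
  have e1 : (M * (Pi.basisFun K ι).toMatrix b) i j = (M *ᵥ b j) i := by
    rw [Matrix.mul_apply, Matrix.mulVec, dotProduct]
    apply Finset.sum_congr rfl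
    intro l _
    rw [hP]
  rw [e1]
  rcases j with a | a
  · rw [ht1]
    unfold D0
    rw [Matrix.mul_apply, Fintype.sum_sum_type]
    simp [hP, Matrix.one_apply]
  · rw [ht2]
    unfold D0
    rw [Matrix.mul_apply, Fintype.sum_sum_type]
    simp [hP, Matrix.one_apply]

end split

section splitdata

variable {K : Type*} [Field K] {ι : Type*} [Fintype ι] [DecidableEq ι]
  {κ₁ κ₂ : Type*} [Fintype κ₁] [Fintype κ₂] [DecidableEq κ₁] [DecidableEq κ₂]

/-- the data of a simultaneous block decomposition of a symmetric matrix `G` and a self-adjoint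
involution `M` -/
structure Split (G M : Matrix ι ι K) (κ₁ κ₂ : Type*) [Fintype κ₁] [Fintype κ₂] [DecidableEq κ₁]
    [DecidableEq κ₂] where
  P : Matrix ι (κ₁ ⊕ κ₂) K
  Pi : Matrix (κ₁ ⊕ κ₂) ι K
  H₁ : Matrix κ₁ κ₁ K
  H₂ : Matrix κ₂ κ₂ K
  hPPi : P * Pi = 1
  hPiP : Pi * P = 1
  hMP : M * P = P * D0 K κ₁ κ₂
  hG : Pᵀ * G * P = fromBlocks H₁ 0 0 H₂

variable {G M : Matrix ι ι K} (S : Split G M κ₁ κ₂)

theorem Split.hPiM : S.Pi * M = D0 K κ₁ κ₂ * S.Pi := by
  have h1 : S.Pi * M * S.P = D0 K κ₁ κ₂ := by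
    rw [Matrix.mul_assoc, S.hMP, ← Matrix.mul_assoc, S.hPiP, Matrix.one_mul]
  calc S.Pi * M = S.Pi * M * (S.P * S.Pi) := by rw [S.hPPi, Matrix.mul_one]
    _ = (S.Pi * M * S.P) * S.Pi := by simp only [Matrix.mul_assoc]
    _ = D0 K κ₁ κ₂ * S.Pi := by rw [h1]

theorem Split.M_eq : M = S.P * D0 K κ₁ κ₂ * S.Pi := by
  rw [← S.hMP, Matrix.mul_assoc, S.hPPi, Matrix.mul_one]

/-- the block form of a matrix -/
def Split.blk (X : Matrix ι ι K) : Matrix (κ₁ ⊕ κ₂) (κ₁ ⊕ κ₂) K := S.Pi * X * S.P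

theorem Split.blk_mul (X Y : Matrix ι ι K) : S.blk (X * Y) = S.blk X * S.blk Y := by
  unfold Split.blk
  calc S.Pi * (X * Y) * S.P = S.Pi * X * (1 : Matrix ι ι K) * Y * S.P := by
        rw [Matrix.mul_one]; simp only [Matrix.mul_assoc]
    _ = S.Pi * X * S.P * (S.Pi * Y * S.P) := by rw [← S.hPPi]; simp only [Matrix.mul_assoc]

theorem Split.blk_one : S.blk (1 : Matrix ι ι K) = 1 := by
  unfold Split.blk
  rw [Matrix.mul_one, S.hPiP]

theorem Split.blk_smul (c : K) (X : Matrix ι ι K) : S.blk (c • X) = c • S.blk X := by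
  unfold Split.blk
  rw [Matrix.mul_smul, Matrix.smul_mul]

theorem Split.blk_M : S.blk M = D0 K κ₁ κ₂ := by
  unfold Split.blk
  rw [Matrix.mul_assoc, S.hMP, ← Matrix.mul_assoc, S.hPiP, Matrix.one_mul]

theorem Split.eq_of_blk (X : Matrix ι ι K) : X = S.P * S.blk X * S.Pi := by
  unfold Split.blk
  calc X = (S.P * S.Pi) * X * (S.P * S.Pi) := by rw [S.hPPi, Matrix.one_mul, Matrix.mul_one]
    _ = S.P * (S.Pi * X * S.P) * S.Pi := by simp only [Matrix.mul_assoc]

theorem Split.blk_unblk (B : Matrix (κ₁ ⊕ κ₂) (κ₁ ⊕ κ₂) K) : S.blk (S.P * B * S.Pi) = B := by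
  unfold Split.blk
  calc S.Pi * (S.P * B * S.Pi) * S.P = (S.Pi * S.P) * B * (S.Pi * S.P) := by
        simp only [Matrix.mul_assoc]
    _ = B := by rw [S.hPiP, Matrix.one_mul, Matrix.mul_one]

theorem Split.blk_injective {X Y : Matrix ι ι K} (h : S.blk X = S.blk Y) : X = Y := by
  rw [S.eq_of_blk X, S.eq_of_blk Y, h]

/-- matrices commuting with `M` are block diagonal -/
theorem Split.blk_of_comm (h2 : (2 : K) ≠ 0) (X : Matrix ι ι K) (hX : X * M = M * X) :
    S.blk X = fromBlocks (S.blk X).toBlocks₁₁ 0 0 (S.blk X).toBlocks₂₂ := by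
  apply blockdiag_of_comm h2
  rw [← S.blk_M, ← S.blk_mul, ← S.blk_mul, hX]

/-- matrices anticommuting with `M` are block antidiagonal -/
theorem Split.blk_of_anticomm (h2 : (2 : K) ≠ 0) (X : Matrix ι ι K) (hX : X * M = -(M * X)) :
    S.blk X = fromBlocks 0 (S.blk X).toBlocks₁₂ (S.blk X).toBlocks₂₁ 0 := by
  apply blockanti_of_anticomm h2
  rw [← S.blk_M, ← S.blk_mul, ← S.blk_mul, hX]
  unfold Split.blk
  rw [Matrix.mul_neg, Matrix.neg_mul]

/-- a block diagonal matrix commutes with `M` -/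
theorem Split.comm_of_blk (A : Matrix κ₁ κ₁ K) (D : Matrix κ₂ κ₂ K) :
    (S.P * fromBlocks A 0 0 D * S.Pi) * M = M * (S.P * fromBlocks A 0 0 D * S.Pi) := by
  apply S.blk_injective
  rw [S.blk_mul, S.blk_mul, S.blk_unblk, S.blk_M]
  unfold D0
  rw [fromBlocks_multiply, fromBlocks_multiply]
  simp

/-- the Gram matrix in block coordinates -/
theorem Split.gram_eq : G = S.Piᵀ * fromBlocks S.H₁ 0 0 S.H₂ * S.Pi := by
  rw [← S.hG]
  have h1 : S.Piᵀ * S.Pᵀ = 1 := by rw [← Matrix.transpose_mul, S.hPPi, Matrix.transpose_one]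
  calc G = (S.Piᵀ * S.Pᵀ) * G * (S.P * S.Pi) := by rw [h1, S.hPPi, Matrix.one_mul, Matrix.mul_one]
    _ = S.Piᵀ * (S.Pᵀ * G * S.P) * S.Pi := by simp only [Matrix.mul_assoc]

/-- similitudes in block coordinates -/
theorem Split.sim_iff (X : Matrix ι ι K) (μ : K) :
    Xᵀ * G * X = μ • G ↔
      (S.blk X)ᵀ * fromBlocks S.H₁ 0 0 S.H₂ * S.blk X = μ • fromBlocks S.H₁ 0 0 S.H₂ := by
  have h1 : S.Piᵀ * S.Pᵀ = 1 := by rw [← Matrix.transpose_mul, S.hPPi, Matrix.transpose_one]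
  have h3 : S.Pᵀ * S.Piᵀ = 1 := by rw [← Matrix.transpose_mul, S.hPiP, Matrix.transpose_one]
  constructor
  · intro h
    rw [← S.hG]
    unfold Split.blk
    rw [Matrix.transpose_mul, Matrix.transpose_mul]
    calc S.Pᵀ * (Xᵀ * S.Piᵀ) * (S.Pᵀ * G * S.P) * (S.Pi * X * S.P)
        = S.Pᵀ * Xᵀ * (S.Piᵀ * S.Pᵀ) * G * (S.P * S.Pi) * X * S.P := by
          simp only [Matrix.mul_assoc]
      _ = S.Pᵀ * (Xᵀ * G * X) * S.P := by
          rw [h1, S.hPPi, Matrix.mul_one, Matrix.mul_one]; simp only [Matrix.mul_assoc]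
      _ = μ • (S.Pᵀ * G * S.P) := by rw [h, Matrix.mul_smul, Matrix.smul_mul]
  · intro h
    rw [S.gram_eq]
    conv_lhs => rw [S.eq_of_blk X]
    rw [Matrix.transpose_mul, Matrix.transpose_mul]
    calc S.Piᵀ * ((S.blk X)ᵀ * S.Pᵀ) * (S.Piᵀ * fromBlocks S.H₁ 0 0 S.H₂ * S.Pi) *
          (S.P * S.blk X * S.Pi)
        = S.Piᵀ * (S.blk X)ᵀ * (S.Pᵀ * S.Piᵀ) * fromBlocks S.H₁ 0 0 S.H₂ * (S.Pi * S.P) *
            S.blk X * S.Pi := by simp only [Matrix.mul_assoc]
      _ = S.Piᵀ * ((S.blk X)ᵀ * fromBlocks S.H₁ 0 0 S.H₂ * S.blk X) * S.Pi := by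
          rw [h3, S.hPiP, Matrix.mul_one, Matrix.mul_one]; simp only [Matrix.mul_assoc]
      _ = μ • (S.Piᵀ * fromBlocks S.H₁ 0 0 S.H₂ * S.Pi) := by
          rw [h, Matrix.mul_smul, Matrix.smul_mul]

/-- similitudes which are block diagonal -/
theorem Split.sim_blocks (A : Matrix κ₁ κ₁ K) (D : Matrix κ₂ κ₂ K) (μ : K) :
    (fromBlocks A 0 0 D)ᵀ * fromBlocks S.H₁ 0 0 S.H₂ * fromBlocks A 0 0 D =
        μ • fromBlocks S.H₁ 0 0 S.H₂ ↔
      Aᵀ * S.H₁ * A = μ • S.H₁ ∧ Dᵀ * S.H₂ * D = μ • S.H₂ := by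
  rw [fromBlocks_transpose, fromBlocks_multiply, fromBlocks_multiply, fromBlocks_smul]
  simp only [Matrix.transpose_zero, Matrix.zero_mul, Matrix.mul_zero, add_zero, zero_add,
    smul_zero]
  constructor
  · intro h
    exact ⟨by simpa using congrArg toBlocks₁₁ h, by simpa using congrArg toBlocks₂₂ h⟩
  · rintro ⟨h1, h3⟩
    rw [h1, h3]

end splitdata

section splitexists

variable {K : Type*} [Field K] {ι : Type*} [Fintype ι] [DecidableEq ι]

/-- a self-adjoint involution and the Gram matrix decompose simultaneously -/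
theorem exists_split (h2 : (2 : K) ≠ 0) (G M : Matrix ι ι K) (hM : M * M = 1)
    (hMG : Mᵀ * G = G * M) :
    ∃ (k₁ k₂ : ℕ), Nonempty (Split G M (Fin k₁) (Fin k₂)) := by
  obtain ⟨k₁, k₂, P, Pi, hPPi, hPiP, hMP⟩ := split_invol h2 M hM
  refine ⟨k₁, k₂, ⟨⟨P, Pi, (Pᵀ * G * P).toBlocks₁₁, (Pᵀ * G * P).toBlocks₂₂, hPPi, hPiP, hMP, ?_⟩⟩⟩
  apply blockdiag_of_comm h2
  have h1 : (D0 K (Fin k₁) (Fin k₂)) * Pᵀ = Pᵀ * Mᵀ := by
    rw [← Matrix.transpose_mul, hMP, Matrix.transpose_mul, D0_transpose]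
  calc Pᵀ * G * P * D0 K (Fin k₁) (Fin k₂) = Pᵀ * G * (P * D0 K (Fin k₁) (Fin k₂)) := by
        simp only [Matrix.mul_assoc]
    _ = Pᵀ * (G * M) * P := by rw [← hMP]; simp only [Matrix.mul_assoc]
    _ = (Pᵀ * Mᵀ) * G * P := by rw [← hMG]; simp only [Matrix.mul_assoc]
    _ = D0 K (Fin k₁) (Fin k₂) * (Pᵀ * G * P) := by rw [← h1]; simp only [Matrix.mul_assoc]

variable {κ₁ κ₂ : Type*} [Fintype κ₁] [Fintype κ₂] [DecidableEq κ₁] [DecidableEq κ₂]
variable {G M : Matrix ι ι K} (S : Split G M κ₁ κ₂)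

theorem Split.H₁_symm (hG : Gᵀ = G) : S.H₁ᵀ = S.H₁ := by
  have h := congrArg Matrix.transpose S.hG
  rw [Matrix.transpose_mul, Matrix.transpose_mul, Matrix.transpose_transpose, hG,
    ← Matrix.mul_assoc, S.hG, fromBlocks_transpose] at h
  simpa using congrArg toBlocks₁₁ h.symm

theorem Split.H₂_symm (hG : Gᵀ = G) : S.H₂ᵀ = S.H₂ := by
  have h := congrArg Matrix.transpose S.hG
  rw [Matrix.transpose_mul, Matrix.transpose_mul, Matrix.transpose_transpose, hG,
    ← Matrix.mul_assoc, S.hG, fromBlocks_transpose] at h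
  simpa using congrArg toBlocks₂₂ h.symm

theorem Split.H_inv {Gi : Matrix ι ι K} (hGi : G * Gi = 1) :
    fromBlocks S.H₁ 0 0 S.H₂ * (S.Pi * Gi * S.Piᵀ) = 1 := by
  have h3 : S.Pᵀ * S.Piᵀ = 1 := by rw [← Matrix.transpose_mul, S.hPiP, Matrix.transpose_one]
  rw [← S.hG]
  calc S.Pᵀ * G * S.P * (S.Pi * Gi * S.Piᵀ) = S.Pᵀ * G * (S.P * S.Pi) * Gi * S.Piᵀ := by
        simp only [Matrix.mul_assoc]
    _ = S.Pᵀ * (G * Gi) * S.Piᵀ := by rw [S.hPPi, Matrix.mul_one]; simp only [Matrix.mul_assoc]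
    _ = 1 := by rw [hGi, Matrix.mul_one, h3]

theorem Split.H₁_det (hdet : G.det ≠ 0) : S.H₁.det ≠ 0 := by
  have hGi : G * G⁻¹ = 1 := Matrix.mul_nonsing_inv G (Ne.isUnit hdet)
  have h := S.H_inv hGi
  obtain ⟨Y, hY⟩ : ∃ Y, Y = S.Pi * G⁻¹ * S.Piᵀ := ⟨_, rfl⟩
  rw [← hY, ← fromBlocks_toBlocks Y, fromBlocks_multiply] at h
  have h1 := congrArg toBlocks₁₁ h
  rw [toBlocks_fromBlocks₁₁, Matrix.zero_mul, add_zero] at h1
  have h5 : (1 : Matrix (κ₁ ⊕ κ₂) (κ₁ ⊕ κ₂) K).toBlocks₁₁ = 1 := by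
    rw [← fromBlocks_one, toBlocks_fromBlocks₁₁]
  rw [h5] at h1
  exact Matrix.det_ne_zero_of_right_inverse h1

theorem Split.H₂_det (hdet : G.det ≠ 0) : S.H₂.det ≠ 0 := by
  have hGi : G * G⁻¹ = 1 := Matrix.mul_nonsing_inv G (Ne.isUnit hdet)
  have h := S.H_inv hGi
  obtain ⟨Y, hY⟩ : ∃ Y, Y = S.Pi * G⁻¹ * S.Piᵀ := ⟨_, rfl⟩
  rw [← hY, ← fromBlocks_toBlocks Y, fromBlocks_multiply] at h
  have h1 := congrArg toBlocks₂₂ h
  rw [toBlocks_fromBlocks₂₂, Matrix.zero_mul, zero_add] at h1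
  have h5 : (1 : Matrix (κ₁ ⊕ κ₂) (κ₁ ⊕ κ₂) K).toBlocks₂₂ = 1 := by
    rw [← fromBlocks_one, toBlocks_fromBlocks₂₂]
  rw [h5] at h1
  exact Matrix.det_ne_zero_of_right_inverse h1

/-- the swapped decomposition, for `-M` -/
def Split.swap : Split G (-M) κ₂ κ₁ where
  P := S.P.submatrix id Sum.swap
  Pi := S.Pi.submatrix Sum.swap id
  H₁ := S.H₂
  H₂ := S.H₁
  hPPi := by
    have h : S.P.submatrix id Sum.swap * S.Pi.submatrix Sum.swap id = S.P * S.Pi := by
      ext i j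
      rw [Matrix.mul_apply, Matrix.mul_apply]
      exact (Equiv.sumComm κ₂ κ₁).sum_comp (fun l => S.P i l * S.Pi l j)
    rw [h, S.hPPi]
  hPiP := by
    have h : S.Pi.submatrix Sum.swap id * S.P.submatrix id Sum.swap =
        (S.Pi * S.P).submatrix Sum.swap Sum.swap := by
      ext i j
      rfl
    rw [h, S.hPiP]
    ext i j
    rcases i with i | i <;> rcases j with j | j <;> simp [Matrix.one_apply]
  hMP := by
    have h : -M * S.P.submatrix id Sum.swap = (-(M * S.P)).submatrix id Sum.swap := by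
      ext i j
      simp [Matrix.mul_apply]
    rw [h, S.hMP]
    ext i j
    rcases j with j | j
    · simp only [D0, Matrix.submatrix_apply, Matrix.neg_apply, Matrix.mul_apply,
        Fintype.sum_sum_type, id_eq, Sum.swap_inl]
      simp [Matrix.one_apply]
    · simp only [D0, Matrix.submatrix_apply, Matrix.neg_apply, Matrix.mul_apply,
        Fintype.sum_sum_type, id_eq, Sum.swap_inr]
      simp [Matrix.one_apply]
  hG := by
    have h : (S.P.submatrix id Sum.swap)ᵀ * G * S.P.submatrix id Sum.swap =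
        (S.Pᵀ * G * S.P).submatrix Sum.swap Sum.swap := by
      ext i j
      rfl
    rw [h, S.hG]
    ext i j
    rcases i with i | i <;> rcases j with j | j <;> simp

theorem Split.swap_blk (X : Matrix ι ι K) :
    S.swap.blk X = (S.blk X).submatrix Sum.swap Sum.swap := by
  ext i j
  rfl

end splitexists

end

section

open Matrix Module
open Cfsg.Agent.Lib.H11.ConfOrth
open Cfsg.Agent.Lib.H13.PSLBal
open Cfsg.Agent.Lib.H12.OrdO

section bridge

variable {F : Type*} [Field F] {ι : Type} [Fintype ι] [DecidableEq ι]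
variable (Q : QuadraticForm F (ι → F))

theorem map_refl' {n m : Type*} (X : Matrix n m F) : X.map ⇑(RingEquiv.refl F) = X := by
  ext i j
  rfl

theorem vmap_refl (u : ι → F) : Cfsg.Agent.Lib.H13.PSLBal.vmap (RingEquiv.refl F) u = u := rfl

theorem sf_refl (H : Matrix ι ι F) (u v : ι → F) :
    sf (RingEquiv.refl F) H u v = u ⬝ᵥ H *ᵥ v := rfl

/-- a matrix which is a similitude of the Gram matrix is a similitude of the form -/
theorem sim_of_gram (h2 : (2 : F) ≠ 0) (c : Matrix ι ι F) (μ : F)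
    (hc : cᵀ * gramM Q * c = μ • gramM Q) (x : ι → F) : Q (c *ᵥ x) = μ * Q x := by
  have h1 : QuadraticMap.polar (⇑Q) (c *ᵥ x) (c *ᵥ x) = μ * QuadraticMap.polar (⇑Q) x x := by
    rw [Cfsg.Agent.Lib.H13.OFus.polar_eq_gramM, Cfsg.Agent.Lib.H13.OFus.polar_eq_gramM]
    have : x ⬝ᵥ (μ • gramM Q) *ᵥ x = μ * (x ⬝ᵥ gramM Q *ᵥ x) := by
      rw [Matrix.smul_mulVec, dotProduct_smul, smul_eq_mul]
    rw [← this, ← hc, ← Matrix.mulVec_mulVec, ← Matrix.mulVec_mulVec,
      Matrix.dotProduct_mulVec x cᵀ, Matrix.vecMul_transpose]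
  rw [Cfsg.Agent.Lib.H4.polar_self, Cfsg.Agent.Lib.H4.polar_self] at h1
  have : (2 : F) * Q (c *ᵥ x) = 2 * (μ * Q x) := by linear_combination h1
  exact mul_left_cancel₀ h2 this

theorem mem_iso_iff_gram (h2 : (2 : F) ≠ 0) (g : GL ι F) :
    g ∈ Cfsg.isometryGroup F ⇑Q ↔ (g.1)ᵀ * gramM Q * g.1 = gramM Q := by
  constructor
  · intro h
    exact transpose_gramM_mul Q g h
  · intro h
    rw [mem_iso_iff]
    intro x
    have := sim_of_gram Q h2 g.1 1 (by rw [one_smul]; exact h) x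
    rwa [one_mul] at this

theorem isoGrp_eq (h2 : (2 : F) ≠ 0) :
    isoGrp (RingEquiv.refl F) (gramM Q) = Cfsg.isometryGroup F ⇑Q := by
  ext g
  rw [mem_isoGrp, mem_iso_iff_gram Q h2]
  unfold IsIso
  rw [map_refl']

end bridge

section coresym

variable {K : Type*} [Field K] [Finite K] {κ : Type*} [Fintype κ] [DecidableEq κ]

/-- odd-order normal subgroups of the group of similitudes of a symmetric form consist of
scalars -/
theorem core_sym (h2 : (2 : K) ≠ 0) (H : Matrix κ κ K) (hH : Hᵀ = H) (hdet : H.det ≠ 0)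
    (hn : 3 ≤ Fintype.card κ) (𝒩 : Subgroup (GL κ K))
    (hsim : ∀ x ∈ 𝒩, ∃ μ : K, (x : Matrix κ κ K)ᵀ * H * x = μ • H)
    (hnormal : ∀ k ∈ isoGrp (RingEquiv.refl K) H, ∀ x ∈ 𝒩, k * x * k⁻¹ ∈ 𝒩) {m : ℕ} (hm : Odd m)
    (hpow : ∀ x ∈ 𝒩, ∃ s : K, ((x ^ m : GL κ K) : Matrix κ κ K) = s • 1) :
    ∀ y ∈ 𝒩, ∃ s : K, (y : Matrix κ κ K) = s • 1 := by
  classical
  have hσ1' : ∀ a, (RingEquiv.refl K) a = a := fun a => rfl
  have hH' : (H.map ⇑(RingEquiv.refl K))ᵀ = (1 : K) • H := by rw [map_refl', hH, one_smul]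
  have hiso := exists_iso_sym (RingEquiv.refl K) H hσ1' hn
  obtain ⟨ν, hν⟩ := exists_nonsq (F := K) h2
  haveI : Nonempty κ := by
    rw [← Fintype.card_pos_iff]; omega
  obtain ⟨i₀⟩ := ‹Nonempty κ›
  have hz₀ : (Pi.single i₀ (1 : K) : κ → K) ≠ 0 := by
    intro h
    have := congrFun h i₀
    simp at this
  apply core_reduce (RingEquiv.refl K) H (fun 𝒩' h𝒩' hnormal' m' hm' hpow' =>
    core_I (RingEquiv.refl K) H hσ1' hH' hdet h2 hn hiso hν 𝒩' h𝒩' hnormal' hm' hpow') 𝒩 ?_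
    hnormal hm hpow
  intro x hx
  obtain ⟨μ, hμ⟩ := hsim x hx
  obtain ⟨s, hs⟩ := hpow x hx
  have hsimx : IsSim (RingEquiv.refl K) H (x : Matrix κ κ K) μ := by
    unfold IsSim
    rw [map_refl']
    exact hμ
  exact sim_to_iso_bilin (RingEquiv.refl K) H hσ1' hdet hz₀ hsimx hm hs

/-- a semilinear map normalising projectively all Siegel transformations of a symmetric form is a
scalar and the field automorphism is trivial -/
theorem T_cent_sym' (h2 : (2 : K) ≠ 0) (H : Matrix κ κ K) (hH : Hᵀ = H) (hdet : H.det ≠ 0)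
    (hn : 3 ≤ Fintype.card κ) (g : GL κ K) (τ : K ≃+* K)
    (hcent : ∀ a z : κ → K, z ≠ 0 → sf (RingEquiv.refl K) H z z = 0 →
      sf (RingEquiv.refl K) H a z = 0 → sf (RingEquiv.refl K) H a a ≠ 0 →
      ∃ c : K, (g : Matrix κ κ K) *
        (rfM (RingEquiv.refl K) H (a + z) * rfM (RingEquiv.refl K) H a).map τ =
        c • (rfM (RingEquiv.refl K) H (a + z) * rfM (RingEquiv.refl K) H a * (g : Matrix κ κ K))) :
    (∀ s, τ s = s) ∧ ∃ μ : K, (g : Matrix κ κ K) = μ • 1 := by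
  classical
  have hσ1 : ∀ a, (RingEquiv.refl K) a = a := fun a => rfl
  have hσ : ∀ a, (RingEquiv.refl K) ((RingEquiv.refl K) a) = a := fun a => rfl
  have hH' : (H.map ⇑(RingEquiv.refl K))ᵀ = (1 : K) • H := by rw [map_refl', hH, one_smul]
  have hiso := exists_iso_sym (RingEquiv.refl K) H hσ1 hn
  have hsymm := sf_comm1 (RingEquiv.refl K) H hσ1 hH'
  apply semi_scalar (RingEquiv.refl K) H hσ hH' hdet h2 hn hiso g τ
  intro z hz
  by_cases hz0 : z = 0
  · refine ⟨0, ?_⟩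
    rw [hz0, zero_smul]
    unfold semi
    rw [vmap_zero, Matrix.mulVec_zero]
  obtain ⟨z', hz', hzz'⟩ := exists_hyp_partner (RingEquiv.refl K) H hσ hH' hdet h2 hz0 hz
  obtain ⟨a, ha, haa⟩ := exists_aniso_perp (RingEquiv.refl K) H hσ hH' hdet h2 hn hz hz' hzz'
  have haz : sf (RingEquiv.refl K) H a z = 0 := by rw [hsymm, ha.1]
  obtain ⟨c, hc⟩ := hcent a z hz0 hz haz haa
  exact T_siegel (RingEquiv.refl K) H hσ1 hH' hdet h2 hz0 hz haz haa g τ hc

end coresym

end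

section

open Matrix Module
open Cfsg.Agent.Lib.H11.ConfOrth
open Cfsg.Agent.Lib.H13.PSLBal
open Cfsg.Agent.Lib.H12.OrdO
open scoped commutatorElement

section siegel

variable {K : Type*} [Field K] {κ : Type*} [Fintype κ] [DecidableEq κ]

theorem rfM_neg (H : Matrix κ κ K) (a : κ → K) :
    rfM (RingEquiv.refl K) H (-a) = rfM (RingEquiv.refl K) H a := by
  apply mat_ext_mulVec
  intro v
  rw [rfM_mulVec, rfM_mulVec, sf_neg_left, sf_neg_left, sf_neg_right, neg_neg]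
  by_cases h : sf (RingEquiv.refl K) H a a = 0
  · rw [h]; simp
  · rw [smul_neg, ← neg_smul]
    congr 2
    field_simp

theorem rfG_neg (H : Matrix κ κ K) (a : κ → K) :
    rfG (RingEquiv.refl K) H (-a) = rfG (RingEquiv.refl K) H a := by
  have e : sf (RingEquiv.refl K) H (-a) (-a) = sf (RingEquiv.refl K) H a a := by
    rw [sf_neg_left, sf_neg_right, neg_neg]
  by_cases ha : sf (RingEquiv.refl K) H a a ≠ 0
  · have ha' : sf (RingEquiv.refl K) H (-a) (-a) ≠ 0 := by rw [e]; exact ha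
    apply Units.ext
    rw [rfG_coe _ H ha, rfG_coe _ H ha', rfM_neg]
  · have ha' : ¬ sf (RingEquiv.refl K) H (-a) (-a) ≠ 0 := by rw [e]; exact ha
    unfold rfG
    rw [dif_neg ha, dif_neg ha']

/-- a Siegel transformation is a commutator in the orthogonal group -/
theorem siegel_comm (h2 : (2 : K) ≠ 0) (H : Matrix κ κ K) (hH : Hᵀ = H) {a z : κ → K}
    (hz : sf (RingEquiv.refl K) H z z = 0) (haz : sf (RingEquiv.refl K) H a z = 0)
    (ha : sf (RingEquiv.refl K) H a a ≠ 0) :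
    ∃ (u k : ↥(isoGrp (RingEquiv.refl K) H)),
      ((⁅u, k⁆ : ↥(isoGrp (RingEquiv.refl K) H)) : GL κ K) =
        rfG (RingEquiv.refl K) H (a + z) * rfG (RingEquiv.refl K) H a := by
  have hσ1 : ∀ a, (RingEquiv.refl K) a = a := fun a => rfl
  have hσ : ∀ a, (RingEquiv.refl K) ((RingEquiv.refl K) a) = a := fun a => rfl
  have hH' : (H.map ⇑(RingEquiv.refl K))ᵀ = (1 : K) • H := by rw [map_refl', hH, one_smul]
  have hsymm := sf_comm1 (RingEquiv.refl K) H hσ1 hH'
  have hza : sf (RingEquiv.refl K) H z a = 0 := by rw [hsymm, haz]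
  obtain ⟨α, hα⟩ : ∃ α, α = sf (RingEquiv.refl K) H a a := ⟨_, rfl⟩
  have hu : sf (RingEquiv.refl K) H (a + z) (a + z) = α := by
    rw [sf_add_left, sf_add_right, sf_add_right, haz, hza, hz, ← hα]; ring
  have hw : sf (RingEquiv.refl K) H (a + z + a) (a + z + a) = 4 * α := by
    simp only [sf_add_left, sf_add_right, haz, hza, hz, ← hα]; ring
  have hα0 : α ≠ 0 := by rw [hα]; exact ha
  have hw0 : sf (RingEquiv.refl K) H (a + z + a) (a + z + a) ≠ 0 := by
    rw [hw]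
    have h4 : (4 : K) = 2 * 2 := by norm_num
    rw [h4]
    exact mul_ne_zero (mul_ne_zero h2 h2) hα0
  have hu0 : sf (RingEquiv.refl K) H (a + z) (a + z) ≠ 0 := by rw [hu]; exact hα0
  refine ⟨⟨rfG (RingEquiv.refl K) H (a + z), rfG_mem _ H hσ hH' _⟩,
    ⟨rfG (RingEquiv.refl K) H (a + z + a), rfG_mem _ H hσ hH' _⟩, ?_⟩
  rw [commutatorElement_def]
  simp only [Subgroup.coe_mul, Subgroup.coe_inv]
  have hk := conj_rfG (RingEquiv.refl K) H (rfG_mem _ H hσ hH' (a + z + a)) hu0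
  have hku : ((rfG (RingEquiv.refl K) H (a + z + a) : GL κ K) : Matrix κ κ K) *ᵥ (a + z) = -a := by
    rw [rfG_coe _ H hw0, rfM_mulVec, hw]
    have e : sf (RingEquiv.refl K) H (a + z + a) (a + z) = 2 * α := by
      simp only [sf_add_left, sf_add_right, haz, hza, hz, ← hα]; ring
    rw [e]
    have h40 : (4 : K) ≠ 0 := by
      have h4 : (4 : K) = 2 * 2 := by norm_num
      rw [h4]
      exact mul_ne_zero h2 h2
    have e2 : -2 / (4 * α) * (2 * α) = -1 := by
      rw [div_mul_eq_mul_div, div_eq_iff (mul_ne_zero h40 hα0)]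
      ring
    rw [e2]
    module
  rw [hku, rfG_neg] at hk
  rw [rfG_inv (RingEquiv.refl K) H (a + z), ← hk]
  group

end siegel

section commrel

open Cfsg.Agent.Lib.H13.AutPO

variable {F : Type*} [Field F] [Fintype F] {ι : Type} [Fintype ι] [DecidableEq ι]
variable (Q : QuadraticForm F (ι → F))
variable (hQ : (QuadraticMap.polarBilin Q).Nondegenerate) (hcard : 7 ≤ Fintype.card ι)
variable (hall : Cfsg.gammaPOmega F ⇑Q = ⊤)

omit [Fintype F] in
theorem scalar_val (c : Fˣ) :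
    ((Matrix.GeneralLinearGroup.scalar ι c : GL ι F) : Matrix ι ι F) = (c : F) • 1 := by
  rw [Matrix.GeneralLinearGroup.coe_scalar]
  ext a b
  simp [Matrix.scalar_apply, Matrix.diagonal_apply, Matrix.one_apply]

include hQ hcard hall in
/-- the matrix relation expressing that an automorphism commutes with the automorphism induced
by a similarity -/
theorem comm_rel {T : GL ι F} {τ : F ≃+* F} (hp : Cfsg.IsSemisimilarityPair ⇑Q T τ)
    (ω : ↥(Sim ⇑Q)) (h : semiAut ⇑Q T τ hp * Phi ⇑Q ω = Phi ⇑Q ω * semiAut ⇑Q T τ hp) :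
    ∃ c : F, c ≠ 0 ∧ (T : Matrix ι ι F) * (ω.1 : Matrix ι ι F).map τ =
      c • ((ω.1 : Matrix ι ι F) * (T : Matrix ι ι F)) := by
  have hpL : Cfsg.IsSemisimilarityPair ⇑Q (T * glmap τ ω.1) τ :=
    pair_mul ⇑Q hp (pair_refl_of_sim ⇑Q ω)
  have hpR : Cfsg.IsSemisimilarityPair ⇑Q (ω.1 * T) τ := by
    have := pair_mul ⇑Q (pair_refl_of_sim ⇑Q ω) hp
    rw [glmap_refl] at this
    exact this
  have h2 : semiAut ⇑Q (T * glmap τ ω.1) τ hpL = semiAut ⇑Q (ω.1 * T) τ hpR := by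
    rw [← semiAut_mul_Phi Q τ hp ω hpL, h, ← semiAut_refl, semiAut_mul]
    exact semiAut_congr ⇑Q (by rw [glmap_refl]) rfl _ _
  have h3 := semiAut_eq_imp Q hQ hcard hall _ _ h2
  obtain ⟨c, hc⟩ := (mem_Zs_iff _).1 h3
  refine ⟨c, c.ne_zero, ?_⟩
  have h4 : T * glmap τ ω.1 = (ω.1 * T) * Matrix.GeneralLinearGroup.scalar ι c := by
    rw [← hc]; group
  have h5 := congrArg (fun x : GL ι F => (x : Matrix ι ι F)) h4
  simp only [Units.val_mul, glmap_val, scalar_val] at h5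
  rw [h5, Matrix.mul_smul, Matrix.mul_one]

end commrel

end

end Cfsg.Agent.Lib.H13.MBal
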