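import Mathlib
import Cfsg.Agent.Lib.H13.MBal2

/-!
Local balance in `PΩ⁻_{2m+2}(q)`, part 3 (helper13): block liftings `BlockLift`, the two steps `g1_generic`, `g2_generic` and the generic theorem
`graph_generic`: the centraliser of an involution of graph type (given by a self-adjoint involution `M` over an extension field which
splits the space into two blocks) has no nontrivial normal subgroup of odd order.
-/

set_option autoImplicit false
set_option linter.unusedSectionVars false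
set_option linter.unusedVariables false
set_option linter.unusedSimpArgs false
set_option linter.deprecated false

namespace Cfsg.Agent.Lib.H13.MBal

section

open Matrix Module
open Cfsg.Agent.Lib.H11.ConfOrth
open Cfsg.Agent.Lib.H13.PSLBal
open Cfsg.Agent.Lib.H12.OrdO
open Cfsg.Agent.Lib.H13.AutPO
open scoped commutatorElement

section blockhelpers

variable {K : Type*} [Field K] {κ₁ κ₂ : Type*} [Fintype κ₁] [Fintype κ₂] [DecidableEq κ₁]
  [DecidableEq κ₂]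

theorem toBlocks₁₁_mul_of_diag (X Y : Matrix (κ₁ ⊕ κ₂) (κ₁ ⊕ κ₂) K)
    (hX : X = fromBlocks X.toBlocks₁₁ 0 0 X.toBlocks₂₂) :
    (X * Y).toBlocks₁₁ = X.toBlocks₁₁ * Y.toBlocks₁₁ := by
  conv_lhs => rw [hX, ← fromBlocks_toBlocks Y, fromBlocks_multiply]
  rw [toBlocks_fromBlocks₁₁, Matrix.zero_mul, add_zero]

theorem toBlocks₁₁_one : (1 : Matrix (κ₁ ⊕ κ₂) (κ₁ ⊕ κ₂) K).toBlocks₁₁ = 1 := by
  rw [← fromBlocks_one, toBlocks_fromBlocks₁₁]

theorem toBlocks₁₁_smul (c : K) (X : Matrix (κ₁ ⊕ κ₂) (κ₁ ⊕ κ₂) K) :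
    (c • X).toBlocks₁₁ = c • X.toBlocks₁₁ := by
  ext i j
  rfl

end blockhelpers

section blocklift

variable {F : Type*} [Field F] [Fintype F] {ι : Type} [Fintype ι] [DecidableEq ι]
variable (Q : QuadraticForm F (ι → F))
variable {K : Type*} [Field K] (j : F →+* K)
variable {κ₁ κ₂ : Type*} [Fintype κ₁] [Fintype κ₂] [DecidableEq κ₁] [DecidableEq κ₂]
variable {M : Matrix ι ι K} (S : Split ((gramM Q).map j) M κ₁ κ₂)

/-- a lifting of the isometries of the first block to isometries of the whole space commuting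
with `M` -/
structure BlockLift where
  lift : ↥(isoGrp (RingEquiv.refl K) S.H₁) →* ↥(Cfsg.isometryGroup F ⇑Q)
  lift_comm : ∀ k, ((lift k).1.1.map j) * M = M * ((lift k).1.1.map j)
  lift_blk : ∀ k, (S.blk ((lift k).1.1.map j)).toBlocks₁₁ = (k.1 : Matrix κ₁ κ₁ K)

/-- the similarities commuting with `M` -/
def Cg : Subgroup ↥(Sim ⇑Q) where
  carrier := {y | (y.1.1.map j) * M = M * (y.1.1.map j)}
  one_mem' := by
    show ((1 : GL ι F).1.map j) * M = M * ((1 : GL ι F).1.map j)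
    rw [Units.val_one, Matrix.map_one _ (map_zero j) (map_one j), Matrix.one_mul, Matrix.mul_one]
  mul_mem' := by
    intro a b ha hb
    show ((a * b).1.1.map j) * M = M * ((a * b).1.1.map j)
    have ha' : (a.1.1.map j) * M = M * (a.1.1.map j) := ha
    have hb' : (b.1.1.map j) * M = M * (b.1.1.map j) := hb
    rw [Subgroup.coe_mul, Units.val_mul, Matrix.map_mul, Matrix.mul_assoc, hb', ← Matrix.mul_assoc,
      ha', Matrix.mul_assoc]
  inv_mem' := by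
    intro a ha
    show ((a⁻¹).1.1.map j) * M = M * ((a⁻¹).1.1.map j)
    have ha' : (a.1.1.map j) * M = M * (a.1.1.map j) := ha
    have h1 : ((a⁻¹).1.1.map j) * (a.1.1.map j) = 1 := by
      rw [← Matrix.map_mul, Subgroup.coe_inv, ← Units.val_mul, inv_mul_cancel, Units.val_one,
        Matrix.map_one _ (map_zero j) (map_one j)]
    have h3 : (a.1.1.map j) * ((a⁻¹).1.1.map j) = 1 := by
      rw [← Matrix.map_mul, Subgroup.coe_inv, ← Units.val_mul, mul_inv_cancel, Units.val_one,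
        Matrix.map_one _ (map_zero j) (map_one j)]
    calc ((a⁻¹).1.1.map j) * M = ((a⁻¹).1.1.map j) * M * ((a.1.1.map j) * ((a⁻¹).1.1.map j)) := by
          rw [h3, Matrix.mul_one]
      _ = ((a⁻¹).1.1.map j) * (M * (a.1.1.map j)) * ((a⁻¹).1.1.map j) := by
          simp only [Matrix.mul_assoc]
      _ = (((a⁻¹).1.1.map j) * (a.1.1.map j)) * M * ((a⁻¹).1.1.map j) := by
          rw [← ha']; simp only [Matrix.mul_assoc]
      _ = M * ((a⁻¹).1.1.map j) := by rw [h1, Matrix.one_mul]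

theorem mem_Cg (y : ↥(Sim ⇑Q)) :
    y ∈ Cg Q j (M := M) ↔ (y.1.1.map j) * M = M * (y.1.1.map j) := Iff.rfl

variable (h2 : (2 : K) ≠ 0)

/-- the first block, as a monoid homomorphism into matrices -/
noncomputable def blkHom' : ↥(Cg Q j (M := M)) →* Matrix κ₁ κ₁ K where
  toFun y := (S.blk (y.1.1.1.map j)).toBlocks₁₁
  map_one' := by
    show (S.blk ((1 : GL ι F).1.map j)).toBlocks₁₁ = 1
    rw [Units.val_one, Matrix.map_one _ (map_zero j) (map_one j), S.blk_one, toBlocks₁₁_one]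
  map_mul' := by
    intro a b
    show (S.blk ((a.1 * b.1).1.1.map j)).toBlocks₁₁ = _
    rw [Subgroup.coe_mul, Units.val_mul, Matrix.map_mul, S.blk_mul]
    exact toBlocks₁₁_mul_of_diag _ _ (S.blk_of_comm h2 _ a.2)

/-- the first block, as a group homomorphism -/
noncomputable def blkHom : ↥(Cg Q j (M := M)) →* GL κ₁ K :=
  (Units.map (blkHom' Q j S h2)).comp (toUnits (G := ↥(Cg Q j (M := M)))).toMonoidHom

theorem blkHom_val (y : ↥(Cg Q j (M := M))) :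
    ((blkHom Q j S h2 y : GL κ₁ K) : Matrix κ₁ κ₁ K) = (S.blk (y.1.1.1.map j)).toBlocks₁₁ := rfl

end blocklift

section g1block

variable {F : Type*} [Field F] [Fintype F] {ι : Type} [Fintype ι] [DecidableEq ι]
variable (Q : QuadraticForm F (ι → F))
variable (hQ : (QuadraticMap.polarBilin Q).Nondegenerate) (hcard : 7 ≤ Fintype.card ι)
variable {K : Type*} [Field K] [Finite K] (j : F →+* K)
variable {κ₁ κ₂ : Type*} [Fintype κ₁] [Fintype κ₂] [DecidableEq κ₁] [DecidableEq κ₂]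
variable {M : Matrix ι ι K} (S : Split ((gramM Q).map j) M κ₁ κ₂)
variable (h2 : (2 : K) ≠ 0)

omit [Fintype F] [Finite K] in
/-- the Gram relation of a similarity, extended to `K` -/
theorem sim_gram_map (hne : ∃ v, Q v ≠ 0) (y : ↥(Sim ⇑Q)) :
    (y.1.1.map j)ᵀ * (gramM Q).map j * (y.1.1.map j) =
      j (mult (⇑Q) hne y : F) • (gramM Q).map j := by
  have h := Cfsg.Agent.Lib.H13.OFus.gramM_similitude Q y.1.1 (mult (⇑Q) hne y : F)
    (mult_spec (⇑Q) hne y)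
  have h' := congrArg (fun X : Matrix ι ι F => X.map j) h
  simp only [Matrix.map_mul, Matrix.transpose_map] at h'
  rw [h']
  ext a b
  simp [Matrix.map_apply, Matrix.smul_apply]

include hQ hcard h2 in
/-- first step of the argument for involutions of graph type: in an odd-order normal subgroup of
the centraliser, the first block of every element is scalar -/
theorem g1_block (BL : BlockLift Q j S) (hH₁ : S.H₁ᵀ = S.H₁) (hdet₁ : S.H₁.det ≠ 0)
    (hk : 3 ≤ Fintype.card κ₁) (x : MulAut (Cfsg.POmega F ⇑Q))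
    (hx : ∀ k : ↥(Sim ⇑Q), (k.1.1.map j) * M = M * (k.1.1.map j) →
      Phi ⇑Q k ∈ Subgroup.centralizer {x})
    (N : Subgroup (MulAut (Cfsg.POmega F ⇑Q)))
    (hnorm : ∀ s ∈ (Phi ⇑Q).range ⊓ Subgroup.centralizer {x}, ∀ ν ∈ N, s * ν * s⁻¹ ∈ N)
    (hodd : (Nat.card N).Coprime 2)
    (y : ↥(Sim ⇑Q)) (hy : Phi ⇑Q y ∈ N) (hyM : (y.1.1.map j) * M = M * (y.1.1.map j)) :
    ∃ a : K, (S.blk (y.1.1.map j)).toBlocks₁₁ = a • 1 := by
  classical
  have hne := exists_neO Q hQ hcard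
  have hker := ker_Phi_all Q hQ hcard
  set b₁ := blkHom Q j S h2 with hb₁
  set 𝒩₁ : Subgroup (GL κ₁ K) := ((N.comap (Phi ⇑Q)).subgroupOf (Cg Q j (M := M))).map b₁ with h𝒩₁
  have hmem : ∀ A : GL κ₁ K, A ∈ 𝒩₁ ↔ ∃ z : ↥(Cg Q j (M := M)), Phi ⇑Q z.1 ∈ N ∧ b₁ z = A := by
    intro A
    constructor
    · rintro ⟨z, hz, rfl⟩
      exact ⟨z, hz, rfl⟩
    · rintro ⟨z, hz, rfl⟩
      exact ⟨z, hz, rfl⟩
  have hm : Odd (Nat.card N) := Nat.Coprime.odd_of_left hodd.symm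
  have hall : ∀ A ∈ 𝒩₁, ∃ s : K, (A : Matrix κ₁ κ₁ K) = s • 1 := by
    apply core_sym h2 S.H₁ hH₁ hdet₁ hk 𝒩₁ ?_ ?_ hm ?_
    · -- similitudes
      intro A hA
      obtain ⟨z, hz, rfl⟩ := (hmem A).1 hA
      refine ⟨j (mult (⇑Q) hne z.1 : F), ?_⟩
      have h1 := sim_gram_map Q j hne z.1
      rw [S.sim_iff, S.blk_of_comm h2 _ z.2, S.sim_blocks] at h1
      rw [hb₁, blkHom_val]
      exact h1.1
    · -- normality
      intro k hk' A hA
      obtain ⟨z, hz, rfl⟩ := (hmem A).1 hA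
      set kk := BL.lift ⟨k, hk'⟩ with hkk
      set kS : ↥(Sim ⇑Q) := ⟨kk.1, iso_le_sim _ kk.2⟩ with hkS
      have hkC : kS ∈ Cg Q j (M := M) := BL.lift_comm ⟨k, hk'⟩
      have hkx : Phi ⇑Q kS ∈ (Phi ⇑Q).range ⊓ Subgroup.centralizer {x} :=
        ⟨⟨kS, rfl⟩, hx kS hkC⟩
      have h1 := hnorm _ hkx _ hz
      rw [← map_inv, ← map_mul, ← map_mul] at h1
      rw [hmem]
      obtain ⟨w, hw⟩ : ∃ w : ↥(Cg Q j (M := M)), w = ⟨kS, hkC⟩ * z * ⟨kS, hkC⟩⁻¹ := ⟨_, rfl⟩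
      have hw1 : w.1 = kS * z.1 * kS⁻¹ := by rw [hw]; rfl
      refine ⟨w, by rw [hw1]; exact h1, ?_⟩
      rw [hw, map_mul, map_mul, map_inv]
      have h3 : b₁ ⟨kS, hkC⟩ = k := by
        apply Units.ext
        rw [hb₁, blkHom_val]
        exact BL.lift_blk ⟨k, hk'⟩
      rw [h3]
    · -- powers
      intro A hA
      obtain ⟨z, hz, rfl⟩ := (hmem A).1 hA
      have h1 : (⟨Phi ⇑Q z.1, hz⟩ : N) ^ (Nat.card N) = 1 := pow_card_eq_one'
      have h3 : Phi ⇑Q (z.1 ^ Nat.card N) = 1 := by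
        rw [map_pow]
        exact congrArg Subtype.val h1
      rw [← MonoidHom.mem_ker, hker, Subgroup.mem_subgroupOf, mem_Zs_iff] at h3
      obtain ⟨c, hc⟩ := h3
      refine ⟨j (c : F), ?_⟩
      rw [← map_pow, hb₁, blkHom_val]
      have h5 : ((z ^ Nat.card N : ↥(Cg Q j (M := M))).1.1.1 : Matrix ι ι F) = (c : F) • 1 := by
        have : ((z ^ Nat.card N : ↥(Cg Q j (M := M))).1.1 : GL ι F) =
            Matrix.GeneralLinearGroup.scalar ι c := by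
          rw [← hc]
          simp only [Subgroup.coe_pow]
        rw [this, scalar_val]
      rw [h5]
      have h6 : ((c : F) • (1 : Matrix ι ι F)).map j = j (c : F) • (1 : Matrix ι ι K) := by
        ext a b
        simp [Matrix.map_apply, Matrix.smul_apply, Matrix.one_apply, apply_ite j]
      rw [h6, S.blk_smul, S.blk_one, toBlocks₁₁_smul, toBlocks₁₁_one]
  have hyC : y ∈ Cg Q j (M := M) := hyM
  have h7 := hall (b₁ ⟨y, hyC⟩) ((hmem _).2 ⟨⟨y, hyC⟩, hy, rfl⟩)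
  rw [hb₁, blkHom_val] at h7
  exact h7

end g1block

section g2block

variable {F : Type*} [Field F] [Fintype F] {ι : Type} [Fintype ι] [DecidableEq ι]
variable (Q : QuadraticForm F (ι → F))
variable (hQ : (QuadraticMap.polarBilin Q).Nondegenerate) (hcard : 7 ≤ Fintype.card ι)
variable (hall : Cfsg.gammaPOmega F ⇑Q = ⊤)
variable {K : Type*} [Field K] [Finite K] (j : F →+* K)
variable {κ₁ κ₂ : Type*} [Fintype κ₁] [Fintype κ₂] [DecidableEq κ₁] [DecidableEq κ₂]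
variable {M : Matrix ι ι K} (S : Split ((gramM Q).map j) M κ₁ κ₂)
variable (h2 : (2 : K) ≠ 0)

include hQ hcard hall h2 in
/-- second step of the argument for involutions of graph type: an automorphism commuting with the
lifted Siegel transformations of the first block acts as a scalar on the first block, and the field
automorphism is trivial -/
theorem g2_block (BL : BlockLift Q j S) (hH₁ : S.H₁ᵀ = S.H₁) (hdet₁ : S.H₁.det ≠ 0)
    (hk : 3 ≤ Fintype.card κ₁) (x : MulAut (Cfsg.POmega F ⇑Q))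
    (hx : ∀ k : ↥(Sim ⇑Q), (k.1.1.map j) * M = M * (k.1.1.map j) →
      Phi ⇑Q k ∈ Subgroup.centralizer {x})
    {T : GL ι F} {τ : F ≃+* F} (hp : Cfsg.IsSemisimilarityPair ⇑Q T τ)
    (hρM : ∀ μ ∈ Cfsg.Inn (Cfsg.POmega F ⇑Q) ⊓ Subgroup.centralizer {x},
      semiAut ⇑Q T τ hp * μ = μ * semiAut ⇑Q T τ hp)
    (τ' : K ≃+* K) (hτ' : ∀ a, τ' (j a) = j (τ a))
    (T₁ : GL κ₁ K) (T₂ : Matrix κ₂ κ₂ K)
    (hT : S.Pi * (T.1.map j) * (S.P.map τ') = fromBlocks (T₁ : Matrix κ₁ κ₁ K) 0 0 T₂) :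
    (∀ s, τ' s = s) ∧ ∃ e : K, (T₁ : Matrix κ₁ κ₁ K) = e • 1 := by
  classical
  have hσ : ∀ a, (RingEquiv.refl K) ((RingEquiv.refl K) a) = a := fun a => rfl
  have hH' : (S.H₁.map ⇑(RingEquiv.refl K))ᵀ = (1 : K) • S.H₁ := by rw [map_refl', hH₁, one_smul]
  apply T_cent_sym' h2 S.H₁ hH₁ hdet₁ hk T₁ τ'
  intro a z hz0 hz haz haa
  obtain ⟨u, k, huk⟩ := siegel_comm h2 S.H₁ hH₁ hz haz haa
  have hazaz : sf (RingEquiv.refl K) S.H₁ (a + z) (a + z) ≠ 0 := by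
    have hσ1 : ∀ a, (RingEquiv.refl K) a = a := fun a => rfl
    have hsymm := sf_comm1 (RingEquiv.refl K) S.H₁ hσ1 hH'
    rw [sf_add_left, sf_add_right, sf_add_right, haz, hsymm z a, haz, hz]
    simpa using haa
  rw [← rfG_coe (RingEquiv.refl K) S.H₁ hazaz, ← rfG_coe (RingEquiv.refl K) S.H₁ haa,
    ← Units.val_mul, ← huk]
  obtain ⟨s, hs⟩ : ∃ s : ↥(isoGrp (RingEquiv.refl K) S.H₁), s = ⁅u, k⁆ := ⟨_, rfl⟩
  rw [← hs]
  -- the lifted element
  obtain ⟨ω, hω⟩ : ∃ ω, ω = BL.lift s := ⟨_, rfl⟩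
  have hωΩ : ω ∈ Cfsg.Omega F ⇑Q := by
    rw [hω, hs, map_commutatorElement]
    exact Subgroup.commutator_mem_commutator (Subgroup.mem_top _) (Subgroup.mem_top _)
  obtain ⟨ωS, hωS⟩ : ∃ ωS : ↥(Sim ⇑Q), ωS = ⟨ω.1, iso_le_sim _ ω.2⟩ := ⟨_, rfl⟩
  have hωS1 : ωS.1 = ω.1 := by rw [hωS]
  have hωcomm : (ωS.1.1.map j) * M = M * (ωS.1.1.map j) := by
    rw [hωS1, hω]; exact BL.lift_comm s
  have hωinn : Phi ⇑Q ωS ∈ Cfsg.Inn (Cfsg.POmega F ⇑Q) := by
    rw [inn_eq]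
    refine ⟨ωS, ?_, rfl⟩
    rw [SetLike.mem_coe, Subgroup.mem_subgroupOf, mem_omegaGL_iff, hωS1]
    exact ⟨ω.2, hωΩ⟩
  have hcomm := hρM _ ⟨hωinn, hx ωS hωcomm⟩
  obtain ⟨c, hc0, hc⟩ := comm_rel Q hQ hcard hall hp ωS hcomm
  refine ⟨j c, ?_⟩
  -- over `K`
  have hcK : (T.1.map j) * ((ωS.1.1.map j).map τ') = j c • ((ωS.1.1.map j) * (T.1.map j)) := by
    have h1 := congrArg (fun X : Matrix ι ι F => X.map j) hc
    simp only [Matrix.map_mul] at h1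
    have e1 : ((ωS.1.1 : Matrix ι ι F).map τ).map j = ((ωS.1.1 : Matrix ι ι F).map j).map τ' := by
      ext p q
      simp only [Matrix.map_apply]
      exact (hτ' _).symm
    have e2 : (c • ((ωS.1.1 : Matrix ι ι F) * (T.1 : Matrix ι ι F))).map j =
        j c • (((ωS.1.1 : Matrix ι ι F) * (T.1 : Matrix ι ι F)).map j) := by
      ext p q
      rw [Matrix.map_apply, Matrix.smul_apply, Matrix.smul_apply, Matrix.map_apply, smul_eq_mul,
        smul_eq_mul, map_mul]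
    rw [e1, e2, Matrix.map_mul] at h1
    exact h1
  obtain ⟨ωK, hωK⟩ : ∃ ωK, ωK = (ωS.1.1 : Matrix ι ι F).map j := ⟨_, rfl⟩
  rw [← hωK] at hcK hωcomm
  obtain ⟨TK, hTK⟩ : ∃ TK, TK = (T.1 : Matrix ι ι F).map j := ⟨_, rfl⟩
  rw [← hTK] at hcK hT
  have hW := S.blk_of_comm h2 ωK hωcomm
  have hW11 : (S.blk ωK).toBlocks₁₁ = (s.1 : Matrix κ₁ κ₁ K) := by
    rw [hωK, hωS1, hω]; exact BL.lift_blk s
  have hPτ : (S.P.map τ') * (S.Pi.map τ') = 1 := by
    rw [← Matrix.map_mul, S.hPPi, Matrix.map_one _ (map_zero τ') (map_one τ')]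
  have key : (S.Pi * TK * (S.P.map τ')) * ((S.blk ωK).map τ') =
      j c • (S.blk ωK * (S.Pi * TK * (S.P.map τ'))) := by
    unfold Split.blk
    rw [Matrix.map_mul, Matrix.map_mul]
    calc S.Pi * TK * S.P.map ⇑τ' * (S.Pi.map ⇑τ' * ωK.map ⇑τ' * S.P.map ⇑τ')
        = S.Pi * TK * (S.P.map ⇑τ' * S.Pi.map ⇑τ') * ωK.map ⇑τ' * S.P.map ⇑τ' := by
          simp only [Matrix.mul_assoc]
      _ = S.Pi * (TK * ωK.map ⇑τ') * S.P.map ⇑τ' := by
          rw [hPτ, Matrix.mul_one]; simp only [Matrix.mul_assoc]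
      _ = j c • (S.Pi * (ωK * TK) * S.P.map ⇑τ') := by
          rw [hcK, Matrix.mul_smul, Matrix.smul_mul]
      _ = j c • (S.Pi * ωK * (S.P * S.Pi) * TK * S.P.map ⇑τ') := by
          rw [S.hPPi, Matrix.mul_one]; simp only [Matrix.mul_assoc]
      _ = j c • (S.Pi * ωK * S.P * (S.Pi * TK * S.P.map ⇑τ')) := by
          simp only [Matrix.mul_assoc]
  rw [hT, hW, hW11] at key
  have hmap : (fromBlocks (s.1 : Matrix κ₁ κ₁ K) 0 0 (S.blk ωK).toBlocks₂₂).map ⇑τ' =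
      fromBlocks ((s.1 : Matrix κ₁ κ₁ K).map ⇑τ') 0 0 ((S.blk ωK).toBlocks₂₂.map ⇑τ') := by
    rw [fromBlocks_map]
    simp
  rw [hmap, fromBlocks_multiply, fromBlocks_multiply, fromBlocks_smul] at key
  have h11 := congrArg toBlocks₁₁ key
  simpa using h11

end g2block

end

section

open Matrix Module
open Cfsg.Agent.Lib.H11.ConfOrth
open Cfsg.Agent.Lib.H13.PSLBal
open Cfsg.Agent.Lib.H12.OrdO
open Cfsg.Agent.Lib.H13.AutPO
open scoped commutatorElement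

section small

theorem odd_sq_eq_one {G : Type*} [Group G] (g : G) (hodd : Odd (orderOf g)) (h2 : g ^ 2 = 1) :
    g = 1 := by
  have h1 : orderOf g ∣ 2 := orderOf_dvd_of_pow_eq_one h2
  have h3 : orderOf g = 1 := by
    rcases (Nat.dvd_prime Nat.prime_two).1 h1 with h | h
    · exact h
    · rw [h] at hodd
      exact absurd hodd (by decide)
  exact orderOf_eq_one_iff.1 h3

theorem scalar_of_card_one {K : Type*} [Field K] {κ : Type*} [Fintype κ] [DecidableEq κ]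
    (h : Fintype.card κ = 1) (X : Matrix κ κ K) : ∃ a : K, X = a • 1 := by
  obtain ⟨i, hi⟩ := Fintype.card_eq_one_iff.1 h
  refine ⟨X i i, ?_⟩
  ext a b
  rw [hi a, hi b]
  simp

theorem eq_of_smul_eq {K : Type*} [Field K] {κ : Type*} [Fintype κ] [DecidableEq κ]
    [Nonempty κ] (H : Matrix κ κ K) (hH : H.det ≠ 0) {a b : K} (h : a • H = b • H) : a = b := by
  have hne : H ≠ 0 := by
    rintro rfl
    exact hH Matrix.det_zero
  by_contra hab
  apply hne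
  have h1 : (a - b) • H = 0 := by rw [sub_smul, h, sub_self]
  rcases smul_eq_zero.1 h1 with h3 | h3
  · exact absurd (sub_eq_zero.1 h3) hab
  · exact h3

end small

section generic

variable {F : Type*} [Field F] [Fintype F] {ι : Type} [Fintype ι] [DecidableEq ι]
variable (Q : QuadraticForm F (ι → F))
variable (hQ : (QuadraticMap.polarBilin Q).Nondegenerate) (hcard : 7 ≤ Fintype.card ι)
variable (hall : Cfsg.gammaPOmega F ⇑Q = ⊤)
variable {K : Type*} [Field K] [Finite K] (j : F →+* K)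
variable {κ₁ κ₂ : Type*} [Fintype κ₁] [Fintype κ₂] [DecidableEq κ₁] [DecidableEq κ₂]
variable {M : Matrix ι ι K} (S : Split ((gramM Q).map j) M κ₁ κ₂)
variable (h2 : (2 : K) ≠ 0)

omit [Fintype F] [Finite K] in
theorem map_smul_one (c : F) :
    ((c • (1 : Matrix ι ι F)).map j) = j c • (1 : Matrix ι ι K) := by
  ext a b
  simp [Matrix.map_apply, Matrix.smul_apply, Matrix.one_apply, apply_ite j]

include hQ hcard h2 in
/-- a similarity commuting with `M` whose two blocks are scalar has a scalar square -/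
theorem phi_sq_of_blocks (hj : Function.Injective j) [Nonempty κ₁] [Nonempty κ₂]
    (hdet₁ : S.H₁.det ≠ 0) (hdet₂ : S.H₂.det ≠ 0)
    (y : ↥(Sim ⇑Q)) (yK : Matrix ι ι K) (hyK : yK = (y.1.1 : Matrix ι ι F).map j)
    (hyM : (y.1.1.map j) * M = M * (y.1.1.map j)) (a d : K)
    (ha : (S.blk yK).toBlocks₁₁ = a • 1) (hd : (S.blk yK).toBlocks₂₂ = d • 1) :
    Phi ⇑Q (y * y) = 1 := by
  have hne := exists_neO Q hQ hcard
  have hker := ker_Phi_all Q hQ hcard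
  -- the multiplier
  have h1 := sim_gram_map Q j hne y
  rw [← hyK] at h1 hyM
  rw [S.sim_iff, S.blk_of_comm h2 _ hyM, S.sim_blocks, ha, hd] at h1
  obtain ⟨h1a, h1d⟩ := h1
  have haa : a * a = j (mult (⇑Q) hne y : F) := by
    apply eq_of_smul_eq S.H₁ hdet₁
    rw [← h1a, Matrix.transpose_smul, Matrix.transpose_one, Matrix.smul_mul, Matrix.one_mul,
      Matrix.mul_smul, Matrix.mul_one, smul_smul]
  have hdd : d * d = j (mult (⇑Q) hne y : F) := by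
    apply eq_of_smul_eq S.H₂ hdet₂
    rw [← h1d, Matrix.transpose_smul, Matrix.transpose_one, Matrix.smul_mul, Matrix.one_mul,
      Matrix.mul_smul, Matrix.mul_one, smul_smul]
  have hsq : yK * yK = j (mult (⇑Q) hne y : F) • 1 := by
    apply S.blk_injective
    rw [S.blk_mul, S.blk_smul, S.blk_one, S.blk_of_comm h2 _ hyM, ha, hd, fromBlocks_multiply,
      ← fromBlocks_one, fromBlocks_smul]
    simp only [Matrix.smul_mul, Matrix.mul_smul, Matrix.mul_one, Matrix.one_mul, smul_smul,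
      Matrix.mul_zero, Matrix.zero_mul, add_zero, zero_add, smul_zero, haa, hdd]
  have hsqF : (y.1.1 : Matrix ι ι F) * (y.1.1 : Matrix ι ι F) =
      (mult (⇑Q) hne y : F) • 1 := by
    have h3 : ((y.1.1 : Matrix ι ι F) * (y.1.1 : Matrix ι ι F)).map j =
        ((mult (⇑Q) hne y : F) • (1 : Matrix ι ι F)).map j := by
      rw [Matrix.map_mul, ← hyK, hsq, map_smul_one]
    ext p q
    exact hj (congrFun (congrFun h3 p) q)
  have hker2 : Phi ⇑Q (y * y) = 1 := by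
    rw [← MonoidHom.mem_ker, hker, Subgroup.mem_subgroupOf, mem_Zs_iff]
    refine ⟨mult (⇑Q) hne y, ?_⟩
    apply Units.ext
    rw [Subgroup.coe_mul, Units.val_mul, hsqF, scalar_val]
  exact hker2

include hQ hcard h2 in
/-- generic form of the first step -/
theorem g1_generic (hj : Function.Injective j) (BL₁ : BlockLift Q j S) (BL₂ : BlockLift Q j S.swap)
    (hH₁ : S.H₁ᵀ = S.H₁) (hdet₁ : S.H₁.det ≠ 0) (hH₂ : S.H₂ᵀ = S.H₂) (hdet₂ : S.H₂.det ≠ 0)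
    (hs₁ : 3 ≤ Fintype.card κ₁ ∨ Fintype.card κ₁ = 1)
    (hs₂ : 3 ≤ Fintype.card κ₂ ∨ Fintype.card κ₂ = 1)
    (x : MulAut (Cfsg.POmega F ⇑Q))
    (hx : ∀ k : ↥(Sim ⇑Q), (k.1.1.map j) * M = M * (k.1.1.map j) →
      Phi ⇑Q k ∈ Subgroup.centralizer {x})
    (hcomm : ∀ y : ↥(Sim ⇑Q), Phi ⇑Q y ∈ Subgroup.centralizer {x} → Odd (orderOf (Phi ⇑Q y)) →
      (y.1.1.map j) * M = M * (y.1.1.map j))
    (N : Subgroup (MulAut (Cfsg.POmega F ⇑Q)))
    (hN : N ≤ (Phi ⇑Q).range ⊓ Subgroup.centralizer {x})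
    (hnorm : ∀ s ∈ (Phi ⇑Q).range ⊓ Subgroup.centralizer {x}, ∀ ν ∈ N, s * ν * s⁻¹ ∈ N)
    (hodd : (Nat.card N).Coprime 2) : N = ⊥ := by
  classical
  have hne := exists_neO Q hQ hcard
  have hker := ker_Phi_all Q hQ hcard
  have hm : Odd (Nat.card N) := Nat.Coprime.odd_of_left hodd.symm
  haveI : Nonempty κ₁ := by
    rw [← Fintype.card_pos_iff]; omega
  haveI : Nonempty κ₂ := by
    rw [← Fintype.card_pos_iff]; omega
  rw [eq_bot_iff]
  intro ν hν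
  rw [Subgroup.mem_bot]
  obtain ⟨y, rfl⟩ := (hN hν).1
  have hνC := (hN hν).2
  have hνodd : Odd (orderOf (Phi ⇑Q y)) := by
    have h1 : orderOf (⟨Phi ⇑Q y, hν⟩ : N) ∣ Nat.card N := orderOf_dvd_natCard _
    rw [← Subgroup.orderOf_coe] at h1
    exact Odd.of_dvd_nat hm h1
  have hyM := hcomm y hνC hνodd
  obtain ⟨yK, hyK⟩ : ∃ yK, yK = (y.1.1 : Matrix ι ι F).map j := ⟨_, rfl⟩
  obtain ⟨a, ha⟩ : ∃ a : K, (S.blk yK).toBlocks₁₁ = a • 1 := by
    rcases hs₁ with h | h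
    · rw [hyK]
      exact g1_block Q hQ hcard j S h2 BL₁ hH₁ hdet₁ h x hx N hnorm hodd y hν hyM
    · exact scalar_of_card_one h _
  obtain ⟨d, hd⟩ : ∃ d : K, (S.blk yK).toBlocks₂₂ = d • 1 := by
    rcases hs₂ with h | h
    · have hx' : ∀ k : ↥(Sim ⇑Q), (k.1.1.map j) * (-M) = (-M) * (k.1.1.map j) →
          Phi ⇑Q k ∈ Subgroup.centralizer {x} := by
        intro k hk
        apply hx k
        rw [Matrix.mul_neg, Matrix.neg_mul, neg_inj] at hk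
        exact hk
      have hyM' : (y.1.1.map j) * (-M) = (-M) * (y.1.1.map j) := by
        rw [Matrix.mul_neg, Matrix.neg_mul, hyM]
      have h1 := g1_block Q hQ hcard j S.swap h2 BL₂ hH₂ hdet₂ h x hx' N hnorm hodd y hν hyM'
      rw [S.swap_blk] at h1
      rw [hyK]
      exact h1
    · exact scalar_of_card_one h _
  have hker2 := phi_sq_of_blocks Q hQ hcard j S h2 hj hdet₁ hdet₂ y yK hyK hyM a d ha hd
  apply odd_sq_eq_one _ hνodd
  rw [pow_two, ← map_mul, hker2]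

end generic

section blockunits

variable {K : Type*} [Field K] {κ₁ κ₂ : Type*} [Fintype κ₁] [Fintype κ₂] [DecidableEq κ₁]
  [DecidableEq κ₂]

theorem toBlocks₂₂_mul_of_diag (X Y : Matrix (κ₁ ⊕ κ₂) (κ₁ ⊕ κ₂) K)
    (hX : X = fromBlocks X.toBlocks₁₁ 0 0 X.toBlocks₂₂) :
    (X * Y).toBlocks₂₂ = X.toBlocks₂₂ * Y.toBlocks₂₂ := by
  conv_lhs => rw [hX, ← fromBlocks_toBlocks Y, fromBlocks_multiply]
  rw [toBlocks_fromBlocks₂₂, Matrix.zero_mul, zero_add]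

theorem toBlocks₂₂_one : (1 : Matrix (κ₁ ⊕ κ₂) (κ₁ ⊕ κ₂) K).toBlocks₂₂ = 1 := by
  rw [← fromBlocks_one, toBlocks_fromBlocks₂₂]

theorem map_D0 (τ' : K ≃+* K) : (D0 K κ₁ κ₂).map ⇑τ' = D0 K κ₁ κ₂ := by
  unfold D0
  rw [fromBlocks_map]
  congr 1
  · exact Matrix.map_one _ (map_zero τ') (map_one τ')
  · exact Matrix.map_zero _ (map_zero τ')
  · exact Matrix.map_zero _ (map_zero τ')
  · ext a b
    simp [Matrix.map_apply, Matrix.neg_apply, Matrix.one_apply, apply_ite τ']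

end blockunits

section generic2

variable {F : Type*} [Field F] [Fintype F] {ι : Type} [Fintype ι] [DecidableEq ι]
variable (Q : QuadraticForm F (ι → F))
variable (hQ : (QuadraticMap.polarBilin Q).Nondegenerate) (hcard : 7 ≤ Fintype.card ι)
variable (hall : Cfsg.gammaPOmega F ⇑Q = ⊤)
variable {K : Type*} [Field K] [Finite K] (j : F →+* K)
variable {κ₁ κ₂ : Type*} [Fintype κ₁] [Fintype κ₂] [DecidableEq κ₁] [DecidableEq κ₂]
variable {M : Matrix ι ι K} (S : Split ((gramM Q).map j) M κ₁ κ₂)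
variable (h2 : (2 : K) ≠ 0)

set_option maxHeartbeats 1000000 in
include hQ hcard hall h2 in
/-- generic form of the second step -/
theorem g2_generic (hj : Function.Injective j) (BL₁ : BlockLift Q j S) (BL₂ : BlockLift Q j S.swap)
    (hH₁ : S.H₁ᵀ = S.H₁) (hdet₁ : S.H₁.det ≠ 0) (hH₂ : S.H₂ᵀ = S.H₂) (hdet₂ : S.H₂.det ≠ 0)
    (hs₁ : 3 ≤ Fintype.card κ₁ ∨ Fintype.card κ₁ = 1)
    (hs₂ : 3 ≤ Fintype.card κ₂ ∨ Fintype.card κ₂ = 1)
    (hs : 3 ≤ Fintype.card κ₁ ∨ 3 ≤ Fintype.card κ₂)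
    (x : MulAut (Cfsg.POmega F ⇑Q))
    (hx : ∀ k : ↥(Sim ⇑Q), (k.1.1.map j) * M = M * (k.1.1.map j) →
      Phi ⇑Q k ∈ Subgroup.centralizer {x})
    (hsemi : ∀ (T : GL ι F) (τ : F ≃+* F) (hp : Cfsg.IsSemisimilarityPair ⇑Q T τ),
      semiAut ⇑Q T τ hp ∈ Subgroup.centralizer {x} → Odd (orderOf (semiAut ⇑Q T τ hp)) →
      ∃ τ' : K ≃+* K, (∀ a, τ' (j a) = j (τ a)) ∧ (T.1.map j) * (M.map τ') = M * (T.1.map j))
    (ρ : MulAut (Cfsg.POmega F ⇑Q)) (hρ : ρ ∈ Subgroup.centralizer {x}) (hodd : Odd (orderOf ρ))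
    (hρM : ∀ μ ∈ Cfsg.Inn (Cfsg.POmega F ⇑Q) ⊓ Subgroup.centralizer {x}, ρ * μ = μ * ρ) :
    ρ = 1 := by
  classical
  have hne := exists_neO Q hQ hcard
  have hker := ker_Phi_all Q hQ hcard
  haveI : Nonempty κ₁ := by
    rw [← Fintype.card_pos_iff]; omega
  haveI : Nonempty κ₂ := by
    rw [← Fintype.card_pos_iff]; omega
  obtain ⟨T, τ, hp, rfl⟩ := exists_formO Q hall ρ
  obtain ⟨τ', hτ', hTM⟩ := hsemi T τ hp hρ hodd
  obtain ⟨TK, hTK⟩ : ∃ TK, TK = (T.1 : Matrix ι ι F).map j := ⟨_, rfl⟩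
  obtain ⟨TiK, hTiK⟩ : ∃ TiK, TiK = ((T⁻¹ : GL ι F).1 : Matrix ι ι F).map j := ⟨_, rfl⟩
  rw [← hTK] at hTM
  have hTTi : TK * TiK = 1 := by
    rw [hTK, hTiK, ← Matrix.map_mul, ← Units.val_mul, mul_inv_cancel, Units.val_one,
      Matrix.map_one _ (map_zero j) (map_one j)]
  have hTiT : TiK * TK = 1 := by
    rw [hTK, hTiK, ← Matrix.map_mul, ← Units.val_mul, inv_mul_cancel, Units.val_one,
      Matrix.map_one _ (map_zero j) (map_one j)]
  have hPτ : (S.P.map τ') * (S.Pi.map τ') = 1 := by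
    rw [← Matrix.map_mul, S.hPPi, Matrix.map_one _ (map_zero τ') (map_one τ')]
  have hPiτ : (S.Pi.map τ') * (S.P.map τ') = 1 := by
    rw [← Matrix.map_mul, S.hPiP, Matrix.map_one _ (map_zero τ') (map_one τ')]
  obtain ⟨T', hT'⟩ : ∃ T', T' = S.Pi * TK * S.P.map τ' := ⟨_, rfl⟩
  obtain ⟨T'i, hT'i⟩ : ∃ T'i, T'i = S.Pi.map τ' * TiK * S.P := ⟨_, rfl⟩
  have hcomm' : T' * D0 K κ₁ κ₂ = D0 K κ₁ κ₂ * T' := by
    rw [hT']
    calc S.Pi * TK * S.P.map ⇑τ' * D0 K κ₁ κ₂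
        = S.Pi * TK * ((S.P * D0 K κ₁ κ₂).map ⇑τ') := by
          rw [Matrix.map_mul, map_D0]; simp only [Matrix.mul_assoc]
      _ = S.Pi * (TK * M.map ⇑τ') * S.P.map ⇑τ' := by
          rw [← S.hMP, Matrix.map_mul]; simp only [Matrix.mul_assoc]
      _ = (S.Pi * M) * TK * S.P.map ⇑τ' := by rw [hTM]; simp only [Matrix.mul_assoc]
      _ = D0 K κ₁ κ₂ * (S.Pi * TK * S.P.map ⇑τ') := by
          rw [S.hPiM]; simp only [Matrix.mul_assoc]
  have h12 : T' * T'i = 1 := by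
    rw [hT', hT'i]
    calc S.Pi * TK * S.P.map ⇑τ' * (S.Pi.map ⇑τ' * TiK * S.P)
        = S.Pi * TK * (S.P.map ⇑τ' * S.Pi.map ⇑τ') * TiK * S.P := by simp only [Matrix.mul_assoc]
      _ = S.Pi * (TK * TiK) * S.P := by rw [hPτ, Matrix.mul_one]; simp only [Matrix.mul_assoc]
      _ = 1 := by rw [hTTi, Matrix.mul_one, S.hPiP]
  have h21 : T'i * T' = 1 := by
    rw [hT', hT'i]
    calc S.Pi.map ⇑τ' * TiK * S.P * (S.Pi * TK * S.P.map ⇑τ')
        = S.Pi.map ⇑τ' * TiK * (S.P * S.Pi) * TK * S.P.map ⇑τ' := by simp only [Matrix.mul_assoc]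
      _ = S.Pi.map ⇑τ' * (TiK * TK) * S.P.map ⇑τ' := by
          rw [S.hPPi, Matrix.mul_one]; simp only [Matrix.mul_assoc]
      _ = 1 := by rw [hTiT, Matrix.mul_one, hPiτ]
  have hcommi : T'i * D0 K κ₁ κ₂ = D0 K κ₁ κ₂ * T'i := by
    calc T'i * D0 K κ₁ κ₂ = T'i * D0 K κ₁ κ₂ * (T' * T'i) := by rw [h12, Matrix.mul_one]
      _ = T'i * (D0 K κ₁ κ₂ * T') * T'i := by simp only [Matrix.mul_assoc]
      _ = (T'i * T') * D0 K κ₁ κ₂ * T'i := by rw [← hcomm']; simp only [Matrix.mul_assoc]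
      _ = D0 K κ₁ κ₂ * T'i := by rw [h21, Matrix.one_mul]
  have hd' := blockdiag_of_comm h2 T' hcomm'
  have hdi := blockdiag_of_comm h2 T'i hcommi
  obtain ⟨T₁, hT₁⟩ : ∃ T₁ : GL κ₁ K, (T₁ : Matrix κ₁ κ₁ K) = T'.toBlocks₁₁ := by
    refine ⟨⟨T'.toBlocks₁₁, T'i.toBlocks₁₁, ?_, ?_⟩, rfl⟩
    · rw [← toBlocks₁₁_mul_of_diag _ _ hd', h12, toBlocks₁₁_one]
    · rw [← toBlocks₁₁_mul_of_diag _ _ hdi, h21, toBlocks₁₁_one]
  obtain ⟨T₂, hT₂⟩ : ∃ T₂ : GL κ₂ K, (T₂ : Matrix κ₂ κ₂ K) = T'.toBlocks₂₂ := by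
    refine ⟨⟨T'.toBlocks₂₂, T'i.toBlocks₂₂, ?_, ?_⟩, rfl⟩
    · rw [← toBlocks₂₂_mul_of_diag _ _ hd', h12, toBlocks₂₂_one]
    · rw [← toBlocks₂₂_mul_of_diag _ _ hdi, h21, toBlocks₂₂_one]
  have hTd : S.Pi * (T.1.map j) * (S.P.map τ') =
      fromBlocks (T₁ : Matrix κ₁ κ₁ K) 0 0 (T₂ : Matrix κ₂ κ₂ K) := by
    rw [← hTK, ← hT', hT₁, hT₂]
    exact hd'
  have hTd' : S.swap.Pi * (T.1.map j) * (S.swap.P.map τ') =
      fromBlocks (T₂ : Matrix κ₂ κ₂ K) 0 0 (T₁ : Matrix κ₁ κ₁ K) := by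
    have e : S.swap.Pi * (T.1.map j) * (S.swap.P.map τ') =
        (S.Pi * (T.1.map j) * (S.P.map τ')).submatrix Sum.swap Sum.swap := by
      ext a b
      rfl
    rw [e, hTd]
    ext a b
    rcases a with a | a <;> rcases b with b | b <;> simp
  have hx' : ∀ k : ↥(Sim ⇑Q), (k.1.1.map j) * (-M) = (-M) * (k.1.1.map j) →
      Phi ⇑Q k ∈ Subgroup.centralizer {x} := by
    intro k hk
    apply hx k
    rw [Matrix.mul_neg, Matrix.neg_mul, neg_inj] at hk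
    exact hk
  have hb1 : 3 ≤ Fintype.card κ₁ → (∀ s, τ' s = s) ∧ ∃ e : K, (T₁ : Matrix κ₁ κ₁ K) = e • 1 :=
    fun h => g2_block Q hQ hcard hall j S h2 BL₁ hH₁ hdet₁ h x hx hp hρM τ' hτ' T₁ _ hTd
  have hb2 : 3 ≤ Fintype.card κ₂ → (∀ s, τ' s = s) ∧ ∃ e : K, (T₂ : Matrix κ₂ κ₂ K) = e • 1 :=
    fun h => g2_block Q hQ hcard hall j S.swap h2 BL₂ hH₂ hdet₂ h x hx' hp hρM τ' hτ' T₂ _ hTd'
  have hτ'1 : ∀ s, τ' s = s := by
    rcases hs with h | h
    · exact (hb1 h).1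
    · exact (hb2 h).1
  have hτ1 : τ = RingEquiv.refl F := by
    ext a
    apply hj
    rw [← hτ', hτ'1]
    rfl
  subst hτ1
  obtain ⟨e₁, he₁⟩ : ∃ e : K, (T₁ : Matrix κ₁ κ₁ K) = e • 1 := by
    rcases hs₁ with h | h
    · exact (hb1 h).2
    · exact scalar_of_card_one h _
  obtain ⟨e₂, he₂⟩ : ∃ e : K, (T₂ : Matrix κ₂ κ₂ K) = e • 1 := by
    rcases hs₂ with h | h
    · exact (hb2 h).2
    · exact scalar_of_card_one h _
  have hPid : S.P.map ⇑τ' = S.P := by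
    ext a b
    exact hτ'1 _
  obtain ⟨TS, hTS⟩ : ∃ TS : ↥(Sim ⇑Q), TS = ⟨T, sim_of_pair_refl ⇑Q hp⟩ := ⟨_, rfl⟩
  have hTS1 : TS.1 = T := by rw [hTS]
  have hρeq : semiAut ⇑Q T (RingEquiv.refl F) hp = Phi ⇑Q TS := by
    rw [← semiAut_refl]
    exact semiAut_congr ⇑Q hTS1.symm rfl _ _
  rw [hPid] at hTd
  have hblk : S.blk TK = fromBlocks (e₁ • 1) 0 0 (e₂ • 1) := by
    unfold Split.blk
    rw [hTK, hTd, he₁, he₂]
  have hTMc : (TS.1.1.map j) * M = M * (TS.1.1.map j) := by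
    have hMid : M.map ⇑τ' = M := by
      ext a b
      exact hτ'1 _
    rw [hMid] at hTM
    rw [hTS1, ← hTK]
    exact hTM
  have hsq := phi_sq_of_blocks Q hQ hcard j S h2 hj hdet₁ hdet₂ TS TK (by rw [hTK, hTS1]) hTMc e₁ e₂
    (by rw [hblk, toBlocks_fromBlocks₁₁]) (by rw [hblk, toBlocks_fromBlocks₂₂])
  rw [hρeq] at hodd ⊢
  apply odd_sq_eq_one _ hodd
  rw [pow_two, ← map_mul, hsq]

end generic2

section generic3

variable {F : Type*} [Field F] [Fintype F] {ι : Type} [Fintype ι] [DecidableEq ι]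
variable (Q : QuadraticForm F (ι → F))
variable (hQ : (QuadraticMap.polarBilin Q).Nondegenerate) (hcard : 7 ≤ Fintype.card ι)
variable (hall : Cfsg.gammaPOmega F ⇑Q = ⊤)
variable {K : Type*} [Field K] [Finite K] (j : F →+* K)
variable {κ₁ κ₂ : Type*} [Fintype κ₁] [Fintype κ₂] [DecidableEq κ₁] [DecidableEq κ₂]
variable {M : Matrix ι ι K} (S : Split ((gramM Q).map j) M κ₁ κ₂)
variable (h2 : (2 : K) ≠ 0)

include hQ hcard hall h2 in
/-- generic form of the statement on involutions of graph type: the centraliser has no nontrivial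
normal subgroup of odd order -/
theorem graph_generic (hj : Function.Injective j) (BL₁ : BlockLift Q j S)
    (BL₂ : BlockLift Q j S.swap)
    (hH₁ : S.H₁ᵀ = S.H₁) (hdet₁ : S.H₁.det ≠ 0) (hH₂ : S.H₂ᵀ = S.H₂) (hdet₂ : S.H₂.det ≠ 0)
    (hs₁ : 3 ≤ Fintype.card κ₁ ∨ Fintype.card κ₁ = 1)
    (hs₂ : 3 ≤ Fintype.card κ₂ ∨ Fintype.card κ₂ = 1)
    (hs : 3 ≤ Fintype.card κ₁ ∨ 3 ≤ Fintype.card κ₂)
    (x : MulAut (Cfsg.POmega F ⇑Q))
    (hx : ∀ k : ↥(Sim ⇑Q), (k.1.1.map j) * M = M * (k.1.1.map j) →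
      Phi ⇑Q k ∈ Subgroup.centralizer {x})
    (hcomm : ∀ y : ↥(Sim ⇑Q), Phi ⇑Q y ∈ Subgroup.centralizer {x} → Odd (orderOf (Phi ⇑Q y)) →
      (y.1.1.map j) * M = M * (y.1.1.map j))
    (hsemi : ∀ (T : GL ι F) (τ : F ≃+* F) (hp : Cfsg.IsSemisimilarityPair ⇑Q T τ),
      semiAut ⇑Q T τ hp ∈ Subgroup.centralizer {x} → Odd (orderOf (semiAut ⇑Q T τ hp)) →
      ∃ τ' : K ≃+* K, (∀ a, τ' (j a) = j (τ a)) ∧ (T.1.map j) * (M.map τ') = M * (T.1.map j))
    (A : Subgroup (MulAut (Cfsg.POmega F ⇑Q))) (hInnA : Cfsg.Inn (Cfsg.POmega F ⇑Q) ≤ A) :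
    ¬ HasNPC 2 ↥(A ⊓ Subgroup.centralizer {x}) := by
  classical
  haveI := inn_normal (Cfsg.POmega F ⇑Q)
  have hfin : Finite (MulAut (Cfsg.POmega F ⇑Q)) := inferInstance
  have hND : Cfsg.Inn (Cfsg.POmega F ⇑Q) ≤ (Phi ⇑Q).range := by
    rw [inn_eq]
    rintro _ ⟨k, -, rfl⟩
    exact ⟨k, rfl⟩
  apply lemma_G (Cfsg.Inn (Cfsg.POmega F ⇑Q)) (Phi ⇑Q).range A hND hInnA x
  · intro N hN hnorm hcop
    exact g1_generic Q hQ hcard j S h2 hj BL₁ BL₂ hH₁ hdet₁ hH₂ hdet₂ hs₁ hs₂ x hx hcomm N hN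
      hnorm hcop
  · intro ρ hρ hodd hcent
    exact g2_generic Q hQ hcard hall j S h2 hj BL₁ BL₂ hH₁ hdet₁ hH₂ hdet₂ hs₁ hs₂ hs x hx hsemi
      ρ hρ.2 hodd hcent

end generic3

end

end Cfsg.Agent.Lib.H13.MBal
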