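import Mathlib
import Cfsg.Agent.Lib.H13.MBal3

/-!
Local balance in `PΩ⁻_{2m+2}(q)`, part 4 (helper13): the three kinds of involutions induced by improper similarities. `type1_main` (an involutory
isometry of determinant `-1`), conjugation-compatible decompositions over a quadratic extension (`splitConj`, `liftConj`),
`type3_generic`/`type3_main` (a similarity whose square is a nonsquare scalar equal to its multiplier), and `improper_invol`.
-/

set_option autoImplicit false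
set_option linter.unusedSectionVars false
set_option linter.unusedVariables false
set_option linter.unusedSimpArgs false
set_option linter.deprecated false

namespace Cfsg.Agent.Lib.H13.MBal

section

open Matrix Module
open Cfsg.Agent.Lib.H11.ConfOrth
open Cfsg.Agent.Lib.H13.PSLBal
open Cfsg.Agent.Lib.H12.OrdO
open Cfsg.Agent.Lib.H13.AutPO
open scoped commutatorElement

section liftid

variable {F : Type*} [Field F] [Fintype F] {ι : Type} [Fintype ι] [DecidableEq ι]
variable (Q : QuadraticForm F (ι → F))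
variable {κ₁ κ₂ : Type*} [Fintype κ₁] [Fintype κ₂] [DecidableEq κ₁] [DecidableEq κ₂]
variable {M : Matrix ι ι F} (S : Split ((gramM Q).map (RingHom.id F)) M κ₁ κ₂)
variable (h2 : (2 : F) ≠ 0)

omit [Fintype F] [Fintype ι] [DecidableEq ι] in
theorem map_id' {n m : Type*} (X : Matrix n m F) : X.map ⇑(RingHom.id F) = X := by
  ext a b
  rfl

/-- the block matrix with second block the identity -/
def dg1 (κ₂ : Type*) [DecidableEq κ₂] {κ₁ : Type*} (A : Matrix κ₁ κ₁ F) :
    Matrix (κ₁ ⊕ κ₂) (κ₁ ⊕ κ₂) F := fromBlocks A 0 0 (1 : Matrix κ₂ κ₂ F)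

omit [Fintype F] in
theorem dg1_one : dg1 κ₂ (1 : Matrix κ₁ κ₁ F) = 1 := by
  unfold dg1
  rw [fromBlocks_one]

omit [Fintype F] in
theorem dg1_mul (A B : Matrix κ₁ κ₁ F) : dg1 κ₂ (A * B) = dg1 κ₂ A * dg1 κ₂ B := by
  unfold dg1
  rw [fromBlocks_multiply]
  simp

/-- the block embedding, as a monoid homomorphism into matrices -/
noncomputable def liftMat : ↥(isoGrp (RingEquiv.refl F) S.H₁) →* Matrix ι ι F where
  toFun k := S.P * dg1 κ₂ (k.1 : Matrix κ₁ κ₁ F) * S.Pi
  map_one' := by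
    show S.P * dg1 κ₂ ((1 : GL κ₁ F) : Matrix κ₁ κ₁ F) * S.Pi = 1
    rw [Units.val_one, dg1_one, Matrix.mul_one, S.hPPi]
  map_mul' := by
    intro a b
    show S.P * dg1 κ₂ ((a.1 * b.1 : GL κ₁ F) : Matrix κ₁ κ₁ F) * S.Pi = _
    rw [Units.val_mul, dg1_mul]
    calc S.P * (dg1 κ₂ (a.1 : Matrix κ₁ κ₁ F) * dg1 κ₂ (b.1 : Matrix κ₁ κ₁ F)) * S.Pi
        = S.P * dg1 κ₂ (a.1 : Matrix κ₁ κ₁ F) * (1 : Matrix (κ₁ ⊕ κ₂) (κ₁ ⊕ κ₂) F) *
            dg1 κ₂ (b.1 : Matrix κ₁ κ₁ F) * S.Pi := by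
          rw [Matrix.mul_one]; simp only [Matrix.mul_assoc]
      _ = S.P * dg1 κ₂ (a.1 : Matrix κ₁ κ₁ F) * S.Pi *
            (S.P * dg1 κ₂ (b.1 : Matrix κ₁ κ₁ F) * S.Pi) := by
          rw [← S.hPiP]; simp only [Matrix.mul_assoc]

/-- the block embedding into `GL` -/
noncomputable def liftGL : ↥(isoGrp (RingEquiv.refl F) S.H₁) →* GL ι F :=
  (Units.map (liftMat Q S)).comp
    (toUnits (G := ↥(isoGrp (RingEquiv.refl F) S.H₁))).toMonoidHom

theorem liftGL_val (k : ↥(isoGrp (RingEquiv.refl F) S.H₁)) :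
    ((liftGL Q S k : GL ι F) : Matrix ι ι F) =
      S.P * dg1 κ₂ (k.1 : Matrix κ₁ κ₁ F) * S.Pi := rfl

include h2 in
theorem liftGL_mem (k : ↥(isoGrp (RingEquiv.refl F) S.H₁)) :
    liftGL Q S k ∈ Cfsg.isometryGroup F ⇑Q := by
  rw [mem_iso_iff_gram Q h2, liftGL_val]
  have h := (S.sim_iff (S.P * dg1 κ₂ (k.1 : Matrix κ₁ κ₁ F) * S.Pi) 1).2 (by
    rw [S.blk_unblk]
    unfold dg1
    rw [S.sim_blocks]
    constructor
    · have hk : IsIso (RingEquiv.refl F) S.H₁ (k.1 : Matrix κ₁ κ₁ F) := k.2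
      unfold IsIso at hk
      rw [map_refl'] at hk
      rw [hk, one_smul]
    · rw [Matrix.transpose_one, Matrix.one_mul, Matrix.mul_one, one_smul])
  rw [one_smul] at h
  exact h

/-- the block lifting for an involution defined over the field itself -/
noncomputable def liftId : BlockLift Q (RingHom.id F) S where
  lift := (liftGL Q S).codRestrict (Cfsg.isometryGroup F ⇑Q) (liftGL_mem Q S h2)
  lift_comm := by
    intro k
    show ((liftGL Q S k : GL ι F) : Matrix ι ι F) * M =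
      M * ((liftGL Q S k : GL ι F) : Matrix ι ι F)
    rw [liftGL_val]
    exact S.comm_of_blk _ _
  lift_blk := by
    intro k
    show (S.blk ((liftGL Q S k : GL ι F) : Matrix ι ι F)).toBlocks₁₁ = _
    rw [liftGL_val, S.blk_unblk]
    unfold dg1
    rw [toBlocks_fromBlocks₁₁]

end liftid

section oddsign

variable {F : Type*} [Field F] [Fintype F] {ι : Type} [Fintype ι] [DecidableEq ι]
variable (Q : QuadraticForm F (ι → F))
variable (hQ : (QuadraticMap.polarBilin Q).Nondegenerate) (hcard : 7 ≤ Fintype.card ι)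

omit [Fintype F] in
/-- the relation between a matrix and the partial norms of a semilinear map normalising it up to a
scalar fixed by the field automorphism -/
theorem pn_rel (T : GL ι F) (τ : F ≃+* F) (t : Matrix ι ι F) (c : F) (hc : τ c = c)
    (hrel : (T : Matrix ι ι F) * t.map τ = c • (t * (T : Matrix ι ι F))) (i : ℕ) :
    ((PN τ T i : GL ι F) : Matrix ι ι F) * t.map ⇑(τ ^ i) =
      c ^ i • (t * ((PN τ T i : GL ι F) : Matrix ι ι F)) := by
  induction i with
  | zero =>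
    rw [PN_zero, Units.val_one, Matrix.one_mul, Matrix.mul_one, pow_zero, pow_zero, one_smul]
    ext a b
    rfl
  | succ i ih =>
    have e : t.map ⇑(τ ^ (i + 1)) = (t.map ⇑(τ ^ i)).map τ := by
      ext a b
      rw [pow_succ']
      rfl
    rw [PN_succ, Units.val_mul, glmap_val, e, Matrix.mul_assoc, ← Matrix.map_mul, ih]
    have e2 : (c ^ i • (t * ((PN τ T i : GL ι F) : Matrix ι ι F))).map ⇑τ =
        c ^ i • (t.map τ * ((PN τ T i : GL ι F) : Matrix ι ι F).map τ) := by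
      ext a b
      rw [Matrix.map_apply, Matrix.smul_apply, Matrix.smul_apply, smul_eq_mul, smul_eq_mul, map_mul,
        map_pow, hc, ← Matrix.map_mul, Matrix.map_apply]
    rw [e2, Matrix.mul_smul, ← Matrix.mul_assoc, hrel, Matrix.smul_mul, smul_smul, pow_succ,
      Matrix.mul_assoc]

include hQ hcard in
/-- for an automorphism of odd order the sign in the commutation relation with an involution is
trivial -/
theorem rel_one_of_odd {T : GL ι F} {τ : F ≃+* F} (hp : Cfsg.IsSemisimilarityPair ⇑Q T τ)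
    (t : Matrix ι ι F) (ht0 : t ≠ 0) (c : F) (hc2 : c * c = 1)
    (hrel : (T : Matrix ι ι F) * t.map τ = c • (t * (T : Matrix ι ι F)))
    (hodd : Odd (orderOf (semiAut ⇑Q T τ hp))) : c = 1 := by
  have hcc : c = 1 ∨ c = -1 := by
    have : (c - 1) * (c + 1) = 0 := by linear_combination hc2
    rcases mul_eq_zero.1 this with h | h
    · left; linear_combination h
    · right; linear_combination h
  have hc : τ c = c := by
    rcases hcc with h | h
    · rw [h, map_one]
    · rw [h, map_neg, map_one]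
  obtain ⟨k, hk⟩ : ∃ k, k = orderOf (semiAut ⇑Q T τ hp) := ⟨_, rfl⟩
  rw [← hk] at hodd
  have hpow : (semiAut ⇑Q T τ hp) ^ k = 1 := by rw [hk, pow_orderOf_eq_one]
  rw [semiAut_pow] at hpow
  obtain ⟨hτk, hz⟩ := semi_ker_all Q hQ hcard _ _ _ hpow
  obtain ⟨e, he⟩ := (mem_Zs_iff _).1 hz
  have h1 := pn_rel T τ t c hc hrel k
  rw [he, hτk, scalar_val] at h1
  have h3 : t.map ⇑(RingEquiv.refl F) = t := map_refl' t
  rw [h3, Matrix.smul_mul, Matrix.one_mul, Matrix.mul_smul, Matrix.mul_one, smul_smul] at h1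
  have h4 : (c ^ k - 1) • ((e : F) • t) = 0 := by
    rw [sub_smul, one_smul, smul_smul, ← h1, sub_self]
  have hck : c ^ k = 1 := by
    rcases smul_eq_zero.1 h4 with h5 | h5
    · linear_combination h5
    · exfalso
      rcases smul_eq_zero.1 h5 with h6 | h6
      · exact e.ne_zero h6
      · exact ht0 h6
  rcases hcc with h | h
  · exact h
  · rw [h, Odd.neg_one_pow hodd] at hck
    rw [h]
    exact hck

end oddsign

section splitcard

variable {K : Type*} [Field K] {ι : Type*} [Fintype ι] [DecidableEq ι]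
  {κ₁ κ₂ : Type*} [Fintype κ₁] [Fintype κ₂] [DecidableEq κ₁] [DecidableEq κ₂]
variable {G M : Matrix ι ι K}

theorem Split.card_eq (S : Split G M κ₁ κ₂) :
    Fintype.card ι = Fintype.card κ₁ + Fintype.card κ₂ := by
  have e : (ι → K) ≃ₗ[K] (κ₁ ⊕ κ₂ → K) :=
    LinearEquiv.ofLinear (Matrix.toLin' S.Pi) (Matrix.toLin' S.P)
      (by rw [← Matrix.toLin'_mul, S.hPiP, Matrix.toLin'_one])
      (by rw [← Matrix.toLin'_mul, S.hPPi, Matrix.toLin'_one])
  have h := e.finrank_eq
  rwa [Module.finrank_fintype_fun_eq_card, Module.finrank_fintype_fun_eq_card,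
    Fintype.card_sum] at h

theorem Split.det_eq (S : Split G M κ₁ κ₂) (X : Matrix ι ι K) : X.det = (S.blk X).det := by
  classical
  have hc : Fintype.card ι = Fintype.card (κ₁ ⊕ κ₂) := by rw [S.card_eq, Fintype.card_sum]
  set e : ι ≃ κ₁ ⊕ κ₂ := Fintype.equivOfCardEq hc with he
  have h1 : S.P.submatrix id e * S.Pi.submatrix e id = 1 := by
    rw [Matrix.submatrix_mul_equiv, S.hPPi, Matrix.submatrix_id_id]
  have h3 : X = S.P.submatrix id e * (S.blk X).submatrix e e * S.Pi.submatrix e id := by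
    rw [Matrix.submatrix_mul_equiv, Matrix.submatrix_mul_equiv]
    conv_lhs => rw [S.eq_of_blk X]
    rfl
  have h4 : (S.P.submatrix id e).det * (S.Pi.submatrix e id).det = 1 := by
    rw [← Matrix.det_mul, h1, Matrix.det_one]
  conv_lhs => rw [h3]
  rw [Matrix.det_mul, Matrix.det_mul, Matrix.det_submatrix_equiv_self]
  linear_combination (S.blk X).det * h4

theorem det_D0 : (D0 K κ₁ κ₂).det = (-1) ^ Fintype.card κ₂ := by
  unfold D0
  rw [Matrix.det_fromBlocks_zero₂₁, Matrix.det_one, one_mul, Matrix.det_neg, Matrix.det_one,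
    mul_one]

end splitcard

end

section

open Matrix Module
open Cfsg.Agent.Lib.H11.ConfOrth
open Cfsg.Agent.Lib.H13.PSLBal
open Cfsg.Agent.Lib.H12.OrdO
open Cfsg.Agent.Lib.H13.AutPO
open scoped commutatorElement

section type1

variable {F : Type*} [Field F] [Fintype F] {ι : Type} [Fintype ι] [DecidableEq ι]
variable (Q : QuadraticForm F (ι → F))
variable (hQ : (QuadraticMap.polarBilin Q).Nondegenerate) (hcard : 8 ≤ Fintype.card ι)
variable (hall : Cfsg.gammaPOmega F ⇑Q = ⊤)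

include hQ hcard hall in
/-- local balance for improper involutions of the first type: the similarity is an involutory
isometry of determinant `-1` -/
theorem type1_main (h2 : (2 : F) ≠ 0) (heven : Even (Fintype.card ι))
    (t : ↥(Sim ⇑Q)) (htiso : t.1 ∈ Cfsg.isometryGroup F ⇑Q) (htt : t * t = 1)
    (hdet : (t.1.1 : Matrix ι ι F).det = -1)
    (A : Subgroup (MulAut (Cfsg.POmega F ⇑Q))) (hInnA : Cfsg.Inn (Cfsg.POmega F ⇑Q) ≤ A) :
    ¬ HasNPC 2 ↥(A ⊓ Subgroup.centralizer {Phi ⇑Q t}) := by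
  classical
  have hc7 : 7 ≤ Fintype.card ι := by omega
  obtain ⟨M, hMdef⟩ : ∃ M : Matrix ι ι F, M = (t.1.1 : Matrix ι ι F) := ⟨_, rfl⟩
  have hM : M * M = 1 := by
    have := congrArg (fun x : ↥(Sim ⇑Q) => ((x.1 : GL ι F) : Matrix ι ι F)) htt
    simp only [Subgroup.coe_mul, Units.val_mul, Subgroup.coe_one, Units.val_one] at this
    rw [hMdef]; exact this
  have hGs : (gramM Q)ᵀ = gramM Q := Cfsg.Agent.Lib.H13.OFus.gramM_transpose Q
  have hGd : (gramM Q).det ≠ 0 := gramM_det_ne_zero Q hQ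
  have hMG : Mᵀ * gramM Q = gramM Q * M := by
    have h1 := transpose_gramM_mul Q t.1 htiso
    rw [← hMdef] at h1
    calc Mᵀ * gramM Q = Mᵀ * gramM Q * (M * M) := by rw [hM, Matrix.mul_one]
      _ = (Mᵀ * gramM Q * M) * M := by simp only [Matrix.mul_assoc]
      _ = gramM Q * M := by rw [h1]
  obtain ⟨k₁, k₂, ⟨S⟩⟩ := exists_split h2 (gramM Q) M hM hMG
  have hk : Fintype.card ι = k₁ + k₂ := by
    have := S.card_eq
    rwa [Fintype.card_fin, Fintype.card_fin] at this
  have hdetM : M.det = (-1) ^ k₂ := by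
    rw [S.det_eq, S.blk_M, det_D0, Fintype.card_fin]
  have hk₂ : Odd k₂ := by
    by_contra hcon
    rw [Nat.not_odd_iff_even] at hcon
    rw [hcon.neg_one_pow, hMdef, hdet] at hdetM
    have : (2 : F) = 0 := by linear_combination -hdetM
    exact h2 this
  have hk₁ : Odd k₁ := by
    rw [hk] at heven
    by_contra hcon
    rw [Nat.not_odd_iff_even] at hcon
    have := (Nat.even_add.1 heven).1 hcon
    exact (Nat.not_odd_iff_even.2 this) hk₂
  have hs₁ : 3 ≤ Fintype.card (Fin k₁) ∨ Fintype.card (Fin k₁) = 1 := by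
    rw [Fintype.card_fin]
    obtain ⟨a, ha⟩ := hk₁
    omega
  have hs₂ : 3 ≤ Fintype.card (Fin k₂) ∨ Fintype.card (Fin k₂) = 1 := by
    rw [Fintype.card_fin]
    obtain ⟨a, ha⟩ := hk₂
    omega
  have hs : 3 ≤ Fintype.card (Fin k₁) ∨ 3 ≤ Fintype.card (Fin k₂) := by
    rw [Fintype.card_fin, Fintype.card_fin]
    omega
  have hx : ∀ k : ↥(Sim ⇑Q), (k.1.1.map (RingHom.id F)) * M = M * (k.1.1.map (RingHom.id F)) →
      Phi ⇑Q k ∈ Subgroup.centralizer {Phi ⇑Q t} := by
    intro k hk'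
    have h1 : (k.1.1 : Matrix ι ι F) * M = M * (k.1.1 : Matrix ι ι F) := hk'
    have h3 : k * t = t * k := by
      apply Subtype.ext
      apply Units.ext
      rw [Subgroup.coe_mul, Subgroup.coe_mul, Units.val_mul, Units.val_mul, ← hMdef]
      exact h1
    rw [Subgroup.mem_centralizer_iff]
    intro z hz
    rw [Set.mem_singleton_iff] at hz
    subst hz
    rw [← map_mul, ← map_mul, h3]
  have hM0 : M ≠ 0 := by
    intro h
    rw [h, Matrix.zero_mul] at hM
    haveI : Nonempty ι := by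
      rw [← Fintype.card_pos_iff]; omega
    obtain ⟨i⟩ := ‹Nonempty ι›
    have := congrFun (congrFun hM i) i
    simp at this
  have hsemi : ∀ (T : GL ι F) (τ : F ≃+* F) (hp : Cfsg.IsSemisimilarityPair ⇑Q T τ),
      semiAut ⇑Q T τ hp ∈ Subgroup.centralizer {Phi ⇑Q t} →
      Odd (orderOf (semiAut ⇑Q T τ hp)) →
      ∃ τ' : F ≃+* F, (∀ a, τ' ((RingHom.id F) a) = (RingHom.id F) (τ a)) ∧
        (T.1.map (RingHom.id F)) * (M.map τ') = M * (T.1.map (RingHom.id F)) := by
    intro T τ hp hcen hodd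
    refine ⟨τ, fun a => rfl, ?_⟩
    show (T.1 : Matrix ι ι F) * M.map τ = M * (T.1 : Matrix ι ι F)
    rw [Subgroup.mem_centralizer_iff] at hcen
    have h1 := (hcen _ (Set.mem_singleton _)).symm
    obtain ⟨c, hc0, hc⟩ := comm_rel Q hQ hc7 hall hp t h1
    rw [← hMdef] at hc
    have hMτ : M.map τ * M.map τ = 1 := by
      rw [← Matrix.map_mul, hM, Matrix.map_one _ (map_zero τ) (map_one τ)]
    have hc2 : c * c = 1 := by
      have h3 : (T.1 : Matrix ι ι F) = (c * c) • (T.1 : Matrix ι ι F) := by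
        calc (T.1 : Matrix ι ι F) = (T.1 : Matrix ι ι F) * (M.map τ * M.map τ) := by
              rw [hMτ, Matrix.mul_one]
          _ = ((T.1 : Matrix ι ι F) * M.map τ) * M.map τ := by rw [Matrix.mul_assoc]
          _ = c • (M * ((T.1 : Matrix ι ι F) * M.map τ)) := by
              conv_lhs => rw [hc]
              rw [Matrix.smul_mul, Matrix.mul_assoc]
          _ = (c * c) • ((M * M) * (T.1 : Matrix ι ι F)) := by
              rw [hc, Matrix.mul_smul, smul_smul, Matrix.mul_assoc]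
          _ = (c * c) • (T.1 : Matrix ι ι F) := by rw [hM, Matrix.one_mul]
      have h4 : (c * c - 1) • (T.1 : Matrix ι ι F) = 0 := by
        rw [sub_smul, one_smul, ← h3, sub_self]
      rcases smul_eq_zero.1 h4 with h5 | h5
      · linear_combination h5
      · exfalso
        have h6 : (T.1 : Matrix ι ι F) * ((T⁻¹ : GL ι F) : Matrix ι ι F) = 1 := by
          rw [← Units.val_mul, mul_inv_cancel, Units.val_one]
        rw [h5, Matrix.zero_mul] at h6
        haveI : Nonempty ι := by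
          rw [← Fintype.card_pos_iff]; omega
        obtain ⟨i⟩ := ‹Nonempty ι›
        have := congrFun (congrFun h6 i) i
        simp at this
    have hc1 := rel_one_of_odd Q hQ hc7 hp M hM0 c hc2 hc hodd
    rw [hc, hc1, one_smul]
  have hcomm : ∀ y : ↥(Sim ⇑Q), Phi ⇑Q y ∈ Subgroup.centralizer {Phi ⇑Q t} →
      Odd (orderOf (Phi ⇑Q y)) →
      (y.1.1.map (RingHom.id F)) * M = M * (y.1.1.map (RingHom.id F)) := by
    intro y hy hodd
    have e : Phi ⇑Q y = semiAut ⇑Q y.1 (RingEquiv.refl F) (pair_refl_of_sim ⇑Q y) :=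
      (semiAut_refl ⇑Q y).symm
    rw [e] at hy hodd
    obtain ⟨τ', hτ', h⟩ := hsemi y.1 (RingEquiv.refl F) (pair_refl_of_sim ⇑Q y) hy hodd
    have hMid : M.map ⇑τ' = M := by
      ext a b
      exact hτ' _
    rw [hMid] at h
    exact h
  exact graph_generic Q hQ hc7 hall (RingHom.id F) S h2 (fun a b h => h) (liftId Q S h2)
    (liftId Q S.swap h2) (S.H₁_symm hGs) (S.H₁_det hGd) (S.H₂_symm hGs) (S.H₂_det hGd)
    hs₁ hs₂ hs (Phi ⇑Q t) hx hcomm hsemi A hInnA

end type1

end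

section

open Matrix Module
open Cfsg.Agent.Lib.H11.ConfOrth
open Cfsg.Agent.Lib.H13.PSLBal
open Cfsg.Agent.Lib.H12.OrdO
open Cfsg.Agent.Lib.H13.AutPO
open scoped commutatorElement

section swapmat

variable {K : Type*} [Field K] {κ : Type*} [Fintype κ] [DecidableEq κ]

/-- the block swap matrix -/
def Jm (K : Type*) [Field K] (κ : Type*) [DecidableEq κ] : Matrix (κ ⊕ κ) (κ ⊕ κ) K :=
  fromBlocks 0 1 1 0

theorem Jm_mul_self : Jm K κ * Jm K κ = 1 := by
  unfold Jm
  rw [fromBlocks_multiply]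
  simp

theorem Jm_transpose : (Jm K κ)ᵀ = Jm K κ := by
  unfold Jm
  rw [fromBlocks_transpose]
  simp

theorem Jm_map (σ : K ≃+* K) : (Jm K κ).map ⇑σ = Jm K κ := by
  unfold Jm
  rw [fromBlocks_map]
  congr 1
  · ext a b; simp
  · ext a b; simp [Matrix.one_apply, apply_ite]
  · ext a b; simp [Matrix.one_apply, apply_ite]
  · ext a b; simp

theorem Jm_conj (A D : Matrix κ κ K) :
    Jm K κ * fromBlocks A 0 0 D * Jm K κ = fromBlocks D 0 0 A := by
  unfold Jm
  rw [fromBlocks_multiply, fromBlocks_multiply]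
  simp

end swapmat

section splitconj

variable {K : Type*} [Field K] {ι : Type*} [Fintype ι] [DecidableEq ι]
  {κ₁ κ₂ : Type*} [Fintype κ₁] [Fintype κ₂] [DecidableEq κ₁] [DecidableEq κ₂]
variable {G M : Matrix ι ι K} (S₀ : Split G M κ₁ κ₂)
variable (σ : K ≃+* K) (hσσ : ∀ z, σ (σ z) = z) (hM : M.map ⇑σ = -M)

include hσσ in
theorem map_map_self {n m : Type*} (X : Matrix n m K) : (X.map ⇑σ).map ⇑σ = X := by
  ext a b
  exact hσσ _

set_option maxHeartbeats 1000000 in
include S₀ hσσ hM in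
/-- when a field involution negates `M`, the two eigenspaces are conjugate and the decomposition
may be chosen compatible with the conjugation -/
theorem splitConj (h2 : (2 : K) ≠ 0) :
    ∃ S : Split G M κ₁ κ₁, S.P.map ⇑σ = S.P * Jm K κ₁ := by
  obtain ⟨R, hR⟩ : ∃ R, R = S₀.Pi * S₀.P.map ⇑σ := ⟨_, rfl⟩
  have hPR : S₀.P.map ⇑σ = S₀.P * R := by
    rw [hR, ← Matrix.mul_assoc, S₀.hPPi, Matrix.one_mul]
  have hMPc : M * S₀.P.map ⇑σ = -(S₀.P.map ⇑σ * D0 K κ₁ κ₂) := by
    have h1 : (M * S₀.P).map ⇑σ = (S₀.P * D0 K κ₁ κ₂).map ⇑σ := by rw [S₀.hMP]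
    rw [Matrix.map_mul, Matrix.map_mul, hM, map_D0] at h1
    rw [← h1, Matrix.neg_mul, neg_neg]
  have hanti : R * D0 K κ₁ κ₂ = -(D0 K κ₁ κ₂ * R) := by
    rw [hR]
    calc S₀.Pi * S₀.P.map ⇑σ * D0 K κ₁ κ₂ = S₀.Pi * (S₀.P.map ⇑σ * D0 K κ₁ κ₂) := by
          rw [Matrix.mul_assoc]
      _ = -(S₀.Pi * M * S₀.P.map ⇑σ) := by
          rw [Matrix.mul_assoc, hMPc, Matrix.mul_neg, neg_neg]
      _ = -(D0 K κ₁ κ₂ * (S₀.Pi * S₀.P.map ⇑σ)) := by
          rw [S₀.hPiM, Matrix.mul_assoc]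
  have hRanti := blockanti_of_anticomm h2 R hanti
  obtain ⟨B, hB⟩ : ∃ B, B = R.toBlocks₁₂ := ⟨_, rfl⟩
  obtain ⟨C, hC⟩ : ∃ C, C = R.toBlocks₂₁ := ⟨_, rfl⟩
  rw [← hB, ← hC] at hRanti
  have hRR : R * R.map ⇑σ = 1 := by
    have h1 : R.map ⇑σ = S₀.Pi.map ⇑σ * S₀.P := by
      rw [hR, Matrix.map_mul, map_map_self σ hσσ]
    rw [h1]
    calc R * (S₀.Pi.map ⇑σ * S₀.P) = S₀.Pi * (S₀.P.map ⇑σ * S₀.Pi.map ⇑σ) * S₀.P := by
          rw [hR]; simp only [Matrix.mul_assoc]
      _ = 1 := by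
          rw [← Matrix.map_mul, S₀.hPPi, Matrix.map_one _ (map_zero σ) (map_one σ), Matrix.mul_one,
            S₀.hPiP]
  have hBC : B * C.map ⇑σ = 1 ∧ C * B.map ⇑σ = 1 := by
    rw [hRanti, fromBlocks_map, fromBlocks_multiply] at hRR
    simp only [Matrix.map_zero _ (map_zero σ), Matrix.zero_mul, Matrix.mul_zero, add_zero,
      zero_add] at hRR
    have h11 := congrArg toBlocks₁₁ hRR
    have h22 := congrArg toBlocks₂₂ hRR
    rw [toBlocks_fromBlocks₁₁, toBlocks₁₁_one] at h11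
    rw [toBlocks_fromBlocks₂₂, toBlocks₂₂_one] at h22
    exact ⟨h11, h22⟩
  obtain ⟨hBC1, hCB1⟩ := hBC
  have hBC2 : B.map ⇑σ * C = 1 := by
    have : (B * C.map ⇑σ).map ⇑σ = (1 : Matrix κ₁ κ₁ K).map ⇑σ := by rw [hBC1]
    rwa [Matrix.map_mul, map_map_self σ hσσ, Matrix.map_one _ (map_zero σ) (map_one σ)] at this
  obtain ⟨E, hE⟩ : ∃ E : Matrix (κ₁ ⊕ κ₂) (κ₁ ⊕ κ₁) K, E = fromBlocks 1 0 0 C := ⟨_, rfl⟩
  obtain ⟨Ei, hEi⟩ : ∃ Ei : Matrix (κ₁ ⊕ κ₁) (κ₁ ⊕ κ₂) K, Ei = fromBlocks 1 0 0 (B.map ⇑σ) :=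
    ⟨_, rfl⟩
  have hEEi : E * Ei = 1 := by
    rw [hE, hEi, fromBlocks_multiply]
    simp only [Matrix.one_mul, Matrix.mul_zero, add_zero, Matrix.zero_mul, zero_add, Matrix.mul_one,
      hCB1, fromBlocks_one]
  have hEiE : Ei * E = 1 := by
    rw [hE, hEi, fromBlocks_multiply]
    simp only [Matrix.one_mul, Matrix.mul_zero, add_zero, Matrix.zero_mul, zero_add, Matrix.mul_one,
      hBC2, fromBlocks_one]
  have hDE : D0 K κ₁ κ₂ * E = E * D0 K κ₁ κ₁ := by
    rw [hE]
    unfold D0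
    rw [fromBlocks_multiply, fromBlocks_multiply]
    simp
  refine ⟨⟨S₀.P * E, Ei * S₀.Pi, S₀.H₁, Cᵀ * S₀.H₂ * C, ?_, ?_, ?_, ?_⟩, ?_⟩
  · calc S₀.P * E * (Ei * S₀.Pi) = S₀.P * (E * Ei) * S₀.Pi := by simp only [Matrix.mul_assoc]
      _ = 1 := by rw [hEEi, Matrix.mul_one, S₀.hPPi]
  · calc Ei * S₀.Pi * (S₀.P * E) = Ei * (S₀.Pi * S₀.P) * E := by simp only [Matrix.mul_assoc]
      _ = 1 := by rw [S₀.hPiP, Matrix.mul_one, hEiE]
  · rw [← Matrix.mul_assoc, S₀.hMP, Matrix.mul_assoc, hDE, Matrix.mul_assoc]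
  · rw [Matrix.transpose_mul]
    calc Eᵀ * S₀.Pᵀ * G * (S₀.P * E) = Eᵀ * (S₀.Pᵀ * G * S₀.P) * E := by
          simp only [Matrix.mul_assoc]
      _ = fromBlocks S₀.H₁ 0 0 (Cᵀ * S₀.H₂ * C) := by
          rw [S₀.hG, hE, fromBlocks_transpose, fromBlocks_multiply, fromBlocks_multiply]
          simp
  · show (S₀.P * E).map ⇑σ = S₀.P * E * Jm K κ₁
    rw [Matrix.map_mul, hPR, hRanti, hE, fromBlocks_map]
    unfold Jm
    rw [Matrix.mul_assoc, Matrix.mul_assoc, fromBlocks_multiply, fromBlocks_multiply]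
    have e1 : (1 : Matrix κ₁ κ₁ K).map ⇑σ = 1 := Matrix.map_one _ (map_zero σ) (map_one σ)
    simp only [Matrix.map_zero _ (map_zero σ), e1, Matrix.zero_mul, Matrix.mul_zero, add_zero, zero_add, Matrix.mul_one,
      Matrix.one_mul, hBC1]

end splitconj

section conjlift

variable {F : Type*} [Field F] [Fintype F] {ι : Type} [Fintype ι] [DecidableEq ι]
variable (Q : QuadraticForm F (ι → F))
variable {K : Type*} [Field K] (j : F →+* K)
variable {κ : Type*} [Fintype κ] [DecidableEq κ]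
variable {M : Matrix ι ι K} (S : Split ((gramM Q).map j) M κ κ)
variable (σ : K ≃+* K) (hσσ : ∀ z, σ (σ z) = z) (hσj : ∀ a, σ (j a) = j a)
  (hfix : ∀ z, σ z = z → ∃ a, j a = z)
variable (hconj : S.P.map ⇑σ = S.P * Jm K κ)

include hconj in
theorem Pi_conj : S.Pi.map ⇑σ = Jm K κ * S.Pi := by
  have h1 : S.Pi.map ⇑σ * S.P.map ⇑σ = 1 := by
    rw [← Matrix.map_mul, S.hPiP, Matrix.map_one _ (map_zero σ) (map_one σ)]
  rw [hconj] at h1
  calc S.Pi.map ⇑σ = S.Pi.map ⇑σ * (S.P * (Jm K κ * Jm K κ) * S.Pi) := by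
        rw [Jm_mul_self, Matrix.mul_one, S.hPPi, Matrix.mul_one]
    _ = (S.Pi.map ⇑σ * (S.P * Jm K κ)) * (Jm K κ * S.Pi) := by simp only [Matrix.mul_assoc]
    _ = Jm K κ * S.Pi := by rw [h1, Matrix.one_mul]

include hσj hconj in
theorem H_conj : S.H₂ = S.H₁.map ⇑σ := by
  have hG : ((gramM Q).map j).map ⇑σ = (gramM Q).map j := by
    ext a b
    exact hσj _
  have h1 : (S.Pᵀ * (gramM Q).map j * S.P).map ⇑σ = (fromBlocks S.H₁ 0 0 S.H₂).map ⇑σ := by
    rw [S.hG]
  rw [Matrix.map_mul, Matrix.map_mul, hG, Matrix.transpose_map, hconj, Matrix.transpose_mul,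
    Jm_transpose, fromBlocks_map] at h1
  have h3 : Jm K κ * S.Pᵀ * (gramM Q).map ⇑j * (S.P * Jm K κ) =
      Jm K κ * (S.Pᵀ * (gramM Q).map ⇑j * S.P) * Jm K κ := by simp only [Matrix.mul_assoc]
  rw [h3, S.hG, Jm_conj] at h1
  have := congrArg toBlocks₁₁ h1
  rwa [toBlocks_fromBlocks₁₁, toBlocks_fromBlocks₁₁] at this

/-- the conjugation-stable block matrix attached to a matrix of the first block -/
def cX (k : Matrix κ κ K) : Matrix ι ι K := S.P * fromBlocks k 0 0 (k.map ⇑σ) * S.Pi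

omit [Fintype F] in
theorem cX_one : cX Q j S σ 1 = 1 := by
  unfold cX
  rw [Matrix.map_one _ (map_zero σ) (map_one σ), fromBlocks_one, Matrix.mul_one, S.hPPi]

omit [Fintype F] in
theorem cX_mul (a b : Matrix κ κ K) : cX Q j S σ (a * b) = cX Q j S σ a * cX Q j S σ b := by
  unfold cX
  calc S.P * fromBlocks (a * b) 0 0 ((a * b).map ⇑σ) * S.Pi
      = S.P * (fromBlocks a 0 0 (a.map ⇑σ) * fromBlocks b 0 0 (b.map ⇑σ)) * S.Pi := by
        rw [fromBlocks_multiply, Matrix.map_mul]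
        simp
    _ = S.P * fromBlocks a 0 0 (a.map ⇑σ) * (1 : Matrix (κ ⊕ κ) (κ ⊕ κ) K) *
          fromBlocks b 0 0 (b.map ⇑σ) * S.Pi := by
        rw [Matrix.mul_one]; simp only [Matrix.mul_assoc]
    _ = S.P * fromBlocks a 0 0 (a.map ⇑σ) * S.Pi * (S.P * fromBlocks b 0 0 (b.map ⇑σ) * S.Pi) := by
        rw [← S.hPiP]; simp only [Matrix.mul_assoc]

include hσσ hconj in
theorem cX_fixed (k : Matrix κ κ K) : (cX Q j S σ k).map ⇑σ = cX Q j S σ k := by
  unfold cX
  rw [Matrix.map_mul, Matrix.map_mul, hconj, Pi_conj Q j S σ hconj, fromBlocks_map,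
    map_map_self σ hσσ, Matrix.map_zero _ (map_zero σ)]
  calc S.P * Jm K κ * fromBlocks (k.map ⇑σ) 0 0 k * (Jm K κ * S.Pi)
      = S.P * (Jm K κ * fromBlocks (k.map ⇑σ) 0 0 k * Jm K κ) * S.Pi := by
        simp only [Matrix.mul_assoc]
    _ = S.P * fromBlocks k 0 0 (k.map ⇑σ) * S.Pi := by rw [Jm_conj]

omit [Fintype F] [Fintype ι] [DecidableEq ι] in
include hfix in
theorem desc_map (X : Matrix ι ι K) (hX : X.map ⇑σ = X) :
    (X.map (Function.invFun j)).map j = X := by
  ext a b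
  simp only [Matrix.map_apply]
  apply Function.invFun_eq
  apply hfix
  exact congrFun (congrFun hX a) b

/-- the descended lifting, as a monoid homomorphism into matrices -/
noncomputable def liftCMat : ↥(isoGrp (RingEquiv.refl K) S.H₁) →* Matrix ι ι F where
  toFun k := (cX Q j S σ (k.1 : Matrix κ κ K)).map (Function.invFun j)
  map_one' := by
    apply Matrix.map_injective j.injective
    beta_reduce
    rw [desc_map j σ hfix _ (cX_fixed Q j S σ hσσ hconj _)]
    show cX Q j S σ ((1 : GL κ K) : Matrix κ κ K) = _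
    rw [Units.val_one, cX_one, Matrix.map_one _ (map_zero j) (map_one j)]
  map_mul' := by
    intro a b
    apply Matrix.map_injective j.injective
    beta_reduce
    rw [Matrix.map_mul, desc_map j σ hfix _ (cX_fixed Q j S σ hσσ hconj _),
      desc_map j σ hfix _ (cX_fixed Q j S σ hσσ hconj _),
      desc_map j σ hfix _ (cX_fixed Q j S σ hσσ hconj _)]
    show cX Q j S σ ((a.1 * b.1 : GL κ K) : Matrix κ κ K) = _
    rw [Units.val_mul, cX_mul]

theorem liftCMat_map (k : ↥(isoGrp (RingEquiv.refl K) S.H₁)) :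
    (liftCMat Q j S σ hσσ hfix hconj k).map j = cX Q j S σ (k.1 : Matrix κ κ K) :=
  desc_map j σ hfix _ (cX_fixed Q j S σ hσσ hconj _)

/-- the descended lifting into `GL` -/
noncomputable def liftCGL : ↥(isoGrp (RingEquiv.refl K) S.H₁) →* GL ι F :=
  (Units.map (liftCMat Q j S σ hσσ hfix hconj)).comp
    (toUnits (G := ↥(isoGrp (RingEquiv.refl K) S.H₁))).toMonoidHom

theorem liftCGL_val (k : ↥(isoGrp (RingEquiv.refl K) S.H₁)) :
    ((liftCGL Q j S σ hσσ hfix hconj k : GL ι F) : Matrix ι ι F) =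
      liftCMat Q j S σ hσσ hfix hconj k := rfl

include hσj in
theorem liftCGL_mem (h2 : (2 : F) ≠ 0) (k : ↥(isoGrp (RingEquiv.refl K) S.H₁)) :
    liftCGL Q j S σ hσσ hfix hconj k ∈ Cfsg.isometryGroup F ⇑Q := by
  rw [mem_iso_iff_gram Q h2, liftCGL_val]
  apply Matrix.map_injective j.injective
  beta_reduce
  rw [Matrix.map_mul, Matrix.map_mul, Matrix.transpose_map, liftCMat_map]
  have h := (S.sim_iff (cX Q j S σ (k.1 : Matrix κ κ K)) 1).2 (by
    unfold cX
    rw [S.blk_unblk, S.sim_blocks]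
    have hk : IsIso (RingEquiv.refl K) S.H₁ (k.1 : Matrix κ κ K) := k.2
    unfold IsIso at hk
    rw [map_refl'] at hk
    constructor
    · rw [hk, one_smul]
    · rw [H_conj Q j S σ hσj hconj, one_smul, ← Matrix.transpose_map, ← Matrix.map_mul,
        ← Matrix.map_mul, hk])
  rw [one_smul] at h
  exact h

/-- the block lifting for an involution defined over a quadratic extension -/
noncomputable def liftConj (h2 : (2 : F) ≠ 0) : BlockLift Q j S where
  lift := (liftCGL Q j S σ hσσ hfix hconj).codRestrict (Cfsg.isometryGroup F ⇑Q)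
    (liftCGL_mem Q j S σ hσσ hσj hfix hconj h2)
  lift_comm := by
    intro k
    show (((liftCGL Q j S σ hσσ hfix hconj k : GL ι F) : Matrix ι ι F).map j) * M =
      M * (((liftCGL Q j S σ hσσ hfix hconj k : GL ι F) : Matrix ι ι F).map j)
    rw [liftCGL_val, liftCMat_map]
    exact S.comm_of_blk _ _
  lift_blk := by
    intro k
    show (S.blk (((liftCGL Q j S σ hσσ hfix hconj k : GL ι F) : Matrix ι ι F).map j)).toBlocks₁₁ = _
    rw [liftCGL_val, liftCMat_map]
    unfold cX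
    rw [S.blk_unblk, toBlocks_fromBlocks₁₁]

omit [Fintype F] in
include hconj in
theorem swap_conj : S.swap.P.map ⇑σ = S.swap.P * Jm K κ := by
  have h1 : S.swap.P = S.P * Jm K κ := by
    ext a b
    show S.P a (Sum.swap b) = _
    unfold Jm
    rw [Matrix.mul_apply, Fintype.sum_sum_type]
    rcases b with b | b
    · simp [Matrix.one_apply]
    · simp [Matrix.one_apply]
  rw [h1, Matrix.map_mul, hconj, Jm_map]

end conjlift

end

section

open Matrix Module
open Cfsg.Agent.Lib.H11.ConfOrth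
open Cfsg.Agent.Lib.H13.PSLBal
open Cfsg.Agent.Lib.H12.OrdO
open Cfsg.Agent.Lib.H13.AutPO
open scoped commutatorElement

section type3

variable {F : Type*} [Field F] [Fintype F] {ι : Type} [Fintype ι] [DecidableEq ι]
variable (Q : QuadraticForm F (ι → F))
variable (hQ : (QuadraticMap.polarBilin Q).Nondegenerate) (hcard : 8 ≤ Fintype.card ι)
variable (hall : Cfsg.gammaPOmega F ⇑Q = ⊤)

omit [Fintype F] in
theorem gl_ne_zero [Nonempty ι] (T : GL ι F) : (T.1 : Matrix ι ι F) ≠ 0 := by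
  intro h5
  have h6 : (T.1 : Matrix ι ι F) * ((T⁻¹ : GL ι F) : Matrix ι ι F) = 1 := by
    rw [← Units.val_mul, mul_inv_cancel, Units.val_one]
  rw [h5, Matrix.zero_mul] at h6
  obtain ⟨i⟩ := ‹Nonempty ι›
  have := congrFun (congrFun h6 i) i
  simp at this

set_option maxHeartbeats 1600000 in
include hQ hcard hall in
/-- local balance for improper involutions of the third type: the similarity squares to a
nonsquare scalar, which is also its multiplier -/
theorem type3_generic (h2 : (2 : F) ≠ 0)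
    {K : Type*} [Field K] [Finite K] (j : F →+* K) (θ : K) (ν : F) (hθ : θ * θ = j ν)
    (hdec : ∀ z : K, ∃ a b : F, z = j a + j b * θ)
    (hext : ∀ (τ : F ≃+* F) (c : F), τ ν = c * c * ν →
      ∃ τ' : K ≃+* K, (∀ a, τ' (j a) = j (τ a)) ∧ τ' θ = j c * θ)
    (g : ↥(Sim ⇑Q)) (hgg : (g.1.1 : Matrix ι ι F) * g.1.1 = ν • 1)
    (hmult : (g.1.1 : Matrix ι ι F)ᵀ * gramM Q * g.1.1 = ν • gramM Q)
    (A : Subgroup (MulAut (Cfsg.POmega F ⇑Q))) (hInnA : Cfsg.Inn (Cfsg.POmega F ⇑Q) ≤ A) :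
    ¬ HasNPC 2 ↥(A ⊓ Subgroup.centralizer {Phi ⇑Q g}) := by
  classical
  have hc7 : 7 ≤ Fintype.card ι := by omega
  haveI : Nonempty ι := by
    rw [← Fintype.card_pos_iff]; omega
  have hj : Function.Injective j := j.injective
  have h2K : (2 : K) ≠ 0 := by
    intro h
    apply h2
    apply hj
    rw [map_ofNat, h, map_zero]
  obtain ⟨g₀, hg₀⟩ : ∃ g₀ : Matrix ι ι F, g₀ = g.1.1 := ⟨_, rfl⟩
  rw [← hg₀] at hgg hmult
  have hg₀0 : g₀ ≠ 0 := by rw [hg₀]; exact gl_ne_zero g.1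
  have hν0 : ν ≠ 0 := by
    rintro rfl
    rw [zero_smul] at hgg
    have h6 : g₀ * ((g.1⁻¹ : GL ι F) : Matrix ι ι F) = 1 := by
      rw [hg₀, ← Units.val_mul, mul_inv_cancel, Units.val_one]
    apply hg₀0
    calc g₀ = g₀ * (g₀ * ((g.1⁻¹ : GL ι F) : Matrix ι ι F)) := by rw [h6, Matrix.mul_one]
      _ = 0 := by rw [← Matrix.mul_assoc, hgg, Matrix.zero_mul]
  have hθ0 : θ ≠ 0 := by
    rintro rfl
    rw [mul_zero] at hθ
    exact hν0 (hj (by rw [← hθ, map_zero]))
  obtain ⟨σ, hσj, hσθ⟩ := hext (RingEquiv.refl F) (-1) (by simp)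
  have hσθ' : σ θ = -θ := by rw [hσθ, map_neg, map_one, neg_one_mul]
  have hσj' : ∀ a, σ (j a) = j a := fun a => hσj a
  have hσσ : ∀ z, σ (σ z) = z := by
    intro z
    obtain ⟨a, b, rfl⟩ := hdec z
    simp only [map_add, map_mul, hσj', hσθ', map_neg, neg_neg]
  have hfix : ∀ z, σ z = z → ∃ a, j a = z := by
    intro z hz
    obtain ⟨a, b, rfl⟩ := hdec z
    rw [map_add, map_mul, hσj', hσj', hσθ'] at hz
    have h1 : (2 : K) * (j b * θ) = 0 := by linear_combination -hz
    have h3 : j b = 0 := by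
      rcases mul_eq_zero.1 h1 with h | h
      · exact absurd h h2K
      · rcases mul_eq_zero.1 h with h' | h'
        · exact h'
        · exact absurd h' hθ0
    exact ⟨a, by rw [h3, zero_mul, add_zero]⟩
  have hGs : (gramM Q)ᵀ = gramM Q := Cfsg.Agent.Lib.H13.OFus.gramM_transpose Q
  have hGd : (gramM Q).det ≠ 0 := gramM_det_ne_zero Q hQ
  have hGKs : ((gramM Q).map j)ᵀ = (gramM Q).map j := by
    rw [← Matrix.transpose_map, hGs]
  have hGKd : ((gramM Q).map j).det ≠ 0 := by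
    have h1 : ((gramM Q).map j).det = j (gramM Q).det := by
      rw [RingHom.map_det, RingHom.mapMatrix_apply]
    rw [h1]
    intro h
    exact hGd (hj (by rw [h, map_zero]))
  have hsa : g₀ᵀ * gramM Q = gramM Q * g₀ := by
    have h1 : g₀ᵀ * gramM Q * (g₀ * g₀) = ν • (gramM Q * g₀) := by
      rw [← Matrix.mul_assoc, hmult, Matrix.smul_mul]
    rw [hgg, Matrix.mul_smul, Matrix.mul_one] at h1
    exact smul_right_injective _ hν0 h1
  obtain ⟨M, hMdef⟩ : ∃ M : Matrix ι ι K, M = θ⁻¹ • g₀.map j := ⟨_, rfl⟩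
  have hM : M * M = 1 := by
    rw [hMdef, Matrix.smul_mul, Matrix.mul_smul, smul_smul, ← Matrix.map_mul, hgg, map_smul_one,
      smul_smul, ← hθ]
    have : θ⁻¹ * θ⁻¹ * (θ * θ) = 1 := by field_simp
    rw [this, one_smul]
  have hMG : Mᵀ * (gramM Q).map j = (gramM Q).map j * M := by
    rw [hMdef, Matrix.transpose_smul, Matrix.smul_mul, Matrix.mul_smul, ← Matrix.transpose_map,
      ← Matrix.map_mul, ← Matrix.map_mul, hsa]
  have hMσ : M.map ⇑σ = -M := by
    rw [hMdef]
    ext a b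
    simp only [Matrix.map_apply, Matrix.smul_apply, smul_eq_mul, Matrix.neg_apply, map_mul,
      map_inv₀, hσθ', hσj']
    rw [inv_neg, neg_mul]
  obtain ⟨k₁, k₂, ⟨S₀⟩⟩ := exists_split h2K ((gramM Q).map j) M hM hMG
  obtain ⟨S, hconj⟩ := splitConj S₀ σ hσσ hMσ h2K
  have hk : Fintype.card ι = k₁ + k₁ := by
    have := S.card_eq
    rwa [Fintype.card_fin] at this
  have hk3 : 3 ≤ Fintype.card (Fin k₁) := by
    rw [Fintype.card_fin]; omega
  have hM0 : M ≠ 0 := by
    intro h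
    rw [h, Matrix.zero_mul] at hM
    obtain ⟨i⟩ := ‹Nonempty ι›
    have := congrFun (congrFun hM i) i
    simp at this
  have hx : ∀ k : ↥(Sim ⇑Q), (k.1.1.map j) * M = M * (k.1.1.map j) →
      Phi ⇑Q k ∈ Subgroup.centralizer {Phi ⇑Q g} := by
    intro k hk'
    rw [hMdef, Matrix.mul_smul, Matrix.smul_mul, ← Matrix.map_mul, ← Matrix.map_mul] at hk'
    have h1 := smul_right_injective _ (inv_ne_zero hθ0) hk'
    have h3 := Matrix.map_injective hj h1
    have h4 : k * g = g * k := by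
      apply Subtype.ext
      apply Units.ext
      rw [Subgroup.coe_mul, Subgroup.coe_mul, Units.val_mul, Units.val_mul, ← hg₀]
      exact h3
    rw [Subgroup.mem_centralizer_iff]
    intro z hz
    rw [Set.mem_singleton_iff] at hz
    subst hz
    rw [← map_mul, ← map_mul, h4]
  have hrel : ∀ (T : GL ι F) (τ : F ≃+* F) (hp : Cfsg.IsSemisimilarityPair ⇑Q T τ),
      semiAut ⇑Q T τ hp ∈ Subgroup.centralizer {Phi ⇑Q g} →
      ∃ c : F, c ≠ 0 ∧ (T : Matrix ι ι F) * g₀.map τ = c • (g₀ * (T : Matrix ι ι F)) ∧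
        τ ν = c * c * ν := by
    intro T τ hp hcen
    rw [Subgroup.mem_centralizer_iff] at hcen
    have h1 := (hcen _ (Set.mem_singleton _)).symm
    obtain ⟨c, hc0, hc⟩ := comm_rel Q hQ hc7 hall hp g h1
    rw [← hg₀] at hc
    refine ⟨c, hc0, hc, ?_⟩
    have h3 : (T : Matrix ι ι F) * (g₀ * g₀).map τ = (c * c * ν) • (T : Matrix ι ι F) := by
      calc (T : Matrix ι ι F) * (g₀ * g₀).map τ
          = ((T : Matrix ι ι F) * g₀.map τ) * g₀.map τ := by
            rw [Matrix.map_mul, Matrix.mul_assoc]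
        _ = (c • (g₀ * (T : Matrix ι ι F))) * g₀.map τ := by rw [hc]
        _ = c • (g₀ * ((T : Matrix ι ι F) * g₀.map τ)) := by
            rw [Matrix.smul_mul, Matrix.mul_assoc]
        _ = c • (g₀ * (c • (g₀ * (T : Matrix ι ι F)))) := by rw [hc]
        _ = (c * c) • ((g₀ * g₀) * (T : Matrix ι ι F)) := by
            rw [Matrix.mul_smul, smul_smul, Matrix.mul_assoc]
        _ = (c * c * ν) • (T : Matrix ι ι F) := by
            rw [hgg, Matrix.smul_mul, Matrix.one_mul, smul_smul]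
    rw [hgg] at h3
    have h4 : (ν • (1 : Matrix ι ι F)).map τ = τ ν • (1 : Matrix ι ι F) := by
      ext a b
      simp [Matrix.map_apply, Matrix.smul_apply, Matrix.one_apply, apply_ite τ]
    rw [h4, Matrix.mul_smul, Matrix.mul_one] at h3
    have h5 : (τ ν - c * c * ν) • (T : Matrix ι ι F) = 0 := by
      rw [sub_smul, h3, sub_self]
    rcases smul_eq_zero.1 h5 with h6 | h6
    · linear_combination h6
    · exact absurd h6 (gl_ne_zero T)
  have hsemi : ∀ (T : GL ι F) (τ : F ≃+* F) (hp : Cfsg.IsSemisimilarityPair ⇑Q T τ),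
      semiAut ⇑Q T τ hp ∈ Subgroup.centralizer {Phi ⇑Q g} →
      Odd (orderOf (semiAut ⇑Q T τ hp)) →
      ∃ τ' : K ≃+* K, (∀ a, τ' (j a) = j (τ a)) ∧
        (T.1.map j) * (M.map τ') = M * (T.1.map j) := by
    intro T τ hp hcen hodd
    obtain ⟨c, hc0, hc, hτν⟩ := hrel T τ hp hcen
    obtain ⟨τ', hτ'j, hτ'θ⟩ := hext τ c hτν
    refine ⟨τ', hτ'j, ?_⟩
    have h1 : M.map ⇑τ' = (j c * θ)⁻¹ • (g₀.map τ).map j := by
      rw [hMdef]
      ext a b
      simp only [Matrix.map_apply, Matrix.smul_apply, smul_eq_mul, map_mul, map_inv₀, hτ'θ, hτ'j]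
    have hjc : j c ≠ 0 := fun h => hc0 (hj (by rw [h, map_zero]))
    rw [h1, Matrix.mul_smul, ← Matrix.map_mul, hc, hMdef, Matrix.smul_mul, ← Matrix.map_mul]
    have h3 : (c • (g₀ * (T.1 : Matrix ι ι F))).map ⇑j = j c • (g₀ * (T.1 : Matrix ι ι F)).map ⇑j := by
      ext a b
      simp only [Matrix.map_apply, Matrix.smul_apply, smul_eq_mul, map_mul]
    rw [h3, smul_smul]
    congr 1
    field_simp
  have hcomm : ∀ y : ↥(Sim ⇑Q), Phi ⇑Q y ∈ Subgroup.centralizer {Phi ⇑Q g} →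
      Odd (orderOf (Phi ⇑Q y)) →
      (y.1.1.map j) * M = M * (y.1.1.map j) := by
    intro y hy hodd
    have e : Phi ⇑Q y = semiAut ⇑Q y.1 (RingEquiv.refl F) (pair_refl_of_sim ⇑Q y) :=
      (semiAut_refl ⇑Q y).symm
    rw [e] at hy hodd
    obtain ⟨c, hc0, hc, hτν⟩ := hrel y.1 (RingEquiv.refl F) (pair_refl_of_sim ⇑Q y) hy
    have hcc : c * c = 1 := by
      have h1 : ν = c * c * ν := hτν
      have h3 : (c * c - 1) * ν = 0 := by linear_combination -h1
      rcases mul_eq_zero.1 h3 with h | h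
      · linear_combination h
      · exact absurd h hν0
    have hc1 := rel_one_of_odd Q hQ hc7 (pair_refl_of_sim ⇑Q y) g₀ hg₀0 c hcc hc hodd
    rw [hc1, one_smul, map_refl'] at hc
    rw [hMdef, Matrix.mul_smul, Matrix.smul_mul, ← Matrix.map_mul, ← Matrix.map_mul, hc]
  exact graph_generic Q hQ hc7 hall j S h2K hj
    (liftConj Q j S σ hσσ hσj' hfix hconj h2)
    (liftConj Q j S.swap σ hσσ hσj' hfix (swap_conj Q j S σ hconj) h2)
    (S.H₁_symm hGKs) (S.H₁_det hGKd) (S.H₂_symm hGKs) (S.H₂_det hGKd)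
    (Or.inl hk3) (Or.inl hk3) (Or.inl hk3) (Phi ⇑Q g) hx hcomm hsemi A hInnA

end type3

end

section

open Matrix Module
open Cfsg.Agent.Lib.H11.ConfOrth
open Cfsg.Agent.Lib.H13.PSLBal
open Cfsg.Agent.Lib.H12.OrdO
open Cfsg.Agent.Lib.H13.AutPO
open scoped commutatorElement

section quadext

variable {F : Type*} [Field F]

/-- the semilinear extension of a field automorphism to a quadratic extension -/
def extHom (τ : F ≃+* F) (c ν : F) (h : τ ν = c * c * ν) :
    QuadraticAlgebra F ν 0 →+* QuadraticAlgebra F ν 0 where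
  toFun z := ⟨τ z.re, c * τ z.im⟩
  map_one' := by
    ext
    · simp [QuadraticAlgebra.re_one]
    · simp [QuadraticAlgebra.im_one]
  map_mul' := by
    intro x y
    ext
    · simp only [QuadraticAlgebra.re_mul, map_add, map_mul, h]
      ring
    · simp only [QuadraticAlgebra.im_mul, map_add, map_mul, zero_mul, add_zero, map_zero]
      ring
  map_zero' := by
    ext
    · simp
    · simp
  map_add' := by
    intro x y
    ext
    · simp
    · simp [mul_add]

theorem extHom_re (τ : F ≃+* F) (c ν : F) (h : τ ν = c * c * ν) (z : QuadraticAlgebra F ν 0) :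
    (extHom τ c ν h z).re = τ z.re := rfl

theorem extHom_im (τ : F ≃+* F) (c ν : F) (h : τ ν = c * c * ν) (z : QuadraticAlgebra F ν 0) :
    (extHom τ c ν h z).im = c * τ z.im := rfl

end quadext

section type3main

variable {F : Type*} [Field F] [Fintype F] {ι : Type} [Fintype ι] [DecidableEq ι]
variable (Q : QuadraticForm F (ι → F))
variable (hQ : (QuadraticMap.polarBilin Q).Nondegenerate) (hcard : 8 ≤ Fintype.card ι)
variable (hall : Cfsg.gammaPOmega F ⇑Q = ⊤)

include hQ hcard hall in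
/-- local balance for improper involutions of the third type -/
theorem type3_main (h2 : (2 : F) ≠ 0) (ν : F) (hν : ¬ IsSquare ν)
    (g : ↥(Sim ⇑Q)) (hgg : (g.1.1 : Matrix ι ι F) * g.1.1 = ν • 1)
    (hmult : (g.1.1 : Matrix ι ι F)ᵀ * gramM Q * g.1.1 = ν • gramM Q)
    (A : Subgroup (MulAut (Cfsg.POmega F ⇑Q))) (hInnA : Cfsg.Inn (Cfsg.POmega F ⇑Q) ≤ A) :
    ¬ HasNPC 2 ↥(A ⊓ Subgroup.centralizer {Phi ⇑Q g}) := by
  haveI : Fact (∀ r : F, r ^ 2 ≠ ν + 0 * r) := ⟨fun r h => hν ⟨r, by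
    rw [zero_mul, add_zero] at h
    rw [← h, pow_two]⟩⟩
  haveI : Finite (QuadraticAlgebra F ν 0) := Finite.of_equiv _ (QuadraticAlgebra.equivProd ν 0).symm
  refine type3_generic Q hQ hcard hall h2 (K := QuadraticAlgebra F ν 0)
    (algebraMap F (QuadraticAlgebra F ν 0)) (QuadraticAlgebra.omega) ν ?_ ?_ ?_ g hgg hmult A hInnA
  · rw [QuadraticAlgebra.omega_mul_omega_eq_mk]
    rfl
  · intro z
    refine ⟨z.re, z.im, ?_⟩
    ext
    · simp
    · simp
  · intro τ c h
    have hinj : Function.Injective (extHom τ c ν h) := (extHom τ c ν h).injective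
    have hbij : Function.Bijective (extHom τ c ν h) := hinj.bijective_of_finite
    refine ⟨RingEquiv.ofBijective (extHom τ c ν h) hbij, ?_, ?_⟩
    · intro a
      show extHom τ c ν h _ = _
      ext
      · rw [extHom_re]; rfl
      · rw [extHom_im]
        simp
    · show extHom τ c ν h _ = _
      ext
      · rw [extHom_re]
        simp
      · rw [extHom_im]
        simp

end type3main

end

section

open Matrix Module
open Cfsg.Agent.Lib.H11.ConfOrth
open Cfsg.Agent.Lib.H13.PSLBal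
open Cfsg.Agent.Lib.H12.OrdO
open Cfsg.Agent.Lib.H13.AutPO
open scoped commutatorElement

section improper

variable {F : Type*} [Field F] [Fintype F] {ι : Type} [Fintype ι] [DecidableEq ι]
variable (Q : QuadraticForm F (ι → F))
variable (hQ : (QuadraticMap.polarBilin Q).Nondegenerate) (hcard : 8 ≤ Fintype.card ι)
variable (hall : Cfsg.gammaPOmega F ⇑Q = ⊤)

set_option maxHeartbeats 1600000 in
include hQ hcard hall in
/-- local balance for involutions induced by improper similarities -/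
theorem improper_invol (h2 : (2 : F) ≠ 0) (d : ℕ) (hcardd : Fintype.card ι = 2 * d)
    (hne : ∃ v, Q v ≠ 0) (g : ↥(Sim ⇑Q)) (hδ : delta Q hne d g ≠ 1)
    (hgg : Phi ⇑Q g * Phi ⇑Q g = 1)
    (A : Subgroup (MulAut (Cfsg.POmega F ⇑Q))) (hInnA : Cfsg.Inn (Cfsg.POmega F ⇑Q) ≤ A) :
    ¬ HasNPC 2 ↥(A ⊓ Subgroup.centralizer {Phi ⇑Q g}) := by
  classical
  have hc7 : 7 ≤ Fintype.card ι := by omega
  have hker := ker_Phi_all Q hQ hc7
  have hGs : (gramM Q)ᵀ = gramM Q := Cfsg.Agent.Lib.H13.OFus.gramM_transpose Q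
  have hGd : (gramM Q).det ≠ 0 := gramM_det_ne_zero Q hQ
  have h1 : g * g ∈ (Phi ⇑Q).ker := by
    rw [MonoidHom.mem_ker, map_mul, hgg]
  rw [hker, Subgroup.mem_subgroupOf, mem_Zs_iff] at h1
  obtain ⟨e, he⟩ := h1
  have hgz : g * g = zS Q e := Subtype.ext he
  obtain ⟨μ, hμ⟩ : ∃ μ, μ = mult (⇑Q) hne g := ⟨_, rfl⟩
  have hμe : μ * μ = e ^ 2 := by
    rw [hμ, ← map_mul, hgz, mult_zS]
  obtain ⟨g₀, hg₀⟩ : ∃ g₀ : Matrix ι ι F, g₀ = g.1.1 := ⟨_, rfl⟩
  have hgg' : g₀ * g₀ = (e : F) • 1 := by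
    have := congrArg (fun x : ↥(Sim ⇑Q) => ((x.1 : GL ι F) : Matrix ι ι F)) hgz
    simp only [Subgroup.coe_mul, Units.val_mul] at this
    rw [hg₀, this]
    exact scalar_val e
  have hsim : g₀ᵀ * gramM Q * g₀ = (μ : F) • gramM Q := by
    rw [hg₀, hμ]
    exact Cfsg.Agent.Lib.H13.OFus.gramM_similitude Q _ _ (mult_spec (⇑Q) hne g)
  have hdetg : g₀.det ≠ 0 := by
    rw [hg₀]
    exact (Matrix.isUnits_det_units g.1).ne_zero
  have hcases : (μ : F) = e ∨ (μ : F) = -e := by
    have h3 := congrArg Units.val hμe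
    rw [Units.val_mul, Units.val_pow_eq_pow_val] at h3
    have h4 : ((μ : F) - e) * ((μ : F) + e) = 0 := by linear_combination h3
    rcases mul_eq_zero.1 h4 with h | h
    · left; linear_combination h
    · right; linear_combination h
  have hstep : (e : F) • (g₀ᵀ * gramM Q) = (μ : F) • (gramM Q * g₀) := by
    have h3 : g₀ᵀ * gramM Q * (g₀ * g₀) = (μ : F) • (gramM Q * g₀) := by
      rw [← Matrix.mul_assoc, hsim, Matrix.smul_mul]
    rw [hgg', Matrix.mul_smul, Matrix.mul_one] at h3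
    exact h3
  rcases hcases with hc | hc
  · by_cases hsq : IsSquare (e : F)
    · obtain ⟨s, hs⟩ := hsq
      have hs0 : s ≠ 0 := by
        rintro rfl
        rw [mul_zero] at hs
        exact e.ne_zero hs
      obtain ⟨su, hsu⟩ : ∃ su : Fˣ, su = Units.mk0 s hs0 := ⟨_, rfl⟩
      have hsu' : (su : F) = s := by rw [hsu]; rfl
      have hsue : su ^ 2 = e := by
        apply Units.ext
        rw [Units.val_pow_eq_pow_val, hsu', hs, pow_two]
      obtain ⟨t, ht⟩ : ∃ t : ↥(Sim ⇑Q), t = zS Q su⁻¹ * g := ⟨_, rfl⟩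
      have hzker : zS Q su⁻¹ ∈ (Phi ⇑Q).ker := by
        rw [hker, Subgroup.mem_subgroupOf, mem_Zs_iff]
        exact ⟨su⁻¹, rfl⟩
      have hPhit : Phi ⇑Q t = Phi ⇑Q g := by
        rw [ht, map_mul, MonoidHom.mem_ker.1 hzker, one_mul]
      have htval : (t.1.1 : Matrix ι ι F) = s⁻¹ • g₀ := by
        rw [ht, Subgroup.coe_mul, Units.val_mul, hg₀]
        show ((Matrix.GeneralLinearGroup.scalar ι su⁻¹ : GL ι F) : Matrix ι ι F) * _ = _
        rw [scalar_val, Matrix.smul_mul, Matrix.one_mul, Units.val_inv_eq_inv_val, hsu']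
      have htt : t * t = 1 := by
        apply Subtype.ext
        apply Units.ext
        rw [Subgroup.coe_mul, Units.val_mul, htval, Matrix.smul_mul, Matrix.mul_smul, smul_smul,
          hgg', smul_smul, hs]
        have : s⁻¹ * s⁻¹ * (s * s) = 1 := by field_simp
        rw [this, one_smul]
        rfl
      have hμe' : μ = e := Units.ext hc
      have hmt : mult (⇑Q) hne t = 1 := by
        rw [ht, map_mul, mult_zS, ← hμ, hμe', ← hsue]
        rw [inv_pow, inv_mul_cancel]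
      have htiso : t.1 ∈ Cfsg.isometryGroup F ⇑Q := (mult_eq_one_iff (⇑Q) hne t).1 hmt
      have hδt : delta Q hne d t = -1 := by
        rw [ht, map_mul, delta_zS Q hne d hcardd, one_mul]
        rcases delta_cases Q hne d hQ hcardd g with h | h
        · exact absurd h hδ
        · exact h
      have hdet : (t.1.1 : Matrix ι ι F).det = -1 := by
        rw [delta_apply, hmt, one_pow, inv_one, mul_one] at hδt
        have := congrArg Units.val hδt
        rw [Matrix.GeneralLinearGroup.val_det_apply] at this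
        rw [this]
        simp
      have heven : Even (Fintype.card ι) := ⟨d, by rw [hcardd]; ring⟩
      have := type1_main Q hQ hcard hall h2 heven t htiso htt hdet A hInnA
      rw [hPhit] at this
      exact this
    · apply type3_main Q hQ hcard hall h2 (e : F) hsq g ?_ ?_ A hInnA
      · rw [← hg₀]; exact hgg'
      · rw [← hg₀, ← hc]; exact hsim
  · exfalso
    apply hδ
    rw [delta_eq_one_iff, ← hμ, ← hg₀]
    have he0 : (e : F) ≠ 0 := e.ne_zero
    have hanti : g₀ᵀ * gramM Q = -(gramM Q * g₀) := by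
      rw [hc, neg_smul, ← smul_neg] at hstep
      exact smul_right_injective _ he0 hstep
    apply Cfsg.Agent.Lib.H13.OFus.det_of_alt_similitude h2 hcardd (gramM Q * g₀) ?_ ?_ g₀ (μ : F)
      μ.ne_zero ?_
    · rw [Matrix.transpose_mul, hGs, hanti]
    · rw [Matrix.det_mul]
      exact mul_ne_zero hGd hdetg
    · rw [← Matrix.mul_assoc, hsim, Matrix.smul_mul]

end improper

end

end Cfsg.Agent.Lib.H13.MBal
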