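import Mathlib
import Cfsg.Agent.Lib.H13.MBal4

/-!
Local balance in `PΩ⁻_{2m+2}(q)`, part 5 (helper13): the statement `s2733_gen`.
-/

set_option autoImplicit false
set_option linter.unusedSectionVars false
set_option linter.unusedVariables false
set_option linter.unusedSimpArgs false
set_option linter.deprecated false

namespace Cfsg.Agent.Lib.H13.MBal

section

open Matrix QuadraticMap Module
open Cfsg.Agent.Lib.H11.ConfOrth
open Cfsg.Agent.Lib.H13 Cfsg.Agent.Lib.H13.HypPairs Cfsg.Agent.Lib.H13.PlusTS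
open Cfsg.Agent.Lib.H13.AutPO

section final

variable {F : Type*} [Field F] [Fintype F] {m : ℕ}

local notation "IM" => ((Fin m ⊕ Fin m) ⊕ Fin 2)

theorem pow_eq_one_of_odd_of_sq {G : Type*} [Group G] (g : G) {p : ℕ} (hp : Odd p)
    (h1 : g ^ p = 1) (h2 : g * g = 1) : g = 1 := by
  obtain ⟨k, rfl⟩ := hp
  rw [pow_succ, pow_mul, pow_two, h2, one_pow, one_mul] at h1
  exact h1

theorem mem_of_sq_mem_of_odd {G : Type*} [Group G] (H : Subgroup G) (g : G) {p : ℕ} (hp : Odd p)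
    (h1 : g ^ p = 1) (h2 : g * g ∈ H) : g ∈ H := by
  obtain ⟨k, hk⟩ := hp
  have h3 : g = (g * g) ^ (k + 1) := by
    rw [← pow_two, ← pow_mul]
    have : 2 * (k + 1) = p + 1 := by omega
    rw [this, pow_succ, h1, one_mul]
  rw [h3]
  exact H.pow_mem h2 _

/-- a field automorphism of the minus-type group cannot have order two -/
theorem order_two_false (hm : 3 ≤ m) (a' b' : F)
    (hab' : ∀ z₁ z₂ : F, z₁ ^ 2 + a' * z₁ * z₂ + b' * z₂ ^ 2 = 0 → z₁ = 0 ∧ z₂ = 0)
    (Q₁ : (IM → F) → F) (hQ₁ : ⇑(minusQF F m a' b') = Q₁)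
    {Q₀ : (IM → F) → F} (ψ : Cfsg.POmega F Q₀ ≃* Cfsg.POmega F Q₁) (σ : F ≃+* F)
    (ha' : σ a' = a') (hb' : σ b' = b') (x : MulAut (Cfsg.POmega F Q₀))
    (hfield : Cfsg.IsFieldAutPOmegaOf Q₁ σ ((ψ.symm.trans x).trans ψ))
    (hord : orderOf x = 2) : False := by
  subst hQ₁
  have hcard : Fintype.card IM = 2 * (m + 1) := card_minus
  have hc7 : 7 ≤ Fintype.card IM := by rw [hcard]; omega
  have hQ' : (polarBilin (minusQF F m a' b')).Nondegenerate :=
    Cfsg.Agent.S0288.nondeg (F := F) a' b' hab' m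
  have hall' : Cfsg.gammaPOmega F ⇑(minusQF F m a' b') = ⊤ := hall_minus hm a' b' hab'
  have hσQ' : SigEq σ (minusQF F m a' b') := sigEq_minus σ a' b' ha' hb'
  have hσ2 := order_sigma_of_field Q₀ (minusQF F m a' b') hQ' hc7 hall' σ hσQ' ψ x hfield hord
  exact order_ne_two_of_aniso σ hσ2 a' b' ha' hb' hab'

set_option maxHeartbeats 1600000 in
/-- S2733, for a form given with an equation to the minus-type standard form -/
theorem s2733_gen {r : ℕ} [Fact r.Prime] [CharP F r] (hm : 3 ≤ m) (a b : F)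
    (hab : ∀ z₁ z₂ : F, z₁ ^ 2 + a * z₁ * z₂ + b * z₂ ^ 2 = 0 → z₁ = 0 ∧ z₂ = 0)
    (Q₀ : (IM → F) → F) (hQ₀ : ⇑(minusQF F m a b) = Q₀)
    (A : Subgroup (MulAut (Cfsg.POmega F Q₀)))
    (hinn : ∀ k : Cfsg.POmega F Q₀, MulAut.conj k ∈ A) {p : ℕ} (hp : p.Prime) (hpr : p ≠ r)
    (x : MulAut (Cfsg.POmega F Q₀)) (hord : orderOf x = p)
    (hnot : ¬ ∃ g : GL IM F, g ∈ Cfsg.Geo.quadSimilarityGroup (F := F) Q₀ ∧
      Cfsg.PreservesSingularClassesMinus m a b (g : Matrix IM IM F) ∧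
      Cfsg.IsInducedBySemilinearPOmega Q₀ g (RingEquiv.refl F) x) :
    Cfsg.pPrimeCore p ↥(A ⊓ Subgroup.centralizer {x}) ≠ ⊥ ↔
      ((∃ (a' b' : F) (ψ : Cfsg.POmega F Q₀ ≃* Cfsg.POmega F (Cfsg.quadFormMinus m F a' b'))
          (σ : F ≃+* F),
        (∀ z₁ z₂ : F, z₁ ^ 2 + a' * z₁ * z₂ + b' * z₂ ^ 2 = 0 → z₁ = 0 ∧ z₂ = 0) ∧
        σ ≠ RingEquiv.refl F ∧ σ a' = a' ∧ σ b' = b' ∧
        Cfsg.IsFieldAutPOmegaOf (Cfsg.quadFormMinus m F a' b') σ ((ψ.symm.trans x).trans ψ)) ∧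
      Nat.Coprime p (Nat.card
        ↥(MonoidHom.eqLocus x.toMonoidHom (MonoidHom.id (Cfsg.POmega F Q₀))))) := by
  classical
  subst hQ₀
  have hQ : (polarBilin (minusQF F m a b)).Nondegenerate :=
    Cfsg.Agent.S0288.nondeg (F := F) a b hab m
  have hcard : Fintype.card IM = 2 * (m + 1) := card_minus
  have hc7 : 7 ≤ Fintype.card IM := by rw [hcard]; omega
  have hc8 : 8 ≤ Fintype.card IM := by rw [hcard]; omega
  have hall : Cfsg.gammaPOmega F ⇑(minusQF F m a b) = ⊤ := hall_minus hm a b hab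
  have hne := exists_neO (minusQF F m a b) hQ hc7
  have hker := ker_Phi_all (minusQF F m a b) hQ hc7
  have hInnA : Cfsg.Inn (Cfsg.POmega F ⇑(minusQF F m a b)) ≤ A := by
    rintro _ ⟨k, rfl⟩
    exact hinn k
  have hxp : x ^ p = 1 := by rw [← hord, pow_orderOf_eq_one]
  by_cases hx : x ∈ (Phi ⇑(minusQF F m a b)).range
  · obtain ⟨g, rfl⟩ := hx
    have hpres : ¬ Cfsg.PreservesSingularClassesMinus m a b ((g.1 : GL IM F) : Matrix IM IM F) :=
      fun h => hnot ⟨g.1, g.2, h, (induced_iff _ g.1 g.2 _).2 rfl⟩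
    by_cases h2 : (2 : F) = 0
    · exfalso
      haveI : CharP F 2 := CharTwo.of_one_ne_zero_of_two_eq_zero one_ne_zero h2
      have hr2 : r = 2 := CharP.eq F ‹CharP F r› ‹CharP F 2›
      have hpodd : Odd p := by
        rcases hp.eq_two_or_odd' with h | h
        · exact absurd (h.trans hr2.symm) hpr
        · exact h
      haveI : Nonempty IM := by
        rw [← Fintype.card_pos_iff]; omega
      apply hpres
      rw [presMinus_iff_inn hm a b hab g]
      obtain ⟨c, s, hs, hg⟩ := sim_eq_scalar_mul2 (minusQF F m a b) hQ hc7 g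
      have hgz : g = zS (minusQF F m a b) c * oS (minusQF F m a b) s hs := Subtype.ext hg
      have hzker : zS (minusQF F m a b) c ∈ (Phi ⇑(minusQF F m a b)).ker := by
        rw [hker, Subgroup.mem_subgroupOf, mem_Zs_iff]
        exact ⟨c, rfl⟩
      have hPhig : Phi ⇑(minusQF F m a b) g =
          Phi ⇑(minusQF F m a b) (oS (minusQF F m a b) s hs) := by
        rw [hgz, map_mul, MonoidHom.mem_ker.1 hzker, one_mul]
      have hsq := Cfsg.Agent.Lib.H13.OmegaSum.sq_mem_even (minusQF F m a b) hQ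
        (Or.inr (by rw [hcard]; omega)) ⟨s, hs⟩
      apply mem_of_sq_mem_of_odd _ _ hpodd hxp
      rw [hPhig, ← map_mul, inn_eq]
      refine ⟨_, ?_, rfl⟩
      rw [SetLike.mem_coe, Subgroup.mem_subgroupOf, mem_omegaGL_iff]
      exact ⟨(Cfsg.isometryGroup F ⇑(minusQF F m a b)).mul_mem hs hs, hsq⟩
    · have hδ : delta (minusQF F m a b) hne (m + 1) g ≠ 1 := by
        exact fun h => hpres ((presMinus_iff h2 a b hab hne g).2 h)
      by_cases hp2 : p = 2
      · subst hp2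
        have hL : ¬ HasNPC 2 ↥(A ⊓ Subgroup.centralizer {Phi ⇑(minusQF F m a b) g}) :=
          improper_invol (minusQF F m a b) hQ hc8 hall h2 (m + 1) hcard hne g hδ (by rw [← pow_two, hxp]) A hInnA
        rw [pPrimeCore_ne_bot_iff]
        constructor
        · intro h
          exact absurd h hL
        · rintro ⟨⟨a', b', ψ, σ, hab', hσ1, ha', hb', hfield⟩, -⟩
          exfalso
          exact order_two_false hm a' b' hab' _ (Cfsg.Agent.S0288.coe_minusQF m a' b') ψ σ ha' hb'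
            _ hfield hord
      · exfalso
        have hpodd : Odd p := by
          rcases hp.eq_two_or_odd' with h | h
          · exact absurd h hp2
          · exact h
        apply hδ
        have h1 : g ^ p ∈ (Phi ⇑(minusQF F m a b)).ker := by rw [MonoidHom.mem_ker, map_pow, hxp]
        have h3 := ker_Phi_le_DD (minusQF F m a b) hQ hc7 (m + 1) hcard hne h1
        rw [mem_DD, map_pow] at h3
        exact pow_eq_one_of_odd_of_sq _ hpodd h3 (delta_sq (minusQF F m a b) hne (m + 1) hQ hcard g)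
  · obtain ⟨⟨ζ, σ, hσ1, hζσ, hζan, Hψ⟩, hiff⟩ :=
      field_case_minus hm a b hab (minusQF F m a b) rfl A hInnA hp x hord hx
    obtain ⟨ψ, hψ⟩ := Hψ _ (Cfsg.Agent.S0288.coe_minusQF m 1 ζ)
    rw [pPrimeCore_ne_bot_iff, hiff, card_eqLocus_eq (conj_injective_pomega (minusQF F m a b) hker) x,
      Nat.coprime_comm]
    exact ⟨fun h => ⟨⟨1, ζ, ψ, σ, hζan, hσ1, map_one σ, hζσ, hψ⟩, h⟩, fun h => h.2⟩

end final

end

end Cfsg.Agent.Lib.H13.MBal
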