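import Cfsg.Agent.Lib.H13.HypPairs

set_option autoImplicit false

namespace Cfsg.Agent.Lib.H13.MaxTS

open Matrix Module
open scoped MatrixGroups
open Cfsg.Agent.Lib.H13.HypPairs

variable {F : Type*} [Field F] {ι : Type} [Fintype ι] [DecidableEq ι] (Q : QuadraticForm F (ι → F))

set_option quotPrecheck false in
local notation "B" => QuadraticMap.polar (⇑Q)

theorem polar_eq_zero_of_ts (U : Submodule F (ι → F)) (hU : ∀ u ∈ U, Q u = 0) (x y : ι → F)
    (hx : x ∈ U) (hy : y ∈ U) : B x y = 0 := by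
  unfold QuadraticMap.polar
  rw [hU _ (U.add_mem hx hy), hU x hx, hU y hy]
  ring

/-- the reflection as a linear equivalence -/
noncomputable def rEq (v : ι → F) (hv : Q v ≠ 0) : (ι → F) ≃ₗ[F] (ι → F) :=
  Matrix.toLin'OfInv (M := Cfsg.reflectionMatrix ⇑Q v) (M' := Cfsg.reflectionMatrix ⇑Q v)
    (refl_mul_self Q v hv) (refl_mul_self Q v hv)

theorem rEq_apply (v : ι → F) (hv : Q v ≠ 0) (x : ι → F) :
    rEq Q v hv x = x - ((Q v)⁻¹ * B v x) • v := by
  rw [← Cfsg.Agent.Lib.H4.reflectionMatrix_mulVec]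
  simp [rEq, Matrix.toLin'OfInv]

theorem rEq_coe (v : ι → F) (hv : Q v ≠ 0) :
    (rEq Q v hv : (ι → F) →ₗ[F] (ι → F)) = Matrix.mulVecLin (Cfsg.reflectionMatrix ⇑Q v) := by
  apply LinearMap.ext
  intro x
  rw [LinearEquiv.coe_coe, rEq_apply, Matrix.mulVecLin_apply,
    Cfsg.Agent.Lib.H4.reflectionMatrix_mulVec]

/-- one reduction step -/
theorem step (U₀ U₁ : Submodule F (ι → F)) (hU₀ : ∀ u ∈ U₀, Q u = 0) (hU₁ : ∀ u ∈ U₁, Q u = 0)
    (x y : ι → F) (hx : x ∈ U₁) (hy : y ∈ U₀) (hxy : B x y = -1) :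
    ∃ hv : Q (x - y) ≠ 0, Q (x - y) = 1 ∧
      U₀ ⊓ U₁.map (rEq Q (x - y) hv : (ι → F) →ₗ[F] (ι → F)) = (U₀ ⊓ U₁) ⊔ Submodule.span F {y} ∧
      y ∉ U₀ ⊓ U₁ := by
  have hQv : Q (x - y) = 1 := by
    rw [sub_eq_add_neg, QuadraticMap.map_add (⇑Q), QuadraticMap.map_neg, QuadraticMap.polar_neg_right,
      hU₁ x hx, hU₀ y hy, hxy]
    ring
  have hv : Q (x - y) ≠ 0 := by rw [hQv]; exact one_ne_zero
  refine ⟨hv, hQv, ?_, ?_⟩
  · have hrx : rEq Q (x - y) hv x = y := by
      rw [rEq_apply, hQv, QuadraticMap.polar_sub_left, Cfsg.Agent.Lib.H4.polar_self, hU₁ x hx,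
        QuadraticMap.polar_comm (⇑Q) y x, hxy]
      have : ((1 : F)⁻¹ * (2 * 0 - -1)) = 1 := by ring
      rw [this, one_smul]
      abel
    apply le_antisymm
    · rintro z ⟨hz0, hz1⟩
      obtain ⟨u, hu, rfl⟩ := hz1
      rw [LinearEquiv.coe_coe, rEq_apply] at hz0 ⊢
      set μ := (Q (x - y))⁻¹ * B (x - y) u with hμ
      have h1 : u - μ • (x - y) = (u - μ • x) + μ • y := by
        rw [smul_sub]; abel
      rw [h1]
      apply Submodule.add_mem
      · apply Submodule.mem_sup_left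
        refine ⟨?_, U₁.sub_mem hu (U₁.smul_mem _ hx)⟩
        have : u - μ • x = (u - μ • (x - y)) - μ • y := by
          rw [smul_sub]; abel
        rw [this]
        exact U₀.sub_mem hz0 (U₀.smul_mem _ hy)
      · apply Submodule.mem_sup_right
        exact Submodule.smul_mem _ _ (Submodule.mem_span_singleton_self y)
    · apply sup_le
      · rintro d ⟨hd0, hd1⟩
        refine ⟨hd0, d, hd1, ?_⟩
        rw [LinearEquiv.coe_coe, rEq_apply, QuadraticMap.polar_sub_left,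
          polar_eq_zero_of_ts Q U₁ hU₁ x d hx hd1, polar_eq_zero_of_ts Q U₀ hU₀ y d hy hd0]
        simp
      · rw [Submodule.span_singleton_le_iff_mem]
        exact ⟨hy, x, hx, hrx⟩
  · rintro ⟨-, hy1⟩
    have := polar_eq_zero_of_ts Q U₁ hU₁ x y hx hy1
    rw [hxy] at this
    exact one_ne_zero (neg_eq_zero.mp this)

/-- a maximal totally singular subspace is moved onto another one by `d` reflections in vectors of
norm one, `d` the codimension of the intersection -/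
theorem exists_refl_list (U₀ : Submodule F (ι → F)) (hU₀ : ∀ u ∈ U₀, Q u = 0)
    (hperp : ∀ x, (∀ u ∈ U₀, B u x = 0) → x ∈ U₀) :
    ∀ d : ℕ, ∀ U₁ : Submodule F (ι → F), (∀ u ∈ U₁, Q u = 0) → finrank F U₁ = finrank F U₀ →
      finrank F U₀ - finrank F ↥(U₀ ⊓ U₁) = d →
      ∃ vs : List (ι → F), (∀ v ∈ vs, Q v = 1) ∧ vs.length = d ∧
        U₁.map (Matrix.mulVecLin (vs.map (fun v => Cfsg.reflectionMatrix ⇑Q v)).prod) = U₀ := by
  intro d
  induction d with
  | zero =>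
    intro U₁ hU₁ hfr hd
    have h1 : U₀ ⊓ U₁ = U₀ :=
      Submodule.eq_of_le_of_finrank_le inf_le_left (by omega)
    have h2 : U₀ ≤ U₁ := by rw [← h1]; exact inf_le_right
    have h3 : U₀ = U₁ := Submodule.eq_of_le_of_finrank_eq h2 hfr.symm
    refine ⟨[], by simp, rfl, ?_⟩
    rw [List.map_nil, List.prod_nil, Matrix.mulVecLin_one, Submodule.map_id, h3]
  | succ d ih =>
    intro U₁ hU₁ hfr hd
    have hnle : ¬ U₁ ≤ U₀ := by
      intro hle
      have h3 : U₁ = U₀ := Submodule.eq_of_le_of_finrank_eq hle hfr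
      rw [h3, inf_idem] at hd
      omega
    obtain ⟨x, hx1, hx0⟩ := Set.not_subset.mp hnle
    have hex : ∃ y ∈ U₀, B y x ≠ 0 := by
      by_contra hcon
      push Not at hcon
      exact hx0 (hperp x hcon)
    obtain ⟨y, hy, hyx⟩ := hex
    set c := B x y with hc
    have hc0 : c ≠ 0 := by rw [hc, QuadraticMap.polar_comm]; exact hyx
    have hx' : (-c⁻¹) • x ∈ U₁ := U₁.smul_mem _ hx1
    have hxy' : B ((-c⁻¹) • x) y = -1 := by
      rw [QuadraticMap.polar_smul_left, ← hc, smul_eq_mul]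
      field_simp
    obtain ⟨hv, hQ1, hinf, hynot⟩ := step Q U₀ U₁ hU₀ hU₁ _ y hx' hy hxy'
    set v := (-c⁻¹) • x - y with hvdef
    set U₂ := U₁.map (rEq Q v hv : (ι → F) →ₗ[F] (ι → F)) with hU₂def
    have hU₂ : ∀ u ∈ U₂, Q u = 0 := by
      rintro z ⟨u, hu, rfl⟩
      rw [rEq_coe, Matrix.mulVecLin_apply, refl_isometry Q v hv]
      exact hU₁ u hu
    have hfr₂ : finrank F U₂ = finrank F U₀ := by
      rw [hU₂def, LinearEquiv.finrank_map_eq]
      exact hfr
    have hfin : finrank F ↥(U₀ ⊓ U₂) = finrank F ↥(U₀ ⊓ U₁) + 1 := by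
      rw [hinf]
      exact Submodule.finrank_sup_span_singleton hynot
    have hle : finrank F ↥(U₀ ⊓ U₂) ≤ finrank F U₀ := Submodule.finrank_mono inf_le_left
    obtain ⟨vs', hvs', hlen, hmap⟩ := ih U₂ hU₂ hfr₂ (by omega)
    refine ⟨vs' ++ [v], ?_, ?_, ?_⟩
    · intro w hw
      rcases List.mem_append.mp hw with h | h
      · exact hvs' w h
      · rw [List.mem_singleton] at h
        rw [h]; exact hQ1
    · rw [List.length_append, hlen, List.length_singleton]
    · rw [List.map_append, List.prod_append, List.map_cons, List.map_nil, List.prod_cons,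
        List.prod_nil, Matrix.mul_one, Matrix.mulVecLin_mul, Submodule.map_comp, ← rEq_coe Q v hv]
      exact hmap

end Cfsg.Agent.Lib.H13.MaxTS
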