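import Cfsg.Agent.Lib.H13.SpInvol

set_option autoImplicit false

namespace Cfsg.Agent.Lib.H13.NFFibre

open Module Matrix
open Cfsg.Agent.Lib.H13.SpInvol

variable {F V : Type*} [Field F] [AddCommGroup V] [Module F V] (f : LinearMap.BilinForm F V)
variable {ι : Type*} [Fintype ι] [DecidableEq ι]

/-- the permutation matrix of `σ` -/
def PM (F : Type*) [Field F] (σ : ι → ι) : Matrix ι ι F := Matrix.of fun i j => if j = σ i then 1 else 0

theorem PM_mulVec (σ : ι → ι) (c : ι → F) (i : ι) : (PM F σ *ᵥ c) i = c (σ i) := by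
  simp [PM, Matrix.mulVec, dotProduct]

theorem PM_id : PM F (id : ι → ι) = 1 := by
  ext i j
  simp [PM, Matrix.one_apply, eq_comm]

/-- coordinates with respect to a family, via the form -/
def phi (w : ι → V) : V →ₗ[F] (ι → F) := LinearMap.pi fun j => f.flip (w j)

theorem phi_apply (w : ι → V) (y : V) (j : ι) : phi f w y j = f y (w j) := rfl

/-- act on a family by a matrix -/
def mulFam (A : Matrix ι ι F) (w : ι → V) : ι → V := fun i => Fintype.linearCombination F w (A i)

theorem mulFam_apply (A : Matrix ι ι F) (w : ι → V) (i : ι) :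
    mulFam A w i = ∑ k, A i k • w k := Fintype.linearCombination_apply F w (A i)

theorem lc_mulFam (A : Matrix ι ι F) (w : ι → V) (c : ι → F) :
    Fintype.linearCombination F (mulFam A w) c = Fintype.linearCombination F w (Aᵀ *ᵥ c) := by
  rw [Fintype.linearCombination_apply, Fintype.linearCombination_apply]
  simp only [mulFam_apply, Finset.smul_sum, smul_smul]
  rw [Finset.sum_comm]
  apply Finset.sum_congr rfl
  intro k _
  rw [← Finset.sum_smul]
  congr 1
  simp [Matrix.mulVec, dotProduct, mul_comm]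

theorem phi_mulFam (A : Matrix ι ι F) (w : ι → V) (y : V) :
    phi f (mulFam A w) y = A *ᵥ phi f w y := by
  funext j
  rw [phi_apply, mulFam_apply, map_sum]
  simp only [map_smul, smul_eq_mul]
  simp [Matrix.mulVec, dotProduct, phi_apply]

variable {f}

theorem nf_eq' {t : V →ₗ[F] V} {σ : ι → ι} {w : ι → V} (h : IsNF f t σ w) (y : V) :
    t y = y + Fintype.linearCombination F w (PM F σ *ᵥ phi f w y) := by
  rw [h.eq, Fintype.linearCombination_apply]
  simp only [PM_mulVec, phi_apply]

theorem lc_injective {w : ι → V} (hw : LinearIndependent F w) :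
    Function.Injective (Fintype.linearCombination F w) := by
  rw [← LinearMap.ker_eq_bot, LinearMap.ker_eq_bot']
  intro c hc
  rw [Fintype.linearCombination_apply] at hc
  funext i
  exact Fintype.linearIndependent_iff.mp hw c hc i

theorem PM_mul_self {σ : ι → ι} (hσ : Function.Involutive σ) : PM F σ * PM F σ = 1 := by
  ext i j
  rw [Matrix.mul_apply]
  simp only [PM, Matrix.of_apply, Matrix.one_apply]
  rw [Finset.sum_eq_single (σ i)]
  · simp only [if_true, one_mul]
    rw [hσ i]
    simp [eq_comm]
  · intro b _ hb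
    rw [if_neg hb, zero_mul]
  · intro h; exact absurd (Finset.mem_univ _) h

theorem isUnit_of_eq {σ : ι → ι} (hσ : Function.Involutive σ) (A : Matrix ι ι F)
    (hA : Aᵀ * PM F σ * A = PM F σ) : A * (PM F σ * Aᵀ * PM F σ) = 1 := by
  rw [mul_eq_one_comm]
  rw [Matrix.mul_assoc, Matrix.mul_assoc, ← Matrix.mul_assoc Aᵀ, hA, PM_mul_self hσ]

/-- a matrix preserving the permutation form maps normal forms to normal forms -/
theorem isNF_mulFam {t : V →ₗ[F] V} {σ : ι → ι} {w₀ : ι → V} (hσ : Function.Involutive σ)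
    (h₀ : IsNF f t σ w₀) (A : Matrix ι ι F) (hA : Aᵀ * PM F σ * A = PM F σ) :
    IsNF f t σ (mulFam A w₀) where
  indep := by
    rw [Fintype.linearIndependent_iff]
    intro c hc
    have h1 := lc_mulFam A w₀ c
    rw [Fintype.linearCombination_apply, hc] at h1
    have h2 : Aᵀ *ᵥ c = 0 := by
      apply lc_injective h₀.indep
      rw [← h1, map_zero]
    have h3 := isUnit_of_eq hσ A hA
    have h4 : c = (A * (PM F σ * Aᵀ * PM F σ))ᵀ *ᵥ c := by rw [h3]; simp
    rw [Matrix.transpose_mul, ← Matrix.mulVec_mulVec, h2, Matrix.mulVec_zero] at h4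
    intro i
    rw [h4]; rfl
  iso := by
    intro i j
    rw [mulFam_apply, mulFam_apply]
    simp only [map_sum, LinearMap.sum_apply, map_smul, LinearMap.smul_apply, h₀.iso, smul_zero,
      Finset.sum_const_zero]
  eq := by
    intro y
    rw [nf_eq' h₀ y]
    congr 1
    have h6 : ∑ i, f y (mulFam A w₀ (σ i)) • mulFam A w₀ i =
        Fintype.linearCombination F (mulFam A w₀) (PM F σ *ᵥ phi f (mulFam A w₀) y) := by
      rw [Fintype.linearCombination_apply]
      simp only [PM_mulVec, phi_apply]
    rw [h6, lc_mulFam, phi_mulFam, Matrix.mulVec_mulVec, Matrix.mulVec_mulVec, hA]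

/-- every normal form of `t` arises from a fixed one through a matrix preserving the
permutation form -/
theorem exists_matrix_of_isNF [FiniteDimensional F V] (hf : f.Nondegenerate) (halt : f.IsAlt)
    {t : V →ₗ[F] V} {σ : ι → ι} {w₀ w : ι → V} (hσ : Function.Involutive σ)
    (h₀ : IsNF f t σ w₀) (h : IsNF f t σ w) :
    ∃ A : Matrix ι ι F, Aᵀ * PM F σ * A = PM F σ ∧ mulFam A w₀ = w := by
  have hspan : ∀ i, w i ∈ Submodule.span F (Set.range w₀) := by
    intro i
    rw [← h₀.range_eq hf halt hσ, h.range_eq hf halt hσ]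
    exact Submodule.subset_span ⟨i, rfl⟩
  choose A hA using fun i => (Submodule.mem_span_range_iff_exists_fun F).mp (hspan i)
  have hAw : mulFam (Matrix.of A) w₀ = w := by
    funext i
    rw [mulFam_apply]
    exact hA i
  refine ⟨Matrix.of A, ?_, hAw⟩
  -- compare the two normal forms
  have hcmp : ∀ y, ((Matrix.of A)ᵀ * PM F σ * Matrix.of A) *ᵥ phi f w₀ y =
      PM F σ *ᵥ phi f w₀ y := by
    intro y
    apply lc_injective h₀.indep
    have e1 := nf_eq' h₀ y
    have e2 := nf_eq' h y
    rw [← hAw, lc_mulFam, phi_mulFam, Matrix.mulVec_mulVec, Matrix.mulVec_mulVec] at e2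
    rw [e1] at e2
    exact (add_left_cancel e2).symm
  ext k l
  obtain ⟨y, hy⟩ := exists_dual hf halt w₀ h₀.indep (fun i => if i = l then 1 else 0)
  have hphi : phi f w₀ y = fun i => if i = l then 1 else 0 := by
    funext i
    rw [phi_apply]
    exact hy i
  have := congrFun (hcmp y) k
  rw [hphi] at this
  simpa [Matrix.mulVec, dotProduct] using this

theorem mulFam_injective {w₀ : ι → V} (hw : LinearIndependent F w₀) (A B : Matrix ι ι F)
    (h : mulFam A w₀ = mulFam B w₀) : A = B := by
  ext i k
  have := congrFun h i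
  exact congrFun (lc_injective hw this) k

/-- the normal forms of `t` are counted by the matrices preserving the permutation form -/
theorem card_NF [FiniteDimensional F V] (hf : f.Nondegenerate) (halt : f.IsAlt)
    {t : V →ₗ[F] V} {σ : ι → ι} {w₀ : ι → V} (hσ : Function.Involutive σ)
    (h₀ : IsNF f t σ w₀) :
    Nat.card {w : ι → V // IsNF f t σ w} =
      Nat.card {A : Matrix ι ι F // Aᵀ * PM F σ * A = PM F σ} := by
  symm
  apply Nat.card_eq_of_bijective
    (fun A : {A : Matrix ι ι F // Aᵀ * PM F σ * A = PM F σ} =>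
      (⟨mulFam A.1 w₀, isNF_mulFam hσ h₀ A.1 A.2⟩ : {w : ι → V // IsNF f t σ w}))
  constructor
  · intro A B hAB
    apply Subtype.ext
    exact mulFam_injective h₀.indep _ _ (congrArg Subtype.val hAB)
  · intro w
    obtain ⟨A, hA, hAw⟩ := exists_matrix_of_isNF hf halt hσ h₀ w.2
    exact ⟨⟨A, hA⟩, Subtype.ext hAw⟩

end Cfsg.Agent.Lib.H13.NFFibre
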