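import Cfsg.Agent.S2622
import Cfsg.Agent.Lib.H13.Char2Gen

set_option autoImplicit false

namespace Cfsg.Agent.Lib.H13.ONBCount

open Module LinearMap.BilinForm

universe u v

/-- number of orthonormal bases of a `k`-dimensional non-alternating symmetric space, `q` even -/
def aNum (q : ℕ) : ℕ → ℕ
  | 0 => 1
  | 1 => 1
  | (k + 2) => (q ^ (k + 1) - (if Even k then 0 else 1)) * aNum q (k + 1)

section
variable {F : Type u} [Field F] [Fintype F] [CharP F 2]
variable {U : Type v} [AddCommGroup U] [Module F U]

/-- orthonormal families -/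
def IsON (γ : LinearMap.BilinForm F U) {k : ℕ} (e : Fin k → U) : Prop :=
  ∀ i j, γ (e i) (e j) = if i = j then 1 else 0

theorem sq_eq_one_iff' (a : F) : a ^ 2 = 1 ↔ a = 1 := by
  constructor
  · intro h
    have : (a - 1) ^ 2 = 0 := by
      have h2 : (2 : F) = 0 := CharP.ofNat_eq_zero F 2
      ring_nf
      rw [h]
      linear_combination (1 - a) * h2
    have := pow_eq_zero_iff (two_ne_zero) |>.mp this
    exact sub_eq_zero.mp this
  · rintro rfl; ring

variable [FiniteDimensional F U]

/-- the distinguished vector -/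
theorem exists_dist (γ : LinearMap.BilinForm F U) (hS : γ.IsSymm) (hB : γ.Nondegenerate)
    (hna : ∃ v, γ v v ≠ 0) :
    ∃ d : U, (∀ y, γ y y = (γ y d) ^ 2) ∧ γ d d = (finrank F U : F) := by
  classical
  obtain ⟨b, hb⟩ := Cfsg.Agent.S2622.result (n := finrank F U) rfl γ hS hB hna
  refine ⟨∑ i, b i, ?_, ?_⟩
  · intro y
    have hyb : ∀ j, γ y (b j) = b.repr y j := by
      intro j
      conv_lhs => rw [← b.sum_repr y]
      rw [map_sum, LinearMap.sum_apply]
      simp only [map_smul, LinearMap.smul_apply, hb, smul_eq_mul]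
      simp
    have h1 : γ y y = ∑ j, (b.repr y j) ^ 2 := by
      have e1 : γ y y = γ y (∑ j, b.repr y j • b j) := by rw [b.sum_repr]
      rw [e1, map_sum]
      apply Finset.sum_congr rfl
      intro j _
      rw [map_smul, hyb, smul_eq_mul, _root_.sq]
    rw [h1, map_sum]
    simp only [hyb]
    exact (sum_pow_char 2 Finset.univ _).symm
  · rw [map_sum]
    simp only [map_sum, LinearMap.sum_apply, hb]
    simp

/-- number of vectors on which a nonzero functional takes the value `1` -/
theorem card_functional_eq_one (ℓ : U →ₗ[F] F) (hℓ : ℓ ≠ 0) :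
    Nat.card {x : U // ℓ x = 1} = Fintype.card F ^ (finrank F U - 1) := by
  classical
  haveI : Finite U := Module.finite_of_finite F
  haveI : Fintype U := Fintype.ofFinite U
  obtain ⟨x₀, hx₀⟩ : ∃ x₀, ℓ x₀ = 1 := by
    obtain ⟨x, hx⟩ : ∃ x, ℓ x ≠ 0 := by
      by_contra h
      push Not at h
      exact hℓ (LinearMap.ext h)
    refine ⟨(ℓ x)⁻¹ • x, ?_⟩
    rw [map_smul, smul_eq_mul, inv_mul_cancel₀ hx]
  have hsurj : LinearMap.range ℓ = ⊤ := by
    rw [eq_top_iff]
    intro c _
    exact ⟨c • x₀, by rw [map_smul, hx₀, smul_eq_mul, mul_one]⟩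
  have hker : finrank F ↥(LinearMap.ker ℓ) = finrank F U - 1 := by
    have := LinearMap.finrank_range_add_finrank_ker ℓ
    rw [hsurj, finrank_top, finrank_self] at this
    omega
  have h1 : Nat.card {x : U // ℓ x = 1} = Nat.card ↥(LinearMap.ker ℓ) := by
    apply Nat.card_congr
    refine ⟨fun x => ⟨x.1 - x₀, by rw [LinearMap.mem_ker, map_sub, x.2, hx₀, sub_self]⟩,
      fun y => ⟨y.1 + x₀, by rw [map_add, LinearMap.mem_ker.mp y.2, hx₀, zero_add]⟩, ?_, ?_⟩
    · intro x; apply Subtype.ext; simp
    · intro y; apply Subtype.ext; simp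
  rw [h1, Nat.card_eq_fintype_card, card_eq_pow_finrank (K := F), hker]

/-- for a unit vector `x`, the form is alternating on `x^⊥` iff `x` is the distinguished vector -/
theorem perp_alt_iff (γ : LinearMap.BilinForm F U) (hS : γ.IsSymm) (hB : γ.Nondegenerate)
    (d : U) (hd : ∀ y, γ y y = (γ y d) ^ 2) (x : U) (hx : γ x x = 1) :
    (∀ y, γ x y = 0 → γ y y = 0) ↔ x = d := by
  constructor
  · intro h
    have hxd : γ x d = 1 := (sq_eq_one_iff' _).mp (by rw [← hd, hx])
    have hdx : γ d x = 1 := by rw [hS.eq]; exact hxd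
    have key : ∀ u, γ (d - x) u = 0 := by
      intro u
      have hu' : γ x (u - γ x u • x) = 0 := by
        rw [map_sub, map_smul, hx, smul_eq_mul, mul_one, sub_self]
      have h1 := h _ hu'
      rw [hd] at h1
      have h2 : γ (u - γ x u • x) d = 0 := by
        exact pow_eq_zero_iff (two_ne_zero) |>.mp h1
      have h3 : γ d (u - γ x u • x) = 0 := by rw [hS.eq]; exact h2
      have hu : u = γ x u • x + (u - γ x u • x) := by abel
      rw [hu, map_add, map_smul, map_sub, LinearMap.sub_apply, LinearMap.sub_apply, hdx, hx,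
        sub_self, smul_zero, zero_add, h3, hu', sub_self]
    have := hB.1 (d - x) key
    exact (sub_eq_zero.mp this).symm
  · rintro rfl y hy
    rw [hd, hS.eq, hy]
    ring

end

section main

variable {F : Type u} [Field F] [Fintype F] [CharP F 2]

/-- the fibre of `e ↦ e 0` over a unit vector -/
theorem card_fibre {U : Type v} [AddCommGroup U] [Module F U]
    (γ : LinearMap.BilinForm F U) (hS : γ.IsSymm) (k : ℕ) (x : U) (hx : γ x x = 1) :
    Nat.card {e : {e : Fin (k + 1) → U // IsON γ e} // e.1 0 = x} =
      Nat.card {e : Fin k → ↥(γ.orthogonal (F ∙ x)) //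
        IsON (γ.restrict (γ.orthogonal (F ∙ x))) e} := by
  apply Nat.card_congr
  refine ⟨fun e => ⟨fun i => ⟨e.1.1 i.succ, ?_⟩, ?_⟩,
    fun e' => ⟨⟨Fin.cons x (fun i => (e'.1 i : U)), ?_⟩, ?_⟩, ?_, ?_⟩
  · rw [Cfsg.Agent.S2622.mem_orth_iff]
    have h0 := e.1.2 0 i.succ
    rw [e.2, if_neg (Fin.succ_ne_zero i).symm] at h0
    exact h0
  · intro i j
    show γ (e.1.1 i.succ) (e.1.1 j.succ) = _
    rw [e.1.2]
    simp only [Fin.succ_inj]
  · intro i j
    refine Fin.cases ?_ (fun i => ?_) i <;> refine Fin.cases ?_ (fun j => ?_) j <;>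
      simp only [Fin.cons_zero, Fin.cons_succ]
    · simpa using hx
    · have : γ x (e'.1 j : U) = 0 := (Cfsg.Agent.S2622.mem_orth_iff γ x _).mp (e'.1 j).2
      rw [this, if_neg (Fin.succ_ne_zero j).symm]
    · have : γ x (e'.1 i : U) = 0 := (Cfsg.Agent.S2622.mem_orth_iff γ x _).mp (e'.1 i).2
      rw [hS.eq, this, if_neg (Fin.succ_ne_zero i)]
    · have := e'.2 i j
      rw [show γ (e'.1 i : U) (e'.1 j : U) = _ from this]
      simp only [Fin.succ_inj]
  · simp
  · intro e
    apply Subtype.ext
    apply Subtype.ext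
    funext i
    refine Fin.cases ?_ (fun i => ?_) i
    · simp [e.2]
    · simp
  · intro e'
    apply Subtype.ext
    funext i
    apply Subtype.ext
    simp

theorem card_ON (k : ℕ) : ∀ {U : Type v} [AddCommGroup U] [Module F U] [FiniteDimensional F U]
    (γ : LinearMap.BilinForm F U), γ.IsSymm → γ.Nondegenerate → finrank F U = k →
    (k = 0 ∨ ∃ v, γ v v ≠ 0) →
    Nat.card {e : Fin k → U // IsON γ e} = aNum (Fintype.card F) k := by
  classical
  induction k with
  | zero =>
    intro U _ _ _ γ hS hB hdim hna
    haveI : Unique {e : Fin 0 → U // IsON γ e} :=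
      { default := ⟨fun i => i.elim0, fun i => i.elim0⟩
        uniq := fun e => Subtype.ext (funext fun i => i.elim0) }
    rw [Nat.card_unique]
    rfl
  | succ k ih =>
    intro U _ _ _ γ hS hB hdim hna
    have hna : ∃ v, γ v v ≠ 0 := hna.resolve_left (Nat.succ_ne_zero k)
    haveI : Finite U := Module.finite_of_finite F
    haveI : Fintype U := Fintype.ofFinite U
    obtain ⟨d, hd, hdd⟩ := exists_dist γ hS hB hna
    -- the good vectors
    let Good : Type v := {x : U // γ x x = 1 ∧ (k = 0 ∨ ∃ v, γ x v = 0 ∧ γ v v ≠ 0)}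
    -- Step A
    have hA : Nat.card {e : Fin (k + 1) → U // IsON γ e} =
        Nat.card Good * aNum (Fintype.card F) k := by
      let p : {e : Fin (k + 1) → U // IsON γ e} → Good := fun e => ⟨e.1 0, by
        refine ⟨by simpa using e.2 0 0, ?_⟩
        by_cases hk : k = 0
        · exact Or.inl hk
        · right
          obtain ⟨j, rfl⟩ : ∃ j, k = j + 1 := ⟨k - 1, by omega⟩
          refine ⟨e.1 1, ?_, ?_⟩
          · rw [e.2 0 1]; simp
          · rw [e.2 1 1]; simp⟩
      rw [Nat.card_congr (Equiv.sigmaFiberEquiv p).symm, Nat.card_sigma]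
      have : ∀ x : Good, Nat.card {e : {e : Fin (k + 1) → U // IsON γ e} // p e = x} =
          aNum (Fintype.card F) k := by
        intro x
        have hx0 : γ x.1 x.1 ≠ 0 := by rw [x.2.1]; exact one_ne_zero
        have e1 : Nat.card {e : {e : Fin (k + 1) → U // IsON γ e} // p e = x} =
            Nat.card {e : {e : Fin (k + 1) → U // IsON γ e} // e.1 0 = x.1} := by
          apply Nat.card_congr
          apply Equiv.subtypeEquivRight
          intro e
          constructor
          · intro h; exact congrArg Subtype.val h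
          · intro h; exact Subtype.ext h
        rw [e1, card_fibre γ hS k x.1 x.2.1]
        have hcompl : IsCompl (F ∙ x.1) (γ.orthogonal (F ∙ x.1)) :=
          isCompl_span_singleton_orthogonal hx0
        have hfr := Submodule.finrank_add_eq_of_isCompl hcompl
        have hxne : x.1 ≠ 0 := by
          intro h0
          rw [h0] at hx0
          simp at hx0
        rw [finrank_span_singleton hxne, hdim] at hfr
        apply ih (γ.restrict (γ.orthogonal (F ∙ x.1))) (hS.restrict _)
          (restrict_nondegenerate_orthogonal_spanSingleton γ hB hS.isRefl hx0) (by omega)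
        rcases x.2.2 with h0 | ⟨v, hv1, hv2⟩
        · exact Or.inl h0
        · right
          exact ⟨⟨v, (Cfsg.Agent.S2622.mem_orth_iff γ x.1 v).mpr hv1⟩, hv2⟩
      simp only [this]
      rw [Finset.sum_const, Finset.card_univ, smul_eq_mul, Nat.card_eq_fintype_card]
    rw [hA]
    -- Step B
    have hd0 : d ≠ 0 := by
      rintro rfl
      obtain ⟨v, hv⟩ := hna
      apply hv
      rw [hd v]
      simp
    have hℓ : γ.flip d ≠ 0 := by
      intro h
      obtain ⟨v, hv⟩ := hna
      apply hv
      rw [hd v]
      have := LinearMap.congr_fun h v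
      rw [LinearMap.BilinForm.flip_apply] at this
      rw [this]
      simp
    have hcount := card_functional_eq_one (γ.flip d) hℓ
    rw [hdim, Nat.add_sub_cancel] at hcount
    have hunit : ∀ x : U, γ x x = 1 ↔ γ.flip d x = 1 := by
      intro x
      rw [LinearMap.BilinForm.flip_apply, hd x, sq_eq_one_iff']
    rcases Nat.eq_zero_or_pos k with hk | hk
    · subst hk
      have : Nat.card Good = 1 := by
        rw [← pow_zero (Fintype.card F), ← hcount]
        apply Nat.card_congr
        apply Equiv.subtypeEquivRight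
        intro x
        rw [← hunit]
        simp
      rw [this]
      rfl
    · obtain ⟨j, rfl⟩ : ∃ j, k = j + 1 := ⟨k - 1, by omega⟩
      have hgood : ∀ x : U, (γ x x = 1 ∧ (j + 1 = 0 ∨ ∃ v, γ x v = 0 ∧ γ v v ≠ 0)) ↔
          (γ.flip d x = 1 ∧ x ≠ d) := by
        intro x
        rw [← hunit]
        constructor
        · rintro ⟨h1, h2⟩
          refine ⟨h1, ?_⟩
          intro hxd
          have := (perp_alt_iff γ hS hB d hd x h1).mpr hxd
          rcases h2 with h2 | ⟨v, hv1, hv2⟩
          · omega
          · exact hv2 (this v hv1)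
        · rintro ⟨h1, h2⟩
          refine ⟨h1, Or.inr ?_⟩
          by_contra hne
          push Not at hne
          exact h2 ((perp_alt_iff γ hS hB d hd x h1).mp hne)
      have hG : Nat.card Good = Nat.card {x : U // γ.flip d x = 1 ∧ x ≠ d} := by
        apply Nat.card_congr
        apply Equiv.subtypeEquivRight
        exact hgood
      rw [hG]
      show _ = (Fintype.card F ^ (j + 1) - (if Even j then 0 else 1)) * aNum (Fintype.card F) (j + 1)
      congr 1
      by_cases hj : Even j
      · rw [if_pos hj, Nat.sub_zero, ← hcount]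
        apply Nat.card_congr
        apply Equiv.subtypeEquivRight
        intro x
        constructor
        · exact fun h => h.1
        · intro h
          refine ⟨h, ?_⟩
          rintro rfl
          rw [LinearMap.BilinForm.flip_apply, hdd, hdim] at h
          have : ((j + 1 + 1 : ℕ) : F) = 0 := by
            obtain ⟨r, hr⟩ := hj
            have h2 : (2 : F) = 0 := CharP.ofNat_eq_zero F 2
            rw [hr]
            push_cast
            linear_combination (r + 1 : F) * h2
          rw [this] at h
          exact zero_ne_one h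
      · rw [if_neg hj, ← hcount]
        have hdmem : γ.flip d d = 1 := by
          rw [LinearMap.BilinForm.flip_apply, hdd, hdim]
          rw [Nat.not_even_iff_odd] at hj
          obtain ⟨r, hr⟩ := hj
          have h2 : (2 : F) = 0 := CharP.ofNat_eq_zero F 2
          rw [hr]
          push_cast
          linear_combination (r + 1 : F) * h2
        have : Nat.card {x : U // γ.flip d x = 1 ∧ x ≠ d} =
            Nat.card {y : {x : U // γ.flip d x = 1} // y ≠ ⟨d, hdmem⟩} := by
          apply Nat.card_congr
          refine ⟨fun x => ⟨⟨x.1, x.2.1⟩, fun h => x.2.2 (congrArg Subtype.val h)⟩,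
            fun y => ⟨y.1.1, y.1.2, fun h => y.2 (Subtype.ext h)⟩, fun x => rfl, fun y => rfl⟩
        rw [this]
        haveI : Fintype {x : U // γ.flip d x = 1} := Fintype.ofFinite _
        rw [Nat.card_eq_fintype_card, Nat.card_eq_fintype_card, Fintype.card_subtype_compl,
          Fintype.card_subtype_eq]

end main

end Cfsg.Agent.Lib.H13.ONBCount
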