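import Cfsg.Agent.Lib.H13.NFFibre
import Cfsg.Agent.Lib.H13.ONBCount
import Cfsg.Agent.Lib.H2.SpOrder

set_option autoImplicit false

namespace Cfsg.Agent.Lib.H13.NFFibre

open Module Matrix
open Cfsg.Agent.Lib.H13.SpInvol Cfsg.Agent.Lib.H13.ONBCount

section count

variable {F : Type*} [Field F] [Fintype F] [CharP F 2]

/-- the dot product as a bilinear form -/
noncomputable def dotB (s : ℕ) : LinearMap.BilinForm F (Fin s → F) :=
  LinearMap.mk₂ F (fun u v => u ⬝ᵥ v) (fun u v w => add_dotProduct u v w)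
    (fun c u v => smul_dotProduct c u v) (fun u v w => dotProduct_add u v w)
    (fun c u v => dotProduct_smul c u v)

theorem dotB_apply (s : ℕ) (u v : Fin s → F) : dotB s u v = u ⬝ᵥ v := rfl

theorem dotB_symm (s : ℕ) : (dotB (F := F) s).IsSymm := by
  constructor
  intro u v
  simp only [dotB_apply]
  exact dotProduct_comm u v

theorem dotB_nondeg (s : ℕ) : (dotB (F := F) s).Nondegenerate := by
  have h1 : ∀ u : Fin s → F, (∀ v, dotB s u v = 0) → u = 0 := by
    intro u hu
    funext i
    have := hu (Pi.single i 1)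
    rw [dotB_apply, dotProduct_single, mul_one] at this
    exact this
  constructor
  · exact h1
  · intro u hu
    apply h1
    intro v
    rw [(dotB_symm s).eq]
    exact hu v

/-- the number of matrices with `Aᵀ A = 1` -/
theorem card_orth (s : ℕ) :
    Nat.card {A : Matrix (Fin s) (Fin s) F // Aᵀ * A = 1} = aNum (Fintype.card F) s := by
  rw [← card_ON (F := F) s (dotB s) (dotB_symm s) (dotB_nondeg s)
    (by rw [finrank_fintype_fun_eq_card, Fintype.card_fin])]
  · apply Nat.card_congr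
    refine ⟨fun A => ⟨fun i => (A.1)ᵀ i, ?_⟩, fun e => ⟨(Matrix.of e.1)ᵀ, ?_⟩, ?_, ?_⟩
    · intro i j
      have := congrFun (congrFun A.2 i) j
      rw [Matrix.mul_apply, Matrix.one_apply] at this
      rw [dotB_apply, ← this]
      rfl
    · ext i j
      rw [Matrix.mul_apply, Matrix.one_apply, ← e.2 i j, dotB_apply]
      rfl
    · intro A; rfl
    · intro e; rfl
  · rcases Nat.eq_zero_or_pos s with h | h
    · exact Or.inl h
    · right
      refine ⟨Pi.single ⟨0, h⟩ 1, ?_⟩
      rw [dotB_apply, dotProduct_single, mul_one, Pi.single_eq_same]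
      exact one_ne_zero

theorem PM_swap (r : ℕ) : PM F (Sum.swap : Fin r ⊕ Fin r → Fin r ⊕ Fin r) = Matrix.J (Fin r) F := by
  have h2 : (-1 : F) = 1 := by
    have h2 : (2 : F) = 0 := CharP.ofNat_eq_zero F 2
    linear_combination -h2
  ext i j
  rcases i with i | i <;> rcases j with j | j
  · simp [PM, Matrix.J]
  · simp only [PM, Matrix.J, Matrix.of_apply, Sum.swap_inl, Matrix.fromBlocks_apply₁₂,
      Matrix.neg_apply, Matrix.one_apply, Sum.inr.injEq]
    by_cases hij : i = j
    · rw [if_pos hij, if_pos hij.symm, h2]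
    · rw [if_neg hij, if_neg (Ne.symm hij), neg_zero]
  · simp only [PM, Matrix.J, Matrix.of_apply, Sum.swap_inr, Matrix.fromBlocks_apply₂₁,
      Matrix.one_apply, Sum.inl.injEq]
    by_cases hij : i = j
    · rw [if_pos hij, if_pos hij.symm]
    · rw [if_neg hij, if_neg (Ne.symm hij)]
  · simp [PM, Matrix.J]

theorem card_symp (r : ℕ) :
    Nat.card {A : Matrix (Fin r ⊕ Fin r) (Fin r ⊕ Fin r) F //
      Aᵀ * PM F Sum.swap * A = PM F Sum.swap} =
      Fintype.card F ^ (r ^ 2) * ∏ i ∈ Finset.range r, (Fintype.card F ^ (2 * (i + 1)) - 1) := by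
  rw [← Cfsg.Agent.Lib.H2.Sp.card_Sp (F := F) r]
  apply Nat.card_congr
  apply Equiv.subtypeEquivRight
  intro A
  rw [PM_swap, ← SymplecticGroup.mem_iff']

end count

section abstract

variable {F V : Type*} [Field F] [Fintype F] [CharP F 2] [AddCommGroup V] [Module F V]
  [FiniteDimensional F V] {f : LinearMap.BilinForm F V}

theorem card_NF_id (hf : f.Nondegenerate) (halt : f.IsAlt) {t : V →ₗ[F] V} {s : ℕ}
    {w₀ : Fin s → V} (h₀ : IsNF f t id w₀) :
    Nat.card {w : Fin s → V // IsNF f t id w} = aNum (Fintype.card F) s := by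
  rw [card_NF hf halt (fun _ => rfl) h₀, ← card_orth]
  apply Nat.card_congr
  apply Equiv.subtypeEquivRight
  intro A
  rw [PM_id, Matrix.mul_one]

theorem card_NF_swap (hf : f.Nondegenerate) (halt : f.IsAlt) {t : V →ₗ[F] V} {r : ℕ}
    {w₀ : Fin r ⊕ Fin r → V} (h₀ : IsNF f t Sum.swap w₀) :
    Nat.card {w : Fin r ⊕ Fin r → V // IsNF f t Sum.swap w} =
      Fintype.card F ^ (r ^ 2) * ∏ i ∈ Finset.range r, (Fintype.card F ^ (2 * (i + 1)) - 1) := by
  rw [card_NF hf halt Sum.swap_swap h₀, card_symp]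

end abstract

end Cfsg.Agent.Lib.H13.NFFibre
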