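import Mathlib

/-!
# S3592 (recognition of `M₁₁` by order and nse): shared definition (helper13)

`Good c`: the arithmetic shape of the numbers `c = #{g | orderOf g = n} > 0` in a simple group of
order 7920 (`165 = 7920 / 48`, `440 = 7920 / 18`, `1584 = 7920 / 5`, `1440 = 10 * 144`).
-/

set_option autoImplicit false

namespace Cfsg.Agent.Lib.H13.NSE11

/-- the shape of the nse-values of a simple group of order 7920 -/
def Good (c : ℕ) : Prop := c = 1 ∨ 165 ∣ c ∨ 440 ∣ c ∨ 1584 ∣ c ∨ c = 1440

end Cfsg.Agent.Lib.H13.NSE11
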