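/-
S3592, G side part 1 (helper13): a group `G` of order 7920 all of whose positive order-counts are `Good`
has exactly 144 Sylow 11-subgroups, and no elements of order 22 or 33.
-/
import Mathlib
import Cfsg.Agent.Lib.H13.NSE11Defs
import Cfsg.Agent.Lib.H5.OrderCount

set_option autoImplicit false

universe u

namespace Cfsg.Agent.Lib.H13.NSE11

variable {G : Type u} [Group G] [Finite G]

theorem factorization_7920_eleven : (7920 : ℕ).factorization 11 = 1 := by
  have h : (7920 : ℕ) = 11 ^ 1 * 720 := by norm_num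
  rw [h, Nat.factorization_mul (by norm_num) (by norm_num),
    Nat.Prime.factorization_pow (by norm_num)]
  simp [Nat.factorization_eq_zero_of_not_dvd]

/-- Sylow 11-subgroups of a group of order 7920 have order 11. -/
theorem card_sylow11_sub (hG : Nat.card G = 7920) (P : Sylow 11 G) :
    Nat.card (P : Subgroup G) = 11 := by
  have : Fact (Nat.Prime 11) := ⟨by norm_num⟩
  rw [Sylow.card_eq_multiplicity, hG, factorization_7920_eleven]
  norm_num

theorem divisors_720_mod_11 : ∀ d ∈ Nat.divisors 720, d % 11 = 1 →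
    d = 1 ∨ d = 12 ∨ d = 45 ∨ d = 144 := by decide +kernel

/-- **(G1)** -/
theorem card_sylow11_of_good (hG : Nat.card G = 7920)
    (hgood : ∀ n, 0 < Nat.card {g : G // orderOf g = n} →
      Good (Nat.card {g : G // orderOf g = n})) :
    Nat.card (Sylow 11 G) = 144 := by
  have : Fact (Nat.Prime 11) := ⟨by norm_num⟩
  obtain ⟨P⟩ : Nonempty (Sylow 11 G) := inferInstance
  have hP := card_sylow11_sub hG P
  -- `n₁₁ ∣ 720`
  have hdvd : Nat.card (Sylow 11 G) ∣ 720 := by
    have h1 : Nat.card (Sylow 11 G) ∣ (P : Subgroup G).index := Sylow.card_dvd_index P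
    have h2 := (P : Subgroup G).card_mul_index
    rw [hP, hG] at h2
    have h3 : (P : Subgroup G).index = 720 := by omega
    rwa [h3] at h1
  have hmod : Nat.card (Sylow 11 G) % 11 = 1 := card_sylow_modEq_one 11 G
  have hcases := divisors_720_mod_11 (Nat.card (Sylow 11 G))
    (Nat.mem_divisors.2 ⟨hdvd, by norm_num⟩) hmod
  -- the count of elements of order 11
  have hcnt := Cfsg.Agent.Lib.H5.card_orderOf_eq_prime (G := G) (p := 11)
    (fun Q => card_sylow11_sub hG Q)
  have hpos : 0 < Nat.card {g : G // orderOf g = 11} := by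
    rw [hcnt]
    have : 0 < Nat.card (Sylow 11 G) := Nat.card_pos
    omega
  have hg := hgood 11 hpos
  rw [hcnt] at hg
  unfold Good at hg
  rcases hcases with h | h | h | h
  · rw [h] at hg; omega
  · rw [h] at hg; omega
  · rw [h] at hg; omega
  · exact h

/-- the normalizer of a Sylow 11-subgroup has order 55 -/
theorem card_normalizer_sylow11 (hG : Nat.card G = 7920) (h144 : Nat.card (Sylow 11 G) = 144)
    (P : Sylow 11 G) : Nat.card (Subgroup.normalizer ((P : Subgroup G) : Set G)) = 55 := by
  have : Fact (Nat.Prime 11) := ⟨by norm_num⟩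
  have h1 : Nat.card (Sylow 11 G) = (Subgroup.normalizer ((P : Subgroup G) : Set G)).index :=
    Sylow.card_eq_index_normalizer P
  have h2 := (Subgroup.normalizer ((P : Subgroup G) : Set G)).card_mul_index
  rw [← h1, h144, hG] at h2
  omega

/-- an element of order 11 generates a Sylow 11-subgroup -/
theorem exists_sylow11_eq_zpowers (hG : Nat.card G = 7920) (t : G) (ht : orderOf t = 11) :
    ∃ P : Sylow 11 G, (P : Subgroup G) = Subgroup.zpowers t := by
  have : Fact (Nat.Prime 11) := ⟨by norm_num⟩
  obtain ⟨Q, hQ⟩ := Cfsg.Agent.Lib.H5.exists_sylow_mem_of_orderOf_eq (p := 11) t ht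
  exact ⟨Q, (Cfsg.Agent.Lib.H5.zpowers_eq_sylow_of_mem Q (card_sylow11_sub hG Q) t ht hQ).symm⟩

/-- an element whose `q`-th power has order 11 lies in a subgroup of order 55 -/
theorem orderOf_dvd_55 (hG : Nat.card G = 7920) (h144 : Nat.card (Sylow 11 G) = 144) (g : G)
    (q : ℕ) (ht : orderOf (g ^ q) = 11) : orderOf g ∣ 55 := by
  obtain ⟨P, hP⟩ := exists_sylow11_eq_zpowers hG (g ^ q) ht
  have hN := card_normalizer_sylow11 hG h144 P
  have hmem : g ∈ Subgroup.normalizer ((P : Subgroup G) : Set G) := by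
    rw [hP, Subgroup.mem_normalizer_iff]
    intro x
    have hcomm : ∀ y ∈ Subgroup.zpowers (g ^ q), g * y * g⁻¹ = y := by
      intro y hy
      obtain ⟨k, rfl⟩ := Subgroup.mem_zpowers_iff.1 hy
      have : Commute g ((g ^ q) ^ k) := ((Commute.refl g).pow_right q).zpow_right k
      rw [this.eq, mul_inv_cancel_right]
    constructor
    · intro hx
      rw [hcomm x hx]
      exact hx
    · intro hx
      have h1 := hcomm _ hx
      have h2 : x = g⁻¹ * (g * x * g⁻¹) * g := by group
      rw [h2]
      have hcomm' : ∀ y ∈ Subgroup.zpowers (g ^ q), g⁻¹ * y * g = y := by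
        intro y hy
        have := hcomm y hy
        calc g⁻¹ * y * g = g⁻¹ * (g * y * g⁻¹) * g := by rw [this]
          _ = y := by group
      rw [hcomm' _ hx]
      exact hx
  have := Subgroup.orderOf_dvd_natCard _ hmem
  rwa [hN] at this

/-- **(G2)** -/
theorem no_order_11q (hG : Nat.card G = 7920) (h144 : Nat.card (Sylow 11 G) = 144) (q : ℕ)
    (hq : q = 2 ∨ q = 3) : ¬ ∃ g : G, orderOf g = 11 * q := by
  rintro ⟨g, hg⟩
  have hq0 : 0 < q := by rcases hq with rfl | rfl <;> norm_num
  have ht : orderOf (g ^ q) = 11 := by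
    rw [orderOf_pow' g hq0.ne', hg, Nat.gcd_eq_right (Dvd.intro_left 11 rfl)]
    exact Nat.mul_div_cancel 11 hq0
  have := orderOf_dvd_55 hG h144 g q ht
  rw [hg] at this
  rcases hq with rfl | rfl
  · omega
  · omega

end Cfsg.Agent.Lib.H13.NSE11
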