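/-
S3592, M side (helper13): the shape (N1) of the order-counts of a group of order 7920 whose elements of
order 2, 3, 5 have centralizers of order 48, 18, 5 and which has 144 Sylow 11-subgroups.
Core: the earlier pieces (centralizer orders, CLASSDIV) enter as explicit hypotheses.
-/
import Mathlib
import Cfsg.Agent.Lib.H13.NSE11Defs
import Cfsg.Agent.Lib.H13.NSE11G

set_option autoImplicit false

universe u

namespace Cfsg.Agent.Lib.H13.NSE11

variable {M : Type u} [Group M] [Finite M]

theorem divisors_7920_coprime_30 : ∀ d ∈ Nat.divisors 7920, ¬ 2 ∣ d → ¬ 3 ∣ d → ¬ 5 ∣ d →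
    d = 1 ∨ d = 11 := by decide +kernel

omit [Finite M] in
/-- `C(g) ≤ C(g ^ k)` -/
theorem centralizer_le_centralizer_pow (g : M) (k : ℕ) :
    Subgroup.centralizer ({g} : Set M) ≤ Subgroup.centralizer ({g ^ k} : Set M) := by
  intro x hx
  rw [Subgroup.mem_centralizer_iff] at hx ⊢
  intro y hy
  rw [Set.mem_singleton_iff] at hy
  subst hy
  have h1 : g * x = x * g := hx g (Set.mem_singleton g)
  have h2 : Commute g x := h1
  exact (h2.pow_left k).eq

/-- class sizes: if `g ^ (n / r)` has a centralizer of order `C` and `7920 = N * C` then `N` divides the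
class size of `g` -/
theorem dvd_class_of_pow (hcard : Nat.card M = 7920) (g : M) (k C N : ℕ)
    (hC : Nat.card (Subgroup.centralizer ({g ^ k} : Set M)) = C) (hN : 7920 = N * C) :
    N ∣ Nat.card M / Nat.card (Subgroup.centralizer ({g} : Set M)) := by
  have hdvd : Nat.card (Subgroup.centralizer ({g} : Set M)) ∣ C := by
    rw [← hC]
    exact Subgroup.card_dvd_of_le (centralizer_le_centralizer_pow g k)
  obtain ⟨j, hj⟩ := hdvd
  have hpos : 0 < Nat.card (Subgroup.centralizer ({g} : Set M)) := Nat.card_pos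
  rw [hcard, hN, hj]
  refine ⟨j, ?_⟩
  rw [show N * (Nat.card (Subgroup.centralizer ({g} : Set M)) * j) =
    N * j * Nat.card (Subgroup.centralizer ({g} : Set M)) by ring]
  exact Nat.mul_div_cancel _ hpos

/-- **(N1), core**. -/
theorem good_core (hcard : Nat.card M = 7920)
    (h2 : ∀ t : M, orderOf t = 2 → Nat.card (Subgroup.centralizer ({t} : Set M)) = 48)
    (h3 : ∀ t : M, orderOf t = 3 → Nat.card (Subgroup.centralizer ({t} : Set M)) = 18)
    (h5 : ∀ t : M, orderOf t = 5 → Nat.card (Subgroup.centralizer ({t} : Set M)) = 5)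
    (hs11 : Nat.card (Sylow 11 M) = 144)
    (hclassdiv : ∀ n N : ℕ, (∀ g : M, orderOf g = n →
        N ∣ Nat.card M / Nat.card (Subgroup.centralizer ({g} : Set M))) →
      N ∣ Nat.card {g : M // orderOf g = n})
    (n : ℕ) (hpos : 0 < Nat.card {g : M // orderOf g = n}) :
    Good (Nat.card {g : M // orderOf g = n}) := by
  have hne : Nonempty {g : M // orderOf g = n} := (Nat.card_pos_iff.1 hpos).1
  obtain ⟨⟨g₀, hg₀⟩⟩ := hne
  have hn0 : n ≠ 0 := by
    rw [← hg₀]
    exact (orderOf_pos g₀).ne'
  have hndvd : n ∣ 7920 := by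
    rw [← hg₀, ← hcard]
    exact orderOf_dvd_natCard g₀
  have hpow : ∀ r : ℕ, r ∣ n → ∀ g : M, orderOf g = n → orderOf (g ^ (n / r)) = r := by
    intro r hr g hg
    have := orderOf_pow_orderOf_div (x := g) (n := r) (by rw [hg]; exact hn0) (by rw [hg]; exact hr)
    rwa [hg] at this
  by_cases d2 : 2 ∣ n
  · right; left
    apply hclassdiv n 165
    intro g hg
    exact dvd_class_of_pow hcard g (n / 2) 48 165 (h2 _ (hpow 2 d2 g hg)) (by norm_num)
  by_cases d3 : 3 ∣ n
  · right; right; left
    apply hclassdiv n 440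
    intro g hg
    exact dvd_class_of_pow hcard g (n / 3) 18 440 (h3 _ (hpow 3 d3 g hg)) (by norm_num)
  by_cases d5 : 5 ∣ n
  · right; right; right; left
    apply hclassdiv n 1584
    intro g hg
    exact dvd_class_of_pow hcard g (n / 5) 5 1584 (h5 _ (hpow 5 d5 g hg)) (by norm_num)
  rcases divisors_7920_coprime_30 n (Nat.mem_divisors.2 ⟨hndvd, by norm_num⟩) d2 d3 d5 with h | h
  · -- `n = 1`
    left
    subst h
    have : Unique {g : M // orderOf g = 1} :=
      { default := ⟨1, orderOf_one⟩
        uniq := fun x => Subtype.ext (orderOf_eq_one_iff.1 x.2) }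
    exact Nat.card_unique
  · -- `n = 11`
    right; right; right; right
    subst h
    have : Fact (Nat.Prime 11) := ⟨by norm_num⟩
    rw [Cfsg.Agent.Lib.H5.card_orderOf_eq_prime (G := M) (p := 11)
      (fun Q => card_sylow11_sub hcard Q), hs11]

end Cfsg.Agent.Lib.H13.NSE11
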