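/-
S3592 (helper13): (N1) for a simple group of order 7920 in the exact blueprint form, and (G4): a group of
order 7920 all of whose positive order-counts are `Good` is simple (landed S2490 with `A = {11}`).
-/
import Mathlib
import Cfsg.Agent.S2490
import Cfsg.Agent.S0435
import Cfsg.Agent.Lib.H1.M11U.Base
import Cfsg.Agent.Lib.H13.NSE11M
import Cfsg.Agent.Lib.H16.NSECLASSDIV
import Cfsg.Agent.Lib.H19.NSECENTsig
import Cfsg.Agent.Lib.H20.NSE55sig

set_option autoImplicit false

universe u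

namespace Cfsg.Agent.Lib.H13.NSE11

/-- **(N1)**, exact blueprint form -/
theorem good_of_isM11 {M : Type u} [Group M] [Finite M] (hM : Cfsg.IsM11 M) (n : ℕ)
    (hpos : 0 < Nat.card {g : M // orderOf g = n}) :
    Good (Nat.card {g : M // orderOf g = n}) :=
  good_core hM.2 (fun t ht => Cfsg.Agent.S0435.result hM t ht)
    (fun t ht => Cfsg.Agent.Lib.H1.M11U.cent3_of_isM11 hM t ht)
    (fun t ht => Cfsg.Agent.Lib.H19.NSE11.cent5_of_isM11 hM t ht)
    (Cfsg.Agent.Lib.H19.NSE11.card_sylow11_of_isM11 hM)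
    (fun n N h => Cfsg.Agent.Lib.H16.NSE.dvd_card_orderOf_of_dvd_class n N h) n hpos

theorem prime_dvd_7920 (b : ℕ) (hb : b.Prime) (h : b ∣ 7920) :
    b = 2 ∨ b = 3 ∨ b = 5 ∨ b = 11 := by
  have h1 : (7920 : ℕ) = 2 ^ 4 * 3 ^ 2 * 5 * 11 := by norm_num
  rw [h1] at h
  rcases (Nat.Prime.dvd_mul hb).1 h with h | h
  · rcases (Nat.Prime.dvd_mul hb).1 h with h | h
    · rcases (Nat.Prime.dvd_mul hb).1 h with h | h
      · left
        exact (Nat.prime_dvd_prime_iff_eq hb (by norm_num)).1 (hb.dvd_of_dvd_pow h)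
      · right; left
        exact (Nat.prime_dvd_prime_iff_eq hb (by norm_num)).1 (hb.dvd_of_dvd_pow h)
    · right; right; left
      exact (Nat.prime_dvd_prime_iff_eq hb (by norm_num)).1 h
  · right; right; right
    exact (Nat.prime_dvd_prime_iff_eq hb (by norm_num)).1 h

/-- **(G4)**, exact blueprint form -/
theorem isSimpleGroup_of_good {G : Type u} [Group G] [Finite G] (hG : Nat.card G = 7920)
    (hgood : ∀ n, 0 < Nat.card {g : G // orderOf g = n} →
      Good (Nat.card {g : G // orderOf g = n})) :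
    IsSimpleGroup G := by
  have h144 := card_sylow11_of_good hG hgood
  apply Cfsg.Agent.S2490.result hG
  refine ⟨{11}, ⟨11, rfl, by norm_num, by rw [hG]; norm_num⟩,
    ⟨2, by simp, by norm_num, by rw [hG]; norm_num⟩, ?_⟩
  intro a ha b hb _ hbp _ hbdvd
  rw [Set.mem_singleton_iff] at ha hb
  subst ha
  rw [hG] at hbdvd
  rcases prime_dvd_7920 b hbp hbdvd with rfl | rfl | rfl | rfl
  · exact no_order_11q hG h144 2 (Or.inl rfl)
  · exact no_order_11q hG h144 3 (Or.inr rfl)
  · exact Cfsg.Agent.Lib.H20.NSE11.no_order_55 hG h144 hgood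
  · exact absurd rfl hb

end Cfsg.Agent.Lib.H13.NSE11
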