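import Mathlib
import Cfsg.Prelude.Def_Blocks
import Cfsg.Prelude.Def_CharExt
import Cfsg.Agent.Lib.H21.AD.Defs
import Cfsg.Agent.Lib.H28.NT.Defs
import Cfsg.Agent.Lib.H23.DetChar

/-!
# S4892, piece (TOP) (helper13): the glued character is good on `⊤`

Blueprint: `tools/blueprints/S4892.md`; exact signature of `tools/blueprints/S4892_sigs.lean`.
-/

set_option autoImplicit false
open Cfsg.Agent.Lib.H21.AD Cfsg.Agent.Lib.H28.NT

namespace Cfsg.Agent.Lib.H13.NT

variable {G : Type*} [Group G]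

/-- `sSum` only depends on the values on `J` (local copy). -/
theorem sSum_congr_top (p : ℕ) (J : Subgroup G) (f f' : G → ℂ) (h : ∀ g ∈ J, f g = f' g) :
    sSum p J f = sSum p J f' := by
  classical
  unfold sSum
  refine finsum_congr (fun g => ?_)
  by_cases hg : g ∈ J ∧ ¬ p ∣ orderOf g
  · rw [if_pos hg, if_pos hg, h g hg.1]
  · rw [if_neg hg, if_neg hg]

theorem isNilpotent_zpowers (c : G) : Group.IsNilpotent (Subgroup.zpowers c) := by
  let _ : CommGroup (Subgroup.zpowers c) := IsCyclic.commGroup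
  infer_instance

variable [Finite G] {p : ℕ} {M : Ideal Cfsg.AlgInt} {N Q : Subgroup G} {θ : G → ℂ}

set_option linter.unusedVariables false in
/-- (TOP) the glued character is good on `⊤` -/
theorem goodE_top [N.Normal] (h : Hyp p M N Q θ) (χ : G → ℂ) (hχ : Cfsg.IsIrrCharacter G χ)
    (hχN : ∀ n ∈ N, χ n = θ n)
    (hex : ∀ E : Subgroup G, Group.IsNilpotent E → ∃ f : G → ℂ, GoodE p N θ (E ⊔ N) f)
    (hglue : ∀ (H : Subgroup G) (f : G → ℂ), N ≤ H → GoodE p N θ H f → ∀ g ∈ H, χ g = f g) :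
    GoodE p N θ ⊤ χ := by
  have hχc : Cfsg.IsCharacter G χ := Cfsg.Agent.Lib.L0.isCharacter_of_irr hχ
  refine ⟨⟨?_, hχN⟩, ?_, ?_⟩
  · -- irreducible on `⊤`
    have h1 := Cfsg.Agent.Lib.L0.isIrrCharacter_comp_of_surjective
      (Subgroup.topEquiv (G := G)).toMonoidHom (Subgroup.topEquiv (G := G)).surjective hχ
    exact h1
  · -- (ii)
    intro c _ hc
    obtain ⟨f, hf⟩ := hex (Subgroup.zpowers c) (isNilpotent_zpowers c)
    have hcH : c ∈ Subgroup.zpowers c ⊔ N :=
      (le_sup_left : Subgroup.zpowers c ≤ _) (Subgroup.mem_zpowers c)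
    have h2 := hf.2.1 c hcH hc
    have hle : N ⊔ Subgroup.zpowers c ≤ Subgroup.zpowers c ⊔ N := by
      rw [sup_comm]
    have heq := hglue _ f le_sup_right hf
    rw [sSum_congr_top p _ χ f (fun g hg => heq g (hle hg))]
    exact h2
  · -- (iii)
    intro x hx
    obtain ⟨k, hk⟩ := hx
    obtain ⟨f, hf⟩ := hex (Subgroup.zpowers (x : G)) (isNilpotent_zpowers (x : G))
    have hxH : (x : G) ∈ Subgroup.zpowers (x : G) ⊔ N :=
      (le_sup_left : Subgroup.zpowers (x : G) ≤ _) (Subgroup.mem_zpowers (x : G))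
    have hord : orderOf (⟨(x : G), hxH⟩ : ↥(Subgroup.zpowers (x : G) ⊔ N)) = p ^ k := by
      rw [← hk, ← Subgroup.orderOf_coe, ← Subgroup.orderOf_coe x]
    have h3 := hf.2.2 ⟨(x : G), hxH⟩ ⟨k, hord⟩
    have heq := hglue _ f le_sup_right hf
    have hfun : (fun y : ↥(Subgroup.zpowers (x : G) ⊔ N) => f y) =
        (fun y : ↥(Subgroup.zpowers (x : G) ⊔ N) => χ y) := by
      funext y
      exact (heq y y.2).symm
    rw [hfun, Cfsg.Agent.Lib.H23.detChar_restrict _ hχc] at h3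
    rw [Cfsg.Agent.Lib.H23.detChar_restrict _ hχc]
    exact h3

end Cfsg.Agent.Lib.H13.NT
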