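import Mathlib
import Cfsg.Agent.Lib.H13.O7Defs

set_option autoImplicit false
set_option linter.dupNamespace false

/-!
# Membership of signed permutation matrices in `Ω₇` (helper13, S2647)

`mono ε σ ∈ Ω = [O₇, O₇]` iff `∏ ε = 1` and `σ` is even, when `2` is a non-square
(`|F| ≡ ±3 (mod 8)`), via helper11's determinant + spinor-sign criterion.
-/

namespace Cfsg.Agent.Lib.H13.O7

open Matrix Equiv Cfsg Cfsg.Agent.Lib.H11.SpinSign Cfsg.Agent.Lib.H11.CD

variable {F : Type*} [Field F]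

theorem polar_Qn (x y : Fin 7 → F) :
    QuadraticMap.polar (⇑(Qn F)) x y = -(2 * ∑ i, x i * y i) := by
  rw [QuadraticMap.polar, Qn_apply, Qn_apply, Qn_apply]
  have : ∑ i, (x + y) i * (x + y) i =
      ∑ i, x i * x i + ∑ i, y i * y i + 2 * ∑ i, x i * y i := by
    rw [Finset.mul_sum, ← Finset.sum_add_distrib, ← Finset.sum_add_distrib]
    apply Finset.sum_congr rfl
    intro i _
    simp only [Pi.add_apply]
    ring
  rw [this]
  ring

theorem sum_mul_single (x : Fin 7 → F) (i : Fin 7) (c : F) :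
    ∑ j, x j * (Pi.single i c : Fin 7 → F) j = x i * c := by
  rw [Finset.sum_eq_single i]
  · rw [Pi.single_eq_same]
  · intro j _ hj
    rw [Pi.single_eq_of_ne hj, mul_zero]
  · intro h
    exact absurd (Finset.mem_univ _) h

theorem nondeg_Qn (h2 : (2 : F) ≠ 0) : (QuadraticMap.polarBilin (Qn F)).Nondegenerate := by
  have key : ∀ x : Fin 7 → F, (∀ y, QuadraticMap.polar (⇑(Qn F)) x y = 0) → x = 0 := by
    intro x hx
    funext i
    have h := hx (Pi.single i 1)
    rw [polar_Qn, sum_mul_single, mul_one, neg_eq_zero] at h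
    exact (mul_eq_zero.1 h).resolve_left h2
  constructor
  · intro x hx
    exact key x (fun y => hx y)
  · intro y hy
    apply key y
    intro x
    rw [QuadraticMap.polar_comm]
    exact hy x

theorem mem_comm_iff [Fintype F] (h2 : (2 : F) ≠ 0) (g : O7 F) :
    g ∈ commutator (O7 F) ↔ detHom (Qn F) g = 1 ∧ chi (Qn F) (-1) g = 1 :=
  (main (Qn F) (nondeg_Qn h2) h2 (by norm_num) (-1) (by simp)).2 g

theorem index_comm [Fintype F] (h2 : (2 : F) ≠ 0) : (commutator (O7 F)).index = 4 := by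
  rw [Subgroup.index_eq_card]
  exact (main (Qn F) (nondeg_Qn h2) h2 (by norm_num) (-1) (by simp)).1

/-! ### The determinant -/

theorem smat_eq_diag_mul (ε : Fin 7 → ℤˣ) (σ : Perm (Fin 7)) :
    smat (F := F) ε σ =
      Matrix.diagonal (fun i => sg (ε i)) * (σ⁻¹.toPEquiv.toMatrix : Matrix (Fin 7) (Fin 7) F) := by
  ext i j
  rw [Matrix.diagonal_mul, smat_apply, PEquiv.toMatrix_apply]
  simp only [Equiv.toPEquiv_apply, Option.mem_def, Option.some.injEq]
  by_cases h : i = σ j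
  · rw [if_pos h, if_pos, mul_one]
    rw [h]
    simp
  · rw [if_neg h, if_neg, mul_zero]
    intro h'
    apply h
    rw [← h']
    simp

theorem sg_prod (ε : Fin 7 → ℤˣ) : sg (F := F) (∏ i, ε i) = ∏ i, sg (ε i) := by
  unfold sg
  push_cast
  rfl

theorem det_smat (ε : Fin 7 → ℤˣ) (σ : Perm (Fin 7)) :
    (smat (F := F) ε σ).det = sg (∏ i, ε i) * sg (Perm.sign σ) := by
  rw [smat_eq_diag_mul, Matrix.det_mul, Matrix.det_diagonal, Matrix.det_permutation, sg_prod,
    Perm.sign_inv]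
  rfl

theorem detHom_mono (ε : Fin 7 → ℤˣ) (σ : Perm (Fin 7)) :
    ((detHom (Qn F) (mono ε σ) : Fˣ) : F) = sg (∏ i, ε i) * sg (Perm.sign σ) := by
  rw [detHom_val, mono_val, det_smat]

/-! ### The spinor sign -/

theorem act_mono (ε : Fin 7 → ℤˣ) (σ : Perm (Fin 7)) (x : Fin 7 → F) :
    act (Qn F) (mono ε σ) x = fun i => sg (ε i) * x (σ⁻¹ i) := by
  rw [act, mono_val, smat_mulVec]

theorem Qn_single (i : Fin 7) : Qn F (Pi.single i 1) = -1 := by
  rw [Qn_apply, sum_mul_single, mul_one, Pi.single_eq_same]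

theorem Qn_single_ne (i : Fin 7) : Qn F (Pi.single i 1) ≠ 0 := by
  rw [Qn_single]
  simp

theorem dg_single_eq_refl (i : Fin 7) :
    dg (F := F) (Pi.mulSingle i (-1)) = reflEl (Qn F) (Pi.single i 1) (Qn_single_ne i) := by
  apply ext_act
  intro x
  rw [dg_apply, act_mono, reflEl_act, Qn_single, polar_Qn]
  funext j
  have hs : ∑ k, (Pi.single i (1 : F) : Fin 7 → F) k * x k = x i := by
    simp_rw [mul_comm _ (x _)]
    rw [sum_mul_single, mul_one]
  rw [hs]
  simp only [inv_one, Perm.coe_one, id_eq, Pi.sub_apply, Pi.smul_apply, smul_eq_mul]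
  by_cases hj : j = i
  · subst hj
    rw [Pi.mulSingle_eq_same, sg_neg_one, Pi.single_eq_same]
    field_simp
    ring
  · rw [Pi.mulSingle_eq_of_ne hj, sg_one, Pi.single_eq_of_ne hj]
    ring

theorem chi_dg_single [Fintype F] (h2 : (2 : F) ≠ 0) (i : Fin 7) (u : ℤˣ) :
    chi (Qn F) (-1) (dg (Pi.mulSingle i u)) = u := by
  rcases Int.units_eq_one_or u with rfl | rfl
  · rw [Pi.mulSingle_one, map_one, map_one]
  · rw [dg_single_eq_refl, chi_reflEl (Qn F) h2 _ _ (-1) (by simp), if_pos]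
    exact ⟨1, by rw [Qn_single]; ring⟩

theorem chi_dg [Fintype F] (h2 : (2 : F) ≠ 0) (ε : Fin 7 → ℤˣ) :
    chi (Qn F) (-1) (dg ε) = ∏ i, ε i := by
  have h := map_prod ((chi (Qn F) (-1)).comp (dg (F := F))) (fun i => Pi.mulSingle i (ε i))
    Finset.univ
  rw [Finset.univ_prod_mulSingle ε] at h
  rw [← MonoidHom.comp_apply, h]
  apply Finset.prod_congr rfl
  intro i _
  exact chi_dg_single h2 i (ε i)

theorem Qn_sub_single {x y : Fin 7} (hxy : x ≠ y) :
    Qn F (Pi.single x 1 - Pi.single y 1) = -2 := by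
  rw [Qn_apply]
  have : ∀ i, (Pi.single x (1 : F) - Pi.single y 1 : Fin 7 → F) i *
      (Pi.single x (1 : F) - Pi.single y 1 : Fin 7 → F) i =
      (Pi.single x (1 : F) : Fin 7 → F) i + (Pi.single y (1 : F) : Fin 7 → F) i := by
    intro i
    simp only [Pi.sub_apply]
    by_cases h1 : i = x
    · subst h1
      rw [Pi.single_eq_same, Pi.single_eq_of_ne hxy]
      ring
    · by_cases h2 : i = y
      · subst h2
        rw [Pi.single_eq_same, Pi.single_eq_of_ne h1]
        ring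
      · rw [Pi.single_eq_of_ne h1, Pi.single_eq_of_ne h2]
        ring
  simp_rw [this]
  rw [Finset.sum_add_distrib, Finset.sum_pi_single', Finset.sum_pi_single']
  simp
  norm_num

theorem Qn_sub_single_ne (h2 : (2 : F) ≠ 0) {x y : Fin 7} (hxy : x ≠ y) :
    Qn F (Pi.single x 1 - Pi.single y 1) ≠ 0 := by
  rw [Qn_sub_single hxy]
  simpa using h2

theorem pm_swap_eq_refl (h2 : (2 : F) ≠ 0) {x y : Fin 7} (hxy : x ≠ y) :
    pm (F := F) (swap x y) =
      reflEl (Qn F) (Pi.single x 1 - Pi.single y 1) (Qn_sub_single_ne h2 hxy) := by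
  apply ext_act
  intro v
  rw [pm_apply, act_mono, reflEl_act, Qn_sub_single hxy, polar_Qn]
  have hs : ∑ k, (Pi.single x (1 : F) - Pi.single y 1 : Fin 7 → F) k * v k = v x - v y := by
    simp only [Pi.sub_apply, sub_mul]
    rw [Finset.sum_sub_distrib]
    simp_rw [mul_comm _ (v _)]
    rw [sum_mul_single, sum_mul_single, mul_one, mul_one]
  rw [hs]
  funext j
  simp only [Pi.one_apply, sg_one, one_mul, swap_inv, Pi.sub_apply, Pi.smul_apply, smul_eq_mul]
  by_cases h1 : j = x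
  · subst h1
    rw [swap_apply_left, Pi.single_eq_same, Pi.single_eq_of_ne hxy]
    field_simp
    ring
  · by_cases h3 : j = y
    · subst h3
      rw [swap_apply_right, Pi.single_eq_same, Pi.single_eq_of_ne h1]
      field_simp
      ring
    · rw [swap_apply_of_ne_of_ne h1 h3, Pi.single_eq_of_ne h1, Pi.single_eq_of_ne h3]
      ring

theorem chi_pm_swap [Fintype F] (h2 : (2 : F) ≠ 0) (hsq : ¬ IsSquare (2 : F)) {x y : Fin 7}
    (hxy : x ≠ y) : chi (Qn F) (-1) (pm (swap x y)) = 1 := by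
  rw [pm_swap_eq_refl h2 hxy, chi_reflEl (Qn F) h2 _ _ (-1) (by simp), if_neg]
  rintro ⟨s, hs⟩
  rw [Qn_sub_single hxy] at hs
  apply hsq
  have hs0 : s ≠ 0 := by
    rintro rfl
    simp at hs
  refine ⟨s⁻¹, ?_⟩
  field_simp
  linear_combination -hs

theorem chi_pm [Fintype F] (h2 : (2 : F) ≠ 0) (hsq : ¬ IsSquare (2 : F)) (σ : Perm (Fin 7)) :
    chi (Qn F) (-1) (pm σ) = 1 := by
  induction σ using Equiv.Perm.swap_induction_on with
  | one => rw [map_one, map_one]
  | swap_mul f x y hxy ih => rw [map_mul, map_mul, chi_pm_swap h2 hsq hxy, ih, one_mul]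

theorem two_ne_zero_of_mod [Fintype F] (hq : Fintype.card F % 8 = 3 ∨ Fintype.card F % 8 = 5) :
    (2 : F) ≠ 0 := by
  intro h
  have hchar : ringChar F = 2 := by
    have hdvd : ringChar F ∣ 2 := by
      apply (ringChar.spec F 2).1
      exact_mod_cast h
    rcases (Nat.dvd_prime Nat.prime_two).1 hdvd with h1 | h1
    · exfalso
      have := CharP.ringChar_ne_one (R := F)
      exact this h1
    · exact h1
  have heven := FiniteField.even_card_of_char_two hchar
  omega

theorem not_isSquare_two [Fintype F] (hq : Fintype.card F % 8 = 3 ∨ Fintype.card F % 8 = 5) :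
    ¬ IsSquare (2 : F) := by
  rw [FiniteField.isSquare_two_iff]
  omega

theorem chi_mono [Fintype F] (hq : Fintype.card F % 8 = 3 ∨ Fintype.card F % 8 = 5)
    (ε : Fin 7 → ℤˣ) (σ : Perm (Fin 7)) : chi (Qn F) (-1) (mono ε σ) = ∏ i, ε i := by
  rw [mono_eq, map_mul, chi_dg (two_ne_zero_of_mod hq), chi_pm (two_ne_zero_of_mod hq)
    (not_isSquare_two hq), mul_one]

theorem mono_mem_comm_iff [Fintype F] (hq : Fintype.card F % 8 = 3 ∨ Fintype.card F % 8 = 5)
    (ε : Fin 7 → ℤˣ) (σ : Perm (Fin 7)) :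
    mono ε σ ∈ commutator (O7 F) ↔ (∏ i, ε i = 1 ∧ Perm.sign σ = 1) := by
  have h2 := two_ne_zero_of_mod hq
  rw [mem_comm_iff h2, chi_mono hq]
  constructor
  · rintro ⟨h1, h3⟩
    refine ⟨h3, ?_⟩
    have h4 := detHom_mono (F := F) ε σ
    rw [h1, h3, sg_one, one_mul, Units.val_one] at h4
    apply sg_injective h2
    rw [← h4, sg_one]
  · rintro ⟨h1, h3⟩
    refine ⟨?_, h1⟩
    apply Units.ext
    rw [detHom_mono, h1, h3, sg_one, one_mul, Units.val_one]

end Cfsg.Agent.Lib.H13.O7
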