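import Mathlib
import Cfsg.Agent.Lib.H13.O7Mem
import Cfsg.Agent.Lib.H11.InvCls1

set_option autoImplicit false
set_option linter.dupNamespace false

/-!
# An explicit fusion in `Ω₇(q)` (helper13, S2647)

`diag(-1,-1,1,1,1,1,1)` is conjugate in `Ω₇(q)` (`q ≡ ±3 (mod 8)`) to the permutation matrix of
`(0 1)(2 3)`.
-/

namespace Cfsg.Agent.Lib.H13.O7

open Matrix Equiv Cfsg Cfsg.Agent.Lib.H11.SpinSign Cfsg.Agent.Lib.H11.CD

variable {F : Type*} [Field F]

/-- the fusing matrix -/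
def fmat (a b : F) : Matrix (Fin 7) (Fin 7) F :=
  Matrix.of ![![a, -b, a, -b, 0, 0, 0],
              ![-a, b, a, -b, 0, 0, 0],
              ![b, a, b, a, 0, 0, 0],
              ![-b, -a, b, a, 0, 0, 0],
              ![0, 0, 0, 0, 1, 0, 0],
              ![0, 0, 0, 0, 0, 1, 0],
              ![0, 0, 0, 0, 0, 0, 1]]

theorem fmat_mulVec (a b : F) (x : Fin 7 → F) :
    fmat a b *ᵥ x = ![a * x 0 - b * x 1 + a * x 2 - b * x 3,
                      -a * x 0 + b * x 1 + a * x 2 - b * x 3,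
                      b * x 0 + a * x 1 + b * x 2 + a * x 3,
                      -b * x 0 - a * x 1 + b * x 2 + a * x 3,
                      x 4, x 5, x 6] := by
  funext i
  fin_cases i <;> simp [fmat, Matrix.mulVec, dotProduct, Fin.sum_univ_succ] <;> ring

theorem fmat_transpose_mulVec (a b : F) (x : Fin 7 → F) :
    (fmat a b)ᵀ *ᵥ x = ![a * x 0 - a * x 1 + b * x 2 - b * x 3,
                      -b * x 0 + b * x 1 + a * x 2 - a * x 3,
                      a * x 0 + a * x 1 + b * x 2 + b * x 3,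
                      -b * x 0 - b * x 1 + a * x 2 + a * x 3,
                      x 4, x 5, x 6] := by
  funext i
  fin_cases i <;> simp [fmat, Matrix.mulVec, dotProduct, Fin.sum_univ_succ] <;> ring

theorem fmat_transpose_mul (a b : F) (h : 2 * (a ^ 2 + b ^ 2) = 1) :
    (fmat a b)ᵀ * fmat a b = 1 := by
  rw [Matrix.ext_iff_mulVec]
  intro x
  rw [← Matrix.mulVec_mulVec, fmat_mulVec, fmat_transpose_mulVec, Matrix.one_mulVec]
  funext i
  fin_cases i <;> simp
  · linear_combination (x 0) * h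
  · linear_combination (x 1) * h
  · linear_combination (x 2) * h
  · linear_combination (x 3) * h

/-- the fusing matrix as an invertible matrix -/
def fGL (a b : F) (h : 2 * (a ^ 2 + b ^ 2) = 1) : GL (Fin 7) F where
  val := fmat a b
  inv := (fmat a b)ᵀ
  val_inv := mul_eq_one_comm.1 (fmat_transpose_mul a b h)
  inv_val := fmat_transpose_mul a b h

theorem fGL_mem (a b : F) (h : 2 * (a ^ 2 + b ^ 2) = 1) :
    fGL a b h ∈ Cfsg.isometryGroup F ⇑(Qn F) := by
  rw [Cfsg.Agent.Lib.H11.IsoReindex.mem_iso_iff']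
  intro x
  show Qn F (fmat a b *ᵥ x) = Qn F x
  rw [Qn_apply, Qn_apply]
  congr 1
  have h1 : ∑ i, (fmat a b *ᵥ x) i * (fmat a b *ᵥ x) i = (fmat a b *ᵥ x) ⬝ᵥ (fmat a b *ᵥ x) := rfl
  have h2 : ∑ i, x i * x i = x ⬝ᵥ x := rfl
  rw [h1, h2, Matrix.dotProduct_mulVec, Matrix.vecMul_mulVec, fmat_transpose_mul a b h,
    Matrix.vecMul_one]

/-- the fusing element of the orthogonal group -/
def fO (a b : F) (h : 2 * (a ^ 2 + b ^ 2) = 1) : O7 F := ⟨fGL a b h, fGL_mem a b h⟩

theorem fO_val (a b : F) (h : 2 * (a ^ 2 + b ^ 2) = 1) :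
    (((fO a b h : O7 F) : GL (Fin 7) F) : Matrix (Fin 7) (Fin 7) F) = fmat a b := rfl

theorem fO_conj (a b : F) (h : 2 * (a ^ 2 + b ^ 2) = 1) :
    fO a b h * dg (tv 0 1) = pm psr * fO a b h := by
  apply O7_ext
  rw [Subgroup.coe_mul, Units.val_mul, Subgroup.coe_mul, Units.val_mul, fO_val, dg_apply, pm_apply,
    mono_val, mono_val, Matrix.ext_iff_mulVec]
  intro x
  rw [← Matrix.mulVec_mulVec, ← Matrix.mulVec_mulVec, smat_mulVec, smat_mulVec, fmat_mulVec,
    fmat_mulVec]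
  have hpsr : psr⁻¹ = psr := inv_eq_of_mul_eq_one_right mul_psr_psr
  rw [hpsr]
  funext i
  fin_cases i <;>
    simp [tv, psr, tab, sg_one, sg_neg_one] <;> ring

theorem detHom_fO (a b : F) (h : 2 * (a ^ 2 + b ^ 2) = 1) :
    detHom (Qn F) (fO a b h) = 1 ∨ detHom (Qn F) (fO a b h) = -1 := by
  have h1 := congrArg Matrix.det (fmat_transpose_mul a b h)
  rw [Matrix.det_mul, Matrix.det_transpose, Matrix.det_one] at h1
  rcases mul_self_eq_one_iff.1 h1 with h3 | h3
  · left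
    apply Units.ext
    rw [detHom_val, fO_val, h3]
    rfl
  · right
    apply Units.ext
    rw [detHom_val, fO_val, h3]
    rfl

theorem prod_mulSingle_neg (i : Fin 7) : ∏ j, (Pi.mulSingle i (-1 : ℤˣ) : Fin 7 → ℤˣ) j = -1 := by
  rw [Finset.prod_eq_single i]
  · rw [Pi.mulSingle_eq_same]
  · intro j _ hj
    rw [Pi.mulSingle_eq_of_ne hj]
  · intro h
    exact absurd (Finset.mem_univ _) h

theorem detHom_c2 : detHom (Qn F) (dg (Pi.mulSingle (4 : Fin 7) (-1))) = -1 := by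
  apply Units.ext
  rw [dg_apply, detHom_mono, prod_mulSingle_neg, Perm.sign_one, sg_one, sg_neg_one, mul_one]
  rfl

theorem detHom_c3 : detHom (Qn F) (pm (swap (4 : Fin 7) 5)) = -1 := by
  apply Units.ext
  rw [pm_apply, detHom_mono, Perm.sign_swap (by decide)]
  simp [sg_one, sg_neg_one]

theorem chi_c2 [Fintype F] (h2 : (2 : F) ≠ 0) :
    chi (Qn F) (-1) (dg (Pi.mulSingle (4 : Fin 7) (-1))) = -1 :=
  chi_dg_single h2 4 (-1)

theorem commute_c2 : Commute (dg (F := F) (Pi.mulSingle (4 : Fin 7) (-1))) (dg (tv 0 1)) := by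
  show _ * _ = _ * _
  rw [← map_mul, ← map_mul, mul_comm]

theorem commute_c3 : Commute (pm (F := F) (swap (4 : Fin 7) 5)) (dg (tv 0 1)) := by
  have h := pm_conj_dg (F := F) (swap (4 : Fin 7) 5) (tv 0 1)
  have h1 : tv 0 1 ∘ ⇑(swap (4 : Fin 7) 5)⁻¹ = tv 0 1 := by
    funext i
    fin_cases i <;> simp [tv, swap_apply_def]
  rw [h1] at h
  have h3 := congrArg (· * pm (F := F) (swap (4 : Fin 7) 5)) h
  show _ * _ = _ * _
  simpa using h3

theorem exists_fuse [Fintype F] (hq : Fintype.card F % 8 = 3 ∨ Fintype.card F % 8 = 5) :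
    ∃ k ∈ commutator (O7 F), k * dg (tv 0 1) * k⁻¹ = pm psr := by
  have h2 := two_ne_zero_of_mod hq
  obtain ⟨a, b, hab⟩ := Cfsg.Agent.Lib.H11.InvCls.exists_norm (-1 : F) (2⁻¹) (by simp)
  have h : 2 * (a ^ 2 + b ^ 2) = 1 := by
    have : a ^ 2 + b ^ 2 = 2⁻¹ := by linear_combination hab
    rw [this]
    field_simp
  have key : ∀ c : O7 F, Commute c (dg (tv 0 1)) → fO a b h * c ∈ commutator (O7 F) →
      ∃ k ∈ commutator (O7 F), k * dg (tv 0 1) * k⁻¹ = pm psr := by
    intro c hc hmem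
    refine ⟨fO a b h * c, hmem, ?_⟩
    have h1 : fO a b h * c * dg (tv 0 1) = pm psr * (fO a b h * c) := by
      rw [mul_assoc, hc.eq, ← mul_assoc, fO_conj, mul_assoc]
    rw [h1]
    group
  have hχ3 : chi (Qn F) (-1) (pm (swap (4 : Fin 7) 5)) = 1 :=
    chi_pm_swap h2 (not_isSquare_two hq) (by decide)
  rcases detHom_fO a b h with hd | hd <;>
    rcases Int.units_eq_one_or (chi (Qn F) (-1) (fO a b h)) with hc | hc
  · apply key 1 (Commute.one_left _)
    rw [mul_one, mem_comm_iff h2]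
    exact ⟨hd, hc⟩
  · apply key (dg (Pi.mulSingle (4 : Fin 7) (-1)) * pm (swap (4 : Fin 7) 5))
      (commute_c2.mul_left commute_c3)
    rw [mem_comm_iff h2, map_mul, map_mul, map_mul, map_mul, hd, hc, detHom_c2, detHom_c3,
      chi_c2 h2, hχ3]
    exact ⟨by simp, by decide⟩
  · apply key (pm (swap (4 : Fin 7) 5)) commute_c3
    rw [mem_comm_iff h2, map_mul, map_mul, hd, hc, detHom_c3, hχ3]
    exact ⟨by simp, by decide⟩
  · apply key (dg (Pi.mulSingle (4 : Fin 7) (-1))) commute_c2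
    rw [mem_comm_iff h2, map_mul, map_mul, hd, hc, detHom_c2, chi_c2 h2]
    exact ⟨by simp, by decide⟩

end Cfsg.Agent.Lib.H13.O7
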