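import Mathlib
import Cfsg.Agent.Lib.H13.O7Defs

set_option autoImplicit false
set_option linter.dupNamespace false

/-!
# Elements normalizing the even sign changes are monomial (helper11 for helper13, S2647, piece MN)
-/

namespace Cfsg.Agent.Lib.H13.O7

open Matrix Equiv Cfsg

variable {F : Type*} [Field F]

/-- the matrix of an element of `O7 F` -/
def mnMat (g : O7 F) : Matrix (Fin 7) (Fin 7) F := ((g : GL (Fin 7) F) : Matrix (Fin 7) (Fin 7) F)

theorem mnMat_mul (g h : O7 F) : mnMat (g * h) = mnMat g * mnMat h := rfl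

theorem mnMat_Q (g : O7 F) (x : Fin 7 → F) : Qn F (mnMat g *ᵥ x) = Qn F x :=
  (Cfsg.Agent.Lib.H11.IsoReindex.mem_iso_iff' _ _).1 g.2 x

theorem mnMat_inj (g : O7 F) (x : Fin 7 → F) (h : mnMat g *ᵥ x = 0) : x = 0 := by
  have h1 : mnMat g⁻¹ * mnMat g = 1 := by
    rw [← mnMat_mul, inv_mul_cancel]
    rfl
  have h3 : (mnMat g⁻¹ * mnMat g) *ᵥ x = 0 := by
    rw [← Matrix.mulVec_mulVec, h, Matrix.mulVec_zero]
  rw [h1, Matrix.one_mulVec] at h3
  exact h3

theorem mnMat_mulVec_single (g : O7 F) (j : Fin 7) (i : Fin 7) :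
    (mnMat g *ᵥ Pi.single j 1) i = mnMat g i j := by
  simp [Matrix.mulVec, dotProduct, Pi.single_apply]

theorem mn_prod_tv (a b : Fin 7) : ∏ i, tv a b i = 1 := by
  unfold tv
  simp only [Pi.mul_apply]
  rw [Finset.prod_mul_distrib]
  have h : ∀ c : Fin 7, ∏ i, (Pi.mulSingle c (-1 : ℤˣ) : Fin 7 → ℤˣ) i = -1 := by
    intro c
    rw [Finset.prod_eq_single c]
    · rw [Pi.mulSingle_eq_same]
    · intro j _ hj
      rw [Pi.mulSingle_eq_of_ne hj]
    · intro h
      exact absurd (Finset.mem_univ _) h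
  rw [h, h]
  rfl

theorem mn_rel (g : O7 F) (η ε : Fin 7 → ℤˣ) (h : g⁻¹ * dg η * g = dg ε) (i j : Fin 7) :
    sg (η i) * mnMat g i j = mnMat g i j * sg (ε j) := by
  have h1 : dg η * g = g * dg ε := by
    rw [← h]
    group
  have h3 := congrArg mnMat h1
  rw [mnMat_mul, mnMat_mul] at h3
  have h4 := congrFun (congrFun h3 i) j
  have e1 : mnMat (dg (F := F) η) = smat η 1 := rfl
  have e2 : mnMat (dg (F := F) ε) = smat ε 1 := rfl
  rw [e1, e2, Matrix.mul_apply, Matrix.mul_apply, Finset.sum_eq_single i, Finset.sum_eq_single j] at h4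
  · rw [smat_apply, smat_apply, if_pos (by simp), if_pos (by simp)] at h4
    exact h4
  · intro k _ hk
    rw [smat_apply, if_neg (by simpa using hk), mul_zero]
  · intro h
    exact absurd (Finset.mem_univ _) h
  · intro k _ hk
    rw [smat_apply, if_neg (by simpa using hk.symm), zero_mul]
  · intro h
    exact absurd (Finset.mem_univ _) h

theorem mn_col_unique (h2 : (2 : F) ≠ 0) (g : O7 F)
    (hg : ∀ η : Fin 7 → ℤˣ, ∏ i, η i = 1 → ∃ ε : Fin 7 → ℤˣ, g⁻¹ * dg η * g = dg ε)
    (a b j : Fin 7) (hab : a ≠ b) (ha : mnMat g a j ≠ 0) : mnMat g b j = 0 := by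
  by_contra hb
  have key : ∀ a b : Fin 7, ∃ c : Fin 7, c ≠ a ∧ c ≠ b := by decide
  obtain ⟨c, hca, hcb⟩ := key a b
  obtain ⟨ε, hε⟩ := hg (tv a c) (mn_prod_tv a c)
  have ra := mn_rel g _ _ hε a j
  have rb := mn_rel g _ _ hε b j
  have ta : tv a c a = -1 := by
    unfold tv
    rw [Pi.mul_apply, Pi.mulSingle_eq_same, Pi.mulSingle_eq_of_ne hca.symm]
    rfl
  have tb : tv a c b = 1 := by
    unfold tv
    rw [Pi.mul_apply, Pi.mulSingle_eq_of_ne hab.symm, Pi.mulSingle_eq_of_ne hcb.symm]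
    rfl
  rw [ta, sg_neg_one] at ra
  rw [tb, sg_one] at rb
  have e1 : sg (F := F) (ε j) = -1 := by
    have : mnMat g a j * (sg (ε j) + 1) = 0 := by linear_combination -ra
    rcases mul_eq_zero.1 this with h | h
    · exact absurd h ha
    · linear_combination h
  have e2 : sg (F := F) (ε j) = 1 := by
    have : mnMat g b j * (sg (ε j) - 1) = 0 := by linear_combination -rb
    rcases mul_eq_zero.1 this with h | h
    · exact absurd h hb
    · linear_combination h
  apply h2
  linear_combination e1 - e2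

theorem mn_col_exists (g : O7 F) (j : Fin 7) : ∃ i, mnMat g i j ≠ 0 := by
  by_contra h
  simp only [not_exists, not_not] at h
  have h1 : mnMat g *ᵥ Pi.single j 1 = 0 := by
    funext i
    rw [mnMat_mulVec_single, h i]
    rfl
  have h3 := congrFun (mnMat_inj g _ h1) j
  rw [Pi.single_eq_same] at h3
  exact one_ne_zero h3

theorem mn_sq (g : O7 F) (j i : Fin 7) (hi : ∀ r, r ≠ i → mnMat g r j = 0) :
    mnMat g i j * mnMat g i j = 1 := by
  have h := mnMat_Q g (Pi.single j 1)
  rw [Qn_apply, Qn_apply, neg_inj] at h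
  rw [Finset.sum_eq_single i, Finset.sum_eq_single j] at h
  · rw [mnMat_mulVec_single, Pi.single_eq_same, mul_one] at h
    exact h
  · intro r _ hr
    rw [Pi.single_eq_of_ne hr, mul_zero]
  · intro h
    exact absurd (Finset.mem_univ _) h
  · intro r _ hr
    rw [mnMat_mulVec_single, hi r hr, mul_zero]
  · intro h
    exact absurd (Finset.mem_univ _) h

theorem exists_mono_of_normalizes (h2 : (2 : F) ≠ 0) (g : O7 F) (hg : ∀ η : Fin 7 → ℤˣ, ∏ i, η i = 1 → ∃ ε : Fin 7 → ℤˣ, g⁻¹ * dg η * g = dg ε) : ∃ (ε : Fin 7 → ℤˣ) (σ : Perm (Fin 7)), g = mono ε σ := by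
  classical
  choose σf hσf using mn_col_exists g
  have huniq : ∀ j r, r ≠ σf j → mnMat g r j = 0 := by
    intro j r hr
    exact mn_col_unique h2 g hg (σf j) r j (Ne.symm hr) (hσf j)
  have hinj : Function.Injective σf := by
    intro j k hjk
    by_contra hne
    have h1 : mnMat g *ᵥ (mnMat g (σf j) k • Pi.single j 1 - mnMat g (σf j) j • Pi.single k 1) = 0 := by
      funext r
      rw [Matrix.mulVec_sub, Matrix.mulVec_smul, Matrix.mulVec_smul, Pi.sub_apply, Pi.smul_apply,
        Pi.smul_apply, mnMat_mulVec_single, mnMat_mulVec_single, smul_eq_mul, smul_eq_mul,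
        Pi.zero_apply]
      by_cases hr : r = σf j
      · rw [hr]
        ring
      · rw [huniq j r hr, huniq k r (by rw [← hjk]; exact hr)]
        ring
    have h3 := congrFun (mnMat_inj g _ h1) j
    rw [Pi.sub_apply, Pi.smul_apply, Pi.smul_apply, Pi.single_eq_same,
      Pi.single_eq_of_ne hne, smul_eq_mul, smul_eq_mul, mul_one, mul_zero, sub_zero,
      Pi.zero_apply] at h3
    apply hσf k
    rw [← hjk]
    exact h3
  have hbij : Function.Bijective σf := Finite.injective_iff_bijective.1 hinj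
  let σ : Perm (Fin 7) := Equiv.ofBijective σf hbij
  have hσ : ∀ j, σ j = σf j := fun j => rfl
  refine ⟨fun i => if mnMat g i (σ.symm i) = 1 then 1 else -1, σ, ?_⟩
  apply O7_ext
  rw [mono_val]
  funext i j
  show mnMat g i j = _
  rw [smat_apply]
  by_cases hij : i = σ j
  · rw [if_pos hij]
    have e1 : σ.symm i = j := by
      rw [hij]
      simp
    simp only [e1]
    have hsq := mn_sq g j i (fun r hr => huniq j r (by rw [← hσ, ← hij]; exact hr))
    rcases mul_self_eq_one_iff.1 hsq with h | h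
    · rw [if_pos h, sg_one, h]
    · rw [if_neg, sg_neg_one, h]
      rw [h]
      intro h'
      apply h2
      linear_combination -h'
  · rw [if_neg hij]
    exact huniq j i (by rw [← hσ]; exact hij)

end Cfsg.Agent.Lib.H13.O7
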