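import Cfsg.Agent.Lib.H13.O7Defs

set_option autoImplicit false
set_option linter.unreachableTactic false
set_option linter.unusedTactic false

/-!
# S2647 piece ND (helper27 for helper13): `D8 ≤ A₇` and `N_{A₇}(D8) = D8`
-/

namespace Cfsg.Agent.Lib.H13.O7

open Matrix Equiv Cfsg

theorem sign_pr : Perm.sign pr = 1 := by
  have h : pr = swap 0 1 * swap 1 2 * swap 2 3 * swap 4 5 := Equiv.ext (by decide)
  rw [h]
  simp only [Perm.sign_mul]
  rw [Perm.sign_swap (by decide), Perm.sign_swap (by decide), Perm.sign_swap (by decide),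
    Perm.sign_swap (by decide)]
  decide

theorem sign_ps : Perm.sign ps = 1 := by
  have h : ps = swap 0 2 * swap 4 5 := Equiv.ext (by decide)
  rw [h]
  simp only [Perm.sign_mul]
  rw [Perm.sign_swap (by decide), Perm.sign_swap (by decide)]
  decide

theorem D8_le_alt : D8 ≤ alternatingGroup (Fin 7) := by
  intro σ hσ
  rw [Perm.mem_alternatingGroup]
  have h2 : Perm.sign pr2 = 1 := by rw [← mul_pr_pr, Perm.sign_mul, sign_pr]; decide
  have h3 : Perm.sign pr3 = 1 := by rw [← mul_pr_pr2, Perm.sign_mul, sign_pr, h2]; decide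
  rcases hσ with rfl | rfl | rfl | rfl | rfl | rfl | rfl | rfl
  · exact Perm.sign_one
  · exact sign_pr
  · exact h2
  · exact h3
  · exact sign_ps
  · rw [← mul_ps_pr, Perm.sign_mul, sign_pr, sign_ps]; decide
  · rw [← mul_ps_pr2, Perm.sign_mul, h2, sign_ps]; decide
  · rw [← mul_ps_pr3, Perm.sign_mul, h3, sign_ps]; decide

/-- two permutations intertwining `pr` with the same `d` and agreeing at `0`, `4`, `6` are equal -/
theorem eq_of_vals (σ τ d : Perm (Fin 7)) (hkey : ∀ i, σ (pr i) = d (σ i))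
    (hτ : ∀ i, τ (pr i) = d (τ i)) (h0 : σ 0 = τ 0) (h4 : σ 4 = τ 4) (h6 : σ 6 = τ 6) : σ = τ := by
  have step : ∀ i, σ i = τ i → σ (pr i) = τ (pr i) := by
    intro i hi
    rw [hkey, hτ, hi]
  have h1 : σ 1 = τ 1 := step 0 h0
  have h2 : σ 2 = τ 2 := step 1 h1
  have h3 : σ 3 = τ 3 := step 2 h2
  have h5 : σ 5 = τ 5 := step 4 h4
  exact Equiv.ext fun i => by
    fin_cases i
    exacts [h0, h1, h2, h3, h4, h5, h6]

theorem fin_even (σ τ d : Perm (Fin 7)) (hkey : ∀ i, σ (pr i) = d (σ i))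
    (hτ : ∀ i, τ (pr i) = d (τ i)) (hmem : τ ∈ D8) (h0 : σ 0 = τ 0) (h4 : σ 4 = τ 4)
    (h6 : σ 6 = τ 6) : σ ∈ D8 := by
  rw [eq_of_vals σ τ d hkey hτ h0 h4 h6]
  exact hmem

theorem fin_odd (σ τ d : Perm (Fin 7)) (hs : Perm.sign σ = 1) (hkey : ∀ i, σ (pr i) = d (σ i))
    (hτ : ∀ i, (τ * (swap 4 5 : Perm (Fin 7))) (pr i) = d ((τ * (swap 4 5 : Perm (Fin 7))) i)) (hmem : τ ∈ D8)
    (h0 : σ 0 = (τ * (swap 4 5 : Perm (Fin 7))) 0) (h4 : σ 4 = (τ * (swap 4 5 : Perm (Fin 7))) 4)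
    (h6 : σ 6 = (τ * (swap 4 5 : Perm (Fin 7))) 6) : σ ∈ D8 := by
  exfalso
  rw [eq_of_vals σ (τ * (swap 4 5 : Perm (Fin 7))) d hkey hτ h0 h4 h6, Perm.sign_mul,
    Perm.mem_alternatingGroup.mp (D8_le_alt hmem), Perm.sign_swap (by decide)] at hs
  revert hs
  decide

theorem vals_of_comm (d : Perm (Fin 7)) (hd : d = pr ∨ d = pr3) :
    ∀ a b c : Fin 7, d c = c → d (d b) = b → a ≠ b → a ≠ c → b ≠ c → d (d a) ≠ a →
      c = 6 ∧ (b = 4 ∨ b = 5) ∧ (a = 0 ∨ a = 1 ∨ a = 2 ∨ a = 3) := by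
  rcases hd with rfl | rfl <;> decide

theorem mem_D8_of_comm (σ d : Perm (Fin 7)) (hd : d = pr ∨ d = pr3) (hs : Perm.sign σ = 1)
    (hkey : ∀ i, σ (pr i) = d (σ i)) : σ ∈ D8 := by
  have h1 : σ 1 = d (σ 0) := hkey 0
  have h2 : σ 2 = d (σ 1) := hkey 1
  have h5 : σ 5 = d (σ 4) := hkey 4
  have h4 : σ 4 = d (σ 5) := hkey 5
  have h6 : σ 6 = d (σ 6) := hkey 6
  obtain ⟨hc, hb, ha⟩ := vals_of_comm d hd (σ 0) (σ 4) (σ 6) h6.symm (by rw [← h5, ← h4])
    (σ.injective.ne (by decide)) (σ.injective.ne (by decide)) (σ.injective.ne (by decide))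
    (by rw [← h1, ← h2]; exact σ.injective.ne (by decide))
  rcases hd with rfl | rfl
  · rcases ha with ha | ha | ha | ha <;> rcases hb with hb | hb <;>
    first
      | exact fin_even σ 1 _ hkey (by decide) (one_mem _) (by rw [ha]; rfl) (by rw [hb]; rfl) (by rw [hc]; rfl)
      | exact fin_even σ pr _ hkey (by decide) pr_mem (by rw [ha]; rfl) (by rw [hb]; rfl) (by rw [hc]; rfl)
      | exact fin_even σ pr2 _ hkey (by decide) pr2_mem (by rw [ha]; rfl) (by rw [hb]; rfl) (by rw [hc]; rfl)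
      | exact fin_even σ pr3 _ hkey (by decide) pr3_mem (by rw [ha]; rfl) (by rw [hb]; rfl) (by rw [hc]; rfl)
      | exact fin_odd σ 1 _ hs hkey (by decide) (one_mem _) (by rw [ha]; rfl) (by rw [hb]; rfl) (by rw [hc]; rfl)
      | exact fin_odd σ pr _ hs hkey (by decide) pr_mem (by rw [ha]; rfl) (by rw [hb]; rfl) (by rw [hc]; rfl)
      | exact fin_odd σ pr2 _ hs hkey (by decide) pr2_mem (by rw [ha]; rfl) (by rw [hb]; rfl) (by rw [hc]; rfl)
      | exact fin_odd σ pr3 _ hs hkey (by decide) pr3_mem (by rw [ha]; rfl) (by rw [hb]; rfl) (by rw [hc]; rfl)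
  · rcases ha with ha | ha | ha | ha <;> rcases hb with hb | hb <;>
    first
      | exact fin_even σ ps _ hkey (by decide) ps_mem (by rw [ha]; rfl) (by rw [hb]; rfl) (by rw [hc]; rfl)
      | exact fin_even σ psr _ hkey (by decide) psr_mem (by rw [ha]; rfl) (by rw [hb]; rfl) (by rw [hc]; rfl)
      | exact fin_even σ psr2 _ hkey (by decide) psr2_mem (by rw [ha]; rfl) (by rw [hb]; rfl) (by rw [hc]; rfl)
      | exact fin_even σ psr3 _ hkey (by decide) psr3_mem (by rw [ha]; rfl) (by rw [hb]; rfl) (by rw [hc]; rfl)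
      | exact fin_odd σ ps _ hs hkey (by decide) ps_mem (by rw [ha]; rfl) (by rw [hb]; rfl) (by rw [hc]; rfl)
      | exact fin_odd σ psr _ hs hkey (by decide) psr_mem (by rw [ha]; rfl) (by rw [hb]; rfl) (by rw [hc]; rfl)
      | exact fin_odd σ psr2 _ hs hkey (by decide) psr2_mem (by rw [ha]; rfl) (by rw [hb]; rfl) (by rw [hc]; rfl)
      | exact fin_odd σ psr3 _ hs hkey (by decide) psr3_mem (by rw [ha]; rfl) (by rw [hb]; rfl) (by rw [hc]; rfl)

theorem mem_D8_of_normalizes (σ : Perm (Fin 7)) (hs : Perm.sign σ = 1)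
    (hσ : ∀ d ∈ D8, σ * d * σ⁻¹ ∈ D8) : σ ∈ D8 := by
  have hpr := hσ pr pr_mem
  have hsq : (σ * pr * σ⁻¹) * (σ * pr * σ⁻¹) ≠ 1 := by
    intro h
    have h1 : σ * pr2 * σ⁻¹ = 1 := by
      rw [← mul_pr_pr, ← h]
      group
    have h2 : pr2 = 1 := by simpa using h1
    exact absurd (congrArg (fun f : Perm (Fin 7) => f 0) h2) (by decide)
  have hd : σ * pr * σ⁻¹ = pr ∨ σ * pr * σ⁻¹ = pr3 := by
    rcases hpr with h | h | h | h | h | h | h | h
    · exfalso; apply hsq; rw [h, mul_one]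
    · exact Or.inl h
    · exfalso; apply hsq; rw [h, mul_pr2_pr2]
    · exact Or.inr h
    · exfalso; apply hsq; rw [h, mul_ps_ps]
    · exfalso; apply hsq; rw [h, mul_psr_psr]
    · exfalso; apply hsq; rw [h, mul_psr2_psr2]
    · exfalso; apply hsq; rw [h, mul_psr3_psr3]
  refine mem_D8_of_comm σ (σ * pr * σ⁻¹) hd hs ?_
  intro i
  simp

end Cfsg.Agent.Lib.H13.O7
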