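import Mathlib
import Cfsg.Agent.Lib.H13.O7Mem
import Cfsg.Agent.Lib.H13.O7MN
import Cfsg.Agent.Lib.H13.O7CD
import Cfsg.Agent.Lib.H13.O7ND
import Cfsg.Agent.Lib.H12.O7UE

set_option autoImplicit false
set_option linter.dupNamespace false

/-!
# `S0 = 2^6 : D8` is self-normalizing in `Ω₇(q)`, `q ≡ ±3 (mod 8)` (helper13, S2647)
-/

namespace Cfsg.Agent.Lib.H13.O7

open Matrix Equiv Cfsg

variable {F : Type*} [Field F]

theorem dg_mul_self (ε : Fin 7 → ℤˣ) : dg (F := F) ε * dg ε = 1 := by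
  rw [← map_mul]
  have : ε * ε = 1 := by
    funext i
    exact Int.units_mul_self (ε i)
  rw [this, map_one]

theorem normalizer_S0 [Fintype F] (hq : Fintype.card F % 8 = 3 ∨ Fintype.card F % 8 = 5)
    (g : O7 F) (hgΩ : g ∈ commutator (O7 F))
    (hg : ∀ x, x ∈ S0 F ↔ g * x * g⁻¹ ∈ S0 F) : g ∈ S0 F := by
  have h2 := two_ne_zero_of_mod hq
  set A : Subgroup (O7 F) := (Esub F).map (MulAut.conj g).toMonoidHom with hA
  have hAS : A ≤ S0 F := by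
    rintro _ ⟨x, hx, rfl⟩
    exact (hg x).1 (MS_mono bot_le hx)
  have hcardA : Nat.card A = 64 := by
    rw [hA, Subgroup.card_map_of_injective (MulAut.conj g).injective, card_MS h2 ⊥]
    simp
  have hexpA : ∀ a ∈ A, a * a = 1 := by
    rintro _ ⟨x, hx, rfl⟩
    obtain ⟨ε, -, rfl⟩ := (mem_Esub x).1 hx
    show g * dg ε * g⁻¹ * (g * dg ε * g⁻¹) = 1
    have h1 : g * dg ε * g⁻¹ * (g * dg ε * g⁻¹) = g * (dg ε * dg ε) * g⁻¹ := by group
    rw [h1, dg_mul_self]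
    group
  have hAE : A = Esub F := eq_Esub_of_elementary h2 A hAS hcardA hexpA
  have hMN : ∀ η : Fin 7 → ℤˣ, ∏ i, η i = 1 → ∃ ε : Fin 7 → ℤˣ, g⁻¹ * dg η * g = dg ε := by
    intro η hη
    have hmem : dg η ∈ A := by
      rw [hAE]
      exact (mem_Esub _).2 ⟨η, hη, rfl⟩
    obtain ⟨x, hx, hxg⟩ := hmem
    obtain ⟨ε, -, rfl⟩ := (mem_Esub x).1 hx
    refine ⟨ε, ?_⟩
    have hxg' : g * dg ε * g⁻¹ = dg η := hxg
    rw [← hxg']
    group
  obtain ⟨ε, σ, rfl⟩ := exists_mono_of_normalizes h2 g hMN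
  obtain ⟨hε, hσ⟩ := (mono_mem_comm_iff hq ε σ).1 hgΩ
  rw [mono_mem_MS h2]
  refine ⟨hε, ?_⟩
  apply mem_D8_of_normalizes σ hσ
  intro d hd
  have h1 : pm d ∈ S0 F := ⟨1, d, by simp, hd, rfl⟩
  have h3 := (hg (pm d)).1 h1
  rw [pm_apply, mono_inv, mono_mul, mono_mul, mono_mem_MS h2] at h3
  exact h3.2

end Cfsg.Agent.Lib.H13.O7
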