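import Mathlib
import Cfsg.Agent.Lib.H13.O7Mem
import Cfsg.Agent.S0286
import Cfsg.Agent.Lib.H9.OmSylK

set_option autoImplicit false
set_option linter.dupNamespace false

/-!
# The 2-part of `|Ω₇(q)|` is `2^9` for `q ≡ ±3 (mod 8)` (helper13, S2647)
-/

namespace Cfsg.Agent.Lib.H13.O7

open Matrix Equiv Cfsg

variable {F : Type*} [Field F]

theorem v2_of_two_mul_odd (n : ℕ) (hn : n % 2 = 1) (k : ℕ) :
    padicValNat 2 (2 ^ k * n) = k := by
  have hn0 : n ≠ 0 := by omega
  rw [padicValNat.mul (by positivity) hn0, padicValNat.prime_pow,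
    padicValNat.eq_zero_of_not_dvd (by omega), add_zero]

theorem v2_sub_add (q : ℕ) (hq : q % 8 = 3 ∨ q % 8 = 5) :
    padicValNat 2 (q - 1) + padicValNat 2 (q + 1) = 3 := by
  rcases hq with hq | hq
  · have h1 : q - 1 = 2 ^ 1 * ((q - 1) / 2) := by omega
    have h2 : q + 1 = 2 ^ 2 * ((q + 1) / 4) := by omega
    rw [h1, v2_of_two_mul_odd _ (by omega), h2, v2_of_two_mul_odd _ (by omega)]
  · have h1 : q - 1 = 2 ^ 2 * ((q - 1) / 4) := by omega
    have h2 : q + 1 = 2 ^ 1 * ((q + 1) / 2) := by omega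
    rw [h1, v2_of_two_mul_odd _ (by omega), h2, v2_of_two_mul_odd _ (by omega)]

theorem v2_card_comm [Fintype F] (hq : Fintype.card F % 8 = 3 ∨ Fintype.card F % 8 = 5)
    (Θ : ↥(Cfsg.isometryGroup F (Cfsg.quadFormOdd 3 F)) ≃* O7 F) :
    (Nat.card ↥(commutator (O7 F))).factorization 2 = 9 := by
  have h2 := two_ne_zero_of_mod hq
  have hodd : Odd (Fintype.card F) := by
    rw [Nat.odd_iff]
    omega
  have hq1 : 1 < Fintype.card F := Fintype.one_lt_card
  have hcard : Nat.card (O7 F) = 2 * Fintype.card F ^ (3 ^ 2) *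
      ∏ i ∈ Finset.range 3, (Fintype.card F ^ (2 * (i + 1)) - 1) := by
    rw [← Nat.card_congr Θ.toEquiv]
    exact Cfsg.Agent.S0286.result rfl hodd 3
  have hv : padicValNat 2 (Nat.card (O7 F)) = 11 := by
    rw [hcard, Cfsg.Agent.Lib.H9.OmSyl.v2_order_odd _ hodd hq1 3, v2_sub_add _ hq]
    have : padicValNat 2 (Nat.factorial 3) = 1 := by
      have h6 : Nat.factorial 3 = 2 ^ 1 * 3 := by decide
      rw [h6, v2_of_two_mul_odd 3 (by norm_num)]
    rw [this]
  have hidx := index_comm (F := F) h2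
  have hmul := Subgroup.card_mul_index (commutator (O7 F))
  rw [hidx] at hmul
  have hpos : Nat.card ↥(commutator (O7 F)) ≠ 0 := Nat.card_pos.ne'
  rw [Nat.factorization_def _ Nat.prime_two]
  have h4 : padicValNat 2 (Nat.card ↥(commutator (O7 F)) * 4) =
      padicValNat 2 (Nat.card ↥(commutator (O7 F))) + 2 := by
    rw [padicValNat.mul hpos (by norm_num)]
    congr 1
    have : (4 : ℕ) = 2 ^ 2 := by norm_num
    rw [this, padicValNat.prime_pow]
  rw [hmul, hv] at h4
  omega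

end Cfsg.Agent.Lib.H13.O7
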