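import Cfsg.Agent.Lib.H13.O7Defs

set_option autoImplicit false
set_option linter.unreachableTactic false
set_option linter.unusedTactic false
set_option linter.unusedVariables false

/-!
# S2647 piece SCD (helper27 for helper13): a strongly closed subgroup of `S0 = 2^6 : D8` containing
`Esub` and the permutation matrix of `(0 1)(2 3)` is `S0`.
-/

namespace Cfsg.Agent.Lib.H13.O7

open Matrix Equiv Cfsg

variable {F : Type*} [Field F]

/-- the `5`-cycle `(1 2 4 3 5)`, conjugating `(0 1)(2 3)` to `(0 2)(4 5)` -/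
def scdσ : Perm (Fin 7) := tab ![0, 2, 4, 5, 3, 1, 6] ![0, 5, 1, 4, 2, 3, 6] (by decide) (by decide)

theorem sign_scdσ : Perm.sign scdσ = 1 := by
  have h : scdσ = swap 1 2 * swap 2 4 * swap 4 3 * swap 3 5 := Equiv.ext (by decide)
  rw [h]
  simp only [Perm.sign_mul]
  rw [Perm.sign_swap (by decide), Perm.sign_swap (by decide), Perm.sign_swap (by decide),
    Perm.sign_swap (by decide)]
  decide

theorem scdσ_conj : scdσ * psr * scdσ⁻¹ = ps := Equiv.ext (by decide)

theorem eq_S0_of_sc (h2 : (2 : F) ≠ 0) (H : Subgroup (O7 F)) (hM : MA F ≤ H) (hS : S0 F ≤ H)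
    (T : Subgroup (O7 F)) (hT : T ≤ S0 F)
    (hsc : ∀ x ∈ T, ∀ g ∈ H, g * x * g⁻¹ ∈ S0 F → g * x * g⁻¹ ∈ T)
    (hE : Esub F ≤ T) (hP : pm psr ∈ T) : T = S0 F := by
  apply le_antisymm hT
  have hσH : pm (F := F) scdσ ∈ H :=
    hM ⟨1, scdσ, by simp, Perm.mem_alternatingGroup.mpr sign_scdσ, rfl⟩
  have hconj : pm scdσ * pm psr * (pm scdσ)⁻¹ = pm (F := F) ps := by
    rw [← map_mul, ← map_inv, ← map_mul, scdσ_conj]
  have hps : pm (F := F) ps ∈ T := by
    rw [← hconj]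
    apply hsc _ hP _ hσH
    rw [hconj]
    exact ⟨1, ps, by simp, ps_mem, rfl⟩
  have hpr : pm (F := F) pr ∈ T := by
    rw [← mul_ps_psr, map_mul]
    exact T.mul_mem hps hP
  have hpr2 : pm (F := F) pr2 ∈ T := by
    rw [← mul_pr_pr, map_mul]
    exact T.mul_mem hpr hpr
  have hpr3 : pm (F := F) pr3 ∈ T := by
    rw [← mul_pr_pr2, map_mul]
    exact T.mul_mem hpr hpr2
  have hall : ∀ d ∈ D8, pm (F := F) d ∈ T := by
    rintro d (rfl | rfl | rfl | rfl | rfl | rfl | rfl | rfl)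
    · rw [map_one]
      exact T.one_mem
    · exact hpr
    · exact hpr2
    · exact hpr3
    · exact hps
    · exact hP
    · rw [← mul_pr2_ps, map_mul]
      exact T.mul_mem hpr2 hps
    · rw [← mul_pr_ps, map_mul]
      exact T.mul_mem hpr hps
  rintro _ ⟨ε, d, hε, hd, rfl⟩
  rw [mono_eq]
  exact T.mul_mem (hE ((mem_Esub _).mpr ⟨ε, hε, rfl⟩)) (hall d hd)

end Cfsg.Agent.Lib.H13.O7
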