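import Mathlib
import Cfsg.Agent.Lib.H13.O7Fuse
import Cfsg.Agent.Lib.H9.O7IF
import Cfsg.Agent.Lib.H6.O7SCE
import Cfsg.Agent.Lib.H13.O7SCD
import Cfsg.Agent.Lib.H16.O7TR
import Cfsg.Agent.Lib.H14.O7FL
import Cfsg.Agent.Lib.H13.O7Norm
import Cfsg.Agent.Lib.H13.O7Order

set_option autoImplicit false
set_option linter.dupNamespace false

/-!
# The core of S2647 for `Ω₇(q)`, `q ≡ ±3 (mod 8)` (helper13)
-/

namespace Cfsg.Agent.Lib.H13.O7

open Matrix Equiv Cfsg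

variable {F : Type*} [Field F]

theorem MA_le_comm [Fintype F] (hq : Fintype.card F % 8 = 3 ∨ Fintype.card F % 8 = 5) :
    MA F ≤ commutator (O7 F) := by
  rintro _ ⟨ε, σ, hε, hσ, rfl⟩
  exact (mono_mem_comm_iff hq ε σ).2 ⟨hε, hσ⟩

theorem S0_le_MA : S0 F ≤ MA F := MS_mono D8_le_alt

theorem prod_tv (a b : Fin 7) : ∏ i, tv a b i = 1 := by
  unfold tv
  simp only [Pi.mul_apply]
  rw [Finset.prod_mul_distrib, Finset.prod_eq_single a, Finset.prod_eq_single b]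
  · rw [Pi.mulSingle_eq_same, Pi.mulSingle_eq_same]
    rfl
  · intro j _ hj
    rw [Pi.mulSingle_eq_of_ne hj]
  · intro h
    exact absurd (Finset.mem_univ _) h
  · intro j _ hj
    rw [Pi.mulSingle_eq_of_ne hj]
  · intro h
    exact absurd (Finset.mem_univ _) h

theorem coreIn_comm [Fintype F] (hq : Fintype.card F % 8 = 3 ∨ Fintype.card F % 8 = 5)
    (Θ : ↥(Cfsg.isometryGroup F (Cfsg.quadFormOdd 3 F)) ≃* O7 F) :
    CoreIn (commutator (O7 F)) := by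
  have h2 := two_ne_zero_of_mod hq
  have hMA := MA_le_comm hq
  have hS0 : S0 F ≤ commutator (O7 F) := le_trans S0_le_MA hMA
  refine ⟨S0 F, hS0, ?_, v2_card_comm hq Θ, ?_, ?_⟩
  · rw [card_MS h2 D8, card_D8]
    norm_num
  · intro g hgΩ hg
    exact normalizer_S0 hq g hgΩ hg
  · intro T hT hsc
    by_cases hne : T = ⊥
    · exact Or.inl hne
    right
    have hE := Esub_le_of_sc h2 (commutator (O7 F)) hMA hS0 T hT hsc hne
    obtain ⟨k, hk, hkc⟩ := exists_fuse hq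
    have h1 : dg (F := F) (tv 0 1) ∈ T :=
      hE ((mem_Esub _).2 ⟨tv 0 1, prod_tv 0 1, rfl⟩)
    have h3 : pm (F := F) psr ∈ S0 F := ⟨1, psr, by simp, psr_mem, rfl⟩
    have hP : pm (F := F) psr ∈ T := by
      have := hsc _ h1 k hk
      rw [hkc] at this
      exact this h3
    exact eq_S0_of_sc h2 (commutator (O7 F)) hMA hS0 T hT hsc hE hP

/-- the statement S2647, for `q = |F|` -/
theorem main [Fintype F] (hq : Fintype.card F % 8 = 3 ∨ Fintype.card F % 8 = 5)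
    (S : Sylow 2 ↥(Cfsg.Omega F (Cfsg.quadFormOdd 3 F))) :
    (Cfsg.groupFusionSystem (S : Subgroup ↥(Cfsg.Omega F (Cfsg.quadFormOdd 3 F)))).autGroup
        (S : Subgroup ↥(Cfsg.Omega F (Cfsg.quadFormOdd 3 F))) =
        Cfsg.Inn ↥(S : Subgroup ↥(Cfsg.Omega F (Cfsg.quadFormOdd 3 F))) ∧
      (∀ T : Subgroup ↥(Cfsg.Omega F (Cfsg.quadFormOdd 3 F)),
        (Cfsg.groupFusionSystem (S : Subgroup ↥(Cfsg.Omega F (Cfsg.quadFormOdd 3 F)))).StronglyClosed T →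
          T = ⊥ ∨ T = (S : Subgroup ↥(Cfsg.Omega F (Cfsg.quadFormOdd 3 F)))) ∧
      (Cfsg.groupFusionSystem (S : Subgroup ↥(Cfsg.Omega F (Cfsg.quadFormOdd 3 F)))).IsSimple 2 := by
  have h2 := two_ne_zero_of_mod hq
  obtain ⟨Θ⟩ := exists_iso (F := F) h2
  have hcore : Core ↥(Cfsg.Omega F (Cfsg.quadFormOdd 3 F)) :=
    core_of_equiv (commEquiv Θ) (core_of_coreIn _ (coreIn_comm hq Θ))
  exact conclusions_of_core hcore S

end Cfsg.Agent.Lib.H13.O7
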