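import Mathlib

set_option autoImplicit false

namespace Cfsg.Agent.Lib.H13.OrbitCount

variable {G Y Z : Type*} [Group G] [Finite G] [MulAction G Y]

/-- the fibres of `g ↦ g • w₀` over the orbit all have the size of the stabiliser -/
theorem card_fibre (w₀ w : Y) (hw : w ∈ MulAction.orbit G w₀) :
    Nat.card {g : G // g • w₀ = w} = Nat.card (MulAction.stabilizer G w₀) := by
  obtain ⟨h, rfl⟩ := hw
  apply Nat.card_congr
  refine ⟨fun g => ⟨h⁻¹ * g.1, ?_⟩, fun k => ⟨h * k.1, ?_⟩, ?_, ?_⟩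
  · rw [MulAction.mem_stabilizer_iff, mul_smul, g.2, inv_smul_smul]
  · show (h * k.1) • w₀ = h • w₀
    rw [mul_smul, MulAction.mem_stabilizer_iff.mp k.2]
  · intro g; apply Subtype.ext; simp
  · intro k; apply Subtype.ext; simp

/-- counting a subgroup `C = {g | Φ (g • w₀) = Φ w₀}` through the orbit of `w₀` -/
theorem card_mul_orbit (Φ : Y → Z) (w₀ : Y) (C : Subgroup G)
    (hC : ∀ g, g ∈ C ↔ Φ (g • w₀) = Φ w₀) :
    Nat.card C * Nat.card {w : Y // w ∈ MulAction.orbit G w₀} =
      Nat.card {w : Y // w ∈ MulAction.orbit G w₀ ∧ Φ w = Φ w₀} * Nat.card G := by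
  classical
  haveI : Fintype G := Fintype.ofFinite G
  haveI : Finite {w : Y // w ∈ MulAction.orbit G w₀} := by
    apply Finite.of_surjective (fun g : G => (⟨g • w₀, g, rfl⟩ : {w : Y // w ∈ MulAction.orbit G w₀}))
    rintro ⟨w, g, rfl⟩
    exact ⟨g, rfl⟩
  haveI : Fintype {w : Y // w ∈ MulAction.orbit G w₀} := Fintype.ofFinite _
  haveI : Finite {w : Y // w ∈ MulAction.orbit G w₀ ∧ Φ w = Φ w₀} :=
    Finite.of_injective (fun w => (⟨w.1, w.2.1⟩ : {w : Y // w ∈ MulAction.orbit G w₀}))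
      (fun a b h => Subtype.ext (by
        have := congrArg Subtype.val h
        exact this))
  haveI : Fintype {w : Y // w ∈ MulAction.orbit G w₀ ∧ Φ w = Φ w₀} := Fintype.ofFinite _
  set n := Nat.card (MulAction.stabilizer G w₀) with hn
  have hG : Nat.card G = Nat.card {w : Y // w ∈ MulAction.orbit G w₀} * n := by
    let π : G → {w : Y // w ∈ MulAction.orbit G w₀} := fun g => ⟨g • w₀, g, rfl⟩
    rw [Nat.card_congr (Equiv.sigmaFiberEquiv π).symm, Nat.card_sigma]
    have : ∀ w : {w : Y // w ∈ MulAction.orbit G w₀}, Nat.card {g : G // π g = w} = n := by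
      intro w
      rw [hn, ← card_fibre w₀ w.1 w.2]
      apply Nat.card_congr
      apply Equiv.subtypeEquivRight
      intro g
      constructor
      · intro h; exact congrArg Subtype.val h
      · intro h; exact Subtype.ext h
    simp only [this]
    rw [Finset.sum_const, Finset.card_univ, smul_eq_mul, Nat.card_eq_fintype_card]
  have hCc : Nat.card C = Nat.card {w : Y // w ∈ MulAction.orbit G w₀ ∧ Φ w = Φ w₀} * n := by
    let π : C → {w : Y // w ∈ MulAction.orbit G w₀ ∧ Φ w = Φ w₀} :=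
      fun g => ⟨g.1 • w₀, ⟨g.1, rfl⟩, (hC g.1).mp g.2⟩
    rw [Nat.card_congr (Equiv.sigmaFiberEquiv π).symm, Nat.card_sigma]
    have : ∀ w : {w : Y // w ∈ MulAction.orbit G w₀ ∧ Φ w = Φ w₀},
        Nat.card {g : C // π g = w} = n := by
      intro w
      rw [hn, ← card_fibre w₀ w.1 w.2.1]
      apply Nat.card_congr
      refine ⟨fun g => ⟨g.1.1, congrArg Subtype.val g.2⟩,
        fun g => ⟨⟨g.1, (hC g.1).mpr (by rw [g.2]; exact w.2.2)⟩, Subtype.ext g.2⟩, ?_, ?_⟩
      · intro g; rfl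
      · intro g; rfl
    simp only [this]
    rw [Finset.sum_const, Finset.card_univ, smul_eq_mul, Nat.card_eq_fintype_card]
  rw [hG, hCc]
  ring

end Cfsg.Agent.Lib.H13.OrbitCount
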