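import Cfsg.Agent.Lib.H13.SpInvolCount
import Cfsg.Agent.Lib.H13.NFFibreCount
import Cfsg.Agent.Lib.H13.FrameCount
import Cfsg.Agent.Lib.H13.OrbitCount

set_option autoImplicit false

namespace Cfsg.Agent.Lib.H13.SpCentr

open Module Matrix
open Cfsg.Agent.Lib.H13.SpInvol Cfsg.Agent.Lib.H13.SpInvolCount Cfsg.Agent.Lib.H13.NFFibre
open Cfsg.Agent.Lib.H13.ONBCount

section abstract

variable {F V : Type*} [Field F] [AddCommGroup V] [Module F V] (f : LinearMap.BilinForm F V)
variable {ι : Type*} [Fintype ι]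

theorem nfMap_apply (σ : ι → ι) (w : ι → V) (y : V) :
    nfMap f σ w y = y + ∑ i, f y (w (σ i)) • w i := by
  simp [nfMap, LinearMap.sum_apply, LinearMap.smulRight_apply, LinearMap.BilinForm.flip_apply]

theorem isNF_iff (t : V →ₗ[F] V) (σ : ι → ι) (w : ι → V) :
    IsNF f t σ w ↔ LinearIndependent F w ∧ (∀ i j, f (w i) (w j) = 0) ∧ nfMap f σ w = t := by
  constructor
  · intro h
    refine ⟨h.indep, h.iso, ?_⟩
    apply LinearMap.ext
    intro y
    rw [nfMap_apply, h.eq]
  · rintro ⟨h1, h2, h3⟩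
    exact ⟨h1, h2, fun y => by rw [← h3, nfMap_apply]⟩

end abstract

section sp

variable {F : Type*} [Field F] [Fintype F] [CharP F 2] (m : ℕ)
variable {ι : Type*} [Fintype ι]

set_option quotPrecheck false in
local notation "Sp" => ↥(Matrix.symplecticGroup (Fin m) F)

set_option quotPrecheck false in
local notation "MM" => Matrix (Fin m ⊕ Fin m) (Fin m ⊕ Fin m) F

set_option quotPrecheck false in
local notation "VV" => (Fin m ⊕ Fin m → F)

/-- the action of `Sp` on families of vectors -/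
@[reducible] def act : @MulAction Sp (ι → VV) (DivInvMonoid.toMonoid) where
  smul g w := fun i => (g : MM) *ᵥ w i
  one_smul w := by
    funext i
    show ((1 : Sp) : MM) *ᵥ w i = w i
    rw [show ((1 : Sp) : MM) = 1 from rfl, Matrix.one_mulVec]
  mul_smul g h w := by
    funext i
    show ((g * h : Sp) : MM) *ᵥ w i = (g : MM) *ᵥ ((h : MM) *ᵥ w i)
    rw [Matrix.mulVec_mulVec]
    rfl

attribute [local instance] act

theorem smul_apply (g : Sp) (w : ι → VV) (i : ι) : (g • w) i = (g : MM) *ᵥ w i := rfl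

theorem mul_inv_val (g : Sp) : (g : MM) * ((g⁻¹ : Sp) : MM) = 1 := by
  have := congrArg Subtype.val (mul_inv_cancel g)
  exact this

theorem inv_mul_val (g : Sp) : ((g⁻¹ : Sp) : MM) * (g : MM) = 1 := by
  have := congrArg Subtype.val (inv_mul_cancel g)
  exact this

theorem nfMap_smul (σ : ι → ι) (g : Sp) (w : ι → VV) (y : VV) :
    nfMap (sympB m) σ (g • w) ((g : MM) *ᵥ y) = (g : MM) *ᵥ (nfMap (sympB m) σ w y) := by
  rw [nfMap_apply, nfMap_apply, ← Matrix.toLin'_apply, ← Matrix.toLin'_apply, map_add, map_sum]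
  congr 1
  apply Finset.sum_congr rfl
  intro i _
  rw [map_smul, smul_apply, smul_apply, ← Matrix.toLin'_apply, ← Matrix.toLin'_apply, toLin_iso]

theorem mem_centralizer_iff' (t : Sp) (σ : ι → ι) (w₀ : ι → VV)
    (ht : Matrix.toLin' (t : MM) = nfMap (sympB m) σ w₀) (g : Sp) :
    g ∈ Subgroup.centralizer ({t} : Set Sp) ↔
      nfMap (sympB m) σ (g • w₀) = nfMap (sympB m) σ w₀ := by
  rw [Subgroup.mem_centralizer_iff]
  constructor
  · intro h
    have hc : (t : MM) * (g : MM) = (g : MM) * (t : MM) := by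
      have := congrArg Subtype.val (h t rfl)
      exact this
    apply LinearMap.ext
    intro y
    have hy : y = (g : MM) *ᵥ (((g⁻¹ : Sp) : MM) *ᵥ y) := by
      rw [Matrix.mulVec_mulVec, mul_inv_val, Matrix.one_mulVec]
    conv_lhs => rw [hy]
    rw [nfMap_smul, ← ht, Matrix.toLin'_apply, Matrix.toLin'_apply, Matrix.mulVec_mulVec, ← hc,
      ← Matrix.mulVec_mulVec, ← hy]
  · intro h s hs
    rw [Set.mem_singleton_iff] at hs
    subst hs
    apply Subtype.ext
    show (s : MM) * (g : MM) = (g : MM) * (s : MM)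
    apply Matrix.toLin'.injective
    apply LinearMap.ext
    intro y
    have h1 := nfMap_smul m σ g w₀ y
    rw [h] at h1
    rw [Matrix.toLin'_mul, Matrix.toLin'_mul, LinearMap.comp_apply, LinearMap.comp_apply, ht,
      Matrix.toLin'_apply, Matrix.toLin'_apply]
    exact h1

theorem mem_orbit_iff (w₀ : ι → VV) (hw₀ : LinearIndependent F w₀)
    (hiso₀ : ∀ i j, sympB m (w₀ i) (w₀ j) = 0) (w : ι → VV) :
    w ∈ MulAction.orbit Sp w₀ ↔
      LinearIndependent F w ∧ ∀ i j, sympB m (w i) (w j) = 0 := by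
  classical
  constructor
  · rintro ⟨g, rfl⟩
    constructor
    · have hinj : LinearMap.ker (Matrix.toLin' (g : MM)) = ⊥ := by
        rw [LinearMap.ker_eq_bot]
        intro a b hab
        have := congrArg (fun z => ((g⁻¹ : Sp) : MM) *ᵥ z) hab
        simp only [Matrix.toLin'_apply, Matrix.mulVec_mulVec, inv_mul_val, Matrix.one_mulVec] at this
        exact this
      have := hw₀.map' (Matrix.toLin' (g : MM)) hinj
      have e : (fun m_1 : Sp => m_1 • w₀) g = ⇑(Matrix.toLin' (g : MM)) ∘ w₀ := by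
        funext i; rfl
      rw [e]
      exact this
    · intro i j
      show sympB m ((g : MM) *ᵥ w₀ i) ((g : MM) *ᵥ w₀ j) = 0
      rw [← Matrix.toLin'_apply, ← Matrix.toLin'_apply, toLin_iso, hiso₀]
  · rintro ⟨hw, hiso⟩
    let e := Fintype.equivFin ι
    obtain ⟨g, hg, hgw⟩ := Cfsg.Agent.S0749.witt_family (sympB_nondeg (F := F) m) (sympB_alt m)
      (Fintype.card ι) (w₀ ∘ e.symm) (w ∘ e.symm) (hw₀.comp _ e.symm.injective)
      (hw.comp _ e.symm.injective) (fun i j => by
        simp only [Function.comp_apply]; rw [hiso, hiso₀])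
    have hgw' : ∀ i, g (w₀ i) = w i := by
      intro i
      have := hgw (e i)
      simpa using this
    have hG : LinearMap.toMatrix' (g : VV →ₗ[F] VV) ∈ Matrix.symplecticGroup (Fin m) F := by
      rw [Cfsg.Agent.Lib.H4.mem_symplecticGroup_iff_sympForm]
      intro u v
      rw [LinearMap.toMatrix'_mulVec, LinearMap.toMatrix'_mulVec, ← sympB_apply, ← sympB_apply]
      exact hg u v
    refine ⟨⟨_, hG⟩, ?_⟩
    funext i
    show LinearMap.toMatrix' (g : VV →ₗ[F] VV) *ᵥ w₀ i = w i
    rw [LinearMap.toMatrix'_mulVec]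
    exact hgw' i

/-- the basic counting identity for the centraliser -/
theorem card_centralizer_mul [DecidableEq ι] (t : Sp) (σ : ι → ι) (w₀ : ι → VV)
    (h₀ : IsNF (sympB m) (Matrix.toLin' (t : MM)) σ w₀) :
    Nat.card ↥(Subgroup.centralizer ({t} : Set Sp)) *
      Nat.card {w : ι → VV // LinearIndependent F w ∧ ∀ i j, sympB m (w i) (w j) = 0} =
    Nat.card {w : ι → VV // IsNF (sympB m) (Matrix.toLin' (t : MM)) σ w} * Nat.card Sp := by
  have ht : Matrix.toLin' (t : MM) = nfMap (sympB m) σ w₀ := by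
    apply LinearMap.ext
    intro y
    rw [h₀.eq, nfMap_apply]
  have h1 := mem_centralizer_iff' m t σ w₀ ht
  have key := @OrbitCount.card_mul_orbit Sp (ι → VV) _ _ _ (act m)
    (nfMap (sympB m) σ) w₀
    (Subgroup.centralizer ({t} : Set Sp)) (by
      intro g
      convert h1 g using 2
      )
  have e1 : Nat.card {w : ι → VV // w ∈ MulAction.orbit Sp w₀} =
      Nat.card {w : ι → VV // LinearIndependent F w ∧ ∀ i j, sympB m (w i) (w j) = 0} := by
    apply Nat.card_congr
    apply Equiv.subtypeEquivRight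
    exact mem_orbit_iff m w₀ h₀.indep h₀.iso
  have e2 : Nat.card {w : ι → VV // w ∈ MulAction.orbit Sp w₀ ∧
      nfMap (sympB m) σ w = nfMap (sympB m) σ w₀} =
      Nat.card {w : ι → VV // IsNF (sympB m) (Matrix.toLin' (t : MM)) σ w} := by
    apply Nat.card_congr
    apply Equiv.subtypeEquivRight
    intro w
    rw [mem_orbit_iff m w₀ h₀.indep h₀.iso, isNF_iff, ht, and_assoc]
  rw [e1, e2] at key
  exact key

end sp

end Cfsg.Agent.Lib.H13.SpCentr
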