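import Cfsg.Agent.Lib.H13.OInvol
import Cfsg.Agent.Lib.H13.SpCentr
import Cfsg.Agent.S0750

set_option autoImplicit false

namespace Cfsg.Agent.Lib.H13.OCentr

open Module Matrix QuadraticMap
open Cfsg.Agent.Lib.H13.SpInvol Cfsg.Agent.Lib.H13.SpInvolCount Cfsg.Agent.Lib.H13.NFFibre
open Cfsg.Agent.Lib.H13.OInvol Cfsg.Agent.Lib.H13.SpCentr
open Cfsg.Agent.Lib.H11.OrthStep

section abstract

variable {F V : Type*} [Field F] [CharP F 2] [AddCommGroup V] [Module F V]
  [FiniteDimensional F V] (Q : QuadraticForm F V)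
variable {κ : Type*} [Fintype κ] [DecidableEq κ]

/-- the values of `Q` on a normal form of an isometry -/
theorem Q_of_isNF (hQ : (polarBilin Q).Nondegenerate) {t : V →ₗ[F] V} {σ : κ → κ} {w : κ → V}
    (hσ : Function.Involutive σ) (h : IsNF (polarBilin Q) t σ w) (hQt : ∀ y, Q (t y) = Q y)
    (j : κ) : Q (w j) = if σ j = j then 1 else 0 := by
  obtain ⟨y, hy⟩ := exists_dual hQ (polarBilin_alt Q) (w ∘ σ) (h.indep.comp _ hσ.injective)
    (fun i => if i = j then 1 else 0)
  have h1 : t y - y = w j := by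
    rw [h.eq, add_sub_cancel_left]
    have : ∀ i, (polarBilin Q y (w (σ i))) • w i = if i = j then w j else 0 := by
      intro i
      have := hy i
      simp only [Function.comp_apply] at this
      rw [this]
      split_ifs with hij
      · rw [hij, one_smul]
      · rw [zero_smul]
    simp only [this, Finset.sum_ite_eq', Finset.mem_univ, if_true]
  have h2 := Q_sub_eq Q t hQt y
  rw [h1] at h2
  rw [h2]
  have h3 : t y = y + w j := by rw [← h1]; abel
  rw [h3, polar_add_right, Char2Gen.polar_self_zero, zero_add]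
  have h4 := hy (σ j)
  simp only [Function.comp_apply, hσ j, polarBilin_apply_apply] at h4
  exact h4

end abstract

section matrix

variable {F : Type*} [Field F] [Fintype F] [CharP F 2] {ι : Type} [Fintype ι] [DecidableEq ι]
  (Q : QuadraticForm F (ι → F))
variable {κ : Type*} [Fintype κ] [DecidableEq κ]

set_option quotPrecheck false in
local notation "OO" => ↥(Cfsg.isometryGroup F ⇑Q)

set_option quotPrecheck false in
local notation "MM" => Matrix ι ι F

set_option quotPrecheck false in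
local notation "VV" => (ι → F)

/-- the action of `O(Q)` on families of vectors -/
@[reducible] def act : @MulAction OO (κ → VV) (DivInvMonoid.toMonoid) where
  smul g w := fun i => ((g : GL ι F) : MM) *ᵥ w i
  one_smul w := by
    funext i
    show (((1 : OO) : GL ι F) : MM) *ᵥ w i = w i
    rw [show (((1 : OO) : GL ι F) : MM) = 1 from rfl, Matrix.one_mulVec]
  mul_smul g h w := by
    funext i
    show (((g * h : OO) : GL ι F) : MM) *ᵥ w i =
      ((g : GL ι F) : MM) *ᵥ (((h : GL ι F) : MM) *ᵥ w i)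
    rw [Matrix.mulVec_mulVec]
    rfl

attribute [local instance] act

theorem smul_apply (g : OO) (w : κ → VV) (i : κ) : (g • w) i = ((g : GL ι F) : MM) *ᵥ w i := rfl

theorem mul_inv_val (g : OO) : ((g : GL ι F) : MM) * (((g⁻¹ : OO) : GL ι F) : MM) = 1 := by
  rw [← Units.val_mul, ← Subgroup.coe_mul, mul_inv_cancel]
  rfl

theorem inv_mul_val (g : OO) : (((g⁻¹ : OO) : GL ι F) : MM) * ((g : GL ι F) : MM) = 1 := by
  rw [← Units.val_mul, ← Subgroup.coe_mul, inv_mul_cancel]
  rfl

theorem nfMap_smul (σ : κ → κ) (g : OO) (w : κ → VV) (y : VV) :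
    nfMap (polarBilin Q) σ (g • w) (((g : GL ι F) : MM) *ᵥ y) =
      ((g : GL ι F) : MM) *ᵥ (nfMap (polarBilin Q) σ w y) := by
  rw [nfMap_apply, nfMap_apply, ← Matrix.toLin'_apply, ← Matrix.toLin'_apply, map_add, map_sum]
  congr 1
  apply Finset.sum_congr rfl
  intro i _
  rw [map_smul, smul_apply, smul_apply, ← Matrix.toLin'_apply, ← Matrix.toLin'_apply, OInvol.toLin_iso]

theorem mem_centralizer_iff' (t : OO) (σ : κ → κ) (w₀ : κ → VV)
    (ht : Matrix.toLin' ((t : GL ι F) : MM) = nfMap (polarBilin Q) σ w₀) (g : OO) :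
    g ∈ Subgroup.centralizer ({t} : Set OO) ↔
      nfMap (polarBilin Q) σ (g • w₀) = nfMap (polarBilin Q) σ w₀ := by
  rw [Subgroup.mem_centralizer_iff]
  constructor
  · intro h
    have hc : ((t : GL ι F) : MM) * ((g : GL ι F) : MM) =
        ((g : GL ι F) : MM) * ((t : GL ι F) : MM) := by
      have := congrArg (fun z : OO => ((z : GL ι F) : MM)) (h t rfl)
      exact this
    apply LinearMap.ext
    intro y
    have hy : y = ((g : GL ι F) : MM) *ᵥ ((((g⁻¹ : OO) : GL ι F) : MM) *ᵥ y) := by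
      rw [Matrix.mulVec_mulVec, mul_inv_val, Matrix.one_mulVec]
    conv_lhs => rw [hy]
    rw [nfMap_smul, ← ht, Matrix.toLin'_apply, Matrix.toLin'_apply, Matrix.mulVec_mulVec, ← hc,
      ← Matrix.mulVec_mulVec, ← hy]
  · intro h s hs
    rw [Set.mem_singleton_iff] at hs
    subst hs
    apply Subtype.ext
    apply Units.ext
    show ((s : GL ι F) : MM) * ((g : GL ι F) : MM) = ((g : GL ι F) : MM) * ((s : GL ι F) : MM)
    apply Matrix.toLin'.injective
    apply LinearMap.ext
    intro y
    have h1 := nfMap_smul Q σ g w₀ y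
    rw [h] at h1
    rw [Matrix.toLin'_mul, Matrix.toLin'_mul, LinearMap.comp_apply, LinearMap.comp_apply, ht,
      Matrix.toLin'_apply, Matrix.toLin'_apply]
    exact h1

theorem mem_orbit_iff (hQ : (polarBilin Q).Nondegenerate) (w₀ : κ → VV)
    (hw₀ : LinearIndependent F w₀)
    (hiso₀ : ∀ i j, polarBilin Q (w₀ i) (w₀ j) = 0) (w : κ → VV) :
    w ∈ MulAction.orbit OO w₀ ↔
      LinearIndependent F w ∧ (∀ i j, polarBilin Q (w i) (w j) = 0) ∧ ∀ i, Q (w i) = Q (w₀ i) := by
  classical
  constructor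
  · rintro ⟨g, rfl⟩
    refine ⟨?_, ?_, ?_⟩
    · have hinj : LinearMap.ker (Matrix.toLin' ((g : GL ι F) : MM)) = ⊥ := by
        rw [LinearMap.ker_eq_bot]
        intro a b hab
        have := congrArg (fun z => (((g⁻¹ : OO) : GL ι F) : MM) *ᵥ z) hab
        simp only [Matrix.toLin'_apply, Matrix.mulVec_mulVec, inv_mul_val, Matrix.one_mulVec] at this
        exact this
      have := hw₀.map' (Matrix.toLin' ((g : GL ι F) : MM)) hinj
      have e : (fun m_1 : OO => m_1 • w₀) g = ⇑(Matrix.toLin' ((g : GL ι F) : MM)) ∘ w₀ := by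
        funext i; rfl
      rw [e]
      exact this
    · intro i j
      show polarBilin Q (((g : GL ι F) : MM) *ᵥ w₀ i) (((g : GL ι F) : MM) *ᵥ w₀ j) = 0
      rw [← Matrix.toLin'_apply, ← Matrix.toLin'_apply, OInvol.toLin_iso, hiso₀]
    · intro i
      show Q (((g : GL ι F) : MM) *ᵥ w₀ i) = Q (w₀ i)
      exact iso_apply Q g _
  · rintro ⟨hw, hiso, hQw⟩
    let e := Fintype.equivFin κ
    obtain ⟨g, hg, hgw⟩ := Cfsg.Agent.S0750.witt_family Q hQ
      (Fintype.card κ) (w₀ ∘ e.symm) (w ∘ e.symm) (hw₀.comp _ e.symm.injective)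
      (hw.comp _ e.symm.injective) (fun i => by
        simp only [Function.comp_apply]; rw [hQw]) (fun i j => by
        simp only [Function.comp_apply]
        have h1 := hiso (e.symm i) (e.symm j)
        have h2 := hiso₀ (e.symm i) (e.symm j)
        rw [polarBilin_apply_apply] at h1 h2
        rw [h1, h2])
    have hgw' : ∀ i, g (w₀ i) = w i := by
      intro i
      have := hgw (e i)
      simpa using this
    have hG : glOfEquiv g ∈ Cfsg.isometryGroup F ⇑Q := by
      rw [Cfsg.Agent.Lib.H11.IsoReindex.mem_iso_iff']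
      intro x
      rw [glOfEquiv_mulVec]
      exact hg x
    refine ⟨⟨_, hG⟩, ?_⟩
    funext i
    show (glOfEquiv g).1 *ᵥ w₀ i = w i
    rw [glOfEquiv_mulVec]
    exact hgw' i

/-- the basic counting identity for the centraliser in `O(Q)` -/
theorem card_centralizer_mul (hQ : (polarBilin Q).Nondegenerate) (t : OO) (σ : κ → κ)
    (hσ : Function.Involutive σ) (w₀ : κ → VV)
    (h₀ : IsNF (polarBilin Q) (Matrix.toLin' ((t : GL ι F) : MM)) σ w₀) :
    Nat.card ↥(Subgroup.centralizer ({t} : Set OO)) *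
      Nat.card {w : κ → VV // LinearIndependent F w ∧ (∀ i j, polarBilin Q (w i) (w j) = 0) ∧
        ∀ i, Q (w i) = if σ i = i then 1 else 0} =
    Nat.card {w : κ → VV // IsNF (polarBilin Q) (Matrix.toLin' ((t : GL ι F) : MM)) σ w} *
      Nat.card OO := by
  have ht : Matrix.toLin' ((t : GL ι F) : MM) = nfMap (polarBilin Q) σ w₀ := by
    apply LinearMap.ext
    intro y
    rw [h₀.eq, nfMap_apply]
  have hQt : ∀ y, Q (Matrix.toLin' ((t : GL ι F) : MM) y) = Q y := by
    intro y
    rw [Matrix.toLin'_apply]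
    exact iso_apply Q t y
  have hQ₀ := Q_of_isNF Q hQ hσ h₀ hQt
  have h1 := mem_centralizer_iff' Q t σ w₀ ht
  have key := @OrbitCount.card_mul_orbit OO (κ → VV) _ _ _ (act Q)
    (nfMap (polarBilin Q) σ) w₀
    (Subgroup.centralizer ({t} : Set OO)) (by
      intro g
      convert h1 g using 2)
  have e1 : Nat.card {w : κ → VV // w ∈ MulAction.orbit OO w₀} =
      Nat.card {w : κ → VV // LinearIndependent F w ∧ (∀ i j, polarBilin Q (w i) (w j) = 0) ∧
        ∀ i, Q (w i) = if σ i = i then 1 else 0} := by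
    apply Nat.card_congr
    apply Equiv.subtypeEquivRight
    intro w
    rw [mem_orbit_iff Q hQ w₀ h₀.indep h₀.iso]
    simp only [hQ₀]
  have e2 : Nat.card {w : κ → VV // w ∈ MulAction.orbit OO w₀ ∧
      nfMap (polarBilin Q) σ w = nfMap (polarBilin Q) σ w₀} =
      Nat.card {w : κ → VV // IsNF (polarBilin Q) (Matrix.toLin' ((t : GL ι F) : MM)) σ w} := by
    apply Nat.card_congr
    apply Equiv.subtypeEquivRight
    intro w
    rw [mem_orbit_iff Q hQ w₀ h₀.indep h₀.iso, isNF_iff, ht]
    constructor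
    · rintro ⟨⟨h1, h2, -⟩, h3⟩
      exact ⟨h1, h2, h3⟩
    · rintro ⟨h1, h2, h3⟩
      refine ⟨⟨h1, h2, ?_⟩, h3⟩
      have hw : IsNF (polarBilin Q) (Matrix.toLin' ((t : GL ι F) : MM)) σ w := by
        rw [isNF_iff, ht]; exact ⟨h1, h2, h3⟩
      intro i
      rw [hQ₀, Q_of_isNF Q hQ hσ hw hQt]
  rw [e1, e2] at key
  exact key

end matrix

end Cfsg.Agent.Lib.H13.OCentr
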