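import Cfsg.Agent.Lib.H13.CentrArith

set_option autoImplicit false

namespace Cfsg.Agent.Lib.H13.OCentrArith

open Cfsg.Agent.Lib.H13.ONBCount Cfsg.Agent.Lib.H13.CentrArith Finset

/-- half the order of `O⁺_{2m}(q)`, `m ≥ 1` -/
def oh (q m : ℕ) : ℕ := q ^ (m * (m - 1)) * (q ^ m - 1) * PP q (m - 1)

/-- the order of `O⁺_{2m}(q)` -/
def oo (q m : ℕ) : ℕ := if m = 0 then 1 else 2 * oh q m

theorem sq_sub_one' (a : ℕ) (ha : 1 ≤ a) : (a - 1) * (a + 1) = a ^ 2 - 1 := by
  obtain ⟨b, rfl⟩ : ∃ b, a = b + 1 := ⟨a - 1, by omega⟩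
  rw [Nat.add_sub_cancel]
  have : (b + 1) ^ 2 = b * (b + 1 + 1) + 1 := by ring
  rw [this, Nat.add_sub_cancel]

theorem oo_succ (q m : ℕ) (hq : 1 ≤ q) :
    oo q (m + 1) = q ^ (2 * m) * ((q ^ (m + 1) - 1) * (q ^ m + 1)) * oo q m := by
  rcases Nat.eq_zero_or_pos m with rfl | hm
  · simp [oo, oh, PP_zero]
    ring
  · obtain ⟨j, rfl⟩ : ∃ j, m = j + 1 := ⟨m - 1, by omega⟩
    unfold oo oh
    rw [if_neg (by omega), if_neg (by omega)]
    simp only [Nat.add_sub_cancel]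
    rw [PP_succ]
    have h1 : q ^ (2 * (j + 1)) - 1 = (q ^ (j + 1) - 1) * (q ^ (j + 1) + 1) := by
      rw [sq_sub_one' _ (Nat.one_le_pow _ _ hq), ← pow_mul, mul_comm]
    rw [h1]
    have h2 : (j + 1 + 1) * (j + 1) = 2 * (j + 1) + (j + 1) * j := by ring
    rw [h2, pow_add]
    ring

/-- the factors of the frame count -/
def gg (q M i : ℕ) : ℕ := (q ^ (M - i) - 1) * (q ^ (M - i - 1) + 1)

theorem oo_add (q k s : ℕ) (hq : 1 ≤ q) :
    oo q (k + s) * q ^ (k * (k - 1)) =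
      oo q k * q ^ ((k + s) * (k + s - 1)) * ∏ i ∈ range s, gg q (k + s) i := by
  induction s with
  | zero => simp
  | succ s ih =>
    rw [← add_assoc, oo_succ q (k + s) hq, Finset.prod_range_succ']
    have h1 : ∏ i ∈ range s, gg q (k + s + 1) (i + 1) = ∏ i ∈ range s, gg q (k + s) i := by
      apply Finset.prod_congr rfl
      intro i _
      unfold gg
      rw [show k + s + 1 - (i + 1) = k + s - i by omega]
    rw [h1]
    have h2 : gg q (k + s + 1) 0 = (q ^ (k + s + 1) - 1) * (q ^ (k + s) + 1) := by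
      unfold gg
      rw [Nat.sub_zero, Nat.add_sub_cancel]
    rw [h2]
    have h3 : (k + s + 1) * (k + s + 1 - 1) = 2 * (k + s) + (k + s) * (k + s - 1) := by
      rw [Nat.add_sub_cancel]
      rcases Nat.eq_zero_or_pos (k + s) with h0 | h0
      · rw [h0]
      · obtain ⟨j, hj⟩ : ∃ j, k + s = j + 1 := ⟨k + s - 1, by omega⟩
        rw [hj, Nat.add_sub_cancel]
        ring
    rw [h3, pow_add q (2 * (k + s)) ((k + s) * (k + s - 1))]
    calc q ^ (2 * (k + s)) * ((q ^ (k + s + 1) - 1) * (q ^ (k + s) + 1)) * oo q (k + s) *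
          q ^ (k * (k - 1))
        = q ^ (2 * (k + s)) * ((q ^ (k + s + 1) - 1) * (q ^ (k + s) + 1)) *
          (oo q (k + s) * q ^ (k * (k - 1))) := by ring
      _ = _ := by rw [ih]; ring

theorem factor_eq (q m i : ℕ) (hq : 2 ≤ q) (him : i < m) :
    q ^ (2 * m - 1) + q ^ m - q ^ (m - 1) + q ^ (2 * m - i - 1) - q ^ (2 * m - 1) - q ^ i =
      q ^ i * gg q m i := by
  obtain ⟨j, rfl⟩ : ∃ j, m = i + j + 1 := ⟨m - i - 1, by omega⟩
  unfold gg
  have e1 : 2 * (i + j + 1) - 1 = (i + j) + (i + j + 1) := by omega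
  have e2 : i + j + 1 - 1 = i + j := by omega
  have e3 : 2 * (i + j + 1) - i - 1 = (i + j + 1) + j := by omega
  have e4 : i + j + 1 - i = j + 1 := by omega
  have e5 : i + j + 1 - i - 1 = j := by omega
  rw [e1, e2, e3, e4, Nat.add_sub_cancel]
  set U := q ^ i with hU
  set B := q ^ j with hB
  have hU1 : 1 ≤ U := Nat.one_le_pow _ _ (by omega)
  have hB1 : 1 ≤ B := Nat.one_le_pow _ _ (by omega)
  have hP : q ^ (i + j) = U * B := by rw [pow_add]
  have hR : q ^ (i + j + 1) = q * (U * B) := by rw [pow_succ, hP]; ring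
  have hj1 : q ^ (j + 1) = q * B := by rw [pow_succ]; ring
  rw [pow_add (a := q) (m := i + j) (n := i + j + 1), pow_add (a := q) (m := i + j + 1) (n := j),
    hP, hR, hj1]
  -- both sides plus `U * B + U` equal `q * U * B * B + q * U * B`
  have hqB : 1 ≤ q * B := by nlinarith
  have hr : U * ((q * B - 1) * (B + 1)) + (U * B + U) = q * (U * B) * B + q * (U * B) := by
    obtain ⟨c, hc⟩ : ∃ c, q * B = c + 1 := ⟨q * B - 1, by omega⟩
    rw [hc, Nat.add_sub_cancel]
    have : q * (U * B) = U * (c + 1) := by rw [← hc]; ring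
    rw [this]
    ring
  have h1 : U * B ≤ U * B * (q * (U * B)) := by
    have : 1 ≤ q * (U * B) := by nlinarith
    nlinarith
  have h2 : 2 * (U * B) ≤ q * (U * B) := Nat.mul_le_mul_right _ hq
  have h3 : U ≤ U * B := Nat.le_mul_of_pos_right _ hB1
  generalize U * ((q * B - 1) * (B + 1)) = RHS at *
  generalize U * B * (q * (U * B)) = S at *
  generalize q * (U * B) * B = T at *
  generalize q * (U * B) = R at *
  generalize U * B = P at *
  omega

theorem sum_id (s : ℕ) : 2 * ∑ i ∈ range s, i + s = s * s := sum_range_id' s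

theorem expB (s' k : ℕ) :
    2 * (s' + 1 + k) * (s' + 1 - 1) - (3 * (s' + 1) ^ 2 - 3 * (s' + 1)) / 2 + k ^ 2 +
      ∑ i ∈ range s', i = 0 + (s' + k) ^ 2 := by
  have h := sum_id s'
  set a := ∑ i ∈ range s', i
  have e1 : 2 * (s' + 1 + k) * (s' + 1 - 1) = 2 * (s' * s') + 2 * s' + 2 * (s' * k) := by
    rw [Nat.add_sub_cancel]; ring
  have e2 : (s' + k) ^ 2 = s' * s' + 2 * (s' * k) + k * k := by ring
  have e3 : 3 * (s' + 1) ^ 2 = 3 * (s' * s') + 6 * s' + 3 := by ring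
  rw [e1, e2, e3, pow_two]
  omega

theorem expC (s' k : ℕ) (hs : 1 ≤ s') :
    2 * (s' + 1 + k) * (s' + 1 - 1) - (3 * (s' + 1) ^ 2 - 5 * (s' + 1)) / 2 - 1 + k ^ 2 +
      ∑ i ∈ range s', i = s' + (s' + k) ^ 2 := by
  have h := sum_id s'
  set a := ∑ i ∈ range s', i
  have e1 : 2 * (s' + 1 + k) * (s' + 1 - 1) = 2 * (s' * s') + 2 * s' + 2 * (s' * k) := by
    rw [Nat.add_sub_cancel]; ring
  have e2 : (s' + k) ^ 2 = s' * s' + 2 * (s' * k) + k * k := by ring
  have e3 : 3 * (s' + 1) ^ 2 = 3 * (s' * s') + 6 * s' + 3 := by ring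
  have e4 : s' ≤ s' * s' := Nat.le_mul_self s'
  rw [e1, e2, e3, pow_two]
  omega

theorem expA (s k : ℕ) :
    2 * (s + k) * s - (3 * s ^ 2 + s) / 2 + ∑ i ∈ range s, i + k * (k - 1) =
      (k + s) * (k + s - 1) := by
  have h := sum_id s
  set a := ∑ i ∈ range s, i
  have e1 : 2 * (s + k) * s = 2 * (s * s) + 2 * (s * k) := by ring
  have e2 : (k + s) * (k + s - 1) + (k + s) = k * k + 2 * (s * k) + s * s := by
    rcases Nat.eq_zero_or_pos (k + s) with h0 | h0
    · have hk : k = 0 := by omega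
      have hs : s = 0 := by omega
      subst hk; subst hs; rfl
    · obtain ⟨j, hj⟩ : ∃ j, k + s = j + 1 := ⟨k + s - 1, by omega⟩
      have : (k + s) * (k + s - 1) + (k + s) = (k + s) * (k + s) := by
        rw [hj, Nat.add_sub_cancel]; ring
      rw [this]; ring
  have e3 : k * (k - 1) + k = k * k := by
    rcases Nat.eq_zero_or_pos k with h0 | h0
    · subst h0; rfl
    · obtain ⟨j, hj⟩ : ∃ j, k = j + 1 := ⟨k - 1, by omega⟩
      rw [hj, Nat.add_sub_cancel]; ring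
  have e4 : s ≤ s * s := Nat.le_mul_self s
  rw [e1, pow_two]
  omega

end Cfsg.Agent.Lib.H13.OCentrArith
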