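import Mathlib
import Cfsg.Agent.Lib.H13.OES7

/-!
The theorems S5973 and S5987 (helper13): the elements of prime order of `PΩ^+_{2d}(q)` and `PΩ^-_{2d}(q)` fixing a totally
singular `m`-space (`plus_main`, `minus_main`), deduced from `main_all`.
-/

set_option autoImplicit false
set_option linter.unusedSectionVars false
set_option linter.unusedVariables false
set_option linter.unusedSimpArgs false
set_option linter.deprecated false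

open scoped MatrixGroups
open Cfsg

namespace Cfsg.Agent.Lib.H13.OES

open Cfsg.Agent.Lib.H13 Cfsg.Agent.Lib.H13.OES Cfsg.Agent.Lib.H13.OSS

theorem plus_main {F : Type*} [Field F] [Fintype F] {p : ℕ} [Fact p.Prime] [CharP F p] {q : ℕ} (hq : Fintype.card F = q)
    (d m : ℕ) (hd : 4 ≤ d) (hm : 1 ≤ m) (hmd : m < d)
    (r : ℕ) [Fact r.Prime]
    (hrΩ : r ∣ Nat.card {W : Submodule F (Fin d ⊕ Fin d → F) // Module.finrank F ↥W = m ∧ (∀ w ∈ W, Cfsg.quadFormPlus d F w = 0)})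
    (i c : ℕ) (hi : i = orderOf (q : ZMod r)) (hc : c = if Even i then i else 2 * i) :
    (∀ x : GL (Fin d ⊕ Fin d) F, x ∈ Cfsg.Geo.omegaGL (Cfsg.quadFormPlus d F) →
      (∃ z : F, ((x ^ r : GL (Fin d ⊕ Fin d) F) : Matrix (Fin d ⊕ Fin d) (Fin d ⊕ Fin d) F) = z • (1 : Matrix (Fin d ⊕ Fin d) (Fin d ⊕ Fin d) F)) →
      (∀ z : F, (x : Matrix (Fin d ⊕ Fin d) (Fin d ⊕ Fin d) F) ≠ z • (1 : Matrix (Fin d ⊕ Fin d) (Fin d ⊕ Fin d) F)) →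
      ∃ W : Submodule F (Fin d ⊕ Fin d → F), Module.finrank F ↥W = m ∧ (∀ w ∈ W, Cfsg.quadFormPlus d F w = 0) ∧
        W.map (Matrix.toLin' (x : Matrix (Fin d ⊕ Fin d) (Fin d ⊕ Fin d) F)) ≤ W) ↔
    ((r = 2 ∧ p ≠ 2 ∧ (q % 4 = 1 ∨ (q % 4 = 3 ∧ m + 2 ≤ d ∧ (Even m ∨ (2 * d) % 4 = 2)))) ∨
     (r ≠ p ∧ 2 < r ∧ Odd i ∧ i ≤ m ∧ 2 * (m % i) ≤ (2 * d) % c) ∨
     (r ≠ p ∧ 2 < r ∧ Even i ∧ i ≤ m ∧ (r - 1) / i + 2 * (m / i) ≤ (2 * d) / i ∧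
       ((2 * (m % i) ≤ i ∧ (2 * d) % c = 0 ∧ Odd ((2 * d) / i) ∧ (r - 1) / i + 2 * (m / i) < (2 * d) / i) ∨
        (2 * (m % i) ≤ (2 * d) % c ∧ Even ((2 * d) / i)) ∨
        (2 * (m % i) < (2 * d) % c ∧ Odd ((2 * d) / i))))) := by
  classical
  rw [← Cfsg.Agent.S0287.coe_plusQF] at hrΩ ⊢
  have hcard : Fintype.card (Fin d ⊕ Fin d) = 2 * d := by
    rw [Fintype.card_sum, Fintype.card_fin]; ring
  obtain ⟨i0, hi0⟩ : ∃ i0 : Fin d, i0 = ⟨0, by omega⟩ := ⟨_, rfl⟩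
  obtain ⟨i1, hi1⟩ : ∃ i1 : Fin d, i1 = ⟨1, by omega⟩ := ⟨_, rfl⟩
  have hne : i0 ≠ i1 := by
    rw [hi0, hi1]
    intro h
    have := congrArg Fin.val h
    simp at this
  have hv : (0 : ℕ) = 0 → ∃ v₁ v₂ : Fin d ⊕ Fin d → F, plusQF F d v₁ = 1 ∧ plusQF F d v₂ = 1 ∧
      QuadraticMap.polar (⇑(plusQF F d)) v₁ v₂ = 0 := by
    intro _
    refine ⟨Pi.single (Sum.inl i0) 1 + Pi.single (Sum.inr i0) 1,
      Pi.single (Sum.inl i1) 1 + Pi.single (Sum.inr i1) 1, ?_, ?_, ?_⟩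
    · rw [plusQF_apply]
      unfold Cfsg.quadFormPlus
      simp [Pi.single_apply]
    · rw [plusQF_apply]
      unfold Cfsg.quadFormPlus
      simp [Pi.single_apply]
    · rw [Cfsg.Agent.S0287.coe_plusQF, polar_quadFormPlus_formula]
      apply Finset.sum_eq_zero
      intro j _
      simp only [Pi.add_apply, Pi.single_apply, Sum.inl.injEq, Sum.inr.injEq, reduceCtorEq,
        if_false, add_zero, zero_add]
      by_cases h0 : j = i0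
      · have h1 : j ≠ i1 := by rw [h0]; exact hne
        simp [h0, h1, hne]
      · simp [h0]
  have hmain := main_all (p := p) (plusQF F d) hq (Cfsg.Agent.S0287.nondeg d) d m hd hm hmd hcard 0
    (by omega) ⟨fun _ => rfl, fun _ => PlusOn_plusQF d⟩ hv r hrΩ
  have hLHS : (∀ x : GL (Fin d ⊕ Fin d) F, x ∈ Cfsg.Geo.omegaGL ⇑(plusQF F d) →
      (∃ z : F, ((x ^ r : GL (Fin d ⊕ Fin d) F) : Matrix (Fin d ⊕ Fin d) (Fin d ⊕ Fin d) F) = z • (1 : Matrix (Fin d ⊕ Fin d) (Fin d ⊕ Fin d) F)) →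
      (∀ z : F, (x : Matrix (Fin d ⊕ Fin d) (Fin d ⊕ Fin d) F) ≠ z • (1 : Matrix (Fin d ⊕ Fin d) (Fin d ⊕ Fin d) F)) →
      ∃ W : Submodule F (Fin d ⊕ Fin d → F), Module.finrank F ↥W = m ∧ (∀ w ∈ W, (plusQF F d) w = 0) ∧
        W.map (Matrix.toLin' (x : Matrix (Fin d ⊕ Fin d) (Fin d ⊕ Fin d) F)) ≤ W) ↔
      AllFixGL (plusQF F d) r m := Iff.rfl
  rw [hLHS, hmain]
  subst hi
  constructor
  · rintro (⟨h1, h2, h3⟩ | ⟨hrp, h2, h3⟩)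
    · left
      rcases h3 with ⟨-, h3⟩ | ⟨h3, -⟩
      · exact ⟨h1, h2, h3⟩
      · omega
    · right
      rw [card_S_eq (p := p) hq r hrp] at h3
      rcases h3 with ⟨heven, h3⟩ | ⟨hodd, h3⟩
      · right
        rw [RHSe_plus_iff] at h3
        rw [hc, if_pos heven]
        exact ⟨hrp, h2, heven, h3⟩
      · left
        rw [RHSo_plus_iff] at h3
        rw [hc, if_neg hodd]
        exact ⟨hrp, h2, Nat.not_even_iff_odd.mp hodd, h3⟩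
  · rintro (⟨h1, h2, h3⟩ | ⟨hrp, h2, hodd, h3⟩ | ⟨hrp, h2, heven, h3⟩)
    · left
      exact ⟨h1, h2, Or.inl ⟨rfl, h3⟩⟩
    · right
      refine ⟨hrp, h2, Or.inr ⟨Nat.not_even_iff_odd.mpr hodd, ?_⟩⟩
      rw [RHSo_plus_iff]
      rw [hc, if_neg (Nat.not_even_iff_odd.mpr hodd)] at h3
      exact h3
    · right
      refine ⟨hrp, h2, Or.inl ⟨heven, ?_⟩⟩
      rw [card_S_eq (p := p) hq r hrp, RHSe_plus_iff]
      rw [hc, if_pos heven] at h3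
      exact h3

theorem minus_main {F : Type*} [Field F] [Fintype F] {p : ℕ} [Fact p.Prime] [CharP F p] {q : ℕ} (hq : Fintype.card F = q)
    (d m : ℕ) (hd : 4 ≤ d) (hm : 1 ≤ m) (hmd : m + 1 ≤ d) (a b : F) (hab : ∀ x y : F, x ^ 2 + a * x * y + b * y ^ 2 = 0 → x = 0 ∧ y = 0)
    (r : ℕ) [Fact r.Prime]
    (hrΩ : r ∣ Nat.card {W : Submodule F ((Fin (d - 1) ⊕ Fin (d - 1)) ⊕ Fin 2 → F) // Module.finrank F ↥W = m ∧ Cfsg.Geo.IsTotallySingularQuad (Cfsg.quadFormMinus (d - 1) F a b) W})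
    (i c : ℕ) (hi : i = orderOf (q : ZMod r)) (hc : c = if Even i then i else 2 * i) :
    (∀ x : GL ((Fin (d - 1) ⊕ Fin (d - 1)) ⊕ Fin 2) F, x ∈ Cfsg.Geo.omegaGL (Cfsg.quadFormMinus (d - 1) F a b) →
      (∃ z : F, ((x ^ r : GL ((Fin (d - 1) ⊕ Fin (d - 1)) ⊕ Fin 2) F) : Matrix ((Fin (d - 1) ⊕ Fin (d - 1)) ⊕ Fin 2) ((Fin (d - 1) ⊕ Fin (d - 1)) ⊕ Fin 2) F) = z • (1 : Matrix ((Fin (d - 1) ⊕ Fin (d - 1)) ⊕ Fin 2) ((Fin (d - 1) ⊕ Fin (d - 1)) ⊕ Fin 2) F)) →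
      (∀ z : F, (x : Matrix ((Fin (d - 1) ⊕ Fin (d - 1)) ⊕ Fin 2) ((Fin (d - 1) ⊕ Fin (d - 1)) ⊕ Fin 2) F) ≠ z • (1 : Matrix ((Fin (d - 1) ⊕ Fin (d - 1)) ⊕ Fin 2) ((Fin (d - 1) ⊕ Fin (d - 1)) ⊕ Fin 2) F)) →
      ∃ W : Submodule F ((Fin (d - 1) ⊕ Fin (d - 1)) ⊕ Fin 2 → F), (Module.finrank F ↥W = m ∧ Cfsg.Geo.IsTotallySingularQuad (Cfsg.quadFormMinus (d - 1) F a b) W) ∧ W.map (Matrix.toLin' (x : Matrix ((Fin (d - 1) ⊕ Fin (d - 1)) ⊕ Fin 2) ((Fin (d - 1) ⊕ Fin (d - 1)) ⊕ Fin 2) F)) ≤ W) ↔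
    ((r = 2 ∧ p ≠ 2 ∧ (Even d ∨ Even m ∨ q % 8 ≠ 7)) ∨
     (r ≠ p ∧ 2 < r ∧ Odd i ∧ i ≤ m ∧ ((2 * d) % c = 0 ∨ 2 * (m % i) < (2 * d) % c)) ∨
     (r ≠ p ∧ 2 < r ∧ Even i ∧ i ≤ m ∧ (r - 1) / i + 2 * (m / i) ≤ (2 * d) / i ∧
       ((2 * (m % i) ≤ i ∧ (2 * d) % c = 0 ∧ Even ((2 * d) / i) ∧ (r - 1) / i + 2 * (m / i) < (2 * d) / i) ∨
        (2 * (m % i) ≤ (2 * d) % c ∧ Odd ((2 * d) / i)) ∨
        (2 * (m % i) < (2 * d) % c ∧ Even ((2 * d) / i))))) := by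
  classical
  rw [← Cfsg.Agent.S0288.coe_minusQF] at hrΩ ⊢
  have hcard : Fintype.card ((Fin (d - 1) ⊕ Fin (d - 1)) ⊕ Fin 2) = 2 * d := by
    rw [Fintype.card_sum, Fintype.card_sum, Fintype.card_fin, Fintype.card_fin]; omega
  have hv : (1 : ℕ) = 0 → ∃ v₁ v₂ : (Fin (d - 1) ⊕ Fin (d - 1)) ⊕ Fin 2 → F,
      minusQF F (d - 1) a b v₁ = 1 ∧ minusQF F (d - 1) a b v₂ = 1 ∧
      QuadraticMap.polar (⇑(minusQF F (d - 1) a b)) v₁ v₂ = 0 := by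
    intro h
    omega
  have hmain := main_all (p := p) (minusQF F (d - 1) a b) hq
    (Cfsg.Agent.S0288.nondeg a b hab (d - 1)) d m hd hm (by omega) hcard 1
    (by omega) ⟨fun h => absurd h (not_PlusOn_minusQF (d - 1) a b hab), fun h => by omega⟩ hv r
    (by
      have hcongr : Nat.card {W : Submodule F ((Fin (d - 1) ⊕ Fin (d - 1)) ⊕ Fin 2 → F) //
          Module.finrank F ↥W = m ∧
            Cfsg.Geo.IsTotallySingularQuad (⇑(minusQF F (d - 1) a b)) W} =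
          Nat.card (TsSub (minusQF F (d - 1) a b) m) := rfl
      rw [← hcongr]
      exact hrΩ)
  have hLHS : (∀ x : GL ((Fin (d - 1) ⊕ Fin (d - 1)) ⊕ Fin 2) F, x ∈ Cfsg.Geo.omegaGL ⇑(minusQF F (d - 1) a b) →
      (∃ z : F, ((x ^ r : GL ((Fin (d - 1) ⊕ Fin (d - 1)) ⊕ Fin 2) F) : Matrix ((Fin (d - 1) ⊕ Fin (d - 1)) ⊕ Fin 2) ((Fin (d - 1) ⊕ Fin (d - 1)) ⊕ Fin 2) F) = z • (1 : Matrix ((Fin (d - 1) ⊕ Fin (d - 1)) ⊕ Fin 2) ((Fin (d - 1) ⊕ Fin (d - 1)) ⊕ Fin 2) F)) →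
      (∀ z : F, (x : Matrix ((Fin (d - 1) ⊕ Fin (d - 1)) ⊕ Fin 2) ((Fin (d - 1) ⊕ Fin (d - 1)) ⊕ Fin 2) F) ≠ z • (1 : Matrix ((Fin (d - 1) ⊕ Fin (d - 1)) ⊕ Fin 2) ((Fin (d - 1) ⊕ Fin (d - 1)) ⊕ Fin 2) F)) →
      ∃ W : Submodule F ((Fin (d - 1) ⊕ Fin (d - 1)) ⊕ Fin 2 → F), (Module.finrank F ↥W = m ∧ Cfsg.Geo.IsTotallySingularQuad (⇑(minusQF F (d - 1) a b)) W) ∧ W.map (Matrix.toLin' (x : Matrix ((Fin (d - 1) ⊕ Fin (d - 1)) ⊕ Fin 2) ((Fin (d - 1) ⊕ Fin (d - 1)) ⊕ Fin 2) F)) ≤ W) ↔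
      AllFixGL (minusQF F (d - 1) a b) r m := by
    constructor
    · intro h x hx hz hns
      obtain ⟨W, ⟨h1, h2⟩, h3⟩ := h x hx hz hns
      exact ⟨W, h1, h2, h3⟩
    · intro h x hx hz hns
      obtain ⟨W, h1, h2, h3⟩ := h x hx hz hns
      exact ⟨W, ⟨h1, h2⟩, h3⟩
  rw [hLHS, hmain]
  subst hi
  constructor
  · rintro (⟨h1, h2, h3⟩ | ⟨hrp, h2, h3⟩)
    · left
      rcases h3 with ⟨h3, -⟩ | ⟨-, h3⟩
      · omega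
      · exact ⟨h1, h2, h3⟩
    · right
      rw [card_S_eq (p := p) hq r hrp] at h3
      rcases h3 with ⟨heven, h3⟩ | ⟨hodd, h3⟩
      · right
        rw [RHSe_minus_iff] at h3
        rw [hc, if_pos heven]
        exact ⟨hrp, h2, heven, h3⟩
      · left
        rw [RHSo_minus_iff] at h3
        rw [hc, if_neg hodd]
        exact ⟨hrp, h2, Nat.not_even_iff_odd.mp hodd, h3⟩
  · rintro (⟨h1, h2, h3⟩ | ⟨hrp, h2, hodd, h3⟩ | ⟨hrp, h2, heven, h3⟩)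
    · left
      exact ⟨h1, h2, Or.inr ⟨rfl, h3⟩⟩
    · right
      refine ⟨hrp, h2, Or.inr ⟨Nat.not_even_iff_odd.mpr hodd, ?_⟩⟩
      rw [RHSo_minus_iff]
      rw [hc, if_neg (Nat.not_even_iff_odd.mpr hodd)] at h3
      exact h3
    · right
      refine ⟨hrp, h2, Or.inl ⟨heven, ?_⟩⟩
      rw [card_S_eq (p := p) hq r hrp, RHSe_minus_iff]
      rw [hc, if_pos heven] at h3
      exact h3

end Cfsg.Agent.Lib.H13.OES
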