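import Mathlib
import Cfsg.Agent.Lib.H13.OFus2
import Cfsg.Agent.Lib.H12.SemiC

/-!
Class fusion in `PΩ^±_{2m}(q)`, part 3 (helper13): minimal invariant subspaces (`exists_min_invariant`, `comm_dichotomy`, `exists_irred`), the
field `F[X]/(f)` acting on a minimal invariant subspace and the norm (`exists_det_eq`), commutative models (`exists_comm_model`), the
operators `Xi g π a = a(g) π + (1 - π)`, the main step `atom_main`, the projections in the nondegenerate and totally isotropic cases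
(`caseN_data`, `caseS_data`) and `exists_so_not_omega_comm`: every isometry of odd order prime to `p` is centralised by an element of
`SO \\ Ω`.
-/

set_option autoImplicit false
set_option linter.unusedSectionVars false
set_option linter.unusedVariables false
set_option linter.unusedSimpArgs false
set_option linter.deprecated false

namespace Cfsg.Agent.Lib.H13.OFus

section

open Module Polynomial

section irred

variable {F V : Type*} [Field F] [AddCommGroup V] [Module F V]
  (G : Module.End F V) (W : Submodule F V) (hW : ∀ w ∈ W, G w ∈ W)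

theorem aeval_restrict (a : F[X]) (w : W) :
    ((aeval (G.restrict hW) a) w : V) = aeval G a (w : V) := by
  induction a using Polynomial.induction_on' with
  | add p q hp hq =>
    rw [map_add, map_add, LinearMap.add_apply, LinearMap.add_apply, Submodule.coe_add, hp, hq]
  | monomial n c =>
    rw [Polynomial.aeval_monomial, Polynomial.aeval_monomial, Module.End.mul_apply,
      Module.End.mul_apply, Module.algebraMap_end_apply, Module.algebraMap_end_apply,
      Submodule.coe_smul]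
    congr 1
    induction n generalizing w with
    | zero => simp
    | succ n ih =>
      rw [pow_succ, pow_succ, Module.End.mul_apply, Module.End.mul_apply, ih]
      rfl

variable (hmin : ∀ W' : Submodule F V, W' ≤ W → (∀ w ∈ W', G w ∈ W') → W' = ⊥ ∨ W' = W)

include hW hmin in
/-- Schur-type dichotomy for operators commuting with `G` on a minimal invariant subspace -/
theorem comm_dichotomy (Y : Module.End F V) (hY : ∀ v, Y (G v) = G (Y v)) :
    (∀ w ∈ W, Y w = 0) ∨ (∀ w ∈ W, Y w = 0 → w = 0) := by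
  rcases hmin (W ⊓ LinearMap.ker Y) inf_le_left (by
    intro w hw
    refine ⟨hW w hw.1, ?_⟩
    show Y (G w) = 0
    rw [hY, (LinearMap.mem_ker.mp hw.2), map_zero]) with h | h
  · right
    intro w hw h0
    have : w ∈ W ⊓ LinearMap.ker Y := ⟨hw, LinearMap.mem_ker.mpr h0⟩
    rw [h, Submodule.mem_bot] at this
    exact this
  · left
    intro w hw
    have : w ∈ W ⊓ LinearMap.ker Y := by rw [h]; exact hw
    exact LinearMap.mem_ker.mp this.2

include hmin in
theorem exists_irred [FiniteDimensional F V] (hW0 : W ≠ ⊥) :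
    ∃ f : F[X], Irreducible f ∧ aeval (G.restrict hW) f = 0 := by
  have hnt : Nontrivial W := by
    obtain ⟨x, hx, hx0⟩ := Submodule.exists_mem_ne_zero_of_ne_bot hW0
    exact ⟨⟨⟨x, hx⟩, 0, fun h => hx0 (congrArg Subtype.val h)⟩⟩
  have hint : IsIntegral F (G.restrict hW) := Algebra.IsIntegral.isIntegral _
  have hpos := minpoly.natDegree_pos hint
  obtain ⟨f, hf, hdvd⟩ := Polynomial.exists_irreducible_of_natDegree_pos hpos
  refine ⟨f, hf, ?_⟩
  obtain ⟨h, hh⟩ := hdvd
  have hcomm : ∀ v, (aeval G f) (G v) = G ((aeval G f) v) := by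
    intro v
    have : aeval G f * G = G * aeval G f := by
      have e1 : aeval G (f * X) = aeval G f * G := by rw [map_mul, aeval_X]
      have e2 : aeval G (X * f) = G * aeval G f := by rw [map_mul, aeval_X]
      rw [← e1, ← e2, mul_comm]
    exact LinearMap.congr_fun this v
  rcases comm_dichotomy G W hW hmin (aeval G f) hcomm with h0 | hinj
  · apply LinearMap.ext
    intro w
    apply Subtype.ext
    rw [aeval_restrict, h0 _ w.2]
    rfl
  · exfalso
    have h1 : aeval (G.restrict hW) h = 0 := by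
      apply LinearMap.ext
      intro w
      have h3 := minpoly.aeval F (G.restrict hW)
      rw [hh, map_mul] at h3
      have h4 := LinearMap.congr_fun h3 w
      rw [Module.End.mul_apply, LinearMap.zero_apply] at h4
      have h5 := congrArg Subtype.val h4
      rw [aeval_restrict] at h5
      have := hinj _ (Submodule.coe_mem _) h5
      exact Subtype.ext this
    have h2 := minpoly.dvd F (G.restrict hW) h1
    rw [hh] at h2
    have hne : minpoly F (G.restrict hW) ≠ 0 := minpoly.ne_zero hint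
    rw [hh] at hne
    have hh0 : h ≠ 0 := right_ne_zero_of_mul hne
    obtain ⟨k, hk⟩ := h2
    have : h * 1 = h * (f * k) := by
      rw [mul_one]
      conv_lhs => rw [hk]
      ring
    have h6 := mul_left_cancel₀ hh0 this
    exact hf.not_isUnit (IsUnit.of_mul_eq_one _ h6.symm)

end irred

end

section

open Module Polynomial

section norm

variable {F V : Type*} [Field F] [Finite F] [AddCommGroup V] [Module F V] [FiniteDimensional F V]
  (G P : Module.End F V)

/-- on a minimal invariant subspace `W = range P` the determinants of the operators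
`a(G) P + (1 - P)` exhaust `F` -/
theorem exists_det_eq (hPP : P * P = P) (hPG : P * G = G * P)
    (hW0 : LinearMap.range P ≠ ⊥)
    (hmin : ∀ W' : Submodule F V, W' ≤ LinearMap.range P → (∀ w ∈ W', G w ∈ W') →
      W' = ⊥ ∨ W' = LinearMap.range P) (ν : F) :
    ∃ a : F[X], LinearMap.det (aeval G a * P + (1 - P)) = ν := by
  classical
  obtain ⟨W, hWdef⟩ : ∃ W : Submodule F V, W = LinearMap.range P := ⟨_, rfl⟩
  rw [← hWdef] at hW0 hmin
  have hW : ∀ w ∈ W, G w ∈ W := by
    intro w hw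
    rw [hWdef] at hw ⊢
    obtain ⟨v, rfl⟩ := hw
    refine ⟨G v, ?_⟩
    have := LinearMap.congr_fun hPG v
    exact this
  have hPw : ∀ w ∈ W, P w = w := by
    intro w hw
    rw [hWdef] at hw
    obtain ⟨v, rfl⟩ := hw
    exact LinearMap.congr_fun hPP v
  obtain ⟨f, hf, hroot⟩ := exists_irred G W hW hmin hW0
  haveI : Fact (Irreducible f) := ⟨hf⟩
  obtain ⟨gW, hgW⟩ : ∃ gW : Module.End F W, gW = G.restrict hW := ⟨_, rfl⟩
  rw [← hgW] at hroot
  -- the ring homomorphism `K → End W`
  let L : AdjoinRoot f →+* Module.End F W :=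
    Ideal.Quotient.lift (Ideal.span {f}) ((aeval gW : F[X] →ₐ[F] Module.End F W) : F[X] →+* _) (by
      intro a ha
      obtain ⟨y, hy⟩ := Ideal.mem_span_singleton.1 ha
      rw [hy]
      show aeval gW (f * y) = 0
      rw [map_mul, hroot, zero_mul])
  have hLmk : ∀ a : F[X], L (AdjoinRoot.mk f a) = aeval gW a := fun a => rfl
  obtain ⟨w₀, hw₀⟩ : ∃ w₀ : W, w₀ ≠ 0 := by
    obtain ⟨x, hx, hx0⟩ := Submodule.exists_mem_ne_zero_of_ne_bot hW0
    exact ⟨⟨x, hx⟩, fun h => hx0 (congrArg Subtype.val h)⟩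
  let φ : AdjoinRoot f →ₗ[F] W :=
    { toFun := fun x => L x w₀
      map_add' := by
        intro x y
        rw [map_add, LinearMap.add_apply]
      map_smul' := by
        intro c x
        rw [Algebra.smul_def, AdjoinRoot.algebraMap_eq, map_mul]
        have : L (AdjoinRoot.of f c) = algebraMap F (Module.End F W) c := by
          rw [← AdjoinRoot.mk_C, hLmk, Polynomial.aeval_C]
        rw [this, Module.End.mul_apply, Module.algebraMap_end_apply]
        rfl }
  have hφ : ∀ x, φ x = L x w₀ := fun x => rfl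
  have hinj : Function.Injective φ := by
    rw [injective_iff_map_eq_zero]
    intro x hx
    by_contra hx0
    apply hw₀
    have h1 : L x⁻¹ * L x = 1 := by rw [← map_mul, inv_mul_cancel₀ hx0, map_one]
    have h3 := LinearMap.congr_fun h1 w₀
    rw [Module.End.mul_apply, ← hφ, hx, map_zero] at h3
    exact h3.symm
  have hsurj : Function.Surjective φ := by
    rw [← LinearMap.range_eq_top]
    rcases hmin ((LinearMap.range φ).map W.subtype) (by
      intro v hv
      obtain ⟨w, _, rfl⟩ := hv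
      exact w.2) (by
      intro v hv
      obtain ⟨w, ⟨x, rfl⟩, rfl⟩ := hv
      refine ⟨φ (AdjoinRoot.root f * x), ⟨_, rfl⟩, ?_⟩
      rw [hφ, map_mul, Module.End.mul_apply]
      have : L (AdjoinRoot.root f) = gW := by
        rw [AdjoinRoot.root, hLmk, Polynomial.aeval_X]
      rw [this, hgW]
      rfl) with h | h
    · exfalso
      apply hw₀
      have : (w₀ : V) ∈ (LinearMap.range φ).map W.subtype := by
        refine ⟨w₀, ⟨1, ?_⟩, rfl⟩
        rw [hφ, map_one]
        rfl
      rw [h, Submodule.mem_bot] at this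
      exact Subtype.ext this
    · rw [eq_top_iff]
      intro w _
      have : (w : V) ∈ (LinearMap.range φ).map W.subtype := by rw [h]; exact w.2
      obtain ⟨w', hw', hww'⟩ := this
      have : w' = w := Subtype.ext hww'
      rw [← this]
      exact hw'
  obtain ⟨e, he⟩ : ∃ e : AdjoinRoot f ≃ₗ[F] W, ∀ x, e x = L x w₀ :=
    ⟨LinearEquiv.ofBijective φ ⟨hinj, hsurj⟩, fun x => rfl⟩
  have hdetW : ∀ a : F[X], LinearMap.det (aeval gW a) = Algebra.norm F (AdjoinRoot.mk f a) := by
    intro a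
    rw [Algebra.norm_apply, ← LinearMap.det_conj _ e]
    congr 1
    apply LinearMap.ext
    intro w
    obtain ⟨x, rfl⟩ := e.surjective w
    rw [LinearMap.comp_apply, LinearMap.comp_apply, LinearEquiv.coe_coe, LinearEquiv.coe_coe,
      LinearEquiv.symm_apply_apply, Algebra.coe_lmul_eq_mul, LinearMap.mul_apply', he, he, map_mul,
      Module.End.mul_apply, hLmk]
  -- the decomposition of `V`
  have hc : IsCompl W (LinearMap.ker P) := by
    rw [hWdef]
    exact LinearMap.IsIdempotentElem.isCompl hPP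
  obtain ⟨Ψ, hΨ⟩ : ∃ Ψ : (W × LinearMap.ker P) ≃ₗ[F] V, ∀ x, Ψ x = (x.1 : V) + (x.2 : V) :=
    ⟨Submodule.prodEquivOfIsCompl W (LinearMap.ker P) hc, fun x => rfl⟩
  have hdetV : ∀ a : F[X], LinearMap.det (aeval G a * P + (1 - P)) =
      Algebra.norm F (AdjoinRoot.mk f a) := by
    intro a
    rw [← hdetW a]
    have h1 : aeval G a * P + (1 - P) =
        (Ψ : (W × LinearMap.ker P) →ₗ[F] V) ∘ₗ
          (LinearMap.prodMap (aeval gW a) (LinearMap.id : LinearMap.ker P →ₗ[F] LinearMap.ker P)) ∘ₗ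
          (Ψ.symm : V →ₗ[F] (W × LinearMap.ker P)) := by
      apply LinearMap.ext
      intro v
      obtain ⟨⟨w, k⟩, rfl⟩ := Ψ.surjective v
      rw [LinearMap.comp_apply, LinearMap.comp_apply, LinearEquiv.coe_coe, LinearEquiv.coe_coe,
        LinearEquiv.symm_apply_apply, LinearMap.prodMap_apply, hΨ, hΨ]
      simp only [LinearMap.id_apply]
      rw [LinearMap.add_apply, Module.End.mul_apply, LinearMap.sub_apply, Module.End.one_apply,
        map_add, hPw _ w.2, LinearMap.mem_ker.mp k.2, add_zero, hgW, aeval_restrict]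
      abel
    rw [h1, LinearMap.det_conj, LinearMap.det_prodMap, LinearMap.det_id, mul_one]
  have hfin : Module.Finite F (AdjoinRoot f) := by
    exact (AdjoinRoot.powerBasis hf.ne_zero).finite
  haveI : Finite (AdjoinRoot f) := Module.finite_of_finite F
  obtain ⟨x, hx⟩ := FiniteField.norm_surjective F (AdjoinRoot f) ν
  obtain ⟨a, rfl⟩ := AdjoinRoot.mk_surjective x
  exact ⟨a, (hdetV a).trans hx⟩

end norm

end

section

open Matrix Module Polynomial

section cr

variable {R : Type*} [CommRing R]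

theorem cr_mul (p y z : R) (hp : p * p = p) :
    (y * z) * p + (1 - p) = (y * p + (1 - p)) * (z * p + (1 - p)) := by
  linear_combination (-(y * z) + y + z - 1) * hp

theorem cr_caseS (p p' y y' : R) (hp : p * p = p) (hp' : p' * p' = p') (h0 : p * p' = 0) :
    (y * p + (1 - p)) + (y' * p' + (1 - p')) =
      ((y + 1) * p + (1 - p)) * ((y' + 1) * p' + (1 - p')) * (2 - p - p') := by
  linear_combination y * hp + y' * hp' + (y + y' - 2 * y * y' + y * y' * p + y * y' * p') * h0

theorem cr_caseN (p y y' : R) (hp : p * p = p) :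
    (y * p + (1 - p)) + (y' * p + (1 - p)) = ((y + y') * p + (1 - p)) * (2 - p) := by
  linear_combination (y + y' - 1) * hp

theorem cr_invS (p p' h : R) (hp : p * p = p) (hp' : p' * p' = p') (h0 : p * p' = 0)
    (hh : 2 * h = 1) : (2 - p - p') * (h * (1 + p + p')) = 1 := by
  linear_combination (-h) * hp + (-h) * hp' + (-2 * h) * h0 + hh

theorem cr_invN (p h : R) (hp : p * p = p) (hh : 2 * h = 1) :
    (2 - p) * (h * (1 + p)) = 1 := by
  linear_combination (-h) * hp + hh

end cr

universe u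

section atom

variable {F : Type u} [Field F] {ι : Type} [Fintype ι] [DecidableEq ι]
  (g gi π π' : Matrix ι ι F)

/-- the commuting hypotheses -/
structure CommData : Prop where
  ggi : g * gi = gi * g
  gπ : g * π = π * g
  gπ' : g * π' = π' * g
  giπ : gi * π = π * gi
  giπ' : gi * π' = π' * gi
  ππ' : π * π' = π' * π

variable {g gi π π'}

/-- a commutative model of the algebra generated by `g, gi, π, π'` -/
theorem exists_comm_model (h : CommData g gi π π') :
    ∃ (R : Type u) (_ : CommRing R) (_ : Algebra F R) (ρ : R →ₐ[F] Matrix ι ι F)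
      (G Gi P P' : R), ρ G = g ∧ ρ Gi = gi ∧ ρ P = π ∧ ρ P' = π' ∧ Function.Injective ρ := by
  obtain ⟨s, hs⟩ : ∃ s : Set (Matrix ι ι F), s = {g, gi, π, π'} := ⟨_, rfl⟩
  have hc : ∀ a ∈ s, ∀ b ∈ s, a * b = b * a := by
    intro a ha b hb
    rw [hs] at ha hb
    simp only [Set.mem_insert_iff, Set.mem_singleton_iff] at ha hb
    rcases ha with rfl | rfl | rfl | rfl <;> rcases hb with rfl | rfl | rfl | rfl <;>
      first
        | rfl
        | exact h.ggi | exact h.ggi.symm | exact h.gπ | exact h.gπ.symm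
        | exact h.gπ' | exact h.gπ'.symm | exact h.giπ | exact h.giπ.symm
        | exact h.giπ' | exact h.giπ'.symm | exact h.ππ' | exact h.ππ'.symm
  have hg : g ∈ Algebra.adjoin F s := Algebra.subset_adjoin (by rw [hs]; simp)
  have hgi : gi ∈ Algebra.adjoin F s := Algebra.subset_adjoin (by rw [hs]; simp)
  have hp : π ∈ Algebra.adjoin F s := Algebra.subset_adjoin (by rw [hs]; simp)
  have hp' : π' ∈ Algebra.adjoin F s := Algebra.subset_adjoin (by rw [hs]; simp)
  exact ⟨↥(Algebra.adjoin F s), Algebra.adjoinCommRingOfComm F hc, inferInstance,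
    (Algebra.adjoin F s).val, ⟨g, hg⟩, ⟨gi, hgi⟩, ⟨π, hp⟩, ⟨π', hp'⟩, rfl, rfl, rfl, rfl,
    Subtype.val_injective⟩

variable (g gi π π')

/-- the operator `a(g) π + (1 - π)` -/
noncomputable def Xi (a : F[X]) : Matrix ι ι F := aeval g a * π + (1 - π)

variable {g gi π π'}

theorem Xi_mul (h : CommData g gi π π') (hπ : π * π = π) (a b : F[X]) :
    Xi g π (a * b) = Xi g π a * Xi g π b := by
  obtain ⟨R, _, _, ρ, G, Gi, P, P', rfl, rfl, rfl, rfl, hinj⟩ := exists_comm_model h
  have hP : P * P = P := hinj (by rw [map_mul, hπ])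
  have := congrArg ρ (cr_mul P (aeval G a) (aeval G b) hP)
  simp only [map_add, map_mul, map_sub, map_one, ← Polynomial.aeval_algHom_apply] at this
  unfold Xi
  rw [map_mul]
  exact this

theorem Xi_one : Xi g π (1 : F[X]) = 1 := by
  unfold Xi
  rw [map_one, Matrix.one_mul]
  abel

theorem Xi_pow (h : CommData g gi π π') (hπ : π * π = π) (a : F[X]) (n : ℕ) :
    Xi g π (a ^ n) = Xi g π a ^ n := by
  induction n with
  | zero => rw [pow_zero, pow_zero, Xi_one]
  | succ n ih => rw [pow_succ, pow_succ, Xi_mul h hπ, ih]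

theorem Xi_comm (h : CommData g gi π π') (a b : F[X]) :
    Xi g π a * Xi gi π' b = Xi gi π' b * Xi g π a := by
  obtain ⟨R, _, _, ρ, G, Gi, P, P', rfl, rfl, rfl, rfl, hinj⟩ := exists_comm_model h
  have := congrArg ρ (mul_comm (aeval G a * P + (1 - P)) (aeval Gi b * P' + (1 - P')))
  simp only [map_add, map_mul, map_sub, map_one, ← Polynomial.aeval_algHom_apply] at this
  exact this

theorem Xi_comm_g (h : CommData g gi π π') (a : F[X]) :
    Xi g π a * g = g * Xi g π a ∧ Xi g π a * gi = gi * Xi g π a ∧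
    Xi gi π' a * g = g * Xi gi π' a ∧ Xi gi π' a * gi = gi * Xi gi π' a := by
  obtain ⟨R, _, _, ρ, G, Gi, P, P', rfl, rfl, rfl, rfl, hinj⟩ := exists_comm_model h
  refine ⟨?_, ?_, ?_, ?_⟩
  · have := congrArg ρ (mul_comm (aeval G a * P + (1 - P)) G)
    simp only [map_add, map_mul, map_sub, map_one, ← Polynomial.aeval_algHom_apply] at this
    exact this
  · have := congrArg ρ (mul_comm (aeval G a * P + (1 - P)) Gi)
    simp only [map_add, map_mul, map_sub, map_one, ← Polynomial.aeval_algHom_apply] at this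
    exact this
  · have := congrArg ρ (mul_comm (aeval Gi a * P' + (1 - P')) G)
    simp only [map_add, map_mul, map_sub, map_one, ← Polynomial.aeval_algHom_apply] at this
    exact this
  · have := congrArg ρ (mul_comm (aeval Gi a * P' + (1 - P')) Gi)
    simp only [map_add, map_mul, map_sub, map_one, ← Polynomial.aeval_algHom_apply] at this
    exact this

theorem Xi_caseS (h : CommData g gi π π') (hπ : π * π = π) (hπ' : π' * π' = π')
    (h0 : π * π' = 0) (a : F[X]) :
    Xi g π a + Xi gi π' a = Xi g π (a + 1) * Xi gi π' (a + 1) * (2 - π - π') := by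
  obtain ⟨R, _, _, ρ, G, Gi, P, P', rfl, rfl, rfl, rfl, hinj⟩ := exists_comm_model h
  have hP : P * P = P := hinj (by rw [map_mul, hπ])
  have hP' : P' * P' = P' := hinj (by rw [map_mul, hπ'])
  have hPP' : P * P' = 0 := hinj (by rw [map_mul, h0, map_zero])
  have := congrArg ρ (cr_caseS P P' (aeval G a) (aeval Gi a) hP hP' hPP')
  simp only [map_add, map_mul, map_sub, map_one, map_ofNat,
    ← Polynomial.aeval_algHom_apply] at this
  unfold Xi
  rw [map_add, map_add, map_one, map_one]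
  exact this

theorem Xi_caseN (h : CommData g gi π π) (hπ : π * π = π) (a : F[X]) :
    Xi g π a + Xi gi π a = ((aeval g a + aeval gi a) * π + (1 - π)) * (2 - π) := by
  obtain ⟨R, _, _, ρ, G, Gi, P, P', rfl, rfl, rfl, hPP, hinj⟩ := exists_comm_model h
  have hP : P * P = P := hinj (by rw [map_mul, hπ])
  have := congrArg ρ (cr_caseN P (aeval G a) (aeval Gi a) hP)
  simp only [map_add, map_mul, map_sub, map_one, map_ofNat,
    ← Polynomial.aeval_algHom_apply] at this
  unfold Xi
  exact this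

theorem inv_caseS (h2 : (2 : F) ≠ 0) (hπ : π * π = π) (hπ' : π' * π' = π') (h0 : π * π' = 0)
    (h0' : π' * π = 0) : (2 - π - π').det ≠ 0 := by
  have e2 : (2 : Matrix ι ι F) = (2 : F) • (1 : Matrix ι ι F) := by
    rw [two_smul]; exact one_add_one_eq_two.symm
  have h1 : (2 - π - π') * ((2 : F)⁻¹ • (1 + π + π')) = 1 := by
    rw [Matrix.mul_smul]
    have : (2 - π - π') * (1 + π + π') = 2 := by
      calc (2 - π - π') * (1 + π + π')
          = 2 * 1 + 2 * π + 2 * π' - (π * 1 + π * π + π * π') - (π' * 1 + π' * π + π' * π') := by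
            simp only [Matrix.sub_mul, Matrix.mul_add]
            abel
        _ = 2 := by
            rw [hπ, hπ', h0, h0', Matrix.mul_one, Matrix.mul_one, Matrix.mul_one, two_mul, two_mul]
            abel
    rw [this, e2, smul_smul, inv_mul_cancel₀ h2, one_smul]
  intro hd
  have := congrArg Matrix.det h1
  rw [Matrix.det_mul, hd, zero_mul, Matrix.det_one] at this
  exact zero_ne_one this

end atom

end

section

open Matrix Module Polynomial Cfsg.Agent.Lib.H4 Cfsg.Agent.Lib.H13.HypPairs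
open Cfsg.Agent.Lib.H11.ConfOrth Cfsg.Agent.Lib.H12.OrdO

universe u

variable {F : Type u} [Field F] {ι : Type} [Fintype ι] [DecidableEq ι]

theorem aeval_toLin' (g : Matrix ι ι F) (a : F[X]) :
    aeval (Matrix.toLin' g) a = Matrix.toLin' (aeval g a) :=
  Polynomial.aeval_algHom_apply (Matrix.toLinAlgEquiv' : Matrix ι ι F ≃ₐ[F] _).toAlgHom g a

theorem toLin'_mul' (M N : Matrix ι ι F) :
    Matrix.toLin' M * Matrix.toLin' N = Matrix.toLin' (M * N) := by
  rw [Module.End.mul_eq_comp, Matrix.toLin'_mul]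

/-- `Y π + (1 - π)` is invertible when `Y` commutes with `π` and is injective on the range of
the idempotent `π` -/
theorem det_zeta_ne_zero (π Y : Matrix ι ι F) (hπ : π * π = π) (hYπ : Y * π = π * Y)
    (hinj : ∀ w, π *ᵥ w = w → Y *ᵥ w = 0 → w = 0) : (Y * π + (1 - π)).det ≠ 0 := by
  intro h0
  obtain ⟨v, hv0, hv⟩ := Matrix.exists_mulVec_eq_zero_iff.mpr h0
  apply hv0
  have h1 : π *ᵥ ((Y * π + (1 - π)) *ᵥ v) = Y *ᵥ (π *ᵥ v) := by
    rw [Matrix.mulVec_mulVec, Matrix.mul_add, Matrix.mul_sub, Matrix.mul_one, hπ, sub_self,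
      add_zero, ← Matrix.mul_assoc, ← hYπ, Matrix.mul_assoc, hπ, Matrix.mulVec_mulVec]
  rw [hv, Matrix.mulVec_zero] at h1
  have h3 : π *ᵥ v = 0 := by
    apply hinj
    · rw [Matrix.mulVec_mulVec, hπ]
    · exact h1.symm
  rw [Matrix.add_mulVec, Matrix.sub_mulVec, Matrix.one_mulVec, ← Matrix.mulVec_mulVec, h3,
    Matrix.mulVec_zero, zero_add, sub_zero] at hv
  exact hv

theorem isSquare_of_pow_eq_one (d : F) (r : ℕ) (hodd : Odd r) (hd : d ^ r = 1) : IsSquare d := by
  obtain ⟨k, hk⟩ := hodd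
  refine ⟨d ^ (k + 1), ?_⟩
  rw [← pow_add]
  have : k + 1 + (k + 1) = r + 1 := by omega
  rw [this, pow_succ, hd, one_mul]

variable (Q : QuadraticForm F (ι → F))

set_option maxHeartbeats 4000000 in
/-- the main step for atoms: from the projections to an element of `C_SO(g) \ Ω` -/
theorem atom_main [Fintype F]
    (hQ : (QuadraticMap.polarBilin Q).Nondegenerate) (h2 : (2 : F) ≠ 0) {m' : ℕ}
    (hcard : Fintype.card ι = 2 * m') (hm' : 1 ≤ m')
    (g : GL ι F) (hg : g ∈ Cfsg.isometryGroup F ⇑Q) (r : ℕ) (hodd : Odd r) (hgr : g ^ r = 1)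
    (hfix : ∀ v, g.1 *ᵥ v = v → v = 0)
    (π π' : Matrix ι ι F) (hπ : π * π = π) (hπ' : π' * π' = π')
    (hcd : CommData g.1 (g⁻¹).1 π π') (hadjπ : πᵀ * gramM Q = gramM Q * π')
    (hcase : π' = π ∨ (π * π' = 0 ∧ π' * π = 0))
    (hW0 : LinearMap.range (Matrix.toLin' π) ≠ ⊥)
    (hmin : ∀ W' : Submodule F (ι → F), W' ≤ LinearMap.range (Matrix.toLin' π) →
      (∀ w ∈ W', g.1 *ᵥ w ∈ W') → W' = ⊥ ∨ W' = LinearMap.range (Matrix.toLin' π)) :
    ∃ c : GL ι F, c ∈ Cfsg.specialIsometryGL F ⇑Q ∧ c ∉ Cfsg.Geo.omegaGL ⇑Q ∧ c * g = g * c := by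
  have hgiso := (mem_iso_iff (⇑Q) g).1 hg
  have hggi : g.1 * (g⁻¹).1 = 1 := by rw [← Units.val_mul, mul_inv_cancel, Units.val_one]
  have hgig : (g⁻¹).1 * g.1 = 1 := by rw [← Units.val_mul, inv_mul_cancel, Units.val_one]
  have hgr' := val_pow_eq_one g r hgr
  obtain ⟨gi, hgi⟩ : ∃ gi : Matrix ι ι F, gi = (g⁻¹).1 := ⟨_, rfl⟩
  rw [← hgi] at hcd hggi hgig
  obtain ⟨gm, hgm⟩ : ∃ gm : Matrix ι ι F, gm = g.1 := ⟨_, rfl⟩
  rw [← hgm] at hcd hggi hgig hgiso hgr' hfix hmin
  -- membership in `W`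
  have hWmem : ∀ w, w ∈ LinearMap.range (Matrix.toLin' π) ↔ π *ᵥ w = w := by
    intro w
    constructor
    · rintro ⟨v, rfl⟩
      rw [Matrix.toLin'_apply, Matrix.mulVec_mulVec, hπ]
    · intro h
      exact ⟨w, by rw [Matrix.toLin'_apply, h]⟩
  obtain ⟨w₁, hw₁W, hw₁0⟩ := Submodule.exists_mem_ne_zero_of_ne_bot hW0
  rw [hWmem] at hw₁W
  -- the dichotomy
  have hdich : ∀ Y : Matrix ι ι F, Y * gm = gm * Y →
      (∀ w, π *ᵥ w = w → Y *ᵥ w = 0) ∨ (∀ w, π *ᵥ w = w → Y *ᵥ w = 0 → w = 0) := by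
    intro Y hY
    rcases comm_dichotomy (Matrix.toLin' gm) (LinearMap.range (Matrix.toLin' π))
      (by
        intro w hw
        rw [hWmem] at hw ⊢
        rw [Matrix.toLin'_apply, Matrix.mulVec_mulVec, ← hcd.gπ, ← Matrix.mulVec_mulVec, hw])
      (by
        intro W' hW' hinv
        exact hmin W' hW' (fun w hw => by simpa [Matrix.toLin'_apply] using hinv w hw))
      (Matrix.toLin' Y)
      (by
        intro v
        rw [Matrix.toLin'_apply, Matrix.toLin'_apply, Matrix.toLin'_apply, Matrix.toLin'_apply,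
          Matrix.mulVec_mulVec, Matrix.mulVec_mulVec, hY]) with h | h
    · left
      intro w hw
      have := h w ((hWmem w).2 hw)
      rwa [Matrix.toLin'_apply] at this
    · right
      intro w hw h0
      exact h w ((hWmem w).2 hw) (by rwa [Matrix.toLin'_apply])
  -- a polynomial with nonsquare determinant
  have hchar : ringChar F ≠ 2 := by
    intro h
    apply h2
    have := ringChar.spec F 2
    rw [h] at this
    exact_mod_cast (this.2 (dvd_refl 2))
  obtain ⟨ν, hν⟩ := FiniteField.exists_nonsquare hchar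
  obtain ⟨a₀, ha₀⟩ := exists_det_eq (Matrix.toLin' gm) (Matrix.toLin' π)
    (by rw [toLin'_mul', hπ]) (by rw [toLin'_mul', toLin'_mul', hcd.gπ])
    hW0
    (by
      intro W' hW' hinv
      exact hmin W' hW' (fun w hw => by simpa [Matrix.toLin'_apply] using hinv w hw)) ν
  have hdet₀ : (Xi gm π a₀).det = ν := by
    rw [← ha₀, aeval_toLin', toLin'_mul']
    have : (1 : Module.End F (ι → F)) = Matrix.toLin' (1 : Matrix ι ι F) := by
      rw [Matrix.toLin'_one]; rfl
    rw [this, ← map_sub, ← map_add, LinearMap.det_toLin']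
    rfl
  -- `Xi X` has square determinant
  have hdX : IsSquare (Xi gm π (X : F[X])).det ∧ (Xi gm π (X : F[X])).det ≠ 0 := by
    have h1 : (Xi gm π (X : F[X])) ^ r = 1 := by
      rw [← Xi_pow hcd hπ]
      unfold Xi
      rw [map_pow, Polynomial.aeval_X, hgr', Matrix.one_mul]
      abel
    have h3 : (Xi gm π (X : F[X])).det ^ r = 1 := by
      rw [← Matrix.det_pow, h1, Matrix.det_one]
    refine ⟨isSquare_of_pow_eq_one _ r hodd h3, ?_⟩
    intro h
    rw [h, zero_pow (by obtain ⟨k, hk⟩ := hodd; omega)] at h3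
    exact zero_ne_one h3
  have hdet₁ : ¬ IsSquare (Xi gm π (X * a₀)).det := by
    rw [Xi_mul hcd hπ, Matrix.det_mul, hdet₀]
    obtain ⟨⟨s, hs⟩, hs0⟩ := hdX
    rw [hs]
    rintro ⟨t, ht⟩
    apply hν
    have hs' : s ≠ 0 := by
      intro h
      apply hs0
      rw [hs, h, mul_zero]
    refine ⟨t / s, ?_⟩
    field_simp
    linear_combination ht
  -- the adjoint relation for `Xi`
  have hadjXi : ∀ a : F[X], (Xi gm π a)ᵀ * gramM Q = gramM Q * Xi gi π' a := by
    intro a
    unfold Xi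
    have e1 := adj_aeval Q gm gi hggi hgiso a
    have hc1 : π' * aeval gi a = aeval gi a * π' := by
      have := (Xi_comm_g hcd (1 : F[X])).1
      obtain ⟨R, _, _, ρ, G, Gi, P, P', rfl, rfl, rfl, rfl, hinj⟩ := exists_comm_model hcd
      have := congrArg ρ (mul_comm P' (aeval Gi a))
      simp only [map_mul, ← Polynomial.aeval_algHom_apply] at this
      exact this
    rw [Matrix.transpose_add, Matrix.transpose_sub, Matrix.transpose_mul, Matrix.transpose_one,
      Matrix.add_mul, Matrix.sub_mul, Matrix.one_mul, Matrix.mul_assoc, e1, ← Matrix.mul_assoc,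
      hadjπ, Matrix.mul_assoc, hc1, Matrix.mul_add, Matrix.mul_sub, Matrix.mul_one]
  -- the final step, given a good polynomial
  have hfinal : ∀ a : F[X], ¬ IsSquare (Xi gm π a).det → (Xi gm π a + Xi gi π' a).det ≠ 0 →
      ∃ c : GL ι F, c ∈ Cfsg.specialIsometryGL F ⇑Q ∧ c ∉ Cfsg.Geo.omegaGL ⇑Q ∧ c * g = g * c := by
    intro a hns hd
    have hc := Xi_comm_g hcd a
    rw [hgm, hgi] at hc
    apply exists_so_not_omega_of_pair Q hQ h2 hcard hm' g hg r hodd hgr (by rw [← hgm]; exact hfix)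
      (Xi gm π a) (Xi gi π' a) (hadjXi a) (Xi_comm hcd a a)
    · rw [hgm]; exact hc.1
    · rw [hgm]; exact hc.2.1
    · rw [hgi]; exact hc.2.2.1
    · rw [hgi]; exact hc.2.2.2
    · exact hns
    · exact hd
  have hgsub : ∀ v, (gm - gi) *ᵥ v = 0 → v = 0 := by
    intro v hv
    exact Matrix.eq_zero_of_mulVec_eq_zero
      (sub_inv_det_ne_zero gm gi hggi r hodd hgr' hfix) hv
  have hdetadj : ∀ a : F[X], (Xi gi π' a).det = (Xi gm π a).det := by
    intro a
    have := congrArg Matrix.det (hadjXi a)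
    rw [Matrix.det_mul, Matrix.det_mul, Matrix.det_transpose] at this
    have h3 : (gramM Q).det * (Xi gi π' a).det = (gramM Q).det * (Xi gm π a).det := by
      linear_combination -this
    exact mul_left_cancel₀ (gramM_det_ne_zero Q hQ) h3
  have hcommX : ∀ a : F[X], aeval gm a * gm = gm * aeval gm a ∧ aeval gm a * π = π * aeval gm a ∧
      aeval gi a * gm = gm * aeval gi a ∧ aeval gi a * π = π * aeval gi a := by
    intro a
    obtain ⟨R, _, _, ρ, G, Gi, P, P', rfl, rfl, rfl, rfl, hinj⟩ := exists_comm_model hcd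
    refine ⟨?_, ?_, ?_, ?_⟩
    · have := congrArg ρ (mul_comm (aeval G a) G)
      simpa only [map_mul, ← Polynomial.aeval_algHom_apply] using this
    · have := congrArg ρ (mul_comm (aeval G a) P)
      simpa only [map_mul, ← Polynomial.aeval_algHom_apply] using this
    · have := congrArg ρ (mul_comm (aeval Gi a) G)
      simpa only [map_mul, ← Polynomial.aeval_algHom_apply] using this
    · have := congrArg ρ (mul_comm (aeval Gi a) P)
      simpa only [map_mul, ← Polynomial.aeval_algHom_apply] using this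
  rcases hcase with hN | ⟨hS, hS'⟩
  · -- case N
    subst hN
    have hinv2 : (2 - π').det ≠ 0 := by
      have := inv_caseS (π := π') (π' := 0) h2 hπ' (by simp) (by simp) (by simp)
      rwa [sub_zero] at this
    have hcrit : ∀ a : F[X], (∀ w, π' *ᵥ w = w → (aeval gm a + aeval gi a) *ᵥ w = 0 → w = 0) →
        (Xi gm π' a + Xi gi π' a).det ≠ 0 := by
      intro a hinj
      rw [Xi_caseN hcd hπ', Matrix.det_mul]
      refine mul_ne_zero ?_ hinv2
      apply det_zeta_ne_zero π' _ hπ' ?_ hinj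
      rw [Matrix.add_mul, Matrix.mul_add, (hcommX a).2.1, (hcommX a).2.2.2]
    rcases hdich (aeval gm a₀ + aeval gi a₀) (by
      rw [Matrix.add_mul, Matrix.mul_add, (hcommX a₀).1, (hcommX a₀).2.2.1]) with hz | hinj
    · -- use `X * a₀`
      apply hfinal (X * a₀) hdet₁
      apply hcrit
      intro w hw h0
      -- `x₀` is injective on `W`
      have hx₀ : ∀ w, π' *ᵥ w = w → aeval gm a₀ *ᵥ w = 0 → w = 0 := by
        rcases hdich (aeval gm a₀) (hcommX a₀).1 with hz' | hi'
        · exfalso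
          apply hν
          rw [← hdet₀]
          have : (Xi gm π' a₀).det = 0 := by
            apply Matrix.exists_mulVec_eq_zero_iff.mp
            refine ⟨w₁, hw₁0, ?_⟩
            unfold Xi
            rw [Matrix.add_mulVec, ← Matrix.mulVec_mulVec, Matrix.sub_mulVec, Matrix.one_mulVec,
              hw₁W, hz' w₁ hw₁W, sub_self, add_zero]
          rw [this]
          exact ⟨0, by simp⟩
        · exact hi'
      apply hx₀ w hw
      apply hgsub
      have hzw := hz w hw
      rw [Matrix.add_mulVec] at hzw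
      have e1 : aeval gi a₀ *ᵥ w = -(aeval gm a₀ *ᵥ w) := by
        rw [eq_neg_iff_add_eq_zero, add_comm]; exact hzw
      rw [map_mul, map_mul, Polynomial.aeval_X, Polynomial.aeval_X, Matrix.add_mulVec,
        ← Matrix.mulVec_mulVec, ← Matrix.mulVec_mulVec, e1, Matrix.mulVec_neg] at h0
      rw [Matrix.sub_mulVec, sub_eq_add_neg]
      exact h0
    · exact hfinal a₀ (by rw [hdet₀]; exact hν) (hcrit a₀ hinj)
  · -- case S
    have hinv2 : (2 - π - π').det ≠ 0 := inv_caseS h2 hπ hπ' hS hS'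
    have hcrit : ∀ a : F[X], (∀ w, π *ᵥ w = w → (aeval gm (a + 1)) *ᵥ w = 0 → w = 0) →
        (Xi gm π a + Xi gi π' a).det ≠ 0 := by
      intro a hinj
      rw [Xi_caseS hcd hπ hπ' hS, Matrix.det_mul, Matrix.det_mul, hdetadj]
      refine mul_ne_zero (mul_ne_zero ?_ ?_) hinv2
      · exact det_zeta_ne_zero π _ hπ (hcommX (a + 1)).2.1 hinj
      · exact det_zeta_ne_zero π _ hπ (hcommX (a + 1)).2.1 hinj
    rcases hdich (aeval gm (a₀ + 1)) (hcommX (a₀ + 1)).1 with hz | hinj
    · apply hfinal (X * a₀) hdet₁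
      apply hcrit
      intro w hw h0
      apply hfix
      have hzw := hz w hw
      rw [map_add, map_one, Matrix.add_mulVec, Matrix.one_mulVec] at hzw
      have e1 : aeval gm a₀ *ᵥ w = -w := by
        rw [eq_neg_iff_add_eq_zero]; exact hzw
      rw [map_add, map_one, map_mul, Polynomial.aeval_X, Matrix.add_mulVec, Matrix.one_mulVec,
        ← Matrix.mulVec_mulVec, e1, Matrix.mulVec_neg] at h0
      have : w = gm *ᵥ w := by
        rw [← sub_eq_zero]
        rw [← h0]; abel
      exact this.symm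
    · exact hfinal a₀ (by rw [hdet₀]; exact hν) (hcrit a₀ hinj)

end

section

open Matrix Module Polynomial Cfsg.Agent.Lib.H4 Cfsg.Agent.Lib.H13.HypPairs
open Cfsg.Agent.Lib.H11.ConfOrth Cfsg.Agent.Lib.H12.OrdO

universe u

section lin

variable {F : Type u} [Field F] {V : Type*} [AddCommGroup V] [Module F V]

/-- a minimal nonzero invariant subspace -/
theorem exists_min_invariant [FiniteDimensional F V] [Nontrivial V] (G : Module.End F V) :
    ∃ W : Submodule F V, W ≠ ⊥ ∧ (∀ w ∈ W, G w ∈ W) ∧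
      ∀ W' : Submodule F V, W' ≤ W → (∀ w ∈ W', G w ∈ W') → W' = ⊥ ∨ W' = W := by
  classical
  have hex : ∃ n : ℕ, ∃ W : Submodule F V, W ≠ ⊥ ∧ (∀ w ∈ W, G w ∈ W) ∧ finrank F W = n :=
    ⟨_, ⊤, top_ne_bot, fun _ _ => Submodule.mem_top, rfl⟩
  obtain ⟨W, hW0, hWinv, hWn⟩ := Nat.find_spec hex
  refine ⟨W, hW0, hWinv, ?_⟩
  intro W' hle hinv
  by_cases h0 : W' = ⊥
  · left; exact h0
  · right
    have h1 : Nat.find hex ≤ finrank F W' := Nat.find_min' hex ⟨W', h0, hinv, rfl⟩
    have h3 : finrank F W' ≤ finrank F W := Submodule.finrank_mono hle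
    exact Submodule.eq_of_le_of_finrank_eq hle (by omega)

/-- the projection onto an invariant subspace along an invariant complement commutes -/
theorem proj_comm (G : Module.End F V) (W W' : Submodule F V) (h : IsCompl W W')
    (hW : ∀ w ∈ W, G w ∈ W) (hW' : ∀ w ∈ W', G w ∈ W') (v : V) :
    W.projection W' h (G v) = G (W.projection W' h v) := by
  have h1 := Submodule.projection_add_projection_eq_self h v
  have h3 : G v = G (W.projection W' h v) + G (W'.projection W h.symm v) := by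
    rw [← map_add, h1]
  rw [h3, map_add, Submodule.projection_apply_of_mem_left h (hW _ (Submodule.projection_apply_mem h v)),
    Submodule.projection_apply_of_mem_right h (hW' _ (Submodule.projection_apply_mem h.symm v)),
    add_zero]

end lin

section mat

variable {F : Type u} [Field F] {ι : Type} [Fintype ι] [DecidableEq ι]

theorem mat_ext_bilin (A A' : Matrix ι ι F) (h : ∀ x y, x ⬝ᵥ A *ᵥ y = x ⬝ᵥ A' *ᵥ y) : A = A' := by
  ext i j
  have := h (Pi.single i 1) (Pi.single j 1)
  simpa using this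

theorem inv_eq_pow (gm gi : Matrix ι ι F) (hggi : gm * gi = 1) (hgig : gi * gm = 1) (r : ℕ)
    (hr : 1 ≤ r) (hgr : gm ^ r = 1) : gi = gm ^ (r - 1) := by
  have h1 : gm * gm ^ (r - 1) = 1 := by
    rw [← pow_succ']
    have : r - 1 + 1 = r := by omega
    rw [this, hgr]
  calc gi = gi * (gm * gm ^ (r - 1)) := by rw [h1, Matrix.mul_one]
    _ = (gi * gm) * gm ^ (r - 1) := by rw [Matrix.mul_assoc]
    _ = gm ^ (r - 1) := by rw [hgig, Matrix.one_mul]

theorem pow_mem_of_inv (gm : Matrix ι ι F) (W : Submodule F (ι → F))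
    (hW : ∀ w ∈ W, gm *ᵥ w ∈ W) (k : ℕ) (w : ι → F) (hw : w ∈ W) : (gm ^ k) *ᵥ w ∈ W := by
  induction k with
  | zero => rw [pow_zero, Matrix.one_mulVec]; exact hw
  | succ k ih => rw [pow_succ', ← Matrix.mulVec_mulVec]; exact hW _ ih

/-- algebra of the isotropic projection trick -/
theorem iso_proj_algebra (h2 : (2 : F) ≠ 0) (A S : Matrix ι ι F) (hA : A * A = A) (hS : S * S = S)
    (hSA : S * A = 0) :
    (A - (2 : F)⁻¹ • (A * S)) * (A - (2 : F)⁻¹ • (A * S)) = A - (2 : F)⁻¹ • (A * S) ∧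
    (S - (2 : F)⁻¹ • (A * S)) * (S - (2 : F)⁻¹ • (A * S)) = S - (2 : F)⁻¹ • (A * S) ∧
    (A - (2 : F)⁻¹ • (A * S)) * (S - (2 : F)⁻¹ • (A * S)) = 0 ∧
    (S - (2 : F)⁻¹ • (A * S)) * (A - (2 : F)⁻¹ • (A * S)) = 0 := by
  obtain ⟨T, hT⟩ : ∃ T, T = A * S := ⟨_, rfl⟩
  obtain ⟨c, hc⟩ : ∃ c : F, c = (2 : F)⁻¹ := ⟨_, rfl⟩
  have hcc : c + c = 1 := by rw [hc, ← two_mul, mul_inv_cancel₀ h2]
  rw [← hT, ← hc]
  have e1 : A * T = T := by rw [hT, ← Matrix.mul_assoc, hA]
  have e2 : T * A = 0 := by rw [hT, Matrix.mul_assoc, hSA, Matrix.mul_zero]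
  have e3 : S * T = 0 := by rw [hT, ← Matrix.mul_assoc, hSA, Matrix.zero_mul]
  have e4 : T * S = T := by rw [hT, Matrix.mul_assoc, hS]
  have e5 : T * T = 0 := by
    rw [hT, Matrix.mul_assoc, ← Matrix.mul_assoc S, hSA, Matrix.zero_mul, Matrix.mul_zero]
  have e6 : A * S = T := hT.symm
  refine ⟨?_, ?_, ?_, ?_⟩
  · simp only [Matrix.sub_mul, Matrix.mul_sub, Matrix.smul_mul, Matrix.mul_smul, hA, e1, e2, e5,
      smul_zero, sub_zero]
  · simp only [Matrix.sub_mul, Matrix.mul_sub, Matrix.smul_mul, Matrix.mul_smul, hS, e3, e4, e5,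
      smul_zero, sub_zero]
  · simp only [Matrix.sub_mul, Matrix.mul_sub, Matrix.smul_mul, Matrix.mul_smul, e6, e1, e4, e5,
      smul_zero, sub_zero]
    have : T - c • T - c • T = (1 - (c + c)) • T := by module
    rw [this, hcc, sub_self, zero_smul]
  · simp only [Matrix.sub_mul, Matrix.mul_sub, Matrix.smul_mul, Matrix.mul_smul, hSA, e2, e3, e5,
      smul_zero, sub_zero]

end mat

end

section

open Matrix Module Polynomial Cfsg.Agent.Lib.H4 Cfsg.Agent.Lib.H13.HypPairs
open Cfsg.Agent.Lib.H11.ConfOrth Cfsg.Agent.Lib.H12.OrdO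

universe u

variable {F : Type u} [Field F] {ι : Type} [Fintype ι] [DecidableEq ι]
  (Q : QuadraticForm F (ι → F))

set_option quotPrecheck false in
local notation "B" => QuadraticMap.polar (⇑Q)

theorem dot_gramM (x y : ι → F) (A : Matrix ι ι F) :
    x ⬝ᵥ (Aᵀ * gramM Q) *ᵥ y = B (A *ᵥ x) y := by
  rw [polar_eq_gramM, ← Matrix.mulVec_mulVec, Matrix.dotProduct_mulVec x Aᵀ,
    Matrix.vecMul_transpose]

theorem dot_gramM' (x y : ι → F) (A : Matrix ι ι F) :
    x ⬝ᵥ (gramM Q * A) *ᵥ y = B x (A *ᵥ y) := by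
  rw [polar_eq_gramM, ← Matrix.mulVec_mulVec]

/-- projection data in the nondegenerate case -/
theorem caseN_data (gm gi : Matrix ι ι F) (hggi : gm * gi = 1) (hgig : gi * gm = 1)
    (W : Submodule F (ι → F)) (hW : ∀ w ∈ W, gm *ᵥ w ∈ W)
    (hWp : ∀ u ∈ LinearMap.BilinForm.orthogonal (QuadraticMap.polarBilin Q) W,
      gm *ᵥ u ∈ LinearMap.BilinForm.orthogonal (QuadraticMap.polarBilin Q) W)
    (hdis : W ⊓ LinearMap.BilinForm.orthogonal (QuadraticMap.polarBilin Q) W = ⊥) :
    ∃ π π' : Matrix ι ι F, π * π = π ∧ π' * π' = π' ∧ CommData gm gi π π' ∧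
      πᵀ * gramM Q = gramM Q * π' ∧ (π' = π ∨ (π * π' = 0 ∧ π' * π = 0)) ∧
      LinearMap.range (Matrix.toLin' π) = W := by
  have hc : IsCompl W (LinearMap.BilinForm.orthogonal (QuadraticMap.polarBilin Q) W) :=
    LinearMap.BilinForm.isCompl_orthogonal_of_restrict_nondegenerate (polarBilin_isRefl' Q)
      (LinearMap.BilinForm.nondegenerate_restrict_of_disjoint_orthogonal _
        (polarBilin_isRefl' Q) (disjoint_iff.mpr hdis))
  obtain ⟨P, hP⟩ : ∃ P : Module.End F (ι → F), P = W.projection _ hc := ⟨_, rfl⟩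
  obtain ⟨π, hπdef⟩ : ∃ π : Matrix ι ι F, π = LinearMap.toMatrix' P := ⟨_, rfl⟩
  have hπv : ∀ x, π *ᵥ x = P x := by
    intro x; rw [hπdef, LinearMap.toMatrix'_mulVec]
  have hPmem : ∀ x, P x ∈ W := by
    intro x; rw [hP]; exact Submodule.projection_apply_mem hc x
  have hPW : ∀ w ∈ W, P w = w := by
    intro w hw; rw [hP]; exact Submodule.projection_apply_of_mem_left hc hw
  have hππ : π * π = π := by
    apply Matrix.ext_iff_mulVec.mpr
    intro x
    rw [← Matrix.mulVec_mulVec, hπv, hπv, hPW _ (hPmem x)]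
  have hπg : π * gm = gm * π := by
    apply Matrix.ext_iff_mulVec.mpr
    intro x
    rw [← Matrix.mulVec_mulVec, ← Matrix.mulVec_mulVec, hπv, hπv, hP]
    have := proj_comm (Matrix.toLin' gm) W _ hc
      (fun w hw => by rw [Matrix.toLin'_apply]; exact hW w hw)
      (fun w hw => by rw [Matrix.toLin'_apply]; exact hWp w hw) x
    rw [Matrix.toLin'_apply, Matrix.toLin'_apply] at this
    exact this
  have hπgi : π * gi = gi * π := (inv_comm_of_comm gm gi π hggi hgig hπg.symm).symm
  have hsub : ∀ y, y - P y ∈ LinearMap.BilinForm.orthogonal (QuadraticMap.polarBilin Q) W := by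
    intro y
    rw [hP, ← Submodule.projection_eq_self_sub_projection hc]
    exact Submodule.projection_apply_mem hc.symm y
  have hadj : πᵀ * gramM Q = gramM Q * π := by
    apply mat_ext_bilin
    intro x y
    rw [dot_gramM, dot_gramM', hπv, hπv]
    have h1 : B (P x) (y - P y) = 0 := by
      have := LinearMap.BilinForm.mem_orthogonal_iff.mp (hsub y) (P x) (hPmem x)
      exact this
    have h3 : B (x - P x) (P y) = 0 := by
      have := LinearMap.BilinForm.mem_orthogonal_iff.mp (hsub x) (P y) (hPmem y)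
      rw [QuadraticMap.polarBilin_apply_apply, QuadraticMap.polar_comm] at this
      exact this
    rw [QuadraticMap.polar_sub_right, sub_eq_zero] at h1
    rw [QuadraticMap.polar_sub_left, sub_eq_zero] at h3
    rw [h1, h3]
  refine ⟨π, π, hππ, hππ, ⟨?_, hπg.symm, hπg.symm, hπgi.symm, hπgi.symm, rfl⟩, hadj, Or.inl rfl, ?_⟩
  · rw [hggi, hgig]
  · rw [hπdef, Matrix.toLin'_toMatrix', hP, Submodule.range_projection]

theorem comm_sub_smul (A S X : Matrix ι ι F) (c : F) (hA : A * X = X * A) (hS : S * X = X * S) :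
    X * (A - c • (A * S)) = (A - c • (A * S)) * X ∧ X * (S - c • (A * S)) = (S - c • (A * S)) * X := by
  have h1 : X * (A * S) = (A * S) * X := by
    rw [← Matrix.mul_assoc, ← hA, Matrix.mul_assoc, ← hS, Matrix.mul_assoc]
  constructor
  · rw [Matrix.mul_sub, Matrix.sub_mul, Matrix.mul_smul, Matrix.smul_mul, h1, hA]
  · rw [Matrix.mul_sub, Matrix.sub_mul, Matrix.mul_smul, Matrix.smul_mul, h1, hS]

/-- projection data in the totally isotropic case -/
theorem caseS_data (hQ : (QuadraticMap.polarBilin Q).Nondegenerate) (h2 : (2 : F) ≠ 0)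
    (gm gi : Matrix ι ι F) (hggi : gm * gi = 1) (hgig : gi * gm = 1)
    (hgiso : ∀ x, Q (gm *ᵥ x) = Q x)
    (W W'' : Submodule F (ι → F)) (hc : IsCompl W W'') (hW : ∀ w ∈ W, gm *ᵥ w ∈ W)
    (hW'' : ∀ w ∈ W'', gm *ᵥ w ∈ W'')
    (hiso : ∀ w ∈ W, ∀ w' ∈ W, B w w' = 0) :
    ∃ π π' : Matrix ι ι F, π * π = π ∧ π' * π' = π' ∧ CommData gm gi π π' ∧
      πᵀ * gramM Q = gramM Q * π' ∧ (π' = π ∨ (π * π' = 0 ∧ π' * π = 0)) ∧
      LinearMap.range (Matrix.toLin' π) = W := by
  obtain ⟨P, hP⟩ : ∃ P : Module.End F (ι → F), P = W.projection _ hc := ⟨_, rfl⟩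
  obtain ⟨A, hAdef⟩ : ∃ A : Matrix ι ι F, A = LinearMap.toMatrix' P := ⟨_, rfl⟩
  have hAv : ∀ x, A *ᵥ x = P x := by
    intro x; rw [hAdef, LinearMap.toMatrix'_mulVec]
  have hPmem : ∀ x, P x ∈ W := by
    intro x; rw [hP]; exact Submodule.projection_apply_mem hc x
  have hPW : ∀ w ∈ W, P w = w := by
    intro w hw; rw [hP]; exact Submodule.projection_apply_of_mem_left hc hw
  have hAA : A * A = A := by
    apply Matrix.ext_iff_mulVec.mpr
    intro x
    rw [← Matrix.mulVec_mulVec, hAv, hAv, hPW _ (hPmem x)]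
  have hAg : A * gm = gm * A := by
    apply Matrix.ext_iff_mulVec.mpr
    intro x
    rw [← Matrix.mulVec_mulVec, ← Matrix.mulVec_mulVec, hAv, hAv, hP]
    have := proj_comm (Matrix.toLin' gm) W _ hc
      (fun w hw => by rw [Matrix.toLin'_apply]; exact hW w hw)
      (fun w hw => by rw [Matrix.toLin'_apply]; exact hW'' w hw) x
    rw [Matrix.toLin'_apply, Matrix.toLin'_apply] at this
    exact this
  have hAgi : A * gi = gi * A := (inv_comm_of_comm gm gi A hggi hgig hAg.symm).symm
  -- the Gram matrix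
  obtain ⟨M, hM⟩ : ∃ M : Matrix ι ι F, M = gramM Q := ⟨_, rfl⟩
  have hMu : IsUnit M.det := by rw [hM]; exact (gramM_det_ne_zero Q hQ).isUnit
  obtain ⟨Mi, hMi⟩ : ∃ Mi : Matrix ι ι F, Mi = M⁻¹ := ⟨_, rfl⟩
  have hM1 : M * Mi = 1 := by rw [hMi]; exact Matrix.mul_nonsing_inv M hMu
  have hM2 : Mi * M = 1 := by rw [hMi]; exact Matrix.nonsing_inv_mul M hMu
  have hMT : Mᵀ = M := by rw [hM]; exact gramM_transpose Q
  obtain ⟨S, hS⟩ : ∃ S : Matrix ι ι F, S = Mi * Aᵀ * M := ⟨_, rfl⟩
  have hMS : M * S = Aᵀ * M := by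
    rw [hS, ← Matrix.mul_assoc, ← Matrix.mul_assoc, hM1, Matrix.one_mul]
  have hSTM : Sᵀ * M = M * A := by
    have := congrArg Matrix.transpose hMS
    rw [Matrix.transpose_mul, Matrix.transpose_mul, Matrix.transpose_transpose, hMT] at this
    exact this
  have hSS : S * S = S := by
    calc S * S = Mi * Aᵀ * (M * Mi) * Aᵀ * M := by rw [hS]; simp only [Matrix.mul_assoc]
      _ = Mi * (Aᵀ * Aᵀ) * M := by rw [hM1, Matrix.mul_one]; simp only [Matrix.mul_assoc]
      _ = S := by rw [← Matrix.transpose_mul, hAA, hS]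
  have hAMA : Aᵀ * M * A = 0 := by
    apply mat_ext_bilin
    intro x y
    rw [← Matrix.mulVec_mulVec, hM, dot_gramM, Matrix.zero_mulVec, dotProduct_zero, hAv, hAv]
    exact hiso _ (hPmem x) _ (hPmem y)
  have hSA : S * A = 0 := by
    rw [hS, Matrix.mul_assoc, Matrix.mul_assoc, ← Matrix.mul_assoc Aᵀ, hAMA, Matrix.mul_zero]
  have hgiT : giᵀ * M = M * gm := by rw [hM]; exact giT_gram Q gm gi hggi hgig hgiso
  have hgMi : gm * Mi = Mi * giᵀ := by
    calc gm * Mi = (Mi * M) * gm * Mi := by rw [hM2, Matrix.one_mul]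
      _ = Mi * (M * gm) * Mi := by simp only [Matrix.mul_assoc]
      _ = Mi * giᵀ * (M * Mi) := by rw [← hgiT]; simp only [Matrix.mul_assoc]
      _ = Mi * giᵀ := by rw [hM1, Matrix.mul_one]
  have hSg : S * gm = gm * S := by
    calc S * gm = Mi * Aᵀ * (M * gm) := by rw [hS]; simp only [Matrix.mul_assoc]
      _ = Mi * (Aᵀ * giᵀ) * M := by rw [← hgiT]; simp only [Matrix.mul_assoc]
      _ = Mi * (giᵀ * Aᵀ) * M := by
          rw [← Matrix.transpose_mul, ← Matrix.transpose_mul, hAgi]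
      _ = (Mi * giᵀ) * Aᵀ * M := by simp only [Matrix.mul_assoc]
      _ = gm * S := by rw [← hgMi, hS]; simp only [Matrix.mul_assoc]
  have hSgi : S * gi = gi * S := (inv_comm_of_comm gm gi S hggi hgig hSg.symm).symm
  obtain ⟨c, hcdef⟩ : ∃ c : F, c = (2 : F)⁻¹ := ⟨_, rfl⟩
  obtain ⟨h1, h3, h4, h5⟩ := iso_proj_algebra h2 A S hAA hSS hSA
  rw [← hcdef] at h1 h3 h4 h5
  have hcg := comm_sub_smul A S gm c hAg hSg
  have hcgi := comm_sub_smul A S gi c hAgi hSgi
  -- vectors of `W` are killed by `S`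
  have hSw : ∀ w ∈ W, S *ᵥ w = 0 := by
    intro w hw
    have h6 : (Aᵀ * M) *ᵥ w = 0 := by
      have : ∀ x, x ⬝ᵥ (Aᵀ * M) *ᵥ w = 0 := by
        intro x
        rw [hM, dot_gramM, hAv]
        exact hiso _ (hPmem x) _ hw
      apply dotProduct_eq_zero
      intro x
      rw [dotProduct_comm]
      exact this x
    rw [hS, Matrix.mul_assoc, ← Matrix.mulVec_mulVec, h6, Matrix.mulVec_zero]
  refine ⟨A - c • (A * S), S - c • (A * S), h1, h3,
    ⟨by rw [hggi, hgig], hcg.1, hcg.2, hcgi.1, hcgi.2, by rw [h4, h5]⟩, ?_, Or.inr ⟨h4, h5⟩, ?_⟩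
  · rw [← hM, Matrix.transpose_sub, Matrix.transpose_smul, Matrix.transpose_mul, Matrix.sub_mul,
      Matrix.smul_mul, Matrix.mul_assoc, ← hMS, ← Matrix.mul_assoc, hSTM, Matrix.mul_sub,
      Matrix.mul_smul, Matrix.mul_assoc]
  · apply le_antisymm
    · rintro _ ⟨x, rfl⟩
      rw [Matrix.toLin'_apply, Matrix.sub_mulVec, Matrix.smul_mulVec, ← Matrix.mulVec_mulVec,
        hAv, hAv]
      exact W.sub_mem (hPmem _) (W.smul_mem _ (hPmem _))
    · intro w hw
      refine ⟨w, ?_⟩
      rw [Matrix.toLin'_apply, Matrix.sub_mulVec, Matrix.smul_mulVec, ← Matrix.mulVec_mulVec,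
        hSw w hw, Matrix.mulVec_zero, smul_zero, sub_zero, hAv, hPW w hw]

end

section

open Matrix Module Polynomial Cfsg.Agent.Lib.H4 Cfsg.Agent.Lib.H13.HypPairs
open Cfsg.Agent.Lib.H11.ConfOrth Cfsg.Agent.Lib.H12.OrdO

universe u

variable {F : Type u} [Field F] {ι : Type} [Fintype ι] [DecidableEq ι]
  (Q : QuadraticForm F (ι → F))

set_option quotPrecheck false in
local notation "B" => QuadraticMap.polar (⇑Q)

/-- `(B)` when the fixed space is zero -/
theorem exists_so_not_omega_comm_of_nofix [Fintype F]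
    (hQ : (QuadraticMap.polarBilin Q).Nondegenerate) (h2 : (2 : F) ≠ 0) {m' : ℕ}
    (hcard : Fintype.card ι = 2 * m') (hm' : 1 ≤ m')
    (g : GL ι F) (hg : g ∈ Cfsg.isometryGroup F ⇑Q) (r : ℕ) (hodd : Odd r) (hgr : g ^ r = 1)
    (hrF : (r : F) ≠ 0) (hfix : ∀ v, g.1 *ᵥ v = v → v = 0) :
    ∃ c : GL ι F, c ∈ Cfsg.specialIsometryGL F ⇑Q ∧ c ∉ Cfsg.Geo.omegaGL ⇑Q ∧ c * g = g * c := by
  have hgiso := (mem_iso_iff (⇑Q) g).1 hg
  have hggi : g.1 * (g⁻¹).1 = 1 := by rw [← Units.val_mul, mul_inv_cancel, Units.val_one]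
  have hgig : (g⁻¹).1 * g.1 = 1 := by rw [← Units.val_mul, inv_mul_cancel, Units.val_one]
  have hgr' := val_pow_eq_one g r hgr
  have hr1 : 1 ≤ r := by obtain ⟨k, hk⟩ := hodd; omega
  haveI : Nonempty ι := Fintype.card_pos_iff.mp (by omega)
  obtain ⟨W, hW0, hWinv, hWmin⟩ := exists_min_invariant (Matrix.toLin' g.1)
  have hWinv' : ∀ w ∈ W, g.1 *ᵥ w ∈ W := by
    intro w hw
    have := hWinv w hw
    rwa [Matrix.toLin'_apply] at this
  have hWmin' : ∀ W' : Submodule F (ι → F), W' ≤ W → (∀ w ∈ W', g.1 *ᵥ w ∈ W') →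
      W' = ⊥ ∨ W' = W := by
    intro W' hle hinv
    exact hWmin W' hle (fun w hw => by rw [Matrix.toLin'_apply]; exact hinv w hw)
  have hgi_eq := inv_eq_pow g.1 (g⁻¹).1 hggi hgig r hr1 hgr'
  have hWgi : ∀ w ∈ W, (g⁻¹).1 *ᵥ w ∈ W := by
    intro w hw
    rw [hgi_eq]
    exact pow_mem_of_inv g.1 W hWinv' _ w hw
  obtain ⟨Wp, hWp⟩ : ∃ Wp : Submodule F (ι → F),
      Wp = LinearMap.BilinForm.orthogonal (QuadraticMap.polarBilin Q) W := ⟨_, rfl⟩
  have hmemWp : ∀ u, u ∈ Wp ↔ ∀ w ∈ W, B w u = 0 := by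
    intro u
    rw [hWp, LinearMap.BilinForm.mem_orthogonal_iff]
    rfl
  have hWpinv : ∀ u ∈ Wp, g.1 *ᵥ u ∈ Wp := by
    intro u hu
    rw [hmemWp] at hu ⊢
    intro w hw
    have h1 : w = g.1 *ᵥ ((g⁻¹).1 *ᵥ w) := by
      rw [Matrix.mulVec_mulVec, hggi, Matrix.one_mulVec]
    rw [h1, polar_mulVec Q g.1 hgiso]
    exact hu _ (hWgi w hw)
  -- the main data
  have hdata : ∃ π π' : Matrix ι ι F, π * π = π ∧ π' * π' = π' ∧ CommData g.1 (g⁻¹).1 π π' ∧
      πᵀ * gramM Q = gramM Q * π' ∧ (π' = π ∨ (π * π' = 0 ∧ π' * π = 0)) ∧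
      LinearMap.range (Matrix.toLin' π) = W := by
    rcases hWmin' (W ⊓ Wp) inf_le_left (by
      intro w hw
      exact ⟨hWinv' w hw.1, hWpinv w hw.2⟩) with h | h
    · rw [hWp] at h hWpinv
      exact caseN_data Q g.1 (g⁻¹).1 hggi hgig W hWinv' hWpinv h
    · have hss := Cfsg.Agent.Lib.H12.Semi.isSemisimple_toLin'_of_pow_eq_one g.1 r hrF hgr'
      obtain ⟨W'', hW''inv, hc⟩ := (Module.End.isSemisimple_iff.mp hss) W (by
        rw [Module.End.mem_invtSubmodule]
        intro w hw
        exact hWinv w hw)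
      rw [Module.End.mem_invtSubmodule] at hW''inv
      apply caseS_data Q hQ h2 g.1 (g⁻¹).1 hggi hgig hgiso W W'' hc hWinv'
      · intro w hw
        have := hW''inv hw
        rw [Submodule.mem_comap, Matrix.toLin'_apply] at this
        exact this
      · intro w hw w' hw'
        have : w' ∈ W ⊓ Wp := by rw [h]; exact hw'
        exact (hmemWp w').1 this.2 w hw
  obtain ⟨π, π', hπ, hπ', hcd, hadj, hcase, hrange⟩ := hdata
  exact atom_main Q hQ h2 hcard hm' g hg r hodd hgr hfix π π' hπ hπ' hcd hadj hcase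
    (by rw [hrange]; exact hW0) (by rw [hrange]; exact hWmin')

/-- `(B)`: an element of `SO \ Ω` commuting with an isometry of odd order prime to the
characteristic -/
theorem exists_so_not_omega_comm [Fintype F]
    (hQ : (QuadraticMap.polarBilin Q).Nondegenerate) (h2 : (2 : F) ≠ 0) {m' : ℕ}
    (hcard : Fintype.card ι = 2 * m') (hm' : 1 ≤ m')
    (g : GL ι F) (hg : g ∈ Cfsg.isometryGroup F ⇑Q) (r : ℕ) (hodd : Odd r) (hgr : g ^ r = 1)
    (hrF : (r : F) ≠ 0) :
    ∃ c : GL ι F, c ∈ Cfsg.specialIsometryGL F ⇑Q ∧ c ∉ Cfsg.Geo.omegaGL ⇑Q ∧ c * g = g * c := by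
  by_cases hV : fixSub g.1 = ⊥
  · apply exists_so_not_omega_comm_of_nofix Q hQ h2 hcard hm' g hg r hodd hgr hrF
    intro v hv
    have : v ∈ fixSub g.1 := (mem_fixSub g.1 v).2 hv
    rw [hV, Submodule.mem_bot] at this
    exact this
  · exact exists_so_not_omega_comm_of_fix Q hQ h2 (by omega) ⟨m', by omega⟩ g hg r hodd hgr hrF hV

end

end Cfsg.Agent.Lib.H13.OFus
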