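import Mathlib
import Cfsg.Agent.Lib.H13.OFus3
import Cfsg.Agent.Lib.H11.ConfOrth11
import Cfsg.Agent.Lib.H13.AutPO14
import Cfsg.Agent.Lib.H13.AutPO12

/-!
Class fusion in `PΩ^±_{2m}(q)`, part 4 (helper13): `fusion_abs`, normalisation of an automorphism of odd order induced by a similarity
(`normalise`), the general fusion theorem `fusion_main`/`fusion_named`, and the statements `s2720` (plus type) and `s2721` (minus type).
-/

set_option autoImplicit false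
set_option linter.unusedSectionVars false
set_option linter.unusedVariables false
set_option linter.unusedSimpArgs false
set_option linter.deprecated false

namespace Cfsg.Agent.Lib.H13.OFus

section

open Matrix Module Cfsg.Agent.Lib.H4 Cfsg.Agent.Lib.H13.HypPairs
open Cfsg.Agent.Lib.H11.ConfOrth Cfsg.Agent.Lib.H12.OrdO

universe u

section abs

theorem fusion_abs {S X : Type*} [Group S] [Group X] (Φ : S →* X) (g : S) (A B : Subgroup S)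
    (h : ∀ b ∈ B, ∃ a ∈ A, ∃ c : S, c * g = g * c ∧ b = a * c) (y : X) :
    Cfsg.IsConjUnder (B.map Φ) (Φ g) y → Cfsg.IsConjUnder (A.map Φ) (Φ g) y := by
  rintro ⟨_, ⟨b, hb, rfl⟩, rfl⟩
  obtain ⟨a, ha, c, hc, rfl⟩ := h b hb
  refine ⟨Φ a, ⟨a, ha, rfl⟩, ?_⟩
  have h1 : c * g * c⁻¹ = g := by rw [hc, mul_inv_cancel_right]
  calc Φ (a * c) * Φ g * (Φ (a * c))⁻¹ = Φ (a * (c * g * c⁻¹) * a⁻¹) := by
        simp only [map_mul, map_inv, _root_.mul_inv_rev, mul_assoc]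
    _ = Φ a * Φ g * (Φ a)⁻¹ := by rw [h1]; simp only [map_mul, map_inv]

theorem isConjUnder_mono {X : Type*} [Group X] {H K : Subgroup X} (hHK : H ≤ K) (x y : X) :
    Cfsg.IsConjUnder H x y → Cfsg.IsConjUnder K x y := by
  rintro ⟨h, hh, rfl⟩
  exact ⟨h, hHK hh, rfl⟩

end abs

variable {F : Type u} [Field F] [Fintype F] {ι : Type} [Fintype ι] [DecidableEq ι]
  (Q : QuadraticForm F (ι → F))

variable (hQ : (QuadraticMap.polarBilin Q).Nondegenerate) (h2 : (2 : F) ≠ 0) (m : ℕ)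
  (hm : 4 ≤ m) (hcard : Fintype.card ι = 2 * m) (hne : ∃ v, Q v ≠ 0)

omit [Fintype F] in
theorem zS_comm (c : Fˣ) (g : ↥(Sim ⇑Q)) : zS Q c * g = g * zS Q c := by
  apply Subtype.ext
  rw [Subgroup.coe_mul, Subgroup.coe_mul]
  exact Matrix.GeneralLinearGroup.scalar_commute _ _

omit [Fintype F] in
theorem zS_mul (c d : Fˣ) : zS Q (c * d) = zS Q c * zS Q d := by
  apply Subtype.ext
  rw [Subgroup.coe_mul]
  show Matrix.GeneralLinearGroup.scalar ι (c * d) = _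
  rw [map_mul]
  rfl

omit [Fintype F] in
theorem zS_one : zS Q (1 : Fˣ) = 1 := by
  apply Subtype.ext
  show Matrix.GeneralLinearGroup.scalar ι (1 : Fˣ) = _
  rw [map_one]
  rfl

omit [Fintype F] in
theorem zS_pow (c : Fˣ) (n : ℕ) : zS Q (c ^ n) = zS Q c ^ n := by
  induction n with
  | zero => rw [pow_zero, pow_zero, zS_one]
  | succ n ih => rw [pow_succ, pow_succ, zS_mul, ih]

include hQ h2 hm hcard in
theorem Phi_zS (c : Fˣ) : Phi ⇑Q (zS Q c) = 1 := by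
  rw [← MonoidHom.mem_ker, ker_Phi_main Q hQ h2 m hm hcard, Subgroup.mem_subgroupOf]
  exact ⟨c, rfl⟩

include hQ h2 hm hcard hne in
/-- normalisation: an automorphism of odd order in the image of `Phi` is induced by an isometry
of the same order -/
theorem normalise (x : MulAut (Cfsg.POmega F ⇑Q)) (hx : x ∈ (Phi ⇑Q).range) (r : ℕ) (hodd : Odd r)
    (hxr : x ^ r = 1) :
    ∃ g : ↥(Sim ⇑Q), Phi ⇑Q g = x ∧ g.1 ∈ Cfsg.isometryGroup F ⇑Q ∧ g ^ r = 1 := by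
  obtain ⟨g₀, rfl⟩ := hx
  have hker : g₀ ^ r ∈ (Phi ⇑Q).ker := by rw [MonoidHom.mem_ker, map_pow, hxr]
  rw [ker_Phi_main Q hQ h2 m hm hcard, Subgroup.mem_subgroupOf] at hker
  obtain ⟨l, hl⟩ := hker
  have hl' : g₀ ^ r = zS Q l := Subtype.ext hl.symm
  obtain ⟨μ, hμ⟩ : ∃ μ : Fˣ, μ = mult (⇑Q) hne g₀ := ⟨_, rfl⟩
  have h1 : μ ^ r = l ^ 2 := by
    rw [hμ, ← map_pow, hl', mult_zS]
  obtain ⟨k, hk⟩ := hodd
  obtain ⟨ν, hν⟩ : ∃ ν : Fˣ, ν = l * (μ⁻¹) ^ k := ⟨_, rfl⟩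
  have hν2 : ν ^ 2 = μ := by
    rw [hν, mul_pow, ← h1, hk, ← pow_mul, inv_pow, pow_succ, mul_comm k 2]
    rw [mul_assoc, mul_comm μ, ← mul_assoc, mul_inv_cancel, one_mul]
  obtain ⟨g₁, hg₁⟩ : ∃ g₁ : ↥(Sim ⇑Q), g₁ = zS Q ν⁻¹ * g₀ := ⟨_, rfl⟩
  have hm1 : mult (⇑Q) hne g₁ = 1 := by
    rw [hg₁, map_mul, mult_zS, ← hμ, ← hν2, inv_pow, inv_mul_cancel]
  have hΦ1 : Phi ⇑Q g₁ = Phi ⇑Q g₀ := by
    rw [hg₁, map_mul, Phi_zS Q hQ h2 m hm hcard, one_mul]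
  have hpow1 : g₁ ^ r = zS Q (ν⁻¹ ^ r * l) := by
    rw [hg₁, (show Commute (zS Q ν⁻¹) g₀ from zS_comm Q ν⁻¹ g₀).mul_pow, hl', ← zS_pow, ← zS_mul]
  obtain ⟨ε, hε⟩ : ∃ ε : Fˣ, ε = ν⁻¹ ^ r * l := ⟨_, rfl⟩
  rw [← hε] at hpow1
  have hε2 : ε ^ 2 = 1 := by
    have := congrArg (mult (⇑Q) hne) hpow1
    rw [map_pow, hm1, one_pow, mult_zS] at this
    exact this.symm
  have hε' : ε = 1 ∨ ε = -1 := by
    have h3 : (ε : F) * (ε : F) = 1 := by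
      have := congrArg Units.val hε2
      rwa [Units.val_pow_eq_pow_val, Units.val_one, sq] at this
    rcases mul_self_eq_one_iff.1 h3 with h5 | h5
    · left; exact Units.ext h5
    · right; apply Units.ext; rw [h5]; simp
  rcases hε' with h5 | h5
  · refine ⟨g₁, hΦ1, (mult_eq_one_iff (⇑Q) hne g₁).1 hm1, ?_⟩
    rw [hpow1, h5, zS_one]
  · refine ⟨zS Q (-1) * g₁, ?_, ?_, ?_⟩
    · rw [map_mul, Phi_zS Q hQ h2 m hm hcard, one_mul, hΦ1]
    · apply (mult_eq_one_iff (⇑Q) hne _).1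
      rw [map_mul, mult_zS, hm1, mul_one]
      simp
    · rw [(show Commute (zS Q (-1)) g₁ from zS_comm Q (-1) g₁).mul_pow, hpow1, h5, ← zS_pow, ← zS_mul, hk]
      have : (-1 : Fˣ) ^ (2 * k + 1) * -1 = 1 := by
        rw [pow_succ, pow_mul]; simp
      rw [this, zS_one]

end

section

open Matrix Module Cfsg.Agent.Lib.H4 Cfsg.Agent.Lib.H13.HypPairs
open Cfsg.Agent.Lib.H11.ConfOrth Cfsg.Agent.Lib.H12.OrdO

universe u

variable {F : Type u} [Field F] [Fintype F] {ι : Type} [Fintype ι] [DecidableEq ι]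
  (Q : QuadraticForm F (ι → F))

variable (hQ : (QuadraticMap.polarBilin Q).Nondegenerate) (h2 : (2 : F) ≠ 0) (m : ℕ)
  (hm : 4 ≤ m) (hcard : Fintype.card ι = 2 * m) (hne : ∃ v, Q v ≠ 0)

include hQ h2 hm hcard in
/-- class fusion for automorphisms of odd prime order induced by similarities (general form) -/
theorem fusion_main (p : ℕ) [Fact p.Prime] [CharP F p]
    (s₀ : ↥(Sim ⇑Q)) (hs₀ : ¬ IsSquare (mult (⇑Q) hne s₀ : F)) (hd₀ : delta Q hne m s₀ = 1)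
    (x : MulAut (Cfsg.POmega F ⇑Q)) (hx : x ∈ (Phi ⇑Q).range) (r : ℕ) (hr : r.Prime) (hro : Odd r)
    (hrp : r ≠ p) (hxr : orderOf x = r) :
    (∀ y, Cfsg.IsConjUnder ((DD Q m hne).map (Phi ⇑Q)) x y →
      Cfsg.IsConjUnder (((Cfsg.Geo.omegaGL ⇑Q).subgroupOf (Sim ⇑Q)).map (Phi ⇑Q)) x y) ∧
    (∀ y, Cfsg.IsConjUnder ((⊤ : Subgroup ↥(Sim ⇑Q)).map (Phi ⇑Q)) x y →
      Cfsg.IsConjUnder (((Cfsg.isometryGroup F ⇑Q).subgroupOf (Sim ⇑Q)).map (Phi ⇑Q)) x y) := by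
  have hxr' : x ^ r = 1 := by rw [← hxr]; exact pow_orderOf_eq_one x
  obtain ⟨g, hgx, hgO, hgr⟩ := normalise Q hQ h2 m hm hcard hne x hx r hro hxr'
  have hglr : g.1 ^ r = 1 := by
    have := congrArg Subtype.val hgr
    rwa [Subgroup.coe_pow] at this
  have hcop : r.Coprime p := (Nat.coprime_primes hr (Fact.out : p.Prime)).2 hrp
  have hrF : (r : F) ≠ 0 := by
    rw [Ne, CharP.cast_eq_zero_iff F p]
    intro hd
    have := Nat.Coprime.eq_one_of_dvd hcop.symm hd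
    exact (Fact.out : p.Prime).one_lt.ne' this
  have hm1 : 1 ≤ m := by omega
  -- (A)
  obtain ⟨ν, hν⟩ : ∃ ν : Fˣ, ν = mult (⇑Q) hne s₀ := ⟨_, rfl⟩
  rw [← hν] at hs₀
  obtain ⟨c₁, hc₁sim, hc₁det, hc₁g⟩ := exists_similitude_comm Q p hQ h2 hcard g.1 hgO r hro hcop hglr
    s₀.1 (ν : F) (Units.ne_zero ν) (by intro v; rw [hν]; exact mult_spec (⇑Q) hne s₀ v)
    (by rw [hν]; exact (delta_eq_one_iff Q hne m s₀).1 hd₀)
  have hc₁mem : c₁ ∈ Sim ⇑Q := ⟨ν, hc₁sim⟩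
  obtain ⟨c₁S, hc₁S⟩ : ∃ c₁S : ↥(Sim ⇑Q), c₁S = ⟨c₁, hc₁mem⟩ := ⟨_, rfl⟩
  have hc₁mult : mult (⇑Q) hne c₁S = ν := by
    apply mult_eq
    intro v
    rw [hc₁S]
    exact hc₁sim v
  have hc₁delta : delta Q hne m c₁S = 1 := by
    rw [delta_eq_one_iff, hc₁mult, hc₁S]
    exact hc₁det
  have hc₁comm : c₁S * g = g * c₁S := by
    apply Subtype.ext
    rw [Subgroup.coe_mul, Subgroup.coe_mul, hc₁S]
    exact hc₁g
  -- (B)
  obtain ⟨c₂, hc₂so, hc₂om, hc₂g⟩ := exists_so_not_omega_comm Q hQ h2 hcard hm1 g.1 hgO r hro hglr hrF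
  have hc₂mem : c₂ ∈ Sim ⇑Q := sO_le_sim ⇑Q hc₂so
  obtain ⟨c₂S, hc₂S⟩ : ∃ c₂S : ↥(Sim ⇑Q), c₂S = ⟨c₂, hc₂mem⟩ := ⟨_, rfl⟩
  have hc₂comm : c₂S * g = g * c₂S := by
    apply Subtype.ext
    rw [Subgroup.coe_mul, Subgroup.coe_mul, hc₂S]
    exact hc₂g
  -- reduction to multiplier one
  have hstep : ∀ b : ↥(Sim ⇑Q), ∃ b₂ e : ↥(Sim ⇑Q), e * g = g * e ∧ b = b₂ * e ∧
      mult (⇑Q) hne b₂ = 1 ∧ delta Q hne m b₂ = delta Q hne m b := by
    intro b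
    have hkey : ∀ b₁ : ↥(Sim ⇑Q), IsSquare (mult (⇑Q) hne b₁ : F) →
        ∃ b₂ e : ↥(Sim ⇑Q), e * g = g * e ∧ b₁ = b₂ * e ∧
          mult (⇑Q) hne b₂ = 1 ∧ delta Q hne m b₂ = delta Q hne m b₁ := by
      intro b₁ hsq
      obtain ⟨t, ht⟩ := hsq
      have ht0 : t ≠ 0 := by
        intro h
        rw [h, mul_zero] at ht
        exact Units.ne_zero _ ht
      obtain ⟨τ, hτ⟩ : ∃ τ : Fˣ, τ = Units.mk0 t ht0 := ⟨_, rfl⟩
      have hτ2 : mult (⇑Q) hne b₁ = τ ^ 2 := by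
        apply Units.ext
        rw [ht, hτ, Units.val_pow_eq_pow_val, Units.val_mk0, sq]
      refine ⟨b₁ * (zS Q τ)⁻¹, zS Q τ, zS_comm Q τ g, by rw [inv_mul_cancel_right], ?_, ?_⟩
      · rw [map_mul, map_inv, mult_zS, hτ2, mul_inv_cancel]
      · rw [map_mul, map_inv, delta_zS Q hne m hcard, inv_one, mul_one]
    by_cases hsq : IsSquare (mult (⇑Q) hne b : F)
    · exact hkey b hsq
    · obtain ⟨b₂, e, he, hb, hm2, hd2⟩ := hkey (b * c₁S⁻¹) (by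
        rw [map_mul, map_inv, hc₁mult, Units.val_mul, Units.val_inv_eq_inv_val]
        apply Cfsg.Agent.Lib.H13.SOIndexTwo.isSquare_mul_of_not _ _ (Units.ne_zero _)
          (inv_ne_zero (Units.ne_zero ν)) hsq
        intro h
        apply hs₀
        have := h.inv
        rwa [inv_inv] at this)
      refine ⟨b₂, e * c₁S, ?_, ?_, hm2, ?_⟩
      · rw [mul_assoc, hc₁comm, ← mul_assoc, he, mul_assoc]
      · rw [← mul_assoc, ← hb, inv_mul_cancel_right]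
      · rw [hd2, map_mul, map_inv, hc₁delta, inv_one, mul_one]
  rw [← hgx]
  constructor
  · intro y
    apply fusion_abs
    intro b hb
    obtain ⟨b₂, e, he, hbe, hm2, hd2⟩ := hstep b
    have hb₂so : b₂.1 ∈ Cfsg.specialIsometryGL F ⇑Q := by
      rw [mem_sO_iff' Q hne m]
      refine ⟨hm2, ?_⟩
      rw [hd2]
      exact (mem_DD Q m hne b).1 hb
    by_cases hom : b₂.1 ∈ Cfsg.Geo.omegaGL ⇑Q
    · exact ⟨b₂, by rw [Subgroup.mem_subgroupOf]; exact hom, e, he, hbe⟩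
    · refine ⟨b₂ * c₂S⁻¹, ?_, c₂S * e, ?_, ?_⟩
      · rw [Subgroup.mem_subgroupOf, Subgroup.coe_mul, Subgroup.coe_inv, hc₂S]
        rw [mul_mem_omegaGL_iff Q hQ h2 (by omega) _ _ hb₂so (inv_mem hc₂so)]
        constructor
        · intro h; exact absurd h hom
        · intro h
          exfalso
          apply hc₂om
          have := inv_mem h
          rwa [inv_inv] at this
      · rw [mul_assoc, he, ← mul_assoc, hc₂comm, mul_assoc]
      · rw [← mul_assoc, inv_mul_cancel_right]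
        exact hbe
  · intro y
    apply fusion_abs
    intro b _
    obtain ⟨b₂, e, he, hbe, hm2, hd2⟩ := hstep b
    refine ⟨b₂, ?_, e, he, hbe⟩
    rw [Subgroup.mem_subgroupOf]
    exact (mult_eq_one_iff (⇑Q) hne b₂).1 hm2

end

section

open Matrix Module Cfsg.Agent.Lib.H4 Cfsg.Agent.Lib.H13.HypPairs
open Cfsg.Agent.Lib.H11.ConfOrth Cfsg.Agent.Lib.H12.OrdO Cfsg.Agent.Lib.H13

universe u

section gen

variable {F : Type u} [Field F] [Fintype F] {ι : Type} [Fintype ι] [DecidableEq ι]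
  (Q : QuadraticForm F (ι → F))

variable (hQ : (QuadraticMap.polarBilin Q).Nondegenerate) (h2 : (2 : F) ≠ 0) (m : ℕ)
  (hm : 4 ≤ m) (hcard : Fintype.card ι = 2 * m) (hne : ∃ v, Q v ≠ 0)

include hQ h2 hm hcard in
/-- the fusion statement in terms of the named subgroups, with `Inndiag` given as `DD.map Phi` -/
theorem fusion_named (p : ℕ) [Fact p.Prime] [CharP F p]
    (s₀ : ↥(Sim ⇑Q)) (hs₀ : ¬ IsSquare (mult (⇑Q) hne s₀ : F)) (hd₀ : delta Q hne m s₀ = 1)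
    (x : MulAut (Cfsg.POmega F ⇑Q)) (hx : x ∈ Cfsg.pgoAut F ⇑Q) (r : ℕ) (hr : r.Prime) (hro : Odd r)
    (hrp : r ≠ p) (hxr : orderOf x = r) :
    (∀ y : MulAut (Cfsg.POmega F ⇑Q),
      (Cfsg.IsConjUnder (Cfsg.Inn (Cfsg.POmega F ⇑Q)) x y ↔
        Cfsg.IsConjUnder ((DD Q m hne).map (Phi ⇑Q)) x y) ∧
      (Cfsg.IsConjUnder (Cfsg.psoAut F ⇑Q) x y ↔
        Cfsg.IsConjUnder ((DD Q m hne).map (Phi ⇑Q)) x y)) ∧
    (∀ y : MulAut (Cfsg.POmega F ⇑Q),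
      Cfsg.IsConjUnder (Cfsg.poAut F ⇑Q) x y ↔ Cfsg.IsConjUnder (Cfsg.pgoAut F ⇑Q) x y) := by
  rw [pgoAut_eq] at hx
  obtain ⟨h1, h3⟩ := fusion_main Q hQ h2 m hm hcard hne p s₀ hs₀ hd₀ x hx r hr hro hrp hxr
  have hle1 : Cfsg.Inn (Cfsg.POmega F ⇑Q) ≤ Cfsg.psoAut F ⇑Q :=
    inn_le_pso Q hQ h2 m hm hcard
  have hle2 : Cfsg.psoAut F ⇑Q ≤ (DD Q m hne).map (Phi ⇑Q) := by
    rw [psoAut_eq]
    apply Subgroup.map_mono
    intro g hg
    rw [Subgroup.mem_subgroupOf] at hg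
    exact (mem_DD Q m hne g).2 ((mem_sO_iff' Q hne m g).1 hg).2
  have hle3 : Cfsg.poAut F ⇑Q ≤ Cfsg.pgoAut F ⇑Q := by
    rw [poAut_eq, pgoAut_eq]
    exact Subgroup.map_le_range _ _
  refine ⟨fun y => ⟨⟨?_, ?_⟩, ⟨?_, ?_⟩⟩, fun y => ⟨?_, ?_⟩⟩
  · exact isConjUnder_mono (hle1.trans hle2) x y
  · intro h
    rw [inn_eq]
    exact h1 y h
  · exact isConjUnder_mono hle2 x y
  · intro h
    apply isConjUnder_mono hle1 x y
    rw [inn_eq]
    exact h1 y h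
  · exact isConjUnder_mono hle3 x y
  · intro h
    rw [poAut_eq]
    apply h3 y
    rw [pgoAut_eq, MonoidHom.range_eq_map] at h
    exact h

end gen

section plus

variable {F : Type u} [Field F] [Fintype F] {m : ℕ}

local notation "KK" => (Fin m ⊕ Fin m)

/-- S2720 (general statement) -/
theorem s2720 (p : ℕ) [Fact p.Prime] [CharP F p] (hp : p ≠ 2) (hm : 4 ≤ m)
    (Q₀ : (KK → F) → F) (hQ₀ : ⇑(plusQF F m) = Q₀)
    (x : MulAut (Cfsg.POmega F Q₀)) (hx : x ∈ Cfsg.pgoAut F Q₀) (r : ℕ) (hr : r.Prime)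
    (hro : Odd r) (hrp : r ≠ p) (hxr : orderOf x = r)
    (A : Subgroup (MulAut (Cfsg.POmega F Q₀)))
    (hA : A = Cfsg.autSubgroupOf (fun β : Cfsg.POmega F Q₀ ≃* Cfsg.POmega F Q₀ =>
      ∃ g : GL KK F, g ∈ Cfsg.Geo.quadSimilarityGroup (F := F) Q₀ ∧
        Cfsg.PreservesSingularClasses Q₀ (g : Matrix KK KK F) ∧
        Cfsg.IsInducedBySemilinearPOmega Q₀ g (RingEquiv.refl F) β)) :
    (∀ y : MulAut (Cfsg.POmega F Q₀),
      (Cfsg.IsConjUnder (Cfsg.Inn (Cfsg.POmega F Q₀)) x y ↔ Cfsg.IsConjUnder A x y) ∧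
      (Cfsg.IsConjUnder (Cfsg.psoAut F Q₀) x y ↔ Cfsg.IsConjUnder A x y)) ∧
    (∀ y : MulAut (Cfsg.POmega F Q₀),
      Cfsg.IsConjUnder (Cfsg.poAut F Q₀) x y ↔ Cfsg.IsConjUnder (Cfsg.pgoAut F Q₀) x y) := by
  subst hQ₀
  have h2 : (2 : F) ≠ 0 := by
    intro h
    have h3 : ((2 : ℕ) : F) = 0 := by exact_mod_cast h
    rw [CharP.cast_eq_zero_iff F p] at h3
    have := (Nat.prime_dvd_prime_iff_eq (Fact.out : p.Prime) Nat.prime_two).1 h3
    exact hp this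
  have hQ : (QuadraticMap.polarBilin (plusQF F m)).Nondegenerate :=
    Cfsg.Agent.S0287.nondeg (F := F) m
  have hcard : Fintype.card KK = 2 * m := card_plus
  have hne := exists_ne_of_nondeg (plusQF F m) hQ (by rw [hcard]; omega)
  rw [AutPO.inndiag_plus_eq_odd h2 hne] at hA
  subst hA
  obtain ⟨ν, hν⟩ := exists_nonsquare_unit (F := F) h2
  exact fusion_named (plusQF F m) hQ h2 m hm hcard hne p ⟨dPlus ν, dPlus_mem ν⟩
    (by rw [dPlus_mult]; exact hν) (dPlus_delta hne ν) x hx r hr hro hrp hxr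

end plus

section minus

variable {F : Type u} [Field F] [Fintype F] {m : ℕ}

local notation "IM" => ((Fin m ⊕ Fin m) ⊕ Fin 2)

/-- S2721 (general statement) -/
theorem s2721 (p : ℕ) [Fact p.Prime] [CharP F p] (hp : p ≠ 2) (hm : 3 ≤ m) (a b : F)
    (hab : ∀ z₁ z₂ : F, z₁ ^ 2 + a * z₁ * z₂ + b * z₂ ^ 2 = 0 → z₁ = 0 ∧ z₂ = 0)
    (Q₀ : (IM → F) → F) (hQ₀ : ⇑(minusQF F m a b) = Q₀)
    (x : MulAut (Cfsg.POmega F Q₀)) (hx : x ∈ Cfsg.pgoAut F Q₀) (r : ℕ) (hr : r.Prime)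
    (hro : Odd r) (hrp : r ≠ p) (hxr : orderOf x = r)
    (A : Subgroup (MulAut (Cfsg.POmega F Q₀)))
    (hA : A = Cfsg.autSubgroupOf (fun β : Cfsg.POmega F Q₀ ≃* Cfsg.POmega F Q₀ =>
      ∃ g : GL IM F, g ∈ Cfsg.Geo.quadSimilarityGroup (F := F) Q₀ ∧
        Cfsg.PreservesSingularClassesMinus m a b (g : Matrix IM IM F) ∧
        Cfsg.IsInducedBySemilinearPOmega Q₀ g (RingEquiv.refl F) β)) :
    (∀ y : MulAut (Cfsg.POmega F Q₀),
      (Cfsg.IsConjUnder (Cfsg.Inn (Cfsg.POmega F Q₀)) x y ↔ Cfsg.IsConjUnder A x y) ∧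
      (Cfsg.IsConjUnder (Cfsg.psoAut F Q₀) x y ↔ Cfsg.IsConjUnder A x y)) ∧
    (∀ y : MulAut (Cfsg.POmega F Q₀),
      Cfsg.IsConjUnder (Cfsg.poAut F Q₀) x y ↔ Cfsg.IsConjUnder (Cfsg.pgoAut F Q₀) x y) := by
  subst hQ₀
  have h2 : (2 : F) ≠ 0 := by
    intro h
    have h3 : ((2 : ℕ) : F) = 0 := by exact_mod_cast h
    rw [CharP.cast_eq_zero_iff F p] at h3
    have := (Nat.prime_dvd_prime_iff_eq (Fact.out : p.Prime) Nat.prime_two).1 h3
    exact hp this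
  have hQ : (QuadraticMap.polarBilin (minusQF F m a b)).Nondegenerate :=
    Cfsg.Agent.S0288.nondeg (F := F) a b hab m
  have hcard : Fintype.card IM = 2 * (m + 1) := card_minus
  have hne := exists_ne_of_nondeg (minusQF F m a b) hQ (by rw [hcard]; omega)
  rw [AutPO.inndiag_eq_odd h2 a b hab hne] at hA
  subst hA
  obtain ⟨ν, hν⟩ := exists_nonsquare_unit (F := F) h2
  obtain ⟨c₁, c₂, hc⟩ := exists_binary_eq h2 a b hab (ν : F)
  exact fusion_named (minusQF F m a b) hQ h2 (m + 1) (by omega) hcard hne p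
    ⟨dMinus a b ν c₁ c₂ hc, dMinus_mem a b ν c₁ c₂ hc⟩
    (by rw [dMinus_mult]; exact hν) (dMinus_delta a b hne ν c₁ c₂ hc) x hx r hr hro hrp hxr

end minus

end

end Cfsg.Agent.Lib.H13.OFus
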