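import Cfsg.Agent.Lib.H13.SpInvolCount
import Cfsg.Agent.Lib.H13.InvolConj
import Cfsg.Agent.Lib.H13.InvolOmega

set_option autoImplicit false

namespace Cfsg.Agent.Lib.H13.OInvol

open Module Matrix QuadraticMap
open Cfsg.Agent.Lib.H13.SpInvol Cfsg.Agent.Lib.H13.SpInvolCount
open Cfsg.Agent.Lib.H11.OrthStep Cfsg.Agent.Lib.H13.Char2Mat

section abstract

variable {F V : Type*} [Field F] [CharP F 2] [AddCommGroup V] [Module F V] (Q : QuadraticForm F V)

theorem polarBilin_alt : (polarBilin Q).IsAlt := by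
  intro x
  rw [polarBilin_apply_apply]
  exact Char2Gen.polar_self_zero Q x

theorem Q_sum_orth {κ : Type*} (S : Finset κ) (v : κ → V)
    (hv : ∀ i j, polar (⇑Q) (v i) (v j) = 0) : Q (∑ i ∈ S, v i) = ∑ i ∈ S, Q (v i) := by
  classical
  induction S using Finset.induction_on with
  | empty => simp
  | insert a S ha ih =>
    rw [Finset.sum_insert ha, Finset.sum_insert ha, Char2Gen.Q_add', ih]
    have : polar (⇑Q) (v a) (∑ i ∈ S, v i) = 0 := by
      have h1 := map_sum (polarBilin Q (v a)) v S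
      simp only [polarBilin_apply_apply] at h1
      rw [h1]
      exact Finset.sum_eq_zero (fun i _ => hv a i)
    rw [this, add_zero]

variable {ι : Type*} [Fintype ι] {t : V →ₗ[F] V}

/-- a normal form of type `b`/`c` with vectors of norm one preserves `Q` -/
theorem Q_nf_id {w : ι → V} (hw1 : ∀ i, Q (w i) = 1) (h : IsNF (polarBilin Q) t id w) (y : V) :
    Q (t y) = Q y := by
  rw [h.eq, Char2Gen.Q_add', Q_sum_orth]
  · have h1 := map_sum (polarBilin Q y) (fun i => (polarBilin Q y (w (id i))) • w i) Finset.univ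
    simp only [polarBilin_apply_apply] at h1
    simp only [polarBilin_apply_apply]
    rw [h1, add_assoc, ← Finset.sum_add_distrib]
    have : ∀ i, Q (polar (⇑Q) y (w (id i)) • w i) +
        polar (⇑Q) y (polar (⇑Q) y (w (id i)) • w i) = 0 := by
      intro i
      rw [QuadraticMap.map_smul, polar_smul_right, hw1, id, smul_eq_mul, smul_eq_mul, mul_one]
      exact Char2Gen.add_self_zero F _
    rw [Finset.sum_eq_zero (fun i _ => this i), add_zero]
  · intro i j
    rw [polar_smul_left, polar_smul_right]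
    have := h.iso i j
    rw [polarBilin_apply_apply] at this
    rw [this, smul_zero, smul_zero]

/-- a normal form of type `a` with singular vectors preserves `Q` -/
theorem Q_nf_swap {κ : Type*} [Fintype κ] {w : κ ⊕ κ → V} (hw0 : ∀ i, Q (w i) = 0)
    (h : IsNF (polarBilin Q) t Sum.swap w) (y : V) : Q (t y) = Q y := by
  have halt := h.alt_swap (polarBilin_alt Q) y
  rw [h.eq, map_add, polarBilin_alt Q y, zero_add, polarBilin_apply_apply] at halt
  rw [h.eq, Char2Gen.Q_add', halt, add_zero, Q_sum_orth]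
  · have : ∀ i, Q ((polarBilin Q y (w (Sum.swap i))) • w i) = 0 := by
      intro i
      rw [QuadraticMap.map_smul, hw0, smul_zero]
    rw [Finset.sum_eq_zero (fun i _ => this i), add_zero]
  · intro i j
    rw [polar_smul_left, polar_smul_right]
    have := h.iso i j
    rw [polarBilin_apply_apply] at this
    rw [this, smul_zero, smul_zero]

/-- for an isometry `t`, `Q (t y - y) = f(y, t y)` -/
theorem Q_sub_eq (t : V →ₗ[F] V) (hQ : ∀ y, Q (t y) = Q y) (y : V) :
    Q (t y - y) = polar (⇑Q) y (t y) := by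
  rw [Char2Gen.sub_eq_add' F, Char2Gen.Q_add', hQ, Char2Gen.add_self_zero F, zero_add, polar_comm]

end abstract

section matrix

variable {F : Type*} [Field F] [Finite F] [CharP F 2] {ι : Type} [Fintype ι] [DecidableEq ι]
  (Q : QuadraticForm F (ι → F))

set_option quotPrecheck false in
local notation "OO" => ↥(Cfsg.isometryGroup F ⇑Q)

set_option quotPrecheck false in
local notation "MM" => Matrix ι ι F

theorem iso_apply (t : OO) (x : ι → F) : Q (((t : GL ι F) : MM) *ᵥ x) = Q x :=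
  (Cfsg.Agent.Lib.H11.IsoReindex.mem_iso_iff' _ _).mp t.2 x

theorem val_mul_self (t : OO) (ht : t * t = 1) : ((t : GL ι F) : MM) * ((t : GL ι F) : MM) = 1 := by
  have := congrArg (fun x : OO => ((x : GL ι F) : MM)) ht
  simpa using this

theorem toLin_sq (t : OO) (ht : t * t = 1) (y : ι → F) :
    Matrix.toLin' ((t : GL ι F) : MM) (Matrix.toLin' ((t : GL ι F) : MM) y) = y := by
  rw [Matrix.toLin'_apply, Matrix.toLin'_apply, Matrix.mulVec_mulVec, val_mul_self Q t ht,
    Matrix.one_mulVec]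

theorem toLin_iso (t : OO) (x y : ι → F) :
    polarBilin Q (Matrix.toLin' ((t : GL ι F) : MM) x) (Matrix.toLin' ((t : GL ι F) : MM) y) =
      polarBilin Q x y := by
  rw [polarBilin_apply_apply, polarBilin_apply_apply, Matrix.toLin'_apply, Matrix.toLin'_apply]
  unfold polar
  rw [← Matrix.mulVec_add, iso_apply, iso_apply, iso_apply]

theorem toLin_sub_id (T : MM) :
    Matrix.toLin' T - (LinearMap.id : (ι → F) →ₗ[F] (ι → F)) = Matrix.toLin' (T - 1) := by
  rw [map_sub, Matrix.toLin'_one]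

theorem rank_eq (T : MM) :
    (T - 1).rank = finrank F ↥(LinearMap.range (Matrix.toLin' T -
      (LinearMap.id : (ι → F) →ₗ[F] (ι → F)))) := by
  rw [toLin_sub_id, Matrix.toLin'_apply']
  rfl

/-- complete invariants for involutions of `O(Q)` -/
theorem isConj_of_invariants (hQ : (polarBilin Q).Nondegenerate) (t t' : OO)
    (ht : t * t = 1) (ht' : t' * t' = 1)
    (hrank : (((t : GL ι F) : MM) - 1).rank = (((t' : GL ι F) : MM) - 1).rank)
    (ha : (∀ v, polar (⇑Q) v (((t : GL ι F) : MM) *ᵥ v) = 0) ↔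
      (∀ v, polar (⇑Q) v (((t' : GL ι F) : MM) *ᵥ v) = 0)) :
    IsConj t t' := by
  obtain ⟨g, hg, hgt⟩ := conj_of_invariants hQ (polarBilin_alt Q)
    (Matrix.toLin' ((t : GL ι F) : MM)) (Matrix.toLin' ((t' : GL ι F) : MM))
    (toLin_sq Q t ht) (toLin_iso Q t) (toLin_sq Q t' ht') (toLin_iso Q t')
    (by rw [← rank_eq, ← rank_eq]; exact hrank)
    (by simp only [polarBilin_apply_apply, Matrix.toLin'_apply]; exact ha)
  rw [InvolConj.isConj_iff_polar_conj Q hQ]
  refine ⟨glOfEquiv g, ?_, ?_⟩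
  · intro u v
    show polar (⇑Q) ((glOfEquiv g).1 *ᵥ u) ((glOfEquiv g).1 *ᵥ v) = polar (⇑Q) u v
    rw [glOfEquiv_mulVec, glOfEquiv_mulVec]
    have := hg u v
    rwa [polarBilin_apply_apply, polarBilin_apply_apply] at this
  · rw [mul_inv_eq_iff_eq_mul]
    apply Units.ext
    show (glOfEquiv g).1 * ((t : GL ι F) : MM) = ((t' : GL ι F) : MM) * (glOfEquiv g).1
    apply Matrix.ext_iff_mulVec.mpr
    intro x
    rw [← Matrix.mulVec_mulVec, ← Matrix.mulVec_mulVec, glOfEquiv_mulVec, glOfEquiv_mulVec]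
    have := hgt x
    rw [Matrix.toLin'_apply, Matrix.toLin'_apply] at this
    exact this

/-- invariance of the invariants under conjugacy -/
theorem invariants_of_isConj (t t' : OO) (h : IsConj t t') :
    (((t : GL ι F) : MM) - 1).rank = (((t' : GL ι F) : MM) - 1).rank ∧
    ((∀ v, polar (⇑Q) v (((t : GL ι F) : MM) *ᵥ v) = 0) ↔
      (∀ v, polar (⇑Q) v (((t' : GL ι F) : MM) *ᵥ v) = 0)) := by
  have key : ∀ a b : OO, IsConj a b →
      (((b : GL ι F) : MM) - 1).rank ≤ (((a : GL ι F) : MM) - 1).rank ∧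
      ((∀ v, polar (⇑Q) v (((a : GL ι F) : MM) *ᵥ v) = 0) →
      (∀ v, polar (⇑Q) v (((b : GL ι F) : MM) *ᵥ v) = 0)) := by
    intro a b hab
    obtain ⟨c, hc⟩ := isConj_iff.mp hab
    have hb : ((b : GL ι F) : MM) = ((c : GL ι F) : MM) * ((a : GL ι F) : MM) *
        (((c⁻¹ : OO) : GL ι F) : MM) := by
      rw [← hc]; rfl
    have hcc : ((c : GL ι F) : MM) * (((c⁻¹ : OO) : GL ι F) : MM) = 1 := by
      rw [← Units.val_mul, ← Subgroup.coe_mul, mul_inv_cancel]
      rfl
    constructor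
    · have : ((b : GL ι F) : MM) - 1 = ((c : GL ι F) : MM) * (((a : GL ι F) : MM) - 1) *
          (((c⁻¹ : OO) : GL ι F) : MM) := by
        rw [mul_sub, sub_mul, mul_one, hcc, hb]
      rw [this]
      exact le_trans (Matrix.rank_mul_le_left _ _) (Matrix.rank_mul_le_right _ _)
    · intro ha v
      have h1 := ha ((((c⁻¹ : OO) : GL ι F) : MM) *ᵥ v)
      have h2 : polar (⇑Q) (((c : GL ι F) : MM) *ᵥ ((((c⁻¹ : OO) : GL ι F) : MM) *ᵥ v))
          (((c : GL ι F) : MM) *ᵥ (((a : GL ι F) : MM) *ᵥ ((((c⁻¹ : OO) : GL ι F) : MM) *ᵥ v))) =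
          polar (⇑Q) ((((c⁻¹ : OO) : GL ι F) : MM) *ᵥ v)
            (((a : GL ι F) : MM) *ᵥ ((((c⁻¹ : OO) : GL ι F) : MM) *ᵥ v)) := by
        have := toLin_iso Q c ((((c⁻¹ : OO) : GL ι F) : MM) *ᵥ v)
          (((a : GL ι F) : MM) *ᵥ ((((c⁻¹ : OO) : GL ι F) : MM) *ᵥ v))
        rw [polarBilin_apply_apply, polarBilin_apply_apply, Matrix.toLin'_apply,
          Matrix.toLin'_apply] at this
        exact this
      rw [h1] at h2
      rw [hb, ← h2, Matrix.mulVec_mulVec, Matrix.mulVec_mulVec, Matrix.mulVec_mulVec, hcc,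
        Matrix.one_mulVec]
  obtain ⟨h1, h2⟩ := key t t' h
  obtain ⟨h3, h4⟩ := key t' t h.symm
  exact ⟨le_antisymm h3 h1, h2, h4⟩

/-- the possible invariants -/
theorem invariants_range (hQ : (polarBilin Q).Nondegenerate) (t : OO) (ht : t * t = 1)
    (ht1 : t ≠ 1) :
    1 ≤ (((t : GL ι F) : MM) - 1).rank ∧ 2 * (((t : GL ι F) : MM) - 1).rank ≤ Fintype.card ι ∧
    ((∀ v, polar (⇑Q) v (((t : GL ι F) : MM) *ᵥ v) = 0) →
      Even (((t : GL ι F) : MM) - 1).rank ∧
      ∀ u ∈ LinearMap.range (Matrix.mulVecLin (((t : GL ι F) : MM) - 1)), Q u = 0) := by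
  have hne : Matrix.toLin' ((t : GL ι F) : MM) ≠ LinearMap.id := by
    intro h
    apply ht1
    apply Subtype.ext
    apply Units.ext
    apply Matrix.toLin'.injective
    rw [h]
    exact Matrix.toLin'_one.symm
  obtain ⟨h1, h2, h3⟩ := SpInvol.invariants_range hQ (polarBilin_alt Q)
    (Matrix.toLin' ((t : GL ι F) : MM)) (toLin_sq Q t ht) (toLin_iso Q t) hne
  rw [← rank_eq, Module.finrank_fintype_fun_eq_card] at h2
  rw [← rank_eq] at h1 h3
  refine ⟨h1, h2, ?_⟩
  intro ha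
  refine ⟨?_, ?_⟩
  · apply h3
    intro y
    rw [polarBilin_apply_apply, Matrix.toLin'_apply]
    exact ha y
  · rintro _ ⟨y, rfl⟩
    rw [Matrix.mulVecLin_apply, Matrix.sub_mulVec, Matrix.one_mulVec]
    have := Q_sub_eq Q (Matrix.toLin' ((t : GL ι F) : MM))
      (fun y => by rw [Matrix.toLin'_apply]; exact iso_apply Q t y) y
    rw [Matrix.toLin'_apply] at this
    rw [this]
    exact ha y

/-- an involution in normal form preserving `Q` gives an element of `O(Q)` -/
theorem exists_of_isNF (hQ : (polarBilin Q).Nondegenerate) {κ : Type*} [Fintype κ] (σ : κ → κ)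
    (hσ : Function.Involutive σ) (w : κ → (ι → F)) (hw : LinearIndependent F w)
    (hiso : ∀ i j, polar (⇑Q) (w i) (w j) = 0)
    (hpres : ∀ y, Q (nfMap (polarBilin Q) σ w y) = Q y) :
    ∃ T : OO, T * T = 1 ∧ (((T : GL ι F) : MM) - 1).rank = Fintype.card κ ∧
      IsNF (polarBilin Q) (Matrix.toLin' ((T : GL ι F) : MM)) σ w := by
  have hnf := nfMap_isNF (f := polarBilin Q) σ w hw
    (fun i j => by rw [polarBilin_apply_apply]; exact hiso i j)
  let e : (ι → F) ≃ₗ[F] (ι → F) := LinearEquiv.ofLinearMap (nfMap (polarBilin Q) σ w)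
    (nfMap (polarBilin Q) σ w) (LinearMap.ext fun x => hnf.sq x)
    (LinearMap.ext fun x => hnf.sq x)
  have he : ∀ x, e x = nfMap (polarBilin Q) σ w x := fun x => rfl
  have hmem : glOfEquiv e ∈ Cfsg.isometryGroup F ⇑Q := by
    rw [Cfsg.Agent.Lib.H11.IsoReindex.mem_iso_iff']
    intro x
    rw [glOfEquiv_mulVec, he]
    exact hpres x
  have hlin : Matrix.toLin' (glOfEquiv e).1 = nfMap (polarBilin Q) σ w := by
    apply LinearMap.ext
    intro x
    rw [Matrix.toLin'_apply, glOfEquiv_mulVec, he]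
  refine ⟨⟨glOfEquiv e, hmem⟩, ?_, ?_, ?_⟩
  · apply Subtype.ext
    apply Units.ext
    show (glOfEquiv e).1 * (glOfEquiv e).1 = 1
    apply Matrix.ext_iff_mulVec.mpr
    intro x
    rw [← Matrix.mulVec_mulVec, glOfEquiv_mulVec, glOfEquiv_mulVec, he, he, hnf.sq,
      Matrix.one_mulVec]
  · show ((glOfEquiv e).1 - 1).rank = _
    rw [rank_eq, hlin]
    exact hnf.finrank_range hQ (polarBilin_alt Q) hσ
  · show IsNF (polarBilin Q) (Matrix.toLin' (glOfEquiv e).1) σ w
    rw [hlin]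
    exact hnf

/-- generic count of involution classes in `O(Q)` from realization data -/
theorem card_involution_classes (hQ : (polarBilin Q).Nondegenerate) (A B : ℕ)
    (h1 : ∀ t : OO, t * t = 1 → t ≠ 1 → (((t : GL ι F) : MM) - 1).rank ≤ A)
    (h2 : ∀ t : OO, t * t = 1 → t ≠ 1 →
      (∀ v, polar (⇑Q) v (((t : GL ι F) : MM) *ᵥ v) = 0) →
      (((t : GL ι F) : MM) - 1).rank ≤ 2 * B)
    (rep_id : ∀ s, 1 ≤ s → s ≤ A → ∃ T : OO, T * T = 1 ∧ (((T : GL ι F) : MM) - 1).rank = s ∧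
      ¬ ∀ v, polar (⇑Q) v (((T : GL ι F) : MM) *ᵥ v) = 0)
    (rep_swap : ∀ r, 1 ≤ r → r ≤ B → ∃ T : OO, T * T = 1 ∧
      (((T : GL ι F) : MM) - 1).rank = 2 * r ∧
      ∀ v, polar (⇑Q) v (((T : GL ι F) : MM) *ᵥ v) = 0) :
    Nat.card {C : ConjClasses OO // ∃ g : OO, ConjClasses.mk g = C ∧ orderOf g = 2} = A + B := by
  classical
  have hb : ∀ i : Fin A, 1 ≤ (i : ℕ) + 1 ∧ (i : ℕ) + 1 ≤ A := fun i => ⟨by omega, by omega⟩
  have ha : ∀ j : Fin B, 1 ≤ (j : ℕ) + 1 ∧ (j : ℕ) + 1 ≤ B := fun j => ⟨by omega, by omega⟩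
  let rep : Fin A ⊕ Fin B → OO := fun τ =>
    match τ with
    | .inl i => Classical.choose (rep_id ((i : ℕ) + 1) (hb i).1 (hb i).2)
    | .inr j => Classical.choose (rep_swap ((j : ℕ) + 1) (ha j).1 (ha j).2)
  have hrepb : ∀ i : Fin A, rep (.inl i) * rep (.inl i) = 1 ∧
      (((rep (.inl i) : GL ι F) : MM) - 1).rank = (i : ℕ) + 1 ∧
      ¬ ∀ v, polar (⇑Q) v (((rep (.inl i) : GL ι F) : MM) *ᵥ v) = 0 := fun i =>
    Classical.choose_spec (rep_id ((i : ℕ) + 1) (hb i).1 (hb i).2)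
  have hrepa : ∀ j : Fin B, rep (.inr j) * rep (.inr j) = 1 ∧
      (((rep (.inr j) : GL ι F) : MM) - 1).rank = 2 * ((j : ℕ) + 1) ∧
      ∀ v, polar (⇑Q) v (((rep (.inr j) : GL ι F) : MM) *ᵥ v) = 0 := fun j =>
    Classical.choose_spec (rep_swap ((j : ℕ) + 1) (ha j).1 (ha j).2)
  have hne1 : ∀ T : OO, 1 ≤ (((T : GL ι F) : MM) - 1).rank → T ≠ 1 := by
    intro T hT h1
    rw [h1] at hT
    have : ((((1 : OO) : GL ι F) : MM) - 1) = 0 := by
      show (1 : MM) - 1 = 0
      exact sub_self _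
    rw [this, Matrix.rank_zero] at hT
    omega
  have key := card_classes (G := OO) (fun g => orderOf g = 2) rep ?_ ?_ ?_
  · rw [key, Nat.card_eq_fintype_card, Fintype.card_sum, Fintype.card_fin, Fintype.card_fin]
  · intro τ
    rw [orderOf_two_iff]
    rcases τ with i | j
    · exact ⟨(hrepb i).1, hne1 _ (by rw [(hrepb i).2.1]; omega)⟩
    · exact ⟨(hrepa j).1, hne1 _ (by rw [(hrepa j).2.1]; omega)⟩
  · intro τ τ' hconj
    obtain ⟨h1', h2'⟩ := invariants_of_isConj Q _ _ hconj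
    rcases τ with i | j <;> rcases τ' with i' | j'
    · rw [(hrepb i).2.1, (hrepb i').2.1] at h1'
      congr 1
      apply Fin.ext
      omega
    · exact absurd (h2'.mpr (hrepa j').2.2) (hrepb i).2.2
    · exact absurd (h2'.mp (hrepa j).2.2) (hrepb i').2.2
    · rw [(hrepa j).2.1, (hrepa j').2.1] at h1'
      congr 1
      apply Fin.ext
      omega
  · intro g hg
    rw [orderOf_two_iff] at hg
    obtain ⟨hg2, hg1⟩ := hg
    obtain ⟨h1', -, h3'⟩ := invariants_range Q hQ g hg2 hg1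
    by_cases halt : ∀ v, polar (⇑Q) v (((g : GL ι F) : MM) *ᵥ v) = 0
    · obtain ⟨r, hr⟩ := (h3' halt).1
      have hle := h2 g hg2 hg1 halt
      have hr1 : 1 ≤ r := by omega
      have hrm : r - 1 < B := by omega
      refine ⟨.inr ⟨r - 1, hrm⟩, ?_⟩
      apply isConj_of_invariants Q hQ g _ hg2 (hrepa _).1
      · rw [(hrepa _).2.1]
        show _ = 2 * (r - 1 + 1)
        omega
      · exact ⟨fun _ => (hrepa _).2.2, fun _ => halt⟩
    · have hle := h1 g hg2 hg1
      have hsm : (((g : GL ι F) : MM) - 1).rank - 1 < A := by omega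
      refine ⟨.inl ⟨(((g : GL ι F) : MM) - 1).rank - 1, hsm⟩, ?_⟩
      apply isConj_of_invariants Q hQ g _ hg2 (hrepb _).1
      · rw [(hrepb _).2.1]
        show _ = (((g : GL ι F) : MM) - 1).rank - 1 + 1
        omega
      · exact ⟨fun h => absurd h halt, fun h => absurd h (hrepb _).2.2⟩

end matrix

end Cfsg.Agent.Lib.H13.OInvol
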