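/-
S2345 piece ALT (architect helper12): the usual description of the alternating matrices `Alt n F`.
-/
import Mathlib
import Cfsg.Agent.Lib.H12.OPMinDefs

set_option autoImplicit false

namespace Cfsg.Agent.Lib.H13.OPMin

open Matrix Cfsg.Agent.Lib.H12.OPMin

variable {F : Type*} [Field F]

theorem mem_Alt_iff {n : ℕ} (S : Matrix (Fin n) (Fin n) F) :
    S ∈ Alt n F ↔ Sᵀ = -S ∧ ∀ i, S i i = 0 := by
  constructor
  · intro h
    exact ⟨transpose_of_mem h, diag_of_mem h⟩
  · rintro ⟨h1, h2⟩
    refine mem_Alt.2 ⟨Matrix.of fun i j => if i < j then S i j else 0, ?_⟩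
    ext i j
    have h3 : S j i = -S i j := by
      have := congrFun (congrFun h1 i) j
      simpa using this
    rw [Matrix.sub_apply, Matrix.transpose_apply, Matrix.of_apply, Matrix.of_apply]
    rcases lt_trichotomy i j with h | h | h
    · rw [if_pos h, if_neg (not_lt.2 h.le), sub_zero]
    · subst h
      rw [if_neg (lt_irrefl _), sub_zero, h2]
    · rw [if_neg (not_lt.2 h.le), if_pos h, h3, zero_sub, neg_neg]

end Cfsg.Agent.Lib.H13.OPMin
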