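import Cfsg.Agent.Lib.H13.OmegaInvol

set_option autoImplicit false

namespace Cfsg.Agent.Lib.H13.OmegaCentr

open Module Matrix QuadraticMap
open Cfsg.Agent.Lib.H13 Cfsg.Agent.Lib.H13.HypPairs

variable {F : Type*} [Field F] [Fintype F] [CharP F 2] {ι : Type} [Fintype ι] [DecidableEq ι]
  (Q : QuadraticForm F (ι → F))

set_option quotPrecheck false in
local notation "OO" => ↥(Cfsg.isometryGroup F ⇑Q)

set_option quotPrecheck false in
local notation "MM" => Matrix ι ι F

/-- a reflection in a fixed vector commutes -/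
theorem refl_comm (x : OO) (v : ι → F) (hv : Q v ≠ 0) (hxv : ((x : GL ι F) : MM) *ᵥ v = v) :
    reflG Q v hv * x = x * reflG Q v hv := by
  have hv' : Q (((x : GL ι F) : MM) *ᵥ v) ≠ 0 := by rw [hxv]; exact hv
  have hcomm : x * reflG Q v hv * x⁻¹ = reflG Q v hv := by
    rw [Dickson.conj_reflG Q x v hv hv']
    congr 1
  have h3 := congrArg (fun z => z * x) hcomm
  simp only [inv_mul_cancel_right] at h3
  exact h3.symm

/-- if the centraliser contains a reflection, `Ω` meets it in a subgroup of index two -/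
theorem card_centralizer_eq_two_mul (hQ : (polarBilin Q).Nondegenerate)
    (h : Nat.card F ≠ 2 ∨ Fintype.card ι ≠ 4) (x : OO) (v : ι → F) (hv : Q v ≠ 0)
    (hxv : ((x : GL ι F) : MM) *ᵥ v = v) :
    Nat.card ↥(Subgroup.centralizer ({x} : Set OO)) =
      2 * Nat.card {g : ↥(Cfsg.Omega F ⇑Q) // (g : OO) * x = x * (g : OO)} := by
  classical
  have hr := refl_comm Q x v hv hxv
  have hr2 := Char2Omega.reflG_mul_self' Q v hv
  have hrn := Char2Omega.refl_not_mem Q hQ v hv
  rw [two_mul, ← Nat.card_sum]
  symm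
  apply Nat.card_eq_of_bijective
    (fun p : {g : ↥(Cfsg.Omega F ⇑Q) // (g : OO) * x = x * (g : OO)} ⊕
        {g : ↥(Cfsg.Omega F ⇑Q) // (g : OO) * x = x * (g : OO)} =>
      (Sum.elim
        (fun g => (⟨(g.1 : OO), by
          rw [Subgroup.mem_centralizer_iff]
          intro s hs
          rw [Set.mem_singleton_iff] at hs
          rw [hs]; exact g.2.symm⟩ : ↥(Subgroup.centralizer ({x} : Set OO))))
        (fun g => (⟨reflG Q v hv * (g.1 : OO), by
          rw [Subgroup.mem_centralizer_iff]
          intro s hs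
          rw [Set.mem_singleton_iff] at hs
          rw [hs, ← mul_assoc, ← hr, mul_assoc, mul_assoc, g.2]⟩ :
            ↥(Subgroup.centralizer ({x} : Set OO)))) p))
  constructor
  · rintro (a | a) (b | b) hab
    · simp only [Sum.elim_inl] at hab
      have := congrArg Subtype.val hab
      simp only at this
      congr 1
      exact Subtype.ext (Subtype.ext this)
    · exfalso
      simp only [Sum.elim_inl, Sum.elim_inr] at hab
      have := congrArg Subtype.val hab
      simp only at this
      apply hrn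
      have h1 : reflG Q v hv = (a.1 : OO) * (b.1 : OO)⁻¹ := by
        rw [this, mul_inv_cancel_right]
      rw [h1]
      exact (Cfsg.Omega F ⇑Q).mul_mem a.1.2 ((Cfsg.Omega F ⇑Q).inv_mem b.1.2)
    · exfalso
      simp only [Sum.elim_inl, Sum.elim_inr] at hab
      have := congrArg Subtype.val hab
      simp only at this
      apply hrn
      have h1 : reflG Q v hv = (b.1 : OO) * (a.1 : OO)⁻¹ := by
        rw [← this, mul_inv_cancel_right]
      rw [h1]
      exact (Cfsg.Omega F ⇑Q).mul_mem b.1.2 ((Cfsg.Omega F ⇑Q).inv_mem a.1.2)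
    · simp only [Sum.elim_inr] at hab
      have := congrArg Subtype.val hab
      simp only at this
      have := mul_left_cancel this
      congr 1
      exact Subtype.ext (Subtype.ext this)
  · rintro ⟨c, hc⟩
    rw [Subgroup.mem_centralizer_iff] at hc
    have hcx : c * x = x * c := (hc x rfl).symm
    rcases Char2Omega.abel_cases Q hQ h v hv c with h1 | h1
    · exact ⟨Sum.inl ⟨⟨c, h1⟩, hcx⟩, rfl⟩
    · refine ⟨Sum.inr ⟨⟨reflG Q v hv * c, h1⟩, ?_⟩, ?_⟩
      · show reflG Q v hv * c * x = x * (reflG Q v hv * c)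
        rw [mul_assoc, hcx, ← mul_assoc, hr, mul_assoc]
      · apply Subtype.ext
        show reflG Q v hv * (reflG Q v hv * c) = c
        rw [← mul_assoc, hr2, one_mul]

/-- if the centraliser lies in `Ω`, nothing changes -/
theorem card_centralizer_eq_of_le (x : OO)
    (hle : ∀ c : OO, c * x = x * c → c ∈ Cfsg.Omega F ⇑Q) :
    Nat.card ↥(Subgroup.centralizer ({x} : Set OO)) =
      Nat.card {g : ↥(Cfsg.Omega F ⇑Q) // (g : OO) * x = x * (g : OO)} := by
  apply Nat.card_congr
  refine ⟨fun c => ⟨⟨c.1, hle c.1 ?_⟩, ?_⟩, fun g => ⟨(g.1 : OO), ?_⟩, fun _ => rfl, fun _ => rfl⟩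
  · have := c.2
    rw [Subgroup.mem_centralizer_iff] at this
    exact (this x rfl).symm
  · have := c.2
    rw [Subgroup.mem_centralizer_iff] at this
    exact (this x rfl).symm
  · rw [Subgroup.mem_centralizer_iff]
    intro s hs
    rw [Set.mem_singleton_iff] at hs
    rw [hs]; exact g.2.symm

end Cfsg.Agent.Lib.H13.OmegaCentr
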