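import Cfsg.Agent.Lib.H13.FrameCount
import Cfsg.Agent.Lib.H13.OInvol

set_option autoImplicit false

namespace Cfsg.Agent.Lib.H13.QFrameCount

open Module QuadraticMap
open Cfsg.Agent.Lib.H13.SpInvol Cfsg.Agent.Lib.H13.OInvol Cfsg.Agent.Lib.H13.FrameCount

variable {F V : Type*} [Field F] [Fintype F] [CharP F 2] [AddCommGroup V] [Module F V]
  [FiniteDimensional F V] (Q : QuadraticForm F V)

/-- the orthogonal space of a family -/
theorem mem_perp_iff {s : ℕ} (w : Fin s → V) (v : V) :
    v ∈ LinearMap.BilinForm.orthogonal (polarBilin Q) (Submodule.span F (Set.range w)) ↔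
      ∀ i, polarBilin Q (w i) v = 0 := by
  rw [LinearMap.BilinForm.mem_orthogonal_iff]
  constructor
  · intro h i
    exact h _ (Submodule.subset_span ⟨i, rfl⟩)
  · intro h u hu
    induction hu using Submodule.span_induction with
    | mem x hx => obtain ⟨i, rfl⟩ := hx; exact h i
    | zero => simp
    | add x y _ _ hx hy => rw [map_add, LinearMap.add_apply, hx, hy, add_zero]
    | smul c x _ hx => rw [map_smul, LinearMap.smul_apply, hx, smul_zero]

theorem finrank_perp (hQ : (polarBilin Q).Nondegenerate) {s : ℕ} (w : Fin s → V)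
    (hw : LinearIndependent F w) :
    finrank F ↥(LinearMap.BilinForm.orthogonal (polarBilin Q)
      (Submodule.span F (Set.range w))) = finrank F V - s := by
  rw [LinearMap.BilinForm.finrank_orthogonal hQ, finrank_span_eq_card hw, Fintype.card_fin]

theorem sq_inj (a b : F) (h : a * a = b * b) : a = b := by
  have h2 : (a - b) * (a - b) = 0 := by
    have h2 : (2 : F) = 0 := CharP.ofNat_eq_zero F 2
    linear_combination h + (b * b - a * b) * h2
  have := mul_self_eq_zero.mp h2
  exact sub_eq_zero.mp this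

/-- shifting by a vector of norm one in the radical of a subspace -/
theorem card_shift_one (U : Submodule F V) (w₀ : V) (hw₀ : w₀ ∈ U) (hQw : Q w₀ = 1)
    (horth : ∀ u ∈ U, polar (⇑Q) u w₀ = 0) :
    Nat.card {v : V // v ∈ U ∧ Q v = 1} * Fintype.card F = Fintype.card F ^ finrank F ↥U := by
  classical
  haveI : Finite V := Module.finite_of_finite F
  haveI : Fintype V := Fintype.ofFinite V
  rw [← card_eq_pow_finrank (K := F) (V := ↥U), ← Nat.card_eq_fintype_card (α := ↥U),
    ← Nat.card_eq_fintype_card (α := F), ← Nat.card_prod]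
  apply Nat.card_eq_of_bijective
    (fun p : {v : V // v ∈ U ∧ Q v = 1} × F =>
      (⟨p.1.1 + p.2 • w₀, U.add_mem p.1.2.1 (U.smul_mem _ hw₀)⟩ : ↥U))
  have hQs : ∀ (v : V) (l : F), v ∈ U → Q (v + l • w₀) = Q v + l * l := by
    intro v l hv
    rw [Char2Gen.Q_add', QuadraticMap.map_smul, polar_smul_right, horth v hv, hQw]
    simp
  constructor
  · rintro ⟨⟨v, hv, hv1⟩, l⟩ ⟨⟨v', hv', hv1'⟩, l'⟩ h
    have h0 : v + l • w₀ = v' + l' • w₀ := congrArg Subtype.val h
    have h1 := congrArg Q h0
    rw [hQs v l hv, hQs v' l' hv', hv1, hv1'] at h1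
    have hl : l = l' := sq_inj l l' (add_left_cancel h1)
    subst hl
    have hv : v = v' := add_right_cancel h0
    subst hv
    rfl
  · rintro ⟨u, hu⟩
    obtain ⟨μ, hμ⟩ := Char2Gen.exists_sqrt (Q u + 1)
    refine ⟨⟨⟨u + μ • w₀, U.add_mem hu (U.smul_mem _ hw₀), ?_⟩, μ⟩, ?_⟩
    · rw [hQs u μ hu, hμ, ← add_assoc, Char2Gen.add_self_zero F, zero_add]
    · apply Subtype.ext
      show u + μ • w₀ + μ • w₀ = u
      rw [add_assoc, Char2Gen.add_self_zero F, add_zero]

/-- shifting by a singular vector -/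
theorem card_shift_zero (A : Submodule F V) (u : V) (hu : u ∈ A) (hQu : Q u = 0) :
    Nat.card {v : V // v ∈ A ∧ polar (⇑Q) u v ≠ 0 ∧ Q v = 0} * Fintype.card F =
      Nat.card {v : V // v ∈ A ∧ polar (⇑Q) u v ≠ 0} := by
  classical
  haveI : Finite V := Module.finite_of_finite F
  rw [← Nat.card_eq_fintype_card (α := F), ← Nat.card_prod]
  have hpol : ∀ (v : V) (l : F), polar (⇑Q) u (v + l • u) = polar (⇑Q) u v := by
    intro v l
    rw [polar_add_right, polar_smul_right, Char2Gen.polar_self_zero, smul_zero, add_zero]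
  have hQs : ∀ (v : V) (l : F), Q (v + l • u) = Q v + l * polar (⇑Q) u v := by
    intro v l
    rw [Char2Gen.Q_add', QuadraticMap.map_smul, polar_smul_right, hQu, polar_comm]
    simp
  apply Nat.card_eq_of_bijective
    (fun p : {v : V // v ∈ A ∧ polar (⇑Q) u v ≠ 0 ∧ Q v = 0} × F =>
      (⟨p.1.1 + p.2 • u, A.add_mem p.1.2.1 (A.smul_mem _ hu), by
        rw [hpol]; exact p.1.2.2.1⟩ : {v : V // v ∈ A ∧ polar (⇑Q) u v ≠ 0}))
  constructor
  · rintro ⟨⟨v, hv, hv1, hv0⟩, l⟩ ⟨⟨v', hv', hv1', hv0'⟩, l'⟩ h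
    have h0 : v + l • u = v' + l' • u := congrArg Subtype.val h
    have h1 := congrArg Q h0
    have h2 := congrArg (fun z => polar (⇑Q) u z) h0
    simp only [hpol] at h2
    rw [hQs, hQs, hv0, hv0', zero_add, zero_add, h2] at h1
    have hl : l = l' := mul_right_cancel₀ hv1' h1
    subst hl
    have hv : v = v' := add_right_cancel h0
    subst hv
    rfl
  · rintro ⟨x, hx, hx1⟩
    refine ⟨⟨⟨x + (Q x / polar (⇑Q) u x) • u, A.add_mem hx (A.smul_mem _ hu), ?_, ?_⟩,
      Q x / polar (⇑Q) u x⟩, ?_⟩
    · rw [hpol]; exact hx1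
    · rw [hQs, div_mul_cancel₀ _ hx1, Char2Gen.add_self_zero F]
    · apply Subtype.ext
      show x + (Q x / polar (⇑Q) u x) • u + (Q x / polar (⇑Q) u x) • u = x
      rw [add_assoc, Char2Gen.add_self_zero F, add_zero]

/-- orthogonal independent families with constant value of `Q` -/
def IsFr (c : F) {s : ℕ} (w : Fin s → V) : Prop :=
  LinearIndependent F w ∧ (∀ i j, polarBilin Q (w i) (w j) = 0) ∧ ∀ i, Q (w i) = c

/-- the extension step for frames -/
theorem card_frames_succ (c : F) (s : ℕ) (N : ℕ)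
    (hN : ∀ w : {w : Fin s → V // IsFr Q c w},
      Nat.card {v : V // (∀ i, polarBilin Q (w.1 i) v = 0) ∧ Q v = c ∧
        v ∉ Submodule.span F (Set.range w.1)} = N) :
    Nat.card {w : Fin (s + 1) → V // IsFr Q c w} = Nat.card {w : Fin s → V // IsFr Q c w} * N := by
  classical
  haveI : Finite V := Module.finite_of_finite F
  haveI : Fintype V := Fintype.ofFinite V
  let X := {w : Fin s → V // IsFr Q c w}
  let X' := {w : Fin (s + 1) → V // IsFr Q c w}
  let p : X' → X := fun w => ⟨Fin.init w.1, by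
    refine ⟨?_, fun i j => w.2.2.1 _ _, fun i => w.2.2.2 _⟩
    have := w.2.1.comp (Fin.castSucc : Fin s → Fin (s + 1)) (Fin.castSucc_injective s)
    exact this⟩
  show Nat.card X' = Nat.card X * N
  rw [Nat.card_congr (Equiv.sigmaFiberEquiv p).symm, Nat.card_sigma]
  have : ∀ w : X, Nat.card {w' : X' // p w' = w} = N := by
    intro w
    rw [← hN w]
    apply Nat.card_congr
    refine ⟨fun w' => ⟨w'.1.1 (Fin.last s), ?_, ?_, ?_⟩,
      fun v => ⟨⟨Fin.snoc w.1 v.1, ?_, ?_, ?_⟩, ?_⟩, ?_, ?_⟩
    · intro i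
      have h3 : Fin.init w'.1.1 = w.1 := congrArg Subtype.val w'.2
      have h2 : w.1 i = w'.1.1 i.castSucc := by
        rw [← h3]; rfl
      rw [h2]
      exact w'.1.2.2.1 _ _
    · exact w'.1.2.2.2 _
    · have h1 := w'.1.2.1
      rw [← Fin.snoc_init_self w'.1.1, linearIndependent_finSnoc] at h1
      have h2 : Fin.init w'.1.1 = w.1 := congrArg Subtype.val w'.2
      rw [h2] at h1
      exact h1.2
    · rw [linearIndependent_finSnoc]
      exact ⟨w.2.1, v.2.2.2⟩
    · have hv := v.2.1
      intro i j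
      refine Fin.lastCases ?_ (fun i => ?_) i <;> refine Fin.lastCases ?_ (fun j => ?_) j <;>
        simp only [Fin.snoc_last, Fin.snoc_castSucc]
      · exact polarBilin_alt Q v.1
      · rw [alt_skew' (polarBilin_alt Q), hv j, neg_zero]
      · exact hv i
      · exact w.2.2.1 i j
    · intro i
      refine Fin.lastCases ?_ (fun i => ?_) i <;> simp only [Fin.snoc_last, Fin.snoc_castSucc]
      · exact v.2.2.1
      · exact w.2.2.2 i
    · apply Subtype.ext
      show Fin.init (Fin.snoc w.1 v.1 : Fin (s + 1) → V) = w.1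
      exact Fin.init_snoc _ _
    · intro w'
      apply Subtype.ext
      apply Subtype.ext
      show Fin.snoc w.1 (w'.1.1 (Fin.last s)) = w'.1.1
      have h2 : Fin.init w'.1.1 = w.1 := congrArg Subtype.val w'.2
      rw [← h2]
      exact Fin.snoc_init_self _
    · intro v
      apply Subtype.ext
      show (Fin.snoc w.1 v.1 : Fin (s + 1) → V) (Fin.last s) = v.1
      exact Fin.snoc_last _ _
  simp only [this]
  rw [Finset.sum_const, Finset.card_univ, smul_eq_mul, Nat.card_eq_fintype_card]

/-- cardinality of a relative complement -/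
theorem card_and_not {V : Type*} [Finite V] (P R : V → Prop) :
    Nat.card {v : V // P v ∧ ¬ R v} = Nat.card {v : V // P v} - Nat.card {v : V // P v ∧ R v} := by
  classical
  haveI : Fintype V := Fintype.ofFinite V
  have h1 : Nat.card {v : V // P v ∧ ¬ R v} = Nat.card {a : {v : V // P v} // ¬ R a.1} := by
    apply Nat.card_congr
    exact ⟨fun v => ⟨⟨v.1, v.2.1⟩, v.2.2⟩, fun a => ⟨a.1.1, a.1.2, a.2⟩, fun _ => rfl, fun _ => rfl⟩
  have h2 : Nat.card {v : V // P v ∧ R v} = Nat.card {a : {v : V // P v} // R a.1} := by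
    apply Nat.card_congr
    exact ⟨fun v => ⟨⟨v.1, v.2.1⟩, v.2.2⟩, fun a => ⟨a.1.1, a.1.2, a.2⟩, fun _ => rfl, fun _ => rfl⟩
  rw [h1, h2, Nat.card_eq_fintype_card, Nat.card_eq_fintype_card, Nat.card_eq_fintype_card,
    Fintype.card_subtype_compl]

/-- the number of extensions of a frame of norm-one vectors -/
theorem card_ext_one (hQ : (polarBilin Q).Nondegenerate) (s : ℕ)
    (w : {w : Fin (s + 1) → V // IsFr Q 1 w}) :
    Nat.card {v : V // (∀ i, polarBilin Q (w.1 i) v = 0) ∧ Q v = 1 ∧
      v ∉ Submodule.span F (Set.range w.1)} =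
      Fintype.card F ^ (finrank F V - s - 2) - Fintype.card F ^ s := by
  classical
  have hq : 0 < Fintype.card F := Fintype.card_pos
  set W := Submodule.span F (Set.range w.1) with hW
  set A := LinearMap.BilinForm.orthogonal (polarBilin Q) W with hA
  have hWA : W ≤ A := by
    rw [hW, Submodule.span_le]
    rintro _ ⟨j, rfl⟩
    rw [SetLike.mem_coe, hA, hW, mem_perp_iff]
    intro i
    exact w.2.2.1 i j
  have hw0W : w.1 0 ∈ W := Submodule.subset_span ⟨0, rfl⟩
  have horthA : ∀ u ∈ A, polar (⇑Q) u (w.1 0) = 0 := by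
    intro u hu
    rw [hA, hW, mem_perp_iff] at hu
    have := hu 0
    rw [polarBilin_apply_apply] at this
    rw [polar_comm]; exact this
  have hAd : finrank F ↥A = finrank F V - (s + 1) := finrank_perp Q hQ w.1 w.2.1
  have hWd : finrank F ↥W = s + 1 := by
    rw [hW, finrank_span_eq_card w.2.1, Fintype.card_fin]
  have hle : finrank F ↥W ≤ finrank F ↥A := Submodule.finrank_mono hWA
  have h1 := card_shift_one Q A (w.1 0) (hWA hw0W) (w.2.2.2 0) horthA
  have h2 := card_shift_one Q W (w.1 0) hw0W (w.2.2.2 0) (fun u hu => horthA u (hWA hu))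
  have h1' : Nat.card {v : V // v ∈ A ∧ Q v = 1} = Fintype.card F ^ (finrank F V - s - 2) := by
    apply Nat.eq_of_mul_eq_mul_right hq
    rw [h1, hAd, ← pow_succ]
    congr 1
    omega
  have h2' : Nat.card {v : V // v ∈ W ∧ Q v = 1} = Fintype.card F ^ s := by
    apply Nat.eq_of_mul_eq_mul_right hq
    rw [h2, hWd, ← pow_succ]
  rw [← h1', ← h2']
  have e1 : Nat.card {v : V // (∀ i, polarBilin Q (w.1 i) v = 0) ∧ Q v = 1 ∧ v ∉ W} =
      Nat.card {v : V // (v ∈ A ∧ Q v = 1) ∧ ¬ v ∈ W} := by
    apply Nat.card_congr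
    apply Equiv.subtypeEquivRight
    intro v
    rw [hA, hW, mem_perp_iff, and_assoc]
  have e2 : Nat.card {v : V // (v ∈ A ∧ Q v = 1) ∧ v ∈ W} = Nat.card {v : V // v ∈ W ∧ Q v = 1} := by
    apply Nat.card_congr
    apply Equiv.subtypeEquivRight
    intro v
    constructor
    · rintro ⟨⟨-, h⟩, h'⟩; exact ⟨h', h⟩
    · rintro ⟨h, h'⟩; exact ⟨⟨hWA h, h'⟩, h⟩
  haveI : Finite V := Module.finite_of_finite F
  rw [e1, card_and_not, e2]

/-- the number of frames of norm-one vectors -/
theorem card_frames_one (hQ : (polarBilin Q).Nondegenerate) (s : ℕ) :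
    Nat.card {w : Fin (s + 1) → V // IsFr Q 1 w} =
      Nat.card {v : V // Q v = 1} *
        ∏ i ∈ Finset.range s, (Fintype.card F ^ (finrank F V - i - 2) - Fintype.card F ^ i) := by
  induction s with
  | zero =>
    rw [Finset.range_zero, Finset.prod_empty, mul_one]
    haveI : Unique (Fin (0 + 1)) := inferInstanceAs (Unique (Fin 1))
    apply Nat.card_congr
    refine ⟨fun w => ⟨w.1 0, w.2.2.2 0⟩, fun v => ⟨fun _ => v.1, ?_, ?_, fun _ => v.2⟩, ?_, ?_⟩
    · rw [linearIndependent_unique_iff]
      intro h0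
      have := v.2
      rw [h0, map_zero] at this
      exact zero_ne_one this
    · intro i j
      exact polarBilin_alt Q v.1
    · intro w
      apply Subtype.ext
      funext i
      rw [Subsingleton.elim i 0]
    · intro v
      rfl
  | succ s ih =>
    rw [card_frames_succ Q 1 (s + 1) _ (card_ext_one Q hQ s), ih, Finset.prod_range_succ, mul_assoc]

/-- the span of a singular frame is totally singular -/
theorem Q_span_zero {s : ℕ} (w : Fin s → V) (hw : IsFr Q 0 w) (v : V)
    (hv : v ∈ Submodule.span F (Set.range w)) : Q v = 0 := by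
  obtain ⟨c, rfl⟩ := (Submodule.mem_span_range_iff_exists_fun F).mp hv
  rw [Q_sum_orth]
  · apply Finset.sum_eq_zero
    intro i _
    rw [QuadraticMap.map_smul, hw.2.2 i, smul_zero]
  · intro i j
    rw [polar_smul_left, polar_smul_right]
    have := hw.2.1 i j
    rw [polarBilin_apply_apply] at this
    rw [this, smul_zero, smul_zero]

/-- the number of singular vectors orthogonal to a singular frame -/
theorem card_sing_perp (hQ : (polarBilin Q).Nondegenerate) (s : ℕ) :
    ∀ w : {w : Fin s → V // IsFr Q 0 w},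
    Nat.card {v : V // (∀ i, polarBilin Q (w.1 i) v = 0) ∧ Q v = 0} +
        Fintype.card F ^ (finrank F V - 1) =
      Nat.card {v : V // Q v = 0} + Fintype.card F ^ (finrank F V - s - 1) := by
  classical
  haveI : Finite V := Module.finite_of_finite F
  have hq : 0 < Fintype.card F := Fintype.card_pos
  induction s with
  | zero =>
    intro w
    rw [Nat.sub_zero]
    congr 1
    apply Nat.card_congr
    apply Equiv.subtypeEquivRight
    intro v
    constructor
    · exact fun h => h.2
    · exact fun h => ⟨fun i => i.elim0, h⟩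
  | succ s ih =>
    intro w
    let w' : {w : Fin s → V // IsFr Q 0 w} := ⟨Fin.init w.1, by
      refine ⟨?_, fun i j => w.2.2.1 _ _, fun i => w.2.2.2 _⟩
      have := w.2.1.comp (Fin.castSucc : Fin s → Fin (s + 1)) (Fin.castSucc_injective s)
      exact this⟩
    have ih' := ih w'
    set u := w.1 (Fin.last s) with hu
    set A := LinearMap.BilinForm.orthogonal (polarBilin Q) (Submodule.span F (Set.range w'.1))
      with hA
    set B := LinearMap.BilinForm.orthogonal (polarBilin Q) (Submodule.span F (Set.range w.1))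
      with hB
    have hmemB : ∀ v, v ∈ B ↔ v ∈ A ∧ polar (⇑Q) u v = 0 := by
      intro v
      rw [hA, hB, mem_perp_iff, mem_perp_iff]
      constructor
      · intro h
        refine ⟨fun i => h i.castSucc, ?_⟩
        have := h (Fin.last s)
        rwa [polarBilin_apply_apply] at this
      · rintro ⟨h1, h2⟩ i
        refine Fin.lastCases ?_ (fun i => ?_) i
        · rw [polarBilin_apply_apply]; exact h2
        · exact h1 i
    have hBA : B ≤ A := fun v hv => ((hmemB v).mp hv).1
    have huA : u ∈ A := by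
      rw [hA, mem_perp_iff]
      intro i
      exact w.2.2.1 _ _
    have hAd : finrank F ↥A = finrank F V - s := finrank_perp Q hQ w'.1 w'.2.1
    have hBd : finrank F ↥B = finrank F V - (s + 1) := finrank_perp Q hQ w.1 w.2.1
    have hWB : Submodule.span F (Set.range w.1) ≤ B := by
      rw [Submodule.span_le]
      rintro _ ⟨j, rfl⟩
      rw [SetLike.mem_coe, hB, mem_perp_iff]
      intro i
      exact w.2.2.1 i j
    have hWd : finrank F ↥(Submodule.span F (Set.range w.1)) = s + 1 := by
      rw [finrank_span_eq_card w.2.1, Fintype.card_fin]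
    have hle : s + 1 ≤ finrank F V - (s + 1) := by
      have := Submodule.finrank_mono hWB
      rw [hWd, hBd] at this
      exact this
    -- the shift count
    have hM := card_shift_zero Q A u huA (w.2.2.2 _)
    have hdiff : Nat.card {v : V // v ∈ A ∧ polar (⇑Q) u v ≠ 0} =
        Fintype.card F ^ (finrank F V - s) - Fintype.card F ^ (finrank F V - (s + 1)) := by
      rw [← hAd, ← hBd, ← card_sdiff_submodule A B hBA]
      apply Nat.card_congr
      apply Equiv.subtypeEquivRight
      intro v
      rw [hmemB]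
      constructor
      · rintro ⟨h1, h2⟩
        exact ⟨h1, fun h => h2 h.2⟩
      · rintro ⟨h1, h2⟩
        exact ⟨h1, fun h => h2 ⟨h1, h⟩⟩
    obtain ⟨k, hk⟩ : ∃ k, finrank F V - (s + 1) = k + 1 := ⟨finrank F V - (s + 1) - 1, by omega⟩
    have hk' : finrank F V - s = k + 2 := by omega
    have hM' : Nat.card {v : V // v ∈ A ∧ polar (⇑Q) u v ≠ 0 ∧ Q v = 0} =
        Fintype.card F ^ (k + 1) - Fintype.card F ^ k := by
      apply Nat.eq_of_mul_eq_mul_right hq
      rw [hM, hdiff, hk, hk', Nat.sub_mul, ← pow_succ, ← pow_succ]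
    -- split the singular vectors of `A`
    have hsplit : Nat.card {v : V // (∀ i, polarBilin Q (w'.1 i) v = 0) ∧ Q v = 0} =
        Nat.card {v : V // (∀ i, polarBilin Q (w.1 i) v = 0) ∧ Q v = 0} +
        Nat.card {v : V // v ∈ A ∧ polar (⇑Q) u v ≠ 0 ∧ Q v = 0} := by
      have e0 : Nat.card {v : V // (∀ i, polarBilin Q (w'.1 i) v = 0) ∧ Q v = 0} =
          Nat.card {v : V // v ∈ A ∧ Q v = 0} := by
        apply Nat.card_congr
        apply Equiv.subtypeEquivRight
        intro v
        rw [hA, mem_perp_iff]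
      have e1 : Nat.card {v : V // (∀ i, polarBilin Q (w.1 i) v = 0) ∧ Q v = 0} =
          Nat.card {v : V // (v ∈ A ∧ Q v = 0) ∧ polar (⇑Q) u v = 0} := by
        apply Nat.card_congr
        apply Equiv.subtypeEquivRight
        intro v
        rw [← mem_perp_iff, ← hB, hmemB]
        tauto
      have e2 : Nat.card {v : V // v ∈ A ∧ polar (⇑Q) u v ≠ 0 ∧ Q v = 0} =
          Nat.card {v : V // (v ∈ A ∧ Q v = 0) ∧ ¬ polar (⇑Q) u v = 0} := by
        apply Nat.card_congr
        apply Equiv.subtypeEquivRight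
        intro v
        tauto
      rw [e0, e1, e2, card_and_not]
      have : Nat.card {v : V // (v ∈ A ∧ Q v = 0) ∧ polar (⇑Q) u v = 0} ≤
          Nat.card {v : V // v ∈ A ∧ Q v = 0} :=
        Nat.card_le_card_of_injective (fun v => ⟨v.1, v.2.1⟩)
          (fun a b h => Subtype.ext (by
            have := congrArg Subtype.val h
            exact this))
      omega
    rw [hsplit, hM'] at ih'
    have hk2 : finrank F V - s - 1 = k + 1 := by omega
    have hk3 : finrank F V - (s + 1) - 1 = k := by omega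
    rw [hk2] at ih'
    rw [hk3]
    have hpow : Fintype.card F ^ k ≤ Fintype.card F ^ (k + 1) :=
      Nat.pow_le_pow_right hq (by omega)
    omega

/-- the number of extensions of a singular frame -/
theorem card_ext_zero (hQ : (polarBilin Q).Nondegenerate) (s : ℕ)
    (w : {w : Fin s → V // IsFr Q 0 w}) :
    Nat.card {v : V // (∀ i, polarBilin Q (w.1 i) v = 0) ∧ Q v = 0 ∧
      v ∉ Submodule.span F (Set.range w.1)} =
      Nat.card {v : V // Q v = 0} + Fintype.card F ^ (finrank F V - s - 1) -
        Fintype.card F ^ (finrank F V - 1) - Fintype.card F ^ s := by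
  classical
  haveI : Finite V := Module.finite_of_finite F
  haveI : Fintype V := Fintype.ofFinite V
  have h1 := card_sing_perp Q hQ s w
  set W := Submodule.span F (Set.range w.1) with hW
  have hWd : finrank F ↥W = s := by
    rw [hW, finrank_span_eq_card w.2.1, Fintype.card_fin]
  have e1 : Nat.card {v : V // (∀ i, polarBilin Q (w.1 i) v = 0) ∧ Q v = 0 ∧ v ∉ W} =
      Nat.card {v : V // ((∀ i, polarBilin Q (w.1 i) v = 0) ∧ Q v = 0) ∧ ¬ v ∈ W} := by
    apply Nat.card_congr
    apply Equiv.subtypeEquivRight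
    intro v
    rw [and_assoc]
  have e2 : Nat.card {v : V // ((∀ i, polarBilin Q (w.1 i) v = 0) ∧ Q v = 0) ∧ v ∈ W} =
      Nat.card ↥W := by
    apply Nat.card_congr
    refine ⟨fun v => ⟨v.1, v.2.2⟩, fun v => ⟨v.1, ⟨?_, Q_span_zero Q w.1 w.2 v.1 v.2⟩, v.2⟩,
      fun _ => rfl, fun _ => rfl⟩
    intro i
    have hv : v.1 ∈ Submodule.span F (Set.range w.1) := v.2
    obtain ⟨c, hc⟩ := (Submodule.mem_span_range_iff_exists_fun F).mp hv
    rw [← hc, map_sum]
    apply Finset.sum_eq_zero
    intro j _
    rw [map_smul, w.2.2.1 i j, smul_zero]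
  rw [e1, card_and_not, e2, Nat.card_eq_fintype_card (α := ↥W),
    card_eq_pow_finrank (K := F) (V := ↥W), hWd]
  omega

/-- the number of singular frames -/
theorem card_frames_zero (hQ : (polarBilin Q).Nondegenerate) (s : ℕ) :
    Nat.card {w : Fin s → V // IsFr Q 0 w} =
      ∏ i ∈ Finset.range s, (Nat.card {v : V // Q v = 0} +
        Fintype.card F ^ (finrank F V - i - 1) - Fintype.card F ^ (finrank F V - 1) -
        Fintype.card F ^ i) := by
  induction s with
  | zero =>
    rw [Finset.range_zero, Finset.prod_empty]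
    haveI : Unique {w : Fin 0 → V // IsFr Q 0 w} :=
      { default := ⟨fun i => i.elim0, linearIndependent_empty_type, fun i => i.elim0,
          fun i => i.elim0⟩
        uniq := fun e => Subtype.ext (funext fun i => i.elim0) }
    exact Nat.card_unique
  | succ s ih =>
    rw [card_frames_succ Q 0 s _ (card_ext_zero Q hQ s), ih, Finset.prod_range_succ]

end Cfsg.Agent.Lib.H13.QFrameCount
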