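import Cfsg.Agent.Lib.H13.OCentr
import Cfsg.Agent.Lib.H13.QFrameCount
import Cfsg.Agent.Lib.H13.OmegaCentr
import Cfsg.Agent.Lib.H13.OCentrArith
import Cfsg.Agent.Lib.H13.NFFibreCount
import Cfsg.Agent.Lib.H13.SpCentrFinal
import Cfsg.Agent.Lib.H13.OmegaInvolStd
import Cfsg.Agent.S0287
import Cfsg.Agent.S0289

set_option autoImplicit false

namespace Cfsg.Agent.Lib.H13.OPlusCentr

open Module Matrix QuadraticMap Finset
open Cfsg.Agent.Lib.H13 Cfsg.Agent.Lib.H13.SpInvol Cfsg.Agent.Lib.H13.NFFibre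
open Cfsg.Agent.Lib.H13.ONBCount Cfsg.Agent.Lib.H13.CentrArith Cfsg.Agent.Lib.H13.OCentrArith
open Cfsg.Agent.Lib.H13.QFrameCount Cfsg.Agent.Lib.H13.PlusLevi

variable {F : Type*} [Field F] [Fintype F] [CharP F 2] (m : ℕ)

set_option quotPrecheck false in
local notation "OP" => ↥(Cfsg.isometryGroup F ⇑(plusQF F m))

set_option quotPrecheck false in
local notation "MM" => Matrix (K m) (K m) F

set_option quotPrecheck false in
local notation "VV" => (K m → F)

/-! ### counting inputs -/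

theorem card_zero_plus (hm : 1 ≤ m) :
    Nat.card {v : VV // plusQF F m v = 0} =
      Fintype.card F ^ (2 * m - 1) + Fintype.card F ^ m - Fintype.card F ^ (m - 1) := by
  rw [← Cfsg.Agent.S0289.result (F := F) rfl m hm]
  apply Nat.card_congr
  apply Equiv.subtypeEquivRight
  intro v
  rw [plusQF_apply]

theorem card_one_plus :
    Nat.card {v : VV // plusQF F m v = 1} =
      (Fintype.card F ^ m - 1) * Fintype.card F ^ (m - 1) := by
  classical
  have e : {v : VV // plusQF F m v = 1} ≃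
      {p : (Fin m → F) × (Fin m → F) // p.1 ⬝ᵥ p.2 = 1} :=
    (Equiv.sumArrowEquivProdArrow (Fin m) (Fin m) F).subtypeEquiv (fun v => by
      rw [plusQF_apply]; exact Iff.rfl)
  rw [Nat.card_congr e, Cfsg.Agent.Lib.H2.card_hyp m (1 : F), if_neg one_ne_zero, zero_add]

theorem card_OP (hm : 1 ≤ m) : Nat.card OP = oo (Fintype.card F) m := by
  have := Cfsg.Agent.S0287.result (F := F) rfl m hm
  rw [← Cfsg.Agent.S0287.coe_plusQF] at this
  rw [this]
  unfold oo oh PP
  rw [if_neg (by omega)]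
  ring

theorem finrank_VV : finrank F VV = 2 * m := by
  rw [finrank_fintype_fun_eq_card, Fintype.card_sum, Fintype.card_fin]; ring

theorem card_K : Fintype.card (K m) = 2 * m := by
  rw [Fintype.card_sum, Fintype.card_fin]; ring

/-! ### general lemmas -/

theorem isNF_fixed {F V : Type*} [Field F] [AddCommGroup V] [Module F V]
    {f : LinearMap.BilinForm F V} {κ : Type*} [Fintype κ] {t : V →ₗ[F] V} {σ : κ → κ}
    {w : κ → V} (h : IsNF f t σ w) (i : κ) : t (w i) = w i := by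
  rw [h.eq]
  simp [h.iso]

theorem card_qframes_equiv {F V : Type*} [Field F] [AddCommGroup V] [Module F V]
    (Q : QuadraticForm F V) {ι κ : Type*} (e : ι ≃ κ) (c : F) :
    Nat.card {w : ι → V // LinearIndependent F w ∧ (∀ i j, polarBilin Q (w i) (w j) = 0) ∧
      ∀ i, Q (w i) = c} =
    Nat.card {w : κ → V // LinearIndependent F w ∧ (∀ i j, polarBilin Q (w i) (w j) = 0) ∧
      ∀ i, Q (w i) = c} := by
  apply Nat.card_congr
  refine Equiv.subtypeEquiv (Equiv.arrowCongr e (Equiv.refl V)) ?_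
  intro w
  have e1 : (Equiv.arrowCongr e (Equiv.refl V)) w = w ∘ e.symm := by
    funext i; simp [Equiv.arrowCongr]
  rw [e1, linearIndependent_equiv]
  constructor
  · rintro ⟨h1, h2, h3⟩
    exact ⟨h1, fun i j => h2 _ _, fun i => h3 _⟩
  · rintro ⟨h1, h2, h3⟩
    refine ⟨h1, fun i j => ?_, fun i => ?_⟩
    · have := h2 (e i) (e j)
      simpa using this
    · have := h3 (e i)
      simpa using this

theorem cancel_one (q m C D A : ℕ) (hq : 2 ≤ q) (hm : 1 ≤ m)
    (h : 2 * C * ((q ^ m - 1) * q ^ (m - 1) * D) = A * (2 * oh q m)) :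
    C * D = A * (q ^ ((m - 1) ^ 2) * PP q (m - 1)) := by
  obtain ⟨j, rfl⟩ : ∃ j, m = j + 1 := ⟨m - 1, by omega⟩
  simp only [Nat.add_sub_cancel] at h ⊢
  unfold oh at h
  simp only [Nat.add_sub_cancel] at h
  have h1 : 1 < q ^ (j + 1) := Nat.one_lt_pow (by omega) (by omega)
  have hpos : 0 < 2 * (q ^ (j + 1) - 1) * q ^ j :=
    Nat.mul_pos (Nat.mul_pos (by omega) (by omega)) (pow_pos (by omega) _)
  apply Nat.eq_of_mul_eq_mul_right hpos
  have e : (j + 1) * j = j ^ 2 + j := by ring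
  rw [e, pow_add q (j ^ 2) j] at h
  calc C * D * (2 * (q ^ (j + 1) - 1) * q ^ j)
      = 2 * C * ((q ^ (j + 1) - 1) * q ^ j * D) := by ring
    _ = A * (2 * (q ^ j ^ 2 * q ^ j * (q ^ (j + 1) - 1) * PP q j)) := h
    _ = _ := by ring

/-! ### types `b` and `c` -/

theorem card_comm_id (hm : 1 ≤ m) (h : Fintype.card F ≠ 2 ∨ m ≠ 2) (x : OP) (s' : ℕ)
    (w : Fin (s' + 1) → VV)
    (hw : IsNF (polarBilin (plusQF F m)) (Matrix.toLin' ((x : GL (K m) F) : MM)) id w) :
    ∃ k, m = s' + 1 + k ∧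
      Nat.card {g : ↥(Cfsg.Omega F ⇑(plusQF F m)) // (g : OP) * x = x * (g : OP)} *
        ∏ i ∈ range s', (Fintype.card F ^ (2 * (s' + k) - i) - Fintype.card F ^ i) =
      aNum (Fintype.card F) (s' + 1) *
        (Fintype.card F ^ ((s' + k) ^ 2) * PP (Fintype.card F) (s' + k)) := by
  classical
  have hnd := Cfsg.Agent.S0287.nondeg (F := F) m
  have hq : 2 ≤ Fintype.card F := Fintype.one_lt_card
  have hh : Nat.card F ≠ 2 ∨ Fintype.card (K m) ≠ 4 := by
    rw [Nat.card_eq_fintype_card, card_K]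
    rcases h with h | h
    · exact Or.inl h
    · right; omega
  have hle := hw.two_mul_card_le hnd
  rw [finrank_VV, Fintype.card_fin] at hle
  obtain ⟨k, hk⟩ : ∃ k, m = s' + 1 + k := ⟨m - (s' + 1), by omega⟩
  refine ⟨k, hk, ?_⟩
  have key := OCentr.card_centralizer_mul (plusQF F m) hnd x id (fun _ => rfl) w hw
  have e1 : Nat.card {w : Fin (s' + 1) → VV // LinearIndependent F w ∧
      (∀ i j, polarBilin (plusQF F m) (w i) (w j) = 0) ∧
      ∀ i, plusQF F m (w i) = if id i = i then 1 else 0} =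
      Nat.card {w : Fin (s' + 1) → VV // IsFr (plusQF F m) 1 w} := by
    apply Nat.card_congr
    apply Equiv.subtypeEquivRight
    intro w
    unfold IsFr
    simp
  have hQt : ∀ y, plusQF F m (Matrix.toLin' ((x : GL (K m) F) : MM) y) = plusQF F m y := by
    intro y
    rw [Matrix.toLin'_apply]
    exact OInvol.iso_apply (plusQF F m) x y
  have hQw := OCentr.Q_of_isNF (plusQF F m) hnd (fun _ => rfl) hw hQt 0
  simp only [id, if_true] at hQw
  have hfix := isNF_fixed hw 0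
  rw [Matrix.toLin'_apply] at hfix
  have h2 := OmegaCentr.card_centralizer_eq_two_mul (plusQF F m) hnd hh x (w 0)
    (by rw [hQw]; exact one_ne_zero) hfix
  rw [e1, card_frames_one (plusQF F m) hnd s', card_one_plus, finrank_VV,
    card_NF_id hnd (OInvol.polarBilin_alt (plusQF F m)) hw, card_OP m hm, h2] at key
  unfold oo at key
  rw [if_neg (by omega)] at key
  have key2 := cancel_one _ m _ _ _ hq hm key
  have e2 : m - 1 = s' + k := by omega
  rw [e2] at key2
  rw [← key2]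
  congr 1
  apply Finset.prod_congr rfl
  intro i hi
  rw [Finset.mem_range] at hi
  congr 2
  omega

theorem hh_of (h : Fintype.card F ≠ 2 ∨ m ≠ 2) : Nat.card F ≠ 2 ∨ Fintype.card (K m) ≠ 4 := by
  rw [Nat.card_eq_fintype_card, card_K]
  rcases h with h | h
  · exact Or.inl h
  · right; omega

theorem rank_one_sub : ((((1 : OP) : GL (K m) F) : MM) - 1).rank = 0 := by
  have : ((((1 : OP) : GL (K m) F) : MM) - 1) = 0 := by
    show (1 : MM) - 1 = 0
    exact sub_self _
  rw [this, Matrix.rank_zero]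

theorem polar_eq_Q_sub (x : OP) (v : VV) :
    polar (⇑(plusQF F m)) v (((x : GL (K m) F) : MM) *ᵥ v) =
      plusQF F m ((((x : GL (K m) F) : MM) - 1) *ᵥ v) := by
  have h1 := OInvol.Q_sub_eq (plusQF F m) (Matrix.toLin' ((x : GL (K m) F) : MM))
    (fun y => by rw [Matrix.toLin'_apply]; exact OInvol.iso_apply (plusQF F m) x y) v
  rw [Matrix.toLin'_apply] at h1
  rw [← h1, Matrix.sub_mulVec, Matrix.one_mulVec]

/-- the non-alternating normal form with the right number of vectors -/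
theorem exists_NF_id_rank (x : OP) (hx : x * x = 1) {s : ℕ}
    (hs : (((x : GL (K m) F) : MM) - 1).rank = s)
    (hna : ∃ v : VV, polar (⇑(plusQF F m)) v (((x : GL (K m) F) : MM) *ᵥ v) ≠ 0) :
    ∃ w : Fin s → VV,
      IsNF (polarBilin (plusQF F m)) (Matrix.toLin' ((x : GL (K m) F) : MM)) id w := by
  have hnd := Cfsg.Agent.S0287.nondeg (F := F) m
  obtain ⟨s', w, hw⟩ := exists_NF_id hnd (OInvol.polarBilin_alt (plusQF F m))
    (Matrix.toLin' ((x : GL (K m) F) : MM)) (OInvol.toLin_sq (plusQF F m) x hx)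
    (OInvol.toLin_iso (plusQF F m) x) (by
      obtain ⟨v, hv⟩ := hna
      exact ⟨v, by rw [polarBilin_apply_apply, Matrix.toLin'_apply]; exact hv⟩)
  have hs' : s' = s := by
    have := hw.finrank_range hnd (OInvol.polarBilin_alt (plusQF F m)) (fun _ => rfl)
    rw [← OInvol.rank_eq, hs, Fintype.card_fin] at this
    exact this.symm
  subst hs'
  exact ⟨w, hw⟩

theorem exists_NF_swap_rank (x : OP) (hx : x * x = 1) {s : ℕ}
    (hs : (((x : GL (K m) F) : MM) - 1).rank = s)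
    (halt : ∀ v : VV, polar (⇑(plusQF F m)) v (((x : GL (K m) F) : MM) *ᵥ v) = 0) :
    ∃ (r : ℕ) (w : Fin r ⊕ Fin r → VV), s = 2 * r ∧
      IsNF (polarBilin (plusQF F m)) (Matrix.toLin' ((x : GL (K m) F) : MM)) Sum.swap w := by
  have hnd := Cfsg.Agent.S0287.nondeg (F := F) m
  obtain ⟨r, w, hw⟩ := exists_NF_swap hnd (OInvol.polarBilin_alt (plusQF F m))
    (Matrix.toLin' ((x : GL (K m) F) : MM)) (OInvol.toLin_sq (plusQF F m) x hx)
    (OInvol.toLin_iso (plusQF F m) x) (by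
      intro v
      rw [polarBilin_apply_apply, Matrix.toLin'_apply]; exact halt v)
  refine ⟨r, w, ?_, hw⟩
  have := hw.finrank_range hnd (OInvol.polarBilin_alt (plusQF F m)) Sum.swap_swap
  rw [← OInvol.rank_eq, hs, Fintype.card_sum, Fintype.card_fin] at this
  omega

/-- S2683 for `plusQF` -/
theorem centralizer_b {q : ℕ} (hF : Fintype.card F = q) {s : ℕ}
    (h : Fintype.card F ≠ 2 ∨ m ≠ 2) :
    ∀ (x : OP), x ^ 2 = 1 → (((x : GL (K m) F) : MM) - 1).rank = s → Odd s →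
    Nat.card {g : ↥(Cfsg.Omega F ⇑(plusQF F m)) // (g : OP) * x = x * (g : OP)} =
      q ^ (2 * m * (s - 1) - (3 * s ^ 2 - 3 * s) / 2) *
        (q ^ (((s - 1) / 2) ^ 2) * ∏ i : Fin ((s - 1) / 2), (q ^ (2 * ((i : ℕ) + 1)) - 1)) *
        (q ^ ((m - s) ^ 2) * ∏ i : Fin (m - s), (q ^ (2 * ((i : ℕ) + 1)) - 1)) := by
  intro x hx hs hodd
  subst hF
  have hnd := Cfsg.Agent.S0287.nondeg (F := F) m
  have hx' : x * x = 1 := by rw [← pow_two]; exact hx
  have hx1 : x ≠ 1 := by
    rintro rfl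
    rw [rank_one_sub] at hs
    subst hs
    exact (by decide : ¬ Odd 0) hodd
  have hna : ∃ v : VV, polar (⇑(plusQF F m)) v (((x : GL (K m) F) : MM) *ᵥ v) ≠ 0 := by
    by_contra hcon
    push Not at hcon
    have := ((OInvol.invariants_range (plusQF F m) hnd x hx' hx1).2.2 hcon).1
    rw [hs] at this
    exact (Nat.not_even_iff_odd.mpr hodd) this
  obtain ⟨r, rfl⟩ := hodd
  obtain ⟨w, hw⟩ := exists_NF_id_rank m x hx' hs hna
  have hm : 1 ≤ m := by
    have := hw.two_mul_card_le hnd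
    rw [finrank_VV, Fintype.card_fin] at this
    omega
  obtain ⟨k, rfl, key⟩ := card_comm_id m hm h x (2 * r) w hw
  have hq : 2 ≤ Fintype.card F := Fintype.one_lt_card
  have := centr_arith (Fintype.card F) (2 * r) k _ _
    (Fintype.card F ^ (r ^ 2) * PP (Fintype.card F) r) 0 _ hq
    (by rw [(aNum_closed (Fintype.card F) r).1, pow_zero, one_mul]) (expB (2 * r) k) key
  rw [this, SpCentr.PP_eq_fin, SpCentr.PP_eq_fin]
  have e1 : (2 * r + 1 - 1) / 2 = r := by omega
  have e2 : 2 * r + 1 + k - (2 * r + 1) = k := by omega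
  rw [e1, e2]

/-- S2685 for `plusQF` -/
theorem centralizer_c {q : ℕ} (hF : Fintype.card F = q) {s : ℕ}
    (h : Fintype.card F ≠ 2 ∨ m ≠ 2) :
    ∀ (x : OP), x ^ 2 = 1 → (((x : GL (K m) F) : MM) - 1).rank = s → Even s →
    (∃ v : VV, plusQF F m ((((x : GL (K m) F) : MM) - 1) *ᵥ v) ≠ 0) →
    Nat.card {g : ↥(Cfsg.Omega F ⇑(plusQF F m)) // (g : OP) * x = x * (g : OP)} =
      q ^ (2 * m * (s - 1) - (3 * s ^ 2 - 5 * s) / 2 - 1) *
        (q ^ (((s - 2) / 2) ^ 2) * ∏ i : Fin ((s - 2) / 2), (q ^ (2 * ((i : ℕ) + 1)) - 1)) *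
        (q ^ ((m - s) ^ 2) * ∏ i : Fin (m - s), (q ^ (2 * ((i : ℕ) + 1)) - 1)) := by
  intro x hx hs heven hna'
  subst hF
  have hnd := Cfsg.Agent.S0287.nondeg (F := F) m
  have hx' : x * x = 1 := by rw [← pow_two]; exact hx
  have hna : ∃ v : VV, polar (⇑(plusQF F m)) v (((x : GL (K m) F) : MM) *ᵥ v) ≠ 0 := by
    obtain ⟨v, hv⟩ := hna'
    exact ⟨v, by rw [polar_eq_Q_sub]; exact hv⟩
  obtain ⟨w, hw⟩ := exists_NF_id_rank m x hx' hs hna
  have hs0 : s ≠ 0 := by
    rintro rfl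
    have := hw.eq_id_of_isEmpty
    obtain ⟨v, hv⟩ := hna
    apply hv
    rw [← Matrix.toLin'_apply, this, LinearMap.id_apply]
    exact Char2Gen.polar_self_zero (plusQF F m) v
  obtain ⟨r, rfl⟩ : ∃ r, s = 2 * r + 1 + 1 := by
    obtain ⟨j, hj⟩ := heven
    exact ⟨j - 1, by omega⟩
  have hm : 1 ≤ m := by
    have := hw.two_mul_card_le hnd
    rw [finrank_VV, Fintype.card_fin] at this
    omega
  obtain ⟨k, rfl, key⟩ := card_comm_id m hm h x (2 * r + 1) w hw
  have hq : 2 ≤ Fintype.card F := Fintype.one_lt_card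
  have := centr_arith (Fintype.card F) (2 * r + 1) k _ _
    (Fintype.card F ^ (r ^ 2) * PP (Fintype.card F) r) (2 * r + 1) _ hq
    (by rw [show 2 * r + 1 + 1 = 2 * r + 2 from rfl, (aNum_closed (Fintype.card F) r).2])
    (expC (2 * r + 1) k (by omega)) key
  rw [this, SpCentr.PP_eq_fin, SpCentr.PP_eq_fin]
  have e1 : (2 * r + 1 + 1 - 2) / 2 = r := by omega
  have e2 : 2 * r + 1 + 1 + k - (2 * r + 1 + 1) = k := by omega
  rw [e1, e2]

end Cfsg.Agent.Lib.H13.OPlusCentr
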