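import Cfsg.Agent.Lib.H13.OPlusCentr

set_option autoImplicit false

namespace Cfsg.Agent.Lib.H13.OPlusCentr

open Module Matrix QuadraticMap Finset
open Cfsg.Agent.Lib.H13 Cfsg.Agent.Lib.H13.SpInvol Cfsg.Agent.Lib.H13.NFFibre
open Cfsg.Agent.Lib.H13.ONBCount Cfsg.Agent.Lib.H13.CentrArith Cfsg.Agent.Lib.H13.OCentrArith
open Cfsg.Agent.Lib.H13.QFrameCount Cfsg.Agent.Lib.H13.PlusLevi

variable {F : Type*} [Field F] [Fintype F] [CharP F 2] (m : ℕ)

set_option quotPrecheck false in
local notation "OP" => ↥(Cfsg.isometryGroup F ⇑(plusQF F m))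

set_option quotPrecheck false in
local notation "MM" => Matrix (K m) (K m) F

set_option quotPrecheck false in
local notation "VV" => (K m → F)

/-- an isometry commuting with an involution of type `a_m` lies in `Ω` -/
theorem comm_mem_Omega_exc (h : Fintype.card F ≠ 2 ∨ m ≠ 2) (t c : OP) (ht : t * t = 1)
    (hrank : (((t : GL (K m) F) : MM) - 1).rank = m) (hm : 1 ≤ m)
    (halt : ∀ v, polar (⇑(plusQF F m)) v (((t : GL (K m) F) : MM) *ᵥ v) = 0)
    (hcomm : c * t = t * c) : c ∈ Cfsg.Omega F ⇑(plusQF F m) := by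
  have hnd := Cfsg.Agent.S0287.nondeg (F := F) m
  have ht1 : t ≠ 1 := by
    intro h1
    rw [h1, rank_one_sub] at hrank
    omega
  obtain ⟨-, -, h3⟩ := OInvol.invariants_range (plusQF F m) hnd t ht ht1
  have hts := (h3 halt).2
  obtain ⟨W, hWdef⟩ : ∃ W : Submodule F (K m → F), W = LinearMap.range
    (Matrix.toLin' (((t : GL (K m) F) : Matrix (K m) (K m) F) - 1)) := ⟨_, rfl⟩
  have hW : finrank F W = m := by
    rw [hWdef, Matrix.toLin'_apply']; exact hrank
  have hW0 : ∀ w ∈ W, plusQF F m w = 0 := by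
    intro w hw
    rw [hWdef, Matrix.toLin'_apply'] at hw
    exact hts w hw
  have hmap : W.map (Matrix.mulVecLin ((c : GL (K m) F) : Matrix (K m) (K m) F)) = W := by
    have := PlusSplit.range_conj (⇑(plusQF F m)) t t c (by rw [hcomm]; group)
    rw [← hWdef] at this
    exact this.symm
  rw [← PlusSplit.even_iff_mem_Omega_ts h W hW hW0 c, hmap, inf_idem, hW, Nat.sub_self]
  exact ⟨0, rfl⟩

theorem gg_pos (q M i : ℕ) (hq : 2 ≤ q) (hi : i < M) : 0 < gg q M i := by
  unfold gg
  have : 1 < q ^ (M - i) := Nat.one_lt_pow (by omega) (by omega)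
  exact Nat.mul_pos (by omega) (by omega)

theorem card_comm_swap (hm : 1 ≤ m) (h : Fintype.card F ≠ 2 ∨ m ≠ 2) (x : OP) (hx : x * x = 1)
    (r : ℕ) (w : Fin r ⊕ Fin r → VV)
    (hw : IsNF (polarBilin (plusQF F m)) (Matrix.toLin' ((x : GL (K m) F) : MM)) Sum.swap w) :
    ∃ k, m = k + 2 * r ∧
      Nat.card {g : ↥(Cfsg.Omega F ⇑(plusQF F m)) // (g : OP) * x = x * (g : OP)} *
        Fintype.card F ^ (∑ i ∈ range (2 * r), i + k * (k - 1)) =
      (Fintype.card F ^ (r ^ 2) * PP (Fintype.card F) r) *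
        (if k = 0 then 1 else oh (Fintype.card F) k) *
        Fintype.card F ^ ((k + 2 * r) * (k + 2 * r - 1)) := by
  classical
  have hnd := Cfsg.Agent.S0287.nondeg (F := F) m
  have hq : 2 ≤ Fintype.card F := Fintype.one_lt_card
  have hh := hh_of m h
  have hle := hw.two_mul_card_le hnd
  rw [finrank_VV, Fintype.card_sum, Fintype.card_fin] at hle
  obtain ⟨k, hk⟩ : ∃ k, m = k + 2 * r := ⟨m - 2 * r, by omega⟩
  refine ⟨k, hk, ?_⟩
  have hrank : (((x : GL (K m) F) : MM) - 1).rank = 2 * r := by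
    have := hw.finrank_range hnd (OInvol.polarBilin_alt (plusQF F m)) Sum.swap_swap
    rw [← OInvol.rank_eq, Fintype.card_sum, Fintype.card_fin] at this
    omega
  have halt : ∀ v, polar (⇑(plusQF F m)) v (((x : GL (K m) F) : MM) *ᵥ v) = 0 := by
    intro v
    have := hw.alt_swap (OInvol.polarBilin_alt (plusQF F m)) v
    rw [polarBilin_apply_apply, Matrix.toLin'_apply] at this
    exact this
  have key := OCentr.card_centralizer_mul (plusQF F m) hnd x Sum.swap Sum.swap_swap w hw
  have e1 : Nat.card {w : Fin r ⊕ Fin r → VV // LinearIndependent F w ∧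
      (∀ i j, polarBilin (plusQF F m) (w i) (w j) = 0) ∧
      ∀ i, plusQF F m (w i) = if Sum.swap i = i then 1 else 0} =
      Nat.card {w : Fin r ⊕ Fin r → VV // LinearIndependent F w ∧
      (∀ i j, polarBilin (plusQF F m) (w i) (w j) = 0) ∧
      ∀ i, plusQF F m (w i) = 0} := by
    apply Nat.card_congr
    apply Equiv.subtypeEquivRight
    intro w
    have : ∀ i : Fin r ⊕ Fin r, Sum.swap i ≠ i := by
      rintro (i | i) <;> simp
    simp [this]
  have e : Fin r ⊕ Fin r ≃ Fin (2 * r) := finSumFinEquiv.trans (finCongr (by ring))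
  have e2 : Nat.card {w : Fin (2 * r) → VV // LinearIndependent F w ∧
      (∀ i j, polarBilin (plusQF F m) (w i) (w j) = 0) ∧
      ∀ i, plusQF F m (w i) = 0} = Nat.card {w : Fin (2 * r) → VV // IsFr (plusQF F m) 0 w} := rfl
  rw [e1, card_qframes_equiv (plusQF F m) e 0, e2, card_frames_zero (plusQF F m) hnd (2 * r),
    card_zero_plus m hm, finrank_VV,
    card_NF_swap hnd (OInvol.polarBilin_alt (plusQF F m)) hw, card_OP m hm] at key
  have hprod : ∏ i ∈ range (2 * r), (Fintype.card F ^ (2 * m - 1) + Fintype.card F ^ m -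
      Fintype.card F ^ (m - 1) + Fintype.card F ^ (2 * m - i - 1) - Fintype.card F ^ (2 * m - 1) -
      Fintype.card F ^ i) =
      Fintype.card F ^ (∑ i ∈ range (2 * r), i) * ∏ i ∈ range (2 * r), gg (Fintype.card F) m i := by
    rw [← Finset.prod_pow_eq_pow_sum, ← Finset.prod_mul_distrib]
    apply Finset.prod_congr rfl
    intro i hi
    rw [Finset.mem_range] at hi
    exact factor_eq _ m i hq (by omega)
  rw [hprod] at key
  have hadd := oo_add (Fintype.card F) k (2 * r) (by omega)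
  rw [← hk] at hadd
  have hgpos : 0 < ∏ i ∈ range (2 * r), gg (Fintype.card F) m i := by
    apply Finset.prod_pos
    intro i hi
    rw [Finset.mem_range] at hi
    exact gg_pos _ m i hq (by omega)
  -- the identity for the centraliser in `O`
  have hCO : Nat.card ↥(Subgroup.centralizer ({x} : Set OP)) *
      Fintype.card F ^ (∑ i ∈ range (2 * r), i + k * (k - 1)) =
      (Fintype.card F ^ (r ^ 2) * PP (Fintype.card F) r) * oo (Fintype.card F) k *
        Fintype.card F ^ (m * (m - 1)) := by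
    apply Nat.eq_of_mul_eq_mul_right hgpos
    rw [pow_add]
    calc Nat.card ↥(Subgroup.centralizer ({x} : Set OP)) *
          (Fintype.card F ^ (∑ i ∈ range (2 * r), i) * Fintype.card F ^ (k * (k - 1))) *
          ∏ i ∈ range (2 * r), gg (Fintype.card F) m i
        = (Nat.card ↥(Subgroup.centralizer ({x} : Set OP)) *
          (Fintype.card F ^ (∑ i ∈ range (2 * r), i) *
            ∏ i ∈ range (2 * r), gg (Fintype.card F) m i)) * Fintype.card F ^ (k * (k - 1)) := by
          ring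
      _ = (Fintype.card F ^ (r ^ 2) * PP (Fintype.card F) r) *
          (oo (Fintype.card F) m * Fintype.card F ^ (k * (k - 1))) := by
          rw [key]
          simp only [PP]
          ring
      _ = _ := by rw [hadd]; ring
  rw [← hk]
  rcases Nat.eq_zero_or_pos k with hk0 | hk0
  · -- exceptional case
    rw [if_pos hk0]
    have hrm : (((x : GL (K m) F) : MM) - 1).rank = m := by rw [hrank]; omega
    have := OmegaCentr.card_centralizer_eq_of_le (plusQF F m) x
      (fun c hc => comm_mem_Omega_exc m h x c hx hrm hm halt hc)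
    rw [← this, hCO, hk0]
    simp [oo]
  · rw [if_neg (by omega)]
    have hne : ¬ ((((x : GL (K m) F) : MM) - 1).rank = m ∧
        ∀ v, polar (⇑(plusQF F m)) v (((x : GL (K m) F) : MM) *ᵥ v) = 0) := by
      rintro ⟨h1, -⟩
      rw [hrank] at h1
      omega
    obtain ⟨v, hv1, hv2⟩ := OmegaInvol.exists_fixed_nonsingular (plusQF F m) hnd (card_K m) x hx hne
    have h2 := OmegaCentr.card_centralizer_eq_two_mul (plusQF F m) hnd hh x v hv2 hv1
    rw [h2] at hCO
    unfold oo at hCO
    rw [if_neg (by omega)] at hCO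
    have : 2 * (Nat.card {g : ↥(Cfsg.Omega F ⇑(plusQF F m)) // (g : OP) * x = x * (g : OP)} *
        Fintype.card F ^ (∑ i ∈ range (2 * r), i + k * (k - 1))) =
        2 * ((Fintype.card F ^ (r ^ 2) * PP (Fintype.card F) r) * oh (Fintype.card F) k *
        Fintype.card F ^ (m * (m - 1))) := by
      calc _ = 2 * Nat.card {g : ↥(Cfsg.Omega F ⇑(plusQF F m)) // (g : OP) * x = x * (g : OP)} *
          Fintype.card F ^ (∑ i ∈ range (2 * r), i + k * (k - 1)) := by ring
        _ = _ := by rw [hCO]; ring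
    exact Nat.eq_of_mul_eq_mul_left (by omega) this

/-- S2684 for `plusQF` -/
theorem centralizer_a {q : ℕ} (hF : Fintype.card F = q) {s : ℕ}
    (h : Fintype.card F ≠ 2 ∨ m ≠ 2) :
    ∀ (x : OP), x ^ 2 = 1 → x ≠ 1 → (((x : GL (K m) F) : MM) - 1).rank = s →
    (∀ v : VV, plusQF F m ((((x : GL (K m) F) : MM) - 1) *ᵥ v) = 0) →
    Nat.card {g : ↥(Cfsg.Omega F ⇑(plusQF F m)) // (g : OP) * x = x * (g : OP)} =
      q ^ (2 * m * s - (3 * s ^ 2 + s) / 2) *
        (q ^ ((s / 2) ^ 2) * ∏ i : Fin (s / 2), (q ^ (2 * ((i : ℕ) + 1)) - 1)) *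
        (if s = m then 1 else q ^ ((m - s) * (m - s - 1)) * (q ^ (m - s) - 1) *
          ∏ i : Fin (m - s - 1), (q ^ (2 * ((i : ℕ) + 1)) - 1)) := by
  intro x hx hx1 hs halt'
  subst hF
  have hnd := Cfsg.Agent.S0287.nondeg (F := F) m
  have hq : 2 ≤ Fintype.card F := Fintype.one_lt_card
  have hx' : x * x = 1 := by rw [← pow_two]; exact hx
  have halt : ∀ v : VV, polar (⇑(plusQF F m)) v (((x : GL (K m) F) : MM) *ᵥ v) = 0 := by
    intro v
    rw [polar_eq_Q_sub]; exact halt' v
  have hm : 1 ≤ m := by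
    obtain ⟨h1, h2, -⟩ := OInvol.invariants_range (plusQF F m) hnd x hx' hx1
    rw [card_K] at h2
    omega
  obtain ⟨r, w, rfl, hw⟩ := exists_NF_swap_rank m x hx' hs halt
  obtain ⟨k, rfl, key⟩ := card_comm_swap m hm h x hx' r w hw
  have hpos : 0 < Fintype.card F ^ (∑ i ∈ range (2 * r), i + k * (k - 1)) := pow_pos (by omega) _
  apply Nat.eq_of_mul_eq_mul_right hpos
  rw [key]
  have hX : (if 2 * r = k + 2 * r then 1 else
      Fintype.card F ^ ((k + 2 * r - 2 * r) * (k + 2 * r - 2 * r - 1)) *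
        (Fintype.card F ^ (k + 2 * r - 2 * r) - 1) *
        ∏ i : Fin (k + 2 * r - 2 * r - 1), (Fintype.card F ^ (2 * ((i : ℕ) + 1)) - 1)) =
      (if k = 0 then 1 else oh (Fintype.card F) k) := by
    have e1 : k + 2 * r - 2 * r = k := by omega
    rw [e1]
    by_cases hk : k = 0
    · rw [if_pos hk, if_pos (by omega)]
    · rw [if_neg hk, if_neg (by omega)]
      unfold oh
      rw [SpCentr.PP_eq_fin]
  rw [hX]
  have e2 : 2 * r / 2 = r := by omega
  rw [e2, ← SpCentr.PP_eq_fin]
  have hE := expA (2 * r) k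
  rw [add_comm (2 * r) k] at hE
  calc Fintype.card F ^ r ^ 2 * PP (Fintype.card F) r *
        (if k = 0 then 1 else oh (Fintype.card F) k) *
        Fintype.card F ^ ((k + 2 * r) * (k + 2 * r - 1))
      = Fintype.card F ^ r ^ 2 * PP (Fintype.card F) r *
        (if k = 0 then 1 else oh (Fintype.card F) k) *
        Fintype.card F ^ (2 * (k + 2 * r) * (2 * r) - (3 * (2 * r) ^ 2 + 2 * r) / 2 +
          ∑ i ∈ range (2 * r), i + k * (k - 1)) := by rw [hE]
    _ = _ := by
      rw [add_assoc, pow_add]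
      ring

end Cfsg.Agent.Lib.H13.OPlusCentr
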