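import Mathlib
import Cfsg.Agent.Lib.H13.OSS3
import Cfsg.Agent.S0291
import Cfsg.Agent.Lib.H24.ElusTiCount

/-!
Counting totally isotropic subspaces of a nondegenerate symmetric space of dimension `2 d + 1` over a finite field of odd order (helper13):
`card_isotropic_odd`, `card_isotropic_orth`, `card_tiSeqS`, `card_tisub_mulS`, `exists_of_dvd_card_tisubS`.
-/

set_option autoImplicit false
set_option linter.unusedSectionVars false
set_option linter.unusedVariables false
set_option linter.unusedSimpArgs false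
set_option linter.deprecated false

namespace Cfsg.Agent.Lib.H13.OSS

section

open Polynomial Module Matrix
open Cfsg.Agent.Lib.H24.Elus
open Cfsg.Agent.Lib.H13

section count

variable {F : Type*} [Field F] [Fintype F] {V : Type*} [AddCommGroup V] [Module F V]
  [Module.Finite F V]

/-- the number of isotropic vectors of a nondegenerate symmetric space of dimension `2 e + 1` -/
theorem card_isotropic_odd {q : ℕ} (hF : Fintype.card F = q) (hodd : Odd q) (h2 : (2 : F) ≠ 0)
    (B : LinearMap.BilinForm F V) (hsym : ∀ u v, B u v = B v u)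
    (hnd : ∀ v, (∀ w, B v w = 0) → v = 0) (e : ℕ) (hV : finrank F V = 2 * e + 1) :
    Nat.card {v : V // B v v = 0} = q ^ (2 * e) := by
  obtain ⟨Q, hQ⟩ : ∃ Q : QuadraticForm F V, Q = B.toQuadraticMap := ⟨_, rfl⟩
  have hQapp : ∀ v, Q v = B v v := fun v => by rw [hQ]; rfl
  have hpol : ∀ u v, QuadraticMap.polar (⇑Q) u v = 2 * B u v := by
    intro u v
    rw [hQ, LinearMap.BilinMap.polar_toQuadraticMap, hsym v u]
    ring
  have hQnd : (QuadraticMap.polarBilin Q).Nondegenerate := by
    constructor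
    · intro u hu
      apply hnd
      intro w
      have := hu w
      rw [QuadraticMap.polarBilin_apply_apply, hpol] at this
      rcases mul_eq_zero.mp this with h | h
      · exact absurd h h2
      · exact h
    · intro u hu
      apply hnd
      intro w
      have := hu w
      rw [QuadraticMap.polarBilin_apply_apply, hpol, hsym] at this
      rcases mul_eq_zero.mp this with h | h
      · exact absurd h h2
      · exact h
  obtain ⟨E, dd, hdd, hEQ⟩ := exists_odd_coords Q hQnd e hV
  rw [← Cfsg.Agent.S0291.result hF hodd e]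
  apply Nat.card_congr
  refine E.toEquiv.subtypeEquiv ?_
  intro v
  rw [← hQapp, hEQ]
  constructor
  · intro h
    rcases mul_eq_zero.mp h with h' | h'
    · exact absurd h' hdd
    · exact h'
  · intro h
    have h' : Cfsg.quadFormOdd e F (E v) = 0 := h
    rw [h', mul_zero]

end count

end

section

open Polynomial Module Matrix
open Cfsg.Agent.Lib.H24.Elus
open Cfsg.Agent.Lib.H13

section count

variable {F : Type*} [Field F] [Fintype F] {V : Type*} [AddCommGroup V] [Module F V]
  [Module.Finite F V]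

/-- the number of isotropic vectors orthogonal to a totally isotropic subspace -/
theorem card_isotropic_orth {q : ℕ} (hF : Fintype.card F = q) (hodd : Odd q) (h2 : (2 : F) ≠ 0)
    (B : LinearMap.BilinForm F V) (hsym : ∀ u v, B u v = B v u)
    (hnd : ∀ v, (∀ w, B v w = 0) → v = 0) (d : ℕ) (hV : finrank F V = 2 * d + 1)
    (U : Submodule F V) (hU : TIon B U) (j : ℕ) (hj : finrank F U = j) (hjd : j ≤ d) :
    Nat.card {v : V // v ∈ B.orthogonal U ∧ B v v = 0} = q ^ (2 * d - j) := by
  haveI : Finite V := Module.finite_of_finite F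
  have hBnd : B.Nondegenerate :=
    ⟨hnd, fun v hv => hnd v (fun w => by rw [hsym]; exact hv w)⟩
  have hBrefl : B.IsRefl := fun u v h => by rw [hsym]; exact h
  have hO : finrank F (B.orthogonal U) = 2 * d + 1 - j := by
    rw [LinearMap.BilinForm.finrank_orthogonal hBnd, hj, hV]
  have hUO : U ≤ B.orthogonal U := fun u hu n hn => hU n hn u hu
  obtain ⟨Y₀, hY₀⟩ := Submodule.exists_isCompl U
  obtain ⟨Y, hY⟩ : ∃ Y, Y = Y₀ ⊓ B.orthogonal U := ⟨_, rfl⟩
  have hUY : U ⊓ Y = ⊥ := by
    rw [eq_bot_iff, ← hY₀.inf_eq_bot, hY]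
    exact inf_le_inf_left U inf_le_left
  have hsup : U ⊔ Y = B.orthogonal U := by
    have := sup_inf_assoc_of_le Y₀ hUO
    rw [hY₀.sup_eq_top, top_inf_eq] at this
    rw [hY]
    exact this.symm
  have hYO : Y ≤ B.orthogonal U := by rw [← hsup]; exact le_sup_right
  have hYdim : finrank F Y = 2 * (d - j) + 1 := by
    have h := Submodule.finrank_sup_add_finrank_inf_eq U Y
    rw [hsup, hUY, finrank_bot, add_zero, hO, hj] at h
    omega
  have hUYorth : ∀ u ∈ U, ∀ y ∈ Y, B u y = 0 := fun u hu y hy => hYO hy u hu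
  have hYnd : NDon B Y := by
    intro y hy h
    have h1 : y ∈ B.orthogonal (B.orthogonal U) := by
      intro w hw
      rw [← hsup] at hw
      obtain ⟨u, hu, y', hy', rfl⟩ := Submodule.mem_sup.mp hw
      show B (u + y') y = 0
      rw [map_add, LinearMap.add_apply, hUYorth u hu y hy, hsym y' y, h y' hy', add_zero]
    rw [LinearMap.BilinForm.orthogonal_orthogonal hBnd hBrefl] at h1
    have h3 : y ∈ U ⊓ Y := Submodule.mem_inf.mpr ⟨h1, hy⟩
    rw [hUY] at h3
    exact (Submodule.mem_bot F).mp h3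
  -- the isotropic vectors of `Y`
  have hcardY : Nat.card {y : ↥Y // (B.restrict Y) y y = 0} = q ^ (2 * (d - j)) := by
    apply card_isotropic_odd hF hodd h2 (B.restrict Y) (fun u v => hsym _ _) ?_ (d - j) hYdim
    intro v hv
    apply Subtype.ext
    apply hYnd v.1 v.2
    intro w hw
    exact hv ⟨w, hw⟩
  have hkey : ∀ u ∈ U, ∀ y ∈ Y, B (u + y) (u + y) = B y y := by
    intro u hu y hy
    simp only [map_add, LinearMap.add_apply]
    rw [hU u hu u hu, hUYorth u hu y hy, hsym y u, hUYorth u hu y hy]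
    ring
  -- the bijection
  let g : ↥U × {y : ↥Y // (B.restrict Y) y y = 0} → {v : V // v ∈ B.orthogonal U ∧ B v v = 0} :=
    fun p => ⟨p.1.1 + p.2.1.1, Submodule.add_mem _ (hUO p.1.2) (hYO p.2.1.2), by
      rw [hkey _ p.1.2 _ p.2.1.2]
      exact p.2.2⟩
  have hginj : Function.Injective g := by
    rintro ⟨u, y⟩ ⟨u', y'⟩ h
    have h1 : u.1 + y.1.1 = u'.1 + y'.1.1 := congrArg Subtype.val h
    have h3 : u.1 - u'.1 ∈ U ⊓ Y := by
      refine Submodule.mem_inf.mpr ⟨Submodule.sub_mem _ u.2 u'.2, ?_⟩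
      have : u.1 - u'.1 = y'.1.1 - y.1.1 := by
        rw [sub_eq_sub_iff_add_eq_add, h1, add_comm]
      rw [this]
      exact Submodule.sub_mem _ y'.1.2 y.1.2
    rw [hUY] at h3
    have h4 : u.1 = u'.1 := sub_eq_zero.mp ((Submodule.mem_bot F).mp h3)
    have h5 : y.1.1 = y'.1.1 := by
      rw [h4] at h1
      exact add_left_cancel h1
    exact Prod.ext (Subtype.ext h4) (Subtype.ext (Subtype.ext h5))
  have hgsurj : Function.Surjective g := by
    rintro ⟨v, hv, hvv⟩
    rw [← hsup] at hv
    obtain ⟨u, hu, y, hy, rfl⟩ := Submodule.mem_sup.mp hv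
    refine ⟨(⟨u, hu⟩, ⟨⟨y, hy⟩, ?_⟩), rfl⟩
    rw [hkey u hu y hy] at hvv
    exact hvv
  rw [← Nat.card_congr (Equiv.ofBijective g ⟨hginj, hgsurj⟩), Nat.card_prod, hcardY,
    Module.natCard_eq_pow_finrank (K := F), hj, Nat.card_eq_fintype_card, hF, ← pow_add]
  congr 1
  omega

end count

end

section

open Polynomial Module Matrix
open Cfsg.Agent.Lib.H24.Elus
open Cfsg.Agent.Lib.H13

section count

variable {F : Type*} [Field F] [Fintype F] {V : Type*} [AddCommGroup V] [Module F V]
  [Module.Finite F V]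
variable (B : LinearMap.BilinForm F V)

/-- the fibre of `tiTail` (symmetric forms) -/
noncomputable def tiFibreEquivS (hsym : ∀ u v, B u v = B v u) (m : ℕ) (s : TiSeq B m) :
    {s' : TiSeq B (m + 1) // tiTail B m s' = s} ≃
      {v : V // (v ∈ B.orthogonal (Submodule.span F (Set.range s.1)) ∧ B v v = 0) ∧
        v ∉ Submodule.span F (Set.range s.1)} where
  toFun s' := ⟨s'.1.1 0, by
    have hs : Fin.tail s'.1.1 = s.1 := congrArg Subtype.val s'.2
    refine ⟨⟨?_, s'.1.2.2 0 0⟩, ?_⟩
    · rw [← hs]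
      intro n hn
      have hle : Submodule.span F (Set.range (Fin.tail s'.1.1)) ≤
          LinearMap.ker (B.flip (s'.1.1 0)) := by
        rw [Submodule.span_le]
        rintro _ ⟨i, rfl⟩
        rw [SetLike.mem_coe, LinearMap.mem_ker]
        exact s'.1.2.2 i.succ 0
      have := hle hn
      rw [LinearMap.mem_ker] at this
      exact this
    · rw [← hs]
      exact (linearIndependent_finSucc.mp s'.1.2.1).2⟩
  invFun v := ⟨⟨(Fin.cons v.1 s.1 : Fin (m + 1) → V), linearIndependent_finCons.mpr ⟨s.2.1, v.2.2⟩, by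
      intro i j
      refine Fin.cases ?_ (fun i' => ?_) i <;> refine Fin.cases ?_ (fun j' => ?_) j
      · simp only [Fin.cons_zero]
        exact v.2.1.2
      · simp only [Fin.cons_zero, Fin.cons_succ]
        rw [hsym]
        exact v.2.1.1 _ (Submodule.subset_span (Set.mem_range_self j'))
      · simp only [Fin.cons_zero, Fin.cons_succ]
        exact v.2.1.1 _ (Submodule.subset_span (Set.mem_range_self i'))
      · simp only [Fin.cons_succ]
        exact s.2.2 i' j'⟩, by
    apply Subtype.ext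
    show Fin.tail (Fin.cons v.1 s.1 : Fin (m + 1) → V) = s.1
    exact Fin.tail_cons _ _⟩
  left_inv s' := by
    apply Subtype.ext
    apply Subtype.ext
    show (Fin.cons (s'.1.1 0) s.1 : Fin (m + 1) → V) = s'.1.1
    have hs : Fin.tail s'.1.1 = s.1 := congrArg Subtype.val s'.2
    rw [← hs]
    exact Fin.cons_self_tail _
  right_inv v := by
    apply Subtype.ext
    show (Fin.cons v.1 s.1 : Fin (m + 1) → V) 0 = v.1
    exact Fin.cons_zero _ _

theorem card_tiFibreS {q : ℕ} (hF : Fintype.card F = q) (hodd : Odd q) (h2 : (2 : F) ≠ 0)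
    (hsym : ∀ u v, B u v = B v u) (hnd : ∀ v, (∀ w, B v w = 0) → v = 0) (d : ℕ)
    (hV : finrank F V = 2 * d + 1) (m : ℕ) (hm : m ≤ d) (s : TiSeq B m) :
    Nat.card {v : V // (v ∈ B.orthogonal (Submodule.span F (Set.range s.1)) ∧ B v v = 0) ∧
        v ∉ Submodule.span F (Set.range s.1)} = q ^ (2 * d - m) - q ^ m := by
  haveI : Finite V := Module.finite_of_finite F
  obtain ⟨U, hU⟩ : ∃ U, U = Submodule.span F (Set.range s.1) := ⟨_, rfl⟩
  rw [← hU]
  have hUm : finrank F U = m := by rw [hU, finrank_span_eq_card s.2.1, Fintype.card_fin]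
  have hUti : TIon B U := by rw [hU]; exact span_isotropic B s.1 s.2.2
  have hsub : (U : Set V) ⊆ {v : V | v ∈ B.orthogonal U ∧ B v v = 0} :=
    fun u hu => ⟨fun n hn => hUti n hn u hu, hUti u hu u hu⟩
  have h1 : Nat.card {v : V // (v ∈ B.orthogonal U ∧ B v v = 0) ∧ v ∉ U} =
      ({v : V | v ∈ B.orthogonal U ∧ B v v = 0} \ (U : Set V)).ncard := by
    rw [← Nat.card_coe_set_eq]
    rfl
  have h3 := Set.ncard_sdiff_add_ncard_of_subset hsub (Set.toFinite _)
  have h4 : ({v : V | v ∈ B.orthogonal U ∧ B v v = 0}).ncard = q ^ (2 * d - m) := by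
    rw [← Nat.card_coe_set_eq]
    exact card_isotropic_orth hF hodd h2 B hsym hnd d hV U hUti m hUm hm
  have h5 : (U : Set V).ncard = q ^ m := by
    rw [← Nat.card_coe_set_eq]
    show Nat.card ↥U = _
    rw [Module.natCard_eq_pow_finrank (K := F), hUm, Nat.card_eq_fintype_card, hF]
  rw [h1]
  omega

theorem card_tiSeqS {q : ℕ} (hF : Fintype.card F = q) (hodd : Odd q) (h2 : (2 : F) ≠ 0)
    (hsym : ∀ u v, B u v = B v u) (hnd : ∀ v, (∀ w, B v w = 0) → v = 0) (d : ℕ)
    (hV : finrank F V = 2 * d + 1) (m : ℕ) (hm : m ≤ d) :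
    Nat.card (TiSeq B m) = ∏ j : Fin m, (q ^ (2 * d - j.val) - q ^ j.val) := by
  haveI : Finite V := Module.finite_of_finite F
  induction m with
  | zero =>
    rw [Finset.univ_eq_empty, Finset.prod_empty]
    haveI : Unique (TiSeq B 0) :=
      { default := ⟨Fin.elim0, linearIndependent_empty_type, fun i => i.elim0⟩
        uniq := fun s => Subtype.ext (Subsingleton.elim _ _) }
    exact Nat.card_unique
  | succ m ih =>
    haveI : Fintype (TiSeq B m) := Fintype.ofFinite _
    rw [Nat.card_congr (Equiv.sigmaFiberEquiv (tiTail B m)).symm, Nat.card_sigma,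
      Finset.sum_congr rfl (fun s _ => (Nat.card_congr (tiFibreEquivS B hsym m s)).trans
        (card_tiFibreS B hF hodd h2 hsym hnd d hV m (by omega) s)), Finset.sum_const,
      Finset.card_univ, smul_eq_mul, ← Nat.card_eq_fintype_card, ih (by omega),
      Fin.prod_univ_castSucc]
    rfl

theorem card_tisub_mulS {q : ℕ} (hF : Fintype.card F = q) (hodd : Odd q) (h2 : (2 : F) ≠ 0)
    (hsym : ∀ u v, B u v = B v u) (hnd : ∀ v, (∀ w, B v w = 0) → v = 0) (d : ℕ)
    (hV : finrank F V = 2 * d + 1) (m : ℕ) (hm : m ≤ d) :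
    Nat.card (TiSub B m) * ∏ i : Fin m, (q ^ m - q ^ i.val) =
      ∏ j : Fin m, (q ^ (2 * d - j.val) - q ^ j.val) := by
  classical
  haveI : Finite V := Module.finite_of_finite F
  haveI : Finite (Submodule F V) := finite_submodule
  haveI : Fintype (TiSub B m) := Fintype.ofFinite _
  rw [← card_tiSeqS B hF hodd h2 hsym hnd d hV m hm,
    Nat.card_congr (Equiv.sigmaFiberEquiv (spanTI B m)).symm, Nat.card_sigma]
  have h : ∀ W : TiSub B m, Nat.card {s : TiSeq B m // spanTI B m s = W} =
      ∏ i : Fin m, (q ^ m - q ^ i.val) := by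
    intro W
    rw [Nat.card_congr (tiSpanFibreEquiv B m W)]
    haveI : Finite ↥W.1 := Finite.of_injective _ Subtype.val_injective
    have := card_linearIndependent (K := F) (V := ↥W.1) (k := m) (by rw [W.2.1])
    rw [this, W.2.1, hF]
  rw [Finset.sum_congr rfl (fun W _ => h W), Finset.sum_const, Finset.card_univ, smul_eq_mul,
    Nat.card_eq_fintype_card]

/-- a prime dividing the number of totally isotropic `m`-spaces -/
theorem exists_of_dvd_card_tisubS {q : ℕ} (hF : Fintype.card F = q) (hodd : Odd q)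
    (h2 : (2 : F) ≠ 0) (hsym : ∀ u v, B u v = B v u) (hnd : ∀ v, (∀ w, B v w = 0) → v = 0)
    (d : ℕ) (hV : finrank F V = 2 * d + 1) (m : ℕ) (hm : m ≤ d) (r : ℕ) (hr : r.Prime)
    (h : r ∣ Nat.card (TiSub B m)) :
    ∃ j, j < m ∧ r ∣ q ^ (2 * (d - j)) - 1 := by
  have hq : 2 ≤ q := by rw [← hF]; exact Fintype.one_lt_card
  have h1 := card_tisub_mulS B hF hodd h2 hsym hnd d hV m hm
  have hL : ∏ i : Fin m, (q ^ m - q ^ i.val) =
      (∏ i : Fin m, q ^ i.val) * ∏ i : Fin m, (q ^ (m - i.val) - 1) := by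
    rw [← Finset.prod_mul_distrib]
    apply Finset.prod_congr rfl
    intro i _
    rw [Nat.mul_sub, mul_one, ← pow_add, Nat.add_sub_cancel' i.2.le]
  have hR : ∏ j : Fin m, (q ^ (2 * d - j.val) - q ^ j.val) =
      (∏ i : Fin m, q ^ i.val) * ∏ j : Fin m, (q ^ (2 * (d - j.val)) - 1) := by
    rw [← Finset.prod_mul_distrib]
    apply Finset.prod_congr rfl
    intro j _
    have hj : j.val + 2 * (d - j.val) = 2 * d - j.val := by
      have := j.2
      omega
    rw [Nat.mul_sub, mul_one, ← pow_add, hj]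
  rw [hL, hR] at h1
  have hQ : 0 < ∏ i : Fin m, q ^ i.val :=
    Finset.prod_pos (fun i _ => pos_of_ne_zero (pow_ne_zero _ (by omega)))
  have h2' : Nat.card (TiSub B m) * ∏ i : Fin m, (q ^ (m - i.val) - 1) =
      ∏ j : Fin m, (q ^ (2 * (d - j.val)) - 1) := by
    apply Nat.eq_of_mul_eq_mul_left hQ
    rw [← h1]
    ring
  have h3 : r ∣ ∏ j : Fin m, (q ^ (2 * (d - j.val)) - 1) := by
    rw [← h2']
    exact h.mul_right _
  obtain ⟨j, -, hj⟩ := (Prime.dvd_finset_prod_iff hr.prime _).mp h3
  exact ⟨j.val, j.2, hj⟩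

end count

end

end Cfsg.Agent.Lib.H13.OSS
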