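import Mathlib
import Cfsg.Agent.Lib.H13.OSS4
import Cfsg.Agent.Lib.H13.OSS5
import Cfsg.Agent.Lib.H13.OSS6

/-!
`ts_main`: the elements of prime order of `Ω_{2d+1}(q)`, `q` odd, fixing a totally singular `m`-space (S5972, helper13).
-/

set_option autoImplicit false
set_option linter.unusedSectionVars false
set_option linter.unusedVariables false
set_option linter.unusedSimpArgs false
set_option linter.deprecated false

namespace Cfsg.Agent.Lib.H13.OSS

section

open Polynomial Module Matrix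
open Cfsg.Agent.Lib.H24.Elus
open Cfsg.Agent.Lib.H13

section main

variable {F : Type*} [Field F] [Fintype F] {p : ℕ} [Fact p.Prime] [CharP F p]

theorem ts_main {q : ℕ} (hq : Fintype.card F = q) (hqodd : Odd q)
    (d m : ℕ) (hd : 3 ≤ d) (hm : 1 ≤ m) (hmd : m ≤ d)
    (r : ℕ) [Fact r.Prime]
    (hrΩ : r ∣ Nat.card {W : Submodule F (Unit ⊕ (Fin d ⊕ Fin d) → F) //
      Module.finrank F ↥W = m ∧ (∀ w ∈ W, Cfsg.quadFormOdd d F w = 0)})
    (i c : ℕ) (hi : i = orderOf (q : ZMod r)) (hc : c = if Even i then i else 2 * i) :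
    AllFix (F := F) d m r ↔
    ((r = 2 ∧ (m < d ∨ q % 4 = 1)) ∨
     (r ≠ p ∧ 2 < r ∧ i ≤ m ∧ 2 * (m % i) < (2 * d + 1) % c ∧
      (Odd i ∨ (r - 1) / i + 2 * (m / i) ≤ (2 * d + 1) / i))) := by
  classical
  have hr : r.Prime := Fact.out
  have hp : p.Prime := Fact.out
  have h2 : (2 : F) ≠ 0 := HypPairs.two_ne_zero_of_odd_card hq hqodd
  have hd1 : 1 ≤ d := by omega
  have hcc : c = cOf i := by rw [hc]; rfl
  have hnd : ∀ v, (∀ w, oddB (F := F) d v w = 0) → v = 0 :=
    fun v hv => (Cfsg.Agent.S0286.nondeg h2 d).1 v hv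
  -- the count
  have hcardeq : Nat.card {W : Submodule F (Unit ⊕ (Fin d ⊕ Fin d) → F) //
      Module.finrank F ↥W = m ∧ (∀ w ∈ W, Cfsg.quadFormOdd d F w = 0)} =
        Nat.card (TiSub (oddB (F := F) d) m) :=
    Nat.card_congr (Equiv.subtypeEquivRight (fun W =>
      and_congr Iff.rfl (TIon_oddB_iff h2 d W).symm))
  rw [hcardeq] at hrΩ
  obtain ⟨j, hjm, hjdvd⟩ := exists_of_dvd_card_tisubS (oddB (F := F) d) hq hqodd h2
    (oddB_sym d) hnd d (finrank_oddV d) m hmd r hr hrΩ
  have hq1 : 1 ≤ q ^ (2 * (d - j)) := Nat.one_le_pow _ _ (by rw [← hq]; exact Fintype.card_pos)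
  have hrp : r ≠ p := by
    intro hrp
    have hpq : p ∣ q := by
      rw [← hq, ← CharP.cast_eq_zero_iff F p]
      exact Nat.cast_card_eq_zero F
    have h3 : p ∣ q ^ (2 * (d - j)) := dvd_pow hpq (by omega)
    rw [hrp] at hjdvd
    have h4 := (Nat.dvd_sub h3 hjdvd)
    rw [Nat.sub_sub_self hq1] at h4
    exact hp.one_lt.ne' (Nat.dvd_one.mp h4)
  have hjr : orderOf (q : ZMod r) ∣ 2 * (d - j) := by
    rw [orderOf_dvd_iff_pow_eq_one]
    have h3 := (ZMod.natCast_eq_zero_iff _ r).mpr hjdvd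
    rw [Nat.cast_sub hq1, Nat.cast_pow, Nat.cast_one, sub_eq_zero] at h3
    exact h3
  by_cases hr2 : r = 2
  · -- involutions
    have hcard4 : q % 4 = 1 ∨ q % 4 = 3 := by
      have := Nat.odd_iff.mp hqodd
      omega
    have hsq : IsSquare (-1 : F) ↔ q % 4 = 1 := by
      rw [FiniteField.isSquare_neg_one_iff, hq]
      omega
    constructor
    · intro h
      left
      refine ⟨hr2, ?_⟩
      by_contra hcon
      push Not at hcon
      have hmeq : m = d := by omega
      have hns : ¬ IsSquare (-1 : F) := by rw [hsq]; exact hcon.2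
      rw [hr2, hmeq] at h
      exact two_nec h2 d hd1 hns h
    · rintro (⟨-, hcond⟩ | ⟨-, h, -⟩)
      · intro x hxΩ hord
        rw [hr2] at hord
        have hx2 : x ^ 2 = 1 := by rw [← hord]; exact pow_orderOf_eq_one x
        exact two_suff h2 d m hd1 hmd (hcond.imp id hsq.mpr) x hxΩ hx2
      · omega
  · -- odd primes
    have hr3 : 2 < r := by
      have := hr.two_le
      omega
    constructor
    · intro h
      right
      obtain ⟨h3, h4⟩ := ts_nec_basic hq h2 d m hd1 hmd r hr2 hrp j hjm hjr h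
      rw [← hi, ← hcc] at h4
      rw [← hi] at h3
      refine ⟨hrp, hr3, h3, h4, ?_⟩
      by_cases heven : Even i
      · right
        have := ts_nec_types hq h2 d m hd1 hmd r hr2 hrp (hi ▸ heven) (hi ▸ h3) h
        rw [← hi] at this
        exact this
      · left
        exact Nat.not_even_iff_odd.mp heven
    · rintro (⟨h, -⟩ | ⟨-, -, h3, h4, h5⟩)
      · exact absurd h hr2
      · intro x hxΩ hord
        have hxr : x ^ r = 1 := by rw [← hord]; exact pow_orderOf_eq_one x
        obtain ⟨y, hy⟩ : ∃ y, y = Matrix.toLin'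
            (x : Matrix (Unit ⊕ (Fin d ⊕ Fin d)) (Unit ⊕ (Fin d ⊕ Fin d)) F) := ⟨_, rfl⟩
        have hyr : y ^ r = 1 := by rw [hy]; exact toLin_pow_eq_one x r hxr
        have hiso : ∀ u v, oddB d (y u) (y v) = oddB (F := F) d u v := by
          rw [hy]
          exact oddB_iso d x (mem_iso_of_mem_omegaGL _ x hxΩ)
        rw [hcc] at h4
        obtain ⟨W, hWm, hWti, hWinv⟩ := exists_ts_invariant hq hrp hr2 (oddB_sym d) hiso hyr
          (oddB_NDon_top h2 d) d m (finrank_oddV d) hmd i hi h4 h5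
        refine ⟨W, hWm, (TIon_oddB_iff h2 d W).mp hWti, ?_⟩
        rw [hy] at hWinv
        exact (map_le_iff W _).mpr hWinv

end main

end

end Cfsg.Agent.Lib.H13.OSS
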