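import Mathlib
import Cfsg.Prelude.Def_Solvable

/-! Order-type / Frobenius data shared by the S3999 pieces. -/

set_option autoImplicit false

namespace Cfsg.Agent.Lib.H13.OT
open Cfsg
open scoped Pointwise

/-- Everything the pieces need about a Frobenius group `X = M ⋊ Y` (`Y` complement, `M` kernel). -/
structure FrobData {X : Type*} [Group X] (Y M : Subgroup X) : Prop where
  compl : Cfsg.IsFrobeniusComplement Y
  normal : M.Normal
  nilp : Group.IsNilpotent M
  coe_eq : (M : Set X) = Cfsg.frobeniusKernel Y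
  isCompl : Subgroup.IsComplement' M Y
  coprime : (Nat.card M).Coprime (Nat.card Y)
  one_lt_M : 1 < Nat.card M
  one_lt_Y : 1 < Nat.card Y
  card_eq : Nat.card X = Nat.card M * Nat.card Y
  index_eq : Y.index = Nat.card M
  cover : ∀ x : X, x ∈ M ∨ ∃ g : X, x ∈ MulAut.conj g • Y
  order_dvd : ∀ x : X, orderOf x ∣ Nat.card M ∨ orderOf x ∣ Nat.card Y

end Cfsg.Agent.Lib.H13.OT
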