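import Mathlib
import Cfsg.Agent.Lib.H13.OTDefs
import Cfsg.Agent.S0034
import Cfsg.Agent.S0035
import Cfsg.Agent.S0042

/-! S3999 piece P1 DATA. -/

set_option autoImplicit false

namespace Cfsg.Agent.Lib.H13.OT
open Cfsg
open scoped Pointwise

universe u

/-- P1: the Frobenius data of a Frobenius complement. -/
theorem exists_frobData {X : Type u} [Group X] [Finite X] (Y : Subgroup X)
    (hY : Cfsg.IsFrobeniusComplement Y) : ∃ M : Subgroup X, FrobData Y M := by
  obtain ⟨M, hMcoe, hMn, hMc⟩ := Cfsg.Agent.S0035.result Y hY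
  obtain ⟨M', hM'coe, _, hM'nil⟩ := Cfsg.Agent.S0042.result Y hY
  have hMM' : M' = M := SetLike.coe_injective (hM'coe.trans hMcoe.symm)
  subst hMM'
  obtain ⟨hker, hmod⟩ := Cfsg.Agent.S0034.result Y hY
  have hcardM : Nat.card M' = Y.index := by
    rw [← hker, ← hMcoe]; rfl
  have hY1 : 1 < Nat.card Y := by
    rcases Nat.lt_or_ge 1 (Nat.card Y) with h | h
    · exact h
    · exfalso
      have hpos : 0 < Nat.card Y := Nat.card_pos
      have : Nat.card Y = 1 := by omega
      exact hY.1 (Subgroup.card_eq_one.mp this)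
  have hM1 : 1 < Nat.card M' := by
    rw [hcardM]
    have hne : Y.index ≠ 1 := fun h => hY.2.1 (Subgroup.index_eq_one.mp h)
    have hpos : 0 < Y.index := Nat.pos_of_ne_zero Subgroup.index_ne_zero_of_finite
    omega
  have hcop : (Nat.card M').Coprime (Nat.card Y) := by
    rw [hcardM]
    have h1 : 1 % Nat.card Y = 1 := Nat.mod_eq_of_lt hY1
    rw [h1] at hmod
    rw [Nat.Coprime, Nat.gcd_comm, Nat.gcd_rec, hmod, Nat.gcd_one_left]
  have hcard : Nat.card X = Nat.card M' * Nat.card Y := (hMc.card_mul_card).symm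
  have hcover : ∀ x : X, x ∈ M' ∨ ∃ g : X, x ∈ MulAut.conj g • Y := by
    intro x
    by_cases hx : x ∈ M'
    · exact Or.inl hx
    · right
      have hx' : x ∉ Cfsg.frobeniusKernel Y := by
        rw [← hMcoe]; exact hx
      by_contra hcon
      exact hx' (Or.inr (fun g hg => hcon ⟨g, hg⟩))
  refine ⟨M', hY, hMn, hM'nil, hMcoe, hMc, hcop, hM1, hY1, hcard, hcardM.symm, hcover, ?_⟩
  intro x
  rcases hcover x with hx | ⟨g, hx⟩
  · left
    have := orderOf_dvd_natCard (⟨x, hx⟩ : M')
    rwa [Subgroup.orderOf_mk] at this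
  · right
    have h1 := orderOf_dvd_natCard (⟨x, hx⟩ : (MulAut.conj g • Y : Subgroup X))
    rw [Subgroup.orderOf_mk] at h1
    have h2 : Nat.card (MulAut.conj g • Y : Subgroup X) = Nat.card Y :=
      Nat.card_congr (Subgroup.equivSMul (MulAut.conj g) Y).symm.toEquiv
    rwa [h2] at h1

end Cfsg.Agent.Lib.H13.OT
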