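import Mathlib

/-! S3999 piece P0 EQUIV + P3 SYLNORM (Mathlib only). -/

set_option autoImplicit false

namespace Cfsg.Agent.Lib.H13.OT

universe u v

/-- P0: equal order types give an order-preserving bijection. -/
theorem exists_equiv_orderOf {F : Type u} {G : Type v} [Group F] [Finite F] [Group G] [Finite G]
    (hT : ∀ m : ℕ, Nat.card {g : F // orderOf g = m} = Nat.card {h : G // orderOf h = m}) :
    ∃ φ : F ≃ G, ∀ g : F, orderOf (φ g) = orderOf g := by
  have he : ∀ k : ℕ, Nonempty ({g : F // orderOf g = k} ≃ {h : G // orderOf h = k}) :=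
    fun k => Finite.card_eq.mp (hT k)
  choose e _ using fun k => (⟨(he k).some, trivial⟩ : ∃ _ : {g : F // orderOf g = k} ≃ {h : G // orderOf h = k}, True)
  refine ⟨(Equiv.sigmaFiberEquiv (orderOf : F → ℕ)).symm.trans
    ((Equiv.sigmaCongrRight e).trans (Equiv.sigmaFiberEquiv (orderOf : G → ℕ))), ?_⟩
  intro g
  simp only [Equiv.trans_apply, Equiv.sigmaFiberEquiv, Equiv.coe_fn_symm_mk, Equiv.coe_fn_mk,
    Equiv.sigmaCongrRight_apply]
  exact (e (orderOf g) ⟨g, rfl⟩).2

/-- P3: if the number of `q`-elements equals the order of a Sylow `q`-subgroup, that Sylow is normal. -/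
theorem sylow_normal_of_card_q_elements {G : Type u} [Group G] [Finite G] (q : ℕ) [Fact q.Prime]
    (h : Nat.card {x : G // ∃ j : ℕ, orderOf x = q ^ j} = q ^ (Nat.card G).factorization q)
    (Q : Sylow q G) : (Q : Subgroup G).Normal := by
  -- every Sylow q-subgroup has carrier the set of q-elements
  have key : ∀ P : Sylow q G, ((P : Subgroup G) : Set G) = {x : G | ∃ j : ℕ, orderOf x = q ^ j} := by
    intro P
    have hsub : ((P : Subgroup G) : Set G) ⊆ {x : G | ∃ j : ℕ, orderOf x = q ^ j} := by
      intro x hx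
      obtain ⟨j, hj⟩ := (IsPGroup.iff_orderOf.mp P.isPGroup') ⟨x, hx⟩
      exact ⟨j, by rwa [Subgroup.orderOf_mk] at hj⟩
    have hfin : ({x : G | ∃ j : ℕ, orderOf x = q ^ j}).Finite := Set.toFinite _
    apply Set.eq_of_subset_of_ncard_le hsub _ hfin
    have h1 : ({x : G | ∃ j : ℕ, orderOf x = q ^ j}).ncard = q ^ (Nat.card G).factorization q := by
      rw [← h]; rfl
    have h2 : (((P : Subgroup G) : Set G)).ncard = q ^ (Nat.card G).factorization q := by
      rw [← P.card_eq_multiplicity]; rfl
    rw [h1, h2]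
  have hsub : Subsingleton (Sylow q G) := by
    constructor
    intro P P'
    apply Sylow.ext
    apply SetLike.coe_injective
    rw [key P, key P']
  exact Sylow.normal_of_subsingleton Q

end Cfsg.Agent.Lib.H13.OT
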