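import Mathlib
import Cfsg.Agent.Lib.H13.OTDefs

/-! S3999 piece P7 SOLV. -/

set_option autoImplicit false

namespace Cfsg.Agent.Lib.H13.OT
open Cfsg
open scoped Pointwise

universe u

/-- P7: a Frobenius group is solvable iff its complement is. -/
theorem solvable_iff {X : Type u} [Group X] [Finite X] {Y M : Subgroup X} (h : FrobData Y M) :
    Group.IsSolvable X ↔ Group.IsSolvable Y := by
  constructor
  · intro hX
    infer_instance
  · intro hY
    have := h.normal
    have : Group.IsNilpotent M := h.nilp
    have : Group.IsSolvable M := inferInstance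
    let e : X ⧸ M ≃* Y := Subgroup.IsComplement'.QuotientMulEquiv h.isCompl.symm
    have : Group.IsSolvable (X ⧸ M) := Group.isSolvable_of_isSolvable_injective (f := e.toMonoidHom) e.injective
    refine Group.isSolvable_of_ker_le_range M.subtype (QuotientGroup.mk' M) ?_
    intro x hx
    rw [QuotientGroup.ker_mk'] at hx
    exact ⟨⟨x, hx⟩, rfl⟩

end Cfsg.Agent.Lib.H13.OT
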