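import Mathlib
import Cfsg.Agent.Lib.H11.OrtOd4
import Cfsg.Agent.Lib.H10.OrtNdM

/-!
Elements of order two of `PΩ^±_{2d}(q)`, `q` odd, and nondegenerate subspaces of even dimension `m` of prescribed type (helper13,
for S5974, S5988, S5990): `exists_inv_nd_of_sq_neg_one` (an isometry with square `-1` has invariant nondegenerate subspaces of every even
dimension), `two_even_DSq` (discriminant form), `two_even_type`, `two_main` (every element `x` of `Ω(Q)` with `x ^ 2` scalar, `x` not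
scalar, fixes a nondegenerate `m`-space of type `τ` iff the conditions on `-1`, `2`, `d`, `m` hold).
-/

set_option autoImplicit false
set_option linter.unusedSectionVars false
set_option linter.unusedVariables false
set_option linter.unusedSimpArgs false
set_option linter.deprecated false

namespace Cfsg.Agent.Lib.H13.OTwo

section

open Module Matrix Cfsg.Agent.Lib.H24.Elus Cfsg.Agent.Lib.H10.OrtNd Cfsg.Agent.Lib.H11.OrtOd

section two

variable {F : Type*} [Field F] [Fintype F] {ι : Type} [Fintype ι] [DecidableEq ι]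
variable (Q : QuadraticForm F (ι → F))

/-- an isometry with square `-1` has invariant nondegenerate subspaces of every even dimension -/
theorem exists_inv_nd_of_sq_neg_one (hQ : (QuadraticMap.polarBilin Q).Nondegenerate)
    (h2 : (2 : F) ≠ 0) (d : ℕ) (hcard : Fintype.card ι = 2 * d) (X : Matrix ι ι F)
    (hiso : ∀ v, Q (X *ᵥ v) = Q v) (hsq : ∀ u, X *ᵥ (X *ᵥ u) = -u) (k : ℕ) (hk : k ≤ d) :
    ∃ W : Submodule F (ι → F), finrank F W = 2 * k ∧ NDon (PB Q) W ∧ ∀ u ∈ W, X *ᵥ u ∈ W := by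
  induction k with
  | zero =>
    refine ⟨⊥, by rw [finrank_bot], NDon_bot _, ?_⟩
    intro u hu
    rw [(Submodule.mem_bot F).mp hu, Matrix.mulVec_zero]
    exact Submodule.zero_mem _
  | succ k ih =>
    obtain ⟨W, hWd, hW, hWinv⟩ := ih (by omega)
    obtain ⟨W', hW'⟩ : ∃ W', W' = (⊤ : Submodule F (ι → F)) ⊓ (PB Q).orthogonal W := ⟨_, rfl⟩
    have hW'nd : NDon (PB Q) W' := by
      rw [hW']
      exact NDon_perp_inS (PB Q) (PB_symm Q) ⊤ W (NDon_top Q hQ) hW le_top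
    have hdim := finrank_perp_inS (PB Q) (PB_symm Q) ⊤ W hW le_top
    rw [← hW', finrank_top, Module.finrank_fintype_fun_eq_card, hcard, hWd] at hdim
    have hne : W' ≠ ⊥ := by
      intro h
      rw [h, finrank_bot] at hdim
      omega
    obtain ⟨v, hv, hQv⟩ := exists_nonsing Q hW'nd hne
    have hv' : ∀ a ∈ W, PB Q a v = 0 := by
      rw [hW'] at hv
      exact fun a ha => (Submodule.mem_inf.mp hv).2 a ha
    have hQXv : Q (X *ᵥ v) ≠ 0 := by rw [hiso]; exact hQv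
    have hvXv : PB Q v (X *ᵥ v) = 0 := by
      have h1 := polar_mulVec Q X hiso v (X *ᵥ v)
      rw [hsq, map_neg, PB_symm Q (X *ᵥ v) v] at h1
      have h3 : 2 * PB Q v (X *ᵥ v) = 0 := by linear_combination -h1
      exact (mul_eq_zero.mp h3).resolve_left h2
    have hWXv : ∀ a ∈ W, PB Q a (X *ᵥ v) = 0 := by
      intro a ha
      have h1 := polar_mulVec Q X hiso a (X *ᵥ v)
      rw [hsq, map_neg, hv' _ (hWinv a ha), neg_zero] at h1
      exact h1.symm
    have hnd1 : NDon (PB Q) (W ⊔ Submodule.span F {v}) := NDon_sup_span Q h2 hW hQv hv'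
    have hd1 : finrank F ↥(W ⊔ Submodule.span F {v}) = 2 * k + 1 := by
      rw [finrank_sup_span Q hW hQv hv', hWd]
    have horth2 : ∀ a ∈ W ⊔ Submodule.span F {v}, PB Q a (X *ᵥ v) = 0 := by
      intro a ha
      obtain ⟨w, hw, b, hb, rfl⟩ := Submodule.mem_sup.mp ha
      obtain ⟨c, rfl⟩ := Submodule.mem_span_singleton.mp hb
      rw [map_add, LinearMap.add_apply, hWXv w hw, map_smul, LinearMap.smul_apply, hvXv,
        smul_zero, add_zero]
    refine ⟨(W ⊔ Submodule.span F {v}) ⊔ Submodule.span F {X *ᵥ v}, ?_,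
      NDon_sup_span Q h2 hnd1 hQXv horth2, ?_⟩
    · rw [finrank_sup_span Q hnd1 hQXv horth2, hd1]
      ring
    · intro u hu
      obtain ⟨a, ha, b, hb, rfl⟩ := Submodule.mem_sup.mp hu
      obtain ⟨w, hw, c, hc, rfl⟩ := Submodule.mem_sup.mp ha
      obtain ⟨s, rfl⟩ := Submodule.mem_span_singleton.mp hc
      obtain ⟨t, rfl⟩ := Submodule.mem_span_singleton.mp hb
      rw [Matrix.mulVec_add, Matrix.mulVec_add, Matrix.mulVec_smul, Matrix.mulVec_smul, hsq]
      have h1 : X *ᵥ w ∈ (W ⊔ Submodule.span F {v}) ⊔ Submodule.span F {X *ᵥ v} :=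
        Submodule.mem_sup_left (Submodule.mem_sup_left (hWinv w hw))
      have h3 : s • X *ᵥ v ∈ (W ⊔ Submodule.span F {v}) ⊔ Submodule.span F {X *ᵥ v} :=
        Submodule.mem_sup_right (Submodule.smul_mem _ s (Submodule.mem_span_singleton_self _))
      have h4 : t • -v ∈ (W ⊔ Submodule.span F {v}) ⊔ Submodule.span F {X *ᵥ v} :=
        Submodule.mem_sup_left (Submodule.mem_sup_right
          (Submodule.smul_mem _ t (Submodule.neg_mem _ (Submodule.mem_span_singleton_self _))))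
      exact Submodule.add_mem _ (Submodule.add_mem _ h1 h3) h4

/-- nondegenerate subspaces `W₁ ⊔ W₂` with `W₁ ≤ Y₁`, `W₂ ≤ Y₂` of prescribed dimension and
discriminant class -/
theorem exists_sum_DSq (h2 : (2 : F) ≠ 0) {Y₁ Y₂ : Submodule F (ι → F)} (hY₁ : NDon (PB Q) Y₁)
    (hY₂ : NDon (PB Q) Y₂) (horth : ∀ u ∈ Y₁, ∀ v ∈ Y₂, PB Q u v = 0) (e₁ e₂ : ℕ)
    (he0 : 0 < e₁) (he : e₁ < finrank F Y₁) (he₂ : e₂ ≤ finrank F Y₂) (P : Prop) :
    ∃ W₁ W₂ : Submodule F (ι → F), W₁ ≤ Y₁ ∧ W₂ ≤ Y₂ ∧ NDon (PB Q) (W₁ ⊔ W₂) ∧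
      finrank F ↥(W₁ ⊔ W₂) = e₁ + e₂ ∧ (DSq Q (W₁ ⊔ W₂) ↔ P) := by
  obtain ⟨W₂, hW₂Y, hW₂, hW₂e⟩ := exists_nd_sub Q h2 hY₂ e₂ he₂
  obtain ⟨W₁, hW₁Y, hW₁, hW₁e, hW₁d⟩ := exists_nd_sub_DSq Q h2 hY₁ e₁ he0 he (P ↔ DSq Q W₂)
  have horth' : ∀ u ∈ W₁, ∀ v ∈ W₂, PB Q u v = 0 :=
    fun u hu v hv => horth u (hW₁Y hu) v (hW₂Y hv)
  have hnd : NDon (PB Q) (W₁ ⊔ W₂) := NDon_supS (PB Q) (PB_symm Q) W₁ W₂ hW₁ hW₂ horth'
  have hdim : finrank F ↥(W₁ ⊔ W₂) = e₁ + e₂ := by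
    have h := Submodule.finrank_sup_add_finrank_inf_eq W₁ W₂
    rw [inf_eq_bot_of_orthS (PB Q) (PB_symm Q) W₁ W₂ hW₁ horth', finrank_bot, add_zero, hW₁e,
      hW₂e] at h
    exact h
  refine ⟨W₁, W₂, hW₁Y, hW₂Y, hnd, hdim, ?_⟩
  rw [DSq_sup Q h2 hW₁ hW₂ horth', hW₁d]
  tauto

end two

end

section

open Module Matrix Cfsg.Agent.Lib.H24.Elus Cfsg.Agent.Lib.H10.OrtNd Cfsg.Agent.Lib.H11.OrtOd

section two

variable {F : Type*} [Field F] [Fintype F] {ι : Type} [Fintype ι] [DecidableEq ι]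
variable (Q : QuadraticForm F (ι → F))

/-- `r = 2`, odd characteristic, even `m`: discriminant form -/
theorem two_even_DSq [DecidableEq F] (hQ : (QuadraticMap.polarBilin Q).Nondegenerate)
    (h2 : (2 : F) ≠ 0) (d : ℕ) (hcard : Fintype.card ι = 2 * d) (m : ℕ) (hme : Even m)
    (hm : 2 ≤ m) (hmd : m + 2 ≤ 2 * d) (P : Prop) :
    (∀ x : GL ι F, x ∈ Cfsg.Geo.omegaGL ⇑Q →
      (∃ z : F, ((x ^ 2 : GL ι F) : Matrix ι ι F) = z • (1 : Matrix ι ι F)) →
      (∀ z : F, (x : Matrix ι ι F) ≠ z • (1 : Matrix ι ι F)) →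
      ∃ W : Submodule F (ι → F), (finrank F W = m ∧ NDon (PB Q) W ∧ (DSq Q W ↔ P)) ∧
        W.map (Matrix.toLin' (x : Matrix ι ι F)) ≤ W) ↔
    (DSq Q ⊤ ∧ IsSquare ((2 : F) ^ d) → P) := by
  have hd1 : 1 ≤ d := by omega
  have hcpos : 0 < Fintype.card ι := by omega
  constructor
  · rintro H ⟨hD, h2d⟩
    obtain ⟨g, hg, hsq⟩ := exists_sq_neg_one Q hQ h2 d hcard hD
    have hgΩ : g ∈ Cfsg.Geo.omegaGL ⇑Q :=
      (omega_iff_of_sq_neg_one Q hQ h2 d hd1 hcard g hg hsq).1.mpr h2d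
    have hiso := (Cfsg.Agent.Lib.H13.AutPO.mem_iso_iff (Q := Q) g).mp hg
    have hns : ∀ z : F, (g : Matrix ι ι F) ≠ z • (1 : Matrix ι ι F) := by
      intro z hz
      have h1 := scalar_sq Q hQ hcpos _ hiso z hz
      rw [hz, Matrix.smul_mul, Matrix.mul_smul, Matrix.one_mul, smul_smul, h1, one_smul] at hsq
      obtain ⟨i⟩ : Nonempty ι := Fintype.card_pos_iff.mp hcpos
      have h3 := congrFun (congrFun hsq i) i
      rw [Matrix.one_apply_eq, Matrix.neg_apply, Matrix.one_apply_eq] at h3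
      apply h2
      linear_combination h3
    obtain ⟨W, ⟨hWm, hWnd, hWP⟩, hWinv⟩ := H g hgΩ
      ⟨-1, by rw [Units.val_pow_eq_pow_val, pow_two, hsq, neg_one_smul]⟩ hns
    obtain ⟨k, L, -, -, -, -, -, -, hDW⟩ := exists_J_list Q h2 (g : Matrix ι ι F) hiso m W hWm hWnd
      (invariant_of_map_le _ W hWinv) (fun u _ => by
        rw [Matrix.mulVec_mulVec, hsq, Matrix.neg_mulVec, Matrix.one_mulVec])
    exact hWP.mp hDW
  · intro hno x hxΩ ⟨z, hz⟩ hnsc
    have hx := omegaGL_le Q x hxΩ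
    have hiso := (Cfsg.Agent.Lib.H13.AutPO.mem_iso_iff (Q := Q) x).mp hx
    have hxx : (x : Matrix ι ι F) * (x : Matrix ι ι F) = z • 1 := by
      rw [← hz, Units.val_pow_eq_pow_val, pow_two]
    have hzz : z * z = 1 := by
      apply scalar_sq Q hQ hcpos ((x : Matrix ι ι F) * (x : Matrix ι ι F)) _ z hxx
      intro v
      rw [← Matrix.mulVec_mulVec, hiso, hiso]
    have hz1 : z = 1 ∨ z = -1 := by
      have h3 : (z - 1) * (z + 1) = 0 := by linear_combination hzz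
      rcases mul_eq_zero.mp h3 with h4 | h4
      · exact Or.inl (sub_eq_zero.mp h4)
      · exact Or.inr (eq_neg_of_add_eq_zero_left h4)
    rcases hz1 with rfl | rfl
    · -- involutions
      rw [one_smul] at hxx
      obtain ⟨Vp, hVp⟩ : ∃ Vp : Submodule F (ι → F),
          Vp = LinearMap.ker (Matrix.toLin' ((x : Matrix ι ι F) - 1)) := ⟨_, rfl⟩
      obtain ⟨Vm, hVm⟩ : ∃ Vm : Submodule F (ι → F),
          Vm = LinearMap.ker (Matrix.toLin' ((x : Matrix ι ι F) + 1)) := ⟨_, rfl⟩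
      have hmemp : ∀ v, v ∈ Vp ↔ (x : Matrix ι ι F) *ᵥ v = v := by
        intro v
        rw [hVp, LinearMap.mem_ker, Matrix.toLin'_apply, Matrix.sub_mulVec, Matrix.one_mulVec,
          sub_eq_zero]
      have hmemm : ∀ v, v ∈ Vm ↔ (x : Matrix ι ι F) *ᵥ v = -v := by
        intro v
        rw [hVm, LinearMap.mem_ker, Matrix.toLin'_apply, Matrix.add_mulVec, Matrix.one_mulVec,
          add_eq_zero_iff_eq_neg]
      have hxxv : ∀ v, (x : Matrix ι ι F) *ᵥ ((x : Matrix ι ι F) *ᵥ v) = v := by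
        intro v
        rw [Matrix.mulVec_mulVec, hxx, Matrix.one_mulVec]
      have hsup : (⊤ : Submodule F (ι → F)) ≤ Vp ⊔ Vm := by
        intro v _
        have hv : v = (2 : F)⁻¹ • (v + (x : Matrix ι ι F) *ᵥ v) +
            (2 : F)⁻¹ • (v - (x : Matrix ι ι F) *ᵥ v) := by
          rw [← smul_add]
          have : v + (x : Matrix ι ι F) *ᵥ v + (v - (x : Matrix ι ι F) *ᵥ v) = (2 : F) • v := by
            rw [two_smul]
            abel
          rw [this, smul_smul, inv_mul_cancel₀ h2, one_smul]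
        rw [hv]
        apply Submodule.add_mem
        · apply Submodule.mem_sup_left
          apply Submodule.smul_mem
          rw [hmemp, Matrix.mulVec_add, hxxv, add_comm]
        · apply Submodule.mem_sup_right
          apply Submodule.smul_mem
          rw [hmemm, Matrix.mulVec_sub, hxxv]
          abel
      have horth : ∀ a ∈ Vp, ∀ b ∈ Vm, PB Q a b = 0 := by
        intro a ha b hb
        have h1 := polar_mulVec Q (x : Matrix ι ι F) hiso a b
        rw [(hmemp a).mp ha, (hmemm b).mp hb, map_neg] at h1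
        have h3 : 2 * PB Q a b = 0 := by linear_combination -h1
        exact (mul_eq_zero.mp h3).resolve_left h2
      have horth' : ∀ a ∈ Vm, ∀ b ∈ Vp, PB Q a b = 0 := fun a ha b hb =>
        (PB_symm Q a b).trans (horth b hb a ha)
      have hVpnd : NDon (PB Q) Vp :=
        NDon_of_sup_orthS (PB Q) ⊤ Vp Vm (NDon_top Q hQ) le_top hsup horth
      have hVmnd : NDon (PB Q) Vm :=
        NDon_of_sup_orthS (PB Q) ⊤ Vm Vp (NDon_top Q hQ) le_top (by rwa [sup_comm]) horth'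
      have hdims : finrank F Vp + finrank F Vm = 2 * d := by
        have h1 := Submodule.finrank_sup_add_finrank_inf_eq Vp Vm
        rw [inf_eq_bot_of_orthS (PB Q) (PB_symm Q) Vp Vm hVpnd horth, finrank_bot, add_zero,
          top_le_iff.mp hsup, finrank_top, Module.finrank_fintype_fun_eq_card, hcard] at h1
        exact h1.symm
      -- invariance of sums
      have hinv : ∀ W₁ W₂ : Submodule F (ι → F), W₁ ≤ Vp → W₂ ≤ Vm →
          ∀ u ∈ W₁ ⊔ W₂, (x : Matrix ι ι F) *ᵥ u ∈ W₁ ⊔ W₂ := by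
        intro W₁ W₂ h₁ h₂ u hu
        obtain ⟨a, ha, b, hb, rfl⟩ := Submodule.mem_sup.mp hu
        rw [Matrix.mulVec_add, (hmemp a).mp (h₁ ha), (hmemm b).mp (h₂ hb)]
        exact Submodule.add_mem _ (Submodule.mem_sup_left ha)
          (Submodule.mem_sup_right (W₂.neg_mem hb))
      -- the general construction
      have hgen : ∀ Y₁ Y₂ : Submodule F (ι → F), NDon (PB Q) Y₁ → NDon (PB Q) Y₂ →
          (∀ u ∈ Y₁, ∀ v ∈ Y₂, PB Q u v = 0) → finrank F Y₁ + finrank F Y₂ = 2 * d →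
          2 ≤ finrank F Y₁ →
          ∃ W₁ W₂ : Submodule F (ι → F), W₁ ≤ Y₁ ∧ W₂ ≤ Y₂ ∧ NDon (PB Q) (W₁ ⊔ W₂) ∧
            finrank F ↥(W₁ ⊔ W₂) = m ∧ (DSq Q (W₁ ⊔ W₂) ↔ P) := by
        intro Y₁ Y₂ hY₁ hY₂ ho hdd h2Y
        by_cases hc : m - 1 ≤ finrank F Y₂
        · obtain ⟨W₁, W₂, h₁, h₂, hnd, hdim, hD⟩ := exists_sum_DSq Q h2 hY₁ hY₂ ho 1 (m - 1)
            (by omega) (by omega) hc P
          exact ⟨W₁, W₂, h₁, h₂, hnd, by rw [hdim]; omega, hD⟩
        · obtain ⟨W₁, W₂, h₁, h₂, hnd, hdim, hD⟩ := exists_sum_DSq Q h2 hY₁ hY₂ ho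
            (m - finrank F Y₂) (finrank F Y₂) (by omega) (by omega) le_rfl P
          exact ⟨W₁, W₂, h₁, h₂, hnd, by rw [hdim]; omega, hD⟩
      by_cases hbig : 2 ≤ finrank F Vp
      · obtain ⟨W₁, W₂, h₁, h₂, hnd, hdim, hD⟩ := hgen Vp Vm hVpnd hVmnd horth hdims hbig
        exact ⟨W₁ ⊔ W₂, ⟨hdim, hnd, hD⟩, map_le_of_invariant _ _ (hinv W₁ W₂ h₁ h₂)⟩
      · obtain ⟨W₁, W₂, h₁, h₂, hnd, hdim, hD⟩ := hgen Vm Vp hVmnd hVpnd horth'
          (by omega) (by omega)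
        refine ⟨W₁ ⊔ W₂, ⟨hdim, hnd, hD⟩, map_le_of_invariant _ _ ?_⟩
        rw [sup_comm]
        exact hinv W₂ W₁ h₂ h₁
    · -- square `-1`
      rw [neg_one_smul] at hxx
      obtain ⟨h1, hD⟩ := omega_iff_of_sq_neg_one Q hQ h2 d hd1 hcard x hx hxx
      have hP : P := hno ⟨hD, h1.mp hxΩ⟩
      have hsqv : ∀ u, (x : Matrix ι ι F) *ᵥ ((x : Matrix ι ι F) *ᵥ u) = -u := fun u => by
        rw [Matrix.mulVec_mulVec, hxx, Matrix.neg_mulVec, Matrix.one_mulVec]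
      obtain ⟨k, hk⟩ := hme
      obtain ⟨W, hWd, hW, hWinv⟩ := exists_inv_nd_of_sq_neg_one Q hQ h2 d hcard
        (x : Matrix ι ι F) hiso hsqv k (by omega)
      have hWm : finrank F W = m := by rw [hWd, hk]; ring
      obtain ⟨k', L, -, -, -, -, -, -, hDW⟩ := exists_J_list Q h2 (x : Matrix ι ι F) hiso m W hWm hW
        hWinv (fun u _ => hsqv u)
      exact ⟨W, ⟨hWm, hW, ⟨fun _ => hP, fun _ => hDW⟩⟩, map_le_of_invariant _ W hWinv⟩

end two

end

section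

open Module Matrix Cfsg.Agent.Lib.H24.Elus Cfsg.Agent.Lib.H10.OrtNd Cfsg.Agent.Lib.H11.OrtOd

section two

variable {F : Type*} [Field F] [Fintype F] {ι : Type} [Fintype ι] [DecidableEq ι]
variable (Q : QuadraticForm F (ι → F))

theorem isSquare_neg_one_pow_iff (h2 : (2 : F) ≠ 0) (N : ℕ) :
    IsSquare ((-1 : F) ^ N) ↔ (IsSquare (-1 : F) ∨ Even N) := by
  constructor
  · intro h
    by_cases hN : Even N
    · exact Or.inr hN
    · left
      rw [Nat.not_even_iff_odd] at hN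
      rwa [hN.neg_one_pow] at h
  · rintro (h | h)
    · exact h.pow N
    · rw [h.neg_one_pow]
      exact ⟨1, by ring⟩

theorem isSquare_two_pow_iff (h2 : (2 : F) ≠ 0) (d : ℕ) :
    IsSquare ((2 : F) ^ d) ↔ (Even d ∨ IsSquare (2 : F)) := by
  constructor
  · intro h
    by_cases hd : Even d
    · exact Or.inl hd
    · right
      rw [Nat.not_even_iff_odd] at hd
      obtain ⟨k, hk⟩ := hd
      obtain ⟨s, hs⟩ := h
      refine ⟨s / 2 ^ k, ?_⟩
      have h3 : (2 : F) ^ k ≠ 0 := pow_ne_zero k h2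
      field_simp
      rw [hk, pow_succ, pow_mul'] at hs
      linear_combination hs
  · rintro (⟨k, hk⟩ | h)
    · exact ⟨2 ^ k, by rw [hk, pow_add]⟩
    · exact h.pow d

/-- `r = 2`, odd characteristic, even `m`: type form with the discriminant of the space -/
theorem two_even_type [DecidableEq F] (hQ : (QuadraticMap.polarBilin Q).Nondegenerate)
    (h2 : (2 : F) ≠ 0) (d : ℕ) (hcard : Fintype.card ι = 2 * d) (m : ℕ) (hme : Even m)
    (hm : 2 ≤ m) (hmd : m + 2 ≤ 2 * d) (τ : Prop) :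
    (∀ x : GL ι F, x ∈ Cfsg.Geo.omegaGL ⇑Q →
      (∃ z : F, ((x ^ 2 : GL ι F) : Matrix ι ι F) = z • (1 : Matrix ι ι F)) →
      (∀ z : F, (x : Matrix ι ι F) ≠ z • (1 : Matrix ι ι F)) →
      ∃ W : Submodule F (ι → F), (finrank F W = m ∧ NDon (PB Q) W ∧ (PlusOn Q W ↔ τ)) ∧
        W.map (Matrix.toLin' (x : Matrix ι ι F)) ≤ W) ↔
    (DSq Q ⊤ ∧ IsSquare ((2 : F) ^ d) → (τ ↔ IsSquare ((-1 : F) ^ (m / 2)))) := by
  obtain ⟨N, hN⟩ : ∃ N, m = 2 * N := by
    obtain ⟨k, hk⟩ := hme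
    exact ⟨k, by omega⟩
  have hN2 : m / 2 = N := by omega
  rw [hN2]
  rw [← two_even_DSq Q hQ h2 d hcard m hme hm hmd (τ ↔ IsSquare ((-1 : F) ^ N))]
  constructor
  · intro H x hx hz hns
    obtain ⟨W, ⟨h1, h3, h4⟩, h5⟩ := H x hx hz hns
    refine ⟨W, ⟨h1, h3, ?_⟩, h5⟩
    rw [plus_iff_DSq Q h2 h3 (h1.trans hN)] at h4
    tauto
  · intro H x hx hz hns
    obtain ⟨W, ⟨h1, h3, h4⟩, h5⟩ := H x hx hz hns
    refine ⟨W, ⟨h1, h3, ?_⟩, h5⟩
    rw [plus_iff_DSq Q h2 h3 (h1.trans hN)]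
    tauto

/-- `r = 2`, odd characteristic, even `m`: every element `x` of `Ω(Q)` with `x ^ 2` scalar, `x` not
scalar, fixes a nondegenerate `m`-space of type `τ` iff the stated conditions hold -/
theorem two_main [DecidableEq F] (hQ : (QuadraticMap.polarBilin Q).Nondegenerate)
    (h2 : (2 : F) ≠ 0) (d : ℕ) (hcard : Fintype.card ι = 2 * d) (m : ℕ) (hme : Even m)
    (hm : 2 ≤ m) (hmd : m + 2 ≤ 2 * d) (τ : Prop) :
    (∀ x : GL ι F, x ∈ Cfsg.Geo.omegaGL ⇑Q →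
      (∃ z : F, ((x ^ 2 : GL ι F) : Matrix ι ι F) = z • (1 : Matrix ι ι F)) →
      (∀ z : F, (x : Matrix ι ι F) ≠ z • (1 : Matrix ι ι F)) →
      ∃ W : Submodule F (ι → F), (finrank F W = m ∧ NDon (PB Q) W ∧ (PlusOn Q W ↔ τ)) ∧
        W.map (Matrix.toLin' (x : Matrix ι ι F)) ≤ W) ↔
    ((IsSquare (-1 : F) → PlusOn Q ⊤ → (Even d ∨ IsSquare (2 : F)) → τ) ∧
     (¬ IsSquare (-1 : F) → (PlusOn Q ⊤ ↔ Even d) → (Even d ∨ IsSquare (2 : F)) →
        (τ ↔ Even (m / 2)))) := by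
  rw [two_even_type Q hQ h2 d hcard m hme hm hmd τ, isSquare_two_pow_iff h2,
    isSquare_neg_one_pow_iff h2]
  have htop : PlusOn Q ⊤ ↔ (IsSquare ((-1 : F) ^ d) ↔ DSq Q ⊤) := by
    apply plus_iff_DSq Q h2 (NDon_top Q hQ)
    rw [finrank_top, Module.finrank_fintype_fun_eq_card, hcard]
  rw [isSquare_neg_one_pow_iff h2] at htop
  by_cases hs : IsSquare (-1 : F)
  · simp only [hs, true_or, iff_true, not_true_eq_false, false_imp_iff, and_true, true_imp_iff]
      at htop ⊢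
    rw [htop]
    tauto
  · simp only [hs, false_or, false_imp_iff, true_and, not_false_eq_true, true_imp_iff]
      at htop ⊢
    rw [htop]
    tauto

end two

end

end Cfsg.Agent.Lib.H13.OTwo
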