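import Mathlib
import Cfsg.Agent.Lib.H13.OES4

/-!
Isometries `1 + N` with `N ^ 2 = 0` of even-dimensional quadratic spaces over finite fields (in particular involutions in
characteristic two) and their invariant nondegenerate subspaces (helper13, for S5974, S5990): relative type calculus (`plus_sup_iff'`,
`plus_perp_iff`), hyperbolic subspaces of all dimensions (`exists_plus_sub`), `IsQuadNil`, the additive map `u ↦ Q (N u)`
(`exists_sing_beta`), invariant hyperbolic planes `⟨u, N u⟩` and `4`-spaces `⟨u, w, N u, N w⟩` (`exists_plane_block`, `exists_four_block`),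
the structure theorem `IsQuadNil.struct` and the existence theorems `quadnil_fix_plus`, `quadnil_fix_minus`.
-/

set_option autoImplicit false
set_option linter.unusedSectionVars false
set_option linter.unusedVariables false
set_option linter.unusedSimpArgs false
set_option linter.deprecated false

namespace Cfsg.Agent.Lib.H13.OUni

section

open Module
open Cfsg.Agent.Lib.H24.Elus
open Cfsg.Agent.Lib.H13.OSS
open Cfsg.Agent.Lib.H13.OES
open Cfsg.Agent.Lib.H10.OrtNd (PB TS PlusOn PB_apply PB_symm PB_self TS_mono)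

section rel

variable {F : Type*} [Field F] [Fintype F] {V : Type*} [AddCommGroup V] [Module F V]
  [FiniteDimensional F V]
variable (Q : QuadraticForm F V)

/-- types multiply in orthogonal sums (relative version) -/
theorem plus_sup_iff' (A A' : Submodule F V) (hA : NDon (PB Q) A) (hA' : NDon (PB Q) A')
    (horth : ∀ u ∈ A, ∀ v ∈ A', PB Q u v = 0) (hev : Even (finrank F A))
    (hev' : Even (finrank F A')) :
    PlusOn Q (A ⊔ A') ↔ (PlusOn Q A ↔ PlusOn Q A') := by
  obtain ⟨U, hU⟩ : ∃ U, U = A ⊔ A' := ⟨_, rfl⟩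
  rw [← hU]
  have hAU : A ≤ U := by rw [hU]; exact le_sup_left
  have hA'U : A' ≤ U := by rw [hU]; exact le_sup_right
  have hUnd : NDon (PB Q) U := by
    rw [hU]; exact NDon_supR (PB Q) (PB_refl Q) A A' hA hA' horth
  -- everything inside `U`
  have hQU := nondeg_restrQ Q hUnd
  obtain ⟨i, hi⟩ : ∃ i : ↥A →ₗ[F] ↥U, i = Submodule.inclusion hAU := ⟨_, rfl⟩
  obtain ⟨i', hi'⟩ : ∃ i' : ↥A' →ₗ[F] ↥U, i' = Submodule.inclusion hA'U := ⟨_, rfl⟩
  have hiinj : Function.Injective i := by rw [hi]; exact Submodule.inclusion_injective hAU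
  have hi'inj : Function.Injective i' := by rw [hi']; exact Submodule.inclusion_injective hA'U
  have hiQ : ∀ v, restrQ Q U (i v) = restrQ Q A v := fun v => by rw [hi]; rfl
  have hi'Q : ∀ v, restrQ Q U (i' v) = restrQ Q A' v := fun v => by rw [hi']; rfl
  have h1 := PlusOn_range_iff (restrQ Q U) (restrQ Q A) i hiQ hiinj
  have h1' := PlusOn_range_iff (restrQ Q U) (restrQ Q A') i' hi'Q hi'inj
  have h3 := PlusOn_range_iff Q (restrQ Q A) A.subtype (fun v => rfl) A.injective_subtype
  have h3' := PlusOn_range_iff Q (restrQ Q A') A'.subtype (fun v => rfl) A'.injective_subtype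
  have h5 := PlusOn_range_iff Q (restrQ Q U) U.subtype (fun v => rfl) U.injective_subtype
  rw [Submodule.range_subtype] at h3 h3' h5
  have hnd := NDon_range (restrQ Q U) (restrQ Q A) i hiQ hiinj (nondeg_restrQ Q hA)
  have hnd' := NDon_range (restrQ Q U) (restrQ Q A') i' hi'Q hi'inj (nondeg_restrQ Q hA')
  have horthU : ∀ u ∈ LinearMap.range i, ∀ v ∈ LinearMap.range i', PB (restrQ Q U) u v = 0 := by
    rintro _ ⟨a, rfl⟩ _ ⟨a', rfl⟩
    rw [hi, hi']
    exact horth a.1 a.2 a'.1 a'.2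
  have hsup : LinearMap.range i ⊔ LinearMap.range i' = ⊤ := by
    rw [eq_top_iff]
    rintro ⟨u, hu⟩ -
    have hu' := hu
    rw [hU] at hu'
    obtain ⟨a, ha, a', ha', haa⟩ := Submodule.mem_sup.mp hu'
    have : (⟨u, hu⟩ : ↥U) = i ⟨a, ha⟩ + i' ⟨a', ha'⟩ := by
      apply Subtype.ext
      rw [hi, hi']
      exact haa.symm
    rw [this]
    exact Submodule.add_mem _ (Submodule.mem_sup_left ⟨_, rfl⟩) (Submodule.mem_sup_right ⟨_, rfl⟩)
  have hd : finrank F (LinearMap.range i) = finrank F A := LinearMap.finrank_range_of_inj hiinj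
  have hd' : finrank F (LinearMap.range i') = finrank F A' :=
    LinearMap.finrank_range_of_inj hi'inj
  have key := plus_top_iff (restrQ Q U) hQU _ _ hnd hnd' horthU hsup (by rw [hd]; exact hev)
    (by rw [hd']; exact hev')
  rw [h5, key, h1, h1', h3, h3']

/-- cancellation of a plus type summand -/
theorem plus_perp_iff (U P : Submodule F V) (hU : NDon (PB Q) U) (hP : NDon (PB Q) P)
    (hPU : P ≤ U) (hPp : PlusOn Q P) (hUe : Even (finrank F U)) :
    PlusOn Q U ↔ PlusOn Q (U ⊓ (PB Q).orthogonal P) := by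
  have hrefl := PB_refl Q
  have hsup := sup_perp_inR (PB Q) hrefl U P hP hPU
  have hnd' := NDon_perp_inR (PB Q) hrefl U P hU hP hPU
  have hdim := finrank_perp_inR (PB Q) hrefl U P hP hPU
  have hPe : Even (finrank F P) := by
    obtain ⟨T, -, -, hT⟩ := hPp
    exact ⟨finrank F T, by omega⟩
  have hev' : Even (finrank F ↥(U ⊓ (PB Q).orthogonal P)) := by
    obtain ⟨a, ha⟩ := hPe
    obtain ⟨b, hb⟩ := hUe
    exact ⟨b - a, by omega⟩
  have key := plus_sup_iff' Q P (U ⊓ (PB Q).orthogonal P) hP hnd'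
    (fun u hu v hv => (Submodule.mem_inf.mp hv).2 u hu) hPe hev'
  rw [hsup] at key
  rw [key]
  tauto

/-- hyperbolic subspaces of every dimension below the dimension of a nondegenerate subspace -/
theorem exists_plus_sub : ∀ (j : ℕ) (U : Submodule F V) (n : ℕ), NDon (PB Q) U →
    finrank F U = 2 * n → j + 1 ≤ n →
    ∃ H : Submodule F V, H ≤ U ∧ NDon (PB Q) H ∧ PlusOn Q H ∧ finrank F H = 2 * j := by
  have hrefl := PB_refl Q
  intro j
  induction j with
  | zero =>
    intro U n _ _ _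
    exact ⟨⊥, bot_le, NDon_bot _, ⟨⊥, le_rfl, TS_bot Q, by rw [finrank_bot]⟩, by rw [finrank_bot]⟩
  | succ j ih =>
    intro U n hU hd hj
    obtain ⟨u, huU, hu0, huu⟩ := exists_singular_in Q U (by omega)
    have huu' : PB Q u u = 0 := by rw [PB_self, huu, mul_zero]
    obtain ⟨P, hPU, hP, hP2, huP⟩ :=
      exists_plane_of_isotropic (PB Q) (PB_symm Q) U hU u huU hu0 huu'
    have hPp : PlusOn Q P := by
      refine ⟨Submodule.span F {u}, ?_, TS_span_singleton Q huu, ?_⟩
      · rw [Submodule.span_le]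
        intro x hx
        rw [Set.mem_singleton_iff] at hx
        rw [hx]
        exact huP
      · rw [finrank_span_singleton hu0, hP2]
    have h1 := finrank_perp_inR (PB Q) hrefl U P hP hPU
    obtain ⟨H', hH'U, hH'nd, hH'p, hH'd⟩ := ih (U ⊓ (PB Q).orthogonal P) (n - 1)
      (NDon_perp_inR (PB Q) hrefl U P hU hP hPU) (by omega) (by omega)
    have horth : ∀ a ∈ P, ∀ w ∈ H', PB Q a w = 0 :=
      fun a ha w hw => (Submodule.mem_inf.mp (hH'U hw)).2 a ha
    refine ⟨P ⊔ H', sup_le hPU (hH'U.trans inf_le_left),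
      NDon_supR (PB Q) hrefl P H' hP hH'nd horth, PlusOn_sup Q P H' hP horth hPp hH'p, ?_⟩
    have h := Submodule.finrank_sup_add_finrank_inf_eq P H'
    rw [inf_eq_bot_of_orthR (PB Q) hrefl P H' hP horth, finrank_bot, add_zero] at h
    rw [h, hP2, hH'd]
    ring

end rel

end

section

open Module
open Cfsg.Agent.Lib.H24.Elus
open Cfsg.Agent.Lib.H13.OSS
open Cfsg.Agent.Lib.H13.OES
open Cfsg.Agent.Lib.H10.OrtNd (PB TS PlusOn PB_apply PB_symm PB_self TS_mono)

section basic

variable {F : Type*} [Field F] {V : Type*} [AddCommGroup V] [Module F V]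
variable (Q : QuadraticForm F V)

/-- `1 + N` is an isometry and `N ^ 2 = 0` -/
structure IsQuadNil (N : End F V) : Prop where
  iso : ∀ v, Q (v + N v) = Q v
  sq : ∀ v, N (N v) = 0

variable {Q} {N : End F V}

theorem IsQuadNil.polar_star (h : IsQuadNil Q N) (u v : V) :
    PB Q (N u) v + PB Q u (N v) + PB Q (N u) (N v) = 0 := by
  have h1 : PB Q (u + N u) (v + N v) = PB Q u v := by
    rw [PB_apply, PB_apply]
    unfold QuadraticMap.polar
    have h3 : u + N u + (v + N v) = (u + v) + N (u + v) := by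
      rw [map_add]; abel
    rw [h3, h.iso, h.iso, h.iso]
  rw [map_add, map_add, LinearMap.add_apply, LinearMap.add_apply] at h1
  linear_combination h1

theorem IsQuadNil.polar_NN (h : IsQuadNil Q N) (u v : V) : PB Q (N u) (N v) = 0 := by
  have h1 := h.polar_star u (N v)
  rw [h.sq, map_zero, map_zero, add_zero, add_zero] at h1
  exact h1

theorem IsQuadNil.polar_swap (h : IsQuadNil Q N) (u v : V) : PB Q (N u) v = - PB Q u (N v) := by
  have h1 := h.polar_star u v
  rw [h.polar_NN] at h1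
  linear_combination h1

theorem IsQuadNil.polar_self (h : IsQuadNil Q N) (v : V) : PB Q v (N v) = - Q (N v) := by
  have h1 := h.iso v
  rw [Q_add] at h1
  linear_combination h1

theorem IsQuadNil.beta_add (h : IsQuadNil Q N) (u v : V) :
    Q (N (u + v)) = Q (N u) + Q (N v) := by
  rw [map_add, Q_add, h.polar_NN, add_zero]

theorem IsQuadNil.beta_smul (h : IsQuadNil Q N) (c : F) (u : V) :
    Q (N (c • u)) = c * c * Q (N u) := by
  rw [map_smul, QuadraticMap.map_smul, smul_eq_mul]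

/-- the relative orthogonal complement of an invariant subspace is invariant -/
theorem IsQuadNil.perp_invariant (h : IsQuadNil Q N) (U P : Submodule F V)
    (hU : ∀ w ∈ U, N w ∈ U) (hP : ∀ w ∈ P, N w ∈ P) :
    ∀ v ∈ U ⊓ (PB Q).orthogonal P, N v ∈ U ⊓ (PB Q).orthogonal P := by
  intro v hv
  obtain ⟨hvU, hvP⟩ := Submodule.mem_inf.mp hv
  refine Submodule.mem_inf.mpr ⟨hU v hvU, ?_⟩
  intro w hw
  show PB Q w (N v) = 0
  have h1 := h.polar_swap w v
  have h3 : PB Q (N w) v = 0 := hvP (N w) (hP w hw)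
  rw [h3] at h1
  linear_combination h1

/-- a nondegenerate plane spanned by an isotropic vector and a vector not orthogonal to it -/
theorem NDon_span_pair (B : LinearMap.BilinForm F V) (hsym : ∀ u v, B u v = B v u) (u v : V)
    (huu : B u u = 0) (huv : B u v ≠ 0) :
    NDon B (Submodule.span F {u, v}) ∧ finrank F (Submodule.span F {u, v}) = 2 := by
  have hvu : B v u ≠ 0 := by rw [hsym]; exact huv
  have hu0 : u ≠ 0 := by
    rintro rfl
    rw [map_zero, LinearMap.zero_apply] at huv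
    exact huv rfl
  constructor
  · intro w hw h
    obtain ⟨α, β, rfl⟩ := Submodule.mem_span_pair.mp hw
    have h1 := h u (Submodule.subset_span (by simp))
    have h2 := h v (Submodule.subset_span (by simp))
    simp only [map_add, map_smul, LinearMap.add_apply, LinearMap.smul_apply, huu, smul_eq_mul,
      mul_zero, zero_add] at h1 h2
    have hβ : β = 0 := by
      rcases mul_eq_zero.mp h1 with h | h
      · exact h
      · exact absurd h hvu
    rw [hβ, zero_mul, add_zero] at h2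
    have hα : α = 0 := by
      rcases mul_eq_zero.mp h2 with h | h
      · exact h
      · exact absurd h huv
    rw [hα, hβ, zero_smul, zero_smul, add_zero]
  · have hli : LinearIndependent F ![u, v] := by
      rw [LinearIndependent.pair_iff]
      intro s t hst
      have h1 := congrArg (fun x => B x u) hst
      simp only [map_add, map_smul, LinearMap.add_apply, LinearMap.smul_apply, huu, smul_eq_mul,
        mul_zero, zero_add, map_zero, LinearMap.zero_apply] at h1
      have ht : t = 0 := by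
        rcases mul_eq_zero.mp h1 with h | h
        · exact h
        · exact absurd h hvu
      rw [ht, zero_smul, add_zero] at hst
      refine ⟨?_, ht⟩
      rcases smul_eq_zero.mp hst with h | h
      · exact h
      · exact absurd h hu0
    have h := finrank_span_eq_card hli
    have hr : Set.range ![u, v] = {u, v} := by
      ext x
      simp only [Matrix.range_cons, Matrix.range_empty, Set.union_empty, Set.mem_union,
        Set.mem_singleton_iff, Set.mem_insert_iff]
    rw [hr, Fintype.card_fin] at h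
    exact h

/-- a singular vector on which `Q ∘ N` does not vanish -/
theorem IsQuadNil.exists_sing_beta (h : IsQuadNil Q N) (U : Submodule F V) (hU : NDon (PB Q) U)
    (e : V) (heU : e ∈ U) (he0 : e ≠ 0) (hee : Q e = 0) (u₀ : V) (hu₀U : u₀ ∈ U)
    (hu₀ : Q (N u₀) ≠ 0) : ∃ u ∈ U, Q u = 0 ∧ Q (N u) ≠ 0 := by
  by_contra hcon
  push Not at hcon
  obtain ⟨f₀, hf₀U, hf₀⟩ : ∃ f₀ ∈ U, PB Q e f₀ ≠ 0 := by
    by_contra hc
    push Not at hc
    exact he0 (hU e heU hc)
  obtain ⟨f₁, hf₁⟩ : ∃ f₁, f₁ = (PB Q e f₀)⁻¹ • f₀ := ⟨_, rfl⟩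
  have hf₁U : f₁ ∈ U := by rw [hf₁]; exact U.smul_mem _ hf₀U
  have hef₁ : PB Q e f₁ = 1 := by
    rw [hf₁, map_smul, smul_eq_mul, inv_mul_cancel₀ hf₀]
  have hee' : PB Q e e = 0 := by rw [PB_self, hee, mul_zero]
  obtain ⟨f, hf⟩ : ∃ f, f = f₁ - Q f₁ • e := ⟨_, rfl⟩
  have hfU : f ∈ U := by rw [hf]; exact U.sub_mem hf₁U (U.smul_mem _ heU)
  have hff : Q f = 0 := by
    have h1 : f = f₁ + (- Q f₁) • e := by rw [hf, neg_smul, sub_eq_add_neg]
    rw [h1, Q_add, QuadraticMap.map_smul, hee, map_smul, smul_eq_mul, smul_eq_mul,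
      PB_symm Q f₁ e, hef₁]
    ring
  have hef : PB Q e f = 1 := by
    rw [hf, map_sub, map_smul, hee', hef₁, smul_zero, sub_zero]
  have hfe : PB Q f e = 1 := by rw [PB_symm]; exact hef
  have hff' : PB Q f f = 0 := by rw [PB_self, hff, mul_zero]
  have hβe : Q (N e) = 0 := hcon e heU hee
  have hβf : Q (N f) = 0 := hcon f hfU hff
  obtain ⟨z, hz⟩ : ∃ z, z = u₀ - PB Q u₀ f • e - PB Q u₀ e • f := ⟨_, rfl⟩
  have hzU : z ∈ U := by
    rw [hz]; exact U.sub_mem (U.sub_mem hu₀U (U.smul_mem _ heU)) (U.smul_mem _ hfU)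
  have hze : PB Q z e = 0 := by
    rw [hz, map_sub, map_sub, LinearMap.sub_apply, LinearMap.sub_apply, map_smul, map_smul,
      LinearMap.smul_apply, LinearMap.smul_apply, hee', hfe]
    simp
  have hzf : PB Q z f = 0 := by
    rw [hz, map_sub, map_sub, LinearMap.sub_apply, LinearMap.sub_apply, map_smul, map_smul,
      LinearMap.smul_apply, LinearMap.smul_apply, hef, hff']
    simp
  obtain ⟨s, hs⟩ : ∃ s, s = z + (e + (- Q z) • f) := ⟨_, rfl⟩
  have hsU : s ∈ U := by
    rw [hs]; exact U.add_mem hzU (U.add_mem heU (U.smul_mem _ hfU))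
  have hss : Q s = 0 := by
    rw [hs, Q_add, Q_add, QuadraticMap.map_smul, hee, hff, map_add, map_smul, map_smul, hze,
      hzf, hef, smul_eq_mul, smul_eq_mul, smul_eq_mul]
    ring
  have hβs : Q (N s) = 0 := hcon s hsU hss
  have hβz : Q (N z) = 0 := by
    have h1 : z = s + ((-1 : F) • e + Q z • f) := by
      rw [hs, neg_smul, neg_smul, one_smul]; abel
    rw [h1, h.beta_add, h.beta_add, h.beta_smul, h.beta_smul, hβs, hβe, hβf]
    ring
  apply hu₀
  have h1 : u₀ = z + (PB Q u₀ f • e + PB Q u₀ e • f) := by rw [hz]; abel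
  rw [h1, h.beta_add, h.beta_add, h.beta_smul, h.beta_smul, hβz, hβe, hβf]
  ring

end basic

end

section

open Module
open Cfsg.Agent.Lib.H24.Elus
open Cfsg.Agent.Lib.H13.OSS
open Cfsg.Agent.Lib.H13.OES
open Cfsg.Agent.Lib.H10.OrtNd (PB TS PlusOn PB_apply PB_symm PB_self TS_mono)

section blocks

variable {F : Type*} [Field F] {V : Type*} [AddCommGroup V] [Module F V] [FiniteDimensional F V]
variable {Q : QuadraticForm F V} {N : End F V}

theorem span_pair_le (U : Submodule F V) (a b : V) (ha : a ∈ U) (hb : b ∈ U) :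
    Submodule.span F {a, b} ≤ U := by
  rw [Submodule.span_le]
  intro x hx
  rcases hx with rfl | rfl
  · exact ha
  · exact hb

/-- an invariant hyperbolic plane `⟨u, N u⟩` -/
theorem IsQuadNil.exists_plane_block (h : IsQuadNil Q N) (U : Submodule F V)
    (hUinv : ∀ w ∈ U, N w ∈ U) (u : V) (huU : u ∈ U) (huu : Q u = 0) (hβ : Q (N u) ≠ 0) :
    ∃ P : Submodule F V, P ≤ U ∧ (∀ w ∈ P, N w ∈ P) ∧ NDon (PB Q) P ∧ PlusOn Q P ∧
      finrank F P = 2 := by
  have huu' : PB Q u u = 0 := by rw [PB_self, huu, mul_zero]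
  have huN : PB Q u (N u) ≠ 0 := by
    rw [h.polar_self]
    exact neg_ne_zero.mpr hβ
  have hu0 : u ≠ 0 := by
    rintro rfl
    rw [map_zero, map_zero] at hβ
    exact hβ rfl
  obtain ⟨hnd, hd⟩ := NDon_span_pair (PB Q) (PB_symm Q) u (N u) huu' huN
  refine ⟨Submodule.span F {u, N u}, span_pair_le U _ _ huU (hUinv u huU), ?_, hnd, ?_, hd⟩
  · intro w hw
    obtain ⟨α, β, rfl⟩ := Submodule.mem_span_pair.mp hw
    rw [map_add, map_smul, map_smul, h.sq, smul_zero, add_zero]
    exact Submodule.smul_mem _ _ (Submodule.subset_span (by simp))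
  · refine ⟨Submodule.span F {u}, ?_, TS_span_singleton Q huu, ?_⟩
    · rw [Submodule.span_le]
      intro x hx
      rw [Set.mem_singleton_iff] at hx
      rw [hx]
      exact Submodule.subset_span (by simp)
    · rw [finrank_span_singleton hu0, hd]

/-- an invariant hyperbolic `4`-space `⟨u, w, N u, N w⟩` -/
theorem IsQuadNil.exists_four_block (h : IsQuadNil Q N) (U : Submodule F V)
    (hUinv : ∀ w ∈ U, N w ∈ U) (hU : NDon (PB Q) U) (hts : ∀ v ∈ U, Q (N v) = 0) (u : V)
    (huU : u ∈ U) (hNu : N u ≠ 0) :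
    ∃ A : Submodule F V, A ≤ U ∧ (∀ w ∈ A, N w ∈ A) ∧ NDon (PB Q) A ∧ PlusOn Q A ∧
      finrank F A = 4 := by
  have hrefl := PB_refl Q
  obtain ⟨w₀, hw₀U, hw₀⟩ : ∃ w₀ ∈ U, PB Q (N u) w₀ ≠ 0 := by
    by_contra hc
    push Not at hc
    exact hNu (hU (N u) (hUinv u huU) hc)
  obtain ⟨w₁, hw₁⟩ : ∃ w₁, w₁ = (PB Q (N u) w₀)⁻¹ • w₀ := ⟨_, rfl⟩
  have hw₁U : w₁ ∈ U := by rw [hw₁]; exact U.smul_mem _ hw₀U
  have hNuw₁ : PB Q (N u) w₁ = 1 := by
    rw [hw₁, map_smul, smul_eq_mul, inv_mul_cancel₀ hw₀]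
  obtain ⟨w, hw⟩ : ∃ w, w = w₁ + PB Q u w₁ • N w₁ := ⟨_, rfl⟩
  have hwU : w ∈ U := by rw [hw]; exact U.add_mem hw₁U (U.smul_mem _ (hUinv w₁ hw₁U))
  have hNw : N w = N w₁ := by
    rw [hw, map_add, map_smul, h.sq, smul_zero, add_zero]
  have huNw₁ : PB Q u (N w₁) = -1 := by
    have := h.polar_swap u w₁
    rw [hNuw₁] at this
    linear_combination this
  have huw : PB Q u w = 0 := by
    rw [hw, map_add, map_smul, huNw₁, smul_eq_mul]
    ring
  have hNuw : PB Q (N u) w = 1 := by
    rw [hw, map_add, map_smul, h.polar_NN, smul_zero, add_zero, hNuw₁]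
  have huNw : PB Q u (N w) = -1 := by rw [hNw]; exact huNw₁
  have hNwu : PB Q (N w) u = -1 := by rw [PB_symm]; exact huNw
  have hwNw : PB Q w (N w) = 0 := by
    rw [h.polar_self, hts w hwU, neg_zero]
  have huNu : PB Q u (N u) = 0 := by
    rw [h.polar_self, hts u huU, neg_zero]
  have hne1 : PB Q (N w) u ≠ 0 := by rw [hNwu]; exact neg_ne_zero.mpr one_ne_zero
  have hne2 : PB Q (N u) w ≠ 0 := by rw [hNuw]; exact one_ne_zero
  obtain ⟨hnd₁, hd₁⟩ := NDon_span_pair (PB Q) (PB_symm Q) (N w) u (h.polar_NN w w) hne1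
  obtain ⟨hnd₂, hd₂⟩ := NDon_span_pair (PB Q) (PB_symm Q) (N u) w (h.polar_NN u u) hne2
  have horth : ∀ a ∈ Submodule.span F {N w, u}, ∀ b ∈ Submodule.span F {N u, w},
      PB Q a b = 0 := by
    intro a ha b hb
    obtain ⟨α, β, rfl⟩ := Submodule.mem_span_pair.mp ha
    obtain ⟨γ, δ, rfl⟩ := Submodule.mem_span_pair.mp hb
    simp only [map_add, map_smul, LinearMap.add_apply, LinearMap.smul_apply, smul_eq_mul]
    rw [h.polar_NN, PB_symm Q (N w) w, hwNw, huNu, huw]
    ring
  have hNw0 : N w ≠ 0 := by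
    intro h0
    rw [h0, map_zero, LinearMap.zero_apply] at hNwu
    exact one_ne_zero (neg_eq_zero.mp hNwu.symm)
  refine ⟨Submodule.span F {N w, u} ⊔ Submodule.span F {N u, w},
    sup_le (span_pair_le U _ _ (hUinv w hwU) huU) (span_pair_le U _ _ (hUinv u huU) hwU), ?_,
    NDon_supR (PB Q) hrefl _ _ hnd₁ hnd₂ horth, ?_, ?_⟩
  · intro x hx
    obtain ⟨a, ha, b, hb, rfl⟩ := Submodule.mem_sup.mp hx
    obtain ⟨α, β, rfl⟩ := Submodule.mem_span_pair.mp ha
    obtain ⟨γ, δ, rfl⟩ := Submodule.mem_span_pair.mp hb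
    simp only [map_add, map_smul, h.sq, smul_zero, zero_add]
    apply Submodule.add_mem
    · exact Submodule.mem_sup_right (Submodule.smul_mem _ _ (Submodule.subset_span (by simp)))
    · exact Submodule.mem_sup_left (Submodule.smul_mem _ _ (Submodule.subset_span (by simp)))
  · obtain ⟨-, hdim⟩ := ti_supR (PB Q) hrefl (Submodule.span F {N w, u})
      (Submodule.span F {N u, w}) (Submodule.span F {N w}) (Submodule.span F {N u}) hnd₁ horth
      (by
        rw [Submodule.span_le]
        intro x hx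
        rw [Set.mem_singleton_iff] at hx
        rw [hx]
        exact Submodule.subset_span (by simp))
      (by
        rw [Submodule.span_le]
        intro x hx
        rw [Set.mem_singleton_iff] at hx
        rw [hx]
        exact Submodule.subset_span (by simp))
      (TIon_of_TS Q (TS_span_singleton Q (hts w hwU)))
      (TIon_of_TS Q (TS_span_singleton Q (hts u huU)))
    refine ⟨Submodule.span F {N w} ⊔ Submodule.span F {N u}, ?_, ?_, ?_⟩
    · apply sup_le_sup
      · rw [Submodule.span_le]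
        intro x hx
        rw [Set.mem_singleton_iff] at hx
        rw [hx]
        exact Submodule.subset_span (by simp)
      · rw [Submodule.span_le]
        intro x hx
        rw [Set.mem_singleton_iff] at hx
        rw [hx]
        exact Submodule.subset_span (by simp)
    · apply TS_sup Q (TS_span_singleton Q (hts w hwU)) (TS_span_singleton Q (hts u huU))
      intro a ha b hb
      obtain ⟨α, rfl⟩ := Submodule.mem_span_singleton.mp ha
      obtain ⟨β, rfl⟩ := Submodule.mem_span_singleton.mp hb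
      rw [map_smul, map_smul, LinearMap.smul_apply, h.polar_NN, smul_zero, smul_zero]
    · rw [hdim, finrank_span_singleton hNw0, finrank_span_singleton hNu]
      have h4 := Submodule.finrank_sup_add_finrank_inf_eq (Submodule.span F {N w, u})
        (Submodule.span F {N u, w})
      rw [inf_eq_bot_of_orthR (PB Q) hrefl _ _ hnd₁ horth, finrank_bot, add_zero, hd₁, hd₂] at h4
      rw [h4]
  · have h4 := Submodule.finrank_sup_add_finrank_inf_eq (Submodule.span F {N w, u})
      (Submodule.span F {N u, w})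
    rw [inf_eq_bot_of_orthR (PB Q) hrefl _ _ hnd₁ horth, finrank_bot, add_zero, hd₁, hd₂] at h4
    exact h4

end blocks

end

section

open Module
open Cfsg.Agent.Lib.H24.Elus
open Cfsg.Agent.Lib.H13.OSS
open Cfsg.Agent.Lib.H13.OES
open Cfsg.Agent.Lib.H10.OrtNd (PB TS PlusOn PB_apply PB_symm PB_self TS_mono)

section struct

variable {F : Type*} [Field F] [Fintype F] {V : Type*} [AddCommGroup V] [Module F V]
  [FiniteDimensional F V]
variable (Q : QuadraticForm F V) (N : End F V)

/-- there are invariant hyperbolic subspaces of `U` of dimension `2 a' + 4 b'` for all `a' ≤ a`,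
`b' ≤ b` -/
def GP (U : Submodule F V) (a b : ℕ) : Prop :=
  ∀ a' ≤ a, ∀ b' ≤ b, ∃ W : Submodule F V, W ≤ U ∧ (∀ w ∈ W, N w ∈ W) ∧ NDon (PB Q) W ∧
    PlusOn Q W ∧ finrank F W = 2 * a' + 4 * b'

variable {Q} {N}

theorem GP.mono {U U' : Submodule F V} (hUU' : U ≤ U') {a b : ℕ} (h : GP Q N U a b) :
    GP Q N U' a b := by
  intro a' ha' b' hb'
  obtain ⟨W, hW, h1⟩ := h a' ha' b' hb'
  exact ⟨W, hW.trans hUU', h1⟩

/-- adding an invariant hyperbolic block -/
theorem GP.add_block {U P : Submodule F V} (hPU : P ≤ U) (hPinv : ∀ w ∈ P, N w ∈ P)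
    (hP : NDon (PB Q) P) (hPp : PlusOn Q P) {a b : ℕ}
    (h : GP Q N (U ⊓ (PB Q).orthogonal P) a b) :
    (finrank F P = 2 → GP Q N U (a + 1) b) ∧ (finrank F P = 4 → GP Q N U a (b + 1)) := by
  have hrefl := PB_refl Q
  have hglue : ∀ a' ≤ a, ∀ b' ≤ b, ∃ W : Submodule F V, W ≤ U ∧ (∀ w ∈ W, N w ∈ W) ∧
      NDon (PB Q) W ∧ PlusOn Q W ∧ finrank F W = finrank F P + (2 * a' + 4 * b') := by
    intro a' ha' b' hb'
    obtain ⟨W', hW'U, hW'inv, hW'nd, hW'p, hW'd⟩ := h a' ha' b' hb'
    have horth : ∀ x ∈ P, ∀ y ∈ W', PB Q x y = 0 :=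
      fun x hx y hy => (Submodule.mem_inf.mp (hW'U hy)).2 x hx
    refine ⟨P ⊔ W', sup_le hPU (hW'U.trans inf_le_left), ?_,
      NDon_supR (PB Q) hrefl P W' hP hW'nd horth, PlusOn_sup Q P W' hP horth hPp hW'p, ?_⟩
    · intro x hx
      obtain ⟨p, hp, w, hw, rfl⟩ := Submodule.mem_sup.mp hx
      rw [map_add]
      exact Submodule.add_mem _ (Submodule.mem_sup_left (hPinv p hp))
        (Submodule.mem_sup_right (hW'inv w hw))
    · have h4 := Submodule.finrank_sup_add_finrank_inf_eq P W'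
      rw [inf_eq_bot_of_orthR (PB Q) hrefl P W' hP horth, finrank_bot, add_zero, hW'd] at h4
      exact h4
  constructor
  · intro hd a' ha' b' hb'
    rcases Nat.lt_or_ge a' (a + 1) with hlt | hge
    · exact (h.mono inf_le_left) a' (by omega) b' hb'
    · obtain ⟨W, h1, h2, h3, h4, h5⟩ := hglue a le_rfl b' hb'
      exact ⟨W, h1, h2, h3, h4, by rw [h5, hd]; omega⟩
  · intro hd a' ha' b' hb'
    rcases Nat.lt_or_ge b' (b + 1) with hlt | hge
    · exact (h.mono inf_le_left) a' ha' b' (by omega)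
    · obtain ⟨W, h1, h2, h3, h4, h5⟩ := hglue a' ha' b le_rfl
      exact ⟨W, h1, h2, h3, h4, by rw [h5, hd]; omega⟩

/-- the structure of an isometry `1 + N`, `N ^ 2 = 0`, on an invariant nondegenerate subspace -/
theorem IsQuadNil.struct (h : IsQuadNil Q N) : ∀ (n : ℕ) (U : Submodule F V),
    (∀ w ∈ U, N w ∈ U) → NDon (PB Q) U → finrank F U = 2 * n →
    ∃ a b, GP Q N U a b ∧
      ((PlusOn Q U ∧ a + 2 * b = n) ∨ (¬ PlusOn Q U ∧ a + 1 + 2 * b = n)) := by
  have hrefl := PB_refl Q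
  intro n
  induction n using Nat.strong_induction_on with
  | _ n ih =>
  intro U hUinv hU hd
  have hUe : Even (finrank F U) := ⟨n, by omega⟩
  -- the peeling step
  have hpeel : ∀ P : Submodule F V, P ≤ U → (∀ w ∈ P, N w ∈ P) → NDon (PB Q) P → PlusOn Q P →
      ∀ c, 1 ≤ c → finrank F P = 2 * c →
      ∃ a b, GP Q N (U ⊓ (PB Q).orthogonal P) a b ∧ c ≤ n ∧
        ((PlusOn Q U ∧ a + 2 * b = n - c) ∨ (¬ PlusOn Q U ∧ a + 1 + 2 * b = n - c)) := by
    intro P hPU hPinv hP hPp c hc hPd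
    have hdim := finrank_perp_inR (PB Q) hrefl U P hP hPU
    obtain ⟨a, b, hG, hty⟩ := ih (n - c) (by omega) (U ⊓ (PB Q).orthogonal P)
      (h.perp_invariant U P hUinv hPinv) (NDon_perp_inR (PB Q) hrefl U P hU hP hPU) (by omega)
    rw [← plus_perp_iff Q U P hU hP hPU hPp hUe] at hty
    exact ⟨a, b, hG, by omega, hty⟩
  by_cases hcase1 : ∀ u ∈ U, N u = 0
  · -- `N` vanishes on `U`
    have hinvW : ∀ W : Submodule F V, W ≤ U → ∀ w ∈ W, N w ∈ W := by
      intro W hWU w hw
      rw [hcase1 w (hWU hw)]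
      exact W.zero_mem
    by_cases hp : PlusOn Q U
    · refine ⟨n, 0, ?_, Or.inl ⟨hp, by omega⟩⟩
      intro a' ha' b' hb'
      have hb0 : b' = 0 := by omega
      subst hb0
      rcases Nat.lt_or_ge a' n with hlt | hge
      · obtain ⟨H, hHU, hHnd, hHp, hHd⟩ := exists_plus_sub Q a' U n hU hd (by omega)
        exact ⟨H, hHU, hinvW H hHU, hHnd, hHp, by rw [hHd]; ring⟩
      · exact ⟨U, le_rfl, hUinv, hU, hp, by rw [hd]; omega⟩
    · have hn1 : 1 ≤ n := by
        rcases Nat.eq_zero_or_pos n with h0 | h0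
        · exfalso
          apply hp
          exact ⟨⊥, bot_le, TS_bot Q, by rw [finrank_bot, hd, h0]⟩
        · exact h0
      refine ⟨n - 1, 0, ?_, Or.inr ⟨hp, by omega⟩⟩
      intro a' ha' b' hb'
      have hb0 : b' = 0 := by omega
      subst hb0
      obtain ⟨H, hHU, hHnd, hHp, hHd⟩ := exists_plus_sub Q a' U n hU hd (by omega)
      exact ⟨H, hHU, hinvW H hHU, hHnd, hHp, by rw [hHd]; ring⟩
  · push Not at hcase1
    by_cases hcase2 : ∃ u ∈ U, Q (N u) ≠ 0
    · obtain ⟨u₀, hu₀U, hu₀⟩ := hcase2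
      by_cases hsing : ∃ e ∈ U, e ≠ 0 ∧ Q e = 0
      · obtain ⟨e, heU, he0, hee⟩ := hsing
        obtain ⟨u, huU, huu, hβ⟩ := h.exists_sing_beta U hU e heU he0 hee u₀ hu₀U hu₀
        obtain ⟨P, hPU, hPinv, hP, hPp, hPd⟩ := h.exists_plane_block U hUinv u huU huu hβ
        obtain ⟨a, b, hG, hcn, hty⟩ := hpeel P hPU hPinv hP hPp 1 le_rfl (by rw [hPd])
        refine ⟨a + 1, b, (GP.add_block hPU hPinv hP hPp hG).1 hPd, ?_⟩
        rcases hty with ⟨h1, h3⟩ | ⟨h1, h3⟩
        · exact Or.inl ⟨h1, by omega⟩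
        · exact Or.inr ⟨h1, by omega⟩
      · -- anisotropic: a plane of minus type
        push Not at hsing
        have hn1 : n = 1 := by
          have h3 : finrank F U < 3 := by
            by_contra hge
            obtain ⟨e, heU, he0, hee⟩ := exists_singular_in Q U (by omega)
            exact hsing e heU he0 hee
          have h4 : 0 < finrank F U := by
            rw [Module.finrank_pos_iff_exists_ne_zero]
            refine ⟨⟨u₀, hu₀U⟩, ?_⟩
            intro h0
            have : u₀ = 0 := congrArg Subtype.val h0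
            rw [this, map_zero, map_zero] at hu₀
            exact hu₀ rfl
          omega
        have hp : ¬ PlusOn Q U := by
          rintro ⟨T, hTU, hT, hTd⟩
          have hT1 : 0 < finrank F T := by omega
          rw [Module.finrank_pos_iff_exists_ne_zero] at hT1
          obtain ⟨t, ht⟩ := hT1
          exact hsing t.1 (hTU t.2) (fun h0 => ht (Subtype.ext h0)) (hT t.1 t.2)
        refine ⟨0, 0, ?_, Or.inr ⟨hp, by omega⟩⟩
        intro a' ha' b' hb'
        refine ⟨⊥, bot_le, ?_, NDon_bot _, ⟨⊥, le_rfl, TS_bot Q, by rw [finrank_bot]⟩, ?_⟩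
        · intro w hw
          rw [(Submodule.mem_bot F).mp hw, map_zero]
          exact Submodule.zero_mem _
        · rw [finrank_bot]; omega
    · push Not at hcase2
      obtain ⟨u, huU, hNu⟩ := hcase1
      obtain ⟨A, hAU, hAinv, hA, hAp, hAd⟩ := h.exists_four_block U hUinv hU hcase2 u huU hNu
      obtain ⟨a, b, hG, hcn, hty⟩ := hpeel A hAU hAinv hA hAp 2 (by omega) (by rw [hAd])
      refine ⟨a, b + 1, (GP.add_block hAU hAinv hA hAp hG).2 hAd, ?_⟩
      rcases hty with ⟨h1, h3⟩ | ⟨h1, h3⟩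
      · exact Or.inl ⟨h1, by omega⟩
      · exact Or.inr ⟨h1, by omega⟩

end struct

end

section

open Module
open Cfsg.Agent.Lib.H24.Elus
open Cfsg.Agent.Lib.H13.OSS
open Cfsg.Agent.Lib.H13.OES
open Cfsg.Agent.Lib.H10.OrtNd (PB TS PlusOn PB_apply PB_symm PB_self TS_mono)

theorem exists_split (a b M : ℕ) (hM : M ≤ a + 2 * b) (h : 1 ≤ a ∨ Even M) :
    ∃ a' ≤ a, ∃ b' ≤ b, a' + 2 * b' = M := by
  rcases Nat.lt_or_ge b (M / 2) with hlt | hge
  · exact ⟨M - 2 * b, by omega, b, le_rfl, by omega⟩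
  · refine ⟨M % 2, ?_, M / 2, hge, by omega⟩
    rcases h with h | ⟨k, hk⟩
    · omega
    · omega

section suff

variable {F : Type*} [Field F] [Fintype F] {V : Type*} [AddCommGroup V] [Module F V]
  [FiniteDimensional F V]
variable (Q : QuadraticForm F V) {N : End F V}

/-- plus type: invariant hyperbolic subspaces -/
theorem quadnil_fix_plus (hQ : (QuadraticMap.polarBilin Q).Nondegenerate) (d : ℕ)
    (hV : finrank F V = 2 * d) (h : IsQuadNil Q N) (hplus : PlusOn Q ⊤) (m : ℕ) (hme : Even m)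
    (hmd : m ≤ 2 * d) (hc : Odd d ∨ m % 4 = 0) :
    ∃ W : Submodule F V, (∀ w ∈ W, N w ∈ W) ∧ NDon (PB Q) W ∧ PlusOn Q W ∧
      finrank F W = m := by
  obtain ⟨a, b, hG, hty⟩ := h.struct d ⊤ (fun _ _ => Submodule.mem_top) (NDon_top_of Q hQ)
    (by rw [finrank_top, hV])
  rcases hty with ⟨-, hab⟩ | ⟨hm, -⟩
  · obtain ⟨k, hk⟩ := hme
    obtain ⟨a', ha', b', hb', hs⟩ := exists_split a b k (by omega) (by
      rcases hc with ⟨j, hj⟩ | hc
      · left; omega
      · right; exact ⟨k / 2, by omega⟩)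
    obtain ⟨W, -, hWinv, hWnd, hWp, hWd⟩ := hG a' ha' b' hb'
    exact ⟨W, hWinv, hWnd, hWp, by rw [hWd]; omega⟩
  · exact absurd hplus hm

/-- minus type: invariant elliptic subspaces -/
theorem quadnil_fix_minus (hQ : (QuadraticMap.polarBilin Q).Nondegenerate) (d : ℕ)
    (hV : finrank F V = 2 * d) (h : IsQuadNil Q N) (hminus : ¬ PlusOn Q ⊤) (m : ℕ)
    (hme : Even m) (hm2 : 2 ≤ m) (hmd : m + 2 ≤ 2 * d) (hc : Even d ∨ m % 4 = 2) :
    ∃ W : Submodule F V, (∀ w ∈ W, N w ∈ W) ∧ NDon (PB Q) W ∧ ¬ PlusOn Q W ∧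
      finrank F W = m := by
  have hrefl := PB_refl Q
  obtain ⟨a, b, hG, hty⟩ := h.struct d ⊤ (fun _ _ => Submodule.mem_top) (NDon_top_of Q hQ)
    (by rw [finrank_top, hV])
  rcases hty with ⟨hp, -⟩ | ⟨-, hab⟩
  · exact absurd hp hminus
  · obtain ⟨k, hk⟩ := hme
    obtain ⟨a', ha', b', hb', hs⟩ := exists_split a b (d - k) (by omega) (by
      rcases hc with ⟨j, hj⟩ | hc
      · left; omega
      · by_cases ha : 1 ≤ a
        · left; exact ha
        · right
          exact ⟨(d - k) / 2, by omega⟩)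
    obtain ⟨W', -, hW'inv, hW'nd, hW'p, hW'd⟩ := hG a' ha' b' hb'
    have hinv := h.perp_invariant ⊤ W' (fun _ _ => Submodule.mem_top) hW'inv
    have hnd := NDon_perp_inR (PB Q) hrefl ⊤ W' (NDon_top_of Q hQ) hW'nd le_top
    have hdim := finrank_perp_inR (PB Q) hrefl ⊤ W' hW'nd le_top
    have hsup := sup_perp_inR (PB Q) hrefl ⊤ W' hW'nd le_top
    rw [top_inf_eq] at hinv hnd hdim hsup
    rw [finrank_top, hV, hW'd] at hdim
    have hWd : finrank F ((PB Q).orthogonal W') = m := by omega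
    refine ⟨(PB Q).orthogonal W', hinv, hnd, ?_, hWd⟩
    intro hp
    apply hminus
    rw [plus_top_iff Q hQ W' _ hW'nd hnd (fun u hu v hv => hv u hu) hsup
      ⟨a' + 2 * b', by rw [hW'd]; ring⟩ ⟨k, by rw [hWd, hk]⟩]
    exact ⟨fun _ => hp, fun _ => hW'p⟩

end suff

end

end Cfsg.Agent.Lib.H13.OUni
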