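import Mathlib
import Cfsg.Agent.Lib.H13.OUni1
import Cfsg.Agent.Lib.H13.OUni2

/-!
Elements of order `p` of `PΩ^±_{2d}(q)`, `q` a power of `p`, and nondegenerate subspaces of prescribed type (helper13, for S5974, S5988,
S5990): `two_char2_plus` (characteristic two, plus type space, hyperbolic `m`-spaces: all involutions of `Ω` fix one iff `d` odd or
`4 ∣ m`), `two_char2_minus` (minus type space, elliptic `m`-spaces: iff `d` even or `m ≡ 2 mod 4`), `unip_plus_not_minus` (plus type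
space, elliptic `m`-spaces: never, for every `p`).
-/

set_option autoImplicit false
set_option linter.unusedSectionVars false
set_option linter.unusedVariables false
set_option linter.unusedSimpArgs false
set_option linter.deprecated false

namespace Cfsg.Agent.Lib.H13.OUni

section

open Module Matrix
open Cfsg.Agent.Lib.H24.Elus
open Cfsg.Agent.Lib.H13
open Cfsg.Agent.Lib.H13.OSS
open Cfsg.Agent.Lib.H13.OES
open Cfsg.Agent.Lib.H10.OrtNd (PB TS PlusOn PB_apply PB_symm PB_self TS_mono)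

section gl2

variable {F : Type*} [Field F] [Fintype F] {ι : Type} [Fintype ι] [DecidableEq ι]
variable (Q : QuadraticForm F (ι → F))

/-- characteristic two: an element of the isometry group with scalar square gives a nilpotent of
square zero -/
theorem quadnil_of_sq_scalar (h2 : (2 : F) = 0) (hQ : (QuadraticMap.polarBilin Q).Nondegenerate)
    (hcard : 0 < Fintype.card ι) (x : GL ι F) (hx : x ∈ Cfsg.isometryGroup F ⇑Q) (z : F)
    (hz : ((x ^ 2 : GL ι F) : Matrix ι ι F) = z • (1 : Matrix ι ι F)) :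
    ∃ N : End F (ι → F), IsQuadNil Q N ∧ ∀ v, (x : Matrix ι ι F) *ᵥ v = v + N v := by
  haveI : Nonempty ι := Fintype.card_pos_iff.mp hcard
  have hiso := (AutPO.mem_iso_iff (Q := Q) x).mp hx
  have hxx : (x : Matrix ι ι F) * (x : Matrix ι ι F) = z • 1 := by
    rw [← hz, Units.val_pow_eq_pow_val, pow_two]
  have hzz : z * z = 1 := by
    apply scalar_sq Q hQ ((x : Matrix ι ι F) * (x : Matrix ι ι F)) _ z hxx
    intro v
    rw [← Matrix.mulVec_mulVec, hiso, hiso]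
  have hz1 : z = 1 := by
    have h3 : (z - 1) * (z - 1) = 0 := by linear_combination hzz + (1 - z) * h2
    have := mul_self_eq_zero.mp h3
    linear_combination this
  rw [hz1, one_smul] at hxx
  have hxxv : ∀ v, (x : Matrix ι ι F) *ᵥ ((x : Matrix ι ι F) *ᵥ v) = v := by
    intro v
    rw [Matrix.mulVec_mulVec, hxx, Matrix.one_mulVec]
  obtain ⟨N, hN⟩ : ∃ N : End F (ι → F), N = Matrix.toLin' (x : Matrix ι ι F) - 1 := ⟨_, rfl⟩
  have hNapp : ∀ v, N v = (x : Matrix ι ι F) *ᵥ v - v := by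
    intro v
    rw [hN, LinearMap.sub_apply, Matrix.toLin'_apply, Module.End.one_apply]
  have hmv : ∀ v, (x : Matrix ι ι F) *ᵥ v = v + N v := by
    intro v
    rw [hNapp]; abel
  refine ⟨N, ⟨?_, ?_⟩, hmv⟩
  · intro v
    rw [← hmv, hiso]
  · intro v
    rw [hNapp, hNapp, Matrix.mulVec_sub, hxxv]
    have h3 : v - (x : Matrix ι ι F) *ᵥ v - ((x : Matrix ι ι F) *ᵥ v - v) =
        (2 : F) • (v - (x : Matrix ι ι F) *ᵥ v) := by
      rw [two_smul]; abel
    rw [h3, h2, zero_smul]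

theorem map_le_of_invariant' (x : Matrix ι ι F) (N : End F (ι → F))
    (hmv : ∀ v, x *ᵥ v = v + N v) (W : Submodule F (ι → F)) (h : ∀ w ∈ W, N w ∈ W) :
    W.map (Matrix.toLin' x) ≤ W := by
  rintro _ ⟨w, hw, rfl⟩
  rw [Matrix.toLin'_apply, hmv]
  exact W.add_mem hw (h w hw)

/-- **`r = p = 2`, plus type space, hyperbolic subspaces** -/
theorem two_char2_plus (h2 : (2 : F) = 0) (hQ : (QuadraticMap.polarBilin Q).Nondegenerate)
    (d : ℕ) (hd : 3 ≤ d) (hcard : Fintype.card ι = 2 * d) (hplus : PlusOn Q ⊤) (m : ℕ)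
    (hme : Even m) (hmd : m ≤ 2 * d) :
    (∀ x : GL ι F, x ∈ Cfsg.Geo.omegaGL ⇑Q →
      (∃ z : F, ((x ^ 2 : GL ι F) : Matrix ι ι F) = z • (1 : Matrix ι ι F)) →
      (∀ z : F, (x : Matrix ι ι F) ≠ z • (1 : Matrix ι ι F)) →
      ∃ W : Submodule F (ι → F), (finrank F W = m ∧ NDon (PB Q) W ∧ PlusOn Q W) ∧
        W.map (Matrix.toLin' (x : Matrix ι ι F)) ≤ W) ↔
    (Odd d ∨ m % 4 = 0) := by
  have hV : finrank F (ι → F) = 2 * d := by rw [Module.finrank_fintype_fun_eq_card, hcard]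
  constructor
  · intro H
    by_contra hcon
    push Not at hcon
    obtain ⟨hde, hm4⟩ := hcon
    rw [Nat.not_odd_iff_even] at hde
    haveI : CharP F 2 := CharTwo.of_one_ne_zero_of_two_eq_zero one_ne_zero h2
    haveI : Fact (Nat.Prime 2) := ⟨Nat.prime_two⟩
    obtain ⟨x, hxΩ, hx2, hns, hall⟩ := exists_unip_plus_even Q hQ d hd hde hcard hplus 2
    obtain ⟨W, ⟨hWm, hWnd, -⟩, hWinv⟩ := H x hxΩ ⟨1, by rw [hx2, one_smul]; rfl⟩ hns
    obtain ⟨-, h4⟩ := hall W hWnd hWinv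
    rw [hWm] at h4
    exact hm4 h4
  · intro hc x hxΩ ⟨z, hz⟩ _
    have hx := Cfsg.Agent.Lib.H11.OrtOd.omegaGL_le Q x hxΩ
    obtain ⟨N, hN, hmv⟩ := quadnil_of_sq_scalar Q h2 hQ (by omega) x hx z hz
    obtain ⟨W, hWinv, hWnd, hWp, hWd⟩ := quadnil_fix_plus Q hQ d hV hN hplus m hme hmd hc
    exact ⟨W, ⟨hWd, hWnd, hWp⟩, map_le_of_invariant' _ N hmv W hWinv⟩

/-- **`r = p = 2`, minus type space, elliptic subspaces** -/
theorem two_char2_minus (h2 : (2 : F) = 0) (hQ : (QuadraticMap.polarBilin Q).Nondegenerate)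
    (d : ℕ) (hd : 3 ≤ d) (hcard : Fintype.card ι = 2 * d) (hminus : ¬ PlusOn Q ⊤) (m : ℕ)
    (hme : Even m) (hm2 : 2 ≤ m) (hmd : m + 2 ≤ 2 * d) :
    (∀ x : GL ι F, x ∈ Cfsg.Geo.omegaGL ⇑Q →
      (∃ z : F, ((x ^ 2 : GL ι F) : Matrix ι ι F) = z • (1 : Matrix ι ι F)) →
      (∀ z : F, (x : Matrix ι ι F) ≠ z • (1 : Matrix ι ι F)) →
      ∃ W : Submodule F (ι → F), (finrank F W = m ∧ NDon (PB Q) W ∧ ¬ PlusOn Q W) ∧
        W.map (Matrix.toLin' (x : Matrix ι ι F)) ≤ W) ↔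
    (Even d ∨ m % 4 = 2) := by
  have hV : finrank F (ι → F) = 2 * d := by rw [Module.finrank_fintype_fun_eq_card, hcard]
  constructor
  · intro H
    by_contra hcon
    push Not at hcon
    obtain ⟨hdo, hm4⟩ := hcon
    rw [Nat.not_even_iff_odd] at hdo
    haveI : CharP F 2 := CharTwo.of_one_ne_zero_of_two_eq_zero one_ne_zero h2
    haveI : Fact (Nat.Prime 2) := ⟨Nat.prime_two⟩
    obtain ⟨x, hxΩ, hx2, hns, hall⟩ := exists_unip_odd Q hQ d hd hdo hcard 2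
    obtain ⟨W, ⟨hWm, hWnd, hWp⟩, hWinv⟩ := H x hxΩ ⟨1, by rw [hx2, one_smul]; rfl⟩ hns
    have h4 := hall W hWnd (by rw [hWm]; exact hme) hWinv hWp
    rw [hWm] at h4
    exact hm4 h4
  · intro hc x hxΩ ⟨z, hz⟩ _
    have hx := Cfsg.Agent.Lib.H11.OrtOd.omegaGL_le Q x hxΩ
    obtain ⟨N, hN, hmv⟩ := quadnil_of_sq_scalar Q h2 hQ (by omega) x hx z hz
    obtain ⟨W, hWinv, hWnd, hWp, hWd⟩ := quadnil_fix_minus Q hQ d hV hN hminus m hme hm2 hmd hc
    exact ⟨W, ⟨hWd, hWnd, hWp⟩, map_le_of_invariant' _ N hmv W hWinv⟩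

/-- **`r = p`, plus type space, elliptic subspaces**: some element of order `p` fixes no
elliptic `m`-space -/
theorem unip_plus_not_minus (hQ : (QuadraticMap.polarBilin Q).Nondegenerate)
    (d : ℕ) (hd : 3 ≤ d) (hcard : Fintype.card ι = 2 * d) (hplus : PlusOn Q ⊤) (p : ℕ)
    [Fact p.Prime] [CharP F p] (m : ℕ) (hme : Even m) :
    ¬ (∀ x : GL ι F, x ∈ Cfsg.Geo.omegaGL ⇑Q →
      (∃ z : F, ((x ^ p : GL ι F) : Matrix ι ι F) = z • (1 : Matrix ι ι F)) →
      (∀ z : F, (x : Matrix ι ι F) ≠ z • (1 : Matrix ι ι F)) →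
      ∃ W : Submodule F (ι → F), (finrank F W = m ∧ NDon (PB Q) W ∧ ¬ PlusOn Q W) ∧
        W.map (Matrix.toLin' (x : Matrix ι ι F)) ≤ W) := by
  intro H
  obtain ⟨x, hxΩ, hxp, hns, hall⟩ := exists_unip_plus Q hQ d hd hcard hplus p
  obtain ⟨W, ⟨hWm, hWnd, hWp⟩, hWinv⟩ := H x hxΩ ⟨1, by rw [hxp, one_smul]; rfl⟩ hns
  exact hWp (hall W hWnd (by rw [hWm]; exact hme) hWinv)

end gl2

end

end Cfsg.Agent.Lib.H13.OUni
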