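import Cfsg.Agent.Lib.H13.PlusTS
import Cfsg.Agent.Lib.H11.SiegelGen
import Cfsg.Agent.S0750
import Cfsg.Agent.S0756
import Cfsg.Agent.Lib.H13.SOIndexTwo

set_option autoImplicit false

namespace Cfsg.Agent.Lib.H13.OmegaWitt

open Matrix Module
open scoped MatrixGroups
open Cfsg.Agent.Lib.H13 Cfsg.Agent.Lib.H13.HypPairs Cfsg.Agent.Lib.H13.MaxTS

variable {F : Type*} [Field F] {n : ℕ} (Q : QuadraticForm F (Fin n → F))

set_option quotPrecheck false in
local notation "B" => QuadraticMap.polar (⇑Q)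

/-- the stabiliser of a subspace in the isometry group -/
def stab (U : Submodule F (Fin n → F)) : Subgroup ↥(Cfsg.isometryGroup F ⇑Q) where
  carrier := {s | U.map (Matrix.mulVecLin ((s : GL (Fin n) F) : Matrix (Fin n) (Fin n) F)) = U}
  one_mem' := by
    show U.map (Matrix.mulVecLin (1 : Matrix (Fin n) (Fin n) F)) = U
    rw [Matrix.mulVecLin_one, Submodule.map_id]
  mul_mem' := by
    intro a b ha hb
    show U.map (Matrix.mulVecLin (((a : GL (Fin n) F) : Matrix (Fin n) (Fin n) F) *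
      ((b : GL (Fin n) F) : Matrix (Fin n) (Fin n) F))) = U
    rw [Matrix.mulVecLin_mul, Submodule.map_comp]
    have hb' : U.map (Matrix.mulVecLin ((b : GL (Fin n) F) : Matrix (Fin n) (Fin n) F)) = U := hb
    rw [hb']
    exact ha
  inv_mem' := by
    intro a ha
    have ha' : U.map (Matrix.mulVecLin ((a : GL (Fin n) F) : Matrix (Fin n) (Fin n) F)) = U := ha
    show U.map (Matrix.mulVecLin (((a⁻¹ : ↥(Cfsg.isometryGroup F ⇑Q)) : GL (Fin n) F) :
      Matrix (Fin n) (Fin n) F)) = U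
    conv_lhs => rw [← ha']
    rw [← Submodule.map_comp, ← Matrix.mulVecLin_mul, ← Units.val_mul, ← Subgroup.coe_mul,
      inv_mul_cancel]
    show U.map (Matrix.mulVecLin (1 : Matrix (Fin n) (Fin n) F)) = U
    rw [Matrix.mulVecLin_one, Submodule.map_id]

theorem mem_stab_iff (U : Submodule F (Fin n → F)) (s : ↥(Cfsg.isometryGroup F ⇑Q)) :
    s ∈ stab Q U ↔
      U.map (Matrix.mulVecLin ((s : GL (Fin n) F) : Matrix (Fin n) (Fin n) F)) = U := Iff.rfl

theorem mem_stab_of_forall (U : Submodule F (Fin n → F)) (s : ↥(Cfsg.isometryGroup F ⇑Q))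
    (h : ∀ u ∈ U, ((s : GL (Fin n) F) : Matrix (Fin n) (Fin n) F) *ᵥ u ∈ U) : s ∈ stab Q U := by
  rw [mem_stab_iff]
  apply Submodule.eq_of_le_of_finrank_eq
  · rintro z ⟨u, hu, rfl⟩
    exact h u hu
  · rw [← PlusTS.toEquiv_coe, LinearEquiv.finrank_map_eq]

theorem map_mul_of_mem_stab (U : Submodule F (Fin n → F)) (g s : ↥(Cfsg.isometryGroup F ⇑Q))
    (hs : s ∈ stab Q U) :
    U.map (Matrix.mulVecLin (((g * s : ↥(Cfsg.isometryGroup F ⇑Q)) : GL (Fin n) F) :
      Matrix (Fin n) (Fin n) F)) =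
    U.map (Matrix.mulVecLin ((g : GL (Fin n) F) : Matrix (Fin n) (Fin n) F)) := by
  rw [Subgroup.coe_mul, Units.val_mul, Matrix.mulVecLin_mul, Submodule.map_comp,
    (mem_stab_iff Q U s).mp hs]

/-- reflections in vectors of `U` stabilise `U` -/
theorem refl_mem_stab_of_mem (U : Submodule F (Fin n → F)) (v : Fin n → F) (hv : Q v ≠ 0)
    (hvU : v ∈ U) : reflG Q v hv ∈ stab Q U := by
  apply mem_stab_of_forall
  intro u hu
  rw [reflG_val, Cfsg.Agent.Lib.H4.reflectionMatrix_mulVec]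
  exact U.sub_mem hu (U.smul_mem _ hvU)

/-- reflections in vectors orthogonal to `U` stabilise `U` -/
theorem refl_mem_stab_of_perp (U : Submodule F (Fin n → F)) (v : Fin n → F) (hv : Q v ≠ 0)
    (hvU : ∀ u ∈ U, B v u = 0) : reflG Q v hv ∈ stab Q U := by
  apply mem_stab_of_forall
  intro u hu
  rw [reflG_val, Cfsg.Agent.Lib.H4.reflectionMatrix_mulVec, hvU u hu, mul_zero, zero_smul, sub_zero]
  exact hu

/-- Witt's theorem: an isometry between subspaces is induced by an isometry of the space -/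
theorem exists_map [Finite F] (hQ : (QuadraticMap.polarBilin Q).Nondegenerate)
    (U W : Submodule F (Fin n → F)) (e : U ≃ₗ[F] W)
    (he : ∀ u : U, Q (e u : Fin n → F) = Q (u : Fin n → F)) :
    ∃ g : ↥(Cfsg.isometryGroup F ⇑Q),
      U.map (Matrix.mulVecLin ((g : GL (Fin n) F) : Matrix (Fin n) (Fin n) F)) = W := by
  obtain ⟨g₀, hg₀, hext⟩ := Cfsg.Agent.S0750.result Q hQ U W e he
  refine ⟨Cfsg.Agent.Lib.H11.SiegelGen.elOfEquiv Q g₀ hg₀, ?_⟩
  have hact : ∀ x, ((Cfsg.Agent.Lib.H11.SiegelGen.elOfEquiv Q g₀ hg₀ : ↥(Cfsg.isometryGroup F ⇑Q)) :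
      GL (Fin n) F).1 *ᵥ x = g₀ x := fun x =>
    Cfsg.Agent.Lib.H11.SiegelGen.elOfEquiv_act Q g₀ hg₀ x
  apply le_antisymm
  · rintro z ⟨u, hu, rfl⟩
    rw [Matrix.mulVecLin_apply]
    have := hact u
    rw [this, hext ⟨u, hu⟩]
    exact (e ⟨u, hu⟩).2
  · intro w hw
    refine ⟨(e.symm ⟨w, hw⟩ : Fin n → F), (e.symm ⟨w, hw⟩).2, ?_⟩
    rw [Matrix.mulVecLin_apply]
    have := hact (e.symm ⟨w, hw⟩ : Fin n → F)
    rw [this, hext (e.symm ⟨w, hw⟩), LinearEquiv.apply_symm_apply]

/-- characteristic two: adjust an isometry into `Ω` by a reflection of a subgroup -/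
theorem adjust_even [Finite F] [CharP F 2] (hQ : (QuadraticMap.polarBilin Q).Nondegenerate)
    (h : Nat.card F ≠ 2 ∨ Fintype.card (Fin n) ≠ 4) (S : Subgroup ↥(Cfsg.isometryGroup F ⇑Q))
    (v : Fin n → F) (hv : Q v ≠ 0) (hvS : reflG Q v hv ∈ S) (g : ↥(Cfsg.isometryGroup F ⇑Q)) :
    ∃ s ∈ S, g * s ∈ Cfsg.Omega F ⇑Q := by
  rcases Char2Omega.abel_cases Q hQ h v hv g⁻¹ with h1 | h1
  · refine ⟨1, Subgroup.one_mem _, ?_⟩
    rw [mul_one]
    simpa using Subgroup.inv_mem _ h1
  · refine ⟨reflG Q v hv, hvS, ?_⟩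
    have := Subgroup.inv_mem _ h1
    rwa [_root_.mul_inv_rev, inv_inv, Char2Omega.reflG_inv] at this

open Cfsg.Agent.Lib.H11.SpinSign in
/-- odd characteristic: adjust an isometry into `Ω` by elements of a subgroup -/
theorem adjust_odd [Fintype F] (hQ : (QuadraticMap.polarBilin Q).Nondegenerate) (h2 : (2 : F) ≠ 0)
    (hn : 2 ≤ n) (S : Subgroup ↥(Cfsg.isometryGroup F ⇑Q))
    (s₁ s₂ : ↥(Cfsg.isometryGroup F ⇑Q)) (hs₁ : s₁ ∈ S) (hs₂ : s₂ ∈ S)
    (hd₁ : ((s₁ : GL (Fin n) F) : Matrix (Fin n) (Fin n) F).det = -1)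
    (hd₂ : ((s₂ : GL (Fin n) F) : Matrix (Fin n) (Fin n) F).det = 1)
    (hns₂ : s₂ ∉ Cfsg.Omega F ⇑Q) (g : ↥(Cfsg.isometryGroup F ⇑Q)) :
    ∃ s ∈ S, g * s ∈ Cfsg.Omega F ⇑Q := by
  have hmain := (main Q hQ h2 hn 1 one_ne_zero).2
  have hdet1 : ∀ x : ↥(Cfsg.isometryGroup F ⇑Q), detHom Q x = 1 ↔
      ((x : GL (Fin n) F) : Matrix (Fin n) (Fin n) F).det = 1 := by
    intro x
    constructor
    · intro hx
      rw [← detHom_val, hx]; rfl
    · intro hx
      apply Units.ext
      rw [detHom_val, hx]; rfl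
  -- first make the determinant one
  obtain ⟨t, ht, htd⟩ : ∃ t ∈ S, (((g * t : ↥(Cfsg.isometryGroup F ⇑Q)) : GL (Fin n) F) :
      Matrix (Fin n) (Fin n) F).det = 1 := by
    rcases (Cfsg.Agent.S0785.result Q hQ).1 g with h1 | h1
    · exact ⟨1, Subgroup.one_mem _, by rw [mul_one]; exact h1⟩
    · refine ⟨s₁, hs₁, ?_⟩
      rw [Subgroup.coe_mul, Units.val_mul, Matrix.det_mul, h1, hd₁]
      ring
  by_cases hchi : chi Q 1 (g * t) = 1
  · exact ⟨t, ht, (hmain _).mpr ⟨(hdet1 _).mpr htd, hchi⟩⟩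
  · have hchi' : chi Q 1 (g * t) = -1 := (Int.units_eq_one_or _).resolve_left hchi
    have hchi₂ : chi Q 1 s₂ = -1 := by
      rcases Int.units_eq_one_or (chi Q 1 s₂) with h1 | h1
      · exact absurd ((hmain s₂).mpr ⟨(hdet1 _).mpr hd₂, h1⟩) hns₂
      · exact h1
    refine ⟨t * s₂, Subgroup.mul_mem _ ht hs₂, ?_⟩
    rw [← mul_assoc]
    apply (hmain _).mpr
    constructor
    · rw [map_mul, (hdet1 _).mpr htd, (hdet1 _).mpr hd₂, one_mul]
    · rw [map_mul, hchi', hchi₂]
      rfl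

theorem polarBilin_isSymm : (QuadraticMap.polarBilin Q).IsSymm :=
  ⟨fun x y => by
    simp only [QuadraticMap.polarBilin_apply_apply, RingHom.id_apply]
    exact QuadraticMap.polar_comm _ _ _⟩

theorem polarBilin_isRefl : (QuadraticMap.polarBilin Q).IsRefl :=
  (polarBilin_isSymm Q).isRefl

/-- universality of a nondegenerate subspace of dimension at least two (odd characteristic) -/
theorem exists_Q_eq_of_mem [Finite F] (h2 : (2 : F) ≠ 0) (X : Submodule F (Fin n → F))
    (hX : Disjoint X (LinearMap.BilinForm.orthogonal (QuadraticMap.polarBilin Q) X))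
    (hdim : 2 ≤ finrank F X) (c : F) (hc : c ≠ 0) : ∃ x ∈ X, Q x = c := by
  have hnd := LinearMap.BilinForm.nondegenerate_restrict_of_disjoint_orthogonal
    (QuadraticMap.polarBilin Q) (polarBilin_isRefl Q) hX
  let B' : LinearMap.BilinForm F X := (2 * c)⁻¹ • LinearMap.BilinForm.restrict (QuadraticMap.polarBilin Q) X
  have hk : (2 * c)⁻¹ ≠ 0 := inv_ne_zero (mul_ne_zero h2 hc)
  have hB'app : ∀ x y : X, B' x y = (2 * c)⁻¹ * QuadraticMap.polar (⇑Q) (x : Fin n → F) y :=
    fun x y => rfl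
  have hS : B'.IsSymm := ⟨fun x y => by
    rw [hB'app, hB'app, QuadraticMap.polar_comm]⟩
  have hB : B'.Nondegenerate := by
    constructor
    · intro x hx
      apply hnd.1 x
      intro y
      have := hx y
      simp only [B', LinearMap.smul_apply, smul_eq_mul] at this
      exact (mul_eq_zero.1 this).resolve_left hk
    · intro x hx
      apply hnd.2 x
      intro y
      have := hx y
      simp only [B', LinearMap.smul_apply, smul_eq_mul] at this
      exact (mul_eq_zero.1 this).resolve_left hk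
  obtain ⟨x, hx⟩ := Cfsg.Agent.S0756.exists_norm_one h2 B' hS hB hdim
  refine ⟨x, x.2, ?_⟩
  rw [hB'app, Cfsg.Agent.Lib.H4.polar_self] at hx
  field_simp at hx
  linear_combination hx

/-- odd characteristic: a subgroup containing the reflections of a nondegenerate subspace of
dimension at least two covers `O/Ω` -/
theorem adjust_odd_of_subspace [Fintype F] (hQ : (QuadraticMap.polarBilin Q).Nondegenerate)
    (h2 : (2 : F) ≠ 0) (hn : 2 ≤ n) (S : Subgroup ↥(Cfsg.isometryGroup F ⇑Q))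
    (X : Submodule F (Fin n → F))
    (hX : Disjoint X (LinearMap.BilinForm.orthogonal (QuadraticMap.polarBilin Q) X))
    (hdim : 2 ≤ finrank F X) (hS : ∀ w ∈ X, ∀ hw : Q w ≠ 0, reflG Q w hw ∈ S)
    (g : ↥(Cfsg.isometryGroup F ⇑Q)) : ∃ s ∈ S, g * s ∈ Cfsg.Omega F ⇑Q := by
  classical
  have hchar : ringChar F ≠ 2 := OmegaCrit.ringChar_ne_two' h2
  obtain ⟨ν, hν⟩ := FiniteField.exists_nonsquare hchar
  have hν0 : ν ≠ 0 := by
    rintro rfl
    exact hν ⟨0, by simp⟩
  obtain ⟨w₁, hw₁X, hw₁⟩ := exists_Q_eq_of_mem Q h2 X hX hdim 1 one_ne_zero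
  obtain ⟨w₂, hw₂X, hw₂⟩ := exists_Q_eq_of_mem Q h2 X hX hdim ν hν0
  have h1 : Q w₁ ≠ 0 := by rw [hw₁]; exact one_ne_zero
  have h2' : Q w₂ ≠ 0 := by rw [hw₂]; exact hν0
  apply adjust_odd Q hQ h2 hn S (reflG Q w₁ h1) (reflG Q w₁ h1 * reflG Q w₂ h2')
    (hS w₁ hw₁X h1) (Subgroup.mul_mem _ (hS w₁ hw₁X h1) (hS w₂ hw₂X h2'))
    (SOIndexTwo.det_reflG Q w₁ h1)
  · rw [SOIndexTwo.det_mul', SOIndexTwo.det_reflG, SOIndexTwo.det_reflG]
    ring
  · intro hmem
    have hcrit := (OmegaCrit.mem_Omega_iff_list_fin Q h2 hn hQ (reflG Q w₁ h1 * reflG Q w₂ h2')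
      [w₁, w₂] (by
        intro v hv
        simp only [List.mem_cons, List.not_mem_nil, or_false] at hv
        rcases hv with rfl | rfl
        · exact h1
        · exact h2') (by
        simp only [List.map_cons, List.map_nil, List.prod_cons, List.prod_nil, Matrix.mul_one]
        rfl)).mp hmem
    obtain ⟨-, hsq⟩ := hcrit
    simp only [List.map_cons, List.map_nil, List.prod_cons, List.prod_nil, mul_one, hw₁, hw₂,
      one_mul] at hsq
    exact hν hsq

theorem polar_of_mem_orthogonal (U : Submodule F (Fin n → F)) (w : Fin n → F)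
    (hw : w ∈ LinearMap.BilinForm.orthogonal (QuadraticMap.polarBilin Q) U) :
    ∀ u ∈ U, B w u = 0 := by
  intro u hu
  rw [LinearMap.BilinForm.mem_orthogonal_iff] at hw
  have := hw u hu
  rw [QuadraticMap.polar_comm]
  exact this

/-- S2632: `Ω` is transitive on isometric nondegenerate subspaces -/
theorem witt_Omega_nondeg [Fintype F] (hn : 3 ≤ n) (h : Fintype.card F ≠ 2 ∨ n ≠ 4)
    (hQ : (QuadraticMap.polarBilin Q).Nondegenerate) (U W : Submodule F (Fin n → F))
    (hU : U ⊓ LinearMap.BilinForm.orthogonal (QuadraticMap.polarBilin Q) U = ⊥)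
    (e : U ≃ₗ[F] W) (he : ∀ u : U, Q (e u : Fin n → F) = Q (u : Fin n → F)) :
    ∃ g : ↥(Cfsg.isometryGroup F ⇑Q), g ∈ Cfsg.Omega F ⇑Q ∧
      U.map (Matrix.mulVecLin ((g : GL (Fin n) F) : Matrix (Fin n) (Fin n) F)) = W := by
  obtain ⟨g₀, hg₀⟩ := exists_map Q hQ U W e he
  suffices hs : ∃ s ∈ stab Q U, g₀ * s ∈ Cfsg.Omega F ⇑Q by
    obtain ⟨s, hs, hmem⟩ := hs
    exact ⟨g₀ * s, hmem, by rw [map_mul_of_mem_stab Q U g₀ s hs]; exact hg₀⟩
  haveI : Nonempty (Fin n) := ⟨⟨0, by omega⟩⟩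
  by_cases h2 : (2 : F) = 0
  · haveI : CharP F 2 := CharTwo.of_one_ne_zero_of_two_eq_zero one_ne_zero h2
    have hcard : Nat.card F ≠ 2 ∨ Fintype.card (Fin n) ≠ 4 := by
      rw [Nat.card_eq_fintype_card, Fintype.card_fin]; exact h
    by_cases hv : ∃ v ∈ U, Q v ≠ 0
    · obtain ⟨v, hvU, hv⟩ := hv
      exact adjust_even Q hQ hcard _ v hv (refl_mem_stab_of_mem Q U v hv hvU) g₀
    · push Not at hv
      have hbot : U = ⊥ := by
        rw [eq_bot_iff, ← hU]
        intro u hu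
        refine ⟨hu, ?_⟩
        rw [SetLike.mem_coe, LinearMap.BilinForm.mem_orthogonal_iff]
        intro u' hu'
        exact polar_eq_zero_of_ts Q U hv u' u hu' hu
      obtain ⟨v, hv⟩ := Char2Omega.exists_Q_ne_zero' Q hQ
      refine adjust_even Q hQ hcard _ v hv (refl_mem_stab_of_perp Q U v hv ?_) g₀
      intro u hu
      rw [hbot, Submodule.mem_bot] at hu
      rw [hu, QuadraticMap.polar_zero_right]
  · have hfr := LinearMap.BilinForm.finrank_orthogonal hQ U
    rw [Module.finrank_fintype_fun_eq_card, Fintype.card_fin] at hfr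
    have hle : finrank F U ≤ n := by
      have := Submodule.finrank_le U
      rwa [Module.finrank_fintype_fun_eq_card, Fintype.card_fin] at this
    rcases Nat.lt_or_ge (finrank F U) 2 with hlt | hge
    · refine adjust_odd_of_subspace Q hQ h2 (by omega) _
        (LinearMap.BilinForm.orthogonal (QuadraticMap.polarBilin Q) U) ?_ (by omega) ?_ g₀
      · rw [LinearMap.BilinForm.orthogonal_orthogonal hQ (polarBilin_isRefl Q), disjoint_iff,
          inf_comm]
        exact hU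
      · intro w hw hw0
        exact refl_mem_stab_of_perp Q U w hw0 (polar_of_mem_orthogonal Q U w hw)
    · refine adjust_odd_of_subspace Q hQ h2 (by omega) _ U (disjoint_iff.mpr hU) hge ?_ g₀
      intro w hw hw0
      exact refl_mem_stab_of_mem Q U w hw0 hw

theorem Q_sub_smul (a b : Fin n → F) (c : F) (ha : Q a = 0) (hb : Q b = 0) (hab : B a b = 1) :
    Q (a - c • b) = -c := by
  rw [sub_eq_add_neg, QuadraticMap.map_add (⇑Q), QuadraticMap.map_neg, QuadraticMap.map_smul,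
    QuadraticMap.polar_neg_right, QuadraticMap.polar_smul_right, ha, hb, hab]
  simp

/-- the action of the hyperbolic rotation `r_{a - c b} r_{a - b}` on `a^⊥` -/
theorem rot_apply (a b : Fin n → F) (c : F) (hc : c ≠ 0) (ha : Q a = 0) (hb : Q b = 0)
    (hab : B a b = 1) (w : Fin n → F) (hw : B a w = 0) :
    Cfsg.reflectionMatrix (⇑Q) (a - c • b) *ᵥ (Cfsg.reflectionMatrix (⇑Q) (a - b) *ᵥ w) =
      w + ((c⁻¹ - 1) * B b w) • a := by
  have h1 : Q (a - b) = -1 := by
    have := Q_sub_smul Q a b 1 ha hb hab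
    rwa [one_smul] at this
  have hc' := Q_sub_smul Q a b c ha hb hab
  have hba : B b a = 1 := by rw [QuadraticMap.polar_comm]; exact hab
  rw [Cfsg.Agent.Lib.H4.reflectionMatrix_mulVec Q (a - b) w, h1,
    Cfsg.Agent.Lib.H4.reflectionMatrix_mulVec, hc']
  simp only [QuadraticMap.polar_sub_left, QuadraticMap.polar_sub_right,
    QuadraticMap.polar_smul_left, QuadraticMap.polar_smul_right, Cfsg.Agent.Lib.H4.polar_self, ha,
    hb, hab, hba, hw, smul_eq_mul, mul_zero, sub_zero, zero_sub, mul_one]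
  ext i
  simp only [Pi.sub_apply, Pi.add_apply, Pi.smul_apply, smul_eq_mul]
  field_simp
  ring

/-- a nonsingular vector orthogonal to a small totally singular subspace -/
theorem exists_perp_nonsingular [Finite F] (hQ : (QuadraticMap.polarBilin Q).Nondegenerate)
    (U : Submodule F (Fin n → F)) (hfr : 2 * finrank F U < n) :
    ∃ v, Q v ≠ 0 ∧ ∀ u ∈ U, B v u = 0 := by
  by_contra hcon
  push Not at hcon
  set Up := LinearMap.BilinForm.orthogonal (QuadraticMap.polarBilin Q) U with hUp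
  have hts : ∀ v ∈ Up, Q v = 0 := by
    intro v hv
    by_contra hne
    obtain ⟨u, hu, hvu⟩ := hcon v hne
    exact hvu (polar_of_mem_orthogonal Q U v hv u hu)
  have hle : Up ≤ LinearMap.BilinForm.orthogonal (QuadraticMap.polarBilin Q) Up := by
    intro x hx
    rw [LinearMap.BilinForm.mem_orthogonal_iff]
    intro y hy
    exact polar_eq_zero_of_ts Q Up hts y x hy hx
  rw [LinearMap.BilinForm.orthogonal_orthogonal hQ (polarBilin_isRefl Q)] at hle
  have h1 := Submodule.finrank_mono hle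
  have h3 := LinearMap.BilinForm.finrank_orthogonal hQ U
  rw [Module.finrank_fintype_fun_eq_card, Fintype.card_fin, ← hUp] at h3
  omega

/-- a singular vector has a hyperbolic partner -/
theorem exists_hyp_partner (hQ : (QuadraticMap.polarBilin Q).Nondegenerate) (a : Fin n → F)
    (ha0 : a ≠ 0) (haQ : Q a = 0) : ∃ b, Q b = 0 ∧ B a b = 1 := by
  obtain ⟨z, hz⟩ : ∃ z, B a z ≠ 0 := by
    by_contra hcon
    push Not at hcon
    exact ha0 (hQ.1 a hcon)
  obtain ⟨z', hz'⟩ : ∃ z', z' = (B a z)⁻¹ • z := ⟨_, rfl⟩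
  have haz' : B a z' = 1 := by
    rw [hz', QuadraticMap.polar_smul_right, smul_eq_mul, inv_mul_cancel₀ hz]
  refine ⟨z' - Q z' • a, ?_, ?_⟩
  · rw [sub_eq_add_neg, QuadraticMap.map_add (⇑Q), QuadraticMap.map_neg,
      QuadraticMap.map_smul, QuadraticMap.polar_neg_right, QuadraticMap.polar_smul_right, haQ,
      QuadraticMap.polar_comm (⇑Q) z' a, haz']
    simp
  · rw [QuadraticMap.polar_sub_right, QuadraticMap.polar_smul_right,
      Cfsg.Agent.Lib.H4.polar_self, haQ, haz']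
    simp

/-- S2633: `Ω` is transitive on the totally singular subspaces of a given small dimension -/
theorem witt_Omega_ts [Fintype F] (h : Fintype.card F ≠ 2 ∨ n ≠ 4)
    (hQ : (QuadraticMap.polarBilin Q).Nondegenerate) (U W : Submodule F (Fin n → F)) {k : ℕ}
    (hk : 2 * k < n) (hU : finrank F U = k) (hW : finrank F W = k) (hU0 : ∀ u ∈ U, Q u = 0)
    (hW0 : ∀ w ∈ W, Q w = 0) :
    ∃ g : ↥(Cfsg.isometryGroup F ⇑Q), g ∈ Cfsg.Omega F ⇑Q ∧
      U.map (Matrix.mulVecLin ((g : GL (Fin n) F) : Matrix (Fin n) (Fin n) F)) = W := by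
  classical
  let e : U ≃ₗ[F] W := LinearEquiv.ofFinrankEq U W (hU.trans hW.symm)
  have he : ∀ u : U, Q (e u : Fin n → F) = Q (u : Fin n → F) := by
    intro u
    rw [hW0 _ (e u).2, hU0 _ u.2]
  obtain ⟨g₀, hg₀⟩ := exists_map Q hQ U W e he
  suffices hs : ∃ s ∈ stab Q U, g₀ * s ∈ Cfsg.Omega F ⇑Q by
    obtain ⟨s, hs, hmem⟩ := hs
    exact ⟨g₀ * s, hmem, by rw [map_mul_of_mem_stab Q U g₀ s hs]; exact hg₀⟩
  obtain ⟨v, hv, hvU⟩ := exists_perp_nonsingular Q hQ U (by rw [hU]; exact hk)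
  have hs₁ := refl_mem_stab_of_perp Q U v hv hvU
  by_cases h2 : (2 : F) = 0
  · haveI : CharP F 2 := CharTwo.of_one_ne_zero_of_two_eq_zero one_ne_zero h2
    have hcard : Nat.card F ≠ 2 ∨ Fintype.card (Fin n) ≠ 4 := by
      rw [Nat.card_eq_fintype_card, Fintype.card_fin]; exact h
    exact adjust_even Q hQ hcard _ v hv hs₁ g₀
  · rcases Nat.eq_zero_or_pos k with hk0 | hkpos
    · -- `U = ⊥`: everything stabilises it
      have hbot : U = ⊥ := by
        rw [← Submodule.finrank_eq_zero, hU, hk0]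
      refine ⟨g₀⁻¹, ?_, by rw [mul_inv_cancel]; exact Subgroup.one_mem _⟩
      rw [mem_stab_iff, hbot, Submodule.map_bot]
    · have hne : U ≠ ⊥ := by
        intro hbot
        rw [hbot, finrank_bot] at hU
        omega
      obtain ⟨a, haU, ha0⟩ := Submodule.exists_mem_ne_zero_of_ne_bot hne
      have haQ : Q a = 0 := hU0 a haU
      obtain ⟨b, hbQ, hab⟩ := exists_hyp_partner Q hQ a ha0 haQ
      have hchar : ringChar F ≠ 2 := OmegaCrit.ringChar_ne_two' h2
      obtain ⟨ν, hν⟩ := FiniteField.exists_nonsquare hchar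
      have hν0 : ν ≠ 0 := by
        rintro rfl
        exact hν ⟨0, by simp⟩
      have hq1 : Q (a - b) = -1 := by
        have := Q_sub_smul Q a b 1 haQ hbQ hab
        rwa [one_smul] at this
      have hqν := Q_sub_smul Q a b ν haQ hbQ hab
      have hne1 : Q (a - b) ≠ 0 := by rw [hq1]; exact neg_ne_zero.mpr one_ne_zero
      have hneν : Q (a - ν • b) ≠ 0 := by rw [hqν]; exact neg_ne_zero.mpr hν0
      have hs₂ : reflG Q (a - ν • b) hneν * reflG Q (a - b) hne1 ∈ stab Q U := by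
        apply mem_stab_of_forall
        intro w hw
        rw [Subgroup.coe_mul, Units.val_mul, reflG_val, reflG_val, ← Matrix.mulVec_mulVec,
          rot_apply Q a b ν hν0 haQ hbQ hab w (polar_eq_zero_of_ts Q U hU0 a w haU hw)]
        exact U.add_mem hw (U.smul_mem _ haU)
      have hn2 : 2 ≤ n := by omega
      apply adjust_odd Q hQ h2 hn2 _ (reflG Q v hv) _ hs₁ hs₂ (SOIndexTwo.det_reflG Q v hv)
      · rw [SOIndexTwo.det_mul', SOIndexTwo.det_reflG, SOIndexTwo.det_reflG]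
        ring
      · intro hmem
        have hcrit := (OmegaCrit.mem_Omega_iff_list_fin Q h2 hn2 hQ _ [a - ν • b, a - b] (by
          intro x hx
          simp only [List.mem_cons, List.not_mem_nil, or_false] at hx
          rcases hx with rfl | rfl
          · exact hneν
          · exact hne1) (by
          simp only [List.map_cons, List.map_nil, List.prod_cons, List.prod_nil, Matrix.mul_one]
          rfl)).mp hmem
        obtain ⟨-, hsq⟩ := hcrit
        simp only [List.map_cons, List.map_nil, List.prod_cons, List.prod_nil, mul_one, hq1, hqν,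
          neg_mul_neg] at hsq
        exact hν hsq

end Cfsg.Agent.Lib.H13.OmegaWitt
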