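import Mathlib
import Cfsg.Prelude.Def_KGroupFacts

/-!
S5515 (helper13), abstract part.

* `S4Conj.conj_of_card_six` : two subgroups of order `6` of `Perm (Fin 4)` are conjugate.
* `OutConj.toAut` : for a normal subgroup `N ≃* L` of `G` the conjugation action `G →* MulAut L`;
  `OutConj.toAut_injective` (if `C_G(N) ≤ N` and `Z(L) = 1`), `OutConj.range_toAut_ge`, `OutConj.card_outRange`.
* `OutConj.nonempty_mulEquiv` : two such groups whose images in `Out L` are conjugate are isomorphic.
-/

set_option autoImplicit false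

namespace Cfsg.Agent.Lib.H13.S4Conj

open Equiv

theorem unique_fix_of_order_three : ∀ c : Perm (Fin 4), c ^ 3 = 1 → c ≠ 1 →
    ∃ i, c i = i ∧ ∀ j, c j = j → j = i := by
  decide

theorem card_stabilizer_fin4 (i : Fin 4) :
    Nat.card ↥(MulAction.stabilizer (Perm (Fin 4)) i) = 6 := by
  have horb : MulAction.orbit (Perm (Fin 4)) i = Set.univ := by
    ext j
    simp only [Set.mem_univ, iff_true]
    exact ⟨Equiv.swap i j, by simp⟩
  have h1 : (MulAction.stabilizer (Perm (Fin 4)) i).index = 4 := by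
    rw [MulAction.index_stabilizer, horb, Set.ncard_univ, Nat.card_eq_fintype_card, Fintype.card_fin]
  have h2 := (MulAction.stabilizer (Perm (Fin 4)) i).card_mul_index
  rw [h1, Nat.card_eq_fintype_card (α := Perm (Fin 4)), Fintype.card_perm, Fintype.card_fin] at h2
  have : (4 : ℕ).factorial = 24 := by decide
  omega

/-- a subgroup of order `6` of `S₄` fixes a point -/
theorem exists_fix_of_card_six (H : Subgroup (Perm (Fin 4))) (hH : Nat.card ↥H = 6) :
    ∃ i : Fin 4, ∀ σ ∈ H, σ i = i := by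
  haveI : Fact (Nat.Prime 3) := ⟨by norm_num⟩
  obtain ⟨c, hc⟩ := exists_prime_orderOf_dvd_card' (G := ↥H) 3 (by rw [hH]; norm_num)
  -- `⟨c⟩` has index two in `H`
  have hcard : Nat.card ↥(Subgroup.zpowers c) = 3 := by rw [Nat.card_zpowers, hc]
  have hidx : (Subgroup.zpowers c).index = 2 := by
    have := (Subgroup.zpowers c).card_mul_index
    rw [hcard, hH] at this
    omega
  have hnorm : (Subgroup.zpowers c).Normal := Subgroup.normal_of_index_eq_two hidx
  have hc3 : (c : Perm (Fin 4)) ^ 3 = 1 := by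
    have := pow_orderOf_eq_one c
    rw [hc] at this
    have h2 := congrArg Subtype.val this
    simpa using h2
  have hc1 : (c : Perm (Fin 4)) ≠ 1 := by
    intro h1
    have : c = 1 := Subtype.ext h1
    rw [this, orderOf_one] at hc
    omega
  obtain ⟨i, hi, huniq⟩ := unique_fix_of_order_three (c : Perm (Fin 4)) hc3 hc1
  refine ⟨i, fun σ hσ => ?_⟩
  -- `d = σ c σ⁻¹` is a power of `c`
  have hmem : (⟨σ, hσ⟩ : ↥H) * c * (⟨σ, hσ⟩ : ↥H)⁻¹ ∈ Subgroup.zpowers c :=
    hnorm.conj_mem c (Subgroup.mem_zpowers c) _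
  obtain ⟨k, hk⟩ := Subgroup.mem_zpowers_iff.1 hmem
  have hk' : (c : Perm (Fin 4)) ^ k = σ * (c : Perm (Fin 4)) * σ⁻¹ := by
    have := congrArg Subtype.val hk
    simpa using this
  set d : Perm (Fin 4) := σ * (c : Perm (Fin 4)) * σ⁻¹ with hd
  have hd3 : d ^ 3 = 1 := by
    rw [hd, conj_pow, hc3, mul_one, mul_inv_cancel]
  have hd1 : d ≠ 1 := by
    intro h1
    apply hc1
    have : (c : Perm (Fin 4)) = σ⁻¹ * d * σ := by rw [hd]; group
    rw [this, h1]; group
  obtain ⟨j, hj, hjuniq⟩ := unique_fix_of_order_three d hd3 hd1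
  have h1 : d i = i := by
    rw [← hk']
    exact Equiv.Perm.zpow_apply_eq_self_of_apply_eq_self hi k
  have h2 : d (σ i) = σ i := by
    rw [hd]
    simp [Perm.mul_apply, hi]
  rw [hjuniq _ h2, hjuniq _ h1]

/-- **two subgroups of order `6` of `S₄` are conjugate** -/
theorem conj_of_card_six (H H' : Subgroup (Perm (Fin 4))) (hH : Nat.card ↥H = 6) (hH' : Nat.card ↥H' = 6) :
    ∃ x : Perm (Fin 4), H' = H.map (MulAut.conj x).toMonoidHom := by
  obtain ⟨i, hi⟩ := exists_fix_of_card_six H hH
  obtain ⟨j, hj⟩ := exists_fix_of_card_six H' hH'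
  have e1 : H = MulAction.stabilizer (Perm (Fin 4)) i := by
    apply Subgroup.eq_of_le_of_card_ge
    · intro σ hσ
      exact hi σ hσ
    · rw [card_stabilizer_fin4, hH]
  have e2 : H' = MulAction.stabilizer (Perm (Fin 4)) j := by
    apply Subgroup.eq_of_le_of_card_ge
    · intro σ hσ
      exact hj σ hσ
    · rw [card_stabilizer_fin4, hH']
  refine ⟨Equiv.swap i j, ?_⟩
  rw [e1, e2, ← MulAction.stabilizer_smul_eq_stabilizer_map_conj]
  congr 1
  simp

end Cfsg.Agent.Lib.H13.S4Conj

namespace Cfsg.Agent.Lib.H13.OutConj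

variable {G : Type*} [Group G] {L : Type*} [Group L]

/-- the conjugation action of `G` on a normal subgroup `N ≃* L`, as automorphisms of `L` -/
noncomputable def toAut (N : Subgroup G) [N.Normal] (e : ↥N ≃* L) : G →* MulAut L :=
  (MulAut.congr e).toMonoidHom.comp MulAut.conjNormal

theorem toAut_apply (N : Subgroup G) [hN : N.Normal] (e : ↥N ≃* L) (g : G) (x : L) :
    toAut N e g x = e ⟨g * (e.symm x : G) * g⁻¹, hN.conj_mem _ (e.symm x).2 g⟩ := by
  unfold toAut
  rw [MonoidHom.comp_apply]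
  show e ((MulAut.conjNormal g) (e.symm x)) = _
  congr 1

theorem toAut_coe (N : Subgroup G) [hN : N.Normal] (e : ↥N ≃* L) (n : ↥N) :
    toAut N e (n : G) = MulAut.conj (e n) := by
  ext x
  rw [toAut_apply, MulAut.conj_apply]
  have : (⟨(n : G) * (e.symm x : G) * (n : G)⁻¹, hN.conj_mem _ (e.symm x).2 n⟩ : ↥N) = n * e.symm x * n⁻¹ := by
    apply Subtype.ext
    simp
  rw [this, map_mul, map_mul, map_inv, MulEquiv.apply_symm_apply]

theorem toAut_injective (N : Subgroup G) [hN : N.Normal] (e : ↥N ≃* L)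
    (hC : Subgroup.centralizer (N : Set G) ≤ N) (hZ : Subgroup.center L = ⊥) :
    Function.Injective (toAut N e) := by
  rw [injective_iff_map_eq_one]
  intro g hg
  have h1 : ∀ n : ↥N, g * (n : G) * g⁻¹ = n := by
    intro n
    have h2 := congrArg (fun f : MulAut L => f (e n)) hg
    simp only [MulAut.one_apply] at h2
    rw [toAut_apply, MulEquiv.symm_apply_apply] at h2
    have h3 := e.injective h2
    exact congrArg Subtype.val h3
  have hgC : g ∈ Subgroup.centralizer (N : Set G) := by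
    rw [Subgroup.mem_centralizer_iff]
    intro n hn
    have := h1 ⟨n, hn⟩
    simp only at this
    calc n * g = (g * n * g⁻¹) * g := by rw [this]
      _ = g * n := by group
  have hgN : g ∈ N := hC hgC
  have h4 : MulAut.conj (e ⟨g, hgN⟩) = 1 := by
    rw [← toAut_coe N e ⟨g, hgN⟩]
    exact hg
  have h5 : e ⟨g, hgN⟩ ∈ Subgroup.center L := by
    rw [Subgroup.mem_center_iff]
    intro y
    have := congrArg (fun f : MulAut L => f y) h4
    simp only [MulAut.conj_apply, MulAut.one_apply] at this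
    calc y * e ⟨g, hgN⟩ = (e ⟨g, hgN⟩ * y * (e ⟨g, hgN⟩)⁻¹) * e ⟨g, hgN⟩ := by rw [this]
      _ = e ⟨g, hgN⟩ * y := by group
  rw [hZ, Subgroup.mem_bot] at h5
  have h6 : (⟨g, hgN⟩ : ↥N) = 1 := e.injective (by rw [h5, map_one])
  exact congrArg Subtype.val h6

theorem inn_le_range (N : Subgroup G) [hN : N.Normal] (e : ↥N ≃* L) :
    Cfsg.Inn L ≤ (toAut N e).range := by
  rintro _ ⟨l, rfl⟩
  exact ⟨(e.symm l : G), by rw [toAut_coe, MulEquiv.apply_symm_apply]⟩

/-- the image of `G` in `Out L` -/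
noncomputable def outRange (N : Subgroup G) [N.Normal] (e : ↥N ≃* L) : Subgroup (Cfsg.Out L) :=
  (toAut N e).range.map (QuotientGroup.mk' (Cfsg.Inn L))

theorem card_outRange (N : Subgroup G) [hN : N.Normal] (e : ↥N ≃* L)
    (hC : Subgroup.centralizer (N : Set G) ≤ N) (hZ : Subgroup.center L = ⊥) :
    Nat.card ↥(outRange N e) = N.index := by
  have hker : ((QuotientGroup.mk' (Cfsg.Inn L)).comp (toAut N e)).ker = N := by
    ext g
    rw [MonoidHom.mem_ker, MonoidHom.comp_apply, QuotientGroup.mk'_apply, QuotientGroup.eq_one_iff]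
    constructor
    · rintro ⟨l, hl⟩
      have hl' : toAut N e ((e.symm l : ↥N) : G) = toAut N e g := by
        rw [toAut_coe, MulEquiv.apply_symm_apply]
        exact hl
      have := toAut_injective N e hC hZ hl'
      rw [← this]
      exact (e.symm l).2
    · intro hg
      exact ⟨e ⟨g, hg⟩, (toAut_coe N e ⟨g, hg⟩).symm⟩
  unfold outRange
  rw [← MonoidHom.range_comp, ← Subgroup.index_ker, hker]

/-- two groups acting on `L` with conjugate images in `Out L` are isomorphic -/
theorem nonempty_mulEquiv {G' : Type*} [Group G'] (N : Subgroup G) [hN : N.Normal] (e : ↥N ≃* L)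
    (hC : Subgroup.centralizer (N : Set G) ≤ N) (N' : Subgroup G') [hN' : N'.Normal] (e' : ↥N' ≃* L)
    (hC' : Subgroup.centralizer (N' : Set G') ≤ N') (hZ : Subgroup.center L = ⊥) (y : Cfsg.Out L)
    (hconj : outRange N' e' = (outRange N e).map (MulAut.conj y).toMonoidHom) : Nonempty (G ≃* G') := by
  obtain ⟨x, rfl⟩ := QuotientGroup.mk'_surjective (Cfsg.Inn L) y
  set π := QuotientGroup.mk' (Cfsg.Inn L) with hπ
  set R := (toAut N e).range with hR
  set R' := (toAut N' e').range with hR'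
  have hkerR : π.ker ≤ R := by
    rw [hπ, QuotientGroup.ker_mk']
    exact inn_le_range N e
  have hkerR' : π.ker ≤ R' := by
    rw [hπ, QuotientGroup.ker_mk']
    exact inn_le_range N' e'
  have hkerRx : π.ker ≤ R.map (MulAut.conj x).toMonoidHom := by
    rw [hπ, QuotientGroup.ker_mk']
    intro a ha
    refine ⟨x⁻¹ * a * x, ?_, ?_⟩
    · apply inn_le_range N e
      have := (Cfsg.innNormal L).conj_mem a ha x⁻¹
      rwa [inv_inv] at this
    · simp only [MulEquiv.coe_toMonoidHom, MulAut.conj_apply]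
      group
  have hcomm : π.comp (MulAut.conj x).toMonoidHom = (MulAut.conj (π x)).toMonoidHom.comp π := by
    ext a
    simp only [MonoidHom.comp_apply, MulEquiv.coe_toMonoidHom, MulAut.conj_apply, map_mul, map_inv]
  have h1 : (R.map (MulAut.conj x).toMonoidHom).map π = R'.map π := by
    rw [Subgroup.map_map, hcomm, ← Subgroup.map_map]
    exact hconj.symm
  have h2 : R' = R.map (MulAut.conj x).toMonoidHom := by
    rw [← Subgroup.comap_map_eq_self hkerR', ← h1, Subgroup.comap_map_eq_self hkerRx]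
  have i1 : G ≃* ↥R := MonoidHom.ofInjective (toAut_injective N e hC hZ)
  have i2 : G' ≃* ↥R' := MonoidHom.ofInjective (toAut_injective N' e' hC' hZ)
  have i3 : ↥R ≃* ↥(R.map (MulAut.conj x).toMonoidHom) := (MulAut.conj x).subgroupMap R
  have i4 : ↥(R.map (MulAut.conj x).toMonoidHom) ≃* ↥R' := MulEquiv.subgroupCongr h2.symm
  exact ⟨i1.trans (i3.trans (i4.trans i2.symm))⟩

/-- the same with `Out L ≃* Perm (Fin 4)` and images of order `6` -/
theorem nonempty_mulEquiv_of_S4 {G' : Type*} [Group G'] (N : Subgroup G) [hN : N.Normal] (e : ↥N ≃* L)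
    (hC : Subgroup.centralizer (N : Set G) ≤ N) (N' : Subgroup G') [hN' : N'.Normal] (e' : ↥N' ≃* L)
    (hC' : Subgroup.centralizer (N' : Set G') ≤ N') (hZ : Subgroup.center L = ⊥)
    (ε : Cfsg.Out L ≃* Equiv.Perm (Fin 4)) (hidx : N.index = 6) (hidx' : N'.index = 6) :
    Nonempty (G ≃* G') := by
  have h6 : Nat.card ↥((outRange N e).map ε.toMonoidHom) = 6 := by
    have h := Nat.card_congr (ε.subgroupMap (outRange N e)).toEquiv
    rw [card_outRange N e hC hZ, hidx] at h
    exact h.symm
  have h6' : Nat.card ↥((outRange N' e').map ε.toMonoidHom) = 6 := by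
    have h := Nat.card_congr (ε.subgroupMap (outRange N' e')).toEquiv
    rw [card_outRange N' e' hC' hZ, hidx'] at h
    exact h.symm
  obtain ⟨σ, hσ⟩ := Cfsg.Agent.Lib.H13.S4Conj.conj_of_card_six _ _ h6 h6'
  apply nonempty_mulEquiv N e hC N' e' hC' hZ (ε.symm σ)
  have hcomm : (ε.symm.toMonoidHom.comp (MulAut.conj σ).toMonoidHom).comp ε.toMonoidHom =
      (MulAut.conj (ε.symm σ)).toMonoidHom := by
    ext a
    simp only [MonoidHom.comp_apply, MulEquiv.coe_toMonoidHom, MulAut.conj_apply, map_mul, map_inv,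
      MulEquiv.symm_apply_apply]
  have h1 := congrArg (Subgroup.map ε.symm.toMonoidHom) hσ
  rw [Subgroup.map_map, Subgroup.map_map, Subgroup.map_map, hcomm] at h1
  have hid : ε.symm.toMonoidHom.comp ε.toMonoidHom = MonoidHom.id _ := by
    ext a
    simp
  rw [hid, Subgroup.map_id] at h1
  exact h1

end Cfsg.Agent.Lib.H13.OutConj
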