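import Mathlib

/-!
# S4613, generic part: automorphisms of order prime to `p` fixing a `p`-subgroup pointwise

* `fix_of_normalizes` : if `α` (of order prime to `p`) fixes pointwise a `p`-subgroup `Q` with `C_G(Q) ≤ Q`, then
  `α` fixes pointwise every element normalising `Q`;
* `eq_one_of_fix_closure` : an automorphism fixing a generating set pointwise is trivial;
* `eq_one_of_sylow` : transfer from a given `p`-subgroup `R` to an arbitrary Sylow `p`-subgroup.
-/

set_option autoImplicit false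

namespace Cfsg.Agent.Lib.H13.PAut

variable {G : Type*} [Group G]

theorem pow_apply_mul_pow (α : MulAut G) (x z : G) (hx : α x = x * z) (hz : α z = z) (j : ℕ) :
    (α ^ j) x = x * z ^ j := by
  induction j with
  | zero => simp
  | succ j ih =>
    rw [pow_succ', MulAut.mul_apply, ih, map_mul, map_pow, hx, hz, mul_assoc, ← pow_succ']

/-- GEN: `α` of order prime to `p` fixing pointwise a `p`-subgroup `Q` with `C_G(Q) ≤ Q` fixes every `x`
normalising `Q`. -/
theorem fix_of_normalizes [Finite G] (p : ℕ) [Fact p.Prime] (α : MulAut G) (hα : ¬ p ∣ orderOf α)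
    (Q : Subgroup G) (hQ : IsPGroup p Q) (hfix : ∀ q ∈ Q, α q = q)
    (hC : ∀ g : G, (∀ q ∈ Q, g * q = q * g) → g ∈ Q)
    (x : G) (hx : ∀ q ∈ Q, x * q * x⁻¹ ∈ Q) : α x = x := by
  set z : G := x⁻¹ * α x with hz
  have hzQ : z ∈ Q := by
    apply hC
    intro q hq
    have h1 : α (x * q * x⁻¹) = x * q * x⁻¹ := hfix _ (hx q hq)
    rw [map_mul, map_mul, map_inv, hfix q hq] at h1
    -- α x * q * (α x)⁻¹ = x * q * x⁻¹
    have h2 : α x * q = x * q * x⁻¹ * α x := by
      rw [← h1]; group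
    rw [hz, mul_assoc, h2]
    group
  have hαz : α z = z := hfix z hzQ
  have hαx : α x = x * z := by rw [hz]; group
  have hk := pow_apply_mul_pow α x z hαx hαz (orderOf α)
  rw [pow_orderOf_eq_one, MulAut.one_apply] at hk
  have hzk : z ^ orderOf α = 1 := by
    have := hk.symm
    rwa [mul_eq_left] at this
  obtain ⟨a, ha⟩ := hQ ⟨z, hzQ⟩
  have ha' : z ^ p ^ a = 1 := by
    have := congrArg Subtype.val ha
    simpa using this
  have hcop : Nat.Coprime (orderOf α) (p ^ a) :=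
    Nat.Coprime.pow_right a ((Nat.Prime.coprime_iff_not_dvd Fact.out).2 hα).symm
  have hz1 : z = 1 := by
    have h1 : orderOf z ∣ orderOf α := orderOf_dvd_of_pow_eq_one hzk
    have h2 : orderOf z ∣ p ^ a := orderOf_dvd_of_pow_eq_one ha'
    have h3 : orderOf z ∣ 1 := by
      have := Nat.dvd_gcd h1 h2
      rwa [hcop] at this
    exact orderOf_eq_one_iff.1 (Nat.dvd_one.1 h3)
  rw [hαx, hz1, mul_one]

/-- an automorphism fixing a generating set pointwise is trivial -/
theorem eq_one_of_fix_closure (α : MulAut G) (S : Set G) (hS : Subgroup.closure S = ⊤)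
    (h : ∀ s ∈ S, α s = s) : α = 1 := by
  apply MulEquiv.ext
  intro x
  have hx : x ∈ Subgroup.closure S := by rw [hS]; trivial
  rw [MulAut.one_apply]
  induction hx using Subgroup.closure_induction with
  | mem y hy => exact h y hy
  | one => exact map_one α
  | mul y z _ _ ihy ihz => rw [map_mul, ihy, ihz]
  | inv y _ ihy => rw [map_inv, ihy]

/-- two self-centralising `p`-subgroups whose normalisers generate `G` -/
theorem eq_one_of_two [Finite G] (p : ℕ) [Fact p.Prime] (α : MulAut G) (hα : ¬ p ∣ orderOf α)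
    (Q₁ Q₂ : Subgroup G) (hQ₁ : IsPGroup p Q₁) (hQ₂ : IsPGroup p Q₂)
    (hfix₁ : ∀ q ∈ Q₁, α q = q) (hfix₂ : ∀ q ∈ Q₂, α q = q)
    (hC₁ : ∀ g : G, (∀ q ∈ Q₁, g * q = q * g) → g ∈ Q₁)
    (hC₂ : ∀ g : G, (∀ q ∈ Q₂, g * q = q * g) → g ∈ Q₂)
    (S : Set G) (hS : Subgroup.closure S = ⊤)
    (hSN : ∀ s ∈ S, (∀ q ∈ Q₁, s * q * s⁻¹ ∈ Q₁) ∨ (∀ q ∈ Q₂, s * q * s⁻¹ ∈ Q₂)) : α = 1 := by
  apply eq_one_of_fix_closure α S hS
  intro s hs
  rcases hSN s hs with h | h
  · exact fix_of_normalizes p α hα Q₁ hQ₁ hfix₁ hC₁ s h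
  · exact fix_of_normalizes p α hα Q₂ hQ₂ hfix₂ hC₂ s h

/-- transfer: it suffices to treat automorphisms fixing pointwise one given `p`-subgroup `R` -/
theorem eq_one_of_sylow [Finite G] (p : ℕ) [Fact p.Prime] (R : Subgroup G) (hR : IsPGroup p R)
    (H : ∀ β : MulAut G, ¬ p ∣ orderOf β → (∀ r ∈ R, β r = r) → β = 1)
    (α : MulAut G) (hα : ¬ p ∣ orderOf α) (U : Sylow p G) (hfix : ∀ x ∈ U, α x = x) : α = 1 := by
  obtain ⟨P, hRP⟩ := hR.exists_le_sylow
  obtain ⟨g, hg⟩ := MulAction.exists_smul_eq G P U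
  have hmem : ∀ r ∈ R, g * r * g⁻¹ ∈ U := by
    intro r hr
    rw [← hg]
    change g * r * g⁻¹ ∈ ((g • P : Sylow p G) : Subgroup G)
    rw [Sylow.coe_subgroup_smul, Subgroup.mem_pointwise_smul_iff_inv_smul_mem, MulAut.smul_def,
      MulAut.inv_apply, MulAut.conj_symm_apply]
    have : g⁻¹ * (g * r * g⁻¹) * g = r := by group
    rw [this]
    exact hRP hr
  set c : MulAut G := MulAut.conj g with hc
  set β : MulAut G := c⁻¹ * α * c⁻¹⁻¹ with hβ
  have hβo : ¬ p ∣ orderOf β := by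
    intro h
    apply hα
    have h1 : β ^ orderOf α = 1 := by
      rw [hβ, conj_pow, pow_orderOf_eq_one]
      group
    exact h.trans (orderOf_dvd_of_pow_eq_one h1)
  have hβfix : ∀ r ∈ R, β r = r := by
    intro r hr
    rw [hβ, inv_inv, MulAut.mul_apply, MulAut.mul_apply, hc, MulAut.conj_apply, hfix _ (hmem r hr),
      MulAut.inv_apply, MulAut.conj_symm_apply]
    group
  have h1 := H β hβo hβfix
  rw [hβ] at h1
  have : α = c * (c⁻¹ * α * c⁻¹⁻¹) * c⁻¹ := by group
  rw [this, h1]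
  group

end Cfsg.Agent.Lib.H13.PAut
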