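import Mathlib
import Cfsg.Agent.Lib.H13.AutPO10
import Cfsg.Agent.Lib.H19.SRDefs

/-!
S4613 (architect helper19), orthogonal groups, coordinate free (helper13), part 1: for a totally singular line `⟨u,v⟩` the centraliser
in `Ω(Q)` of the family `ρ_{u,y}` (`y ⊥ u, v`) lies in `Z(Ω) · R_{u,v}` (`centralizer_family_le`).
-/

set_option autoImplicit false
set_option linter.unusedSectionVars false
set_option linter.unusedVariables false

namespace Cfsg.Agent.Lib.H13.PAutPO

open Matrix QuadraticMap Module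
open Cfsg.Agent.Lib.H13.AutPO

variable {F : Type*} [Field F] {ι : Type} [Fintype ι] [DecidableEq ι]
variable (Q : QuadraticForm F (ι → F))

set_option quotPrecheck false in
local notation "B" => QuadraticMap.polar (⇑Q)

variable (hQ : (polarBilin Q).Nondegenerate) (hn : 5 ≤ Fintype.card ι)
include hQ hn

/-- two vectors of `⟨u,v⟩^⊥` which are not perpendicular -/
theorem exists_perp_pair_ne (u v : ι → F) :
    ∃ x y, B u x = 0 ∧ B v x = 0 ∧ B u y = 0 ∧ B v y = 0 ∧ B x y ≠ 0 := by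
  obtain ⟨x, hxu, hxv, hx⟩ := exists_perp_pair_not_mem Q hQ hn u v
  by_contra hcon
  push Not at hcon
  apply hx
  apply mem_span_pair_of_perp hQ
  intro t htu htv
  exact hcon x t hxu hxv htu htv

/-- the structure of an element commuting with the family `ρ_{u,y}`, `y ⊥ u, v` -/
theorem centralizer_family {u v : ι → F} (h : TSPair Q u v) {s : ↥(Cfsg.Omega F ⇑Q)}
    (hs : ∀ y, B u y = 0 → B v y = 0 → s * rhoΩ Q u y = rhoΩ Q u y * s) :
    ∃ μ : F, μ * μ = 1 ∧ sv s u = μ • u ∧
      (∀ x, B x u = 0 → ∃ a b : F, sv s x = μ • x + a • u + b • v) ∧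
      ∃ c : F, sv s v = μ • v + c • u := by
  obtain ⟨hu, hv, huv, hli⟩ := h
  have hu0 : u ≠ 0 := hli.ne_zero 0
  have hvu : B v u = 0 := by rw [B_comm, huv]
  have huu : B u u = 0 := by rw [B_self, hu, mul_zero]
  have hvv : B v v = 0 := by rw [B_self, hv, mul_zero]
  -- the commutation on vectors
  have hcomm : ∀ y, B u y = 0 → B v y = 0 → ∀ x,
      sv s (sv (rhoΩ Q u y) x) = sv (rhoΩ Q u y) (sv s x) := by
    intro y hy1 hy2 x
    rw [← sv_mul, ← sv_mul, hs y hy1 hy2]
  -- `s u ∈ ⟨u, v⟩` and `s⁻¹ u ∈ ⟨u, v⟩`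
  have hinv : ∀ y, B u y = 0 → B v y = 0 → s⁻¹ * rhoΩ Q u y = rhoΩ Q u y * s⁻¹ := by
    intro y hy1 hy2
    have := hs y hy1 hy2
    calc s⁻¹ * rhoΩ Q u y = s⁻¹ * (rhoΩ Q u y * s) * s⁻¹ := by group
      _ = s⁻¹ * (s * rhoΩ Q u y) * s⁻¹ := by rw [this]
      _ = rhoΩ Q u y * s⁻¹ := by group
  have hL : ∀ t : ↥(Cfsg.Omega F ⇑Q), (∀ y, B u y = 0 → B v y = 0 → t * rhoΩ Q u y = rhoΩ Q u y * t) →
      ∀ x, B u x = 0 → B v x = 0 → B (sv t x) u = 0 := by
    intro t ht x hxu hxv
    -- `t⁻¹ u` is fixed by the family, hence lies in the line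
    have htinv : ∀ y, B u y = 0 → B v y = 0 → t⁻¹ * rhoΩ Q u y = rhoΩ Q u y * t⁻¹ := by
      intro y hy1 hy2
      have := ht y hy1 hy2
      calc t⁻¹ * rhoΩ Q u y = t⁻¹ * (rhoΩ Q u y * t) * t⁻¹ := by group
        _ = t⁻¹ * (t * rhoΩ Q u y) * t⁻¹ := by rw [this]
        _ = rhoΩ Q u y * t⁻¹ := by group
    set w := sv t⁻¹ u with hw
    have hfix : ∀ y, B u y = 0 → B v y = 0 → sv (rhoΩ Q u y) w = w := by
      intro y hy1 hy2
      rw [hw, ← sv_mul, ← htinv y hy1 hy2, sv_mul]
      congr 1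
      rw [sv_rhoΩ Q hQ hn hu hy1, huu]
      have : B u y = 0 := hy1
      rw [this]
      module
    have key : ∀ y, B u y = 0 → B v y = 0 → B w y • u - B w u • y - (Q y * B w u) • u = 0 := by
      intro y hy1 hy2
      have := hfix y hy1 hy2
      rw [sv_rhoΩ Q hQ hn hu hy1] at this
      have h2 : w + B w y • u - B w u • y - (Q y * B w u) • u - w = 0 := by rw [this, sub_self]
      rw [← h2]; module
    -- `y = v`
    have h1 := key v huv hvv
    rw [hv, zero_mul, zero_smul, sub_zero] at h1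
    rw [LinearIndependent.pair_iff] at hli
    have h2 := hli (B w v) (-(B w u)) (by rw [← h1]; module)
    have hwu : B w u = 0 := by
      have := h2.2
      linear_combination -this
    have hwL : w ∈ Submodule.span F {u, v} := by
      apply mem_span_pair_of_perp hQ
      intro y hy1 hy2
      have h3 := key y hy1 hy2
      rw [hwu, zero_smul, mul_zero, zero_smul, sub_zero, sub_zero] at h3
      exact (smul_eq_zero.1 h3).resolve_right hu0
    obtain ⟨a, b, hab⟩ := Submodule.mem_span_pair.1 hwL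
    rw [B_sv_left, ← hw, ← hab, B_add_right, B_smul_right, B_smul_right, B_comm Q x u, B_comm Q x v, hxu, hxv]
    ring
  -- `s u = μ u`
  obtain ⟨x₀, y₀, hx₀u, hx₀v, hy₀u, hy₀v, hxy₀⟩ := exists_perp_pair_ne Q hQ hn u v
  have hsu : sv s u = ((B x₀ y₀)⁻¹ * B (sv s x₀) y₀) • u := by
    have h1 := hcomm y₀ hy₀u hy₀v x₀
    rw [sv_rhoΩ Q hQ hn hu hy₀u, sv_rhoΩ Q hQ hn hu hy₀u, hL s hs x₀ hx₀u hx₀v, B_comm Q x₀ u, hx₀u] at h1
    simp only [zero_smul, mul_zero, sub_zero] at h1
    rw [sv_add, sv_smul] at h1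
    have h2 : B x₀ y₀ • sv s u = B (sv s x₀) y₀ • u := add_left_cancel h1
    rw [mul_smul, ← h2, smul_smul, inv_mul_cancel₀ hxy₀, one_smul]
  set μ := (B x₀ y₀)⁻¹ * B (sv s x₀) y₀ with hμ
  have hμ0 : μ ≠ 0 := by
    intro h0
    rw [h0, zero_smul] at hsu
    exact hu0 ((sv_eq_zero_iff s).1 hsu)
  have hsinvu : sv s⁻¹ u = μ⁻¹ • u := by
    have := congrArg (sv s⁻¹) hsu
    rw [sv_inv_sv, sv_smul] at this
    have e : sv s⁻¹ u = μ⁻¹ • (μ • sv s⁻¹ u) := by rw [smul_smul, inv_mul_cancel₀ hμ0, one_smul]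
    rw [e, ← this]
  have hperp : ∀ x, B x u = 0 → B (sv s x) u = 0 := by
    intro x hx
    rw [B_sv_left, hsinvu, B_smul_right, hx, mul_zero]
  -- `s x ≡ μ x` modulo the line, for `x ⊥ u`
  have hmod : ∀ x, B x u = 0 → ∃ a b : F, sv s x = μ • x + a • u + b • v := by
    intro x hx
    have hmem : sv s x - μ • x ∈ Submodule.span F {u, v} := by
      apply mem_span_pair_of_perp hQ
      intro y hy1 hy2
      have h1 := hcomm y hy1 hy2 x
      rw [sv_rhoΩ Q hQ hn hu hy1, sv_rhoΩ Q hQ hn hu hy1, hperp x hx, hx] at h1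
      simp only [zero_smul, mul_zero, sub_zero] at h1
      rw [sv_add, sv_smul, hsu] at h1
      have h2 : B x y • μ • u = B (sv s x) y • u := add_left_cancel h1
      have h3 : (B x y * μ - B (sv s x) y) • u = 0 := by
        rw [sub_smul, mul_smul, h2, sub_self]
      have h4 := (smul_eq_zero.1 h3).resolve_right hu0
      rw [B_sub_left, B_smul_left]
      linear_combination -h4
    obtain ⟨a, b, hab⟩ := Submodule.mem_span_pair.1 hmem
    refine ⟨a, b, ?_⟩
    rw [add_assoc, hab]; abel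
  -- `μ² = 1`
  have hμμ : μ * μ = 1 := by
    obtain ⟨a, b, hab⟩ := hmod x₀ (by rw [B_comm, hx₀u])
    obtain ⟨a', b', hab'⟩ := hmod y₀ (by rw [B_comm, hy₀u])
    have h1 := B_sv s x₀ y₀
    rw [hab, hab'] at h1
    simp only [B_add_left, B_add_right, B_smul_left, B_smul_right, huu, hvv, huv, hvu,
      hx₀u, hx₀v, hy₀u, hy₀v, B_comm Q x₀ u, B_comm Q x₀ v, B_comm Q y₀ u, B_comm Q y₀ v] at h1
    have h2 : (μ * μ - 1) * B x₀ y₀ = 0 := by linear_combination h1
    have := (mul_eq_zero.1 h2).resolve_right hxy₀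
    linear_combination this
  refine ⟨μ, hμμ, hsu, hmod, ?_⟩
  -- `s v = μ v + c u`
  obtain ⟨a, b, hab⟩ := hmod v hvu
  obtain ⟨t, htv, htu⟩ := exists_dual_pair Q hQ (u := v) (v := u) (by
    rw [LinearIndependent.pair_iff] at hli ⊢
    intro c d hcd
    have := hli d c (by rw [← hcd]; abel)
    exact ⟨this.2, this.1⟩)
  obtain ⟨a', b', hab'⟩ := hmod t (by rw [B_comm, htu])
  have h1 := B_sv s v t
  rw [hab, hab'] at h1
  simp only [B_add_left, B_add_right, B_smul_left, B_smul_right, huu, hvv, huv, hvu, htv, htu] at h1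
  have hb : b = 0 := by
    have h2 : b * μ = 0 := by linear_combination h1 - hμμ
    exact (mul_eq_zero.1 h2).resolve_right hμ0
  refine ⟨a, ?_⟩
  rw [hab, hb, zero_smul, add_zero]

/-- an involution with the structure of `centralizer_family` is a scalar -/
theorem scalar_of_invol (h2 : (2 : F) ≠ 0) {u v : ι → F} (h : TSPair Q u v) {t : ↥(Cfsg.Omega F ⇑Q)}
    (ht : t * t = 1) {μ : F} (hμμ : μ * μ = 1) (htu : sv t u = μ • u)
    (hmod : ∀ x, B x u = 0 → ∃ a b : F, sv t x = μ • x + a • u + b • v)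
    (htv : ∃ c : F, sv t v = μ • v + c • u) : ∀ x, sv t x = μ • x := by
  obtain ⟨hu, hv, huv, hli⟩ := h
  have hu0 : u ≠ 0 := hli.ne_zero 0
  have hμ0 : μ ≠ 0 := by
    rintro rfl
    rw [mul_zero] at hμμ
    exact zero_ne_one hμμ
  have htt : ∀ x, sv t (sv t x) = x := by
    intro x
    rw [← sv_mul, ht, sv_one]
  obtain ⟨c, hc⟩ := htv
  have h1 : ∀ x, B x u = 0 → sv t x = μ • x := by
    intro x hx
    obtain ⟨a, b, hab⟩ := hmod x hx
    have h3 := htt x
    rw [hab, sv_add, sv_add, sv_smul, sv_smul, sv_smul, hab, htu, hc] at h3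
    have h4 : (2 * μ * a + b * c) • u + (2 * μ * b) • v = 0 := by
      have h5 : μ • (μ • x + a • u + b • v) + a • μ • u + b • (μ • v + c • u) - (μ * μ) • x = 0 := by
        rw [h3, hμμ, one_smul, sub_self]
      rw [← h5]
      module
    rw [LinearIndependent.pair_iff] at hli
    obtain ⟨h5, h6⟩ := hli _ _ h4
    have hb : b = 0 := by
      rcases mul_eq_zero.1 h6 with h7 | h7
      · rcases mul_eq_zero.1 h7 with h8 | h8
        · exact absurd h8 h2
        · exact absurd h8 hμ0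
      · exact h7
    have ha : a = 0 := by
      rw [hb, zero_mul, add_zero] at h5
      rcases mul_eq_zero.1 h5 with h7 | h7
      · rcases mul_eq_zero.1 h7 with h8 | h8
        · exact absurd h8 h2
        · exact absurd h8 hμ0
      · exact h7
    rw [hab, ha, hb, zero_smul, zero_smul, add_zero, add_zero]
  intro x
  have hmem : sv t x - μ • x ∈ Submodule.span F {u} := by
    apply mem_span_singleton_of_perp hQ
    intro z hz
    have hz' : B z u = 0 := by rw [B_comm, hz]
    have h3 := B_sv t x z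
    rw [h1 z hz', B_smul_right] at h3
    rw [B_sub_left, B_smul_left]
    linear_combination μ * h3 + (-B (sv t x) z) * hμμ
  obtain ⟨d, hd⟩ := Submodule.mem_span_singleton.1 hmem
  have e : sv t x = μ • x + d • u := by rw [hd]; abel
  have h3 := htt x
  rw [e, sv_add, sv_smul, sv_smul, e, htu] at h3
  have h4 : (2 * μ * d) • u = 0 := by
    have h5 : μ • (μ • x + d • u) + d • μ • u - (μ * μ) • x = 0 := by
      rw [h3, hμμ, one_smul, sub_self]
    rw [← h5]
    module
  have hd0 : d = 0 := by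
    rcases mul_eq_zero.1 ((smul_eq_zero.1 h4).resolve_right hu0) with h7 | h7
    · rcases mul_eq_zero.1 h7 with h8 | h8
      · exact absurd h8 h2
      · exact absurd h8 hμ0
    · exact h7
  rw [e, hd0, zero_smul, add_zero]

omit hQ hn in
theorem sv_pow_smul {s : ↥(Cfsg.Omega F ⇑Q)} {μ : F} {u : ι → F} (h : sv s u = μ • u) (k : ℕ) :
    sv (s ^ k) u = μ ^ k • u := by
  induction k with
  | zero => rw [pow_zero, pow_zero, sv_one, one_smul]
  | succ k ih => rw [pow_succ, sv_mul, h, sv_smul, ih, smul_smul, pow_succ, mul_comm]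

/-- **the centraliser of the family `ρ_{u,y}`, `y ⊥ u, v`, lies in `Z(Ω) · R_{u,v}`** -/
theorem centralizer_family_le [Fintype F] (p : ℕ) [Fact p.Prime] [CharP F p] {u v : ι → F} (h : TSPair Q u v)
    {s : ↥(Cfsg.Omega F ⇑Q)}
    (hs : ∀ y, B u y = 0 → B v y = 0 → s * rhoΩ Q u y = rhoΩ Q u y * s) :
    s ∈ Subgroup.center ↥(Cfsg.Omega F ⇑Q) ⊔ Rg Q u v := by
  obtain ⟨μ, hμμ, hsu, hmod, c, hc⟩ := centralizer_family Q hQ hn h hs
  have hu0 : u ≠ 0 := h.ne_zero_left
  by_cases hμ1 : μ = 1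
  · apply Subgroup.mem_sup_right
    subst hμ1
    refine ⟨by rw [hsu, one_smul], ⟨c, by rw [hc, one_smul]⟩, fun z hzu hzv => ?_⟩
    obtain ⟨a, b, hab⟩ := hmod z hzu
    exact ⟨a, b, by rw [hab, one_smul]⟩
  · have hμm : μ = -1 := by
      have h0 : (μ - 1) * (μ + 1) = 0 := by linear_combination hμμ
      rcases mul_eq_zero.1 h0 with h1 | h1
      · exact absurd (by linear_combination h1) hμ1
      · linear_combination h1
    have h2 : (2 : F) ≠ 0 := by
      intro h20
      apply hμ1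
      rw [hμm]
      linear_combination -h20
    have hp2 : p ≠ 2 := by
      rintro rfl
      apply h2
      have := CharP.cast_eq_zero F 2
      exact_mod_cast this
    have hpodd : Odd p := (Fact.out : p.Prime).odd_of_ne_two hp2
    have hss : s * s ∈ Rg Q u v := by
      refine ⟨?_, ⟨2 * μ * c, ?_⟩, fun z hzu hzv => ?_⟩
      · rw [sv_mul, hsu, sv_smul, hsu, smul_smul, hμμ, one_smul]
      · rw [sv_mul, hc, sv_add, sv_smul, sv_smul, hc, hsu]
        have e : μ • (μ • v + c • u) + c • μ • u = (μ * μ) • v + (2 * μ * c) • u := by module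
        rw [e, hμμ, one_smul]
      · obtain ⟨a, b, hab⟩ := hmod z hzu
        refine ⟨2 * μ * a + b * c, 2 * μ * b, ?_⟩
        rw [sv_mul, hab, sv_add, sv_add, sv_smul, sv_smul, sv_smul, hab, hsu, hc]
        have e : μ • (μ • z + a • u + b • v) + a • μ • u + b • (μ • v + c • u) =
            (μ * μ) • z + (2 * μ * a + b * c) • u + (2 * μ * b) • v := by module
        rw [e, hμμ, one_smul]
    obtain ⟨k, hk⟩ := isPGroup_Rg (Q := Q) p (by omega) u v ⟨s * s, hss⟩
    have hk' : (s * s) ^ (p ^ k) = 1 := by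
      have := congrArg Subtype.val hk
      simpa using this
    set t := s ^ (p ^ k) with ht
    have htt : t * t = 1 := by
      rw [ht, ← (Commute.refl s).mul_pow, hk']
    have hts : ∀ y, B u y = 0 → B v y = 0 → t * rhoΩ Q u y = rhoΩ Q u y * t := by
      intro y hy1 hy2
      have h1 : Commute s (rhoΩ Q u y) := hs y hy1 hy2
      exact (h1.pow_left (p ^ k)).eq
    obtain ⟨μ', hμμ', htu, hmod', htv'⟩ := centralizer_family Q hQ hn h hts
    have hsc := scalar_of_invol Q hQ hn h2 h htt hμμ' htu hmod' htv'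
    have htc : t ∈ Subgroup.center ↥(Cfsg.Omega F ⇑Q) := mem_center_of_scalar Q hsc
    have hμ' : μ' = μ := by
      have h1 := sv_pow_smul Q hsu (p ^ k)
      rw [← ht, htu, hμm, (hpodd.pow).neg_one_pow] at h1
      have h3 : (μ' - -1) • u = 0 := by rw [sub_smul, h1, sub_self]
      have := (smul_eq_zero.1 h3).resolve_right hu0
      rw [hμm]
      linear_combination this
    have hts' : t * s ∈ Rg Q u v := by
      refine ⟨?_, ⟨μ' * c, ?_⟩, fun z hzu hzv => ?_⟩
      · rw [sv_mul, hsc, hsu, smul_smul, hμ', hμμ, one_smul]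
      · rw [sv_mul, hsc, hc, hμ']
        have e : μ • (μ • v + c • u) = (μ * μ) • v + (μ * c) • u := by module
        rw [e, hμμ, one_smul]
      · obtain ⟨a, b, hab⟩ := hmod z hzu
        refine ⟨μ' * a, μ' * b, ?_⟩
        rw [sv_mul, hsc, hab, hμ']
        have e : μ • (μ • z + a • u + b • v) = (μ * μ) • z + (μ * a) • u + (μ * b) • v := by module
        rw [e, hμμ, one_smul]
    have e : s = t⁻¹ * (t * s) := by group
    rw [e]
    exact Subgroup.mul_mem_sup (Subgroup.inv_mem _ htc) hts'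

end Cfsg.Agent.Lib.H13.PAutPO
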