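import Mathlib
import Cfsg.Agent.Lib.H13.PAutPO1

/-!
S4613 (architect helper19), orthogonal groups, coordinate free (helper13), part 2: the line radical `QL u v`, existence lemmas, generation of
`Ω(Q)` by the groups `Q_x` (from simplicity and perfectness), and the rigidity theorem `sylRigid_POmega_gen` for a general non-degenerate
quadratic form of dimension at least `7` with simple `PΩ(Q)`.
-/

set_option autoImplicit false
set_option linter.unusedSectionVars false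
set_option linter.unusedVariables false

namespace Cfsg.Agent.Lib.H13.PAutPO

open Matrix QuadraticMap Module
open scoped commutatorElement
open Cfsg.Agent.Lib.H13.AutPO Cfsg.Agent.Lib.H19.SR

variable {F : Type*} [Field F] {ι : Type} [Fintype ι] [DecidableEq ι]
variable (Q : QuadraticForm F (ι → F))

set_option quotPrecheck false in
local notation "B" => QuadraticMap.polar (⇑Q)

/-- the fixer of a vector -/
def Fx (x : ι → F) : Subgroup ↥(Cfsg.Omega F ⇑Q) where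
  carrier := {s | sv s x = x}
  one_mem' := sv_one x
  mul_mem' := by
    intro s t hs ht
    show sv (s * t) x = x
    rw [sv_mul, ht, hs]
  inv_mem' := by
    intro s hs
    show sv s⁻¹ x = x
    conv_lhs => rw [← hs]
    rw [sv_inv_sv]

/-- the unipotent radical of the stabiliser of the line `⟨u,v⟩` -/
def QL (u v : ι → F) : Subgroup ↥(Cfsg.Omega F ⇑Q) := Rg Q v u ⊓ Fx Q u

variable {Q}

theorem mem_Fx {x : ι → F} {s : ↥(Cfsg.Omega F ⇑Q)} : s ∈ Fx Q x ↔ sv s x = x := Iff.rfl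

theorem QL_le_Rg (u v : ι → F) : QL Q u v ≤ Rg Q u v := by
  intro s hs
  rw [QL, Subgroup.mem_inf] at hs
  obtain ⟨⟨hsv, ⟨c, hc⟩, hs'⟩, hsu⟩ := hs
  rw [mem_Fx] at hsu
  refine ⟨hsu, ⟨0, by rw [hsv, zero_smul, add_zero]⟩, fun z hzu hzv => ?_⟩
  obtain ⟨a, b, hab⟩ := hs' z hzv hzu
  exact ⟨b, a, by rw [hab]; abel⟩

/-- elements stabilising the flag `⟨v⟩ ⊂ ⟨u,v⟩` normalise `QL u v` -/
theorem conj_mem_QL {u v : ι → F} {g : ↥(Cfsg.Omega F ⇑Q)} (hgv : sv g v = v)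
    (hgu : ∃ c : F, sv g u = u + c • v) {s : ↥(Cfsg.Omega F ⇑Q)} (hs : s ∈ QL Q u v) :
    g * s * g⁻¹ ∈ QL Q u v := by
  rw [QL, Subgroup.mem_inf] at hs ⊢
  obtain ⟨hs1, hs2⟩ := hs
  refine ⟨conj_mem_Rg hgv hgu hs1, ?_⟩
  rw [mem_Fx] at hs2 ⊢
  obtain ⟨c, hc⟩ := hgu
  have hg1 : sv g⁻¹ v = v := by
    conv_lhs => rw [← hgv]
    rw [sv_inv_sv]
  have hg2 : sv g⁻¹ u = u - c • v := by
    have := congrArg (sv g⁻¹) hc
    rw [sv_inv_sv, sv_add, sv_smul, hg1] at this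
    rw [eq_sub_of_add_eq this.symm]
  rw [sv_mul, sv_mul, hg2, sv_sub, sv_smul, hs2, hs1.1, sv_sub, sv_smul, hgv, hc]
  abel

theorem mem_normalizer_QL {u v : ι → F} {g : ↥(Cfsg.Omega F ⇑Q)} (hgv : sv g v = v)
    (hgu : ∃ c : F, sv g u = u + c • v) : g ∈ Subgroup.normalizer ((QL Q u v : Subgroup _) : Set _) := by
  obtain ⟨c, hc⟩ := hgu
  have hg1 : sv g⁻¹ v = v := by
    conv_lhs => rw [← hgv]
    rw [sv_inv_sv]
  have hg2 : sv g⁻¹ u = u + (-c) • v := by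
    have := congrArg (sv g⁻¹) hc
    rw [sv_inv_sv, sv_add, sv_smul, hg1] at this
    rw [eq_sub_of_add_eq this.symm]; module
  rw [Subgroup.mem_normalizer_iff]
  intro s
  constructor
  · intro hs
    exact conj_mem_QL hgv ⟨c, hc⟩ hs
  · intro hs
    have := conj_mem_QL hg1 ⟨-c, hg2⟩ hs
    rw [inv_inv] at this
    have e : g⁻¹ * (g * s * g⁻¹) * g = s := by group
    rwa [e] at this

/-- elements fixing `u` normalise `Q_u` -/
theorem mem_normalizer_Qg {u : ι → F} {g : ↥(Cfsg.Omega F ⇑Q)} (hgu : sv g u = u) :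
    g ∈ Subgroup.normalizer ((Qg Q u : Subgroup _) : Set _) := by
  have hg1 : sv g⁻¹ u = u := by
    conv_lhs => rw [← hgu]
    rw [sv_inv_sv]
  rw [Subgroup.mem_normalizer_iff]
  intro s
  constructor
  · intro hs
    have := conj_mem_Qg (t := g) hs
    rwa [hgu] at this
  · intro hs
    have := conj_mem_Qg (t := g⁻¹) hs
    rw [hg1, inv_inv] at this
    have e : g⁻¹ * (g * s * g⁻¹) * g = s := by group
    rwa [e] at this

variable (Q)
variable (hQ : (polarBilin Q).Nondegenerate) (hn : 5 ≤ Fintype.card ι)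
variable [Fintype F]
include hQ hn

theorem rho_mem_QL {u v y : ι → F} (h : TSPair Q u v) (hy1 : B u y = 0) (hy2 : B v y = 0) :
    rhoΩ Q u y ∈ QL Q u v := by
  rw [QL, Subgroup.mem_inf]
  refine ⟨rhoΩ_mem_Rg Q hQ hn h.symm hy2 hy1, ?_⟩
  rw [mem_Fx, sv_rhoΩ Q hQ hn h.1 hy1, B_self, h.1, hy1]
  module

theorem centralizer_Qg_le (p : ℕ) [Fact p.Prime] [CharP F p] {u v : ι → F} (h : TSPair Q u v) :
    Subgroup.centralizer ((Qg Q u : Subgroup _) : Set _) ≤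
      Subgroup.center ↥(Cfsg.Omega F ⇑Q) ⊔ Rg Q u v := by
  intro s hs
  rw [Subgroup.mem_centralizer_iff] at hs
  apply centralizer_family_le Q hQ hn p h
  intro y hy1 hy2
  exact (hs _ (rhoΩ_mem_Qg Q hQ hn h.1 hy1)).symm

theorem centralizer_QL_le (p : ℕ) [Fact p.Prime] [CharP F p] {u v : ι → F} (h : TSPair Q u v) :
    Subgroup.centralizer ((QL Q u v : Subgroup _) : Set _) ≤
      Subgroup.center ↥(Cfsg.Omega F ⇑Q) ⊔ Rg Q u v := by
  intro s hs
  rw [Subgroup.mem_centralizer_iff] at hs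
  apply centralizer_family_le Q hQ hn p h
  intro y hy1 hy2
  exact (hs _ (rho_mem_QL Q hQ hn h hy1 hy2)).symm

/-- a non-singular vector perpendicular to two given vectors -/
theorem exists_perp_pair_nonsingular (u x : ι → F) : ∃ y, B u y = 0 ∧ B x y = 0 ∧ Q y ≠ 0 := by
  obtain ⟨y₁, h1u, h1x, hy₁⟩ := exists_perp_pair_not_mem Q hQ hn u x
  by_cases hq1 : Q y₁ = 0
  swap
  · exact ⟨y₁, h1u, h1x, hq1⟩
  obtain ⟨y₂, h2u, h2x, h12⟩ : ∃ y₂, B u y₂ = 0 ∧ B x y₂ = 0 ∧ B y₁ y₂ ≠ 0 := by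
    by_contra hcon
    push Not at hcon
    exact hy₁ (mem_span_pair_of_perp hQ (fun t htu htx => hcon t htu htx))
  by_cases hq2 : Q y₂ = 0
  swap
  · exact ⟨y₂, h2u, h2x, hq2⟩
  refine ⟨y₁ + y₂, by rw [B_add_right, h1u, h2u, add_zero], by rw [B_add_right, h1x, h2x, add_zero], ?_⟩
  rw [Q_add, hq1, hq2, zero_add, zero_add]
  exact h12

/-- a singular partner of `v` inside `u^⊥` -/
theorem exists_partner_perp {u v : ι → F} (h : TSPair Q u v) :
    ∃ x, Q x = 0 ∧ B u x = 0 ∧ B v x = 1 := by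
  obtain ⟨hu, hv, huv, hli⟩ := h
  have hvu : B v u = 0 := by rw [B_comm, huv]
  have hvv : B v v = 0 := by rw [B_self, hv, mul_zero]
  obtain ⟨f₀, hf₀, hvf₀⟩ := exists_hyperbolic_pair Q hQ v (hli.ne_zero 1) hv
  obtain ⟨t, htu, htv⟩ := exists_dual_pair Q hQ hli
  have ht'v : B v (B u f₀ • t) = 0 := by rw [B_smul_right, htv, mul_zero]
  have ht'u : B u (B u f₀ • t) = B u f₀ := by rw [B_smul_right, htu, mul_one]
  have hf₀v : B f₀ v = 1 := by rw [B_comm, hvf₀]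
  refine ⟨sv (rhoΩ Q v (B u f₀ • t)) f₀, by rw [Q_sv, hf₀], ?_, ?_⟩
  · rw [sv_rhoΩ Q hQ hn hv ht'v]
    simp only [B_sub_right, B_add_right, B_smul_right, huv, htu, hf₀v]
    ring
  · rw [sv_rhoΩ Q hQ hn hv ht'v]
    simp only [B_sub_right, B_add_right, B_smul_right, hvv, htv, hvf₀]
    ring

/-- `Ω(Q)` is generated by the groups `Q_x` (`PΩ(Q)` simple, `n ≥ 7`) -/
theorem eq_top_of_Qg_le (hc7 : 7 ≤ Fintype.card ι) (hsimp : IsSimpleGroup (Cfsg.POmega F ⇑Q))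
    {Γ : Subgroup ↥(Cfsg.Omega F ⇑Q)} (hΓ : ∀ x, x ≠ 0 → Q x = 0 → Qg Q x ≤ Γ) : Γ = ⊤ := by
  set S : Set ↥(Cfsg.Omega F ⇑Q) := {s | ∃ x, x ≠ 0 ∧ Q x = 0 ∧ s ∈ Qg Q x} with hS
  have hSΓ : S ⊆ Γ := by
    rintro s ⟨x, hx0, hx, hs⟩
    exact hΓ x hx0 hx hs
  have hconj : Group.conjugatesOfSet S ⊆ S := by
    intro s hs
    rw [Group.mem_conjugatesOfSet_iff] at hs
    obtain ⟨a, ⟨x, hx0, hx, ha⟩, hc⟩ := hs
    rw [isConj_iff] at hc
    obtain ⟨c, rfl⟩ := hc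
    exact ⟨sv c x, fun h0 => hx0 ((sv_eq_zero_iff c).1 h0), by rw [Q_sv, hx], conj_mem_Qg ha⟩
  set N := Subgroup.normalClosure S with hN
  have hNΓ : N ≤ Γ := by
    rw [hN, Subgroup.normalClosure]
    exact (Subgroup.closure_le _).2 (hconj.trans hSΓ)
  have hNn : N.Normal := Subgroup.normalClosure_normal
  have hNtop : N = ⊤ := by
    have hMn : (N.map (pr Q)).Normal := Subgroup.Normal.map hNn _ (pr_surjective Q)
    rcases hMn.eq_bot_or_eq_top with hbot | htop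
    · exfalso
      obtain ⟨u, hu0, hu⟩ := exists_singular Q hn
      obtain ⟨y, huy, hy⟩ := exists_perp_not_mem Q hQ hn u
      have h1 : rhoΩ Q u y ∈ N :=
        Subgroup.subset_normalClosure ⟨u, hu0, hu, rhoΩ_mem_Qg Q hQ hn hu huy⟩
      have h2 : pr Q (rhoΩ Q u y) = 1 := by
        have : pr Q (rhoΩ Q u y) ∈ N.map (pr Q) := Subgroup.mem_map_of_mem _ h1
        rw [hbot] at this
        exact Subgroup.mem_bot.1 this
      rw [pr_eq_one_iff] at h2
      obtain ⟨μ, -, hμ⟩ := scalar_of_mem_center Q hQ hn h2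
      have h3 := hμ u
      rw [(rhoΩ_mem_Qg Q hQ hn hu huy).1] at h3
      have hμ1 : μ = 1 := by
        have h4 : (μ - 1) • u = 0 := by rw [sub_smul, one_smul, ← h3, sub_self]
        have := (smul_eq_zero.1 h4).resolve_right hu0
        linear_combination this
      have h5 : rhoΩ Q u y = 1 := by
        apply ext_sv
        intro x
        rw [hμ, hμ1, one_smul, sv_one]
      exact hy ((rhoΩ_eq_one_iff Q hQ hn hu0 hu huy).1 h5)
    · have hcomm : commutator ↥(Cfsg.Omega F ⇑Q) ≤ N := by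
        rw [commutator_def, Subgroup.commutator_le]
        intro a _ b _
        have ha : pr Q a ∈ N.map (pr Q) := by rw [htop]; trivial
        obtain ⟨n₁, hn₁, hna⟩ := Subgroup.mem_map.1 ha
        have hz : n₁⁻¹ * a ∈ Subgroup.center ↥(Cfsg.Omega F ⇑Q) := (pr_eq_pr_iff Q).1 hna
        obtain ⟨z, hzdef⟩ : ∃ z, z = n₁⁻¹ * a := ⟨_, rfl⟩
        rw [← hzdef] at hz
        have ha' : a = n₁ * z := by rw [hzdef]; group
        have hzb : b * z = z * b := Subgroup.mem_center_iff.1 hz b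
        have e : ⁅a, b⁆ = n₁ * (b * n₁⁻¹ * b⁻¹) := by
          rw [commutatorElement_def, ha']
          calc n₁ * z * b * (n₁ * z)⁻¹ * b⁻¹ = n₁ * (z * b) * z⁻¹ * n₁⁻¹ * b⁻¹ := by group
            _ = n₁ * (b * z) * z⁻¹ * n₁⁻¹ * b⁻¹ := by rw [hzb]
            _ = n₁ * (b * n₁⁻¹ * b⁻¹) := by group
        rw [e]
        exact N.mul_mem hn₁ (hNn.conj_mem _ (N.inv_mem hn₁) b)
      rw [perfect_all Q hQ hc7] at hcomm
      exact top_le_iff.1 hcomm
  rw [hNtop] at hNΓ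
  exact top_le_iff.1 hNΓ

/-- **S4613 for orthogonal groups, generic form**: `PΩ(Q)` (`Q` non-degenerate of dimension at least `7` over a finite field of
characteristic `p`, `PΩ(Q)` simple) is Sylow-`p`-rigid -/
theorem sylRigid_POmega_gen (hc7 : 7 ≤ Fintype.card ι) (p : ℕ) [Fact p.Prime] [CharP F p]
    (hsimp : IsSimpleGroup (Cfsg.POmega F ⇑Q)) : SylRigid p (Cfsg.POmega F ⇑Q) := by
  obtain ⟨P⟩ : Nonempty (Sylow p ↥(Cfsg.Omega F ⇑Q)) := inferInstance
  obtain ⟨u, v, h, -, -, -, -⟩ := sylow_center Q hQ hn p P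
  obtain ⟨hu, hv, huv, hli⟩ := id h
  have hvu : B v u = 0 := by rw [B_comm, huv]
  have huu : B u u = 0 := by rw [B_self, hu, mul_zero]
  have hvv : B v v = 0 := by rw [B_self, hv, mul_zero]
  apply sylRigid_center_quot_of_gen p
    (fun z hz hzp => eq_one_of_center_of_pow Q hQ hn p hz (k := 1) (by rwa [pow_one]))
    (Rg Q u v) (isPGroup_Rg p (by omega) u v) {Qg Q u, QL Q u v}
  · intro Q' hQ'
    rcases hQ' with rfl | rfl
    · exact ⟨Qg_le_Rg huv, centralizer_Qg_le Q hQ hn p h⟩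
    · exact ⟨QL_le_Rg u v, centralizer_QL_le Q hQ hn p h⟩
  · obtain ⟨Γ, hΓ⟩ : ∃ Γ, Γ = Subgroup.closure (⋃ Q' ∈ ({Qg Q u, QL Q u v} : Set (Subgroup ↥(Cfsg.Omega F ⇑Q))),
        (Subgroup.normalizer ((Q' : Subgroup ↥(Cfsg.Omega F ⇑Q)) : Set ↥(Cfsg.Omega F ⇑Q)) :
          Set ↥(Cfsg.Omega F ⇑Q))) := ⟨_, rfl⟩
    rw [← hΓ]
    have hN1 : Subgroup.normalizer ((Qg Q u : Subgroup _) : Set _) ≤ Γ := by
      intro g hg
      rw [hΓ]
      apply Subgroup.subset_closure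
      simp only [Set.mem_iUnion]
      exact ⟨Qg Q u, by simp, hg⟩
    have hN2 : Subgroup.normalizer ((QL Q u v : Subgroup _) : Set _) ≤ Γ := by
      intro g hg
      rw [hΓ]
      apply Subgroup.subset_closure
      simp only [Set.mem_iUnion]
      exact ⟨QL Q u v, by simp, hg⟩
    apply eq_top_of_Qg_le Q hQ hn hc7 hsimp
    have hΓu : Qg Q u ≤ Γ := Subgroup.le_normalizer.trans hN1
    obtain ⟨y, huy, hvy⟩ := exists_dual_pair Q hQ hli
    have hgv : sv (rhoΩ Q v y) v = v := (rhoΩ_mem_Qg Q hQ hn hv hvy).1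
    have hgu : sv (rhoΩ Q v y) u = u + (1 : F) • v := by
      rw [sv_rhoΩ Q hQ hn hv hvy, huy, huv]
      module
    have hgΓ : rhoΩ Q v y ∈ Γ := hN2 (mem_normalizer_QL hgv ⟨1, hgu⟩)
    obtain ⟨x, hxdef⟩ : ∃ x, x = u + v := ⟨_, rfl⟩
    have hΓx : Qg Q x ≤ Γ := by
      have := Qg_le_of_conj Q hQ hn hgΓ hΓu
      rwa [hgu, one_smul, ← hxdef] at this
    obtain ⟨x', hx', hux', hvx'⟩ := exists_partner_perp Q hQ hn h
    obtain ⟨y', huy', hx'y', hQy'⟩ := exists_perp_pair_nonsingular Q hQ hn u x'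
    have hhu : sv (rhoΩ Q x' y') u = u := by
      rw [sv_rhoΩ Q hQ hn hx' hx'y', huy', hux']
      module
    have hhΓ : rhoΩ Q x' y' ∈ Γ := hN1 (mem_normalizer_Qg hhu)
    have hΓw : Qg Q (sv (rhoΩ Q x' y') x) ≤ Γ := Qg_le_of_conj Q hQ hn hhΓ hΓx
    have hQx : Q x = 0 := by rw [hxdef, Q_add, hu, hv, huv]; ring
    have hxx : B x x = 0 := by rw [B_self, hQx, mul_zero]
    have hxx' : B x x' = 1 := by rw [hxdef, B_add_left, hux', hvx', zero_add]
    obtain ⟨w, hwdef⟩ : ∃ w, w = sv (rhoΩ Q x' y') x := ⟨_, rfl⟩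
    rw [← hwdef] at hΓw
    have hQw : Q w = 0 := by rw [hwdef, Q_sv, hQx]
    have hxw : B x w = -Q y' := by
      rw [hwdef, sv_rhoΩ Q hQ hn hx' hx'y']
      simp only [B_sub_right, B_add_right, B_smul_right, hxx, hxx']
      ring
    have hc : B x w ≠ 0 := by rw [hxw]; exact neg_ne_zero.2 hQy'
    have hQf : Q ((B x w)⁻¹ • w) = 0 := by rw [Q_smul, hQw, mul_zero]
    have hxf : B x ((B x w)⁻¹ • w) = 1 := by rw [B_smul_right, inv_mul_cancel₀ hc]
    have hΓf : Qg Q ((B x w)⁻¹ • w) ≤ Γ := by rw [Qg_smul (inv_ne_zero hc)]; exact hΓw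
    intro z hz0 hz
    exact Qg_le_of_pair Q hQ hn hQx hQf hxf hΓx hΓf hz0 hz

end Cfsg.Agent.Lib.H13.PAutPO
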