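import Mathlib
import Cfsg.Agent.Lib.H13.AutPSLSylow
import Cfsg.Agent.Lib.H13.PAutGen

/-!
# S4613, family `PSL_n`: the row and column radicals inside the unitriangular group

`Qrow = {1 + e₀ φᵀ : φ₀ = 0}` and `Qcol = {1 + v e_lᵀ : v_l = 0}` (`l` the last index) are subgroups of `UT`; they are
normalised by the stabilisers of the line `⟨e₀⟩`, resp. of the hyperplane `e_l = 0`, and they are self-centralising
modulo scalars.
-/

set_option autoImplicit false
set_option linter.unusedSectionVars false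
set_option linter.unusedVariables false
set_option linter.unusedSimpArgs false

namespace Cfsg.Agent.Lib.H13.PAut

open Matrix Cfsg.Agent.Lib.H13.AutPSL

variable {n : ℕ} {F : Type*} [Field F]

theorem sl_ext {a b : SpecialLinearGroup (Fin n) F}
    (h : (a : Matrix (Fin n) (Fin n) F) = (b : Matrix (Fin n) (Fin n) F)) : a = b := Subtype.ext h

theorem tm_smul_left (c : F) (v φ : Fin n → F) : tm (c • v) φ = tm v (c • φ) := by
  unfold tm
  rw [smul_vecMulVec, vecMulVec_smul]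

theorem dot_single_one (φ : Fin n → F) (i : Fin n) : φ ⬝ᵥ Pi.single i 1 = φ i := by
  rw [dotProduct_single, mul_one]

theorem single_one_dot (v : Fin n → F) (i : Fin n) : Pi.single i 1 ⬝ᵥ v = v i := by
  rw [single_dotProduct, one_mul]

theorem tv_mul_right (v φ ψ : Fin n → F) (hφ : φ ⬝ᵥ v = 0) (hψ : ψ ⬝ᵥ v = 0) :
    tv v φ hφ * tv v ψ hψ = tv v (φ + ψ) (by rw [add_dotProduct, hφ, hψ, add_zero]) := by
  apply sl_ext
  rw [Matrix.SpecialLinearGroup.coe_mul, tv_coe, tv_coe, tv_coe, tm_mul_right _ _ _ hφ]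

theorem tv_mul_left (v w φ : Fin n → F) (hv : φ ⬝ᵥ v = 0) (hw : φ ⬝ᵥ w = 0) :
    tv v φ hv * tv w φ hw = tv (v + w) φ (by rw [dotProduct_add, hv, hw, add_zero]) := by
  apply sl_ext
  rw [Matrix.SpecialLinearGroup.coe_mul, tv_coe, tv_coe, tv_coe, tm_mul_left _ _ _ hw]

theorem tv_zero_right (v : Fin n → F) : tv v (0 : Fin n → F) (by simp) = 1 := by
  apply sl_ext
  rw [tv_coe, tm_zero_right]; rfl

theorem tv_zero_left (φ : Fin n → F) : tv (0 : Fin n → F) φ (by simp) = 1 := by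
  apply sl_ext
  rw [tv_coe, tm_zero_left]; rfl

theorem tv_congr {v v' φ φ' : Fin n → F} (hv : v = v') (hφ : φ = φ') (h : φ ⬝ᵥ v = 0) :
    tv v φ h = tv v' φ' (by rw [← hv, ← hφ]; exact h) := by
  subst hv hφ; rfl

theorem tv_inv_right (v φ : Fin n → F) (hφ : φ ⬝ᵥ v = 0) :
    (tv v φ hφ)⁻¹ = tv v (-φ) (by rw [neg_dotProduct, hφ, neg_zero]) := by
  apply inv_eq_of_mul_eq_one_right
  rw [tv_mul_right, tv_congr rfl (add_neg_cancel φ), tv_zero_right]

theorem tv_inv_left (v φ : Fin n → F) (hv : φ ⬝ᵥ v = 0) :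
    (tv v φ hv)⁻¹ = tv (-v) φ (by rw [dotProduct_neg, hv, neg_zero]) := by
  apply inv_eq_of_mul_eq_one_right
  rw [tv_mul_left, tv_congr (add_neg_cancel v) rfl, tv_zero_left]

/-- the row radical -/
def Qrow (hn : 2 ≤ n) : Subgroup (SpecialLinearGroup (Fin n) F) where
  carrier := {s | ∃ φ : Fin n → F, ∃ h : φ ⬝ᵥ Pi.single (i0 hn) 1 = 0, s = tv (Pi.single (i0 hn) 1) φ h}
  mul_mem' := by
    rintro _ _ ⟨φ, hφ, rfl⟩ ⟨ψ, hψ, rfl⟩
    exact ⟨φ + ψ, by rw [add_dotProduct, hφ, hψ, add_zero], tv_mul_right _ _ _ hφ hψ⟩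
  one_mem' := ⟨0, by simp, (tv_zero_right _).symm⟩
  inv_mem' := by
    rintro _ ⟨φ, hφ, rfl⟩
    exact ⟨-φ, by rw [neg_dotProduct, hφ, neg_zero], tv_inv_right _ _ hφ⟩

/-- the column radical -/
def Qcol (hn : 2 ≤ n) : Subgroup (SpecialLinearGroup (Fin n) F) where
  carrier := {s | ∃ v : Fin n → F, ∃ h : Pi.single (il hn) 1 ⬝ᵥ v = 0, s = tv v (Pi.single (il hn) 1) h}
  mul_mem' := by
    rintro _ _ ⟨v, hv, rfl⟩ ⟨w, hw, rfl⟩
    exact ⟨v + w, by rw [dotProduct_add, hv, hw, add_zero], tv_mul_left _ _ _ hv hw⟩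
  one_mem' := ⟨0, by simp, (tv_zero_left _).symm⟩
  inv_mem' := by
    rintro _ ⟨v, hv, rfl⟩
    exact ⟨-v, by rw [dotProduct_neg, hv, neg_zero], tv_inv_left _ _ hv⟩

theorem isUT_row (hn : 2 ≤ n) (φ : Fin n → F) (h : φ ⬝ᵥ Pi.single (i0 hn) 1 = 0) :
    IsUT (tm (Pi.single (i0 hn) 1) φ) := by
  rw [dot_single_one] at h
  constructor
  · intro i j hji
    unfold tm
    rw [Matrix.add_apply, Matrix.one_apply_ne (ne_of_gt hji), vecMulVec_apply, zero_add]
    have hi : i ≠ i0 hn := by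
      intro hi
      rw [hi, Fin.lt_def] at hji
      simp [i0] at hji
    rw [Pi.single_apply, if_neg hi, zero_mul]
  · intro i
    unfold tm
    rw [Matrix.add_apply, Matrix.one_apply_eq, vecMulVec_apply, Pi.single_apply]
    by_cases hi : i = i0 hn
    · rw [if_pos hi, hi, h, mul_zero, add_zero]
    · rw [if_neg hi, zero_mul, add_zero]

theorem isUT_col (hn : 2 ≤ n) (v : Fin n → F) (h : Pi.single (il hn) 1 ⬝ᵥ v = 0) :
    IsUT (tm v (Pi.single (il hn) 1)) := by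
  rw [single_one_dot] at h
  constructor
  · intro i j hji
    unfold tm
    rw [Matrix.add_apply, Matrix.one_apply_ne (ne_of_gt hji), vecMulVec_apply, zero_add]
    have hj : j ≠ il hn := by
      intro hj
      rw [hj, Fin.lt_def] at hji
      simp only [il] at hji
      have := i.2
      omega
    rw [Pi.single_apply, if_neg hj, mul_zero]
  · intro i
    unfold tm
    rw [Matrix.add_apply, Matrix.one_apply_eq, vecMulVec_apply, Pi.single_apply]
    by_cases hi : i = il hn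
    · rw [if_pos hi, hi, h, zero_mul, add_zero]
    · rw [if_neg hi, mul_zero, add_zero]

section fin
variable [Fintype F]

theorem Qrow_le_UT (hn : 2 ≤ n) : (Qrow hn : Subgroup (SpecialLinearGroup (Fin n) F)) ≤ UT := by
  rintro _ ⟨φ, hφ, rfl⟩
  exact isUT_row hn φ hφ

theorem Qcol_le_UT (hn : 2 ≤ n) : (Qcol hn : Subgroup (SpecialLinearGroup (Fin n) F)) ≤ UT := by
  rintro _ ⟨v, hv, rfl⟩
  exact isUT_col hn v hv

end fin

/-- elements stabilising the line `⟨e₀⟩` normalise the row radical -/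
theorem conj_mem_Qrow (hn : 2 ≤ n) (g : SpecialLinearGroup (Fin n) F) (c : F)
    (hg : (g : Matrix (Fin n) (Fin n) F) *ᵥ Pi.single (i0 hn) 1 = c • Pi.single (i0 hn) 1)
    (q : SpecialLinearGroup (Fin n) F) (hq : q ∈ Qrow hn) : g * q * g⁻¹ ∈ Qrow hn := by
  obtain ⟨φ, hφ, rfl⟩ := hq
  have hgg : (g : Matrix (Fin n) (Fin n) F) * ((g⁻¹ : SpecialLinearGroup (Fin n) F) : Matrix (Fin n) (Fin n) F) = 1 := by
    rw [← Matrix.SpecialLinearGroup.coe_mul, mul_inv_cancel]; rfl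
  have hgg' : ((g⁻¹ : SpecialLinearGroup (Fin n) F) : Matrix (Fin n) (Fin n) F) * (g : Matrix (Fin n) (Fin n) F) = 1 := by
    rw [← Matrix.SpecialLinearGroup.coe_mul, inv_mul_cancel]; rfl
  set ψ : Fin n → F := φ ᵥ* ((g⁻¹ : SpecialLinearGroup (Fin n) F) : Matrix (Fin n) (Fin n) F) with hψ
  have h0 : (c • ψ) ⬝ᵥ Pi.single (i0 hn) 1 = 0 := by
    rw [smul_dotProduct, smul_eq_mul, ← dotProduct_smul_comm_aux c ψ (Pi.single (i0 hn) 1)]
    rw [← hg, hψ, dotProduct_mulVec, vecMul_vecMul, hgg', vecMul_one, hφ]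
  refine ⟨c • ψ, h0, ?_⟩
  apply sl_ext
  rw [Matrix.SpecialLinearGroup.coe_mul, Matrix.SpecialLinearGroup.coe_mul, tv_coe, tv_coe, conj_tm _ _ hgg, hg, tm_smul_left]
where
  dotProduct_smul_comm_aux (c : F) (ψ x : Fin n → F) : ψ ⬝ᵥ (c • x) = c * (ψ ⬝ᵥ x) := by
    rw [dotProduct_smul, smul_eq_mul]

/-- elements stabilising the hyperplane `e_l = 0` normalise the column radical -/
theorem conj_mem_Qcol (hn : 2 ≤ n) (g : SpecialLinearGroup (Fin n) F) (c : F)
    (hg : Pi.single (il hn) 1 ᵥ* ((g⁻¹ : SpecialLinearGroup (Fin n) F) : Matrix (Fin n) (Fin n) F) =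
      c • Pi.single (il hn) 1)
    (q : SpecialLinearGroup (Fin n) F) (hq : q ∈ Qcol hn) : g * q * g⁻¹ ∈ Qcol hn := by
  obtain ⟨v, hv, rfl⟩ := hq
  have hgg : (g : Matrix (Fin n) (Fin n) F) * ((g⁻¹ : SpecialLinearGroup (Fin n) F) : Matrix (Fin n) (Fin n) F) = 1 := by
    rw [← Matrix.SpecialLinearGroup.coe_mul, mul_inv_cancel]; rfl
  have hgg' : ((g⁻¹ : SpecialLinearGroup (Fin n) F) : Matrix (Fin n) (Fin n) F) * (g : Matrix (Fin n) (Fin n) F) = 1 := by
    rw [← Matrix.SpecialLinearGroup.coe_mul, inv_mul_cancel]; rfl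
  set w : Fin n → F := (g : Matrix (Fin n) (Fin n) F) *ᵥ v with hw
  have h0 : Pi.single (il hn) 1 ⬝ᵥ (c • w) = 0 := by
    rw [dotProduct_smul, ← smul_dotProduct, ← hg, hw, ← dotProduct_mulVec, mulVec_mulVec, hgg', one_mulVec, hv]
  refine ⟨c • w, h0, ?_⟩
  apply sl_ext
  rw [Matrix.SpecialLinearGroup.coe_mul, Matrix.SpecialLinearGroup.coe_mul, tv_coe, tv_coe, conj_tm _ _ hgg, hg]
  unfold tm
  rw [smul_vecMulVec, vecMulVec_smul]

end Cfsg.Agent.Lib.H13.PAut
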