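import Mathlib
import Cfsg.Agent.Lib.H13.PAutPSL1

/-!
# S4613, family `PSL_n`: the row and column radicals are self-centralising modulo scalars
-/

set_option autoImplicit false
set_option linter.unusedSectionVars false
set_option linter.unusedVariables false
set_option linter.unusedSimpArgs false

namespace Cfsg.Agent.Lib.H13.PAut

open Matrix Cfsg.Agent.Lib.H13.AutPSL

variable {n : ℕ} {F : Type*} [Field F]

/-- a central element of `SL` of `p`-power order is trivial -/
theorem center_eq_one_of_pow (p : ℕ) [Fact p.Prime] [CharP F p] (hn : 1 ≤ n)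
    (z : SpecialLinearGroup (Fin n) F) (hz : z ∈ Subgroup.center (SpecialLinearGroup (Fin n) F)) (a : ℕ)
    (hza : z ^ p ^ a = 1) : z = 1 := by
  obtain ⟨r, hr, hrz⟩ := Matrix.SpecialLinearGroup.mem_center_iff.1 hz
  haveI : Nonempty (Fin n) := ⟨⟨0, by omega⟩⟩
  haveI : ExpChar F p := ExpChar.prime Fact.out
  have h1 : ((z ^ p ^ a : SpecialLinearGroup (Fin n) F) : Matrix (Fin n) (Fin n) F) = 1 := by
    rw [hza]; rfl
  rw [Matrix.SpecialLinearGroup.coe_pow, ← hrz, ← map_pow, ← map_one (Matrix.scalar (Fin n)), Matrix.scalar_inj] at h1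
  have h2 : r = 1 := by
    have := (ExpChar.pow_prime_pow_mul_eq_one_iff p a 1 r).1 (by rw [mul_one]; exact h1)
    rwa [pow_one] at this
  apply sl_ext
  rw [← hrz, h2, map_one]; rfl

theorem mem_Qrow_el (hn : 2 ≤ n) (j : Fin n) (hj : i0 hn ≠ j) (c : F) :
    el (i0 hn) j hj c ∈ (Qrow hn : Subgroup (SpecialLinearGroup (Fin n) F)) :=
  ⟨c • Pi.single j 1, single_dot_single hj c, rfl⟩

theorem mem_Qcol_el (hn : 2 ≤ n) (i : Fin n) (hi : i ≠ il hn) (c : F) :
    el i (il hn) hi c ∈ (Qcol hn : Subgroup (SpecialLinearGroup (Fin n) F)) := by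
  refine ⟨c • Pi.single i 1, ?_, ?_⟩
  · rw [dotProduct_smul, single_one_dot, Pi.single_apply, if_neg hi.symm, smul_zero]
  · apply sl_ext
    rw [el_coe, tv_coe]
    unfold tm
    rw [smul_vecMulVec, vecMulVec_smul]

/-- entries of a commutation relation with a rank one matrix -/
theorem comm_entries (M : Matrix (Fin n) (Fin n) F) (v φ : Fin n → F)
    (h : M * tm v φ = tm v φ * M) (a b : Fin n) :
    (M *ᵥ v) a * φ b = v a * (φ ᵥ* M) b := by
  unfold tm at h
  rw [mul_add, add_mul, Matrix.mul_one, Matrix.one_mul, add_right_inj, mul_vecMulVec, vecMulVec_mul] at h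
  have := congrFun (congrFun h a) b
  rwa [vecMulVec_apply, vecMulVec_apply] at this

/-- the centraliser of the row radical in `SL` -/
theorem cent_row (hn : 2 ≤ n) (g : SpecialLinearGroup (Fin n) F)
    (hg : ∀ j (hj : i0 hn ≠ j), g * el (i0 hn) j hj 1 = el (i0 hn) j hj 1 * g) :
    ∃ y ∈ (Qrow hn : Subgroup (SpecialLinearGroup (Fin n) F)),
      y⁻¹ * g ∈ Subgroup.center (SpecialLinearGroup (Fin n) F) := by
  set M : Matrix (Fin n) (Fin n) F := (g : Matrix (Fin n) (Fin n) F) with hM
  have key : ∀ j, i0 hn ≠ j → ∀ a b : Fin n,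
      M a (i0 hn) * (if b = j then 1 else 0) = (if a = i0 hn then 1 else 0) * M j b := by
    intro j hj a b
    have h1 := congrArg (fun s : SpecialLinearGroup (Fin n) F => (s : Matrix (Fin n) (Fin n) F)) (hg j hj)
    simp only [Matrix.SpecialLinearGroup.coe_mul, el_coe, one_smul] at h1
    have h2 := comm_entries M _ _ h1 a b
    rwa [Matrix.mulVec_single_one, Matrix.single_one_vecMul, Pi.single_apply, Pi.single_apply] at h2
  have F1 : ∀ a, a ≠ i0 hn → M a (i0 hn) = 0 := by
    intro a ha
    have := key (il hn) (i0_ne_il hn) a (il hn)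
    rwa [if_pos rfl, if_neg ha, mul_one, zero_mul] at this
  have F2 : ∀ j, j ≠ i0 hn → ∀ b, b ≠ j → M j b = 0 := by
    intro j hj b hb
    have := key j hj.symm (i0 hn) b
    rw [if_neg hb, if_pos rfl, mul_zero, one_mul] at this
    exact this.symm
  have F3 : ∀ j, j ≠ i0 hn → M j j = M (i0 hn) (i0 hn) := by
    intro j hj
    have := key j hj.symm (i0 hn) j
    rw [if_pos rfl, if_pos rfl, mul_one, one_mul] at this
    exact this.symm
  set c : F := M (i0 hn) (i0 hn) with hc
  have hdet : M.det = 1 := g.2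
  have hc0 : c ≠ 0 := by
    intro h0
    have : M.det = 0 := by
      apply Matrix.det_eq_zero_of_row_eq_zero (il hn)
      intro b
      by_cases hb : b = il hn
      · rw [hb, F3 _ (i0_ne_il hn).symm]; exact h0
      · exact F2 _ (i0_ne_il hn).symm b hb
    rw [hdet] at this
    exact one_ne_zero this
  set ψ : Fin n → F := fun b => if b = i0 hn then 0 else c⁻¹ * M (i0 hn) b with hψ
  have hψ0 : ψ ⬝ᵥ Pi.single (i0 hn) 1 = 0 := by
    rw [dot_single_one, hψ]; simp
  have hMy : M = c • tm (Pi.single (i0 hn) 1) ψ := by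
    ext a b
    unfold tm
    rw [Matrix.smul_apply, Matrix.add_apply, vecMulVec_apply, Pi.single_apply, smul_eq_mul]
    by_cases ha : a = i0 hn
    · rw [if_pos ha, ha, one_mul]
      by_cases hb : b = i0 hn
      · rw [hb, Matrix.one_apply_eq, hψ]
        simp only [if_true, add_zero, mul_one]
        exact hc.symm
      · rw [Matrix.one_apply_ne (Ne.symm hb), hψ]
        simp only [if_neg hb, zero_add]
        rw [← mul_assoc, mul_inv_cancel₀ hc0, one_mul]
    · rw [if_neg ha, zero_mul, add_zero]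
      by_cases hab : a = b
      · rw [← hab, Matrix.one_apply_eq, mul_one, F3 a ha]
      · rw [Matrix.one_apply_ne hab, mul_zero, F2 a ha b (Ne.symm hab)]
  refine ⟨tv (Pi.single (i0 hn) 1) ψ hψ0, ⟨ψ, hψ0, rfl⟩, ?_⟩
  rw [Matrix.SpecialLinearGroup.mem_center_iff]
  refine ⟨c, ?_, ?_⟩
  · have h1 : M.det = c ^ Fintype.card (Fin n) * (tm (Pi.single (i0 hn) 1) ψ).det := by
      rw [hMy, Matrix.det_smul]
    rw [hdet, det_tm, hψ0, add_zero, mul_one] at h1
    exact h1.symm
  · rw [Matrix.SpecialLinearGroup.coe_mul, ← hM, hMy, Matrix.mul_smul, ← tv_coe _ _ hψ0,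
      ← Matrix.SpecialLinearGroup.coe_mul, inv_mul_cancel]
    ext a b
    simp [Matrix.scalar_apply, Matrix.diagonal_apply, Matrix.one_apply]

/-- the centraliser of the column radical in `SL` -/
theorem cent_col (hn : 2 ≤ n) (g : SpecialLinearGroup (Fin n) F)
    (hg : ∀ i (hi : i ≠ il hn), g * el i (il hn) hi 1 = el i (il hn) hi 1 * g) :
    ∃ y ∈ (Qcol hn : Subgroup (SpecialLinearGroup (Fin n) F)),
      y⁻¹ * g ∈ Subgroup.center (SpecialLinearGroup (Fin n) F) := by
  set M : Matrix (Fin n) (Fin n) F := (g : Matrix (Fin n) (Fin n) F) with hM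
  have key : ∀ i, i ≠ il hn → ∀ a b : Fin n,
      M a i * (if b = il hn then 1 else 0) = (if a = i then 1 else 0) * M (il hn) b := by
    intro i hi a b
    have h1 := congrArg (fun s : SpecialLinearGroup (Fin n) F => (s : Matrix (Fin n) (Fin n) F)) (hg i hi)
    simp only [Matrix.SpecialLinearGroup.coe_mul, el_coe, one_smul] at h1
    have h2 := comm_entries M _ _ h1 a b
    rwa [Matrix.mulVec_single_one, Matrix.single_one_vecMul, Pi.single_apply, Pi.single_apply] at h2
  have F1 : ∀ i, i ≠ il hn → ∀ a, a ≠ i → M a i = 0 := by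
    intro i hi a ha
    have := key i hi a (il hn)
    rwa [if_pos rfl, if_neg ha, mul_one, zero_mul] at this
  have F2 : ∀ b, b ≠ il hn → M (il hn) b = 0 := by
    intro b hb
    have := key (i0 hn) (i0_ne_il hn) (i0 hn) b
    rw [if_neg hb, if_pos rfl, mul_zero, one_mul] at this
    exact this.symm
  have F3 : ∀ i, i ≠ il hn → M i i = M (il hn) (il hn) := by
    intro i hi
    have := key i hi i (il hn)
    rwa [if_pos rfl, if_pos rfl, mul_one, one_mul] at this
  set c : F := M (il hn) (il hn) with hc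
  have hdet : M.det = 1 := g.2
  have hc0 : c ≠ 0 := by
    intro h0
    have : M.det = 0 := by
      apply Matrix.det_eq_zero_of_column_eq_zero (i0 hn)
      intro a
      by_cases ha : a = i0 hn
      · rw [ha, F3 _ (i0_ne_il hn)]; exact h0
      · exact F1 _ (i0_ne_il hn) a ha
    rw [hdet] at this
    exact one_ne_zero this
  set v : Fin n → F := fun a => if a = il hn then 0 else c⁻¹ * M a (il hn) with hv
  have hv0 : Pi.single (il hn) 1 ⬝ᵥ v = 0 := by
    rw [single_one_dot, hv]; simp
  have hMy : M = c • tm v (Pi.single (il hn) 1) := by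
    ext a b
    unfold tm
    rw [Matrix.smul_apply, Matrix.add_apply, vecMulVec_apply, Pi.single_apply, smul_eq_mul]
    by_cases hb : b = il hn
    · rw [if_pos hb, hb, mul_one]
      by_cases ha : a = il hn
      · rw [ha, Matrix.one_apply_eq, hv]
        simp only [if_true, add_zero, mul_one]
        exact hc.symm
      · rw [Matrix.one_apply_ne ha, hv]
        simp only [if_neg ha, zero_add]
        rw [← mul_assoc, mul_inv_cancel₀ hc0, one_mul]
    · rw [if_neg hb, mul_zero, add_zero]
      by_cases hab : a = b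
      · rw [hab, Matrix.one_apply_eq, mul_one, F3 b hb]
      · rw [Matrix.one_apply_ne hab, mul_zero, F1 b hb a hab]
  refine ⟨tv v (Pi.single (il hn) 1) hv0, ⟨v, hv0, rfl⟩, ?_⟩
  rw [Matrix.SpecialLinearGroup.mem_center_iff]
  refine ⟨c, ?_, ?_⟩
  · have h1 : M.det = c ^ Fintype.card (Fin n) * (tm v (Pi.single (il hn) 1)).det := by
      rw [hMy, Matrix.det_smul]
    rw [hdet, det_tm, hv0, add_zero, mul_one] at h1
    exact h1.symm
  · rw [Matrix.SpecialLinearGroup.coe_mul, ← hM, hMy, Matrix.mul_smul, ← tv_coe _ _ hv0,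
      ← Matrix.SpecialLinearGroup.coe_mul, inv_mul_cancel]
    ext a b
    simp [Matrix.scalar_apply, Matrix.diagonal_apply, Matrix.one_apply]

end Cfsg.Agent.Lib.H13.PAut
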