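import Mathlib
import Cfsg.Agent.Lib.H13.PAutPSL2
import Cfsg.Agent.Lib.H2.SLGen

/-!
# S4613, family `PSL_n`, `n ≥ 3`: an automorphism of order prime to `p` fixing the unitriangular group pointwise
is trivial
-/

set_option autoImplicit false
set_option linter.unusedSectionVars false
set_option linter.unusedVariables false
set_option linter.unusedSimpArgs false

namespace Cfsg.Agent.Lib.H13.PAut

open Matrix Cfsg.Agent.Lib.H13.AutPSL
open scoped commutatorElement

variable {n : ℕ} {F : Type*} [Field F]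

theorem conj_pow_aux {G : Type*} [Group G] (g x : G) (m : ℕ) : (g⁻¹ * x * g) ^ m = g⁻¹ * x ^ m * g := by
  induction m with
  | zero => simp
  | succ m ih => rw [pow_succ, ih, pow_succ]; group

theorem conj_mem_map {G H : Type*} [Group G] [Group H] (f : G →* H) (Q : Subgroup G) (g : G)
    (hg : ∀ q ∈ Q, g * q * g⁻¹ ∈ Q) : ∀ q ∈ Q.map f, f g * q * (f g)⁻¹ ∈ Q.map f := by
  rintro _ ⟨q, hq, rfl⟩
  exact ⟨g * q * g⁻¹, hg q hq, by simp⟩

section fin
variable [Fintype F]

/-- commuting modulo scalars with a unipotent element means commuting -/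
theorem comm_of_pr_comm (p : ℕ) [Fact p.Prime] [CharP F p] (hn : 1 ≤ n) (g x : SpecialLinearGroup (Fin n) F)
    (hx : x ∈ (UT : Subgroup (SpecialLinearGroup (Fin n) F)))
    (h : (pr g : ProjectiveSpecialLinearGroup (Fin n) F) * pr x = pr x * pr g) : g * x = x * g := by
  have h1 : (pr (g * x) : ProjectiveSpecialLinearGroup (Fin n) F) = pr (x * g) := by
    rw [map_mul, map_mul]; exact h
  obtain ⟨z, hz, hxz⟩ := (QuotientGroup.mk'_eq_mk' _).1 h1
  obtain ⟨a, ha⟩ := (isPGroup_UT (p := p) (n := n) (F := F)) ⟨x, hx⟩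
  have hxa : x ^ p ^ a = 1 := by
    have := congrArg Subtype.val ha
    simpa using this
  have hcomm : Commute x z := Subgroup.mem_center_iff.1 hz x
  have h2 : g⁻¹ * x * g = x * z := by
    rw [mul_assoc, ← hxz]; group
  have h3 : z ^ p ^ a = 1 := by
    have := conj_pow_aux g x (p ^ a)
    rw [h2, hcomm.mul_pow, hxa, one_mul, mul_one, inv_mul_cancel] at this
    exact this
  have hz1 := center_eq_one_of_pow p hn z hz a h3
  rw [hz1, mul_one] at hxz
  exact hxz

/-- the image of the row radical is self-centralising in `PSL` -/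
theorem cent_row_bar (p : ℕ) [Fact p.Prime] [CharP F p] (hn : 2 ≤ n) (gb : ProjectiveSpecialLinearGroup (Fin n) F)
    (h : ∀ q ∈ (Qrow hn : Subgroup (SpecialLinearGroup (Fin n) F)).map pr, gb * q = q * gb) :
    gb ∈ (Qrow hn : Subgroup (SpecialLinearGroup (Fin n) F)).map pr := by
  obtain ⟨g, rfl⟩ := pr_surjective gb
  obtain ⟨y, hy, hc⟩ := cent_row hn g (fun j hj =>
    comm_of_pr_comm p (by omega) g _ (Qrow_le_UT hn (mem_Qrow_el hn j hj 1))
      (h _ (Subgroup.mem_map_of_mem _ (mem_Qrow_el hn j hj 1))))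
  have : (pr y : ProjectiveSpecialLinearGroup (Fin n) F) = pr g := QuotientGroup.eq.2 hc
  rw [← this]
  exact Subgroup.mem_map_of_mem _ hy

/-- the image of the column radical is self-centralising in `PSL` -/
theorem cent_col_bar (p : ℕ) [Fact p.Prime] [CharP F p] (hn : 2 ≤ n) (gb : ProjectiveSpecialLinearGroup (Fin n) F)
    (h : ∀ q ∈ (Qcol hn : Subgroup (SpecialLinearGroup (Fin n) F)).map pr, gb * q = q * gb) :
    gb ∈ (Qcol hn : Subgroup (SpecialLinearGroup (Fin n) F)).map pr := by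
  obtain ⟨g, rfl⟩ := pr_surjective gb
  obtain ⟨y, hy, hc⟩ := cent_col hn g (fun i hi =>
    comm_of_pr_comm p (by omega) g _ (Qcol_le_UT hn (mem_Qcol_el hn i hi 1))
      (h _ (Subgroup.mem_map_of_mem _ (mem_Qcol_el hn i hi 1))))
  have : (pr y : ProjectiveSpecialLinearGroup (Fin n) F) = pr g := QuotientGroup.eq.2 hc
  rw [← this]
  exact Subgroup.mem_map_of_mem _ hy

end fin

/-- transvections `T_ij` with `j ≠ 0` normalise the row radical -/
theorem transvection_conj_Qrow (hn : 2 ≤ n) {i j : Fin n} (hij : i ≠ j) (hj : j ≠ i0 hn) (c : F)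
    (q : SpecialLinearGroup (Fin n) F) (hq : q ∈ Qrow hn) :
    Matrix.SpecialLinearGroup.transvection hij c * q * (Matrix.SpecialLinearGroup.transvection hij c)⁻¹ ∈ Qrow hn := by
  apply conj_mem_Qrow hn _ 1 _ q hq
  have h0 : (Pi.single j c : Fin n → F) ⬝ᵥ Pi.single (i0 hn) 1 = 0 := by
    rw [dot_single_one, Pi.single_apply, if_neg (Ne.symm hj)]
  rw [transvection_coe_eq_tm hij c, tm_mulVec, h0, zero_smul, add_zero, one_smul]

/-- transvections `T_ij` with `i ≠ l` normalise the column radical -/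
theorem transvection_conj_Qcol (hn : 2 ≤ n) {i j : Fin n} (hij : i ≠ j) (hi : i ≠ il hn) (c : F)
    (q : SpecialLinearGroup (Fin n) F) (hq : q ∈ Qcol hn) :
    Matrix.SpecialLinearGroup.transvection hij c * q * (Matrix.SpecialLinearGroup.transvection hij c)⁻¹ ∈ Qcol hn := by
  apply conj_mem_Qcol hn _ 1 _ q hq
  have h0 : (Pi.single (il hn) 1 : Fin n → F) ⬝ᵥ Pi.single i 1 = 0 := by
    rw [single_one_dot, Pi.single_apply, if_neg (Ne.symm hi)]
  rw [Matrix.SpecialLinearGroup.transvection_inv, transvection_coe_eq_tm hij (-c), vecMul_tm, h0, zero_smul,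
    add_zero, one_smul]

theorem commutatorElement_mem_aux {G : Type*} [Group G] {K : Subgroup G} {a b : G} (ha : a ∈ K) (hb : b ∈ K) :
    ⁅a, b⁆ ∈ K := by
  rw [commutatorElement_def]
  exact mul_mem (mul_mem (mul_mem ha hb) (inv_mem ha)) (inv_mem hb)

/-- the generating set: images of the transvections `T_ij(c)` with `j ≠ 0` or `i ≠ l` -/
def GenS (hn : 2 ≤ n) : Set (ProjectiveSpecialLinearGroup (Fin n) F) :=
  {x | ∃ (i j : Fin n) (hij : i ≠ j) (c : F), (j ≠ i0 hn ∨ i ≠ il hn) ∧
    x = pr (Matrix.SpecialLinearGroup.transvection hij c)}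

theorem closure_GenS (hn : 3 ≤ n) :
    Subgroup.closure (GenS (F := F) (by omega : 2 ≤ n)) = ⊤ := by
  have hn2 : 2 ≤ n := by omega
  haveI : Nontrivial (Fin n) := Fin.nontrivial_iff_two_le.2 hn2
  have hall : ∀ (i j : Fin n) (hij : i ≠ j) (c : F),
      (pr (Matrix.SpecialLinearGroup.transvection hij c) : ProjectiveSpecialLinearGroup (Fin n) F) ∈
        Subgroup.closure (GenS (F := F) hn2) := by
    intro i j hij c
    by_cases h : j ≠ i0 hn2 ∨ i ≠ il hn2
    · exact Subgroup.subset_closure ⟨i, j, hij, c, h, rfl⟩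
    · push_neg at h
      obtain ⟨hj, hi⟩ := h
      -- a middle index
      let m : Fin n := ⟨1, by omega⟩
      have hm0 : m ≠ i0 hn2 := by
        intro h; have := congrArg Fin.val h; simp [m, i0] at this
      have hml : m ≠ il hn2 := by
        intro h; have := congrArg Fin.val h; simp only [m, il] at this; omega
      have him : i ≠ m := by rw [hi]; exact hml.symm
      have hmj : m ≠ j := by rw [hj]; exact hm0
      rw [Cfsg.Agent.Lib.H2.transvection_eq_commutator hij him hmj c, map_commutatorElement]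
      apply commutatorElement_mem_aux
      · exact Subgroup.subset_closure ⟨i, m, him, c, Or.inl hm0, rfl⟩
      · exact Subgroup.subset_closure ⟨m, j, hmj, 1, Or.inr hml, rfl⟩
  rw [eq_top_iff]
  intro x _
  obtain ⟨s, rfl⟩ := QuotientGroup.mk'_surjective _ x
  refine Cfsg.Agent.Lib.H2.SL_transvection_induction
    (fun s => (pr s : ProjectiveSpecialLinearGroup (Fin n) F) ∈ Subgroup.closure (GenS (F := F) hn2))
    (fun i j h c => hall i j h c) (fun A B hA hB => ?_) s
  show (pr (A * B) : ProjectiveSpecialLinearGroup (Fin n) F) ∈ _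
  rw [map_mul]
  exact mul_mem hA hB

section fin
variable [Fintype F]

/-- `n ≥ 3` -/
theorem aut_eq_one_of_fix_UT_ge3 (p : ℕ) [Fact p.Prime] [CharP F p] (hn : 3 ≤ n) (α : MulAut (ProjectiveSpecialLinearGroup (Fin n) F))
    (hα : ¬ p ∣ orderOf α)
    (hfix : ∀ x ∈ (UTbar : Subgroup (ProjectiveSpecialLinearGroup (Fin n) F)), α x = x) : α = 1 := by
  have hn2 : 2 ≤ n := by omega
  have hP : IsPGroup p (UTbar : Subgroup (ProjectiveSpecialLinearGroup (Fin n) F)) :=
    (isPGroup_UT (p := p)).map pr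
  have hle1 : (Qrow hn2 : Subgroup (SpecialLinearGroup (Fin n) F)).map pr ≤ UTbar :=
    Subgroup.map_mono (Qrow_le_UT hn2)
  have hle2 : (Qcol hn2 : Subgroup (SpecialLinearGroup (Fin n) F)).map pr ≤ UTbar :=
    Subgroup.map_mono (Qcol_le_UT hn2)
  refine eq_one_of_two p α hα _ _ (hP.to_le hle1) (hP.to_le hle2) (fun q hq => hfix q (hle1 hq))
    (fun q hq => hfix q (hle2 hq)) (cent_row_bar p hn2) (cent_col_bar p hn2) (GenS hn2)
    (closure_GenS hn) ?_
  rintro _ ⟨i, j, hij, c, h | h, rfl⟩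
  · exact Or.inl (conj_mem_map pr _ _ (transvection_conj_Qrow hn2 hij h c))
  · exact Or.inr (conj_mem_map pr _ _ (transvection_conj_Qcol hn2 hij h c))

end fin

end Cfsg.Agent.Lib.H13.PAut
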