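import Mathlib
import Cfsg.Agent.Lib.H13.PAutPSL3

/-!
# S4613, family `PSL_n`: the case `n = 2` and the family-level theorem
-/

set_option autoImplicit false
set_option linter.unusedSectionVars false
set_option linter.unusedVariables false
set_option linter.unusedSimpArgs false
namespace Cfsg.Agent.Lib.H13.PAut

open Matrix Cfsg.Agent.Lib.H13.AutPSL

variable {F : Type*} [Field F]

/-- the Weyl element of `SL_2` -/
def wEl : SpecialLinearGroup (Fin 2) F := ⟨!![0, 1; -1, 0], by simp [Matrix.det_fin_two_of]⟩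

/-- diagonal elements of `SL_2` -/
def hEl (a : F) (ha : a ≠ 0) : SpecialLinearGroup (Fin 2) F :=
  ⟨!![a, 0; 0, a⁻¹], by simp [Matrix.det_fin_two_of, ha]⟩

/-- upper unitriangular elements -/
def uEl (t : F) : SpecialLinearGroup (Fin 2) F := ⟨!![1, t; 0, 1], by simp [Matrix.det_fin_two_of]⟩

/-- lower unitriangular elements -/
def lEl (t : F) : SpecialLinearGroup (Fin 2) F := ⟨!![1, 0; t, 1], by simp [Matrix.det_fin_two_of]⟩

theorem wEl_coe : ((wEl : SpecialLinearGroup (Fin 2) F) : Matrix (Fin 2) (Fin 2) F) = !![0, 1; -1, 0] := rfl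
theorem hEl_coe (a : F) (ha : a ≠ 0) :
    ((hEl a ha : SpecialLinearGroup (Fin 2) F) : Matrix (Fin 2) (Fin 2) F) = !![a, 0; 0, a⁻¹] := rfl
theorem uEl_coe (t : F) : ((uEl t : SpecialLinearGroup (Fin 2) F) : Matrix (Fin 2) (Fin 2) F) = !![1, t; 0, 1] := rfl
theorem lEl_coe (t : F) : ((lEl t : SpecialLinearGroup (Fin 2) F) : Matrix (Fin 2) (Fin 2) F) = !![1, 0; t, 1] := rfl

theorem rel1 (a : F) (ha : a ≠ 0) : hEl a ha * wEl * hEl a ha = wEl := by
  apply sl_ext
  simp only [Matrix.SpecialLinearGroup.coe_mul, wEl_coe, hEl_coe]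
  ext i j
  fin_cases i <;> fin_cases j <;> simp [Matrix.mul_apply, Fin.sum_univ_two, ha]

theorem rel2 : (uEl (1 : F) * wEl) ^ 3 = 1 := by
  apply sl_ext
  simp only [Matrix.SpecialLinearGroup.coe_mul, Matrix.SpecialLinearGroup.coe_pow, wEl_coe, uEl_coe, pow_succ, pow_zero,
    one_mul]
  ext i j
  fin_cases i <;> fin_cases j <;> simp [Matrix.mul_apply, Fin.sum_univ_two]

theorem rel3 (t : F) : lEl t * wEl = wEl * uEl (-t) := by
  apply sl_ext
  simp only [Matrix.SpecialLinearGroup.coe_mul, wEl_coe, uEl_coe, lEl_coe]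
  ext i j
  fin_cases i <;> fin_cases j <;> simp [Matrix.mul_apply, Fin.sum_univ_two]

theorem uEl_eq (t : F) : uEl t = Matrix.SpecialLinearGroup.transvection (zero_ne_one : (0 : Fin 2) ≠ 1) t := by
  apply sl_ext
  rw [uEl_coe, Matrix.SpecialLinearGroup.transvection_coe]
  ext i j
  fin_cases i <;> fin_cases j <;> simp [Matrix.single_apply]

theorem lEl_eq (t : F) : lEl t = Matrix.SpecialLinearGroup.transvection (one_ne_zero : (1 : Fin 2) ≠ 0) t := by
  apply sl_ext
  rw [lEl_coe, Matrix.SpecialLinearGroup.transvection_coe]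
  ext i j
  fin_cases i <;> fin_cases j <;> simp [Matrix.single_apply]



theorem exists_sq_ne_one [Fintype F] (hF : 4 ≤ Fintype.card F) : ∃ a : F, a ≠ 0 ∧ a ^ 2 ≠ 1 := by
  classical
  have hcard : ({0, 1, -1} : Finset F).card < (Finset.univ : Finset F).card := by
    rw [Finset.card_univ]
    have := Finset.card_le_three (a := (0 : F)) (b := 1) (c := -1)
    omega
  obtain ⟨a, -, ha⟩ := Finset.exists_mem_notMem_of_card_lt_card hcard
  simp only [Finset.mem_insert, Finset.mem_singleton, not_or] at ha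
  refine ⟨a, ha.1, fun h => ?_⟩
  have h1 : (a - 1) * (a + 1) = 0 := by ring_nf; rw [h]; ring
  rcases mul_eq_zero.1 h1 with h2 | h2
  · exact ha.2.1 (sub_eq_zero.1 h2)
  · exact ha.2.2 (eq_neg_of_add_eq_zero_left h2)

/-- upper triangular matrices stabilise the line `⟨e₀⟩` -/
theorem upper_mulVec (hn2 : 2 ≤ 2) (M : Matrix (Fin 2) (Fin 2) F) (h : M 1 0 = 0) :
    M *ᵥ Pi.single (i0 hn2) 1 = M 0 0 • Pi.single (i0 hn2) 1 := by
  funext i
  rw [Matrix.mulVec_single_one, Matrix.col_apply]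
  fin_cases i
  · simp [i0]
  · simp [i0, h]

theorem stepC (a r : F) (ha : a ≠ 0) (ha2 : a ^ 2 ≠ 1) (A : Matrix (Fin 2) (Fin 2) F)
    (h : !![a, 0; 0, a⁻¹] * A * !![a, 0; 0, a⁻¹] * Matrix.scalar (Fin 2) r = A) :
    (A 0 0 = 0 ∧ A 1 1 = 0) ∨ (A 0 1 = 0 ∧ A 1 0 = 0) := by
  obtain ⟨p, q, s, t, rfl⟩ : ∃ p q s t, A = !![p, q; s, t] := ⟨_, _, _, _, Matrix.eta_fin_two A⟩
  have hs : Matrix.scalar (Fin 2) r = !![r, 0; 0, r] := by
    ext i j; fin_cases i <;> fin_cases j <;> simp [Matrix.diagonal_apply]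
  rw [hs, Matrix.mul_fin_two, Matrix.mul_fin_two, Matrix.mul_fin_two] at h
  have e00 := congrFun (congrFun h 0) 0
  have e01 := congrFun (congrFun h 0) 1
  have e10 := congrFun (congrFun h 1) 0
  have e11 := congrFun (congrFun h 1) 1
  simp only [Matrix.of_apply, Matrix.cons_val_zero, Matrix.cons_val_one, Matrix.cons_val', Matrix.cons_val_fin_one,
    Matrix.empty_val', mul_zero, zero_mul, add_zero, zero_add] at e00 e01 e10 e11
  show (p = 0 ∧ t = 0) ∨ (q = 0 ∧ s = 0)
  by_cases hr : r = 1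
  · left
    subst hr
    constructor
    · have : (a ^ 2 - 1) * p = 0 := by linear_combination e00
      rcases mul_eq_zero.1 this with h1 | h1
      · exact absurd (sub_eq_zero.1 h1) ha2
      · exact h1
    · have : (a ^ 2 - 1) * t = 0 := by
        field_simp at e11
        linear_combination -e11
      rcases mul_eq_zero.1 this with h1 | h1
      · exact absurd (sub_eq_zero.1 h1) ha2
      · exact h1
  · right
    have hr' : r - 1 ≠ 0 := sub_ne_zero.2 hr
    constructor
    · have : (r - 1) * q = 0 := by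
        field_simp at e01
        linear_combination e01
      exact (mul_eq_zero.1 this).resolve_left hr'
    · have : (r - 1) * s = 0 := by
        field_simp at e10
        linear_combination e10
      exact (mul_eq_zero.1 this).resolve_left hr'

theorem stepD (r : F) (A : Matrix (Fin 2) (Fin 2) F) (h00 : A 0 0 = 0) (h11 : A 1 1 = 0) (hdet : A.det = 1)
    (h : (!![1, 1; 0, 1] * A) ^ 3 = Matrix.scalar (Fin 2) r) :
    ∃ c : F, c ^ 2 = 1 ∧ A = c • !![0, 1; -1, 0] := by
  obtain ⟨p, y, z, t, rfl⟩ : ∃ p q s t, A = !![p, q; s, t] := ⟨_, _, _, _, Matrix.eta_fin_two A⟩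
  have hp : p = 0 := h00
  have ht : t = 0 := h11
  subst hp ht
  have hyz : y * z = -1 := by
    rw [Matrix.det_fin_two_of] at hdet
    linear_combination -hdet
  have hs : Matrix.scalar (Fin 2) r = !![r, 0; 0, r] := by
    ext i j; fin_cases i <;> fin_cases j <;> simp [Matrix.diagonal_apply]
  rw [hs, pow_succ, pow_succ, pow_one, Matrix.mul_fin_two, Matrix.mul_fin_two, Matrix.mul_fin_two] at h
  have e10 := congrFun (congrFun h 1) 0
  simp only [Matrix.of_apply, Matrix.cons_val_zero, Matrix.cons_val_one, Matrix.cons_val', Matrix.cons_val_fin_one,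
    Matrix.empty_val', mul_zero, zero_mul, add_zero, zero_add, one_mul, mul_one] at e10
  have hz0 : z ≠ 0 := by
    intro h0; rw [h0, mul_zero] at hyz; exact one_ne_zero (neg_eq_zero.1 hyz.symm)
  have hz2 : z ^ 2 = 1 := by
    have : z * (z ^ 2 - 1) = 0 := by
      linear_combination e10 - z * hyz
    have := (mul_eq_zero.1 this).resolve_left hz0
    exact sub_eq_zero.1 this
  refine ⟨-z, by rw [neg_sq, hz2], ?_⟩
  have hy : y = -z := by
    have : y = y * z ^ 2 := by rw [hz2, mul_one]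
    rw [this]
    linear_combination z * hyz
  rw [hy]
  ext i j
  fin_cases i <;> fin_cases j <;> simp

section fin
variable [Fintype F]

/-- `n = 2` -/
theorem aut_eq_one_of_fix_UT_two (p : ℕ) [Fact p.Prime] [CharP F p] (hF : 4 ≤ Fintype.card F)
    (α : MulAut (ProjectiveSpecialLinearGroup (Fin 2) F)) (hα : ¬ p ∣ orderOf α)
    (hfix : ∀ x ∈ (UTbar : Subgroup (ProjectiveSpecialLinearGroup (Fin 2) F)), α x = x) : α = 1 := by
  have hn2 : 2 ≤ 2 := le_refl 2
  have hP : IsPGroup p (UTbar : Subgroup (ProjectiveSpecialLinearGroup (Fin 2) F)) :=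
    (isPGroup_UT (p := p)).map pr
  have hle1 : (Qrow hn2 : Subgroup (SpecialLinearGroup (Fin 2) F)).map pr ≤ UTbar :=
    Subgroup.map_mono (Qrow_le_UT hn2)
  -- (A) upper triangular elements are fixed
  have hA : ∀ (g : SpecialLinearGroup (Fin 2) F), (g : Matrix (Fin 2) (Fin 2) F) 1 0 = 0 →
      α (pr g) = pr g := by
    intro g hg
    exact fix_of_normalizes p α hα _ (hP.to_le hle1) (fun q hq => hfix q (hle1 hq)) (cent_row_bar p hn2) (pr g)
      (conj_mem_map pr _ g (conj_mem_Qrow hn2 g _ (upper_mulVec hn2 _ hg)))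
  have hu : ∀ t : F, α (pr (uEl t)) = pr (uEl t) := fun t => hA _ (by rw [uEl_coe]; simp)
  obtain ⟨a, ha0, ha2⟩ := exists_sq_ne_one hF
  have hh : α (pr (hEl a ha0)) = pr (hEl a ha0) := hA _ (by rw [hEl_coe]; simp)
  obtain ⟨v, hv⟩ := pr_surjective (α (pr (wEl : SpecialLinearGroup (Fin 2) F)))
  -- (C)
  have hC1 : (pr (hEl a ha0 * v * hEl a ha0) : ProjectiveSpecialLinearGroup (Fin 2) F) = pr v := by
    rw [map_mul, map_mul, hv, ← hh, ← map_mul, ← map_mul, ← map_mul, ← map_mul, rel1]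
  obtain ⟨z, hz, hzv⟩ := (QuotientGroup.mk'_eq_mk' _).1 hC1
  obtain ⟨r, hr, hrz⟩ := Matrix.SpecialLinearGroup.mem_center_iff.1 hz
  have hmat := congrArg (fun s : SpecialLinearGroup (Fin 2) F => (s : Matrix (Fin 2) (Fin 2) F)) hzv
  simp only [Matrix.SpecialLinearGroup.coe_mul, hEl_coe, ← hrz] at hmat
  have hvw : (pr v : ProjectiveSpecialLinearGroup (Fin 2) F) = pr wEl := by
    rcases stepC a r ha0 ha2 _ hmat with ⟨h00, h11⟩ | ⟨h01, h10⟩
    · -- (D)
      have hD1 : (pr ((uEl 1 * v) ^ 3) : ProjectiveSpecialLinearGroup (Fin 2) F) = 1 := by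
        rw [map_pow, map_mul, hv, ← hu 1, ← map_mul, ← map_pow, ← map_mul, ← map_pow, rel2, map_one, map_one]
      have hD2 : (uEl 1 * v) ^ 3 ∈ Subgroup.center (SpecialLinearGroup (Fin 2) F) := by
        have := (QuotientGroup.eq_one_iff _).1 hD1
        exact this
      obtain ⟨r', hr', hrz'⟩ := Matrix.SpecialLinearGroup.mem_center_iff.1 hD2
      have hmat' : (!![1, 1; 0, 1] * (v : Matrix (Fin 2) (Fin 2) F)) ^ 3 = Matrix.scalar (Fin 2) r' := by
        rw [hrz', Matrix.SpecialLinearGroup.coe_pow, Matrix.SpecialLinearGroup.coe_mul, uEl_coe]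
      obtain ⟨c, hc, hvc⟩ := stepD r' _ h00 h11 v.2 hmat'
      -- v = c • w with c² = 1
      apply QuotientGroup.eq.2
      rw [Matrix.SpecialLinearGroup.mem_center_iff]
      refine ⟨c, by rw [Fintype.card_fin]; exact hc, ?_⟩
      have hcc : c * c = 1 := by rw [← sq]; exact hc
      have hv1 : ((v⁻¹ * wEl : SpecialLinearGroup (Fin 2) F) : Matrix (Fin 2) (Fin 2) F) =
          c • ((v⁻¹ * v : SpecialLinearGroup (Fin 2) F) : Matrix (Fin 2) (Fin 2) F) := by
        rw [Matrix.SpecialLinearGroup.coe_mul, Matrix.SpecialLinearGroup.coe_mul, hvc, wEl_coe, Matrix.mul_smul,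
          smul_smul, hcc, one_smul]
      rw [hv1, inv_mul_cancel]
      ext i j
      simp [Matrix.diagonal_apply, Matrix.one_apply]
    · -- `v` is diagonal, hence fixed; impossible
      exfalso
      have h1 : α (pr v) = pr v := hA v h10
      have h2 : (pr v : ProjectiveSpecialLinearGroup (Fin 2) F) = pr wEl := by
        apply α.injective
        rw [h1, hv]
      obtain ⟨z', hz', hzv'⟩ := (QuotientGroup.mk'_eq_mk' _).1 h2
      obtain ⟨r', hr', hrz'⟩ := Matrix.SpecialLinearGroup.mem_center_iff.1 hz'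
      have hm := congrArg (fun s : SpecialLinearGroup (Fin 2) F => (s : Matrix (Fin 2) (Fin 2) F) 0 1) hzv'
      simp only [Matrix.SpecialLinearGroup.coe_mul, ← hrz', wEl_coe] at hm
      rw [Matrix.mul_apply, Fin.sum_univ_two] at hm
      simp [Matrix.diagonal_apply, h01] at hm
  have hw : α (pr (wEl : SpecialLinearGroup (Fin 2) F)) = pr wEl := by rw [← hv, hvw]
  have hl : ∀ t : F, α (pr (lEl t)) = pr (lEl t) := by
    intro t
    have h1 : lEl t = wEl * uEl (-t) * wEl⁻¹ := by rw [← rel3]; group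
    rw [h1, map_mul, map_mul, map_inv, map_mul, map_mul, map_inv, hw, hu]
  -- all of `SL_2`
  have : Nontrivial (Fin 2) := Fin.nontrivial_iff_two_le.2 hn2
  apply MulEquiv.ext
  intro x
  obtain ⟨s, rfl⟩ := pr_surjective x
  rw [MulAut.one_apply]
  refine Cfsg.Agent.Lib.H2.SL_transvection_induction
    (fun s => α (pr s : ProjectiveSpecialLinearGroup (Fin 2) F) = pr s) (fun i j hij c => ?_)
    (fun A B hA hB => ?_) s
  · fin_cases i <;> fin_cases j
    · exact absurd rfl hij
    · have := hu c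
      rw [uEl_eq] at this
      exact this
    · have := hl c
      rw [lEl_eq] at this
      exact this
    · exact absurd rfl hij
  · show α (pr (A * B)) = pr (A * B)
    rw [map_mul, map_mul, hA, hB]

/-- **S4613, family `PSL_n`.** -/
theorem aut_eq_one_PSL (p : ℕ) [Fact p.Prime] [CharP F p] (n : ℕ) (hn : 2 ≤ n) (h2 : n = 2 → 4 ≤ Fintype.card F)
    (α : MulAut (ProjectiveSpecialLinearGroup (Fin n) F)) (hα : ¬ p ∣ orderOf α)
    (U : Sylow p (ProjectiveSpecialLinearGroup (Fin n) F)) (hfix : ∀ x ∈ U, α x = x) : α = 1 := by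
  refine eq_one_of_sylow p (UTbar : Subgroup (ProjectiveSpecialLinearGroup (Fin n) F))
    ((isPGroup_UT (p := p)).map pr) ?_ α hα U hfix
  intro β hβ hβfix
  rcases Nat.lt_or_ge 2 n with h3 | h3
  · exact aut_eq_one_of_fix_UT_ge3 p h3 β hβ hβfix
  · have hn' : n = 2 := le_antisymm h3 hn
    subst hn'
    exact aut_eq_one_of_fix_UT_two p (h2 rfl) β hβ hβfix

end fin

end Cfsg.Agent.Lib.H13.PAut
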