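import Mathlib
import Cfsg.Prelude.Def_LieTypeChar
import Cfsg.Agent.Lib.H3.PMinBN
import Cfsg.Agent.Lib.H29.ChevGen45
import Cfsg.Agent.Lib.H29.ChevPJ5
import Cfsg.Agent.Lib.H29.ChevCert13

/-!
# S2937, piece EXC: the Chevalley groups `F₄, E₆, E₇, E₈` (helper13)

Generic over helper29's `Cert12` tower: the split data `Spl p (Cert6.bnPair) H U` (the six S2936 fields as in helper6's
`Lib/H6/OGEXC.lean`, plus `hTp`: `H` is the image of the torus `(Fˣ)^l`, so `t ^ (q - 1) = 1`), and helper3's leaf criterion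
`Spl.badAt_of_leaf`, the commutation of the `n_i` modulo `B` being read off the reflection permutations `fd.nw` by a
decidable check (`chkLeaf`).
-/

set_option autoImplicit false
set_option linter.unusedSectionVars false
set_option linter.unusedSimpArgs false
set_option linter.unusedVariables false

namespace Cfsg.Agent.Lib.H13.PM

open Cfsg Cfsg.Lie Matrix Cfsg.Agent.Lib.H3.PMin Cfsg.Agent.Lib.H29.Chev Cfsg.Agent.Lib.H2.BN

/-- the reflections `w_i`, `w_j` commute (as permutations of the root indices) -/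
def chkComm (fd : FD) (fx : FX) (i j : ℕ) : Bool :=
  (List.range fd.n).all fun s =>
    Nat.beq (fd.nw fx (fd.simples.getD i 0) (fd.nw fx (fd.simples.getD j 0) s))
      (fd.nw fx (fd.simples.getD j 0) (fd.nw fx (fd.simples.getD i 0) s))

/-- the leaf check: `i₁` commutes with every node other than `i₁, i₂`; `i₂` commutes neither with `i₁` nor with `i₃` -/
def chkLeaf (fd : FD) (fx : FX) (i₁ i₂ i₃ : ℕ) : Bool :=
  Nat.blt i₁ fd.l && Nat.blt i₂ fd.l && Nat.blt i₃ fd.l && !(Nat.beq i₁ i₂) && !(Nat.beq i₁ i₃) &&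
  ((List.range fd.l).all fun j => Nat.beq j i₁ || Nat.beq j i₂ || chkComm fd fx i₁ j) &&
  !(chkComm fd fx i₂ i₁) && !(chkComm fd fx i₂ i₃)

theorem chkComm_iff (fd : FD) (fx : FX) (i j : ℕ) :
    chkComm fd fx i j = true ↔ ∀ s < fd.n,
      fd.nw fx (fd.simples.getD i 0) (fd.nw fx (fd.simples.getD j 0) s) =
        fd.nw fx (fd.simples.getD j 0) (fd.nw fx (fd.simples.getD i 0) s) := by
  unfold chkComm
  simp only [List.all_eq_true, List.mem_range, natBeq_iff]

section generic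

variable {D : ChevalleyDatum} {fd : FD} {fx : FX} {fc : FC} {fz : FZ} {F : Type*} [Field F]

/-- every element of the diagonal subgroup has order dividing `q - 1` -/
theorem orderOf_diag_dvd (C : Cert12 D fd fx fc fz) [Fintype F] (t : GL D.Idx F) (ht : t ∈ D.diagonalSubgroup F) :
    orderOf t ∣ Fintype.card F - 1 := by
  classical
  rw [C.diag_eq_range] at ht
  obtain ⟨x, rfl⟩ := ht
  apply orderOf_dvd_of_pow_eq_one
  rw [← map_pow]
  have hx : x ^ (Fintype.card F - 1) = 1 := by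
    funext i
    rw [Pi.pow_apply, Pi.one_apply, ← Fintype.card_units]
    exact pow_card_eq_one
  rw [hx, map_one]

/-- the elements of the diagonal subgroup have order prime to the characteristic -/
theorem orderOf_diag_coprime (C : Cert12 D fd fx fc fz) [Fintype F] (p : ℕ) [Fact p.Prime] [CharP F p]
    (t : GL D.Idx F) (ht : t ∈ D.diagonalSubgroup F) : (orderOf t).Coprime p := by
  have h1 := orderOf_diag_dvd C t ht
  have hp : p.Prime := Fact.out
  have hq : p ∣ Fintype.card F := by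
    obtain ⟨n, hn⟩ := FiniteField.card F p
    rw [hn.2]
    exact dvd_pow_self p n.ne_zero
  have hpos : 0 < Fintype.card F := Fintype.card_pos
  rw [Nat.coprime_comm, Nat.Prime.coprime_iff_not_dvd hp]
  intro hd
  have h2 : p ∣ Fintype.card F - 1 := hd.trans h1
  have h3 : p ∣ Fintype.card F - (Fintype.card F - 1) := Nat.dvd_sub hq h2
  have e : Fintype.card F - (Fintype.card F - 1) = 1 := by omega
  rw [e] at h3
  exact hp.one_lt.ne' (Nat.dvd_one.mp h3)

/-- the split data of the (B,N)-pair of a Chevalley group -/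
theorem spl_of_cert12 (C : Cert12 D fd fx fc fz) [Fintype F] (p : ℕ) [Fact p.Prime] [CharP F p] :
    Spl p (C.c6.bnPair F) ((D.diagonalSubgroup F).subgroupOf (D.group F))
      ((D.posUnipotent F).subgroupOf (D.group F)) := by
  classical
  have hUG : D.posUnipotent F ≤ D.group F :=
    (le_sup_left : D.posUnipotent F ≤ D.borelSubgroup F).trans C.c6.c2.borel_le_group
  have hBnorm : D.borelSubgroup F ≤ Subgroup.normalizer (D.posUnipotent F : Set (GL D.Idx F)) :=
    sup_le Subgroup.le_normalizer C.c6.c2.diag_le_normalizer_pos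
  refine ⟨?_, ?_, ?_, ?_, ?_, ?_, ?_⟩
  · -- `T ≤ B`
    intro t ht
    rw [Subgroup.mem_subgroupOf] at ht
    show (t : GL D.Idx F) ∈ D.borelSubgroup F
    exact (le_sup_right : D.diagonalSubgroup F ≤ D.borelSubgroup F) ht
  · -- `N` normalizes `T`
    intro n hn t ht
    rw [Subgroup.mem_subgroupOf] at ht ⊢
    have hn' : (n : GL D.Idx F) ∈ D.monomialSubgroup F := hn
    have h1 := C.c6.c2.monomial_le_normalizer_diag (F := F) (inv_mem hn')
    have h2 := (Subgroup.mem_normalizer_iff.mp h1 (t : GL D.Idx F)).mp ht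
    rw [inv_inv] at h2
    simpa using h2
  · -- `U ≤ B`
    intro u hu
    rw [Subgroup.mem_subgroupOf] at hu
    show (u : GL D.Idx F) ∈ D.borelSubgroup F
    exact (le_sup_left : D.posUnipotent F ≤ D.borelSubgroup F) hu
  · -- `B = T U`
    intro b hb
    have hb' : (b : GL D.Idx F) ∈ D.borelSubgroup F := hb
    obtain ⟨u, hu, h, hh, huh⟩ := C.c6.c2.borel_mem (b : GL D.Idx F) hb'
    have hhG : h ∈ D.group F := C.c6.c2.diag_le_group hh
    have hu' : h⁻¹ * u * h ∈ D.posUnipotent F := by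
      have h1 := C.c6.c2.diag_le_normalizer_pos (F := F) (inv_mem hh)
      have h2 := (Subgroup.mem_normalizer_iff.mp h1 u).mp hu
      rwa [inv_inv] at h2
    refine ⟨⟨h, hhG⟩, Subgroup.mem_subgroupOf.mpr hh, ⟨h⁻¹ * u * h, hUG hu'⟩,
      Subgroup.mem_subgroupOf.mpr hu', ?_⟩
    apply Subtype.ext
    rw [Subgroup.coe_mul, ← huh]
    show u * h = h * (h⁻¹ * u * h)
    group
  · -- `B` normalizes `U`
    intro b hb u hu
    rw [Subgroup.mem_subgroupOf] at hu ⊢
    have hb' : (b : GL D.Idx F) ∈ D.borelSubgroup F := hb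
    have h1 := hBnorm (inv_mem hb')
    have h2 := (Subgroup.mem_normalizer_iff.mp h1 (u : GL D.Idx F)).mp hu
    rw [inv_inv] at h2
    simpa using h2
  · -- `U` is a `p`-group
    exact (C.isPGroup_posUnipotent (F := F) p).comap_subtype
  · -- `T` is a `p'`-group
    intro t ht
    rw [Subgroup.mem_subgroupOf] at ht
    have := orderOf_diag_coprime C p (t : GL D.Idx F) ht
    rwa [Subgroup.orderOf_coe] at this

/-- the fundamental reflection `n_i` as an element of the group -/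
noncomputable def sG (C : Cert12 D fd fx fc fz) (F : Type*) [Field F] (i : ℕ) (hi : i < fd.l) : ↥(D.group F) :=
  ⟨C.c6.c2.nG (F := F) (fd.simples.getD i 0) (C.c6.c2.simple_lt i hi),
    C.c6.c2.monomial_le_group (C.c6.c2.nG_mem_monomial _ _)⟩

theorem sG_mem_S (C : Cert12 D fd fx fc fz) (i : ℕ) (hi : i < fd.l) : sG C F i hi ∈ (C.c6.bnPair F).S :=
  C.c6.nG_mem_SSet i hi

theorem simples_inj' (C : Cert12 D fd fx fc fz) (i j : ℕ) (hi : i < fd.l) (hj : j < fd.l)
    (h : fd.simples.getD i 0 = fd.simples.getD j 0) : i = j := by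
  by_contra hne
  have e1 := C.rcZ_simple i j hi hj
  have e2 := C.rcZ_simple j j hj hj
  rw [h, e2, if_pos rfl, if_neg hne] at e1
  exact one_ne_zero e1

theorem sG_inj (C : Cert12 D fd fx fc fz) (i j : ℕ) (hi : i < fd.l) (hj : j < fd.l) (h : sG C F i hi = sG C F j hj) :
    i = j := by
  have h1 : C.c6.c2.nG (F := F) (fd.simples.getD i 0) (C.c6.c2.simple_lt i hi) =
      C.c6.c2.nG (F := F) (fd.simples.getD j 0) (C.c6.c2.simple_lt j hj) := congrArg Subtype.val h
  have h2 := C.c6.nG_inj i j hi hj (by rw [h1, inv_mul_cancel]; exact one_mem _)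
  exact simples_inj' C i j hi hj h2

theorem exists_sG_of_mem_S (C : Cert12 D fd fx fc fz) (t : ↥(D.group F)) (ht : t ∈ (C.c6.bnPair F).S) :
    ∃ j, ∃ hj : j < fd.l, t = sG C F j hj := by
  obtain ⟨j, hj, e⟩ := C.c6.eq_nG_of_SSet (t : GL D.Idx F) ht
  exact ⟨j, hj, Subtype.ext e⟩

/-- commuting reflections: the `n_i` commute modulo `B` -/
theorem eqv_of_chkComm (C : Cert12 D fd fx fc fz) (i j : ℕ) (hi : i < fd.l) (hj : j < fd.l)
    (h : chkComm fd fx i j = true) :
    Eqv (C.c6.bnPair F) (sG C F i hi * sG C F j hj) (sG C F j hj * sG C F i hi) := by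
  rw [chkComm_iff] at h
  have hNi := C.c6.c2.nG_mem_monomial (F := F) _ (C.c6.c2.simple_lt i hi)
  have hNj := C.c6.c2.nG_mem_monomial (F := F) _ (C.c6.c2.simple_lt j hj)
  have hπ1 := C.c6.perm_mul (C.c6.perm_nG (F := F) i hi).1 (C.c6.perm_nG (F := F) j hj).1
  have hπ2 := C.c6.perm_mul (C.c6.perm_nG (F := F) j hj).1 (C.c6.perm_nG (F := F) i hi).1
  have h1 := C.inv_mul_mem_diag _ _ (mul_mem hNi hNj) (mul_mem hNj hNi) _ _ hπ1 hπ2 h
  show (sG C F i hi * sG C F j hj)⁻¹ * (sG C F j hj * sG C F i hi) ∈ (C.c6.bnPair F).B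
  rw [Cert6.bnPair_B, Subgroup.mem_subgroupOf]
  exact C.c6.diag_le_borel h1

/-- non-commuting reflections: the `n_i` do not commute modulo `B` -/
theorem not_eqv_of_chkComm (C : Cert12 D fd fx fc fz) (i j : ℕ) (hi : i < fd.l) (hj : j < fd.l)
    (h : chkComm fd fx i j = false) :
    ¬ Eqv (C.c6.bnPair F) (sG C F i hi * sG C F j hj) (sG C F j hj * sG C F i hi) := by
  intro he
  have hne : ¬ chkComm fd fx i j = true := by rw [h]; simp
  apply hne
  rw [chkComm_iff]
  have hNi := C.c6.c2.nG_mem_monomial (F := F) _ (C.c6.c2.simple_lt i hi)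
  have hNj := C.c6.c2.nG_mem_monomial (F := F) _ (C.c6.c2.simple_lt j hj)
  have hπ1 := C.c6.perm_mul (C.c6.perm_nG (F := F) i hi).1 (C.c6.perm_nG (F := F) j hj).1
  have hπ2 := C.c6.perm_mul (C.c6.perm_nG (F := F) j hj).1 (C.c6.perm_nG (F := F) i hi).1
  have hb : ((sG C F i hi * sG C F j hj)⁻¹ * (sG C F j hj * sG C F i hi) : ↥(D.group F)) ∈ (C.c6.bnPair F).B := he
  rw [Cert6.bnPair_B, Subgroup.mem_subgroupOf] at hb
  set ni := C.c6.c2.nG (F := F) (fd.simples.getD i 0) (C.c6.c2.simple_lt i hi) with hni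
  set nj := C.c6.c2.nG (F := F) (fd.simples.getD j 0) (C.c6.c2.simple_lt j hj) with hnj
  have hb' : (ni * nj)⁻¹ * (nj * ni) ∈ D.borelSubgroup F := hb
  have hk : (ni * nj)⁻¹ * (nj * ni) ∈ D.diagonalSubgroup F := by
    rw [← C.c6.c2.borel_inf_monomial]
    exact Subgroup.mem_inf.mpr ⟨hb', mul_mem (inv_mem (mul_mem hNi hNj)) (mul_mem hNj hNi)⟩
  have hπ3 := C.c6.perm_mul hπ1 (C.c6.perm_diag _ hk)
  have e : ni * nj * ((ni * nj)⁻¹ * (nj * ni)) = nj * ni := by group
  rw [e] at hπ3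
  intro s hs
  exact C.perm_unique _ _ _ hπ3 hπ2 s hs

/-- **the generic statement**: a leaf of the Dynkin diagram -/
theorem pm_of_cert12 (C : Cert12 D fd fx fc fz) [Fintype F] (p : ℕ) [Fact p.Prime] [CharP F p]
    (i₁ i₂ i₃ : ℕ) (hleaf : chkLeaf fd fx i₁ i₂ i₃ = true) : PMinBad p ↥(D.group F) := by
  classical
  unfold chkLeaf at hleaf
  simp only [Bool.and_eq_true, natBlt_iff, Bool.not_eq_true', List.all_eq_true, List.mem_range,
    Bool.or_eq_true, natBeq_iff] at hleaf
  obtain ⟨⟨⟨⟨⟨⟨⟨h1, h2⟩, h3⟩, h12⟩, h13⟩, hall⟩, hn1⟩, hn3⟩ := hleaf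
  have h12' : i₁ ≠ i₂ := by
    intro he
    rw [← natBeq_iff] at he
    rw [he] at h12
    exact Bool.noConfusion h12
  have h13' : i₁ ≠ i₃ := by
    intro he
    rw [← natBeq_iff] at he
    rw [he] at h13
    exact Bool.noConfusion h13
  have hspl := spl_of_cert12 C (F := F) p
  apply hspl.pminBad
  apply hspl.badAt_of_leaf (sG C F i₁ h1) (sG C F i₂ h2) (sG C F i₃ h3) (sG_mem_S C i₁ h1) (sG_mem_S C i₂ h2)
    (sG_mem_S C i₃ h3) (fun he => h12' (sG_inj C _ _ _ _ he)) (fun he => h13' (sG_inj C _ _ _ _ he))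
  · intro t ht ht1 ht2
    obtain ⟨j, hj, rfl⟩ := exists_sG_of_mem_S C t ht
    rcases hall j hj with (hj1 | hj2) | hc
    · exfalso
      apply ht1
      subst hj1
      rfl
    · exfalso
      apply ht2
      subst hj2
      rfl
    · exact eqv_of_chkComm C i₁ j h1 hj hc
  · exact not_eqv_of_chkComm C i₂ i₁ h2 h1 hn1
  · exact not_eqv_of_chkComm C i₂ i₃ h2 h3 hn3

end generic

theorem leaf_F4 : chkLeaf fdF4 fxF4 0 1 2 = true := by decide +kernel

theorem leaf_E6 : chkLeaf fdE6 fxE6 0 2 3 = true := by decide +kernel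

theorem leaf_E7 : chkLeaf fdE7 fxE7 0 2 3 = true := by decide +kernel

theorem leaf_E8 : chkLeaf fdE8 fxE8 0 2 3 = true := by decide +kernel

/-- EXC: `F₄`, `E₆`, `E₇`, `E₈` (`pminBad_of_leaf`) -/
theorem pm_chev (F : Type*) [Field F] [Fintype F] (p : ℕ) [Fact p.Prime] [CharP F p] (D : Lie.ChevalleyDatum)
    (hD : D ∈ [Lie.chevF4, Lie.chevE6, Lie.chevE7, Lie.chevE8]) : PMinBad p ↥(D.group F) := by
  simp only [List.mem_cons, List.not_mem_nil, or_false] at hD
  rcases hD with rfl | rfl | rfl | rfl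
  · exact pm_of_cert12 cert12_F4 p 0 1 2 leaf_F4
  · exact pm_of_cert12 cert12_E6 p 0 2 3 leaf_E6
  · exact pm_of_cert12 cert12_E7 p 0 2 3 leaf_E7
  · exact pm_of_cert12 cert12_E8 p 0 2 3 leaf_E8

end Cfsg.Agent.Lib.H13.PM
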