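import Mathlib

/-!
# S4885 farm-out, PIECE FRAT (helper13)

A normal subgroup of `G` inside the Frattini subgroup of some subgroup `K` lies in `Φ(G)`.
Exact name + statement of `tools/blueprints/S4885_sigs.lean`.
-/

set_option autoImplicit false

namespace Cfsg.Agent.Lib.H13.PQ

/-- FRAT: a normal subgroup of `G` inside the Frattini subgroup of some subgroup `K` lies in
`Φ(G)`. -/
theorem le_frattini_of_le_frattini_subgroup {G : Type*} [Group G] [Finite G]
    (N : Subgroup G) [N.Normal] (K : Subgroup G)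
    (h : N ≤ (frattini K).map K.subtype) : N ≤ frattini G := by
  have hNK : N ≤ K := by
    intro n hn
    obtain ⟨k, -, rfl⟩ := h hn
    exact k.2
  unfold frattini Order.radical
  refine le_iInf₂ ?_
  intro M hM
  by_contra hNM
  have htop : N ⊔ M = ⊤ := by
    by_contra hne
    have hlt : M < N ⊔ M := lt_of_le_of_ne le_sup_right (fun heq => hNM (heq ▸ le_sup_left))
    exact hne (hM.2 _ hlt)
  have hKtop : M.subgroupOf K ⊔ frattini K = ⊤ := by
    rw [eq_top_iff]
    rintro ⟨x, hx⟩ -
    have hx' : x ∈ ((N ⊔ M : Subgroup G) : Set G) := by rw [htop]; trivial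
    rw [Subgroup.normal_mul] at hx'
    obtain ⟨n, hn, m, hm, rfl⟩ := hx'
    have hn : n ∈ N := hn
    have hm : m ∈ M := hm
    obtain ⟨k, hkF, hk⟩ := h hn
    have hnK : n ∈ K := hNK hn
    have hmK : m ∈ K := by
      have : m = n⁻¹ * (n * m) := by group
      rw [this]
      exact K.mul_mem (K.inv_mem hnK) hx
    have e : (⟨n * m, hx⟩ : ↥K) = k * ⟨m, hmK⟩ := by
      apply Subtype.ext
      show n * m = (k : G) * m
      rw [← hk]; rfl
    rw [e]
    exact Subgroup.mul_mem _ (Subgroup.mem_sup_right hkF)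
      (Subgroup.mem_sup_left (Subgroup.mem_subgroupOf.2 hm))
  have hMK : M.subgroupOf K = ⊤ := frattini_nongenerating hKtop
  have hKM : K ≤ M := Subgroup.subgroupOf_eq_top.1 hMK
  exact hNM (hNK.trans hKM)

end Cfsg.Agent.Lib.H13.PQ
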