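import Mathlib
import Cfsg.Agent.Lib.H11.PSUGraph6
import Cfsg.Agent.Lib.H13.PSLBal4

/-!
Local balance in `PSU_n(q)`, part 1 (helper13): graph involutions `gamU D g` of `PSU_n(q)`, `q` odd. Using the descent of helper11
(`PSUGraph`) to a symmetric or alternating form over the fixed field of `τ`: `graphU_g1` (the odd core of the centraliser in `Inndiag` is
trivial, transferred from `PSLBal.graph_case`), `comm_mat` (commuting semilinear automorphisms in terms of matrices), `graphU_g2`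
(an automorphism of odd order centralising the fixed points of the involution is trivial), `conj_psu_injective`,
`graphU_M_ne_bot` and `graph_caseU`.
-/

set_option autoImplicit false
set_option linter.unusedSectionVars false
set_option linter.unusedVariables false
set_option linter.unusedSimpArgs false
set_option linter.deprecated false

namespace Cfsg.Agent.Lib.H13.PSUBal

section

open Matrix Cfsg.Agent.Lib.H13 Cfsg.Agent.Lib.H13.AutPSU Cfsg.Agent.Lib.H13.AutPO Cfsg.Agent.Lib.H13.AutPSL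
  Cfsg.Agent.Lib.H11.PSUGraph Cfsg.Agent.Lib.H11.PSLGraph Cfsg.Agent.Lib.H13.PSLBal

section

variable {F : Type*} [Field F] [Fintype F] {n q : ℕ}

/-- the inclusion of the fixed field of `τ` -/
theorem isFix_subtype (D : UF F q) : IsFix D (AutPSL.fixF D.τ).subtype := by
  intro x
  rw [← AutPSL.mem_fixF_iff]
  constructor
  · intro hx; exact ⟨⟨x, hx⟩, rfl⟩
  · rintro ⟨k, rfl⟩; exact k.2

theorem two_ne_zero_fix (σ : F ≃+* F) (h2 : (2 : F) ≠ 0) : (2 : AutPSL.fixF σ) ≠ 0 := by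
  intro h
  apply h2
  have := congrArg (AutPSL.fixF σ).subtype h
  rwa [map_ofNat, map_zero] at this

/-- the odd core of the centraliser in `Inndiag` of a graph involution of `PSU_n(q)` is trivial -/
theorem graphU_g1 (D : UF F q) (r : ℕ) [Fact r.Prime] [CharP F r] (h2 : (2 : F) ≠ 0) (hn : 3 ≤ n)
    (g : ↥(Cfsg.GU n F q)) (hord : orderOf (gamU D g) = 2) :
    ¬ HasNPC 2 ↥((cGU (n := n) (F := F) (q := q)).range ⊓
      Subgroup.centralizer {gamU D g}) := by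
  classical
  have hι := isFix_subtype D
  obtain ⟨B, hB⟩ := exists_relAny (D := D) (ι := (AutPSL.fixF D.τ).subtype) r hι hn (gamU D g)
    (isGraph_gamU D hn g) hord
  obtain ⟨E⟩ := hB.centralizer hι hn
  rw [inndiagU_eq] at E
  rw [hasNPC_congr 2 E]
  have : Fintype (AutPSL.fixF D.τ) := Fintype.ofFinite _
  have hgam : gamF B = cGL (tGL B) * AutPSL.gfAut (1 : AutPSL.fixF D.τ ≃+* AutPSL.fixF D.τ) := by
    rw [gamF_eq_gam]
    unfold gam AutPSL.gfAut
    rw [map_one, one_mul]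
  have hsq : (cGL (tGL B) * AutPSL.gfAut (1 : AutPSL.fixF D.τ ≃+* AutPSL.fixF D.τ)) ^ 2 = 1 := by
    rw [← hgam, ← hB.orderOf_gamF hn]
    exact pow_orderOf_eq_one _
  have h3 := graph_case (F := AutPSL.fixF D.τ) hn r (two_ne_zero_fix D.τ h2)
    (Cfsg.inndiagPSL n (AutPSL.fixF D.τ)) (by
      intro k
      rw [AutPSL.inndiag_eq]
      exact AutPSL.inn_le_range_cGL ⟨k, rfl⟩) (tGL B) 1 hsq
  rw [hgam]
  exact h3

end

end

section

open Matrix Cfsg.Agent.Lib.H13 Cfsg.Agent.Lib.H13.AutPSU Cfsg.Agent.Lib.H13.AutPO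
  Cfsg.Agent.Lib.H11.PSUGraph Cfsg.Agent.Lib.H13.PSLBal

section

variable {F : Type*} [Field F] {n q : ℕ}

theorem map_ringAut_one (M : Matrix (Fin n) (Fin n) F) : M.map (1 : F ≃+* F) = M := by
  ext i j; rfl

/-- commuting semilinear automorphisms in terms of matrices -/
theorem comm_mat (D : UF F q) (hn : 3 ≤ n) (a g : ↥(Cfsg.GU n F q)) (θ σ : F ≃+* F)
    (h : (cGU a * fU θ : MulAut (Cfsg.PSU n F q)) * (cGU g * fU σ) =
      (cGU g * fU σ) * (cGU a * fU θ)) :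
    θ * σ = σ * θ ∧ ∃ d : F, mt g * (mt a).map σ = d • (mt a * (mt g).map θ) := by
  rw [mul_formU', mul_formU'] at h
  have h1 := uniq_sigma D hn h
  rw [h1] at h
  have h2 := mul_right_cancel h
  refine ⟨h1, ?_⟩
  obtain ⟨d, hd⟩ := (cGU_eq_iff D hn _ _).1 h2
  rw [mt_mul, mt_gmapU, mt_mul, mt_gmapU] at hd
  exact ⟨d, hd⟩

theorem isUnit_of_mul_eq_one' {X Y : Matrix (Fin n) (Fin n) F} (h : X * Y = 1) : IsUnit X :=
  IsUnit.of_mul_eq_one Y h

theorem ne_zero_of_mul_eq_one (hn : 1 ≤ n) {X Y : Matrix (Fin n) (Fin n) F} (h : X * Y = 1) :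
    X ≠ 0 := by
  rintro rfl
  rw [Matrix.zero_mul] at h
  have := congrFun (congrFun h ⟨0, hn⟩) ⟨0, hn⟩
  simp at this

end

end

section

open Matrix Cfsg.Agent.Lib.H13 Cfsg.Agent.Lib.H13.AutPSU Cfsg.Agent.Lib.H13.AutPO
  Cfsg.Agent.Lib.H11.PSUGraph Cfsg.Agent.Lib.H13.PSLBal

section

variable {F : Type*} [Field F] [Fintype F] {n q : ℕ}

/-- the element of `GU` attached to an isometry of determinant one of the descended form -/
theorem exists_inn_of_iso (D : UF F q) (hn : 3 ≤ n) (E : EDat D) (g : ↥(Cfsg.GU n F q))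
    (P : GL (Fin n) F) (B : GL (Fin n) (AutPSL.fixF D.τ))
    (R : RData D (AutPSL.fixF D.τ).subtype E g P B)
    (y : GL (Fin n) (AutPSL.fixF D.τ))
    (hy : y ∈ isoGrp (1 : AutPSL.fixF D.τ ≃+* AutPSL.fixF D.τ)
      (B : Matrix (Fin n) (Fin n) (AutPSL.fixF D.τ)))
    (hdet : (y : Matrix (Fin n) (Fin n) (AutPSL.fixF D.τ)).det = 1) :
    ∃ x : ↥(Cfsg.GU n F q), mt x = (P : Matrix (Fin n) (Fin n) F) *
        (y : Matrix (Fin n) (Fin n) (AutPSL.fixF D.τ)).map (AutPSL.fixF D.τ).subtype *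
        ((P⁻¹ : GL (Fin n) F) : Matrix (Fin n) (Fin n) F) ∧
      cGU x ∈ Cfsg.Inn (Cfsg.PSU n F q) ⊓ Subgroup.centralizer {gamU D g} := by
  have hι := isFix_subtype D
  have hmem : ((1 : Fˣ), y) ∈ G1 (q := q) (AutPSL.fixF D.τ).subtype P := by
    rw [mem_G1_iff R hι]
    have h1 : IsIso (1 : AutPSL.fixF D.τ ≃+* AutPSL.fixF D.τ)
        (B : Matrix (Fin n) (Fin n) (AutPSL.fixF D.τ))
        (y : Matrix (Fin n) (Fin n) (AutPSL.fixF D.τ)) := hy
    unfold IsIso at h1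
    rw [map_ringAut_one] at h1
    simp only [Units.val_one, map_one, mul_one, one_smul]
    rw [← Matrix.transpose_map, ← Matrix.map_mul, ← Matrix.map_mul, h1]
  obtain ⟨x, hx⟩ : ∃ x : ↥(Cfsg.GU n F q), x = jG (q := q) (AutPSL.fixF D.τ).subtype P
    ⟨((1 : Fˣ), y), hmem⟩ := ⟨_, rfl⟩
  have hmt : mt x = (P : Matrix (Fin n) (Fin n) F) *
        (y : Matrix (Fin n) (Fin n) (AutPSL.fixF D.τ)).map (AutPSL.fixF D.τ).subtype *
        ((P⁻¹ : GL (Fin n) F) : Matrix (Fin n) (Fin n) F) := by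
    rw [hx, mt_jG]
    simp only [Units.val_one, one_smul]
  refine ⟨x, hmt, ?_, ?_⟩
  · have hd : (mt x).det = 1 := by
      rw [hmt, Matrix.det_mul, Matrix.det_mul, mul_right_comm, ← Matrix.det_mul,
        AutPSL.gl_mul_inv, Matrix.det_one, one_mul]
      have e1 := RingHom.map_det (AutPSL.fixF D.τ).subtype
        (y : Matrix (Fin n) (Fin n) (AutPSL.fixF D.τ))
      rw [hdet, map_one] at e1
      exact e1.symm
    have h2 : x = suGU ⟨⟨mt x, hd⟩, x.2⟩ := by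
      apply Subtype.ext
      apply Units.ext
      rfl
    rw [h2, cGU_suGU]
    exact ⟨_, rfl⟩
  · have h3 : cGU x ∈ ((cGU (n := n) (F := F) (q := q)).comp
        (jG (q := q) (AutPSL.fixF D.τ).subtype P)).range := ⟨⟨((1 : Fˣ), y), hmem⟩, by
      rw [MonoidHom.comp_apply, hx]⟩
    rw [← centralizer_eq R hι hn] at h3
    exact h3.2

end

end

section

open Matrix Cfsg.Agent.Lib.H13 Cfsg.Agent.Lib.H13.AutPSU Cfsg.Agent.Lib.H13.AutPO
  Cfsg.Agent.Lib.H11.PSUGraph Cfsg.Agent.Lib.H13.PSLBal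

section

variable {F : Type*} [Field F] [Fintype F] {n q : ℕ}

set_option maxHeartbeats 1600000 in
/-- an element of odd order centralising the fixed points of a graph involution is trivial -/
theorem graphU_g2 (D : UF F q) (hn : 3 ≤ n)
    (hall : ∀ θ : Cfsg.PSU n F q ≃* Cfsg.PSU n F q, IsSemi θ)
    (E : EDat D) (g : ↥(Cfsg.GU n F q))
    (P : GL (Fin n) F) (B : GL (Fin n) (AutPSL.fixF D.τ))
    (R : RData D (AutPSL.fixF D.τ).subtype E g P B)
    (Tc : ∀ (b : GL (Fin n) (AutPSL.fixF D.τ)) (θ₀ : AutPSL.fixF D.τ ≃+* AutPSL.fixF D.τ),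
      (∀ y ∈ isoGrp (1 : AutPSL.fixF D.τ ≃+* AutPSL.fixF D.τ)
          (B : Matrix (Fin n) (Fin n) (AutPSL.fixF D.τ)),
        (y : Matrix (Fin n) (Fin n) (AutPSL.fixF D.τ)).det = 1 →
        ∃ c : AutPSL.fixF D.τ, (b : Matrix (Fin n) (Fin n) (AutPSL.fixF D.τ)) *
            (y : Matrix (Fin n) (Fin n) (AutPSL.fixF D.τ)).map θ₀ =
          c • ((y : Matrix (Fin n) (Fin n) (AutPSL.fixF D.τ)) *
            (b : Matrix (Fin n) (Fin n) (AutPSL.fixF D.τ)))) →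
      (∀ s, θ₀ s = s) ∧ ∃ μ : AutPSL.fixF D.τ,
        (b : Matrix (Fin n) (Fin n) (AutPSL.fixF D.τ)) = μ • 1)
    (ρ : MulAut (Cfsg.PSU n F q)) (hρ : ρ ∈ Subgroup.centralizer {gamU D g})
    (hodd : Odd (orderOf ρ))
    (hcentM : ∀ μ ∈ Cfsg.Inn (Cfsg.PSU n F q) ⊓ Subgroup.centralizer {gamU D g},
      ρ * μ = μ * ρ) : ρ = 1 := by
  classical
  have hι := isFix_subtype D
  obtain ⟨a, θ, rfl⟩ := exists_formU hall ρ
  have h1 : gamU D g * (cGU a * fU θ) = (cGU a * fU θ) * gamU D g :=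
    Subgroup.mem_centralizer_iff.1 hρ _ rfl
  unfold gamU at h1
  obtain ⟨hθτ, d, hd⟩ := comm_mat D hn a g θ D.τ h1.symm
  have hcomm : ∀ x, θ (D.τ x) = D.τ (θ x) := fun x => RingEquiv.congr_fun hθτ x
  obtain ⟨Pm, hPm⟩ : ∃ Pm : Matrix (Fin n) (Fin n) F, Pm = (P : Matrix (Fin n) (Fin n) F) :=
    ⟨_, rfl⟩
  obtain ⟨Pi, hPi⟩ : ∃ Pi : Matrix (Fin n) (Fin n) F,
      Pi = ((P⁻¹ : GL (Fin n) F) : Matrix (Fin n) (Fin n) F) := ⟨_, rfl⟩
  have hPPi : Pm * Pi = 1 := by rw [hPm, hPi]; exact AutPSL.gl_mul_inv P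
  have hPiP : Pi * Pm = 1 := by rw [hPm, hPi]; exact AutPSL.gl_inv_mul P
  have hθPPi : Pm.map θ * Pi.map θ = 1 := by
    rw [← Matrix.map_mul, hPPi]; exact AutPSL.map_one_sig θ
  have hθPiP : Pi.map θ * Pm.map θ = 1 := by
    rw [← Matrix.map_mul, hPiP]; exact AutPSL.map_one_sig θ
  have k1 : mt g * Pm.map D.τ = E.c⁻¹ • Pm := by rw [hPm]; exact R.key1
  have k2 : Pi * mt g = E.c⁻¹ • Pi.map D.τ := by rw [hPi]; exact R.key2
  have hai : mt a * mt a⁻¹ = 1 := mt_mul_inv a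
  obtain ⟨X, hX⟩ : ∃ X : Matrix (Fin n) (Fin n) F, X = Pi * mt a * Pm.map θ := ⟨_, rfl⟩
  have hXinv : X * (Pi.map θ * mt a⁻¹ * Pm) = 1 := by
    rw [hX]
    calc Pi * mt a * Pm.map θ * (Pi.map θ * mt a⁻¹ * Pm)
        = Pi * (mt a * ((Pm.map θ * Pi.map θ) * mt a⁻¹)) * Pm := by
          simp only [Matrix.mul_assoc]
      _ = 1 := by rw [hθPPi, Matrix.one_mul, hai, Matrix.mul_one, hPiP]
  have hXτ : X.map D.τ = (E.c * d * (θ E.c)⁻¹) • X := by
    have e1 : Pi.map D.τ = E.c • (Pi * mt g) := by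
      rw [k2, smul_smul, mul_inv_cancel₀ E.c_ne_zero, one_smul]
    have e2 : (Pm.map θ).map D.τ = (Pm.map D.τ).map θ := by
      ext i j
      simp only [Matrix.map_apply]
      exact (hcomm _).symm
    have e3 : (mt g).map θ * (Pm.map D.τ).map θ = (θ E.c)⁻¹ • Pm.map θ := by
      rw [← Matrix.map_mul, k1, AutPSL.smul_map_sig, map_inv₀]
    rw [hX, Matrix.map_mul, Matrix.map_mul, e1, e2, Matrix.smul_mul, Matrix.smul_mul]
    calc E.c • (Pi * mt g * (mt a).map D.τ * (Pm.map D.τ).map θ)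
        = E.c • (Pi * (mt g * (mt a).map D.τ) * (Pm.map D.τ).map θ) := by
          simp only [Matrix.mul_assoc]
      _ = E.c • (Pi * (d • (mt a * (mt g).map θ)) * (Pm.map D.τ).map θ) := by rw [hd]
      _ = (E.c * d) • (Pi * mt a * ((mt g).map θ * (Pm.map D.τ).map θ)) := by
          rw [Matrix.mul_smul, Matrix.smul_mul, smul_smul]
          simp only [Matrix.mul_assoc]
      _ = (E.c * d * (θ E.c)⁻¹) • (Pi * mt a * Pm.map θ) := by
          rw [e3, Matrix.mul_smul, smul_smul]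
  have hX0 : X ≠ 0 := ne_zero_of_mul_eq_one (by omega) hXinv
  obtain ⟨l, hl0, hl⟩ := AutPSL.exists_fixed_smul D.τ (by norm_num) (orderOf_tau D) X hX0 _ hXτ
  have hlunit : IsUnit (l • X) := by
    apply IsUnit.of_mul_eq_one (l⁻¹ • (Pi.map θ * mt a⁻¹ * Pm))
    rw [Matrix.smul_mul, Matrix.mul_smul, smul_smul, mul_inv_cancel₀ hl0, one_smul, hXinv]
  obtain ⟨b, hb⟩ := hι.exists_GL_map _ hl hlunit
  obtain ⟨θ₀, hθ₀⟩ : ∃ θ₀ : AutPSL.fixF D.τ ≃+* AutPSL.fixF D.τ, θ₀ = resF D.τ θ hcomm := ⟨_, rfl⟩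
  have hθ₀map : ∀ Y : Matrix (Fin n) (Fin n) (AutPSL.fixF D.τ),
      (Y.map (AutPSL.fixF D.τ).subtype).map θ = (Y.map θ₀).map (AutPSL.fixF D.τ).subtype := by
    intro Y
    ext i j
    rw [hθ₀]
    rfl
  have hTc := Tc b θ₀ (by
    intro y hy hdet
    obtain ⟨x, hmt, hxM⟩ := exists_inn_of_iso D hn E g P B R y hy hdet
    have h2 := hcentM _ hxM
    have h3 : (cGU a * fU θ : MulAut (Cfsg.PSU n F q)) * (cGU x * fU 1) =
        (cGU x * fU 1) * (cGU a * fU θ) := by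
      rw [map_one, mul_one]
      exact h2
    obtain ⟨-, d', hd'⟩ := comm_mat D hn a x θ 1 h3
    rw [map_ringAut_one] at hd'
    obtain ⟨yh, hyh⟩ : ∃ yh : Matrix (Fin n) (Fin n) F,
        yh = (y : Matrix (Fin n) (Fin n) (AutPSL.fixF D.τ)).map (AutPSL.fixF D.τ).subtype :=
      ⟨_, rfl⟩
    rw [← hPm, ← hPi, ← hyh] at hmt
    have e6 : yh * X = d' • (X * yh.map θ) := by
      have e7 : Pi * (mt x * mt a) * Pm.map θ = Pi * (d' • (mt a * (mt x).map θ)) * Pm.map θ := by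
        rw [hd']
      have e8 : Pi * (mt x * mt a) * Pm.map θ = yh * X := by
        rw [hmt, hX]
        calc Pi * (Pm * yh * Pi * mt a) * Pm.map θ = (Pi * Pm) * yh * (Pi * mt a * Pm.map θ) := by
              simp only [Matrix.mul_assoc]
          _ = _ := by rw [hPiP, Matrix.one_mul]
      have e9 : Pi * (d' • (mt a * (mt x).map θ)) * Pm.map θ = d' • (X * yh.map θ) := by
        rw [hmt, hX, Matrix.map_mul, Matrix.map_mul, Matrix.mul_smul, Matrix.smul_mul]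
        congr 1
        calc Pi * (mt a * (Pm.map θ * yh.map θ * Pi.map θ)) * Pm.map θ
            = Pi * mt a * Pm.map θ * yh.map θ * (Pi.map θ * Pm.map θ) := by
              simp only [Matrix.mul_assoc]
          _ = _ := by rw [hθPiP, Matrix.mul_one]
      rw [← e8, e7, e9]
    -- scale by `l`
    have e10 : yh * (l • X) = d' • ((l • X) * yh.map θ) := by
      rw [Matrix.mul_smul, e6, Matrix.smul_mul, smul_comm]
    rw [← hb, hyh, hθ₀map, ← Matrix.map_mul, ← Matrix.map_mul] at e10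
    obtain ⟨W, hW⟩ : ∃ W : Matrix (Fin n) (Fin n) (AutPSL.fixF D.τ),
        W = (b : Matrix (Fin n) (Fin n) (AutPSL.fixF D.τ)) *
          (y : Matrix (Fin n) (Fin n) (AutPSL.fixF D.τ)).map θ₀ := ⟨_, rfl⟩
    rw [← hW] at e10
    have hWunit : W * (((y⁻¹ : GL (Fin n) (AutPSL.fixF D.τ)) :
        Matrix (Fin n) (Fin n) (AutPSL.fixF D.τ)).map θ₀ *
        ((b⁻¹ : GL (Fin n) (AutPSL.fixF D.τ)) : Matrix (Fin n) (Fin n) (AutPSL.fixF D.τ))) = 1 := by
      rw [hW]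
      calc (b : Matrix (Fin n) (Fin n) (AutPSL.fixF D.τ)) *
            (y : Matrix (Fin n) (Fin n) (AutPSL.fixF D.τ)).map θ₀ *
            (((y⁻¹ : GL (Fin n) (AutPSL.fixF D.τ)) :
              Matrix (Fin n) (Fin n) (AutPSL.fixF D.τ)).map θ₀ *
            ((b⁻¹ : GL (Fin n) (AutPSL.fixF D.τ)) : Matrix (Fin n) (Fin n) (AutPSL.fixF D.τ)))
          = (b : Matrix (Fin n) (Fin n) (AutPSL.fixF D.τ)) *
            (((y : Matrix (Fin n) (Fin n) (AutPSL.fixF D.τ)).map θ₀ *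
              ((y⁻¹ : GL (Fin n) (AutPSL.fixF D.τ)) :
                Matrix (Fin n) (Fin n) (AutPSL.fixF D.τ)).map θ₀) *
            ((b⁻¹ : GL (Fin n) (AutPSL.fixF D.τ)) :
              Matrix (Fin n) (Fin n) (AutPSL.fixF D.τ))) := by
            simp only [Matrix.mul_assoc]
        _ = 1 := by
            rw [← Matrix.map_mul, AutPSL.gl_mul_inv, AutPSL.map_one_sig, Matrix.one_mul,
              AutPSL.gl_mul_inv]
    have hW0 : W ≠ 0 := ne_zero_of_mul_eq_one (by omega) hWunit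
    have hWh0 : W.map (AutPSL.fixF D.τ).subtype ≠ 0 := by
      intro h0
      apply hW0
      apply Matrix.map_injective (AutPSL.fixF D.τ).subtype.injective
      show W.map (AutPSL.fixF D.τ).subtype =
        (0 : Matrix (Fin n) (Fin n) (AutPSL.fixF D.τ)).map (AutPSL.fixF D.τ).subtype
      rw [h0]
      ext i j
      simp
    -- `d'` is fixed
    have hd'fix : D.τ d' = d' := by
      have e11 := congrArg (fun M : Matrix (Fin n) (Fin n) F => M.map D.τ) e10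
      simp only [AutPSL.smul_map_sig, hι.tau_map] at e11
      rw [e10] at e11
      have e12 : (d' - D.τ d') • W.map (AutPSL.fixF D.τ).subtype = 0 := by
        rw [sub_smul, e11, sub_self]
      rcases smul_eq_zero.1 e12 with h | h
      · exact (sub_eq_zero.1 h).symm
      · exact absurd h hWh0
    obtain ⟨d₀, hd₀⟩ := hι.exists_apply hd'fix
    rw [← hd₀, ← Cfsg.Agent.Lib.H11.PSUGraph.map_smul_hom] at e10
    have e13 := Matrix.map_injective (AutPSL.fixF D.τ).subtype.injective e10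
    have hd₀0 : d₀ ≠ 0 := by
      rintro rfl
      rw [zero_smul] at e13
      have h4 : ((y * b : GL (Fin n) (AutPSL.fixF D.τ)) :
          Matrix (Fin n) (Fin n) (AutPSL.fixF D.τ)) = 0 := by
        rw [Units.val_mul]; exact e13
      have h5 := AutPSL.gl_mul_inv (y * b)
      rw [h4, Matrix.zero_mul] at h5
      have := congrFun (congrFun h5 ⟨0, by omega⟩) ⟨0, by omega⟩
      simp at this
    refine ⟨d₀⁻¹, ?_⟩
    rw [e13, smul_smul, inv_mul_cancel₀ hd₀0, one_smul, hW])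
  obtain ⟨hθ₀id, μ, hμ⟩ := hTc
  -- `θ` fixes the fixed field of `τ`
  have hθfix : ∀ x : F, D.τ x = x → θ x = x := by
    intro x hx
    have h2 := hθ₀id ⟨x, (AutPSL.mem_fixF_iff D.τ x).2 hx⟩
    rw [hθ₀] at h2
    exact congrArg Subtype.val h2
  have hθz : θ ∈ Subgroup.zpowers D.τ := mem_zpowers_of_fix D.τ θ hθfix
  have hθ2 : θ ^ 2 = 1 := by
    obtain ⟨k, rfl⟩ := Subgroup.mem_zpowers_iff.1 hθz
    rw [← zpow_natCast, ← _root_.zpow_mul, mul_comm, _root_.zpow_mul, zpow_natCast, sq,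
      tau_mul_tau D, _root_.one_zpow]
  have hθm : θ ^ (orderOf (cGU a * fU θ : MulAut (Cfsg.PSU n F q))) = 1 := by
    have h2 := pow_orderOf_eq_one (cGU a * fU θ : MulAut (Cfsg.PSU n F q))
    have h3 := congrArg (psiU D hn hall) h2
    rw [map_pow, psiU_apply, map_one] at h3
    exact h3
  have hθ1 : θ = 1 := by
    have h2 : orderOf θ ∣ 2 := orderOf_dvd_of_pow_eq_one hθ2
    have h3 : orderOf θ ∣ orderOf (cGU a * fU θ : MulAut (Cfsg.PSU n F q)) :=
      orderOf_dvd_of_pow_eq_one hθm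
    have h4 : orderOf θ ∣ Nat.gcd 2 (orderOf (cGU a * fU θ : MulAut (Cfsg.PSU n F q))) :=
      Nat.dvd_gcd h2 h3
    have h5 : Nat.gcd 2 (orderOf (cGU a * fU θ : MulAut (Cfsg.PSU n F q))) = 1 := by
      exact Nat.coprime_two_left.2 hodd
    rw [h5, Nat.dvd_one, orderOf_eq_one_iff] at h4
    exact h4
  subst hθ1
  rw [map_one, mul_one]
  rw [← map_one (cGU (n := n) (F := F) (q := q)), eq_comm, cGU_eq_iff D hn, mt_one]
  rw [map_ringAut_one] at hX
  have hXs : X = (l⁻¹ * (μ : F)) • (1 : Matrix (Fin n) (Fin n) F) := by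
    have h2 : l • X = (μ : F) • (1 : Matrix (Fin n) (Fin n) F) := by
      rw [← hb, hμ, Cfsg.Agent.Lib.H11.PSUGraph.map_smul_hom, Cfsg.Agent.Lib.H11.PSUGraph.map_one_hom]
      rfl
    rw [← smul_smul, ← h2, smul_smul, inv_mul_cancel₀ hl0, one_smul]
  refine ⟨l⁻¹ * (μ : F), ?_⟩
  calc mt a = (Pm * Pi) * mt a * (Pm * Pi) := by rw [hPPi, Matrix.one_mul, Matrix.mul_one]
    _ = Pm * (Pi * mt a * Pm) * Pi := by simp only [Matrix.mul_assoc]
    _ = (l⁻¹ * (μ : F)) • 1 := by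
        rw [← hX, hXs, Matrix.mul_smul, Matrix.smul_mul, Matrix.mul_one, hPPi]

end

end

section

open Matrix Cfsg.Agent.Lib.H13 Cfsg.Agent.Lib.H13.AutPSU Cfsg.Agent.Lib.H13.AutPO
  Cfsg.Agent.Lib.H11.PSUGraph Cfsg.Agent.Lib.H13.PSLBal

section

variable {F : Type*} [Field F] {n q : ℕ}

/-- `PSU_n(q)` has trivial centre -/
theorem conj_psu_injective (D : UF F q) (hn : 3 ≤ n) :
    Function.Injective (MulAut.conj : Cfsg.PSU n F q →* MulAut (Cfsg.PSU n F q)) := by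
  rw [injective_iff_map_eq_one]
  intro y hy
  obtain ⟨s, rfl⟩ := pr_surjective y
  rw [← cGU_suGU] at hy
  obtain ⟨l, hl⟩ := exists_scN_of_cGU_eq_one D hn hy
  rw [AutPSU.pr_eq_one_iff, Subgroup.mem_center_iff]
  intro t
  apply AutPSU.mat_injective
  have h1 : mat s = Matrix.scalar (Fin n) ((l : Fˣ) : F) := by
    rw [← suGU_coe, hl, scN_coe]
  show mat t * mat s = mat s * mat t
  rw [h1]
  exact (Matrix.scalar_commute _ (fun _ => Commute.all _ _) _).symm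

end

section

variable {F : Type*} [Field F] [Fintype F] {n q : ℕ}

/-- a non-scalar invertible matrix -/
theorem exists_nonscalar (K : Type*) [Field K] (hn : 2 ≤ n) :
    ∃ b : GL (Fin n) K, ¬ ∃ μ : K, (b : Matrix (Fin n) (Fin n) K) = μ • 1 := by
  have h01 : (⟨0, by omega⟩ : Fin n) ≠ ⟨1, by omega⟩ := by
    intro h; have := congrArg Fin.val h; simp at this
  refine ⟨Matrix.GeneralLinearGroup.mkOfDetNeZero
    (Matrix.transvection (⟨0, by omega⟩ : Fin n) ⟨1, by omega⟩ (1 : K)) (by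
      rw [Matrix.det_transvection_of_ne _ _ h01]; exact one_ne_zero), ?_⟩
  rintro ⟨μ, hμ⟩
  have := congrFun (congrFun hμ ⟨0, by omega⟩) ⟨1, by omega⟩
  simp [Matrix.GeneralLinearGroup.mkOfDetNeZero, Matrix.transvection,
    Matrix.one_apply_ne h01] at this

/-- the fixed points of a graph involution form a nontrivial group -/
theorem graphU_M_ne_bot (D : UF F q) (hn : 3 ≤ n)
    (E : EDat D) (g : ↥(Cfsg.GU n F q))
    (P : GL (Fin n) F) (B : GL (Fin n) (AutPSL.fixF D.τ))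
    (R : RData D (AutPSL.fixF D.τ).subtype E g P B)
    (Tc : ∀ (b : GL (Fin n) (AutPSL.fixF D.τ)) (θ₀ : AutPSL.fixF D.τ ≃+* AutPSL.fixF D.τ),
      (∀ y ∈ isoGrp (1 : AutPSL.fixF D.τ ≃+* AutPSL.fixF D.τ)
          (B : Matrix (Fin n) (Fin n) (AutPSL.fixF D.τ)),
        (y : Matrix (Fin n) (Fin n) (AutPSL.fixF D.τ)).det = 1 →
        ∃ c : AutPSL.fixF D.τ, (b : Matrix (Fin n) (Fin n) (AutPSL.fixF D.τ)) *
            (y : Matrix (Fin n) (Fin n) (AutPSL.fixF D.τ)).map θ₀ =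
          c • ((y : Matrix (Fin n) (Fin n) (AutPSL.fixF D.τ)) *
            (b : Matrix (Fin n) (Fin n) (AutPSL.fixF D.τ)))) →
      (∀ s, θ₀ s = s) ∧ ∃ μ : AutPSL.fixF D.τ,
        (b : Matrix (Fin n) (Fin n) (AutPSL.fixF D.τ)) = μ • 1) :
    Cfsg.Inn (Cfsg.PSU n F q) ⊓ Subgroup.centralizer {gamU D g} ≠ ⊥ := by
  classical
  have hι := isFix_subtype D
  obtain ⟨b, hb⟩ := exists_nonscalar (n := n) (AutPSL.fixF D.τ) (by omega)
  have hex : ∃ y ∈ isoGrp (1 : AutPSL.fixF D.τ ≃+* AutPSL.fixF D.τ)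
      (B : Matrix (Fin n) (Fin n) (AutPSL.fixF D.τ)),
      (y : Matrix (Fin n) (Fin n) (AutPSL.fixF D.τ)).det = 1 ∧
      ¬ ∃ s : AutPSL.fixF D.τ, (y : Matrix (Fin n) (Fin n) (AutPSL.fixF D.τ)) = s • 1 := by
    by_contra hcon
    push Not at hcon
    apply hb
    refine (Tc b 1 ?_).2
    intro y hy hdet
    obtain ⟨s, hs⟩ := hcon y hy hdet
    refine ⟨1, ?_⟩
    rw [map_ringAut_one, hs, one_smul, Matrix.mul_smul, Matrix.smul_mul, Matrix.mul_one,
      Matrix.one_mul]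
  obtain ⟨y, hy, hdet, hns⟩ := hex
  obtain ⟨x, hmt, hxM⟩ := exists_inn_of_iso D hn E g P B R y hy hdet
  intro hbot
  rw [hbot, Subgroup.mem_bot] at hxM
  rw [← map_one (cGU (n := n) (F := F) (q := q)), eq_comm, cGU_eq_iff D hn, mt_one] at hxM
  obtain ⟨d, hd⟩ := hxM
  apply hns
  have h1 : (y : Matrix (Fin n) (Fin n) (AutPSL.fixF D.τ)).map (AutPSL.fixF D.τ).subtype =
      d • (1 : Matrix (Fin n) (Fin n) F) := by
    have h2 : ((P⁻¹ : GL (Fin n) F) : Matrix (Fin n) (Fin n) F) * mt x *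
        (P : Matrix (Fin n) (Fin n) F) = ((P⁻¹ : GL (Fin n) F) : Matrix (Fin n) (Fin n) F) *
        (d • (1 : Matrix (Fin n) (Fin n) F)) * (P : Matrix (Fin n) (Fin n) F) := by rw [hd]
    rw [hmt, Matrix.mul_smul, Matrix.smul_mul, Matrix.mul_one, AutPSL.gl_inv_mul] at h2
    rw [← h2]
    calc (y : Matrix (Fin n) (Fin n) (AutPSL.fixF D.τ)).map (AutPSL.fixF D.τ).subtype
        = (((P⁻¹ : GL (Fin n) F) : Matrix (Fin n) (Fin n) F) * (P : Matrix (Fin n) (Fin n) F)) *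
          (y : Matrix (Fin n) (Fin n) (AutPSL.fixF D.τ)).map (AutPSL.fixF D.τ).subtype *
          (((P⁻¹ : GL (Fin n) F) : Matrix (Fin n) (Fin n) F) *
            (P : Matrix (Fin n) (Fin n) F)) := by
          rw [AutPSL.gl_inv_mul, Matrix.one_mul, Matrix.mul_one]
      _ = _ := by simp only [Matrix.mul_assoc]
  have hdfix : D.τ d = d := by
    have h3 := hι.tau_map (y : Matrix (Fin n) (Fin n) (AutPSL.fixF D.τ))
    rw [h1, AutPSL.smul_map_sig, AutPSL.map_one_sig] at h3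
    have := congrFun (congrFun h3 ⟨0, by omega⟩) ⟨0, by omega⟩
    simpa using this
  obtain ⟨d₀, hd₀⟩ := hι.exists_apply hdfix
  refine ⟨d₀, ?_⟩
  apply Matrix.map_injective (AutPSL.fixF D.τ).subtype.injective
  show (y : Matrix (Fin n) (Fin n) (AutPSL.fixF D.τ)).map (AutPSL.fixF D.τ).subtype =
    (d₀ • (1 : Matrix (Fin n) (Fin n) (AutPSL.fixF D.τ))).map (AutPSL.fixF D.τ).subtype
  rw [h1, Cfsg.Agent.Lib.H11.PSUGraph.map_smul_hom, Cfsg.Agent.Lib.H11.PSUGraph.map_one_hom, hd₀]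

end

end

section

open Matrix Cfsg.Agent.Lib.H13 Cfsg.Agent.Lib.H13.AutPSU Cfsg.Agent.Lib.H13.AutPO
  Cfsg.Agent.Lib.H11.PSUGraph Cfsg.Agent.Lib.H13.PSLBal

section

variable {F : Type*} [Field F] [Fintype F] {n q : ℕ}

/-- the two inputs for a graph involution with descent data -/
theorem graph_caseU_aux (D : UF F q) (r : ℕ) [Fact r.Prime] [CharP F r] (h2 : (2 : F) ≠ 0)
    (hn : 3 ≤ n) (hall : ∀ θ : Cfsg.PSU n F q ≃* Cfsg.PSU n F q, IsSemi θ)
    (𝒢 : Subgroup (MulAut (Cfsg.PSU n F q)))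
    (hinn : ∀ k : Cfsg.PSU n F q, MulAut.conj k ∈ 𝒢)
    (E : EDat D) (g : ↥(Cfsg.GU n F q)) (hord : orderOf (gamU D g) = 2)
    (P : GL (Fin n) F) (B : GL (Fin n) (AutPSL.fixF D.τ))
    (R : RData D (AutPSL.fixF D.τ).subtype E g P B)
    (Tc : ∀ (b : GL (Fin n) (AutPSL.fixF D.τ)) (θ₀ : AutPSL.fixF D.τ ≃+* AutPSL.fixF D.τ),
      (∀ y ∈ isoGrp (1 : AutPSL.fixF D.τ ≃+* AutPSL.fixF D.τ)
          (B : Matrix (Fin n) (Fin n) (AutPSL.fixF D.τ)),
        (y : Matrix (Fin n) (Fin n) (AutPSL.fixF D.τ)).det = 1 →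
        ∃ c : AutPSL.fixF D.τ, (b : Matrix (Fin n) (Fin n) (AutPSL.fixF D.τ)) *
            (y : Matrix (Fin n) (Fin n) (AutPSL.fixF D.τ)).map θ₀ =
          c • ((y : Matrix (Fin n) (Fin n) (AutPSL.fixF D.τ)) *
            (b : Matrix (Fin n) (Fin n) (AutPSL.fixF D.τ)))) →
      (∀ s, θ₀ s = s) ∧ ∃ μ : AutPSL.fixF D.τ,
        (b : Matrix (Fin n) (Fin n) (AutPSL.fixF D.τ)) = μ • 1) :
    ¬ HasNPC 2 ↥(𝒢 ⊓ Subgroup.centralizer {gamU D g}) ∧
      Cfsg.Inn (Cfsg.PSU n F q) ⊓ Subgroup.centralizer {gamU D g} ≠ ⊥ := by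
  classical
  refine ⟨?_, graphU_M_ne_bot D hn E g P B R Tc⟩
  have hinn' : Cfsg.Inn (Cfsg.PSU n F q) ≤ 𝒢 := by
    rintro _ ⟨k, rfl⟩
    exact hinn k
  have hg1 := graphU_g1 D r h2 hn g hord
  apply lemma_G (Cfsg.Inn (Cfsg.PSU n F q)) (cGU (n := n) (F := F) (q := q)).range 𝒢
    inn_le_range_cGU hinn' (gamU D g)
  · intro N hN hnorm hcop
    by_contra hne
    apply hg1
    rw [hasNPC_subgroup_iff]
    exact ⟨N, hN, hnorm, hcop, hne⟩
  · intro ρ hρ hodd hcentM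
    exact graphU_g2 D hn hall E g P B R Tc ρ hρ.2 hodd hcentM

/-- **graph involutions of `PSU_n(q)`, `q` odd**: the odd core of the centraliser is trivial and
the group of fixed points is not -/
theorem graph_caseU (D : UF F q) (r : ℕ) [Fact r.Prime] [CharP F r] (h2 : (2 : F) ≠ 0)
    (hn : 3 ≤ n) (hall : ∀ θ : Cfsg.PSU n F q ≃* Cfsg.PSU n F q, IsSemi θ)
    (𝒢 : Subgroup (MulAut (Cfsg.PSU n F q)))
    (hinn : ∀ k : Cfsg.PSU n F q, MulAut.conj k ∈ 𝒢)
    (g : ↥(Cfsg.GU n F q)) (hord : orderOf (gamU D g) = 2) :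
    ¬ HasNPC 2 ↥(𝒢 ⊓ Subgroup.centralizer {gamU D g}) ∧
      Cfsg.Inn (Cfsg.PSU n F q) ⊓ Subgroup.centralizer {gamU D g} ≠ ⊥ := by
  classical
  have hι := isFix_subtype D
  have h2K : (2 : AutPSL.fixF D.τ) ≠ 0 := two_ne_zero_fix D.τ h2
  have hcard : 3 ≤ Fintype.card (Fin n) := by rw [Fintype.card_fin]; exact hn
  have hσ1 : ∀ a : AutPSL.fixF D.τ, (1 : AutPSL.fixF D.τ ≃+* AutPSL.fixF D.τ) a = a :=
    fun a => rfl
  rcases (orderOf_gamU_eq_two_iff D hn g).1 hord with hg | hg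
  · -- symmetric
    obtain ⟨B, hB⟩ := exists_rel_of_gamU hι (EDat.plus D) g (by rw [EDat.plus_ε, one_smul, hg])
    have hBs := hB.symm_plus
    obtain ⟨g', P, hgg', R, -⟩ := hB.rdata
    rw [hgg'] at hord ⊢
    apply graph_caseU_aux D r h2 hn hall 𝒢 hinn (EDat.plus D) g' hord P B R
    intro b θ₀ hcent
    have hiso := exists_iso_sym (1 : AutPSL.fixF D.τ ≃+* AutPSL.fixF D.τ)
      (B : Matrix (Fin n) (Fin n) (AutPSL.fixF D.τ)) hσ1 hcard
    exact T_cent_sym (1 : AutPSL.fixF D.τ ≃+* AutPSL.fixF D.τ)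
      (B : Matrix (Fin n) (Fin n) (AutPSL.fixF D.τ)) hσ1
      (by rw [map_ringAut_one, one_smul, hBs])
      (Matrix.GeneralLinearGroup.det_ne_zero B) h2K hcard hiso b θ₀ hcent
  · -- alternating
    obtain ⟨B, hB⟩ := exists_rel_of_gamU hι (EDat.minus D) g
      (by rw [EDat.minus_ε, neg_smul, one_smul, hg])
    have hBs := hB.symm_minus
    obtain ⟨g', P, hgg', R, -⟩ := hB.rdata
    rw [hgg'] at hord ⊢
    apply graph_caseU_aux D r h2 hn hall 𝒢 hinn (EDat.minus D) g' hord P B R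
    intro b θ₀ hcent
    exact T_cent_alt (1 : AutPSL.fixF D.τ ≃+* AutPSL.fixF D.τ)
      (B : Matrix (Fin n) (Fin n) (AutPSL.fixF D.τ)) hσ1
      (by rw [map_ringAut_one, neg_smul, one_smul, hBs])
      (Matrix.GeneralLinearGroup.det_ne_zero B) h2K (by omega) b θ₀ hcent

end

end

end Cfsg.Agent.Lib.H13.PSUBal
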