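import Mathlib
import Cfsg.Agent.Lib.H13.PSUBal1

/-!
Local balance in `PSU_n(q)`, part 2 (helper13): the image `Msu` of `SU_n` over the fixed field of a field automorphism of odd order
(`muSU`, `Msu_le_inn`, `Msu_le_cent`, `Msu_conj`, `muSU_eq_one_iff`, `Msu_ne_bot`), `T_trU` (a semilinear map normalising a unitary
transvection preserves its centre), `cent_Msu_le`, the torus element `exists_torusU` and `coprime_of_Msu_coprime`.
-/

set_option autoImplicit false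
set_option linter.unusedSectionVars false
set_option linter.unusedVariables false
set_option linter.unusedSimpArgs false
set_option linter.deprecated false

namespace Cfsg.Agent.Lib.H13.PSUBal

section

open Matrix Cfsg.Agent.Lib.H13 Cfsg.Agent.Lib.H13.AutPSU Cfsg.Agent.Lib.H13.AutPO
  Cfsg.Agent.Lib.H11.PSUGraph Cfsg.Agent.Lib.H13.PSLBal

section

variable {F : Type*} [Field F] {n q q₀ : ℕ} (D : UF F q) (σ : F ≃+* F)
  (D₀ : UF (AutPSL.fixF σ) q₀)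
  (hc : ∀ x : AutPSL.fixF σ, (AutPSL.fixF σ).subtype (D₀.τ x) = D.τ ((AutPSL.fixF σ).subtype x))

theorem mt_jU (g : ↥(Cfsg.GU n (AutPSL.fixF σ) q₀)) :
    mt (jU D σ D₀ hc g) = (mt g).map (AutPSL.fixF σ).subtype := rfl

theorem mt_suGU {K : Type*} [Field K] {q₁ : ℕ} (s : ↥(Cfsg.SU n K q₁)) :
    mt (suGU s) = AutPSU.mat s := rfl

/-- an element of `GU` of determinant one comes from `SU` -/
theorem exists_suGU_of_det {K : Type*} [Field K] {q₁ : ℕ} (g : ↥(Cfsg.GU n K q₁))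
    (h : (mt g).det = 1) : ∃ s : ↥(Cfsg.SU n K q₁), suGU s = g := by
  refine ⟨⟨⟨mt g, h⟩, g.2⟩, ?_⟩
  apply Subtype.ext
  apply Units.ext
  rfl

/-- `SU_n(F^σ) → Aut(PSU_n(F))` -/
noncomputable def muSU : ↥(Cfsg.SU n (AutPSL.fixF σ) q₀) →* MulAut (Cfsg.PSU n F q) :=
  ((cGU (n := n) (F := F) (q := q)).comp (jU D σ D₀ hc)).comp suGU

theorem muSU_apply (s₀ : ↥(Cfsg.SU n (AutPSL.fixF σ) q₀)) :
    muSU D σ D₀ hc s₀ = cGU (jU D σ D₀ hc (suGU s₀)) := rfl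

/-- the group of fixed points over the fixed field -/
noncomputable def Msu : Subgroup (MulAut (Cfsg.PSU n F q)) := (muSU (n := n) D σ D₀ hc).range

theorem det_jU (g : ↥(Cfsg.GU n (AutPSL.fixF σ) q₀)) :
    (mt (jU D σ D₀ hc g)).det = (AutPSL.fixF σ).subtype (mt g).det := by
  rw [mt_jU]
  exact (RingHom.map_det (AutPSL.fixF σ).subtype (mt g)).symm

theorem muSU_eq_conj (s₀ : ↥(Cfsg.SU n (AutPSL.fixF σ) q₀)) :
    ∃ s : ↥(Cfsg.SU n F q), muSU D σ D₀ hc s₀ = MulAut.conj (AutPSU.pr s) := by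
  have hd : (mt (jU D σ D₀ hc (suGU s₀))).det = 1 := by
    rw [det_jU, mt_suGU, AutPSU.mat_det, map_one]
  obtain ⟨s, hs⟩ := exists_suGU_of_det _ hd
  exact ⟨s, by rw [muSU_apply, ← hs, cGU_suGU]⟩

theorem Msu_le_inn : Msu (n := n) D σ D₀ hc ≤ Cfsg.Inn (Cfsg.PSU n F q) := by
  rintro _ ⟨s₀, rfl⟩
  obtain ⟨s, hs⟩ := muSU_eq_conj D σ D₀ hc s₀
  rw [hs]
  exact ⟨_, rfl⟩

theorem Msu_le_range : Msu (n := n) D σ D₀ hc ≤
    ((cGU (n := n) (F := F) (q := q)).comp (jU D σ D₀ hc)).range := by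
  rintro _ ⟨s₀, rfl⟩
  exact ⟨suGU s₀, rfl⟩

theorem Msu_le_cent (hn : 3 ≤ n) {r : ℕ} (hr : 0 < r) (hσ : orderOf σ = r) :
    Msu (n := n) D σ D₀ hc ≤ Subgroup.centralizer {fU σ} := by
  intro x hx
  have h1 := Msu_le_range D σ D₀ hc hx
  rw [← centralizer_fU D σ D₀ hc hn hr hσ] at h1
  exact h1.2

/-- conjugation by the centraliser of `fU σ` in `Inndiag` preserves `M` -/
theorem Msu_conj (hn : 3 ≤ n) {r : ℕ} (hr : 0 < r) (hσ : orderOf σ = r)
    (ν : MulAut (Cfsg.PSU n F q))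
    (hν : ν ∈ (cGU (n := n) (F := F) (q := q)).range ⊓ Subgroup.centralizer {fU σ})
    (μ : MulAut (Cfsg.PSU n F q)) (hμ : μ ∈ Msu (n := n) D σ D₀ hc) :
    ν * μ * ν⁻¹ ∈ Msu (n := n) D σ D₀ hc := by
  rw [centralizer_fU D σ D₀ hc hn hr hσ] at hν
  obtain ⟨g₀, rfl⟩ := hν
  obtain ⟨s₀, rfl⟩ := hμ
  have hd : (mt (g₀ * suGU s₀ * g₀⁻¹)).det = 1 := by
    rw [mt_mul, mt_mul, Matrix.det_mul, Matrix.det_mul, mul_right_comm, ← Matrix.det_mul,
      mt_mul_inv, Matrix.det_one, one_mul, mt_suGU, AutPSU.mat_det]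
  obtain ⟨s₁, hs₁⟩ := exists_suGU_of_det _ hd
  refine ⟨s₁, ?_⟩
  rw [muSU_apply, muSU_apply, hs₁, MonoidHom.comp_apply, map_mul, map_mul, map_mul, map_mul,
    map_inv, map_inv]

/-- the kernel of `SU_n(F^σ) → Aut(PSU_n(F))` is the centre -/
theorem muSU_eq_one_iff (hn : 3 ≤ n) (s₀ : ↥(Cfsg.SU n (AutPSL.fixF σ) q₀)) :
    muSU D σ D₀ hc s₀ = 1 ↔ s₀ ∈ Subgroup.center ↥(Cfsg.SU n (AutPSL.fixF σ) q₀) := by
  constructor
  · intro h
    have h1 : suGU s₀ ∈ ((cGU (n := n) (F := F) (q := q)).comp (jU D σ D₀ hc)).ker := h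
    rw [ker_cGU_jU D σ D₀ hc hn, Subgroup.mem_subgroupOf, Cfsg.Geo.mem_scalars_iff] at h1
    obtain ⟨c, hcs⟩ := h1
    rw [Subgroup.mem_center_iff]
    intro t
    apply AutPSU.mat_injective
    show AutPSU.mat t * AutPSU.mat s₀ = AutPSU.mat s₀ * AutPSU.mat t
    have h2 : AutPSU.mat s₀ = (c : AutPSL.fixF σ) • 1 := hcs
    rw [h2, Matrix.mul_smul, Matrix.smul_mul, Matrix.mul_one, Matrix.one_mul]
  · intro h
    obtain ⟨c, hcs⟩ := scalar_of_mem_center D₀ (by omega) h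
    have h1 : AutPSU.mat s₀ = c • 1 := by
      apply Matrix.toLin'.injective
      apply LinearMap.ext
      intro v
      rw [Matrix.toLin'_apply, Matrix.toLin'_apply, Matrix.smul_mulVec, Matrix.one_mulVec]
      exact hcs v
    have h2 : suGU s₀ ∈ ((cGU (n := n) (F := F) (q := q)).comp (jU D σ D₀ hc)).ker := by
      rw [ker_cGU_jU D σ D₀ hc hn, Subgroup.mem_subgroupOf, Cfsg.Geo.mem_scalars_iff]
      have hc0 : c ≠ 0 := by
        rintro rfl
        rw [zero_smul] at h1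
        have h3 := AutPSU.mat_mul_inv s₀
        rw [h1, Matrix.zero_mul] at h3
        have := congrFun (congrFun h3 ⟨0, by omega⟩) ⟨0, by omega⟩
        simp at this
      exact ⟨Units.mk0 c hc0, h1⟩
    exact h2

theorem Msu_ne_bot (hn : 3 ≤ n) : Msu (n := n) D σ D₀ hc ≠ ⊥ := by
  obtain ⟨e, he0, he⟩ := exists_isotropic D₀ (by omega : 2 ≤ n)
  obtain ⟨a, ha, ha0⟩ := exists_skew_ne_zero D₀
  intro hbot
  have h1 : muSU D σ D₀ hc (EL D₀ e 0 a) ∈ Msu (n := n) D σ D₀ hc := ⟨_, rfl⟩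
  rw [hbot, Subgroup.mem_bot, muSU_eq_one_iff D σ D₀ hc hn] at h1
  exact tr_not_mem_center D₀ (by omega) he0 he ha ha0 h1

end

end

section

open Matrix Cfsg.Agent.Lib.H13 Cfsg.Agent.Lib.H13.AutPSU Cfsg.Agent.Lib.H13.AutPO
  Cfsg.Agent.Lib.H11.PSUGraph Cfsg.Agent.Lib.H13.PSLBal

section ttr

variable {K : Type*} [Field K] {n q₀ : ℕ} (D₀ : UF K q₀)

/-- a semilinear map normalising (projectively) a unitary transvection preserves its centre -/
theorem T_trU {e : Fin n → K} (he0 : e ≠ 0) (he : H D₀ e e = 0) {c : K} (hc : Skew D₀ c)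
    (hc0 : c ≠ 0) (Bm : GL (Fin n) K) (θ₀ : K ≃+* K) {d₁ : K}
    (h : (Bm : Matrix (Fin n) (Fin n) K) * (AutPSU.mat (EL D₀ e 0 c)).map θ₀ =
      d₁ • (AutPSU.mat (EL D₀ e 0 c) * (Bm : Matrix (Fin n) (Fin n) K))) :
    AutPSU.Par e (smv (Bm : Matrix (Fin n) (Fin n) K) θ₀ e) := by
  have hS := semi_comm h
  have htv : ∀ x, AutPSU.mat (EL D₀ e 0 c) *ᵥ x = x + (c * H D₀ x e) • e := fun x => sv_tr D₀ he hc x
  obtain ⟨w, hw⟩ : ∃ w, w = semi Bm θ₀ e := ⟨_, rfl⟩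
  have hw0 : w ≠ 0 := by rw [hw]; exact semi_ne_zero Bm θ₀ he0
  have hww : smv (Bm : Matrix (Fin n) (Fin n) K) θ₀ e = w := by rw [hw]; rfl
  rw [hww]
  have hte : AutPSU.mat (EL D₀ e 0 c) *ᵥ e = e := by
    rw [htv, he, mul_zero, zero_smul, add_zero]
  have h1 := hS e
  rw [hte, ← hw, htv] at h1
  by_cases hd1 : d₁ = 1
  · subst hd1
    simp only [one_smul] at h1 hS
    have hwe : H D₀ w e = 0 := by
      have h2 : (c * H D₀ w e) • e = 0 := by
        have := congrArg (fun v => v - w) h1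
        simpa using this.symm
      rcases smul_eq_zero.1 h2 with h3 | h3
      · rcases mul_eq_zero.1 h3 with h4 | h4
        · exact absurd h4 hc0
        · exact h4
      · exact absurd h3 he0
    obtain ⟨v, hv⟩ := exists_H_eq_one D₀ he0
    have h2 := hS v
    rw [htv, htv, semi_add, semi_smul, ← hw, hv, mul_one] at h2
    have h3 : θ₀ c • w = (c * H D₀ (semi Bm θ₀ v) e) • e := add_left_cancel h2
    have hne : θ₀ c ≠ 0 := (map_ne_zero_iff θ₀ θ₀.injective).2 hc0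
    have h4 : w = ((θ₀ c)⁻¹ * (c * H D₀ (semi Bm θ₀ v) e)) • e := by
      rw [← smul_smul, ← h3, smul_smul, inv_mul_cancel₀ hne, one_smul]
    refine ⟨_, ?_, h4⟩
    intro h0
    rw [h0, zero_smul] at h4
    exact hw0 h4
  · have h2 : (1 - d₁) • w = (d₁ * (c * H D₀ w e)) • e := by
      have h3 : w = d₁ • w + (d₁ * (c * H D₀ w e)) • e := by
        conv_lhs => rw [h1]
        rw [smul_add, smul_smul]
      rw [sub_smul, one_smul]
      nth_rw 1 [h3]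
      abel
    have hne : (1 - d₁) ≠ 0 := fun h0 => hd1 (sub_eq_zero.1 h0).symm
    have h4 : w = ((1 - d₁)⁻¹ * (d₁ * (c * H D₀ w e))) • e := by
      rw [← smul_smul, ← h2, smul_smul, inv_mul_cancel₀ hne, one_smul]
    refine ⟨_, ?_, h4⟩
    intro h0
    rw [h0, zero_smul] at h4
    exact hw0 h4

end ttr

end

section

open Matrix Cfsg.Agent.Lib.H13 Cfsg.Agent.Lib.H13.AutPSU Cfsg.Agent.Lib.H13.AutPO
  Cfsg.Agent.Lib.H11.PSUGraph Cfsg.Agent.Lib.H13.PSLBal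

section

variable {F : Type*} [Field F] {n : ℕ}

/-- a proportionality over `F` between matrices over the fixed field descends -/
theorem descend_rel (σ : F ≃+* F) {A W : Matrix (Fin n) (Fin n) (AutPSL.fixF σ)} {d : F}
    (hW : W ≠ 0)
    (h : A.map (AutPSL.fixF σ).subtype = d • W.map (AutPSL.fixF σ).subtype) :
    ∃ d₀ : AutPSL.fixF σ, (AutPSL.fixF σ).subtype d₀ = d ∧ A = d₀ • W := by
  have hne : ∃ i j, W i j ≠ 0 := by
    by_contra hcon
    push Not at hcon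
    apply hW
    ext i j
    rw [hcon i j]
    rfl
  obtain ⟨i, j, hij⟩ := hne
  have h1 := congrFun (congrFun h i) j
  simp only [Matrix.map_apply, Matrix.smul_apply, smul_eq_mul] at h1
  have hij' : (AutPSL.fixF σ).subtype (W i j) ≠ 0 :=
    (map_ne_zero_iff _ (AutPSL.fixF σ).subtype.injective).2 hij
  have hd : (AutPSL.fixF σ).subtype (A i j / W i j) = d := by
    rw [map_div₀, h1, mul_div_assoc, div_self hij', mul_one]
  refine ⟨A i j / W i j, hd, ?_⟩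
  apply Matrix.map_injective (AutPSL.fixF σ).subtype.injective
  show A.map (AutPSL.fixF σ).subtype = ((A i j / W i j) • W).map (AutPSL.fixF σ).subtype
  rw [Cfsg.Agent.Lib.H11.PSUGraph.map_smul_hom, hd, h]

end

section

variable {F : Type*} [Field F] {n q q₀ : ℕ} (D : UF F q) (σ : F ≃+* F)
  (D₀ : UF (AutPSL.fixF σ) q₀)
  (hc : ∀ x : AutPSL.fixF σ, (AutPSL.fixF σ).subtype (D₀.τ x) = D.τ ((AutPSL.fixF σ).subtype x))

set_option maxHeartbeats 1600000 in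
/-- the centraliser of `M` in the centraliser of the field automorphism -/
theorem cent_Msu_le [Finite F] (hn : 3 ≤ n)
    (hall : ∀ θ : Cfsg.PSU n F q ≃* Cfsg.PSU n F q, IsSemi θ)
    {p : ℕ} (hp : 0 < p) (hσ : orderOf σ = p)
    (ρ : MulAut (Cfsg.PSU n F q)) (hρ : ρ * fU σ = fU σ * ρ)
    (hρM : ∀ μ ∈ Msu (n := n) D σ D₀ hc, ρ * μ = μ * ρ) :
    ρ ∈ Subgroup.zpowers (fU (n := n) (q := q) σ) := by
  classical
  obtain ⟨a, θ, rfl⟩ := exists_formU hall ρ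
  have h1 : (cGU a * fU θ : MulAut (Cfsg.PSU n F q)) * (cGU 1 * fU σ) =
      (cGU 1 * fU σ) * (cGU a * fU θ) := by
    rw [map_one, one_mul]
    exact hρ
  obtain ⟨hθσ, -⟩ := comm_mat D hn a 1 θ σ h1
  have hcomm : ∀ x, θ (σ x) = σ (θ x) := fun x => RingEquiv.congr_fun hθσ x
  have hff : (fU θ : MulAut (Cfsg.PSU n F q)) * fU σ = fU σ * fU θ := by
    rw [← map_mul, ← map_mul, hθσ]
  have ha : cGU a ∈ (cGU (n := n) (F := F) (q := q)).range ⊓ Subgroup.centralizer {fU σ} := by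
    refine ⟨⟨a, rfl⟩, ?_⟩
    show cGU a ∈ Subgroup.centralizer {fU σ}
    rw [Subgroup.mem_centralizer_iff]
    rintro _ rfl
    have h2 : (cGU a * fU σ : MulAut (Cfsg.PSU n F q)) * fU θ = fU σ * cGU a * fU θ := by
      rw [mul_assoc, ← hff, ← mul_assoc, hρ, mul_assoc]
    exact (mul_right_cancel h2).symm
  rw [centralizer_fU D σ D₀ hc hn hp hσ] at ha
  obtain ⟨b', hb'⟩ := ha
  rw [MonoidHom.comp_apply] at hb'
  rw [← hb'] at hρM ⊢
  obtain ⟨θ₀, hθ₀⟩ : ∃ θ₀ : AutPSL.fixF σ ≃+* AutPSL.fixF σ, θ₀ = resF σ θ hcomm := ⟨_, rfl⟩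
  have hθ₀map : ∀ Y : Matrix (Fin n) (Fin n) (AutPSL.fixF σ),
      (Y.map (AutPSL.fixF σ).subtype).map θ = (Y.map θ₀).map (AutPSL.fixF σ).subtype := by
    intro Y
    ext i j
    rw [hθ₀]
    rfl
  have hpar : ∀ x : Fin n → AutPSL.fixF σ, x ≠ 0 → H D₀ x x = 0 →
      AutPSU.Par x (smv ((b' : GL (Fin n) (AutPSL.fixF σ)) :
        Matrix (Fin n) (Fin n) (AutPSL.fixF σ)) θ₀ x) := by
    intro x hx0 hxx
    obtain ⟨c, hcs, hc0⟩ := exists_skew_ne_zero D₀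
    obtain ⟨s₀, hs₀⟩ : ∃ s₀ : ↥(Cfsg.SU n (AutPSL.fixF σ) q₀), s₀ = EL D₀ x 0 c := ⟨_, rfl⟩
    have h2 := hρM _ ⟨s₀, rfl⟩
    rw [muSU_apply] at h2
    have h3 : (cGU (jU D σ D₀ hc b') * fU θ : MulAut (Cfsg.PSU n F q)) *
        (cGU (jU D σ D₀ hc (suGU s₀)) * fU 1) =
        (cGU (jU D σ D₀ hc (suGU s₀)) * fU 1) * (cGU (jU D σ D₀ hc b') * fU θ) := by
      rw [map_one, mul_one]
      exact h2
    obtain ⟨-, d, hd⟩ := comm_mat D hn _ _ θ 1 h3
    rw [map_ringAut_one, mt_jU, mt_jU, mt_suGU, hθ₀map, ← Matrix.map_mul, ← Matrix.map_mul] at hd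
    have hWinv : (mt b' * (AutPSU.mat s₀).map θ₀) *
        ((AutPSU.mat s₀⁻¹).map θ₀ * mt b'⁻¹) = 1 := by
      calc mt b' * (AutPSU.mat s₀).map θ₀ * ((AutPSU.mat s₀⁻¹).map θ₀ * mt b'⁻¹)
          = mt b' * (((AutPSU.mat s₀).map θ₀ * (AutPSU.mat s₀⁻¹).map θ₀) * mt b'⁻¹) := by
            simp only [Matrix.mul_assoc]
        _ = 1 := by
            rw [← Matrix.map_mul, AutPSU.mat_mul_inv, AutPSL.map_one_sig, Matrix.one_mul,
              mt_mul_inv]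
    have hW0 := ne_zero_of_mul_eq_one (by omega : 1 ≤ n) hWinv
    obtain ⟨d₀, -, hd₀⟩ := descend_rel σ hW0 hd
    have hd₀0 : d₀ ≠ 0 := by
      rintro rfl
      rw [zero_smul] at hd₀
      have h4 : (AutPSU.mat s₀ * mt b') * (mt b'⁻¹ * AutPSU.mat s₀⁻¹) = 1 := by
        calc AutPSU.mat s₀ * mt b' * (mt b'⁻¹ * AutPSU.mat s₀⁻¹)
            = AutPSU.mat s₀ * ((mt b' * mt b'⁻¹) * AutPSU.mat s₀⁻¹) := by
              simp only [Matrix.mul_assoc]
          _ = 1 := by rw [mt_mul_inv, Matrix.one_mul, AutPSU.mat_mul_inv]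
      exact ne_zero_of_mul_eq_one (by omega : 1 ≤ n) h4 hd₀
    have h5 : mt b' * (AutPSU.mat s₀).map θ₀ = d₀⁻¹ • (AutPSU.mat s₀ * mt b') := by
      rw [hd₀, smul_smul, inv_mul_cancel₀ hd₀0, one_smul]
    rw [hs₀] at h5
    exact T_trU D₀ hx0 hxx hcs hc0 (b' : GL (Fin n) (AutPSL.fixF σ)) θ₀ h5
  obtain ⟨hθ₀r, c, hcs⟩ := scalar_of_fix_all (D := D₀) hn b'.2 θ₀ hpar
  -- `θ` is a power of `σ`
  have hθfix : ∀ x : F, σ x = x → θ x = x := by
    intro x hx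
    have h2 := RingEquiv.congr_fun hθ₀r ⟨x, (AutPSL.mem_fixF_iff σ x).2 hx⟩
    rw [hθ₀] at h2
    exact congrArg Subtype.val h2
  have hθz : θ ∈ Subgroup.zpowers σ := mem_zpowers_of_fix σ θ hθfix
  -- `b'` is scalar
  have hbs : mt b' = c • 1 := by
    apply Matrix.toLin'.injective
    apply LinearMap.ext
    intro v
    rw [Matrix.toLin'_apply, Matrix.toLin'_apply, Matrix.smul_mulVec, Matrix.one_mulVec]
    exact hcs v
  have hb1 : cGU (jU D σ D₀ hc b') = 1 := by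
    rw [← map_one (cGU (n := n) (F := F) (q := q)), eq_comm, cGU_eq_iff D hn, mt_one, mt_jU, hbs,
      Cfsg.Agent.Lib.H11.PSUGraph.map_smul_hom, Cfsg.Agent.Lib.H11.PSUGraph.map_one_hom]
    exact ⟨_, rfl⟩
  rw [hb1, one_mul]
  obtain ⟨k, rfl⟩ := Subgroup.mem_zpowers_iff.1 hθz
  rw [map_zpow]
  exact Subgroup.zpow_mem_zpowers _ k

end

end

section

open Matrix Cfsg.Agent.Lib.H13 Cfsg.Agent.Lib.H13.AutPSU Cfsg.Agent.Lib.H13.AutPO
  Cfsg.Agent.Lib.H11.PSUGraph Cfsg.Agent.Lib.H13.PSLBal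

section

variable {K : Type*} [Field K] {n q₁ : ℕ}

theorem mt_pow (g : ↥(Cfsg.GU n K q₁)) (k : ℕ) : mt (g ^ k) = mt g ^ k := by
  induction k with
  | zero => rw [pow_zero, pow_zero]; rfl
  | succ k ih => rw [pow_succ, pow_succ, mt_mul, ih]

/-- the torus element `diag(a, a⁻¹, 1, …, 1)` of `SU` -/
theorem exists_torusU (D₁ : UF K q₁) (hn : 3 ≤ n) (a : ↥(N1 K q₁)) :
    ∃ s : ↥(Cfsg.SU n K q₁), AutPSU.mat s =
      Matrix.diagonal (fun k => Function.update (1 : Fin n → K) ⟨0, by omega⟩ ((a : Kˣ) : K) k *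
        Function.update (1 : Fin n → K) ⟨1, by omega⟩ (((a⁻¹ : ↥(N1 K q₁)) : Kˣ) : K) k) := by
  obtain ⟨t, ht⟩ : ∃ t : ↥(Cfsg.GU n K q₁), t = dgN D₁ ⟨0, by omega⟩ a * dgN D₁ ⟨1, by omega⟩ a⁻¹ :=
    ⟨_, rfl⟩
  have hdet : detN D₁ t = 1 := by
    rw [ht, map_mul, detN_dgN, detN_dgN, mul_inv_cancel]
  have hd : (mt t).det = 1 := by
    have h1 := detN_coe D₁ t
    rw [hdet] at h1
    exact h1.symm
  obtain ⟨s, hs⟩ := exists_suGU_of_det t hd
  refine ⟨s, ?_⟩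
  rw [← mt_suGU, hs, ht, mt_mul]
  show ((AutPSL.dg _ _ : GL (Fin n) K) : Matrix (Fin n) (Fin n) K) *
    ((AutPSL.dg _ _ : GL (Fin n) K) : Matrix (Fin n) (Fin n) K) = _
  rw [AutPSL.dg_coe, AutPSL.dg_coe, Matrix.diagonal_mul_diagonal]
  rfl

end

section

variable {F : Type*} [Field F] [Fintype F] {n q q₀ : ℕ} (D : UF F q) (σ : F ≃+* F)
  (D₀ : UF (AutPSL.fixF σ) q₀)
  (hc : ∀ x : AutPSL.fixF σ, (AutPSL.fixF σ).subtype (D₀.τ x) = D.τ ((AutPSL.fixF σ).subtype x))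

theorem dvd_card_Msu_of (hn : 3 ≤ n) {p : ℕ} (hp : p.Prime)
    (s : ↥(Cfsg.SU n (AutPSL.fixF σ) q₀))
    (h1 : s ^ p ∈ Subgroup.center ↥(Cfsg.SU n (AutPSL.fixF σ) q₀))
    (h2 : s ∉ Subgroup.center ↥(Cfsg.SU n (AutPSL.fixF σ) q₀)) :
    p ∣ Nat.card ↥(Msu (n := n) D σ D₀ hc) := by
  haveI : Fact p.Prime := ⟨hp⟩
  have h3 : orderOf (⟨muSU D σ D₀ hc s, ⟨s, rfl⟩⟩ : ↥(Msu (n := n) D σ D₀ hc)) = p := by
    apply orderOf_eq_prime
    · apply Subtype.ext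
      show (muSU D σ D₀ hc s) ^ p = 1
      rw [← map_pow, muSU_eq_one_iff D σ D₀ hc hn]
      exact h1
    · intro h
      apply h2
      rw [← muSU_eq_one_iff D σ D₀ hc hn]
      exact congrArg Subtype.val h
  rw [← h3]
  exact orderOf_dvd_natCard _

set_option maxHeartbeats 1600000 in
theorem coprime_of_Msu_coprime (hn : 3 ≤ n) {p : ℕ} (hp : p.Prime) (hσ : orderOf σ = p)
    (hM : (Nat.card ↥(Msu (n := n) D σ D₀ hc)).Coprime p) :
    (Nat.card ↥(Cfsg.Inn (Cfsg.PSU n F q) ⊓ Subgroup.centralizer {fU σ})).Coprime p := by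
  classical
  haveI : Fact p.Prime := ⟨hp⟩
  have hnot : ¬ p ∣ Nat.card ↥(Msu (n := n) D σ D₀ hc) := by
    intro h
    have := Nat.dvd_gcd h (dvd_refl p)
    rw [Nat.Coprime] at hM
    rw [hM] at this
    exact hp.one_lt.ne' (Nat.dvd_one.1 this)
  rw [Nat.coprime_comm, Nat.Prime.coprime_iff_not_dvd hp]
  intro hdvd
  obtain ⟨ν, hν⟩ := exists_prime_orderOf_dvd_card' p hdvd
  have hν1 : orderOf (ν : MulAut (Cfsg.PSU n F q)) = p := by
    rw [← hν]
    exact (Subgroup.orderOf_coe ν)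
  have hmem : (ν : MulAut (Cfsg.PSU n F q)) ∈
      (cGU (n := n) (F := F) (q := q)).range ⊓ Subgroup.centralizer {fU σ} :=
    ⟨inn_le_range_cGU ν.2.1, ν.2.2⟩
  rw [centralizer_fU D σ D₀ hc hn hp.pos hσ] at hmem
  obtain ⟨g₁, hg₁⟩ := hmem
  rw [MonoidHom.comp_apply] at hg₁
  haveI : Finite (AutPSL.fixF σ) := inferInstance
  obtain ⟨m, hm⟩ : ∃ m, m = Nat.card ↥(N1 (AutPSL.fixF σ) q₀) := ⟨_, rfl⟩
  have hdetm : detN D₀ (g₁ ^ m) = 1 := by
    rw [map_pow, hm]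
    exact pow_card_eq_one'
  have hd : (mt (g₁ ^ m)).det = 1 := by
    have h1 := detN_coe D₀ (g₁ ^ m)
    rw [hdetm] at h1
    exact h1.symm
  obtain ⟨s₁, hs₁⟩ := exists_suGU_of_det _ hd
  have hνm : (ν : MulAut (Cfsg.PSU n F q)) ^ m = muSU D σ D₀ hc s₁ := by
    rw [muSU_apply, hs₁, map_pow, map_pow, hg₁]
  have hνm1 : (ν : MulAut (Cfsg.PSU n F q)) ^ m = 1 := by
    have h1 : orderOf (⟨muSU D σ D₀ hc s₁, ⟨s₁, rfl⟩⟩ : ↥(Msu (n := n) D σ D₀ hc)) ∣ p := by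
      apply orderOf_dvd_of_pow_eq_one
      apply Subtype.ext
      show (muSU D σ D₀ hc s₁) ^ p = 1
      rw [← hνm, ← pow_mul, mul_comm, pow_mul, ← hν1, pow_orderOf_eq_one, one_pow]
    have h2 : orderOf (⟨muSU D σ D₀ hc s₁, ⟨s₁, rfl⟩⟩ : ↥(Msu (n := n) D σ D₀ hc)) ∣
        Nat.card ↥(Msu (n := n) D σ D₀ hc) := orderOf_dvd_natCard _
    have h3 := Nat.dvd_gcd h2 h1
    rw [Nat.Coprime] at hM
    rw [hM, Nat.dvd_one, orderOf_eq_one_iff] at h3
    rw [hνm]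
    exact congrArg Subtype.val h3
  have hpm : p ∣ Nat.card ↥(N1 (AutPSL.fixF σ) q₀) := by
    rw [← hm, ← hν1]
    exact orderOf_dvd_of_pow_eq_one hνm1
  obtain ⟨a, ha⟩ := exists_prime_orderOf_dvd_card' p hpm
  have ha1 : a ≠ 1 := by
    intro h
    rw [h, orderOf_one] at ha
    exact hp.one_lt.ne ha
  obtain ⟨s, hs⟩ := exists_torusU D₀ hn a
  apply hnot
  apply dvd_card_Msu_of D σ D₀ hc hn hp s
  · have h1 : s ^ p = 1 := by
      apply AutPSU.mat_injective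
      have e0 : AutPSU.mat (s ^ p) = AutPSU.mat s ^ p := by
        rw [← mt_suGU, map_pow, mt_pow, mt_suGU]
      rw [e0, hs, Matrix.diagonal_pow]
      show Matrix.diagonal _ = (1 : Matrix (Fin n) (Fin n) (AutPSL.fixF σ))
      rw [← Matrix.diagonal_one]
      congr 1
      funext k
      rw [Pi.pow_apply, mul_pow]
      have e1 : (((a : (AutPSL.fixF σ)ˣ) : AutPSL.fixF σ)) ^ p = 1 := by
        have h3 : a ^ p = 1 := by rw [← ha, pow_orderOf_eq_one]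
        have := congrArg (fun x : ↥(N1 (AutPSL.fixF σ) q₀) =>
          ((x : (AutPSL.fixF σ)ˣ) : AutPSL.fixF σ)) h3
        simpa using this
      have e2 : ((((a⁻¹ : ↥(N1 (AutPSL.fixF σ) q₀)) : (AutPSL.fixF σ)ˣ) : AutPSL.fixF σ)) ^ p
          = 1 := by
        have h3 : (a⁻¹) ^ p = 1 := by rw [inv_pow, ← ha, pow_orderOf_eq_one, inv_one]
        have := congrArg (fun x : ↥(N1 (AutPSL.fixF σ) q₀) =>
          ((x : (AutPSL.fixF σ)ˣ) : AutPSL.fixF σ)) h3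
        simpa using this
      by_cases hk0 : k = ⟨0, by omega⟩
      · subst hk0
        have hne : (⟨0, by omega⟩ : Fin n) ≠ ⟨1, by omega⟩ := by
          intro h; have := congrArg Fin.val h; simp at this
        rw [Function.update_self, Function.update_of_ne hne, e1]
        simp
      · by_cases hk1 : k = ⟨1, by omega⟩
        · subst hk1
          rw [Function.update_of_ne hk0, Function.update_self, e2]
          simp
        · rw [Function.update_of_ne hk0, Function.update_of_ne hk1]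
          simp
    rw [h1]
    exact Subgroup.one_mem _
  · intro hcen
    obtain ⟨c, hcs⟩ := scalar_of_mem_center D₀ (by omega) hcen
    have h02 : (⟨2, by omega⟩ : Fin n) ≠ ⟨0, by omega⟩ := by
      intro h; have := congrArg Fin.val h; simp at this
    have h12 : (⟨2, by omega⟩ : Fin n) ≠ ⟨1, by omega⟩ := by
      intro h; have := congrArg Fin.val h; simp at this
    have h01 : (⟨0, by omega⟩ : Fin n) ≠ ⟨1, by omega⟩ := by
      intro h; have := congrArg Fin.val h; simp at this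
    have e2 := congrFun (hcs (Pi.single ⟨2, by omega⟩ 1)) ⟨2, by omega⟩
    have e0 := congrFun (hcs (Pi.single ⟨0, by omega⟩ 1)) ⟨0, by omega⟩
    unfold AutPSU.sv at e0 e2
    rw [hs, Matrix.mulVec_diagonal] at e0 e2
    simp only [Function.update_of_ne h02, Function.update_of_ne h12, Function.update_self,
      Function.update_of_ne h01, Pi.one_apply, mul_one, one_mul, Pi.single_eq_same,
      Pi.smul_apply, smul_eq_mul] at e0 e2
    apply ha1
    apply Subtype.ext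
    apply Units.ext
    rw [e0, ← e2]
    rfl

end

end

end Cfsg.Agent.Lib.H13.PSUBal
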