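import Mathlib
import Cfsg.Agent.Lib.H13.PSUBal2
import Cfsg.Agent.Lib.H11.UnitarySimple6
import Cfsg.Agent.Lib.H2.Unitary4
import Cfsg.Agent.S0282

/-!
Local balance in `PSU_n(q)`, part 3 (helper13): normal subgroups of `SU_n(q)` (`normal_dichotomyU`, from helper11), `Msu_eq_of_normal`,
normal subgroups of `Msu` of order a power of the characteristic are trivial (`Msu_normal_pgroup_bot`), the exceptional case
`SU_3(2)` (`hkey32`), `core_fSU`, `field_caseU` and the general statement `s2687_gen`.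
-/

set_option autoImplicit false
set_option linter.unusedSectionVars false
set_option linter.unusedVariables false
set_option linter.unusedSimpArgs false
set_option linter.deprecated false

namespace Cfsg.Agent.Lib.H13.PSUBal

section

open Matrix Cfsg.Agent.Lib.H13 Cfsg.Agent.Lib.H13.AutPSU Cfsg.Agent.Lib.H13.AutPO
  Cfsg.Agent.Lib.H11.PSUGraph Cfsg.Agent.Lib.H13.PSLBal

section

variable {K : Type*} [Field K] [Fintype K] {n q₁ : ℕ}

/-- a normal subgroup of `SU_n(q)` is central or everything -/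
theorem normal_dichotomyU (D₁ : UF K q₁) (hK : Fintype.card K = q₁ ^ 2) (hn : 3 ≤ n)
    (h32 : ¬ (n = 3 ∧ q₁ = 2)) (N : Subgroup ↥(Cfsg.SU n K q₁)) (hN : N.Normal) :
    N ≤ Subgroup.center ↥(Cfsg.SU n K q₁) ∨ N = ⊤ := by
  have hφne : (D₁.τ : K →+* K) ≠ RingHom.id K := by
    intro h
    obtain ⟨a, ha⟩ := D₁.hne
    apply ha
    have := RingHom.congr_fun h a
    simpa using this
  have hNm : (N.map (Cfsg.Agent.Lib.H11.USimple.suIso (n := n) (q := q₁) (F := K)).toMonoidHom).Normal :=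
    Subgroup.Normal.map hN _ (Cfsg.Agent.Lib.H11.USimple.suIso (n := n) (q := q₁) (F := K)).surjective
  rcases Cfsg.Agent.Lib.H11.USimple.dichotomy (D₁.τ : K →+* K) hK (fun x => D₁.hτ x)
    (fun x => D₁.hτ2 x) hφne hn h32 _ hNm with h | h
  · left
    intro s hs
    have h1 : Cfsg.Agent.Lib.H11.USimple.suIso s ∈ Subgroup.center _ := h ⟨s, hs, rfl⟩
    rw [Subgroup.mem_center_iff] at h1 ⊢
    intro t
    apply (Cfsg.Agent.Lib.H11.USimple.suIso (n := n) (q := q₁) (F := K)).injective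
    rw [map_mul, map_mul]
    exact h1 _
  · right
    rw [eq_top_iff]
    intro s _
    have h1 : Cfsg.Agent.Lib.H11.USimple.suIso s ∈
        N.map (Cfsg.Agent.Lib.H11.USimple.suIso (n := n) (q := q₁) (F := K)).toMonoidHom := by
      rw [h]; trivial
    obtain ⟨s', hs', hss'⟩ := h1
    have : s' = s := (Cfsg.Agent.Lib.H11.USimple.suIso (n := n) (q := q₁) (F := K)).injective hss'
    rw [← this]
    exact hs'

end

section

variable {F : Type*} [Field F] [Fintype F] {n q q₀ : ℕ} (D : UF F q) (σ : F ≃+* F)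
  (D₀ : UF (AutPSL.fixF σ) q₀)
  (hc : ∀ x : AutPSL.fixF σ, (AutPSL.fixF σ).subtype (D₀.τ x) = D.τ ((AutPSL.fixF σ).subtype x))

/-- a nontrivial normal subgroup of `M` is all of `M` (generic case) -/
theorem Msu_eq_of_normal [Fintype (AutPSL.fixF σ)] (hK : Fintype.card (AutPSL.fixF σ) = q₀ ^ 2)
    (hn : 3 ≤ n) (h32 : ¬ (n = 3 ∧ q₀ = 2))
    (N' : Subgroup (MulAut (Cfsg.PSU n F q))) (hN'M : N' ≤ Msu (n := n) D σ D₀ hc)
    (hnorm : ∀ μ ∈ Msu (n := n) D σ D₀ hc, ∀ ν ∈ N', μ * ν * μ⁻¹ ∈ N') (hne : N' ≠ ⊥) :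
    N' = Msu (n := n) D σ D₀ hc := by
  have hNn : (N'.comap (muSU (n := n) D σ D₀ hc)).Normal := by
    constructor
    intro x hx y
    rw [Subgroup.mem_comap] at hx ⊢
    rw [map_mul, map_mul, map_inv]
    exact hnorm _ ⟨y, rfl⟩ _ hx
  rcases normal_dichotomyU D₀ hK hn h32 _ hNn with h | h
  · exfalso
    apply hne
    rw [eq_bot_iff]
    intro ν hν
    obtain ⟨s₀, rfl⟩ := hN'M hν
    rw [Subgroup.mem_bot, muSU_eq_one_iff D σ D₀ hc hn]
    exact h hν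
  · apply le_antisymm hN'M
    rintro _ ⟨s₀, rfl⟩
    have : s₀ ∈ N'.comap (muSU (n := n) D σ D₀ hc) := by rw [h]; trivial
    exact this

end

end

section

open Matrix Cfsg.Agent.Lib.H13 Cfsg.Agent.Lib.H13.AutPSU Cfsg.Agent.Lib.H13.AutPO
  Cfsg.Agent.Lib.H11.PSUGraph Cfsg.Agent.Lib.H13.PSLBal

section

/-- a normal `p`-subgroup lies in every Sylow `p`-subgroup -/
theorem normal_pgroup_le_sylow {G : Type*} [Group G] [Finite G] (p : ℕ) [Fact p.Prime]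
    (N : Subgroup G) [hN : N.Normal] (hp : IsPGroup p N) (P : Sylow p G) : N ≤ P := by
  obtain ⟨Q, hQ⟩ := hp.exists_le_sylow
  obtain ⟨g, hg⟩ := MulAction.exists_smul_eq G Q P
  intro x hx
  rw [← hg]
  show x ∈ ((g • Q : Sylow p G) : Subgroup G)
  rw [Sylow.coe_subgroup_smul, Subgroup.mem_pointwise_smul_iff_inv_smul_mem]
  simp only [MulAut.smul_def, MulAut.conj_inv_apply]
  apply hQ
  have := hN.conj_mem x hx g⁻¹
  rwa [inv_inv] at this

end

section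

variable {F : Type*} [Field F] [Fintype F] {n q q₀ : ℕ} (D : UF F q) (σ : F ≃+* F)
  (D₀ : UF (AutPSL.fixF σ) q₀)
  (hc : ∀ x : AutPSL.fixF σ, (AutPSL.fixF σ).subtype (D₀.τ x) = D.τ ((AutPSL.fixF σ).subtype x))

/-- every Sylow subgroup of `SU` in the defining characteristic fixes a multiple of a given
isotropic vector -/
theorem exists_sylow_fix {K : Type*} [Field K] [Fintype K] {q₁ : ℕ} (D₁ : UF K q₁) (r : ℕ)
    [Fact r.Prime] [CharP K r] (hn : 2 ≤ n) {v : Fin n → K} (hv0 : v ≠ 0) (hv : H D₁ v v = 0) :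
    ∃ P : Sylow r ↥(Cfsg.SU n K q₁), ∀ s ∈ P, AutPSU.sv s v = v := by
  obtain ⟨P, hP⟩ := (isPGroup_Qg D₁ r hv).exists_le_sylow
  obtain ⟨e, he0, he, hfix, hQ, -⟩ := sylow_SU D₁ r hn P
  obtain ⟨c, hce⟩ := par_of_Qg_fix D₁ hv0 hv (fun g hg => hfix g (hP hg))
  have hc0 : c ≠ 0 := by
    rintro rfl
    rw [zero_smul] at hce
    exact he0 hce
  refine ⟨P, ?_⟩
  intro s hs
  have h1 := hfix s hs
  rw [hce, AutPSU.sv_smul] at h1
  exact smul_right_injective _ hc0 h1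

set_option maxHeartbeats 800000 in
/-- a normal subgroup of `M` which is a group of order a power of the characteristic is trivial -/
theorem Msu_normal_pgroup_bot (hn : 3 ≤ n) (r : ℕ) [Fact r.Prime] [CharP (AutPSL.fixF σ) r]
    (N' : Subgroup (MulAut (Cfsg.PSU n F q))) (hN'M : N' ≤ Msu (n := n) D σ D₀ hc)
    (hnorm : ∀ μ ∈ Msu (n := n) D σ D₀ hc, ∀ ν ∈ N', μ * ν * μ⁻¹ ∈ N')
    (hpg : IsPGroup r N') : N' = ⊥ := by
  classical
  haveI : Fintype (AutPSL.fixF σ) := Fintype.ofFinite _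
  obtain ⟨f, hf⟩ : ∃ f : ↥(Cfsg.SU n (AutPSL.fixF σ) q₀) →* ↥(Msu (n := n) D σ D₀ hc),
      f = (muSU (n := n) D σ D₀ hc).rangeRestrict := ⟨_, rfl⟩
  have hfs : Function.Surjective f := by
    rw [hf]; exact MonoidHom.rangeRestrict_surjective _
  have hfv : ∀ s, ((f s : ↥(Msu (n := n) D σ D₀ hc)) : MulAut (Cfsg.PSU n F q)) =
      muSU D σ D₀ hc s := by
    intro s; rw [hf]; rfl
  obtain ⟨N'', hN''⟩ : ∃ N'' : Subgroup ↥(Msu (n := n) D σ D₀ hc),
      N'' = N'.subgroupOf (Msu (n := n) D σ D₀ hc) := ⟨_, rfl⟩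
  haveI hN''n : N''.Normal := by
    constructor
    intro x hx y
    rw [hN'', Subgroup.mem_subgroupOf] at hx ⊢
    exact hnorm y y.2 x hx
  have hN''p : IsPGroup r N'' := by
    rw [hN'']
    exact hpg.of_equiv (Subgroup.subgroupOfEquivOfLe hN'M).symm
  rw [eq_bot_iff]
  intro ν hν
  obtain ⟨s, rfl⟩ := hN'M hν
  rw [Subgroup.mem_bot, muSU_eq_one_iff D σ D₀ hc hn]
  -- `s` preserves every isotropic line
  have hline : ∀ v : Fin n → AutPSL.fixF σ, H D₀ v v = 0 → ∃ c : AutPSL.fixF σ,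
      AutPSU.sv s v = c • v := by
    intro v hv
    by_cases hv0 : v = 0
    · exact ⟨1, by rw [hv0, AutPSU.sv_zero, smul_zero]⟩
    obtain ⟨P, hP⟩ := exists_sylow_fix D₀ r (by omega : 2 ≤ n) hv0 hv
    have h1 : f s ∈ N'' := by
      rw [hN'', Subgroup.mem_subgroupOf, hfv]
      exact hν
    have h2 := normal_pgroup_le_sylow r N'' hN''p (P.mapSurjective hfs) h1
    rw [← SetLike.mem_coe, Sylow.coe_mapSurjective] at h2
    obtain ⟨s', hs', hss'⟩ := h2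
    have h3 : muSU D σ D₀ hc (s'⁻¹ * s) = 1 := by
      rw [map_mul, map_inv, ← hfv, ← hfv, hss', inv_mul_cancel]
    rw [muSU_eq_one_iff D σ D₀ hc hn] at h3
    obtain ⟨c, hcz⟩ := scalar_of_mem_center D₀ (by omega) h3
    refine ⟨c, ?_⟩
    have h4 : s = s' * (s'⁻¹ * s) := by group
    rw [h4, AutPSU.sv_mul, hcz, AutPSU.sv_smul, hP s' hs']
  obtain ⟨c, hcs⟩ := scalar_of_fix_isotropic D₀ (by omega) s hline
  rw [Subgroup.mem_center_iff]
  intro t
  apply AutPSU.ext_sv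
  intro v
  rw [AutPSU.sv_mul, AutPSU.sv_mul, hcs, hcs, AutPSU.sv_smul]

end

end

section

open Matrix Cfsg.Agent.Lib.H13 Cfsg.Agent.Lib.H13.AutPSU Cfsg.Agent.Lib.H13.AutPO
  Cfsg.Agent.Lib.H11.PSUGraph Cfsg.Agent.Lib.H13.PSLBal

section

variable {K : Type*} [Field K] [Fintype K]

theorem card_SU32 (hK : Fintype.card K = 2 ^ 2) : Nat.card ↥(Cfsg.SU 3 K 2) = 216 := by
  have h := Cfsg.Agent.Lib.H2.Unitary.card_SU_mul hK (n := 3) (by norm_num)
  unfold Cfsg.Agent.Lib.H2.Unitary.ordGU at h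
  norm_num [Finset.prod_range_succ, Nat.even_add_one] at h
  omega

theorem card_GU32 (hK : Fintype.card K = 2 ^ 2) : Nat.card ↥(Cfsg.GU 3 K 2) = 648 := by
  have h := Cfsg.Agent.Lib.H2.Unitary.card_GU hK 3
  unfold Cfsg.Agent.Lib.H2.Unitary.ordGU at h
  norm_num [Finset.prod_range_succ, Nat.even_add_one] at h
  exact h

end

section

variable {F : Type*} [Field F] [Fintype F] {n q q₀ : ℕ} (D : UF F q) (σ : F ≃+* F)
  (D₀ : UF (AutPSL.fixF σ) q₀)
  (hc : ∀ x : AutPSL.fixF σ, (AutPSL.fixF σ).subtype (D₀.τ x) = D.τ ((AutPSL.fixF σ).subtype x))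

/-- the key step in the exceptional case `n = 3`, `q₀ = 2` -/
theorem hkey32 [Fintype (AutPSL.fixF σ)] (hK : Fintype.card (AutPSL.fixF σ) = q₀ ^ 2)
    (hn3 : n = 3) (hq₀ : q₀ = 2) {p : ℕ} (hp : p.Prime) (hp2 : p ≠ 2) (hσ : orderOf σ = p)
    (N' : Subgroup (MulAut (Cfsg.PSU n F q))) (hN'M : N' ≤ Msu (n := n) D σ D₀ hc)
    (hnorm : ∀ μ ∈ Msu (n := n) D σ D₀ hc, ∀ ν ∈ N', μ * ν * μ⁻¹ ∈ N') (hne : N' ≠ ⊥)
    (hcop : (Nat.card N').Coprime p) :
    (Nat.card ↥(Cfsg.Inn (Cfsg.PSU n F q) ⊓ Subgroup.centralizer {fU σ})).Coprime p := by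
  classical
  subst hn3 hq₀
  by_cases hp3 : p = 3
  · exfalso
    subst hp3
    apply hne
    haveI : CharP (AutPSL.fixF σ) 2 := charP_of_card_eq_prime_pow hK
    apply Msu_normal_pgroup_bot D σ D₀ hc (by norm_num) 2 N' hN'M hnorm
    have h1 : Nat.card N' ∣ Nat.card ↥(Cfsg.SU 3 (AutPSL.fixF σ) 2) := by
      have e1 : Nat.card N' ∣ Nat.card ↥(Msu (n := 3) D σ D₀ hc) :=
        Subgroup.card_dvd_of_le hN'M
      exact e1.trans (Subgroup.card_range_dvd _)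
    rw [card_SU32 hK] at h1
    have h2 : Nat.card N' ∣ 2 ^ 3 := by
      have h3 : (216 : ℕ) = 2 ^ 3 * 27 := by norm_num
      rw [h3] at h1
      exact Nat.Coprime.dvd_of_dvd_mul_right (Nat.Coprime.pow_right 3 hcop) h1
    obtain ⟨k, -, hk⟩ := (Nat.dvd_prime_pow Nat.prime_two).1 h2
    exact IsPGroup.of_card hk
  · have h1 : Nat.card ↥(Cfsg.Inn (Cfsg.PSU 3 F q) ⊓ Subgroup.centralizer {fU σ}) ∣
        Nat.card ↥(Cfsg.GU 3 (AutPSL.fixF σ) 2) := by
      have hle : Cfsg.Inn (Cfsg.PSU 3 F q) ⊓ Subgroup.centralizer {fU σ} ≤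
          ((cGU (n := 3) (F := F) (q := q)).comp (jU D σ D₀ hc)).range := by
        rw [← centralizer_fU D σ D₀ hc (by norm_num) hp.pos hσ]
        exact inf_le_inf inn_le_range_cGU le_rfl
      exact (Subgroup.card_dvd_of_le hle).trans (Subgroup.card_range_dvd _)
    rw [card_GU32 hK] at h1
    apply Nat.Coprime.coprime_dvd_left h1
    have h3 : (648 : ℕ) = 2 ^ 3 * 3 ^ 4 := by norm_num
    rw [h3]
    apply Nat.Coprime.mul_left
    · apply Nat.Coprime.pow_left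
      rw [Nat.coprime_primes Nat.prime_two hp]
      exact fun h => hp2 h.symm
    · apply Nat.Coprime.pow_left
      rw [Nat.coprime_primes Nat.prime_three hp]
      exact fun h => hp3 h.symm

end

end

section

open Matrix Cfsg.Agent.Lib.H13 Cfsg.Agent.Lib.H13.AutPSU Cfsg.Agent.Lib.H13.AutPO
  Cfsg.Agent.Lib.H11.PSUGraph Cfsg.Agent.Lib.H13.PSLBal

section

variable {F : Type*} [Field F] [Fintype F] {n q q₀ : ℕ} (D : UF F q) (σ : F ≃+* F)
  (D₀ : UF (AutPSL.fixF σ) q₀)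
  (hc : ∀ x : AutPSL.fixF σ, (AutPSL.fixF σ).subtype (D₀.τ x) = D.τ ((AutPSL.fixF σ).subtype x))

include D D₀ hc in
/-- local balance for the standard field automorphism of odd prime order `p` of `PSU_n(q)` -/
theorem core_fSU [Fintype (AutPSL.fixF σ)] (hK : Fintype.card (AutPSL.fixF σ) = q₀ ^ 2)
    (hn : 3 ≤ n) (hall : ∀ θ : Cfsg.PSU n F q ≃* Cfsg.PSU n F q, IsSemi θ)
    {p : ℕ} (hp : p.Prime) (hp2 : p ≠ 2) (hσ : orderOf σ = p)
    (A : Subgroup (MulAut (Cfsg.PSU n F q))) (hInnA : Cfsg.Inn (Cfsg.PSU n F q) ≤ A) :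
    HasNPC p ↥(A ⊓ Subgroup.centralizer {fU (n := n) (q := q) σ}) ↔
      (Nat.card ↥(Cfsg.Inn (Cfsg.PSU n F q) ⊓ Subgroup.centralizer {fU σ})).Coprime p := by
  have hφ : orderOf (fU (n := n) (q := q) σ) = p := by
    rw [orderOf_injective fU (fU_injective D hn) σ, hσ]
  refine Cfsg.Agent.Lib.H13.Sp4Graph.core_abstract (Cfsg.Inn (Cfsg.PSU n F q)) A
    (Msu (n := n) D σ D₀ hc) (fU σ) hp hφ hInnA
    (le_inf (Msu_le_inn D σ D₀ hc) (Msu_le_cent D σ D₀ hc hn hp.pos hσ)) ?_ ?_ ?_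
    (Msu_ne_bot D σ D₀ hc hn)
  · intro ρ hρ hρM
    apply cent_Msu_le D σ D₀ hc hn hall hp.pos hσ ρ _ hρM
    have h1 : ρ ∈ Subgroup.centralizer {fU (n := n) (q := q) σ} := hρ.2
    rw [Subgroup.mem_centralizer_iff] at h1
    exact (h1 _ (Set.mem_singleton _)).symm
  · intro ν hν μ hμ
    exact Msu_conj D σ D₀ hc hn hp.pos hσ ν ⟨inn_le_range_cGU hν.1, hν.2⟩ μ hμ
  · intro N' hN'M hnorm hne hcop
    by_cases h32 : n = 3 ∧ q₀ = 2
    · exact hkey32 D σ D₀ hc hK h32.1 h32.2 hp hp2 hσ N' hN'M hnorm hne hcop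
    · have h1 := Msu_eq_of_normal D σ D₀ hc hK hn h32 N' hN'M hnorm hne
      rw [h1] at hcop
      exact coprime_of_Msu_coprime D σ D₀ hc hn hp hσ hcop

end

section

variable {F : Type*} [Field F] [Fintype F] {n q : ℕ}

set_option maxHeartbeats 800000 in
/-- the field-type case of the local balance criterion for `PSU_n(q)` -/
theorem field_caseU {r f : ℕ} [Fact r.Prime] (hq : q = r ^ f) (hF : Fintype.card F = q ^ 2)
    (hn : 3 ≤ n) (hs : ¬ (n = 3 ∧ q = 2))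
    (𝒢 : Subgroup (MulAut (Cfsg.PSU n F q)))
    (hinn : ∀ k : Cfsg.PSU n F q, MulAut.conj k ∈ 𝒢)
    {p : ℕ} (hp : p.Prime) (hp2 : p ≠ 2) (g : ↥(Cfsg.GU n F q)) (σ : F ≃+* F)
    (hord : orderOf (cGU g * fU σ : MulAut (Cfsg.PSU n F q)) = p) (hσ1 : σ ≠ 1) :
    Cfsg.pPrimeCore p ↥(𝒢 ⊓ Subgroup.centralizer {(cGU g * fU σ : MulAut (Cfsg.PSU n F q))}) ≠ ⊥ ↔
      Nat.Coprime p (Nat.card ↥(MonoidHom.eqLocus
        (cGU g * fU σ : MulAut (Cfsg.PSU n F q)).toMonoidHom (MonoidHom.id (Cfsg.PSU n F q)))) := by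
  classical
  obtain ⟨D, -⟩ : ∃ D : UF F q, D = UF.ofCard hq hF := ⟨_, rfl⟩
  have hall := fun θ => isSemi_of_card hq hF hn hs θ
  have hxp : (cGU g * fU σ : MulAut (Cfsg.PSU n F q)) ^ p = 1 := by
    rw [← hord]; exact pow_orderOf_eq_one _
  have hInnA : Cfsg.Inn (Cfsg.PSU n F q) ≤ 𝒢 := by
    rintro _ ⟨k, rfl⟩
    exact hinn k
  have hodd : Odd p := hp.odd_of_ne_two hp2
  have hσp : orderOf σ = p := by
    have h1 := congrArg (psiU D hn hall) hxp
    rw [map_pow, psiU_apply, map_one] at h1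
    have := orderOf_dvd_of_pow_eq_one h1
    rcases (Nat.dvd_prime hp).1 this with h | h
    · exact absurd (orderOf_eq_one_iff.1 h) hσ1
    · exact h
  obtain ⟨k, hk⟩ := unitary_field_conj D hq hF hn σ hp.pos hσp hodd g hxp
  obtain ⟨a, ha⟩ : ∃ a : MulAut (Cfsg.PSU n F q), a = cGU k := ⟨_, rfl⟩
  rw [← ha] at hk
  obtain ⟨D₀, hD₀⟩ : ∃ D₀ : UF (AutPSL.fixF σ) (r ^ (f / p)),
      D₀ = fixUF hq hF σ hp.pos hσp hodd := ⟨_, rfl⟩
  have hc : ∀ x : AutPSL.fixF σ,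
      (AutPSL.fixF σ).subtype (D₀.τ x) = D.τ ((AutPSL.fixF σ).subtype x) := by
    intro x
    rw [hD₀]
    exact fixUF_compat D hq hF σ hp.pos hσp hodd x
  haveI : Fintype (AutPSL.fixF σ) := Fintype.ofFinite _
  have hK : Fintype.card (AutPSL.fixF σ) = (r ^ (f / p)) ^ 2 := by
    rw [← Nat.card_eq_fintype_card]
    exact card_fixU hq hF σ hp.pos hσp hodd
  rw [pPrimeCore_ne_bot_iff, card_eqLocus_eq (conj_psu_injective D hn) _, Nat.coprime_comm]
  obtain ⟨E1⟩ := centralizer_map_equiv (MulAut.conj a⁻¹) 𝒢 (cGU g * fU σ)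
  have hx' : MulAut.conj a⁻¹ (cGU g * fU σ : MulAut (Cfsg.PSU n F q)) = fU σ := by
    rw [hk, MulAut.conj_apply]; group
  rw [hx'] at E1
  have hInnA' : Cfsg.Inn (Cfsg.PSU n F q) ≤ 𝒢.map (MulAut.conj a⁻¹).toMonoidHom := by
    rw [← map_conj_of_normal (Cfsg.Inn (Cfsg.PSU n F q)) a⁻¹]
    exact Subgroup.map_mono hInnA
  obtain ⟨E2, -⟩ := conj_transport (Cfsg.Inn (Cfsg.PSU n F q)) (Cfsg.Inn (Cfsg.PSU n F q)) le_rfl
    a (fU σ)
  rw [← hk] at E2
  obtain ⟨E2⟩ := E2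
  rw [hasNPC_congr p E1, core_fSU D σ D₀ hc hK hn hall hp hp2 hσp _ hInnA',
    Nat.card_congr E2.toEquiv]

end

end

section

open Matrix Cfsg.Agent.Lib.H13 Cfsg.Agent.Lib.H13.AutPSU Cfsg.Agent.Lib.H13.AutPO
  Cfsg.Agent.Lib.H11.PSUGraph Cfsg.Agent.Lib.H13.PSLBal

section

variable {F : Type*} [Field F] [Fintype F]

/-- `PSU_3(2)` is not simple -/
theorem not_simple_psu32 {q : ℕ} (hF : Fintype.card F = q ^ 2) {n : ℕ}
    (hK : IsSimpleGroup (Cfsg.PSU n F q)) : ¬ (n = 3 ∧ q = 2) := by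
  rintro ⟨rfl, rfl⟩
  obtain ⟨hc72, hsol⟩ := Cfsg.Agent.S0282.result (F := F) (by rw [hF]; norm_num)
  have hcomm := (IsSimpleGroup.comm_iff_isSolvable (G := Cfsg.PSU 3 F 2)).2 hsol
  let _ : CommGroup (Cfsg.PSU 3 F 2) :=
    { (inferInstance : Group (Cfsg.PSU 3 F 2)) with mul_comm := hcomm }
  have hfin : Finite (Cfsg.PSU 3 F 2) := Nat.finite_of_card_ne_zero (by rw [hc72]; norm_num)
  have hpr := IsSimpleGroup.prime_card (α := Cfsg.PSU 3 F 2)
  rw [hc72] at hpr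
  exact absurd hpr (by norm_num)

/-- **local balance for automorphisms of prime order of `PSU_n(q)` outside the inner-diagonal
group** -/
theorem s2687_gen {r : ℕ} [Fact r.Prime] [CharP F r] {q : ℕ} (hF : Fintype.card F = q ^ 2)
    {n : ℕ} (hn : 3 ≤ n) (hK : IsSimpleGroup (Cfsg.PSU n F q))
    (𝒢 : Subgroup (MulAut (Cfsg.PSU n F q)))
    (hinn : ∀ k : Cfsg.PSU n F q, MulAut.conj k ∈ 𝒢)
    {p : ℕ} (hp : p.Prime) (hpr : p ≠ r) (β : MulAut (Cfsg.PSU n F q)) (hord : orderOf β = p)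
    (hnot : ¬ Cfsg.IsInnerDiagonalAutPSU β) :
    Cfsg.pPrimeCore p ↥(𝒢 ⊓ Subgroup.centralizer {β}) ≠ ⊥ ↔
      ((∃ γ φ : MulAut (Cfsg.PSU n F q), Cfsg.IsInnerDiagonalAutPSU γ ∧
          (∃ σ : F ≃+* F, Cfsg.IsFieldAutPSUOf σ φ) ∧ β = φ.trans γ) ∧
        Nat.Coprime p (Nat.card ↥(MonoidHom.eqLocus β.toMonoidHom
          (MonoidHom.id (Cfsg.PSU n F q))))) := by
  classical
  have hs := not_simple_psu32 hF hK
  obtain ⟨p', f, hp', hq⟩ := exists_prime_pow hF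
  haveI : Fact p'.Prime := ⟨hp'⟩
  have hp'r : p' = r := by
    have h1 : CharP F p' := charP_of_card_sq (F := F) hq hF
    have h2 : CharP F r := ‹CharP F r›
    exact CharP.eq F h1 h2
  subst hp'r
  obtain ⟨D, -⟩ : ∃ D : UF F q, D = UF.ofCard hq hF := ⟨_, rfl⟩
  have hall := fun θ => isSemi_of_card hq hF hn hs θ
  obtain ⟨g, σ, rfl⟩ := exists_formU hall β
  have hσ1 : σ ≠ 1 := by
    rintro rfl
    apply hnot
    rw [map_one, mul_one]
    exact isInnerDiagonal_cU g.2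
  have hfield : ∃ γ φ : MulAut (Cfsg.PSU n F q), Cfsg.IsInnerDiagonalAutPSU γ ∧
      (∃ σ' : F ≃+* F, Cfsg.IsFieldAutPSUOf σ' φ) ∧
      (cGU g * fU σ : MulAut (Cfsg.PSU n F q)) = φ.trans γ :=
    ⟨cGU g, fU σ, isInnerDiagonal_cU g.2, ⟨σ, isFieldAut_cU σ⟩, rfl⟩
  by_cases hp2 : p = 2
  · subst hp2
    have h2F : (2 : F) ≠ 0 := by
      intro h
      have h1 : ((2 : ℕ) : F) = 0 := by exact_mod_cast h
      have h2 := (CharP.cast_eq_zero_iff F p' 2).1 h1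
      exact hpr ((Nat.prime_dvd_prime_iff_eq hp' Nat.prime_two).1 h2).symm
    have hxp : (cGU g * fU σ : MulAut (Cfsg.PSU n F q)) ^ 2 = 1 := by
      rw [← hord]; exact pow_orderOf_eq_one _
    have hσ2 : orderOf σ = 2 := by
      have h1 := congrArg (psiU D hn hall) hxp
      rw [map_pow, psiU_apply, map_one] at h1
      exact orderOf_eq_prime h1 hσ1
    have hF' : Fintype.card F = p' ^ (2 * f) := by rw [hF, hq, ← pow_mul, mul_comm]
    have hστ : σ = D.τ := ringAut_involution_unique hF' σ D.τ hσ2 (orderOf_tau D)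
    subst hστ
    have hβ : (cGU g * fU D.τ : MulAut (Cfsg.PSU n F q)) = gamU D g := rfl
    rw [hβ] at hord ⊢
    obtain ⟨hL, hM⟩ := graph_caseU D p' h2F hn hall 𝒢 hinn g hord
    rw [pPrimeCore_ne_bot_iff]
    constructor
    · intro h
      exact absurd h hL
    · rintro ⟨-, hcop⟩
      exfalso
      apply hL
      rw [card_eqLocus_eq (conj_psu_injective D hn) _, Nat.coprime_comm] at hcop
      rw [hasNPC_subgroup_iff]
      refine ⟨Cfsg.Inn (Cfsg.PSU n F q) ⊓ Subgroup.centralizer {gamU D g}, ?_, ?_, hcop, hM⟩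
      · apply inf_le_inf _ le_rfl
        rintro _ ⟨k, rfl⟩
        exact hinn k
      · intro c hc ρ hρ
        refine ⟨?_, Subgroup.mul_mem _ (Subgroup.mul_mem _ hc.2 hρ.2) (Subgroup.inv_mem _ hc.2)⟩
        have hN : (Cfsg.Inn (Cfsg.PSU n F q)).Normal := inferInstance
        exact hN.conj_mem ρ hρ.1 c
  · rw [field_caseU hq hF hn hs 𝒢 hinn hp hp2 g σ hord hσ1]
    exact ⟨fun h => ⟨hfield, h⟩, fun h => h.2⟩

end

end

end Cfsg.Agent.Lib.H13.PSUBal
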