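import Cfsg.Agent.Lib.H13.Singer
import Cfsg.Agent.Lib.H13.FixNonsing
import Cfsg.Agent.Lib.H13.OmegaInvol
import Cfsg.Agent.Lib.H13.OInvolStd
import Cfsg.Agent.Lib.H13.PlusLevi
import Cfsg.Agent.S0289
import Cfsg.Prelude.Def_GeometricClasses

set_option autoImplicit false

namespace Cfsg.Agent.Lib.H13.PlusFix

open Module Matrix QuadraticMap
open scoped MatrixGroups
open Cfsg.Agent.Lib.H13 Cfsg.Agent.Lib.H13.PlusLevi Cfsg.Agent.Lib.H13.OInvol

/-- arithmetic: an odd prime dividing `(q - 1) q^{d-1} (q^d - 1)` with `q` a power of two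
divides `q ^ d - 1` -/
theorem arith (q d r k N : ℕ) (hq : q = 2 ^ k) (hd : 1 ≤ d) (hr : r.Prime) (hr2 : r ≠ 2)
    (hX : q ^ (2 * d) - (q ^ (2 * d - 1) + q ^ d - q ^ (d - 1)) = (q - 1) * N) (h : r ∣ N) :
    r ∣ q ^ d - 1 := by
  have hq1 : 1 ≤ q := by rw [hq]; exact Nat.one_le_two_pow
  obtain ⟨s, rfl⟩ : ∃ s, q = s + 1 := ⟨q - 1, by omega⟩
  obtain ⟨e, rfl⟩ : ∃ e, d = e + 1 := ⟨d - 1, by omega⟩
  obtain ⟨A, hA⟩ : ∃ A, (s + 1) ^ (e + 1) = A + 1 := ⟨(s + 1) ^ (e + 1) - 1, by
    have : 1 ≤ (s + 1) ^ (e + 1) := Nat.one_le_pow _ _ (by omega)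
    omega⟩
  set B := (s + 1) ^ e with hB
  have h1 : (s + 1) ^ (2 * (e + 1)) = (A + 1) * (A + 1) := by
    rw [two_mul, pow_add, hA]
  have h2 : (s + 1) ^ (2 * (e + 1) - 1) = (A + 1) * B := by
    have : 2 * (e + 1) - 1 = (e + 1) + e := by omega
    rw [this, pow_add, hA]
  have h3 : A + 1 = (s + 1) * B := by rw [← hA, pow_succ, mul_comm]
  have h4 : (s + 1) ^ (2 * (e + 1)) - ((s + 1) ^ (2 * (e + 1) - 1) + (s + 1) ^ (e + 1) -
      (s + 1) ^ (e + 1 - 1)) = A * s * B := by
    rw [h1, h2, hA, Nat.add_sub_cancel, ← hB]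
    have hle : B ≤ (A + 1) * B + (A + 1) := by nlinarith
    have e1 : (A + 1) * B + (A + 1) - B = A * B + A + 1 := by
      have : (A + 1) * B = A * B + B := by ring
      omega
    rw [e1]
    have e2 : (A + 1) * (A + 1) = A * s * B + (A * B + A + 1) := by
      have : A * (A + 1) = A * ((s + 1) * B) := by rw [h3]
      nlinarith
    omega
  rw [h4, Nat.add_sub_cancel] at hX
  have h5 : r ∣ A * s * B := by rw [hX]; exact Dvd.dvd.mul_left h _
  have hA' : (s + 1) ^ (e + 1) - 1 = A := by omega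
  rw [hA']
  rcases (Nat.Prime.dvd_mul hr).1 h5 with h6 | h6
  · rcases (Nat.Prime.dvd_mul hr).1 h6 with h7 | h7
    · exact h7
    · have : s ∣ A := by
        have := Nat.sub_dvd_pow_sub_pow (s + 1) 1 (e + 1)
        rw [one_pow, Nat.add_sub_cancel, hA'] at this
        exact this
      exact h7.trans this
  · exfalso
    rw [hB, hq] at h6
    have h7 := hr.dvd_of_dvd_pow h6
    have h8 := hr.dvd_of_dvd_pow h7
    exact hr2 ((Nat.prime_dvd_prime_iff_eq hr Nat.prime_two).1 h8)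

variable {F : Type*} [Field F] [Fintype F] [CharP F 2]

theorem scalar_sq_eq_one {d : ℕ} (hd : 1 ≤ d) (g : ↥(Cfsg.isometryGroup F ⇑(plusQF F d)))
    (z : F) (hz : ((g : GL (K d) F) : Matrix (K d) (K d) F) = z • (1 : Matrix (K d) (K d) F)) :
    z = 1 := by
  have h1 := iso_apply (plusQF F d) g (OInvolStd.vP d ⟨0, hd⟩)
  rw [hz, Matrix.smul_mulVec, Matrix.one_mulVec, QuadraticMap.map_smul, OInvolStd.Q_vP, smul_eq_mul,
    mul_one] at h1
  have h3 : (z + 1) * (z + 1) = 0 := by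
    have : (z + 1) * (z + 1) = z * z + 1 + (z + z) := by ring
    rw [this, h1, Char2Gen.add_self_zero F z, Char2Gen.add_self_zero F 1, add_zero]
  have h4 : z + 1 = 0 := by
    rcases mul_eq_zero.1 h3 with h | h <;> exact h
  have : z = z + (1 + 1) := by rw [Char2Gen.add_self_zero F 1, add_zero]
  rw [this, ← add_assoc, h4, zero_add]


/-- for an involution of exceptional type (`rank (t - 1) = m`, `f(v, t v) = 0`), all fixed vectors
are singular -/
theorem fixed_singular_of_exc {ι : Type} [Fintype ι] [DecidableEq ι] (Q : QuadraticForm F (ι → F))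
    {m : ℕ} (hcard : Fintype.card ι = 2 * m) (t : ↥(Cfsg.isometryGroup F ⇑Q)) (ht : t * t = 1)
    (hrank : (((t : GL ι F) : Matrix ι ι F) - 1).rank = m)
    (halt : ∀ v, polar (⇑Q) v (((t : GL ι F) : Matrix ι ι F) *ᵥ v) = 0)
    (v : ι → F) (hv : ((t : GL ι F) : Matrix ι ι F) *ᵥ v = v) : Q v = 0 := by
  obtain ⟨N, hNdef⟩ : ∃ N : Matrix ι ι F, N = ((t : GL ι F) : Matrix ι ι F) - 1 := ⟨_, rfl⟩
  have hA := val_mul_self Q t ht
  have hsum := LinearMap.finrank_range_add_finrank_ker (Matrix.mulVecLin N)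
  rw [Module.finrank_fintype_fun_eq_card, hcard] at hsum
  have hNN : N * N = 0 := by
    rw [hNdef, sub_mul, mul_sub, mul_sub, hA, mul_one, one_mul, mul_one]
    have h2 : (1 - ((t : GL ι F) : Matrix ι ι F)) + (1 - ((t : GL ι F) : Matrix ι ι F)) = 0 :=
      Char2Gen.add_self_zero F _
    have : (1 : Matrix ι ι F) - ((t : GL ι F) : Matrix ι ι F) -
        (((t : GL ι F) : Matrix ι ι F) - 1) =
        (1 - ((t : GL ι F) : Matrix ι ι F)) + (1 - ((t : GL ι F) : Matrix ι ι F)) := by abel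
    rw [this, h2]
  have hle : LinearMap.range (Matrix.mulVecLin N) ≤ LinearMap.ker (Matrix.mulVecLin N) := by
    rw [LinearMap.range_le_ker_iff, ← Matrix.mulVecLin_mul, hNN]
    ext; simp
  have hrank' : finrank F ↥(LinearMap.range (Matrix.mulVecLin N)) = m := by
    rw [← hrank, ← hNdef]; rfl
  have heq : LinearMap.range (Matrix.mulVecLin N) = LinearMap.ker (Matrix.mulVecLin N) :=
    Submodule.eq_of_le_of_finrank_eq hle (by omega)
  have hvk : v ∈ LinearMap.ker (Matrix.mulVecLin N) := by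
    rw [LinearMap.mem_ker, Matrix.mulVecLin_apply, hNdef, Matrix.sub_mulVec, Matrix.one_mulVec, hv,
      sub_self]
  rw [← heq] at hvk
  obtain ⟨w, hw⟩ := hvk
  rw [Matrix.mulVecLin_apply, hNdef, Matrix.sub_mulVec, Matrix.one_mulVec] at hw
  have h1 := Q_sub_eq Q (Matrix.toLin' ((t : GL ι F) : Matrix ι ι F))
    (fun y => by rw [Matrix.toLin'_apply]; exact iso_apply Q t y) w
  rw [Matrix.toLin'_apply, hw, halt w] at h1
  exact h1

theorem card_nonsing (d : ℕ) (hd : 1 ≤ d) :
    Nat.card {v : K d → F // (⇑(plusQF F d)) v ≠ 0} = Fintype.card F ^ (2 * d) -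
      (Fintype.card F ^ (2 * d - 1) + Fintype.card F ^ d - Fintype.card F ^ (d - 1)) := by
  classical
  have hZ := Cfsg.Agent.S0289.result (F := F) rfl d hd
  rw [← Cfsg.Agent.S0287.coe_plusQF] at hZ
  rw [← hZ, Nat.card_eq_fintype_card, Nat.card_eq_fintype_card, Fintype.card_subtype_compl,
    Fintype.card_fun, Fintype.card_sum, Fintype.card_fin, two_mul]

theorem main (d : ℕ) (hd : 4 ≤ d) (r : ℕ) [Fact r.Prime]
    (hrΩ : r ∣ Nat.card {W : Submodule F (K d → F) //
      finrank F ↥W = 1 ∧ ∃ v ∈ W, (⇑(plusQF F d)) v ≠ 0}) :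
    (∀ x : GL (K d) F, x ∈ Cfsg.Geo.omegaGL (⇑(plusQF F d)) →
      (∃ z : F, ((x ^ r : GL (K d) F) : Matrix (K d) (K d) F) = z • (1 : Matrix (K d) (K d) F)) →
      (∀ z : F, (x : Matrix (K d) (K d) F) ≠ z • (1 : Matrix (K d) (K d) F)) →
      ∃ W : Submodule F (K d → F), (finrank F ↥W = 1 ∧ ∃ v ∈ W, (⇑(plusQF F d)) v ≠ 0) ∧
        W.map (Matrix.toLin' (x : Matrix (K d) (K d) F)) ≤ W) ↔ (r = 2 ∧ Odd d) := by
  have hnd := Cfsg.Agent.S0287.nondeg (F := F) d
  have hcardK : Fintype.card (K d) = 2 * d := by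
    rw [Fintype.card_sum, Fintype.card_fin, two_mul]
  have hh : Nat.card F ≠ 2 ∨ Fintype.card (K d) ≠ 4 := Or.inr (by rw [hcardK]; omega)
  constructor
  · intro H
    have hr2 : r = 2 := by
      by_contra hr2
      have hcount := FixNonsing.card_nonsingular (plusQF F d)
      rw [card_nonsing d (by omega)] at hcount
      obtain ⟨k, hk⟩ := FiniteField.card F 2
      have hdiv := arith (Fintype.card F) d r k _ hk.2 (by omega) Fact.out hr2 hcount hrΩ
      obtain ⟨g, hgr, hg⟩ := Singer.exists_fpf F 2 d (by omega) r hdiv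
      have hmem : levi g ∈ Cfsg.Omega F ⇑(plusQF F d) := by
        rw [levi_mem_iff (by omega) (Or.inr (by omega)) g]
        obtain ⟨s, hs⟩ := Char2Gen.exists_sqrt (F := F) (g : Matrix (Fin d) (Fin d) F).det
        exact ⟨s, by rw [← hs]⟩
      have hfixall : ∀ v : K d → F,
          (((levi g : ↥(Cfsg.isometryGroup F ⇑(plusQF F d))) : GL (K d) F) :
            Matrix (K d) (K d) F) *ᵥ v = v → v ∘ Sum.inl = 0 := by
        intro v hv
        apply hg
        rw [levi_val, leviM, fromBlocks_mulVec] at hv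
        have := congrArg (fun w : K d → F => w ∘ Sum.inl) hv
        simpa using this
      obtain ⟨W, ⟨hW1, v, hvW, hQv⟩, hmap⟩ := H ((levi g : ↥(Cfsg.isometryGroup F ⇑(plusQF F d))) :
          GL (K d) F) ⟨levi g, hmem, rfl⟩
        ⟨1, by rw [← SubmonoidClass.coe_pow, ← map_pow, hgr, map_one]; simp⟩
        (by
          intro z hz
          have hz1 := scalar_sq_eq_one (by omega) (levi g) z hz
          rw [hz1, one_smul] at hz
          have h0 := hfixall (Pi.single (Sum.inl ⟨0, by omega⟩) 1) (by rw [hz, Matrix.one_mulVec])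
          have := congrFun h0 ⟨0, by omega⟩
          simp at this)
      have hfix := FixNonsing.fixes_vector_of_fixes_point (plusQF F d)
        (Matrix.toLin' (((levi g : ↥(Cfsg.isometryGroup F ⇑(plusQF F d))) : GL (K d) F) :
            Matrix (K d) (K d) F))
        (fun y => by rw [Matrix.toLin'_apply]; exact iso_apply (plusQF F d) (levi g) y)
        W hW1 v hvW hQv hmap
      rw [Matrix.toLin'_apply] at hfix
      have h0 := hfixall v hfix
      apply hQv
      rw [plusQF_apply, quadFormPlus_eq_dot, h0, zero_dotProduct]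
    refine ⟨hr2, ?_⟩
    by_contra hodd
    rw [Nat.not_odd_iff_even] at hodd
    obtain ⟨e, he⟩ := hodd
    obtain ⟨T, hT2, hTr, hTalt⟩ := OInvolStd.rep_swap_plus (F := F) d e (by omega)
    have hTmem : T ∈ Cfsg.Omega F ⇑(plusQF F d) := by
      rw [RankParity.mem_Omega_iff_even_rank (plusQF F d) hnd hh T, hTr]
      exact even_two_mul e
    obtain ⟨W, ⟨hW1, v, hvW, hQv⟩, hmap⟩ := H (T : GL (K d) F) ⟨T, hTmem, rfl⟩
      ⟨1, by
        rw [hr2, pow_two, Units.val_mul, val_mul_self (plusQF F d) T hT2, one_smul]⟩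
      (by
        intro z hz
        have hz1 := scalar_sq_eq_one (by omega) T z hz
        rw [hz1, one_smul] at hz
        rw [hz, sub_self, Matrix.rank_zero] at hTr
        omega)
    have hfix := FixNonsing.fixes_vector_of_fixes_point (plusQF F d)
      (Matrix.toLin' ((T : GL (K d) F) : Matrix (K d) (K d) F))
      (fun y => by rw [Matrix.toLin'_apply]; exact iso_apply (plusQF F d) T y)
      W hW1 v hvW hQv hmap
    rw [Matrix.toLin'_apply] at hfix
    exact hQv (fixed_singular_of_exc (plusQF F d) hcardK T hT2 (by rw [hTr]; omega) hTalt v hfix)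
  · rintro ⟨rfl, hodd⟩ x ⟨g, hg, rfl⟩ ⟨z, hz⟩ hns
    have hz' : (((g ^ 2 : ↥(Cfsg.isometryGroup F ⇑(plusQF F d))) : GL (K d) F) :
        Matrix (K d) (K d) F) = z • (1 : Matrix (K d) (K d) F) := hz
    have hz1 := scalar_sq_eq_one (by omega) (g ^ 2) z hz'
    rw [hz1, one_smul] at hz'
    have hgg : g * g = 1 := by
      rw [← pow_two]
      apply Subtype.ext
      apply Units.ext
      exact hz'
    have hg' := hg
    rw [SetLike.mem_coe, RankParity.mem_Omega_iff_even_rank (plusQF F d) hnd hh g] at hg'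
    obtain ⟨v, hv, hQv⟩ := OmegaInvol.exists_fixed_nonsingular (plusQF F d) hnd hcardK g hgg (by
      rintro ⟨h1, -⟩
      rw [h1] at hg'
      exact (Nat.not_even_iff_odd.2 hodd) hg')
    exact FixNonsing.point_of_vector (plusQF F d) _ v hQv (by rw [Matrix.toLin'_apply]; exact hv)

end Cfsg.Agent.Lib.H13.PlusFix
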