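import Mathlib
import Cfsg.Agent.Lib.H16.RTWDefs

/-!
# S3174 (2-groups of Rudvalis type): basic facts about `Ctx` (helper13)

(B3) of the blueprint: `M` has index 2 in `W`, so membership in `M` is "additive" on `W`, and conjugation
by elements of `W` preserves `M`.
-/

set_option autoImplicit false

namespace Cfsg.Agent.Lib.H13.RTW

open scoped commutatorElement
open Cfsg.Agent.Lib.H16.RTW

variable {T : Type*} [Group T] [Finite T]

/-- `W` is closed under conjugation. -/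
theorem conj_mem_W (c : Ctx T) (t : T) {u : T} (hu : u ∈ c.W) : t * u * t⁻¹ ∈ c.W :=
  c.hWn.conj_mem u hu t

omit [Finite T] in
/-- `Z₃` is closed under conjugation. -/
theorem conj_mem_Z3 (t : T) {u : T} (hu : u ∈ Subgroup.upperCentralSeries T 3) :
    t * u * t⁻¹ ∈ Subgroup.upperCentralSeries T 3 :=
  (inferInstance : (Subgroup.upperCentralSeries T 3).Normal).conj_mem u hu t

/-- (B3a): `u u' ∈ M ↔ (u ∈ M ↔ u' ∈ M)` for `u, u' ∈ W`. -/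
theorem mul_mem_M_iff (c : Ctx T) {u v : T} (hu : u ∈ c.W) (hv : v ∈ c.W) :
    u * v ∈ c.M ↔ (u ∈ c.M ↔ v ∈ c.M) := by
  have h := Subgroup.mul_mem_iff_of_index_two (H := c.M.subgroupOf c.W) c.hM3
    (a := ⟨u, hu⟩) (b := ⟨v, hv⟩)
  simpa [Subgroup.mem_subgroupOf] using h

/-- (B3b): conjugation by `s ∈ W` preserves `M ∩ W`. -/
theorem conj_mem_M_iff (c : Ctx T) {s u : T} (hs : s ∈ c.W) (hu : u ∈ c.W) :
    s * u * s⁻¹ ∈ c.M ↔ u ∈ c.M := by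
  have h1 : s * u * s⁻¹ = ⁅s, u⁆ * u := by rw [commutatorElement_def]; group
  have h2 : ⁅s, u⁆ ∈ c.M := c.hM1 (c.hcomm s hs u hu)
  rw [h1, mul_mem_M_iff c (c.hM2 h2) hu]
  exact ⟨fun h => h.mp h2, fun h => ⟨fun _ => h, fun _ => h2⟩⟩

/-- The "functional" `f_t(u) :⟺ t u t⁻¹ ∈ M` is additive on `W`. -/
theorem conj_mul_mem_M_iff (c : Ctx T) (t : T) {u v : T} (hu : u ∈ c.W) (hv : v ∈ c.W) :
    t * (u * v) * t⁻¹ ∈ c.M ↔ (t * u * t⁻¹ ∈ c.M ↔ t * v * t⁻¹ ∈ c.M) := by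
  have h1 : t * (u * v) * t⁻¹ = (t * u * t⁻¹) * (t * v * t⁻¹) := by group
  rw [h1, mul_mem_M_iff c (conj_mem_W c t hu) (conj_mem_W c t hv)]

/-- `f_{s t} = f_t` for `s ∈ W`. -/
theorem conj_mul_left_mem_M_iff (c : Ctx T) {s : T} (hs : s ∈ c.W) (t : T) {u : T} (hu : u ∈ c.W) :
    (s * t) * u * (s * t)⁻¹ ∈ c.M ↔ t * u * t⁻¹ ∈ c.M := by
  have h1 : (s * t) * u * (s * t)⁻¹ = s * (t * u * t⁻¹) * s⁻¹ := by group
  rw [h1, conj_mem_M_iff c hs (conj_mem_W c t hu)]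

/-- `f_t(w) ⟺ t ∉ W` for a generator `w`. -/
theorem conj_gen_mem_M_iff (c : Ctx T) {w : T} (hw : w ∈ c.W) (hwM : w ∉ c.M)
    (hwt : ∀ t : T, t ∉ c.W → t * w * t⁻¹ ∈ c.M) (t : T) :
    t * w * t⁻¹ ∈ c.M ↔ t ∉ c.W := by
  constructor
  · intro h ht
    exact hwM ((conj_mem_M_iff c ht hw).mp h)
  · exact hwt t

end Cfsg.Agent.Lib.H13.RTW
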