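import Mathlib
import Cfsg.Agent.Lib.H16.RTWDefs
import Cfsg.Agent.Lib.H16.RTWF2
import Cfsg.Agent.Lib.H25.RTWKPAR
import Cfsg.Agent.Lib.H13.RTWBase

/-!
# S3174 piece KEY (`key_comm`) (helper13, twin)
-/

set_option autoImplicit false

namespace Cfsg.Agent.Lib.H13.RTW

open scoped commutatorElement
open Cfsg.Agent.Lib.H16.RTW

variable {T : Type*} [Group T] [Finite T]

/-- (B1): `⁅x y, v⁆ = ⁅x, v⁆ ⁅y, v⁆` in `W`. -/
theorem comm_mul_left_W (c : Ctx T) {x y v : T} (hx : x ∈ c.W) (hy : y ∈ c.W) (hv : v ∈ c.W) :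
    ⁅x * y, v⁆ = ⁅x, v⁆ * ⁅y, v⁆ := by
  have he : ⁅y, v⁆ ∈ Subgroup.upperCentralSeries T 3 := c.hcomm y hy v hv
  have he' : ⁅x, v⁆ ∈ c.W := c.hZW (c.hcomm x hx v hv)
  have h1 : ⁅x * y, v⁆ = x * ⁅y, v⁆ * x⁻¹ * ⁅x, v⁆ := by
    simp only [commutatorElement_def]; group
  have h2 : x * ⁅y, v⁆ * x⁻¹ = ⁅y, v⁆ := by
    rw [← c.commute he hx]; group
  rw [h1, h2, c.commute he he']

/-- (B1): `⁅y⁻¹, v⁆ = ⁅y, v⁆⁻¹` in `W`. -/
theorem comm_inv_left_W (c : Ctx T) {y v : T} (hy : y ∈ c.W) (hv : v ∈ c.W) :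
    ⁅y⁻¹, v⁆ = ⁅y, v⁆⁻¹ := by
  have he : ⁅y, v⁆⁻¹ ∈ Subgroup.upperCentralSeries T 3 :=
    (Subgroup.upperCentralSeries T 3).inv_mem (c.hcomm y hy v hv)
  have h1 : ⁅y⁻¹, v⁆ = y⁻¹ * ⁅y, v⁆⁻¹ * y := by
    simp only [commutatorElement_def]; group
  rw [h1, mul_assoc, c.commute he hy]; group

/-- (B1): `⁅x, y v⁆ = ⁅x, y⁆ ⁅x, v⁆` in `W`. -/
theorem comm_mul_right_W (c : Ctx T) {x y v : T} (hx : x ∈ c.W) (hy : y ∈ c.W) (hv : v ∈ c.W) :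
    ⁅x, y * v⁆ = ⁅x, y⁆ * ⁅x, v⁆ := by
  have he : ⁅x, v⁆ ∈ Subgroup.upperCentralSeries T 3 := c.hcomm x hx v hv
  have h1 : ⁅x, y * v⁆ = ⁅x, y⁆ * (y * ⁅x, v⁆ * y⁻¹) := by
    simp only [commutatorElement_def]; group
  have h2 : y * ⁅x, v⁆ * y⁻¹ = ⁅x, v⁆ := by
    rw [← c.commute he hy]; group
  rw [h1, h2]

/-- (B2): `e e' ∈ Z₂ ⟺ (e ∈ Z₂ ⟺ e' ∈ Z₂)` for `e, e' ∈ Z₃`. -/
theorem mul_mem_Z2_iff (c : Ctx T) {e e' : T} (he : e ∈ Subgroup.upperCentralSeries T 3)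
    (he' : e' ∈ Subgroup.upperCentralSeries T 3) :
    e * e' ∈ Subgroup.upperCentralSeries T 2 ↔
      (e ∈ Subgroup.upperCentralSeries T 2 ↔ e' ∈ Subgroup.upperCentralSeries T 2) :=
  Cfsg.Agent.Lib.H25.RTW.mul_mem_iff_of_card _ _ (Subgroup.upperCentralSeries_mono T (by norm_num))
    (by rw [c.c3, c.c2]) he he'

omit [Finite T] in
/-- conjugation and membership in a normal subgroup -/
theorem conj_mem_iff_of_normal (N : Subgroup T) [hN : N.Normal] (t x : T) :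
    t * x * t⁻¹ ∈ N ↔ x ∈ N := by
  constructor
  · intro h
    have := hN.conj_mem _ h t⁻¹
    have h1 : t⁻¹ * (t * x * t⁻¹) * t⁻¹⁻¹ = x := by group
    rwa [h1] at this
  · intro h; exact hN.conj_mem _ h t

set_option maxRecDepth 100000 in
/-- The combinatorial core of KEY. -/
theorem ut3_comb : ∀ f : UT3 → Bool, (∀ g, f g⁻¹ = f g) → (∀ g : UT3, g.a = 0 → f g = true) →
    Even (Finset.card (Finset.univ.filter (fun g => f g = false))) →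
    ∀ g, f ((⟨0, 0, 1⟩ : UT3) * g) = f g := by
  decide

/-- **KEY**: if `Z₄ ≤ Z(W)` then `⁅⁅w, z⁆, ᵗw⁆ ∈ Z₂` for all `t`, where `zW` is the central involution of `T/W`. -/
theorem key_comm (c : Ctx T) (k : Coord c)
    (hZ4 : ∀ y ∈ Subgroup.upperCentralSeries T 4, y ∈ c.W ∧ ∀ v ∈ c.W, y * v = v * y)
    (w : T) (hw : w ∈ c.W) (z : T) (hz : k.φ z = ⟨0, 0, 1⟩) (t : T) :
    ⁅⁅w, z⁆, t * w * t⁻¹⁆ ∈ Subgroup.upperCentralSeries T 2 := by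
  classical
  set K : T → Prop := fun t => ⁅w, t * w * t⁻¹⁆ ∈ Subgroup.upperCentralSeries T 2 with hK
  -- (k1)
  have k1 : ∀ t t' : T, k.φ t = k.φ t' → (K t ↔ K t') := by
    intro t t' h
    have hs : t⁻¹ * t' ∈ c.W := by
      rw [← k.hker, MonoidHom.mem_ker, map_mul, map_inv, h, inv_mul_cancel]
    set s := t⁻¹ * t' with hs_def
    have he : t * ⁅s, w⁆ * t⁻¹ ∈ Subgroup.upperCentralSeries T 3 :=
      conj_mem_Z3 t (c.hcomm s hs w hw)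
    have h1 : t' * w * t'⁻¹ = (t * ⁅s, w⁆ * t⁻¹) * (t * w * t⁻¹) := by
      rw [hs_def, commutatorElement_def]; group
    have h2 : ⁅w, t' * w * t'⁻¹⁆ = ⁅w, t * w * t⁻¹⁆ := by
      rw [h1, comm_mul_left_of_comm (c.commute he hw) (c.commute he (conj_mem_W c t hw))]
    show ⁅w, t * w * t⁻¹⁆ ∈ _ ↔ ⁅w, t' * w * t'⁻¹⁆ ∈ _
    rw [h2]
  -- (k2)
  have k2' : ∀ t : T, K t → K t⁻¹ := by
    intro t h
    show ⁅w, t⁻¹ * w * t⁻¹⁻¹⁆ ∈ _
    have h1 : ⁅w, t⁻¹ * w * t⁻¹⁻¹⁆ = (t⁻¹ * ⁅w, t * w * t⁻¹⁆ * t⁻¹⁻¹)⁻¹ := by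
      simp only [commutatorElement_def]; group
    rw [h1]
    exact Subgroup.inv_mem _ ((conj_mem_iff_of_normal _ _ _).mpr h)
  have k2 : ∀ t : T, K t⁻¹ ↔ K t := by
    intro t
    constructor
    · intro h
      have := k2' _ h
      rwa [inv_inv] at this
    · exact k2' t
  -- (k3)
  have k3 : ∀ t : T, (k.φ t).a = 0 → K t := fun t ht => comm_conj_mem c k t ht w hw
  -- representatives
  choose rep hrep using k.hsurj
  have k4 := Cfsg.Agent.Lib.H25.RTW.key_parity c k hZ4 w hw rep hrep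
  set f : UT3 → Bool := fun g => decide (K (rep g)) with hf
  have hfK : ∀ g, f g = true ↔ K (rep g) := fun g => by simp [hf]
  have hfK' : ∀ g, f g = false ↔ ¬ K (rep g) := fun g => by simp [hf]
  have h2 : ∀ g, f g⁻¹ = f g := by
    intro g
    have : K (rep g⁻¹) ↔ K (rep g) := by
      rw [← k2 (rep g)]
      apply k1
      rw [hrep, map_inv, hrep]
    rw [Bool.eq_iff_iff, hfK, hfK, this]
  have h3 : ∀ g : UT3, g.a = 0 → f g = true := by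
    intro g hg
    rw [hfK]
    apply k3
    rw [hrep]; exact hg
  have h4 : Even (Finset.card (Finset.univ.filter (fun g => f g = false))) := by
    have e : {g : UT3 // ⁅w, rep g * w * (rep g)⁻¹⁆ ∉ Subgroup.upperCentralSeries T 2} ≃
        {g : UT3 // f g = false} :=
      Equiv.subtypeEquivRight (fun g => (hfK' g).symm)
    rw [Nat.card_congr e, Nat.card_eq_fintype_card, Fintype.card_subtype] at k4
    exact k4
  have hcomb := ut3_comb f h2 h3 h4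
  -- final computation
  set v : T := t * w * t⁻¹ with hv
  set y : T := z * w * z⁻¹ with hy
  have hvW : v ∈ c.W := conj_mem_W c t hw
  have hyW : y ∈ c.W := conj_mem_W c z hw
  have e1 : ⁅w, z⁆ = w * y⁻¹ := by rw [hy, commutatorElement_def]; group
  have e2 : ⁅⁅w, z⁆, v⁆ = ⁅w, v⁆ * ⁅y, v⁆⁻¹ := by
    rw [e1, comm_mul_left_W c hw (c.W.inv_mem hyW) hvW, comm_inv_left_W c hyW hvW]
  have e3 : ⁅y, v⁆ = z * ⁅w, (z⁻¹ * t) * w * (z⁻¹ * t)⁻¹⁆ * z⁻¹ := by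
    rw [hy, hv]; simp only [commutatorElement_def]; group
  have hζ : (⟨0, 0, 1⟩ : UT3)⁻¹ = ⟨0, 0, 1⟩ := by decide
  have e4 : K (z⁻¹ * t) ↔ K t := by
    have a1 : K (z⁻¹ * t) ↔ K (rep ((⟨0, 0, 1⟩ : UT3) * k.φ t)) := by
      apply k1
      rw [hrep, map_mul, map_inv, hz, hζ]
    have a2 : K (rep ((⟨0, 0, 1⟩ : UT3) * k.φ t)) ↔ K (rep (k.φ t)) := by
      rw [← hfK, ← hfK, hcomb]
    have a3 : K (rep (k.φ t)) ↔ K t := by
      apply k1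
      rw [hrep]
    exact a1.trans (a2.trans a3)
  rw [e2, mul_mem_Z2_iff c (c.hcomm w hw v hvW)
    ((Subgroup.upperCentralSeries T 3).inv_mem (c.hcomm y hyW v hvW)), inv_mem_iff, e3,
    conj_mem_iff_of_normal]
  exact e4.symm

end Cfsg.Agent.Lib.H13.RTW
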