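import Mathlib
import Cfsg.Agent.Lib.H16.RTWDefs
import Cfsg.Agent.Lib.H13.RTWBase

/-!
# S3174 pieces SPAN (`span_gen`) and BIL (`eq_of_gen_mem`) (helper13)
-/

set_option autoImplicit false

namespace Cfsg.Agent.Lib.H13.RTW

open scoped commutatorElement
open Cfsg.Agent.Lib.H16.RTW

variable {T : Type*} [Group T] [Finite T]

/-- The closure of the conjugates of `w ∈ W` lies in `W`. -/
theorem closure_conj_le_W (c : Ctx T) {w : T} (hw : w ∈ c.W) :
    Subgroup.closure {y : T | ∃ t : T, y = t * w * t⁻¹} ≤ c.W := by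
  rw [Subgroup.closure_le]
  rintro y ⟨t, rfl⟩
  exact conj_mem_W c t hw

/-- **SPAN**: the conjugates of `w` generate `W` modulo `Z₃`. -/
theorem span_gen (c : Ctx T) (w : T) (hw : w ∈ c.W) (hwM : w ∉ c.M)
    (hwt : ∀ t : T, t ∉ c.W → t * w * t⁻¹ ∈ c.M) :
    ∀ u ∈ c.W, ∃ x ∈ Subgroup.closure {y : T | ∃ t : T, y = t * w * t⁻¹},
      u * x ∈ Subgroup.upperCentralSeries T 3 := by
  classical
  intro u hu
  have : Fintype T := Fintype.ofFinite T
  set C : Subgroup T := Subgroup.closure {y : T | ∃ t : T, y = t * w * t⁻¹} with hC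
  have hCW : C ≤ c.W := closure_conj_le_W c hw
  have key : ∀ S : Finset T, ∃ x ∈ C, ∀ t ∈ S, t * (u * x) * t⁻¹ ∈ c.M := by
    intro S
    induction S using Finset.induction_on with
    | empty => exact ⟨1, C.one_mem, fun t ht => absurd ht (Finset.notMem_empty t)⟩
    | insert t₀ S ht₀ ih =>
      obtain ⟨x, hxC, hx⟩ := ih
      have hxW : x ∈ c.W := hCW hxC
      have huxW : u * x ∈ c.W := c.W.mul_mem hu hxW
      by_cases h0 : t₀ * (u * x) * t₀⁻¹ ∈ c.M
      · refine ⟨x, hxC, fun t ht => ?_⟩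
        rcases Finset.mem_insert.mp ht with rfl | ht
        · exact h0
        · exact hx t ht
      · -- multiply by `v := t₀⁻¹ w t₀`
        set v : T := t₀⁻¹ * w * t₀⁻¹⁻¹ with hv
        have hvC : v ∈ C := Subgroup.subset_closure ⟨t₀⁻¹, rfl⟩
        have hvW : v ∈ c.W := hCW hvC
        have hfv : ∀ t : T, t * v * t⁻¹ ∈ c.M ↔ t * t₀⁻¹ ∉ c.W := by
          intro t
          have h1 : t * v * t⁻¹ = (t * t₀⁻¹) * w * (t * t₀⁻¹)⁻¹ := by rw [hv]; group
          rw [h1]
          exact conj_gen_mem_M_iff c hw hwM hwt _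
        refine ⟨x * v, C.mul_mem hxC hvC, fun t ht => ?_⟩
        have h2 : u * (x * v) = (u * x) * v := by group
        rw [h2, conj_mul_mem_M_iff c t huxW hvW, hfv t]
        rcases Finset.mem_insert.mp ht with rfl | ht
        · constructor
          · intro h; exact absurd h h0
          · intro h; exact absurd (by simp) h
        · have hxt := hx t ht
          constructor
          · intro _ hs
            -- `t = s t₀` with `s ∈ W`, so `f_t = f_{t₀}`
            apply h0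
            have h3 : t * (u * x) * t⁻¹ = ((t * t₀⁻¹) * t₀) * (u * x) * ((t * t₀⁻¹) * t₀)⁻¹ := by group
            rw [h3, conj_mul_left_mem_M_iff c hs t₀ huxW] at hxt
            exact hxt
          · intro _; exact hxt
  obtain ⟨x, hxC, hx⟩ := key Finset.univ
  exact ⟨x, hxC, c.hcore _ (c.W.mul_mem hu (hCW hxC)) (fun t => hx t (Finset.mem_univ t))⟩

/-- **BIL**: a subgroup of `W` containing `Z₃` and all conjugates of `w` is `W`. -/
theorem eq_of_gen_mem (c : Ctx T) (w : T) (hw : w ∈ c.W) (hwM : w ∉ c.M)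
    (hwt : ∀ t : T, t ∉ c.W → t * w * t⁻¹ ∈ c.M) (Q : Subgroup T)
    (hZQ : Subgroup.upperCentralSeries T 3 ≤ Q) (hQ : ∀ t : T, t * w * t⁻¹ ∈ Q) : c.W ≤ Q := by
  intro u hu
  obtain ⟨x, hxC, hx⟩ := span_gen c w hw hwM hwt u hu
  have hxQ : x ∈ Q := by
    have : Subgroup.closure {y : T | ∃ t : T, y = t * w * t⁻¹} ≤ Q := by
      rw [Subgroup.closure_le]
      rintro y ⟨t, rfl⟩
      exact hQ t
    exact this hxC
  have h1 : u = (u * x) * x⁻¹ := by group
  rw [h1]
  exact Q.mul_mem (hZQ hx) (Q.inv_mem hxQ)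

end Cfsg.Agent.Lib.H13.RTW
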