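import Mathlib
import Cfsg.Agent.Lib.H16.RTWDefs
import Cfsg.Agent.Lib.H16.RTWF2
import Cfsg.Agent.Lib.H13.RTWBase
import Cfsg.Agent.Lib.H13.RTWSPAN
import Cfsg.Agent.Lib.H13.RTWKEY

/-!
# S3174 piece F3 (`comm_z_central`) (helper13, twin)
-/

set_option autoImplicit false

namespace Cfsg.Agent.Lib.H13.RTW

open scoped commutatorElement
open Cfsg.Agent.Lib.H16.RTW

variable {T : Type*} [Group T] [Finite T]

/-- (B1): `⁅x, v⁻¹⁆ = ⁅x, v⁆⁻¹` in `W`. -/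
theorem comm_inv_right_W (c : Ctx T) {x v : T} (hx : x ∈ c.W) (hv : v ∈ c.W) :
    ⁅x, v⁻¹⁆ = ⁅x, v⁆⁻¹ := by
  have he : ⁅x, v⁆⁻¹ ∈ Subgroup.upperCentralSeries T 3 :=
    (Subgroup.upperCentralSeries T 3).inv_mem (c.hcomm x hx v hv)
  have h1 : ⁅x, v⁻¹⁆ = v⁻¹ * ⁅x, v⁆⁻¹ * v := by
    simp only [commutatorElement_def]; group
  rw [h1, mul_assoc, c.commute he hv]; group

/-- `⁅e, v⁆ = 1` for `e ∈ Z₃`, `v ∈ W`. -/
theorem comm_eq_one_of_mem_Z3 (c : Ctx T) {e v : T} (he : e ∈ Subgroup.upperCentralSeries T 3)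
    (hv : v ∈ c.W) : ⁅e, v⁆ = 1 := by
  rw [commutatorElement_def, c.commute he hv]; group

/-- `⁅x, e⁆ = 1` for `e ∈ Z₃`, `x ∈ W`. -/
theorem comm_eq_one_of_mem_Z3' (c : Ctx T) {e x : T} (he : e ∈ Subgroup.upperCentralSeries T 3)
    (hx : x ∈ c.W) : ⁅x, e⁆ = 1 := by
  rw [commutatorElement_def, ← c.commute he hx]; group

/-- `R`: the elements of `W` that are central in `W` modulo `Z₂`. -/
def Rsub (c : Ctx T) : Subgroup T where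
  carrier := {x | x ∈ c.W ∧ ∀ v ∈ c.W, ⁅x, v⁆ ∈ Subgroup.upperCentralSeries T 2}
  one_mem' := ⟨c.W.one_mem, fun v _ => by
    rw [commutatorElement_one_left]; exact Subgroup.one_mem _⟩
  mul_mem' := by
    rintro x y ⟨hx, hx'⟩ ⟨hy, hy'⟩
    refine ⟨c.W.mul_mem hx hy, fun v hv => ?_⟩
    rw [comm_mul_left_W c hx hy hv]
    exact Subgroup.mul_mem _ (hx' v hv) (hy' v hv)
  inv_mem' := by
    rintro x ⟨hx, hx'⟩
    refine ⟨c.W.inv_mem hx, fun v hv => ?_⟩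
    rw [comm_inv_left_W c hx hv]
    exact Subgroup.inv_mem _ (hx' v hv)

theorem mem_Rsub (c : Ctx T) (x : T) :
    x ∈ Rsub c ↔ (x ∈ c.W ∧ ∀ v ∈ c.W, ⁅x, v⁆ ∈ Subgroup.upperCentralSeries T 2) := Iff.rfl

theorem Z3_le_Rsub (c : Ctx T) : Subgroup.upperCentralSeries T 3 ≤ Rsub c := by
  intro e he
  refine ⟨c.hZW he, fun v hv => ?_⟩
  rw [comm_eq_one_of_mem_Z3 c he hv]
  exact Subgroup.one_mem _

theorem Rsub_le_W (c : Ctx T) : Rsub c ≤ c.W := fun _ hx => hx.1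

/-- `R` is `T`-invariant. -/
theorem conj_mem_Rsub (c : Ctx T) (t : T) {x : T} (hx : x ∈ Rsub c) : t * x * t⁻¹ ∈ Rsub c := by
  refine ⟨conj_mem_W c t hx.1, fun v hv => ?_⟩
  have h1 : ⁅t * x * t⁻¹, v⁆ = t * ⁅x, t⁻¹ * v * t⁻¹⁻¹⁆ * t⁻¹ := by
    simp only [commutatorElement_def]; group
  rw [h1, conj_mem_iff_of_normal]
  exact hx.2 _ (conj_mem_W c t⁻¹ hv)

/-- An element of `W` whose commutators with all conjugates of `w` lie in `Z₂` is in `R`. -/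
theorem mem_Rsub_of_conj (c : Ctx T) (w : T) (hw : w ∈ c.W) (hwM : w ∉ c.M)
    (hwt : ∀ t : T, t ∉ c.W → t * w * t⁻¹ ∈ c.M) {x : T} (hx : x ∈ c.W)
    (h : ∀ t : T, ⁅x, t * w * t⁻¹⁆ ∈ Subgroup.upperCentralSeries T 2) : x ∈ Rsub c := by
  let Q : Subgroup T :=
    { carrier := {v | v ∈ c.W ∧ ⁅x, v⁆ ∈ Subgroup.upperCentralSeries T 2}
      one_mem' := ⟨c.W.one_mem, by rw [commutatorElement_one_right]; exact Subgroup.one_mem _⟩
      mul_mem' := by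
        rintro u v ⟨hu, hu'⟩ ⟨hv, hv'⟩
        refine ⟨c.W.mul_mem hu hv, ?_⟩
        rw [comm_mul_right_W c hx hu hv]
        exact Subgroup.mul_mem _ hu' hv'
      inv_mem' := by
        rintro u ⟨hu, hu'⟩
        refine ⟨c.W.inv_mem hu, ?_⟩
        rw [comm_inv_right_W c hx hu]
        exact Subgroup.inv_mem _ hu' }
  have hZQ : Subgroup.upperCentralSeries T 3 ≤ Q := by
    intro e he
    refine ⟨c.hZW he, ?_⟩
    rw [comm_eq_one_of_mem_Z3' c he hx]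
    exact Subgroup.one_mem _
  have hQ : ∀ t : T, t * w * t⁻¹ ∈ Q := fun t => ⟨conj_mem_W c t hw, h t⟩
  have hWQ := eq_of_gen_mem c w hw hwM hwt Q hZQ hQ
  exact ⟨hx, fun v hv => (hWQ hv).2⟩

/-- `ζ = ⟨0,0,1⟩` is central in `UT3`. -/
theorem ut3_zeta_central : ∀ g : UT3, (⟨0, 0, 1⟩ : UT3)⁻¹ * g⁻¹ * ⟨0, 0, 1⟩ * g = 1 := by
  decide

/-- **F3**: `⁅W, z⁆` is central in `W` modulo `Z₂`. -/
theorem comm_z_central (c : Ctx T) (k : Coord c)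
    (hZ4 : ∀ y ∈ Subgroup.upperCentralSeries T 4, y ∈ c.W ∧ ∀ v ∈ c.W, y * v = v * y)
    (w : T) (hw : w ∈ c.W) (hwM : w ∉ c.M) (hwt : ∀ t : T, t ∉ c.W → t * w * t⁻¹ ∈ c.M)
    (z : T) (hz : k.φ z = ⟨0, 0, 1⟩) :
    ∀ u ∈ c.W, ∀ v ∈ c.W, ⁅⁅u, z⁆, v⁆ ∈ Subgroup.upperCentralSeries T 2 := by
  -- `⁅u, z⁆ ∈ W` for `u ∈ W`
  have hcz : ∀ u ∈ c.W, ⁅u, z⁆ ∈ c.W := by
    intro u hu
    have h1 : ⁅u, z⁆ = u * (z * u⁻¹ * z⁻¹) := by rw [commutatorElement_def]; group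
    rw [h1]
    exact c.W.mul_mem hu (conj_mem_W c z (c.W.inv_mem hu))
  -- Step 1: `⁅w, z⁆ ∈ R`
  have h1 : ⁅w, z⁆ ∈ Rsub c :=
    mem_Rsub_of_conj c w hw hwM hwt (hcz w hw) (fun t => key_comm c k hZ4 w hw z hz t)
  -- Step 2: `Q₂ = {u ∈ W | ⁅u, z⁆ ∈ R} = W`
  let Q₂ : Subgroup T :=
    { carrier := {u | u ∈ c.W ∧ ⁅u, z⁆ ∈ Rsub c}
      one_mem' := ⟨c.W.one_mem, by rw [commutatorElement_one_left]; exact Subgroup.one_mem _⟩
      mul_mem' := by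
        rintro u v ⟨hu, hu'⟩ ⟨hv, hv'⟩
        refine ⟨c.W.mul_mem hu hv, ?_⟩
        have e : ⁅u * v, z⁆ = (u * ⁅v, z⁆ * u⁻¹) * ⁅u, z⁆ := by
          simp only [commutatorElement_def]; group
        rw [e]
        exact (Rsub c).mul_mem (conj_mem_Rsub c u hv') hu'
      inv_mem' := by
        rintro u ⟨hu, hu'⟩
        refine ⟨c.W.inv_mem hu, ?_⟩
        have e : ⁅u⁻¹, z⁆ = u⁻¹ * ⁅u, z⁆⁻¹ * u⁻¹⁻¹ := by
          simp only [commutatorElement_def]; group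
        rw [e]
        exact conj_mem_Rsub c u⁻¹ ((Rsub c).inv_mem hu') }
  have hZQ : Subgroup.upperCentralSeries T 3 ≤ Q₂ := by
    intro e he
    refine ⟨c.hZW he, Z3_le_Rsub c ?_⟩
    have h2 : ⁅e, z⁆ = e * (z * e⁻¹ * z⁻¹) := by rw [commutatorElement_def]; group
    rw [h2]
    exact Subgroup.mul_mem _ he (conj_mem_Z3 z (Subgroup.inv_mem _ he))
  have hQ : ∀ t : T, t * w * t⁻¹ ∈ Q₂ := by
    intro t
    refine ⟨conj_mem_W c t hw, ?_⟩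
    set s' : T := z⁻¹ * t⁻¹ * z * t with hs'
    have hs'W : s' ∈ c.W := by
      rw [← k.hker, MonoidHom.mem_ker, hs', map_mul, map_mul, map_mul, map_inv, map_inv, hz]
      exact ut3_zeta_central _
    have e1 : ⁅t * w * t⁻¹, z⁆ = t * ⁅w, z * s'⁆ * t⁻¹ := by
      rw [hs']; simp only [commutatorElement_def]; group
    have e2 : ⁅w, z * s'⁆ = ⁅w, z⁆ * (z * ⁅w, s'⁆ * z⁻¹) := by
      simp only [commutatorElement_def]; group
    rw [e1]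
    apply conj_mem_Rsub
    rw [e2]
    exact (Rsub c).mul_mem h1 (Z3_le_Rsub c (conj_mem_Z3 z (c.hcomm w hw s' hs'W)))
  have hWQ := eq_of_gen_mem c w hw hwM hwt Q₂ hZQ hQ
  intro u hu v hv
  exact (hWQ hu).2.2 v hv

end Cfsg.Agent.Lib.H13.RTW
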