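import Mathlib
import Cfsg.Agent.Lib.H16.RTWDefs
import Cfsg.Agent.Lib.H1.PGroupBasic

/-!
# S3174 piece FINB (`false_of_small_frattini`) (helper13)
-/

set_option autoImplicit false

namespace Cfsg.Agent.Lib.H13.RTW

open scoped commutatorElement
open Cfsg.Agent.Lib.H16.RTW

variable {T : Type*} [Group T] [Finite T]

/-- **FINB**: a subgroup `X` of index `≤ 8` in `W` containing `Z₃` with `Φ(X) ≤ Z₂` contradicts (d): a maximal
subgroup of `X` missing an element of `Z₃ \ Z₂` has index `≤ 16` in `W`. -/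
theorem false_of_small_frattini (c : Ctx T) (X : Subgroup T) (hXW : X ≤ c.W)
    (hZX : Subgroup.upperCentralSeries T 3 ≤ X) (hidx : X.relIndex c.W ≤ 8)
    (hsq : ∀ x ∈ X, x ^ 2 ∈ Subgroup.upperCentralSeries T 2)
    (hcomm : ∀ x ∈ X, ∀ y ∈ X, ⁅x, y⁆ ∈ Subgroup.upperCentralSeries T 2) : False := by
  haveI : Fact (Nat.Prime 2) := ⟨Nat.prime_two⟩
  have hXp : IsPGroup 2 ↥X := c.hT.to_subgroup X
  set N : Subgroup ↥X := (Subgroup.upperCentralSeries T 2).subgroupOf X with hN
  have h1 : commutator ↥X ≤ N := by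
    rw [commutator_def, Subgroup.commutator_le]
    intro a _ b _
    rw [hN, Subgroup.mem_subgroupOf]
    exact hcomm a a.2 b b.2
  have h2 : ∀ x : ↥X, x ^ 2 ∈ N := by
    intro x
    rw [hN, Subgroup.mem_subgroupOf]
    exact hsq x x.2
  have hfr : frattini ↥X ≤ N := Cfsg.Agent.Lib.H1.frattini_le_of_commutator_le_of_pow_mem N h1 h2
  -- an element of `Z₃ \ Z₂`
  obtain ⟨x₃, hx₃, hx₃'⟩ : ∃ x ∈ Subgroup.upperCentralSeries T 3,
      x ∉ Subgroup.upperCentralSeries T 2 := by
    by_contra hcon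
    have hle : Subgroup.upperCentralSeries T 3 ≤ Subgroup.upperCentralSeries T 2 := by
      intro x hx
      by_contra hx'
      exact hcon ⟨x, hx, hx'⟩
    have := Subgroup.card_le_of_le hle
    rw [c.c3, c.c2] at this
    omega
  set y : ↥X := ⟨x₃, hZX hx₃⟩ with hy
  have hyN : y ∉ frattini ↥X := by
    intro h
    have := hfr h
    rw [hN, Subgroup.mem_subgroupOf] at this
    exact hx₃' this
  obtain ⟨U, hU, hyU⟩ : ∃ U : Subgroup ↥X, IsCoatom U ∧ y ∉ U := by
    by_contra hcon
    apply hyN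
    have : Subgroup.zpowers y ≤ frattini ↥X := by
      rw [Cfsg.Agent.Lib.H1.le_frattini_iff]
      intro U hU
      rw [Subgroup.zpowers_le]
      by_contra hyU
      exact hcon ⟨U, hU, hyU⟩
    exact this (Subgroup.mem_zpowers y)
  have hUi : U.index = 2 := Cfsg.Agent.Lib.H1.isPGroup_coatom_index hXp hU
  set U' : Subgroup T := U.map X.subtype with hU'
  have hU'X : U' ≤ X := by
    rintro _ ⟨u, _, rfl⟩
    exact u.2
  have hrel : U'.relIndex X = 2 := by
    rw [Subgroup.relIndex, hU', Subgroup.subgroupOf,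
      Subgroup.comap_map_eq_self_of_injective (Subgroup.subtype_injective X), hUi]
  have hrel2 : U'.relIndex c.W ≤ 16 := by
    rw [← Subgroup.relIndex_mul_relIndex U' X c.W hU'X hXW, hrel]
    omega
  have := c.hd U' (hU'X.trans hXW) hrel2 hx₃
  obtain ⟨u, hu, hux⟩ := this
  apply hyU
  have : u = y := Subtype.ext hux
  rw [← this]
  exact hu

end Cfsg.Agent.Lib.H13.RTW
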