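import Mathlib
import Cfsg.Agent.Lib.H16.RTWDefs
import Cfsg.Agent.Lib.H13.RTWBase
import Cfsg.Agent.Lib.H13.RTWSPAN

/-!
# S3174 piece FINIDX (`relIndex_le_of_mem`) (helper13)

Instead of the counting argument of the blueprint we use SPAN/BIL: modulo `X` (which contains `Z₃ ⊇ W', W²`)
the group `W` is generated by the eight conjugates `ʳw` (`r` running over coset representatives of `W` in `T`),
and modulo `X` we have `ᶻy ≡ y` (as `⁅y, z⁆ ∈ X`) and `ᵇw ≡ w`; so three conjugates suffice and `|W : X| ≤ 2³`.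
-/

set_option autoImplicit false

namespace Cfsg.Agent.Lib.H13.RTW

open scoped commutatorElement
open Cfsg.Agent.Lib.H16.RTW

variable {T : Type*} [Group T] [Finite T]

omit [Finite T] in
/-- If `K` is covered by `n` left cosets of `H` then `|K : H| ≤ n`. -/
theorem relIndex_le_of_cover (H K : Subgroup T) (n : ℕ) (r : Fin n → T) (hr : ∀ i, r i ∈ K)
    (h : ∀ u ∈ K, ∃ i, u⁻¹ * r i ∈ H) : H.relIndex K ≤ n := by
  have hsurj : Function.Surjective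
      (fun i : Fin n => (QuotientGroup.mk (⟨r i, hr i⟩ : ↥K) : ↥K ⧸ H.subgroupOf K)) := by
    intro q
    induction q using QuotientGroup.induction_on with
    | H u =>
      obtain ⟨i, hi⟩ := h u u.2
      refine ⟨i, ?_⟩
      symm
      rw [QuotientGroup.eq, Subgroup.mem_subgroupOf]
      simpa using hi
  have := Nat.card_le_card_of_surjective _ hsurj
  rw [Nat.card_fin] at this
  exact this

/-- Subgroups between `Z₃` and `W`. -/
structure Good (c : Ctx T) (Y : Subgroup T) : Prop where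
  le : Y ≤ c.W
  z3 : Subgroup.upperCentralSeries T 3 ≤ Y

namespace Good

variable {c : Ctx T} {Y : Subgroup T}

theorem sq_mem (hY : Good c Y) {u : T} (hu : u ∈ c.W) : u ^ 2 ∈ Y := hY.z3 (c.hsq u hu)

theorem conj_mem (hY : Good c Y) {s y : T} (hs : s ∈ c.W) (hy : y ∈ Y) : s * y * s⁻¹ ∈ Y := by
  have h1 : s * y * s⁻¹ = ⁅s, y⁆ * y := by rw [commutatorElement_def]; group
  rw [h1]
  exact Y.mul_mem (hY.z3 (c.hcomm s hs y (hY.le hy))) hy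

theorem conj_mem' (hY : Good c Y) {s y : T} (hs : s ∈ c.W) (hy : y ∈ Y) : s⁻¹ * y * s ∈ Y := by
  have := hY.conj_mem (c.W.inv_mem hs) hy
  simpa using this

end Good

/-- `Y ∪ a⁻¹Y`, a subgroup when `Z₃ ≤ Y ≤ W` and `a ∈ W`. -/
def adj (c : Ctx T) (Y : Subgroup T) (hY : Good c Y) (a : T) (ha : a ∈ c.W) : Subgroup T where
  carrier := {u | u ∈ Y ∨ a * u ∈ Y}
  one_mem' := Or.inl Y.one_mem
  mul_mem' := by
    rintro u v (hu | hu) (hv | hv)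
    · exact Or.inl (Y.mul_mem hu hv)
    · right
      have h1 : a * (u * v) = (a * u * a⁻¹) * (a * v) := by group
      rw [h1]
      exact Y.mul_mem (hY.conj_mem ha hu) hv
    · right
      have h1 : a * (u * v) = (a * u) * v := by group
      rw [h1]
      exact Y.mul_mem hu hv
    · left
      have h1 : u * v = (a⁻¹ * (a * u) * a) * (a⁻¹) ^ 2 * (a * v) := by group
      rw [h1]
      exact Y.mul_mem (Y.mul_mem (hY.conj_mem' ha hu) (hY.sq_mem (c.W.inv_mem ha))) hv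
  inv_mem' := by
    rintro u (hu | hu)
    · exact Or.inl (Y.inv_mem hu)
    · right
      have h1 : a * u⁻¹ = (a * (a * u)⁻¹ * a⁻¹) * a ^ 2 := by group
      rw [h1]
      exact Y.mul_mem (hY.conj_mem ha (Y.inv_mem hu)) (hY.sq_mem ha)

theorem mem_adj (c : Ctx T) (Y : Subgroup T) (hY : Good c Y) (a : T) (ha : a ∈ c.W) (u : T) :
    u ∈ adj c Y hY a ha ↔ (u ∈ Y ∨ a * u ∈ Y) := Iff.rfl

theorem le_adj (c : Ctx T) (Y : Subgroup T) (hY : Good c Y) (a : T) (ha : a ∈ c.W) :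
    Y ≤ adj c Y hY a ha := fun _ hu => Or.inl hu

theorem self_mem_adj (c : Ctx T) (Y : Subgroup T) (hY : Good c Y) (a : T) (ha : a ∈ c.W) :
    a ∈ adj c Y hY a ha := by
  right
  have := hY.sq_mem ha
  rwa [pow_two] at this

theorem good_adj (c : Ctx T) (Y : Subgroup T) (hY : Good c Y) (a : T) (ha : a ∈ c.W) :
    Good c (adj c Y hY a ha) := by
  refine ⟨?_, hY.z3.trans (le_adj c Y hY a ha)⟩
  rintro u (hu | hu)
  · exact hY.le hu
  · have h1 : u = a⁻¹ * (a * u) := by group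
    rw [h1]
    exact c.W.mul_mem (c.W.inv_mem ha) (hY.le hu)

theorem relIndex_adj_le (c : Ctx T) (Y : Subgroup T) (hY : Good c Y) (a : T) (ha : a ∈ c.W) :
    Y.relIndex (adj c Y hY a ha) ≤ 2 := by
  apply relIndex_le_of_cover Y (adj c Y hY a ha) 2 ![1, a⁻¹]
  · intro i
    fin_cases i
    · exact (adj c Y hY a ha).one_mem
    · exact (adj c Y hY a ha).inv_mem (self_mem_adj c Y hY a ha)
  · rintro u (hu | hu)
    · exact ⟨0, by simpa using hu⟩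
    · refine ⟨1, ?_⟩
      have h1 : u⁻¹ * a⁻¹ = (a * u)⁻¹ := by group
      simp only [Matrix.cons_val_one, Matrix.cons_val_zero]
      rw [h1]
      exact Y.inv_mem hu

/-- The eight elements of `UT3`. -/
theorem ut3_cases (g : UT3) :
    g = 1 ∨ g = ⟨0, 0, 1⟩ ∨ g = ⟨0, 1, 0⟩ ∨ g = (⟨0, 0, 1⟩ : UT3) * ⟨0, 1, 0⟩ ∨
    g = ⟨1, 0, 0⟩ ∨ g = (⟨0, 0, 1⟩ : UT3) * ⟨1, 0, 0⟩ ∨ g = (⟨1, 0, 0⟩ : UT3) * ⟨0, 1, 0⟩ ∨
    g = (⟨0, 0, 1⟩ : UT3) * (⟨1, 0, 0⟩ * ⟨0, 1, 0⟩) := by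
  revert g
  decide

/-- **FINIDX**: a subgroup of `W` containing `Z₃`, all `⁅u, z⁆` and `w · ᵇw` has index at most 8 in `W`. -/
theorem relIndex_le_of_mem (c : Ctx T) (k : Coord c)
    (w : T) (hw : w ∈ c.W) (hwM : w ∉ c.M) (hwt : ∀ t : T, t ∉ c.W → t * w * t⁻¹ ∈ c.M)
    (z : T) (hz : k.φ z = ⟨0, 0, 1⟩) (b : T) (hb : k.φ b = ⟨0, 1, 0⟩)
    (X : Subgroup T) (hXW : X ≤ c.W) (hZX : Subgroup.upperCentralSeries T 3 ≤ X)
    (hX1 : ∀ u ∈ c.W, ⁅u, z⁆ ∈ X) (hX2 : w * (b * w * b⁻¹) ∈ X) : X.relIndex c.W ≤ 8 := by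
  obtain ⟨α, hα⟩ := k.hsurj ⟨1, 0, 0⟩
  have hX : Good c X := ⟨hXW, hZX⟩
  set a₂ : T := α * w * α⁻¹ with ha₂
  set a₃ : T := (α * b) * w * (α * b)⁻¹ with ha₃
  have ha₂W : a₂ ∈ c.W := conj_mem_W c α hw
  have ha₃W : a₃ ∈ c.W := conj_mem_W c (α * b) hw
  set K₁ : Subgroup T := adj c X hX w hw with hK₁
  have hG₁ : Good c K₁ := good_adj c X hX w hw
  set K₂ : Subgroup T := adj c K₁ hG₁ a₂ ha₂W with hK₂
  have hG₂ : Good c K₂ := good_adj c K₁ hG₁ a₂ ha₂W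
  set K₃ : Subgroup T := adj c K₂ hG₂ a₃ ha₃W with hK₃
  have hG₃ : Good c K₃ := good_adj c K₂ hG₂ a₃ ha₃W
  have h01 : X ≤ K₁ := le_adj c X hX w hw
  have h12 : K₁ ≤ K₂ := le_adj c K₁ hG₁ a₂ ha₂W
  have h23 : K₂ ≤ K₃ := le_adj c K₂ hG₂ a₃ ha₃W
  -- `K₃` is invariant under conjugation by `z`
  have hzinv : ∀ y ∈ K₃, z * y * z⁻¹ ∈ K₃ := by
    intro y hy
    have hyW : y ∈ c.W := hG₃.le hy
    have h1 : ⁅y, z⁆ ∈ K₃ := h23 (h12 (h01 (hX1 y hyW)))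
    have h2 : z * y * z⁻¹ = (y⁻¹ * ⁅y, z⁆)⁻¹ := by rw [commutatorElement_def]; group
    rw [h2]
    exact K₃.inv_mem (K₃.mul_mem (K₃.inv_mem hy) h1)
  -- the conjugates of `w` by the eight representatives
  have hc1 : w ∈ K₃ := h23 (h12 (self_mem_adj c X hX w hw))
  have hcb : b * w * b⁻¹ ∈ K₃ := h23 (h12 (Or.inr hX2))
  have hca : α * w * α⁻¹ ∈ K₃ := h23 (self_mem_adj c K₁ hG₁ a₂ ha₂W)
  have hcab : (α * b) * w * (α * b)⁻¹ ∈ K₃ := self_mem_adj c K₂ hG₂ a₃ ha₃W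
  have hzconj : ∀ r : T, r * w * r⁻¹ ∈ K₃ → (z * r) * w * (z * r)⁻¹ ∈ K₃ := by
    intro r hr
    have h1 : (z * r) * w * (z * r)⁻¹ = z * (r * w * r⁻¹) * z⁻¹ := by group
    rw [h1]
    exact hzinv _ hr
  have hrep : ∀ t : T, ∃ r : T, k.φ r = k.φ t ∧ r * w * r⁻¹ ∈ K₃ := by
    intro t
    rcases ut3_cases (k.φ t) with h | h | h | h | h | h | h | h
    · exact ⟨1, by rw [map_one, h], by simpa using hc1⟩
    · exact ⟨z * 1, by rw [mul_one, hz, h], hzconj 1 (by simpa using hc1)⟩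
    · exact ⟨b, by rw [hb, h], hcb⟩
    · exact ⟨z * b, by rw [map_mul, hz, hb, h], hzconj b hcb⟩
    · exact ⟨α, by rw [hα, h], hca⟩
    · exact ⟨z * α, by rw [map_mul, hz, hα, h], hzconj α hca⟩
    · exact ⟨α * b, by rw [map_mul, hα, hb, h], hcab⟩
    · exact ⟨z * (α * b), by rw [map_mul, map_mul, hz, hα, hb, h], hzconj (α * b) hcab⟩
  have hall : ∀ t : T, t * w * t⁻¹ ∈ K₃ := by
    intro t
    obtain ⟨r, hr, hrK⟩ := hrep t
    have hs : t * r⁻¹ ∈ c.W := by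
      rw [← k.hker, MonoidHom.mem_ker, map_mul, map_inv, hr, mul_inv_cancel]
    have h1 : t * w * t⁻¹ = (t * r⁻¹) * (r * w * r⁻¹) * (t * r⁻¹)⁻¹ := by group
    rw [h1]
    exact hG₃.conj_mem hs hrK
  have hWK : c.W ≤ K₃ := eq_of_gen_mem c w hw hwM hwt K₃ hG₃.z3 hall
  have hKW : K₃ = c.W := le_antisymm hG₃.le hWK
  have i1 : X.relIndex K₁ ≤ 2 := relIndex_adj_le c X hX w hw
  have i2 : K₁.relIndex K₂ ≤ 2 := relIndex_adj_le c K₁ hG₁ a₂ ha₂W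
  have i3 : K₂.relIndex K₃ ≤ 2 := relIndex_adj_le c K₂ hG₂ a₃ ha₃W
  have e1 := Subgroup.relIndex_mul_relIndex X K₁ K₂ h01 h12
  have e2 := Subgroup.relIndex_mul_relIndex X K₂ K₃ (h01.trans h12) h23
  rw [← hKW, ← e2, ← e1]
  calc X.relIndex K₁ * K₁.relIndex K₂ * K₂.relIndex K₃ ≤ 2 * 2 * 2 :=
        Nat.mul_le_mul (Nat.mul_le_mul i1 i2) i3
    _ = 8 := by norm_num

end Cfsg.Agent.Lib.H13.RTW
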