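import Mathlib
import Cfsg.Agent.Lib.H16.RTWDefs
import Cfsg.Agent.Lib.H13.RTWBase

/-!
# S3174 piece GEN (`exists_gen`) (helper13)

The eight "functionals" `u ↦ [t_q u t_q⁻¹ ∉ M]` (`q ∈ T/W`) on `W` have joint kernel `Z₃` (core property of
`M`); by counting (`|W : Z₃| = 2⁸`) the map `W → C₂⁸` is onto, so the indicator of the trivial coset is hit.
-/

set_option autoImplicit false

namespace Cfsg.Agent.Lib.H13.RTW

open scoped commutatorElement
open Cfsg.Agent.Lib.H16.RTW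

variable {T : Type*} [Group T] [Finite T]

/-- `|W| = 2¹¹`. -/
theorem card_W (c : Ctx T) : Nat.card ↥c.W = 2 ^ 11 := by
  have h := c.W.card_mul_index
  rw [c.hidx, c.hcard] at h
  have h8 : (2 : ℕ) ^ 14 = 2 ^ 11 * 8 := by norm_num
  rw [h8] at h
  exact Nat.eq_of_mul_eq_mul_right (by norm_num) h

/-- `f_t = f_{q.out}` for the coset `q` of `t`. -/
theorem conj_out_mem_M_iff (c : Ctx T) (t : T) {u : T} (hu : u ∈ c.W) :
    t * u * t⁻¹ ∈ c.M ↔
      (QuotientGroup.mk t : T ⧸ c.W).out * u * ((QuotientGroup.mk t : T ⧸ c.W).out)⁻¹ ∈ c.M := by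
  obtain ⟨h, hh⟩ := QuotientGroup.mk_out_eq_mul c.W t
  have hs : t * (h : T)⁻¹ * t⁻¹ ∈ c.W := conj_mem_W c t (c.W.inv_mem h.2)
  have h1 : t = (t * (h : T)⁻¹ * t⁻¹) * (QuotientGroup.mk t : T ⧸ c.W).out := by
    rw [hh]; group
  conv_lhs => rw [h1]
  exact conj_mul_left_mem_M_iff c hs _ hu

/-- **GEN**: a generator `w` of the free `F₂[T/W]`-module `W/Z₃`: `w ∉ M` but `ᵗw ∈ M` for all `t ∉ W`. -/
theorem exists_gen (c : Ctx T) :
    ∃ w ∈ c.W, w ∉ c.M ∧ ∀ t : T, t ∉ c.W → t * w * t⁻¹ ∈ c.M := by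
  classical
  have := c.hWn
  set Mw : Subgroup ↥c.W := c.M.subgroupOf c.W with hMw
  have hMwi : Mw.index = 2 := c.hM3
  have : Mw.Normal := Subgroup.normal_of_index_eq_two hMwi
  let f : (T ⧸ c.W) → (↥c.W →* ↥c.W ⧸ Mw) := fun q =>
    (QuotientGroup.mk' Mw).comp (MulAut.conjNormal (H := c.W) q.out).toMonoidHom
  let Φ : ↥c.W →* ((T ⧸ c.W) → ↥c.W ⧸ Mw) := MonoidHom.pi f
  have hf : ∀ (q : T ⧸ c.W) (u : ↥c.W), f q u = 1 ↔ q.out * (u : T) * q.out⁻¹ ∈ c.M := by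
    intro q u
    show (QuotientGroup.mk' Mw) ((MulAut.conjNormal (H := c.W) q.out) u) = 1 ↔ _
    rw [QuotientGroup.mk'_apply, QuotientGroup.eq_one_iff, hMw, Subgroup.mem_subgroupOf,
      MulAut.conjNormal_apply]
  have hker : Φ.ker = (Subgroup.upperCentralSeries T 3).subgroupOf c.W := by
    ext u
    rw [MonoidHom.mem_ker, Subgroup.mem_subgroupOf]
    constructor
    · intro h
      apply c.hcore _ u.2
      intro t
      rw [conj_out_mem_M_iff c t u.2, ← hf]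
      exact congrFun h _
    · intro h
      funext q
      show f q u = 1
      rw [hf]
      exact c.hM1 (conj_mem_Z3 _ h)
  have hcker : Nat.card ↥Φ.ker = 8 := by
    rw [hker, Nat.card_congr (Subgroup.subgroupOfEquivOfLe c.hZW).toEquiv, c.c3]
  have hrange : Nat.card ↥Φ.range = 2 ^ 8 := by
    have h := Φ.ker.card_mul_index
    rw [Subgroup.index_ker, hcker, card_W c] at h
    have h8 : (2 : ℕ) ^ 11 = 8 * 2 ^ 8 := by norm_num
    rw [h8] at h
    exact Nat.eq_of_mul_eq_mul_left (by norm_num) h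
  have htarget : Nat.card ((T ⧸ c.W) → ↥c.W ⧸ Mw) = 2 ^ 8 := by
    rw [Nat.card_fun]
    have h1 : Nat.card (T ⧸ c.W) = 8 := c.hidx
    have h2 : Nat.card (↥c.W ⧸ Mw) = 2 := hMwi
    rw [h1, h2]
  have hsurj : Function.Surjective Φ := by
    rw [← MonoidHom.range_eq_top]
    apply Subgroup.eq_top_of_card_eq
    rw [hrange, htarget]
  obtain ⟨x, hxW, hxM⟩ : ∃ x ∈ c.W, x ∉ c.M := by
    by_contra hcon
    have : Mw = ⊤ := by
      rw [eq_top_iff]
      intro u _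
      rw [hMw, Subgroup.mem_subgroupOf]
      by_contra hu
      exact hcon ⟨u, u.2, hu⟩
    rw [this, Subgroup.index_top] at hMwi
    omega
  obtain ⟨w', hw'⟩ := hsurj (fun q => if q = ((1 : T) : T ⧸ c.W)
    then (QuotientGroup.mk (⟨x, hxW⟩ : ↥c.W) : ↥c.W ⧸ Mw) else 1)
  refine ⟨w', w'.2, ?_, ?_⟩
  · intro hwM
    have h1 : f ((1 : T) : T ⧸ c.W) w' = 1 := by
      rw [hf, ← conj_out_mem_M_iff c 1 w'.2]
      simpa using hwM
    have h2 : f ((1 : T) : T ⧸ c.W) w' = (QuotientGroup.mk (⟨x, hxW⟩ : ↥c.W) : ↥c.W ⧸ Mw) := by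
      have := congrFun hw' ((1 : T) : T ⧸ c.W)
      rw [if_pos rfl] at this
      exact this
    rw [h2, QuotientGroup.eq_one_iff, hMw, Subgroup.mem_subgroupOf] at h1
    exact hxM h1
  · intro t ht
    rw [conj_out_mem_M_iff c t w'.2, ← hf]
    have := congrFun hw' (t : T ⧸ c.W)
    have hne : (t : T ⧸ c.W) ≠ ((1 : T) : T ⧸ c.W) := by
      intro h
      apply ht
      have := QuotientGroup.eq.mp h
      have h2 : t⁻¹ ∈ c.W := by simpa using this
      simpa using c.W.inv_mem h2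
    have h3 : Φ w' (t : T ⧸ c.W) = 1 := by rw [this, if_neg hne]
    exact h3

end Cfsg.Agent.Lib.H13.RTW
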