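/-
S4959 (architect helper23), piece CRIT, group-theoretic part: in `X = V ⋊ G` (`V` an abelian normal `p`-subgroup
of exponent `p`, `p ∤ |G|`), for `v ∈ V`, `H = C_G(v)`, `h, h' ∈ H`:
`v h ~ v h'` iff `h ~_H h'`, and `|C_X(v h)| ≤ |C_V(h)| |C_H(h)|`.
-/
import Mathlib
import Cfsg.Agent.Lib.H24.CharBasic

set_option autoImplicit false

namespace Cfsg.Agent.Lib.H13.RV

variable {X : Type*} [Group X] [Finite X]

/-- `V = C_X(V)` is abelian -/
theorem V_comm (V : Subgroup X) (hself : Subgroup.centralizer (V : Set X) = V) :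
    ∀ a ∈ V, ∀ b ∈ V, a * b = b * a := by
  intro a ha b hb
  rw [← hself] at ha
  exact ((Subgroup.mem_centralizer_iff.1 ha) b hb).symm

/-- elements of the complement have order prime to `p` -/
theorem pow_index_eq_one (V G : Subgroup X) (hGV : Subgroup.IsComplement' V G) (k : X) (hk : k ∈ G) :
    k ^ V.index = 1 := by
  rw [hGV.symm.index_eq_card]
  have h1 : (⟨k, hk⟩ : ↥G) ^ Nat.card ↥G = 1 := pow_card_eq_one'
  have h2 := congrArg Subtype.val h1
  rw [Subgroup.coe_pow] at h2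
  exact h2

/-- `v` and `h` are powers of `v h`, with exponents depending only on `p` and `|G|` -/
theorem exists_parts (p : ℕ) [hp : Fact p.Prime] (V : Subgroup X) (hVexp : ∀ v ∈ V, v ^ p = 1)
    (hidx : ¬ p ∣ V.index) (G : Subgroup X) (hGV : Subgroup.IsComplement' V G) :
    ∃ a b : ℕ, ∀ v ∈ V, ∀ h ∈ G, h * v = v * h → (v * h) ^ a = v ∧ (v * h) ^ b = h := by
  have hcop : Nat.Coprime p V.index := (Nat.Prime.coprime_iff_not_dvd hp.out).2 hidx
  obtain ⟨a, ha1, ha2⟩ := Nat.chineseRemainder hcop 1 0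
  obtain ⟨b, hb1, hb2⟩ := Nat.chineseRemainder hcop 0 1
  refine ⟨a, b, fun v hv h hh hc => ?_⟩
  have hvp := hVexp v hv
  have hhn := pow_index_eq_one V G hGV h hh
  have hcomm : Commute v h := hc.symm
  constructor
  · rw [hcomm.mul_pow, pow_eq_pow_mod a hvp, pow_eq_pow_mod a hhn, ha1, ha2, ← pow_eq_pow_mod 1 hvp,
      ← pow_eq_pow_mod 0 hhn, pow_one, pow_zero, mul_one]
  · rw [hcomm.mul_pow, pow_eq_pow_mod b hvp, pow_eq_pow_mod b hhn, hb1, hb2, ← pow_eq_pow_mod 0 hvp,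
      ← pow_eq_pow_mod 1 hhn, pow_one, pow_zero, one_mul]

/-- the key decomposition: `x (v h) x⁻¹ = v h'` forces `x = w k`, `w ∈ C_V(h')`, `k ∈ C_G(v)`, `k h k⁻¹ = h'` -/
theorem conj_decomp (p : ℕ) [Fact p.Prime] (V : Subgroup X) [V.Normal] (hVexp : ∀ v ∈ V, v ^ p = 1)
    (hidx : ¬ p ∣ V.index) (hself : Subgroup.centralizer (V : Set X) = V) (G : Subgroup X)
    (hGV : Subgroup.IsComplement' V G) (v : X) (hv : v ∈ V)
    (h h' : X) (hh : h ∈ G ⊓ Subgroup.centralizer ({v} : Set X))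
    (hh' : h' ∈ G ⊓ Subgroup.centralizer ({v} : Set X)) (x : X)
    (hx : x * (v * h) * x⁻¹ = v * h') :
    ∃ w ∈ V, ∃ k ∈ G ⊓ Subgroup.centralizer ({v} : Set X),
      x = w * k ∧ k * h * k⁻¹ = h' ∧ w * h' = h' * w := by
  obtain ⟨a, b, hab⟩ := exists_parts p V hVexp hidx G hGV
  have hVc := V_comm V hself
  have hhv : h * v = v * h := ((Subgroup.mem_centralizer_iff.1 hh.2) v rfl).symm
  have hhv' : h' * v = v * h' := ((Subgroup.mem_centralizer_iff.1 hh'.2) v rfl).symm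
  obtain ⟨e1, e2⟩ := hab v hv h hh.1 hhv
  obtain ⟨e1', e2'⟩ := hab v hv h' hh'.1 hhv'
  have hxv : x * v * x⁻¹ = v := by
    rw [← e1, ← conj_pow, hx, e1', e1]
  have hxh : x * h * x⁻¹ = h' := by
    rw [← e2, ← conj_pow, hx, e2']
  -- decompose `x`
  obtain ⟨⟨⟨w, hw⟩, ⟨k, hk⟩⟩, hwk, -⟩ := (Subgroup.isComplement'_def.1 hGV).existsUnique x
  simp only at hwk
  have hx' : x = w * k := hwk.symm
  have hkv : k * v * k⁻¹ = v := by
    have h1 : w * (k * v * k⁻¹) * w⁻¹ = v := by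
      calc w * (k * v * k⁻¹) * w⁻¹ = (w * k) * v * (w * k)⁻¹ := by group
        _ = v := by rw [← hx']; exact hxv
    have h2 : k * v * k⁻¹ ∈ V := (inferInstance : V.Normal).conj_mem v hv k
    have h3 : k * v * k⁻¹ = w⁻¹ * v * w := by
      calc k * v * k⁻¹ = w⁻¹ * (w * (k * v * k⁻¹) * w⁻¹) * w := by group
        _ = w⁻¹ * v * w := by rw [h1]
    rw [h3, hVc _ (V.inv_mem hw) v hv, mul_assoc, inv_mul_cancel, mul_one]
  have hkc : k ∈ G ⊓ Subgroup.centralizer ({v} : Set X) := by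
    refine ⟨hk, ?_⟩
    show k ∈ Subgroup.centralizer ({v} : Set X)
    rw [Subgroup.mem_centralizer_iff]
    intro y hy
    rw [Set.mem_singleton_iff] at hy
    rw [hy]
    calc v * k = (k * v * k⁻¹) * k := by rw [hkv]
      _ = k * v := by group
  have hG'' : k * h * k⁻¹ ∈ G := G.mul_mem (G.mul_mem hk hh.1) (G.inv_mem hk)
  have hrel : h' = w * (k * h * k⁻¹) * w⁻¹ := by
    calc h' = (w * k) * h * (w * k)⁻¹ := by rw [← hx']; exact hxh.symm
      _ = w * (k * h * k⁻¹) * w⁻¹ := by group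
  have hmemV : h' * (k * h * k⁻¹)⁻¹ ∈ V := by
    have h1 : h' * (k * h * k⁻¹)⁻¹ = w * ((k * h * k⁻¹) * w⁻¹ * (k * h * k⁻¹)⁻¹) := by
      calc h' * (k * h * k⁻¹)⁻¹ = (w * (k * h * k⁻¹) * w⁻¹) * (k * h * k⁻¹)⁻¹ := by rw [← hrel]
        _ = w * ((k * h * k⁻¹) * w⁻¹ * (k * h * k⁻¹)⁻¹) := by group
    rw [h1]
    exact V.mul_mem hw ((inferInstance : V.Normal).conj_mem _ (V.inv_mem hw) _)
  have hmemG : h' * (k * h * k⁻¹)⁻¹ ∈ G := G.mul_mem hh'.1 (G.inv_mem hG'')
  have hone : h' * (k * h * k⁻¹)⁻¹ = 1 := by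
    have := hGV.disjoint
    rw [Subgroup.disjoint_def] at this
    exact this hmemV hmemG
  have heq : k * h * k⁻¹ = h' := (mul_inv_eq_one.1 hone).symm
  refine ⟨w, hw, k, hkc, hx', heq, ?_⟩
  have h4 : h' = w * h' * w⁻¹ := by
    rw [heq] at hrel
    exact hrel
  calc w * h' = (w * h' * w⁻¹) * w := by group
    _ = h' * w := by rw [← h4]

/-- a uniform inverse exponent -/
theorem exists_inv_exp (t m : ℕ) (ht : Nat.Coprime t m) :
    ∃ s : ℕ, ∀ g : X, g ^ m = 1 → (g ^ t) ^ s = g := by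
  rcases Nat.lt_or_ge 1 m with h1 | h1
  · obtain ⟨s, -, hs⟩ := Nat.exists_mul_mod_eq_one_of_coprime ht h1
    refine ⟨s, fun g hg => ?_⟩
    rw [← pow_mul, pow_eq_pow_mod (t * s) hg, hs, pow_one]
  · refine ⟨1, fun g hg => ?_⟩
    interval_cases m
    · have : t = 1 := by simpa using ht
      rw [this, pow_one, pow_one]
    · rw [pow_one] at hg
      rw [hg, one_pow, one_pow]

theorem isConj_of_pow (t m : ℕ) (ht : Nat.Coprime t m) (hm : ∀ x : X, x ^ m = 1) (g g' : X)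
    (h : IsConj (g ^ t) (g' ^ t)) : ∃ c : X, c * g * c⁻¹ = g' := by
  obtain ⟨s, hs⟩ := exists_inv_exp (X := X) t m ht
  obtain ⟨c, hc⟩ := isConj_iff.1 h
  refine ⟨c, ?_⟩
  have := congrArg (fun z => z ^ s) hc
  rw [conj_pow, hs g (hm g), hs g' (hm g')] at this
  exact this

theorem centralizer_pow (t m : ℕ) (ht : Nat.Coprime t m) (hm : ∀ x : X, x ^ m = 1) (g : X) :
    Subgroup.centralizer ({g ^ t} : Set X) = Subgroup.centralizer ({g} : Set X) := by
  obtain ⟨s, hs⟩ := exists_inv_exp (X := X) t m ht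
  ext x
  simp only [Subgroup.mem_centralizer_iff, Set.mem_singleton_iff, forall_eq]
  constructor
  · intro h
    have h1 : Commute (g ^ t) x := h
    have h2 := h1.pow_left s
    rw [hs g (hm g)] at h2
    exact h2
  · intro h
    have h1 : Commute g x := h
    exact h1.pow_left t

section main

variable (p : ℕ) [Fact p.Prime] (V : Subgroup X) [V.Normal] (hVexp : ∀ v ∈ V, v ^ p = 1)
  (hidx : ¬ p ∣ V.index) (hself : Subgroup.centralizer (V : Set X) = V) (G : Subgroup X)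
  (hGV : Subgroup.IsComplement' V G) (v : X) (hv : v ∈ V) (t m : ℕ) (ht : Nat.Coprime t m)
  (hm : ∀ x : X, x ^ m = 1)

include hVexp hidx hself hGV hv ht hm

/-- `(v h)^t ~ (v h')^t` in `X` forces `h ~ h'` in `H = C_G(v)` -/
theorem isConj_sub (h h' : ↥(G ⊓ Subgroup.centralizer ({v} : Set X)))
    (hc : IsConj ((v * (h : X)) ^ t) ((v * (h' : X)) ^ t)) : IsConj h h' := by
  obtain ⟨c, hc'⟩ := isConj_of_pow t m ht hm _ _ hc
  obtain ⟨w, -, k, hk, -, hkh, -⟩ := conj_decomp p V hVexp hidx hself G hGV v hv h h' h.2 h'.2 c hc'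
  rw [isConj_iff]
  refine ⟨⟨k, hk⟩, ?_⟩
  apply Subtype.ext
  simpa using hkh

/-- `|C_X((v h)^t)| ≤ |C_V(h)| |C_H(h)|` -/
theorem card_centralizer_le' (h : ↥(G ⊓ Subgroup.centralizer ({v} : Set X))) :
    Nat.card ↥(Subgroup.centralizer ({(v * (h : X)) ^ t} : Set X)) ≤
      Nat.card {w : X // w ∈ V ∧ (h : X) * w = w * (h : X)} *
        Nat.card ↥(Subgroup.centralizer ({h} : Set ↥(G ⊓ Subgroup.centralizer ({v} : Set X)))) := by
  rw [centralizer_pow t m ht hm, ← Nat.card_prod]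
  have hVc := V_comm V hself
  have hhv : (h : X) * v = v * (h : X) := ((Subgroup.mem_centralizer_iff.1 h.2.2) v rfl).symm
  let f : {w : X // w ∈ V ∧ (h : X) * w = w * (h : X)} ×
      ↥(Subgroup.centralizer ({h} : Set ↥(G ⊓ Subgroup.centralizer ({v} : Set X)))) →
      ↥(Subgroup.centralizer ({v * (h : X)} : Set X)) := fun wk =>
    ⟨wk.1.1 * ((wk.2.1 : ↥(G ⊓ Subgroup.centralizer ({v} : Set X))) : X), by
      rw [Subgroup.mem_centralizer_iff]
      intro y hy
      rw [Set.mem_singleton_iff] at hy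
      rw [hy]
      have hwv : v * wk.1.1 = wk.1.1 * v := hVc v hv _ wk.1.2.1
      have hwh : (h : X) * wk.1.1 = wk.1.1 * (h : X) := wk.1.2.2
      have hkv : v * ((wk.2.1 : ↥(G ⊓ Subgroup.centralizer ({v} : Set X))) : X) =
          ((wk.2.1 : ↥(G ⊓ Subgroup.centralizer ({v} : Set X))) : X) * v :=
        (Subgroup.mem_centralizer_iff.1 wk.2.1.2.2) v rfl
      have hkh : (h : X) * ((wk.2.1 : ↥(G ⊓ Subgroup.centralizer ({v} : Set X))) : X) =
          ((wk.2.1 : ↥(G ⊓ Subgroup.centralizer ({v} : Set X))) : X) * (h : X) := by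
        have := (Subgroup.mem_centralizer_iff.1 wk.2.2) h rfl
        have := congrArg Subtype.val this
        simpa using this
      calc v * (h : X) * (wk.1.1 * ((wk.2.1 : ↥(G ⊓ Subgroup.centralizer ({v} : Set X))) : X))
          = v * ((h : X) * wk.1.1) * ((wk.2.1 : ↥(G ⊓ Subgroup.centralizer ({v} : Set X))) : X) := by
            group
        _ = (v * wk.1.1) * ((h : X) * ((wk.2.1 : ↥(G ⊓ Subgroup.centralizer ({v} : Set X))) : X)) := by
            rw [hwh]; group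
        _ = wk.1.1 * (v * ((wk.2.1 : ↥(G ⊓ Subgroup.centralizer ({v} : Set X))) : X)) * (h : X) := by
            rw [hwv, hkh]; group
        _ = wk.1.1 * ((wk.2.1 : ↥(G ⊓ Subgroup.centralizer ({v} : Set X))) : X) * (v * (h : X)) := by
            rw [hkv]; group⟩
  apply Nat.card_le_card_of_surjective f
  rintro ⟨x, hx⟩
  have hx' : x * (v * (h : X)) * x⁻¹ = v * (h : X) := by
    have := (Subgroup.mem_centralizer_iff.1 hx) (v * (h : X)) rfl
    calc x * (v * (h : X)) * x⁻¹ = (v * (h : X) * x) * x⁻¹ := by rw [this]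
      _ = v * (h : X) := by group
  obtain ⟨w, hw, k, hk, hxwk, hkh, hwh⟩ :=
    conj_decomp p V hVexp hidx hself G hGV v hv h h h.2 h.2 x hx'
  refine ⟨⟨⟨w, hw, hwh.symm⟩, ⟨⟨k, hk⟩, ?_⟩⟩, ?_⟩
  · rw [Subgroup.mem_centralizer_iff]
    intro y hy
    rw [Set.mem_singleton_iff] at hy
    rw [hy]
    apply Subtype.ext
    have : k * (h : X) = (h : X) * k := by
      calc k * (h : X) = (k * (h : X) * k⁻¹) * k := by group
        _ = (h : X) * k := by rw [hkh]
    simpa using this.symm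
  · apply Subtype.ext
    simp only [f]
    exact hxwk.symm

/-- the counting bound used in the criterion -/
theorem card_centralizer_mul_le (h : ↥(G ⊓ Subgroup.centralizer ({v} : Set X))) :
    Nat.card ↥(Subgroup.centralizer ({(v * (h : X)) ^ t} : Set X)) *
      Nat.card {h' : ↥(G ⊓ Subgroup.centralizer ({v} : Set X)) //
        IsConj ((v * (h : X)) ^ t) ((v * (h' : X)) ^ t)} ≤
      Nat.card {w : X // w ∈ V ∧ (h : X) * w = w * (h : X)} *
        Nat.card ↥(G ⊓ Subgroup.centralizer ({v} : Set X)) := by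
  have h1 := card_centralizer_le' p V hVexp hidx hself G hGV v hv t m ht hm h
  have h2 : Nat.card {h' : ↥(G ⊓ Subgroup.centralizer ({v} : Set X)) //
      IsConj ((v * (h : X)) ^ t) ((v * (h' : X)) ^ t)} ≤
      Nat.card {h' : ↥(G ⊓ Subgroup.centralizer ({v} : Set X)) // IsConj h h'} := by
    apply Nat.card_le_card_of_injective
      (fun z : {h' : ↥(G ⊓ Subgroup.centralizer ({v} : Set X)) //
        IsConj ((v * (h : X)) ^ t) ((v * (h' : X)) ^ t)} =>
        (⟨z.1, isConj_sub p V hVexp hidx hself G hGV v hv t m ht hm h z.1 z.2⟩ :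
          {h' : ↥(G ⊓ Subgroup.centralizer ({v} : Set X)) // IsConj h h'}))
    intro z z' hzz
    apply Subtype.ext
    exact congrArg (fun u : {h' : ↥(G ⊓ Subgroup.centralizer ({v} : Set X)) // IsConj h h'} => u.1) hzz
  rw [← Cfsg.Agent.Lib.H24.index_centralizer_eq_card_conj] at h2
  have h3 := Subgroup.card_mul_index
    (Subgroup.centralizer ({h} : Set ↥(G ⊓ Subgroup.centralizer ({v} : Set X))))
  calc Nat.card ↥(Subgroup.centralizer ({(v * (h : X)) ^ t} : Set X)) *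
      Nat.card {h' : ↥(G ⊓ Subgroup.centralizer ({v} : Set X)) //
        IsConj ((v * (h : X)) ^ t) ((v * (h' : X)) ^ t)}
      ≤ (Nat.card {w : X // w ∈ V ∧ (h : X) * w = w * (h : X)} *
        Nat.card ↥(Subgroup.centralizer ({h} : Set ↥(G ⊓ Subgroup.centralizer ({v} : Set X))))) *
        (Subgroup.centralizer ({h} : Set ↥(G ⊓ Subgroup.centralizer ({v} : Set X)))).index :=
        Nat.mul_le_mul h1 h2
    _ = Nat.card {w : X // w ∈ V ∧ (h : X) * w = w * (h : X)} *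
        Nat.card ↥(G ⊓ Subgroup.centralizer ({v} : Set X)) := by
        rw [mul_assoc, h3]

end main

end Cfsg.Agent.Lib.H13.RV
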