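/-
S4959 (architect helper23), piece CRIT, the second-orthogonality estimate for one Galois automorphism.
-/
import Mathlib
import Cfsg.Agent.Lib.H24.CharOrth
import Cfsg.Agent.Lib.H13.RVCRITa

set_option autoImplicit false

universe u

namespace Cfsg.Agent.Lib.H13.RV

open Cfsg
open scoped ComplexConjugate

variable {X : Type u} [Group X] [Finite X]

theorem sum_normSq_le (p : ℕ) [Fact p.Prime] (V : Subgroup X) [V.Normal] (hVexp : ∀ v ∈ V, v ^ p = 1)
    (hidx : ¬ p ∣ V.index) (hself : Subgroup.centralizer (V : Set X) = V) (G : Subgroup X)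
    (hGV : Subgroup.IsComplement' V G) (v : X) (hv : v ∈ V) (t m : ℕ) (ht : Nat.Coprime t m)
    (hm : ∀ x : X, x ^ m = 1)
    [Fintype (IrrCharacter X)] [Fintype ↥(G ⊓ Subgroup.centralizer ({v} : Set X))]
    (c : ↥(G ⊓ Subgroup.centralizer ({v} : Set X)) → ℂ)
    (hc : ∀ h k : ↥(G ⊓ Subgroup.centralizer ({v} : Set X)), c (k * h * k⁻¹) = c h)
    (hb : ∀ h : ↥(G ⊓ Subgroup.centralizer ({v} : Set X)),
      ‖c h‖ ^ 2 * (Nat.card {w : X // w ∈ V ∧ (h : X) * w = w * (h : X)} : ℝ) ≤ (Nat.card V : ℝ)) :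
    ∑ χ : IrrCharacter X,
        ‖∑ h : ↥(G ⊓ Subgroup.centralizer ({v} : Set X)), c h * (χ : X → ℂ) ((v * (h : X)) ^ t)‖ ^ 2 ≤
      (Nat.card ↥(G ⊓ Subgroup.centralizer ({v} : Set X)) : ℝ) ^ 2 * (Nat.card V : ℝ) := by
  classical
  haveI : Fintype X := Fintype.ofFinite X
  let g : ↥(G ⊓ Subgroup.centralizer ({v} : Set X)) → X := fun h => (v * (h : X)) ^ t
  let A : IrrCharacter X → ℂ := fun χ =>
    ∑ h : ↥(G ⊓ Subgroup.centralizer ({v} : Set X)), c h * (χ : X → ℂ) (g h)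
  let cd : ↥(G ⊓ Subgroup.centralizer ({v} : Set X)) → ℕ := fun h =>
    Nat.card ↥(Subgroup.centralizer ({g h} : Set X))
  let N : ↥(G ⊓ Subgroup.centralizer ({v} : Set X)) → ℕ := fun h =>
    Nat.card {h' : ↥(G ⊓ Subgroup.centralizer ({v} : Set X)) // IsConj (g h) (g h')}
  show ∑ χ : IrrCharacter X, ‖A χ‖ ^ 2 ≤ _
  -- the double sum
  have key : ∑ χ : IrrCharacter X, A χ * conj (A χ) =
      ∑ h : ↥(G ⊓ Subgroup.centralizer ({v} : Set X)),
        ∑ h' : ↥(G ⊓ Subgroup.centralizer ({v} : Set X)),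
          c h * conj (c h') * (if IsConj (g h) (g h') then (cd h : ℂ) else 0) := by
    calc ∑ χ : IrrCharacter X, A χ * conj (A χ)
        = ∑ χ : IrrCharacter X, ∑ h : ↥(G ⊓ Subgroup.centralizer ({v} : Set X)),
            ∑ h' : ↥(G ⊓ Subgroup.centralizer ({v} : Set X)),
              c h * conj (c h') * ((χ : X → ℂ) (g h) * conj ((χ : X → ℂ) (g h'))) := by
          refine Finset.sum_congr rfl fun χ _ => ?_
          simp only [A]
          rw [map_sum, Finset.sum_mul_sum]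
          refine Finset.sum_congr rfl fun h _ => Finset.sum_congr rfl fun h' _ => ?_
          rw [map_mul]
          ring
      _ = ∑ h : ↥(G ⊓ Subgroup.centralizer ({v} : Set X)),
            ∑ h' : ↥(G ⊓ Subgroup.centralizer ({v} : Set X)), ∑ χ : IrrCharacter X,
              c h * conj (c h') * ((χ : X → ℂ) (g h) * conj ((χ : X → ℂ) (g h'))) := by
          rw [Finset.sum_comm]
          refine Finset.sum_congr rfl fun h _ => ?_
          rw [Finset.sum_comm]
      _ = _ := by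
          refine Finset.sum_congr rfl fun h _ => Finset.sum_congr rfl fun h' _ => ?_
          rw [← Finset.mul_sum, Cfsg.Agent.Lib.H24.second_orthogonality]
  -- the terms of the double sum
  have hterm : ∀ h h' : ↥(G ⊓ Subgroup.centralizer ({v} : Set X)),
      c h * conj (c h') * (if IsConj (g h) (g h') then (cd h : ℂ) else 0) =
        if IsConj (g h) (g h') then ((‖c h‖ ^ 2 * (cd h : ℝ) : ℝ) : ℂ) else 0 := by
    intro h h'
    split_ifs with hconj
    · have hcc : c h' = c h := by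
        obtain ⟨k, hk⟩ := isConj_iff.1
          (isConj_sub p V hVexp hidx hself G hGV v hv t m ht hm h h' hconj)
        rw [← hk, hc]
      rw [hcc, Complex.mul_conj, Complex.normSq_eq_norm_sq]
      push_cast
      ring
    · simp
  have hinner : ∀ h : ↥(G ⊓ Subgroup.centralizer ({v} : Set X)),
      ∑ h' : ↥(G ⊓ Subgroup.centralizer ({v} : Set X)),
        c h * conj (c h') * (if IsConj (g h) (g h') then (cd h : ℂ) else 0) =
      ((‖c h‖ ^ 2 * ((cd h * N h : ℕ) : ℝ) : ℝ) : ℂ) := by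
    intro h
    rw [Finset.sum_congr rfl fun h' _ => hterm h h', ← Finset.sum_filter, Finset.sum_const,
      nsmul_eq_mul]
    have hN : (Finset.univ.filter (fun h' : ↥(G ⊓ Subgroup.centralizer ({v} : Set X)) =>
        IsConj (g h) (g h'))).card = N h := by
      simp only [N]
      rw [Nat.card_eq_fintype_card, Fintype.card_subtype]
    rw [hN]
    push_cast
    ring
  have hreal : ((∑ χ : IrrCharacter X, ‖A χ‖ ^ 2 : ℝ) : ℂ) = ∑ χ : IrrCharacter X, A χ * conj (A χ) := by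
    push_cast
    refine Finset.sum_congr rfl fun χ _ => ?_
    rw [Complex.mul_conj, Complex.normSq_eq_norm_sq]
    push_cast
    rfl
  have heq : ∑ χ : IrrCharacter X, ‖A χ‖ ^ 2 =
      ∑ h : ↥(G ⊓ Subgroup.centralizer ({v} : Set X)), ‖c h‖ ^ 2 * ((cd h * N h : ℕ) : ℝ) := by
    apply Complex.ofReal_injective
    rw [hreal, key, Finset.sum_congr rfl fun h _ => hinner h]
    push_cast
    rfl
  rw [heq]
  have hle : ∀ h : ↥(G ⊓ Subgroup.centralizer ({v} : Set X)),
      ‖c h‖ ^ 2 * ((cd h * N h : ℕ) : ℝ) ≤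
        (Nat.card V : ℝ) * (Nat.card ↥(G ⊓ Subgroup.centralizer ({v} : Set X)) : ℝ) := by
    intro h
    have h1 := card_centralizer_mul_le p V hVexp hidx hself G hGV v hv t m ht hm h
    have h2 : ((cd h * N h : ℕ) : ℝ) ≤
        ((Nat.card {w : X // w ∈ V ∧ (h : X) * w = w * (h : X)} *
          Nat.card ↥(G ⊓ Subgroup.centralizer ({v} : Set X)) : ℕ) : ℝ) := by
      exact_mod_cast h1
    have h3 : (0 : ℝ) ≤ ‖c h‖ ^ 2 := by positivity
    calc ‖c h‖ ^ 2 * ((cd h * N h : ℕ) : ℝ)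
        ≤ ‖c h‖ ^ 2 * ((Nat.card {w : X // w ∈ V ∧ (h : X) * w = w * (h : X)} *
          Nat.card ↥(G ⊓ Subgroup.centralizer ({v} : Set X)) : ℕ) : ℝ) :=
          mul_le_mul_of_nonneg_left h2 h3
      _ = (‖c h‖ ^ 2 * (Nat.card {w : X // w ∈ V ∧ (h : X) * w = w * (h : X)} : ℝ)) *
          (Nat.card ↥(G ⊓ Subgroup.centralizer ({v} : Set X)) : ℝ) := by
          push_cast
          ring
      _ ≤ (Nat.card V : ℝ) * (Nat.card ↥(G ⊓ Subgroup.centralizer ({v} : Set X)) : ℝ) :=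
          mul_le_mul_of_nonneg_right (hb h) (by positivity)
  calc ∑ h : ↥(G ⊓ Subgroup.centralizer ({v} : Set X)), ‖c h‖ ^ 2 * ((cd h * N h : ℕ) : ℝ)
      ≤ ∑ _h : ↥(G ⊓ Subgroup.centralizer ({v} : Set X)),
          (Nat.card V : ℝ) * (Nat.card ↥(G ⊓ Subgroup.centralizer ({v} : Set X)) : ℝ) :=
        Finset.sum_le_sum fun h _ => hle h
    _ = (Nat.card ↥(G ⊓ Subgroup.centralizer ({v} : Set X)) : ℝ) ^ 2 * (Nat.card V : ℝ) := by
        rw [Finset.sum_const, Finset.card_univ, nsmul_eq_mul, ← Nat.card_eq_fintype_card]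
        ring

end Cfsg.Agent.Lib.H13.RV
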