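/-
S4959 (architect helper23), piece CRIT: `class_number_le` (the Robinson–Thompson criterion).
-/
import Mathlib
import Cfsg.Agent.Lib.H23.RVDefs
import Cfsg.Agent.Lib.H23.CharGalois
import Cfsg.Agent.Lib.H24.CharOrth
import Cfsg.Agent.Lib.H13.RVCRITb

set_option autoImplicit false

universe u

namespace Cfsg.Agent.Lib.H13.RV

open Cfsg Cfsg.Agent.Lib.H23 Cfsg.Agent.Lib.H23.RV
open scoped ComplexConjugate

section crit

variable {X : Type u} [Group X] [Finite X] (p : ℕ) [Fact p.Prime]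

/-- CRIT. -/
theorem class_number_le (V : Subgroup X) [V.Normal] (hVexp : ∀ v ∈ V, v ^ p = 1)
    (hidx : ¬ p ∣ V.index) (hself : Subgroup.centralizer (V : Set X) = V) (G : Subgroup X)
    (hGV : Subgroup.IsComplement' V G) (v : X) (hv : v ∈ V)
    (m : ℕ) [NeZero m] (hm : ∀ x : X, x ^ m = 1)
    (y : ↥(G ⊓ Subgroup.centralizer ({v} : Set X)) → CyclotomicField m ℚ)
    (hy : ∀ h g : ↥(G ⊓ Subgroup.centralizer ({v} : Set X)), y (g * h * g⁻¹) = y h)
    (hnorm : ∀ (σ : Gal(CyclotomicField m ℚ/ℚ)) (h : ↥(G ⊓ Subgroup.centralizer ({v} : Set X))),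
      ‖cycEmb m (σ (y h))‖ ^ 2 * (Nat.card {w : X // w ∈ V ∧ (h : X) * w = w * (h : X)} : ℝ) ≤
        (Nat.card V : ℝ))
    (hint : ∀ χ : X → ℂ, IsIrrCharacter X χ →
      (∑ᶠ h : ↥(G ⊓ Subgroup.centralizer ({v} : Set X)), cycEmb m (y h) * χ (v * (h : X))) ≠ 0 ∧
      IsIntegral ℤ ((Nat.card ↥(G ⊓ Subgroup.centralizer ({v} : Set X)) : ℂ)⁻¹ *
        ∑ᶠ h : ↥(G ⊓ Subgroup.centralizer ({v} : Set X)), cycEmb m (y h) * χ (v * (h : X)))) :
    Nat.card (ConjClasses X) ≤ Nat.card V := by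
  classical
  haveI : Fintype (IrrCharacter X) := Fintype.ofFinite _
  haveI : Fintype ↥(G ⊓ Subgroup.centralizer ({v} : Set X)) := Fintype.ofFinite _
  -- cyclotomic lifts of the character values
  have hz : ∀ (χ : IrrCharacter X) (h : ↥(G ⊓ Subgroup.centralizer ({v} : Set X))),
      ∃ z : CyclotomicField m ℚ, ∀ σ : Gal(CyclotomicField m ℚ/ℚ),
        cycEmb m (σ z) = (χ : X → ℂ) ((v * (h : X)) ^ (cycPow m σ).val) := by
    intro χ h
    obtain ⟨n, ρ, -, hρ⟩ := χ.2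
    obtain ⟨z, hz⟩ := exists_cyc_char m ρ (v * (h : X)) (hm _)
    exact ⟨z, fun σ => by rw [hz σ, hρ]⟩
  choose z hz using hz
  set nH : ℕ := Nat.card ↥(G ⊓ Subgroup.centralizer ({v} : Set X)) with hnH
  have hnH0 : (nH : ℝ) ≠ 0 := by
    have : 0 < nH := Nat.card_pos
    positivity
  let x : IrrCharacter X → CyclotomicField m ℚ := fun χ =>
    (nH : CyclotomicField m ℚ)⁻¹ * ∑ h : ↥(G ⊓ Subgroup.centralizer ({v} : Set X)), y h * z χ h
  have hx : ∀ (χ : IrrCharacter X) (σ : Gal(CyclotomicField m ℚ/ℚ)),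
      cycEmb m (σ (x χ)) = (nH : ℂ)⁻¹ *
        ∑ h : ↥(G ⊓ Subgroup.centralizer ({v} : Set X)),
          cycEmb m (σ (y h)) * (χ : X → ℂ) ((v * (h : X)) ^ (cycPow m σ).val) := by
    intro χ σ
    simp only [x]
    rw [map_mul, map_mul, map_inv₀, map_inv₀, map_natCast, map_natCast, map_sum, map_sum]
    congr 1
    refine Finset.sum_congr rfl fun h _ => ?_
    rw [map_mul, map_mul, hz]
  -- the identity automorphism
  have hx1 : ∀ χ : IrrCharacter X, cycEmb m (x χ) = (nH : ℂ)⁻¹ *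
      ∑ h : ↥(G ⊓ Subgroup.centralizer ({v} : Set X)), cycEmb m (y h) * (χ : X → ℂ) (v * (h : X)) := by
    intro χ
    have := hx χ 1
    rw [AlgEquiv.one_apply] at this
    rw [this]
    congr 1
    refine Finset.sum_congr rfl fun h _ => ?_
    have hk : (cycPow m (1 : Gal(CyclotomicField m ℚ/ℚ))) = 1 := by
      simp [cycPow]
    rw [AlgEquiv.one_apply, hk, pow_val_one_eq m _ (hm _)]
  -- AM–GM for every irreducible character
  have ham : ∀ χ : IrrCharacter X, (Fintype.card Gal(CyclotomicField m ℚ/ℚ) : ℝ) ≤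
      ∑ σ : Gal(CyclotomicField m ℚ/ℚ), ‖cycEmb m (σ (x χ))‖ ^ 2 := by
    intro χ
    obtain ⟨hne, hI⟩ := hint χ.1 χ.2
    rw [finsum_eq_sum_of_fintype] at hne hI
    have hI' : IsIntegral ℤ (cycEmb m (x χ)) := by
      rw [hx1]
      exact hI
    have hne' : cycEmb m (x χ) ≠ 0 := by
      rw [hx1]
      apply mul_ne_zero _ hne
      apply inv_ne_zero
      exact_mod_cast (Nat.card_pos (α := ↥(G ⊓ Subgroup.centralizer ({v} : Set X)))).ne'
    obtain ⟨N, hN0, hN⟩ := exists_int_prod_galois m (x χ) hI' hne'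
    apply card_le_sum_of_one_le_prod
    · intro σ
      positivity
    · rw [Finset.prod_pow, ← norm_prod, hN]
      have h1 : (1 : ℝ) ≤ ‖(N : ℂ)‖ := by
        rw [Complex.norm_intCast]
        exact_mod_cast Int.one_le_abs hN0
      nlinarith
  -- the second orthogonality estimate for every automorphism
  have hso : ∀ σ : Gal(CyclotomicField m ℚ/ℚ),
      ∑ χ : IrrCharacter X, ‖cycEmb m (σ (x χ))‖ ^ 2 ≤ (Nat.card V : ℝ) := by
    intro σ
    have ht : Nat.Coprime (cycPow m σ).val m := by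
      unfold cycPow
      exact ZMod.val_coe_unit_coprime _
    have h1 := sum_normSq_le p V hVexp hidx hself G hGV v hv (cycPow m σ).val m ht hm
      (fun h => cycEmb m (σ (y h))) (fun h k => by rw [hy]) (hnorm σ)
    have h2 : ∀ χ : IrrCharacter X, ‖cycEmb m (σ (x χ))‖ ^ 2 =
        ((nH : ℝ) ^ 2)⁻¹ * ‖∑ h : ↥(G ⊓ Subgroup.centralizer ({v} : Set X)),
          cycEmb m (σ (y h)) * (χ : X → ℂ) ((v * (h : X)) ^ (cycPow m σ).val)‖ ^ 2 := by
      intro χ
      rw [hx, norm_mul, norm_inv, Complex.norm_natCast, mul_pow, inv_pow]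
    rw [Finset.sum_congr rfl fun χ _ => h2 χ, ← Finset.mul_sum]
    calc ((nH : ℝ) ^ 2)⁻¹ * ∑ χ : IrrCharacter X,
          ‖∑ h : ↥(G ⊓ Subgroup.centralizer ({v} : Set X)),
            cycEmb m (σ (y h)) * (χ : X → ℂ) ((v * (h : X)) ^ (cycPow m σ).val)‖ ^ 2
        ≤ ((nH : ℝ) ^ 2)⁻¹ * ((nH : ℝ) ^ 2 * (Nat.card V : ℝ)) :=
          mul_le_mul_of_nonneg_left h1 (by positivity)
      _ = (Nat.card V : ℝ) := by
          field_simp
  -- put everything together
  have hsum : (Fintype.card (IrrCharacter X) : ℝ) * (Fintype.card Gal(CyclotomicField m ℚ/ℚ) : ℝ) ≤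
      (Fintype.card Gal(CyclotomicField m ℚ/ℚ) : ℝ) * (Nat.card V : ℝ) := by
    calc (Fintype.card (IrrCharacter X) : ℝ) * (Fintype.card Gal(CyclotomicField m ℚ/ℚ) : ℝ)
        = ∑ _χ : IrrCharacter X, (Fintype.card Gal(CyclotomicField m ℚ/ℚ) : ℝ) := by
          rw [Finset.sum_const, Finset.card_univ, nsmul_eq_mul]
      _ ≤ ∑ χ : IrrCharacter X, ∑ σ : Gal(CyclotomicField m ℚ/ℚ), ‖cycEmb m (σ (x χ))‖ ^ 2 :=
          Finset.sum_le_sum fun χ _ => ham χ
      _ = ∑ σ : Gal(CyclotomicField m ℚ/ℚ), ∑ χ : IrrCharacter X, ‖cycEmb m (σ (x χ))‖ ^ 2 :=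
          Finset.sum_comm
      _ ≤ ∑ _σ : Gal(CyclotomicField m ℚ/ℚ), (Nat.card V : ℝ) :=
          Finset.sum_le_sum fun σ _ => hso σ
      _ = (Fintype.card Gal(CyclotomicField m ℚ/ℚ) : ℝ) * (Nat.card V : ℝ) := by
          rw [Finset.sum_const, Finset.card_univ, nsmul_eq_mul]
  have hgal : (0 : ℝ) < (Fintype.card Gal(CyclotomicField m ℚ/ℚ) : ℝ) := by
    exact_mod_cast Fintype.card_pos
  have hfin : (Fintype.card (IrrCharacter X) : ℝ) ≤ (Nat.card V : ℝ) := by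
    rw [mul_comm] at hsum
    exact le_of_mul_le_mul_left hsum hgal
  rw [← Cfsg.Agent.Lib.H24.card_irr_eq_card_conjClasses, Nat.card_eq_fintype_card]
  exact_mod_cast hfin

end crit

end Cfsg.Agent.Lib.H13.RV
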