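import Cfsg.Agent.Lib.H9.S3571Defs
import Cfsg.Agent.Lib.H18.AGN1
import Cfsg.Agent.S0713

/-!
helper13: S3571 group block, piece (C4a): a primitive subgroup `H` of `Sym(m)`, `m ≥ 8`, not
containing `A_m`, has order prime to some prime `p'` with `m/2 < p' ≤ m`.
Route: choose `p'` with `m < 2 p'` and `p' + 3 ≤ m`; an element of order `p'` of `Sym(m)` is a
`p'`-cycle, so Jordan's theorem (landed S0713) would give `A_m ≤ H`.
-/

set_option autoImplicit false

namespace Cfsg.Agent.Lib.H13.S3571C4a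

open Equiv

/-- a prime `p'` with `m < 2 p'` and `p' + 3 ≤ m`, for `m ≥ 8`. -/
theorem exists_prime_window (m : ℕ) (hm : 8 ≤ m) :
    ∃ p' : ℕ, p'.Prime ∧ m < 2 * p' ∧ p' + 3 ≤ m := by
  by_cases h1 : m ≤ 9
  · exact ⟨5, by norm_num, by omega, by omega⟩
  by_cases h2 : m ≤ 13
  · exact ⟨7, by norm_num, by omega, by omega⟩
  by_cases h3 : m ≤ 16
  · exact ⟨11, by norm_num, by omega, by omega⟩
  obtain ⟨p, q, hp, _, hmp, hpq, hqm⟩ := Cfsg.Agent.Lib.H18.AG.exists_primes_gap m (by omega)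
  exact ⟨p, hp, hmp, by omega⟩

/-- an element of prime order `p` of `Sym(m)` with `m < 2 p` is a `p`-cycle. -/
theorem isCycle_of_prime_order {m p : ℕ} (hp : p.Prime) (hmp : m < 2 * p)
    (σ : Perm (Fin m)) (hσ : orderOf σ = p) : σ.IsCycle ∧ σ.support.card = p := by
  subst hσ
  obtain ⟨n, hn⟩ := Equiv.Perm.cycleType_prime_order hp
  have hsum : σ.cycleType.sum = σ.support.card := Equiv.Perm.sum_cycleType σ
  have hle : σ.support.card ≤ m := by
    have := Finset.card_le_univ σ.support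
    simpa using this
  rw [hn, Multiset.sum_replicate, smul_eq_mul] at hsum
  have hn0 : n = 0 := by
    by_contra h
    have h2 : 2 ≤ n + 1 := by omega
    have h3 : 2 * orderOf σ ≤ (n + 1) * orderOf σ := Nat.mul_le_mul_right _ h2
    omega
  subst hn0
  refine ⟨?_, ?_⟩
  · rw [← Equiv.Perm.card_cycleType_eq_one, hn]; simp
  · rw [← hsum]; simp

/-- **(C4a)** -/
theorem c4a : Cfsg.Agent.Lib.H9.S3571.C4aStmt := by
  intro m H hm hprim hHA
  obtain ⟨p', hp', hmp, hpm⟩ := exists_prime_window m hm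
  refine ⟨p', hp', hmp, by omega, ?_⟩
  intro hdvd
  have := Fact.mk hp'
  obtain ⟨σ, hσ⟩ := exists_prime_orderOf_dvd_card' p' hdvd
  have hσ' : orderOf (σ : Perm (Fin m)) = p' := by rw [Subgroup.orderOf_coe]; exact hσ
  obtain ⟨hcyc, hsupp⟩ := isCycle_of_prime_order hp' hmp (σ : Perm (Fin m)) hσ'
  apply hHA
  exact Cfsg.Agent.S0713.result H hprim hp' (by simpa using (by omega : 5 ≤ m))
    (by simpa using hpm) hcyc hsupp σ.2

end Cfsg.Agent.Lib.H13.S3571C4a
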