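import Mathlib

/-!
S3776, pre-built elementwise bricks for STEP 1 of helper9's paper proof (#9777):
* `comm_sq_eq_one_of_class2`: class 2 with central squares gives `(g * h * g⁻¹ * h⁻¹) ^ 2 = 1` (Step 1b).
* `exists_center_order_four`: a central element outside `V = {x | x ^ 2 = 1}` of a finite
  2-group has a power `z` with `z ^ 4 = 1`, `z ^ 2 ≠ 1`.
* `step1a`: if `Z(G) ≰ V` and the acting group is transitive on `V \ {1}`, then every `x`
  with `x ^ 2 ∈ V` is central, and `x ^ 2 = z ^ 2` for a central `z` with `z ^ 4 = 1`.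
-/

namespace Cfsg.Agent.Lib.H13.S3776S1A

theorem comm_sq_eq_one_of_class2 {G : Type*} [Group G]
    (h1 : ∀ g : G, g ^ 2 ∈ Subgroup.center G)
    (h2 : ∀ g h : G, g * h * g⁻¹ * h⁻¹ ∈ Subgroup.center G) :
    ∀ g h : G, (g * h * g⁻¹ * h⁻¹) ^ 2 = 1 := by
  intro g h
  have hc := h2 g h
  have hg := h1 g
  rw [Subgroup.mem_center_iff] at hc hg
  have h3 := hg h
  rw [sq] at h3
  rw [sq]
  have e1 : (g * h * g⁻¹ * h⁻¹) * (g * h * g⁻¹ * h⁻¹)
      = g * (g * h * g⁻¹ * h⁻¹) * g⁻¹ * (g * h * g⁻¹ * h⁻¹) := by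
    rw [hc g]; group
  rw [e1]
  calc g * (g * h * g⁻¹ * h⁻¹) * g⁻¹ * (g * h * g⁻¹ * h⁻¹)
      = (g * g) * h * (g * g)⁻¹ * h⁻¹ := by group
    _ = 1 := by rw [← h3]; group

theorem exists_center_order_four {G : Type*} [Group G] [Finite G] (hG : IsPGroup 2 G)
    (z0 : G) (hz0 : z0 ∈ Subgroup.center G) (hz0V : z0 ^ 2 ≠ 1) :
    ∃ z ∈ Subgroup.center G, z ^ 4 = 1 ∧ z ^ 2 ≠ 1 := by
  obtain ⟨k, hk⟩ := hG z0
  -- minimal such k
  classical
  have hex : ∃ k, z0 ^ 2 ^ k = 1 := ⟨k, hk⟩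
  set m := Nat.find hex with hm
  have hm1 : z0 ^ 2 ^ m = 1 := Nat.find_spec hex
  have hm2 : 2 ≤ m := by
    by_contra hlt
    rw [not_le] at hlt
    interval_cases m
    · apply hz0V
      rw [pow_zero, pow_one] at hm1
      rw [hm1, one_pow]
    · apply hz0V
      rw [pow_one] at hm1
      exact hm1
  have hm3 : z0 ^ 2 ^ (m - 1) ≠ 1 := by
    have : m - 1 < m := by omega
    exact Nat.find_min hex this
  refine ⟨z0 ^ 2 ^ (m - 2), Subgroup.pow_mem _ hz0 _, ?_, ?_⟩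
  · rw [← pow_mul]
    have : 2 ^ (m - 2) * 4 = 2 ^ m := by
      have : m = (m - 2) + 2 := by omega
      conv_rhs => rw [this, pow_add]
      norm_num
    rw [this, hm1]
  · rw [← pow_mul]
    have : 2 ^ (m - 2) * 2 = 2 ^ (m - 1) := by
      have : m - 1 = (m - 2) + 1 := by omega
      rw [this, pow_succ]
    rw [this]
    exact hm3

theorem step1a {G E : Type*} [Group G] [Finite G] [Group E] (hG : IsPGroup 2 G)
    (φ : E →* MulAut G) (V : Subgroup G) (hVmem : ∀ x : G, x ∈ V ↔ x ^ 2 = 1)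
    (hVc : ∀ v ∈ V, ∀ g : G, g * v = v * g)
    (htr : ∀ v w : G, v ∈ V → w ∈ V → v ≠ 1 → w ≠ 1 → ∃ e : E, φ e v = w)
    (z0 : G) (hz0 : z0 ∈ Subgroup.center G) (hz0V : z0 ∉ V) :
    ∀ x : G, x ^ 2 ∈ V →
      x ∈ Subgroup.center G ∧ ∃ z ∈ Subgroup.center G, z ^ 4 = 1 ∧ z ^ 2 = x ^ 2 := by
  have hVcen : ∀ v ∈ V, v ∈ Subgroup.center G := by
    intro v hv
    rw [Subgroup.mem_center_iff]
    exact hVc v hv
  obtain ⟨z1, hz1c, hz14, hz12⟩ := exists_center_order_four hG z0 hz0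
    (fun h => hz0V ((hVmem z0).2 h))
  intro x hx
  by_cases hx1 : x ^ 2 = 1
  · refine ⟨hVcen x ((hVmem x).2 hx1), 1, Subgroup.one_mem _, one_pow _, ?_⟩
    rw [one_pow, hx1]
  · have hz1V : z1 ^ 2 ∈ V := by
      rw [hVmem, ← pow_mul]; exact hz14
    obtain ⟨e, he⟩ := htr (z1 ^ 2) (x ^ 2) hz1V hx hz12 hx1
    have hzc : φ e z1 ∈ Subgroup.center G := by
      rw [Subgroup.mem_center_iff] at hz1c ⊢
      intro g
      have := hz1c ((φ e).symm g)
      have h2 := congrArg (φ e) this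
      simpa using h2
    have hz2 : (φ e z1) ^ 2 = x ^ 2 := by
      rw [← map_pow]; exact he
    have hz4 : (φ e z1) ^ 4 = 1 := by
      rw [← map_pow, hz14, map_one]
    refine ⟨?_, φ e z1, hzc, hz4, hz2⟩
    set z := φ e z1 with hz
    have hzc' := hzc
    rw [Subgroup.mem_center_iff] at hzc'
    have hxz : (x * z⁻¹) ^ 2 = 1 := by
      have h1 : (x * z⁻¹) ^ 2 = x ^ 2 * (z ^ 2)⁻¹ := by
        have hcomm : Commute x z⁻¹ := by
          have : Commute x z := (hzc' x)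
          exact this.inv_right
        rw [hcomm.mul_pow, inv_pow]
      rw [h1, hz2, mul_inv_cancel]
    have hxzV : x * z⁻¹ ∈ V := (hVmem _).2 hxz
    have : x = (x * z⁻¹) * z := by group
    rw [this]
    exact Subgroup.mul_mem _ (hVcen _ hxzV) hzc

end Cfsg.Agent.Lib.H13.S3776S1A
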