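import Cfsg.Agent.Lib.H9.S3776Defs
import Cfsg.Agent.Lib.H13.S3776S1A

/-!
S3776 pieces (S1A) and (S1B) of helper9's cut `Cfsg.Agent.Lib.H9.S3776Defs`.

`S1AStmt` of the cut has no 2-group hypothesis and is false as typed (`C2 × C2 × C7` with `C3`
acting); `S1AStmt'` below is `S1AStmt` with the extra hypothesis `IsPGroup 2 G`.
-/

set_option autoImplicit false

namespace Cfsg.Agent.Lib.H13.S3776S1

open Cfsg.Agent.Lib.H9.S3776

universe u

/-- (S1A) step (1a), with the 2-group hypothesis -/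
def S1AStmt' : Prop :=
  ∀ (G E : Type u) [Group G] [Finite G] [Group E] [Finite E] (φ : E →* MulAut G) (V : Subgroup G),
    IsPGroup 2 G → Frame φ V → (∃ z ∈ Subgroup.center G, z ^ 2 ≠ 1) →
    (∀ v ∈ V, ∃ z ∈ Subgroup.center G, z ^ 2 = v) ∧ (∀ x : G, x ^ 2 ∈ V → x ∈ Subgroup.center G)

theorem s1a : S1AStmt'.{u} := by
  intro G E _ _ _ _ φ V hG fr hz
  obtain ⟨z0, hz0, hz0sq⟩ := hz
  have hz0V : z0 ∉ V := fun h => hz0sq ((fr.mem z0).1 h)
  have key := Cfsg.Agent.Lib.H13.S3776S1A.step1a hG φ V fr.mem fr.cen fr.trans z0 hz0 hz0V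
  refine ⟨?_, fun x hx => (key x hx).1⟩
  intro v hv
  -- v = 1 ^ 2 or use transitivity through `key` applied to a square root... use `key` directly:
  -- pick the central z1 of order 4 and move z1 ^ 2 to v
  by_cases hv1 : v = 1
  · exact ⟨1, Subgroup.one_mem _, by rw [hv1, one_pow]⟩
  · obtain ⟨z1, hz1c, hz14, hz12⟩ :=
      Cfsg.Agent.Lib.H13.S3776S1A.exists_center_order_four hG z0 hz0 hz0sq
    have hz1V : z1 ^ 2 ∈ V := by
      rw [fr.mem, ← pow_mul]; exact hz14
    obtain ⟨e, he⟩ := fr.trans (z1 ^ 2) v hz1V hv hz12 hv1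
    refine ⟨φ e z1, ?_, ?_⟩
    · rw [Subgroup.mem_center_iff] at hz1c ⊢
      intro g
      have := hz1c ((φ e).symm g)
      have h2 := congrArg (φ e) this
      simpa using h2
    · rw [← map_pow]; exact he

theorem s1b : S1BStmt.{u} := by
  intro G _ _ V hmem hcen hsq hcomm x y
  rw [hmem]
  apply Cfsg.Agent.Lib.H13.S3776S1A.comm_sq_eq_one_of_class2
  · intro g
    exact hcen _ (hsq g)
  · intro g h
    exact hcen _ (hcomm g h)

example : S1AStmt'.{0} := s1a
example : S1BStmt.{0} := s1b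

end Cfsg.Agent.Lib.H13.S3776S1
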