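import Mathlib

/-!
S3776, step (1c) of helper9's paper proof: the elementwise core.

`G` a finite 2-group, `V = {x | x ^ 2 = 1}` a central subgroup, irreducible under the acting
group, every `v ∈ V` a square of a central element, `{x | x ^ 2 ∈ V}` central, all commutators in
`V`, `G` not commutative.  Then for `N = 2 ^ r` the exponent of `G / V`: `g ↦ g ^ N` is a
homomorphism of `G` onto `V` with kernel exactly `Z(G)`.
-/

set_option autoImplicit false

namespace Cfsg.Agent.Lib.H13.S3776S1CCore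

section basic

variable {G : Type*} [Group G] (V : Subgroup G) (hmem : ∀ x : G, x ∈ V ↔ x ^ 2 = 1)
  (hcen : ∀ v ∈ V, ∀ g : G, g * v = v * g) (h3 : ∀ x y : G, x * y * x⁻¹ * y⁻¹ ∈ V)

include hmem hcen h3

set_option linter.unusedSectionVars false

theorem sq_comm (x y : G) : x ^ 2 * y = y * x ^ 2 := by
  have hc := h3 x y
  have hcc := hcen _ hc
  have hc2 := (hmem _).1 hc
  have e1 : x * y = (x * y * x⁻¹ * y⁻¹) * y * x := by group
  generalize x * y * x⁻¹ * y⁻¹ = c at hc hcc hc2 e1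
  calc x ^ 2 * y = x * (x * y) := by rw [sq, mul_assoc]
    _ = x * (c * y * x) := by rw [e1]
    _ = (x * c) * y * x := by simp only [mul_assoc]
    _ = (c * x) * y * x := by rw [hcc x]
    _ = c * (x * y) * x := by simp only [mul_assoc]
    _ = c * (c * y * x) * x := by rw [e1]
    _ = (c * c) * y * x * x := by simp only [mul_assoc]
    _ = y * x ^ 2 := by rw [← sq c, hc2, one_mul, sq, mul_assoc]

theorem sq_commute (x y : G) : Commute (x ^ 2) y := sq_comm V hmem hcen h3 x y

theorem mul_sq (g h : G) : (g * h) ^ 2 = (h * g * h⁻¹ * g⁻¹) * (g ^ 2 * h ^ 2) := by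
  have hc := h3 h g
  have hcc := hcen _ hc
  have e1 : h * g = (h * g * h⁻¹ * g⁻¹) * g * h := by group
  generalize h * g * h⁻¹ * g⁻¹ = c at hc hcc e1
  calc (g * h) ^ 2 = g * (h * g) * h := by rw [sq]; simp only [mul_assoc]
    _ = g * (c * g * h) * h := by rw [e1]
    _ = (g * c) * g * h * h := by simp only [mul_assoc]
    _ = (c * g) * g * h * h := by rw [hcc g]
    _ = c * (g ^ 2 * h ^ 2) := by simp only [sq, mul_assoc]

theorem mul_pow_four (g h : G) : (g * h) ^ 4 = g ^ 4 * h ^ 4 := by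
  have hc := h3 h g
  have hcc := hcen _ hc
  have hc2 := (hmem _).1 hc
  have e2 := mul_sq V hmem hcen h3 g h
  generalize h * g * h⁻¹ * g⁻¹ = c at hc hcc hc2 e2
  have hh : Commute (h ^ 2) (g ^ 2) := sq_commute V hmem hcen h3 h (g ^ 2)
  have hA : Commute (g ^ 2 * h ^ 2) c := hcc _
  calc (g * h) ^ 4 = ((g * h) ^ 2) ^ 2 := by rw [← pow_mul]
    _ = (c * (g ^ 2 * h ^ 2)) * (c * (g ^ 2 * h ^ 2)) := by rw [e2, sq]
    _ = (c * c) * ((g ^ 2 * h ^ 2) * (g ^ 2 * h ^ 2)) := hA.mul_mul_mul_comm c _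
    _ = (g ^ 2 * h ^ 2) * (g ^ 2 * h ^ 2) := by rw [← sq c, hc2, one_mul]
    _ = (g ^ 2 * g ^ 2) * (h ^ 2 * h ^ 2) := hh.mul_mul_mul_comm _ _
    _ = g ^ 4 * h ^ 4 := by rw [← pow_add, ← pow_add]

theorem mul_pow_four_mul (m : ℕ) (g h : G) : (g * h) ^ (4 * m) = g ^ (4 * m) * h ^ (4 * m) := by
  rw [pow_mul, pow_mul, pow_mul, mul_pow_four V hmem hcen h3]
  have : Commute (g ^ 4) (h ^ 4) := by
    have : g ^ 4 = (g ^ 2) ^ 2 := by rw [← pow_mul]
    rw [this]
    exact (sq_commute V hmem hcen h3 g (h ^ 4)).pow_left 2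
  exact this.mul_pow m

end basic


set_option linter.unusedSectionVars false
set_option maxHeartbeats 1000000 in
theorem s1c_core {G E : Type*} [Group G] [Finite G] [Group E] (φ : E →* MulAut G)
    (hG : IsPGroup 2 G) (V : Subgroup G) (hmem : ∀ x : G, x ∈ V ↔ x ^ 2 = 1)
    (hcen : ∀ v ∈ V, ∀ g : G, g * v = v * g)
    (hirr : ∀ W : Subgroup G, W ≤ V → (∀ e : E, ∀ w ∈ W, φ e w ∈ W) → W = ⊥ ∨ W = V)
    (h1 : ∀ v ∈ V, ∃ z ∈ Subgroup.center G, z ^ 2 = v)
    (h2 : ∀ x : G, x ^ 2 ∈ V → x ∈ Subgroup.center G)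
    (h3 : ∀ x y : G, x * y * x⁻¹ * y⁻¹ ∈ V) (hna : ∃ a b : G, a * b ≠ b * a) :
    ∃ N : ℕ, (∀ g h : G, (g * h) ^ N = g ^ N * h ^ N) ∧ (∀ g : G, g ^ N ∈ V) ∧
      (∀ v ∈ V, ∃ g : G, g ^ N = v) ∧ (∀ g : G, g ^ N = 1 ↔ g ∈ Subgroup.center G) := by
  classical
  have : Fact (Nat.Prime 2) := ⟨Nat.prime_two⟩
  obtain ⟨n, hn⟩ := IsPGroup.iff_card.mp hG
  have hex : ∃ r : ℕ, ∀ g : G, g ^ 2 ^ r ∈ V := by
    refine ⟨n, fun g => ?_⟩
    rw [← hn, pow_card_eq_one']
    exact V.one_mem
  -- the exponent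
  have hr2 : 2 ≤ Nat.find hex := by
    by_contra hlt
    rw [not_le] at hlt
    have hsq : ∀ g : G, g ^ 2 ∈ V := by
      intro g
      have hs := Nat.find_spec hex g
      have hcases : Nat.find hex = 0 ∨ Nat.find hex = 1 := by omega
      rcases hcases with h0 | h0
      · rw [h0, pow_zero, pow_one] at hs
        rw [(hmem g).1 hs]; exact V.one_mem
      · rw [h0, pow_one] at hs
        exact hs
    obtain ⟨a, b, hab⟩ := hna
    apply hab
    have := h2 a (hsq a)
    rw [Subgroup.mem_center_iff] at this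
    exact (this b).symm
  obtain ⟨r', hr'⟩ : ∃ r', Nat.find hex = r' + 2 := ⟨Nat.find hex - 2, by omega⟩
  have hN : ∀ g : G, g ^ 2 ^ (r' + 2) ∈ V := by
    intro g; rw [← hr']; exact Nat.find_spec hex g
  have hmin : ¬ ∀ g : G, g ^ 2 ^ (r' + 1) ∈ V := by
    apply Nat.find_min hex
    omega
  rw [not_forall] at hmin
  obtain ⟨g0, hg0⟩ := hmin
  have hNeq : (2 : ℕ) ^ (r' + 2) = 4 * 2 ^ r' := by rw [pow_add]; ring
  have hNeq2 : (2 : ℕ) ^ (r' + 2) = 2 ^ (r' + 1) * 2 := by rw [pow_succ]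
  set N : ℕ := 2 ^ (r' + 2) with hNdef
  have hmul : ∀ g h : G, (g * h) ^ N = g ^ N * h ^ N := by
    intro g h
    rw [hNeq]
    exact mul_pow_four_mul V hmem hcen h3 _ g h
  -- the homomorphism
  let θ : G →* G := { toFun := fun g => g ^ N, map_one' := one_pow N, map_mul' := hmul }
  have hθ : ∀ g, θ g = g ^ N := fun g => rfl
  have hφθ : ∀ (e : E) (g : G), φ e (θ g) = θ (φ e g) := by
    intro e g; rw [hθ, hθ, map_pow]
  -- onto
  have hrange : θ.range = V := by
    have hle : θ.range ≤ V := by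
      rintro _ ⟨g, rfl⟩; exact hN g
    rcases hirr θ.range hle (by
      rintro e _ ⟨g, rfl⟩
      exact ⟨φ e g, (hφθ e g).symm⟩) with hb | hb
    · exfalso
      apply hg0
      have : θ g0 ∈ θ.range := ⟨g0, rfl⟩
      rw [hb, Subgroup.mem_bot, hθ, hNeq2, pow_mul] at this
      exact (hmem _).2 this
    · exact hb
  have honto : ∀ v ∈ V, ∃ g : G, g ^ N = v := by
    intro v hv
    rw [← hrange] at hv
    obtain ⟨g, hg⟩ := hv
    exact ⟨g, hg⟩
  -- `V` is normal
  have hVn : V.Normal := ⟨fun v hv g => by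
    have := hcen v hv g
    rw [this, mul_assoc, mul_inv_cancel, mul_one]; exact hv⟩
  -- the squaring map into `G ⧸ V`
  let σ : G →* G ⧸ V :=
    { toFun := fun g => ((g ^ 2 : G) : G ⧸ V)
      map_one' := by simp
      map_mul' := fun g h => by
        show (((g * h) ^ 2 : G) : G ⧸ V) = ((g ^ 2 : G) : G ⧸ V) * ((h ^ 2 : G) : G ⧸ V)
        have hc : ((h * g * h⁻¹ * g⁻¹ : G) : G ⧸ V) = 1 :=
          (QuotientGroup.eq_one_iff _).2 (h3 h g)
        have e := mul_sq V hmem hcen h3 g h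
        generalize h * g * h⁻¹ * g⁻¹ = c at hc e
        rw [e, QuotientGroup.mk_mul, QuotientGroup.mk_mul, hc, one_mul] }
  have hσ : ∀ g, σ g = ((g ^ 2 : G) : G ⧸ V) := fun g => rfl
  have hker : ∀ g, g ∈ σ.ker ↔ g ^ 2 ∈ V := by
    intro g
    rw [MonoidHom.mem_ker, hσ, QuotientGroup.eq_one_iff]
  have hkercen : ∀ g ∈ σ.ker, g ∈ Subgroup.center G := fun g hg => h2 g ((hker g).1 hg)
  -- |ker σ| = |V| ^ 2
  let sqX : σ.ker →* V :=
    { toFun := fun x => ⟨(x : G) ^ 2, (hker x).1 x.2⟩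
      map_one' := by ext; simp
      map_mul' := fun x y => by
        ext
        show ((x : G) * (y : G)) ^ 2 = (x : G) ^ 2 * (y : G) ^ 2
        have hx := hkercen x x.2
        rw [Subgroup.mem_center_iff] at hx
        have : Commute (x : G) (y : G) := (hx y).symm
        exact this.mul_pow 2 }
  have hsqX : ∀ x : σ.ker, ((sqX x : V) : G) = (x : G) ^ 2 := fun x => rfl
  have hsqXsurj : Function.Surjective sqX := by
    rintro ⟨v, hv⟩
    obtain ⟨z, hz, hzv⟩ := h1 v hv
    have hzk : z ∈ σ.ker := by rw [hker, hzv]; exact hv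
    exact ⟨⟨z, hzk⟩, Subtype.ext hzv⟩
  have hcardker : Nat.card sqX.ker = Nat.card V := by
    have hVle : V ≤ σ.ker := by
      intro v hv
      rw [hker, (hmem v).1 hv]
      exact V.one_mem
    have : sqX.ker = V.subgroupOf σ.ker := by
      ext x
      rw [MonoidHom.mem_ker, Subgroup.mem_subgroupOf, hmem, ← hsqX]
      exact ⟨fun h => by rw [h]; rfl, fun h => Subtype.ext h⟩
    rw [← Subgroup.card_subtype σ.ker sqX.ker, this, Subgroup.map_subgroupOf_eq_of_le hVle]
  have hcardX : Nat.card σ.ker = Nat.card V * Nat.card V := by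
    have h1' := Subgroup.card_mul_index sqX.ker
    rw [Subgroup.index_ker, MonoidHom.range_eq_top.2 hsqXsurj, Subgroup.card_top, hcardker] at h1'
    exact h1'.symm
  -- B
  set B : Subgroup G := σ.range.comap (QuotientGroup.mk' V) with hBdef
  have hBidx : B.index = σ.range.index :=
    Subgroup.index_comap_of_surjective _ (QuotientGroup.mk'_surjective V)
  have hVpos : 0 < Nat.card V := Nat.card_pos
  have hRpos : 0 < Nat.card σ.range := Nat.card_pos
  have hBV : B.index = Nat.card V := by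
    have e1 := Subgroup.card_mul_index σ.ker
    rw [Subgroup.index_ker, hcardX] at e1
    have e2 := Subgroup.card_mul_index σ.range
    have e3 := Subgroup.card_eq_card_quotient_mul_card_subgroup V
    rw [← hBidx] at e2
    -- |V|^2 |R| = |G| = |G/V| |V| = |R| idx(B) |V|
    have e4 : Nat.card V * Nat.card V * Nat.card σ.range
        = Nat.card σ.range * B.index * Nat.card V := by rw [e1, e2, e3]
    have e5 : (Nat.card V * Nat.card σ.range) * Nat.card V
        = (Nat.card V * Nat.card σ.range) * B.index := by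
      calc _ = Nat.card V * Nat.card V * Nat.card σ.range := by ring
        _ = Nat.card σ.range * B.index * Nat.card V := e4
        _ = _ := by ring
    exact (Nat.eq_of_mul_eq_mul_left (Nat.mul_pos hVpos hRpos) e5).symm
  -- D = ker θ has index |V|
  have hDV : θ.ker.index = Nat.card V := by
    rw [Subgroup.index_ker, hrange]
  have hBcen : B ≤ Subgroup.center G := by
    intro g hg
    rw [hBdef, Subgroup.mem_comap] at hg
    obtain ⟨y, hy⟩ := hg
    rw [hσ, QuotientGroup.mk'_apply, QuotientGroup.eq] at hy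
    -- (y^2)⁻¹ * g ∈ V
    have hgy : g = y ^ 2 * ((y ^ 2)⁻¹ * g) := by group
    rw [hgy]
    apply Subgroup.mul_mem
    · rw [Subgroup.mem_center_iff]
      intro k
      exact (sq_comm V hmem hcen h3 y k).symm
    · rw [Subgroup.mem_center_iff]
      exact hcen _ hy
  have hBD : B ≤ θ.ker := by
    intro g hg
    rw [hBdef, Subgroup.mem_comap] at hg
    obtain ⟨y, hy⟩ := hg
    rw [hσ, QuotientGroup.mk'_apply, QuotientGroup.eq] at hy
    have hgy : g = y ^ 2 * ((y ^ 2)⁻¹ * g) := by group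
    rw [MonoidHom.mem_ker, hgy, map_mul, hθ, hθ]
    have e1 : (y ^ 2) ^ N = 1 := by
      rw [← pow_mul, mul_comm, pow_mul]
      exact (hmem _).1 (hN y)
    have e2 : ((y ^ 2)⁻¹ * g) ^ N = 1 := by
      rw [hNeq2, mul_comm, pow_mul, (hmem _).1 hy, one_pow]
    rw [e1, e2, one_mul]
  have hDB : θ.ker ≤ B := by
    have h := Subgroup.relIndex_mul_index hBD
    rw [hBV, hDV] at h
    have h' : B.relIndex θ.ker = 1 := by
      have : B.relIndex θ.ker * Nat.card V = 1 * Nat.card V := by rw [h, one_mul]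
      exact Nat.eq_of_mul_eq_mul_right hVpos this
    exact Subgroup.relIndex_eq_one.1 h'
  have hDcen : θ.ker ≤ Subgroup.center G := hDB.trans hBcen
  -- Z ≤ D
  have hcenD : Subgroup.center G ≤ θ.ker := by
    have hle : (Subgroup.center G).map θ ≤ V := by
      rintro _ ⟨z, _, rfl⟩; exact hN z
    rcases hirr _ hle (by
      rintro e _ ⟨z, hz, rfl⟩
      refine ⟨φ e z, ?_, (hφθ e z).symm⟩
      rw [SetLike.mem_coe, Subgroup.mem_center_iff] at hz ⊢
      intro g
      have := hz ((φ e).symm g)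
      have h2' := congrArg (φ e) this
      simpa using h2') with hb | hb
    · intro z hz
      have : θ z ∈ (Subgroup.center G).map θ := ⟨z, hz, rfl⟩
      rw [hb, Subgroup.mem_bot] at this
      exact this
    · exfalso
      obtain ⟨a, b, hab⟩ := hna
      apply hab
      have ha : θ a ∈ (Subgroup.center G).map θ := by rw [hb]; exact hN a
      obtain ⟨z, hz, hza⟩ := ha
      have hk : a * z⁻¹ ∈ θ.ker := by
        rw [MonoidHom.mem_ker, map_mul, map_inv, hza, mul_inv_cancel]
      have hc := hDcen hk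
      have : a = (a * z⁻¹) * z := by group
      have hac : a ∈ Subgroup.center G := by
        rw [this]; exact Subgroup.mul_mem _ hc hz
      rw [Subgroup.mem_center_iff] at hac
      exact (hac b).symm
  refine ⟨N, hmul, hN, honto, fun g => ⟨fun h => hDcen h, fun h => hcenD h⟩⟩

end Cfsg.Agent.Lib.H13.S3776S1CCore
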