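import Mathlib

/-!
# S3777 (Vaughan-Lee) — piece GEN (helper13)

Generators of `G` modulo `A` taken outside the maximal subgroup `M`, at most `l` of them
besides `y₀`, when `|G : A⟨y₀⟩| ≤ p ^ l`.
-/

set_option autoImplicit false

namespace Cfsg.Agent.Lib.H13.S3777Gen

open Subgroup

variable {G : Type*} [Group G]

/-- a group is not the union of two proper subgroups -/
theorem exists_notMem_notMem' (M B : Subgroup G) (hM : M ≠ ⊤) (hB : B ≠ ⊤) :
    ∃ y, y ∉ M ∧ y ∉ B := by
  obtain ⟨a, -, ha⟩ := SetLike.exists_of_lt (lt_top_iff_ne_top.mpr hM)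
  obtain ⟨b, -, hb⟩ := SetLike.exists_of_lt (lt_top_iff_ne_top.mpr hB)
  by_cases haB : a ∈ B
  · by_cases hbM : b ∈ M
    · refine ⟨a * b, ?_, ?_⟩
      · intro h
        exact ha (by simpa using M.mul_mem h (M.inv_mem hbM))
      · intro h
        exact hb (by simpa using B.mul_mem (B.inv_mem haB) h)
    · exact ⟨b, hbM, hb⟩
  · exact ⟨a, ha, haB⟩

/-- in a finite `p`-group, a strictly larger subgroup has index smaller by a factor `≥ p` -/
theorem index_mul_le_of_lt {p : ℕ} [Fact p.Prime] [Finite G] (hG : IsPGroup p G)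
    {H H' : Subgroup G} (hlt : H < H') : H'.index * p ≤ H.index := by
  have h1 : H.relIndex H' * H'.index = H.index := Subgroup.relIndex_mul_index hlt.le
  have hne : H.relIndex H' ≠ 1 := by
    intro h
    exact (not_le_of_gt hlt) (Subgroup.relIndex_eq_one.mp h)
  have hP : IsPGroup p ↥H' := hG.to_subgroup H'
  obtain ⟨k, hk⟩ := hP.index (H.subgroupOf H')
  have hk' : H.relIndex H' = p ^ k := hk
  have hk1 : 1 ≤ k := by
    rcases Nat.eq_zero_or_pos k with h0 | h0
    · exfalso; apply hne; rw [hk', h0, pow_zero]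
    · exact h0
  have hp : p ≤ H.relIndex H' := by
    rw [hk']
    calc p = p ^ 1 := (pow_one p).symm
      _ ≤ p ^ k := Nat.pow_le_pow_right (Fact.out : p.Prime).pos hk1
  calc H'.index * p ≤ H'.index * H.relIndex H' := Nat.mul_le_mul_left _ hp
    _ = H.index := by rw [mul_comm]; exact h1

/-- **(GEN0)** the chain argument -/
theorem exists_finset_sup_closure {p : ℕ} [Fact p.Prime] [Finite G] (hG : IsPGroup p G)
    (M : Subgroup G) (hM : M ≠ ⊤) (n : ℕ) :
    ∀ H : Subgroup G, H.index ≤ p ^ n →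
      ∃ S : Finset G, S.card ≤ n ∧ (∀ s ∈ S, s ∉ M) ∧
        H ⊔ Subgroup.closure (↑S : Set G) = ⊤ := by
  classical
  induction n with
  | zero =>
    intro H hidx
    refine ⟨∅, by simp, by simp, ?_⟩
    have h1 : H.index = 1 := by
      have hpos : 0 < H.index := Nat.pos_of_ne_zero (Subgroup.index_ne_zero_of_finite)
      have : H.index ≤ 1 := by simpa using hidx
      omega
    have hH : H = ⊤ := Subgroup.index_eq_one.mp h1
    simp [hH]
  | succ n ih =>
    intro H hidx
    by_cases hH : H = ⊤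
    · exact ⟨∅, by simp, by simp, by simp [hH]⟩
    · obtain ⟨s, hsM, hsH⟩ := exists_notMem_notMem' M H hM hH
      have hlt : H < H ⊔ zpowers s := by
        refine lt_of_le_of_ne le_sup_left ?_
        intro h
        apply hsH
        rw [h]
        exact (le_sup_right : zpowers s ≤ H ⊔ zpowers s) (mem_zpowers s)
      have h2 : (H ⊔ zpowers s).index * p ≤ H.index := index_mul_le_of_lt hG hlt
      have hppos : 0 < p := (Fact.out : p.Prime).pos
      have h3 : (H ⊔ zpowers s).index ≤ p ^ n := by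
        have : (H ⊔ zpowers s).index * p ≤ p ^ n * p := by
          calc (H ⊔ zpowers s).index * p ≤ H.index := h2
            _ ≤ p ^ (n + 1) := hidx
            _ = p ^ n * p := pow_succ p n
        exact Nat.le_of_mul_le_mul_right this hppos
      obtain ⟨S, hS1, hS2, hS3⟩ := ih (H ⊔ zpowers s) h3
      refine ⟨insert s S, ?_, ?_, ?_⟩
      · calc (insert s S).card ≤ S.card + 1 := Finset.card_insert_le s S
          _ ≤ n + 1 := Nat.succ_le_succ hS1
      · intro t ht
        rcases Finset.mem_insert.mp ht with rfl | ht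
        · exact hsM
        · exact hS2 t ht
      · have : Subgroup.closure (↑(insert s S) : Set G)
            = zpowers s ⊔ Subgroup.closure (↑S : Set G) := by
          rw [Finset.coe_insert, Set.insert_eq, Subgroup.closure_union,
            Subgroup.zpowers_eq_closure]
        rw [this, ← sup_assoc]
        exact hS3

/-- **(GEN)** generators of `G` modulo `A`: `y₀` and at most `l` further elements outside `M` -/
theorem exists_gens {p : ℕ} [Fact p.Prime] [Finite G] (hG : IsPGroup p G)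
    (M A : Subgroup G) (hM : M ≠ ⊤) (y₀ : G) (l : ℕ)
    (hidx : (A ⊔ zpowers y₀).index ≤ p ^ l) :
    ∃ S : Finset G, S.card ≤ l ∧ (∀ s ∈ S, s ∉ M) ∧
      A ⊔ Subgroup.closure (insert y₀ (↑S : Set G)) = ⊤ := by
  obtain ⟨S, hS1, hS2, hS3⟩ := exists_finset_sup_closure hG M hM l (A ⊔ zpowers y₀) hidx
  refine ⟨S, hS1, hS2, ?_⟩
  have : Subgroup.closure (insert y₀ (↑S : Set G))
      = zpowers y₀ ⊔ Subgroup.closure (↑S : Set G) := by
    rw [Set.insert_eq, Subgroup.closure_union, Subgroup.zpowers_eq_closure]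
  rw [this, ← sup_assoc]
  exact hS3

/-- `|G : A⟨y₀⟩| ≤ |M : A|` for `A ≤ M`, `|G : M| = p`, `y₀ ∉ M` -/
theorem index_sup_zpowers_le {p : ℕ} [Fact p.Prime] [Finite G] (hG : IsPGroup p G)
    (M A : Subgroup G) (hMidx : M.index = p) (hAM : A ≤ M) (y₀ : G) (hy₀ : y₀ ∉ M) (l : ℕ)
    (hidx : A.relIndex M = p ^ l) : (A ⊔ zpowers y₀).index ≤ p ^ l := by
  have hlt : A < A ⊔ zpowers y₀ := by
    refine lt_of_le_of_ne le_sup_left ?_
    intro h
    apply hy₀
    apply hAM
    rw [h]
    exact (le_sup_right : zpowers y₀ ≤ A ⊔ zpowers y₀) (mem_zpowers y₀)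
  have h2 : (A ⊔ zpowers y₀).index * p ≤ A.index := index_mul_le_of_lt hG hlt
  have h3 : A.index = p ^ l * p := by
    rw [← Subgroup.relIndex_mul_index hAM, hidx, hMidx]
  have hppos : 0 < p := (Fact.out : p.Prime).pos
  rw [h3] at h2
  exact Nat.le_of_mul_le_mul_right h2 hppos

/-- **(GEN')** the same with `|M : A| = p ^ l` as hypothesis -/
theorem exists_gens' {p : ℕ} [Fact p.Prime] [Finite G] (hG : IsPGroup p G)
    (M A : Subgroup G) (hMidx : M.index = p) (hAM : A ≤ M) (y₀ : G) (hy₀ : y₀ ∉ M) (l : ℕ)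
    (hidx : A.relIndex M = p ^ l) :
    ∃ S : Finset G, S.card ≤ l ∧ (∀ s ∈ S, s ∉ M) ∧
      A ⊔ Subgroup.closure (insert y₀ (↑S : Set G)) = ⊤ := by
  have hM : M ≠ ⊤ := by
    intro h
    rw [h, Subgroup.index_top] at hMidx
    exact (Fact.out : p.Prime).one_lt.ne hMidx
  exact exists_gens hG M A hM y₀ l (index_sup_zpowers_le hG M A hMidx hAM y₀ hy₀ l hidx)

/-- **(PROD)** a product of at most `l` factors `≤ p ^ d` is `≤ p ^ (l * d)` -/
theorem prod_le_pow {ι : Type*} {p : ℕ} (hp : 0 < p) (S : Finset ι) (c : ι → ℕ) (l d : ℕ)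
    (hc : ∀ s ∈ S, c s ≤ p ^ d) (hS : S.card ≤ l) : ∏ s ∈ S, c s ≤ p ^ (l * d) := by
  calc ∏ s ∈ S, c s ≤ ∏ _s ∈ S, p ^ d := Finset.prod_le_prod' hc
    _ = (p ^ d) ^ S.card := Finset.prod_const _
    _ = p ^ (S.card * d) := by rw [← pow_mul, mul_comm]
    _ ≤ p ^ (l * d) := Nat.pow_le_pow_right hp (Nat.mul_le_mul_right d hS)

end Cfsg.Agent.Lib.H13.S3777Gen
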