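import Cfsg.Agent.Lib.H5.S3777P1Defs
import Cfsg.Agent.Lib.H6.S3777Sub

/-!
# S3777 (Vaughan-Lee) — piece S4 of the `P1` step (helper13, twin)

The sub-pair `(K₀, A)`, `K₀ = A ⊔ zpowers y₀`, via the induction hypothesis.
-/

set_option autoImplicit false

namespace Cfsg.Agent.Lib.H13.S3777S4

open Subgroup Cfsg.Agent.Lib.H5.S3777 Cfsg.Agent.Lib.H6.S3777Sub

universe u

variable {G : Type u} [Group G]

/-- `|A⟨y⟩ : A| = p` when `y ^ p ∈ A`, `y ∉ A`, `A` normal -/
theorem relIndex_sup_zpowers {p : ℕ} [hp : Fact p.Prime] (A : Subgroup G) [A.Normal] (y : G)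
    (hyp : y ^ p ∈ A) (hy : y ∉ A) : A.relIndex (A ⊔ zpowers y) = p := by
  have h1 : (⊥ : Subgroup (G ⧸ A)).comap (QuotientGroup.mk' A) = A := by
    rw [MonoidHom.comap_bot, QuotientGroup.ker_mk']
  have h2 : (A ⊔ zpowers y).map (QuotientGroup.mk' A)
      = zpowers (QuotientGroup.mk' A y) := by
    rw [Subgroup.map_sup, QuotientGroup.map_mk'_self, bot_sup_eq, MonoidHom.map_zpowers]
  have h3 : orderOf (QuotientGroup.mk' A y) = p := by
    apply orderOf_eq_prime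
    · rw [← map_pow]
      exact (QuotientGroup.eq_one_iff _).2 hyp
    · intro h
      exact hy ((QuotientGroup.eq_one_iff _).1 h)
  calc A.relIndex (A ⊔ zpowers y)
      = ((⊥ : Subgroup (G ⧸ A)).comap (QuotientGroup.mk' A)).relIndex (A ⊔ zpowers y) := by
        rw [h1]
    _ = (⊥ : Subgroup (G ⧸ A)).relIndex ((A ⊔ zpowers y).map (QuotientGroup.mk' A)) :=
        Subgroup.relIndex_comap _ _ _
    _ = Nat.card ↥(zpowers (QuotientGroup.mk' A y)) := by
        rw [h2, Subgroup.relIndex_bot_left]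
    _ = p := by rw [Nat.card_zpowers, h3]

/-- **(S4)** -/
theorem s4 : S4Stmt.{u} := by
  intro p _ G _ _ hG hIH M A lam Delta hMidx hAn hAM hlam hidx hpow hcent hind hrel y0 hy0
  have : A.Normal := hAn
  have hpp : p.Prime := Fact.out
  have hAK : A ≤ A ⊔ zpowers y0 := le_sup_left
  have hy0K : y0 ∈ A ⊔ zpowers y0 :=
    (le_sup_right : zpowers y0 ≤ A ⊔ zpowers y0) (mem_zpowers y0)
  have hy0A : y0 ∉ A := fun h => hy0 (hAM h)
  have hrelK : A.relIndex (A ⊔ zpowers y0) = p :=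
    relIndex_sup_zpowers A y0 (hpow y0 hy0) hy0A
  -- `|G : K₀| = p ^ lam`
  have hAidx : A.index = p ^ lam * p := by
    rw [← Subgroup.relIndex_mul_index hAM, hidx, hMidx]
  have hK0idx : (A ⊔ zpowers y0).index = p ^ lam := by
    have h := Subgroup.relIndex_mul_index hAK
    rw [hrelK, hAidx] at h
    have : p * (A ⊔ zpowers y0).index = p * p ^ lam := by rw [h, mul_comm]
    exact Nat.eq_of_mul_eq_mul_left hpp.pos this
  have hK0top : A ⊔ zpowers y0 ≠ ⊤ := by
    intro h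
    rw [h, Subgroup.index_top] at hK0idx
    have : 1 < p ^ lam := Nat.one_lt_pow (by omega) hpp.one_lt
    omega
  -- `K₀ ⊓ M ≤ A`
  have hKM : ∀ k, k ∈ A ⊔ zpowers y0 → k ∈ M → k ∈ A := by
    have hle1 : A ≤ (A ⊔ zpowers y0) ⊓ M := le_inf hAK hAM
    have hle2 : (A ⊔ zpowers y0) ⊓ M ≤ A ⊔ zpowers y0 := inf_le_left
    have hmul := Subgroup.relIndex_mul_relIndex A ((A ⊔ zpowers y0) ⊓ M) (A ⊔ zpowers y0)
      hle1 hle2
    rw [hrelK] at hmul
    have hne1 : ((A ⊔ zpowers y0) ⊓ M).relIndex (A ⊔ zpowers y0) ≠ 1 := by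
      intro h
      have : A ⊔ zpowers y0 ≤ (A ⊔ zpowers y0) ⊓ M := Subgroup.relIndex_eq_one.mp h
      exact hy0 (this hy0K).2
    have hdiv : ((A ⊔ zpowers y0) ⊓ M).relIndex (A ⊔ zpowers y0) ∣ p :=
      Dvd.intro_left _ hmul
    have hp' : ((A ⊔ zpowers y0) ⊓ M).relIndex (A ⊔ zpowers y0) = p :=
      ((Nat.dvd_prime hpp).mp hdiv).resolve_left hne1
    rw [hp'] at hmul
    have h1 : A.relIndex ((A ⊔ zpowers y0) ⊓ M) = 1 := by
      have : A.relIndex ((A ⊔ zpowers y0) ⊓ M) * p = 1 * p := by rw [hmul, one_mul]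
      exact Nat.eq_of_mul_eq_mul_right hpp.pos this
    have hle : (A ⊔ zpowers y0) ⊓ M ≤ A := Subgroup.relIndex_eq_one.mp h1
    intro k hk hkM
    exact hle ⟨hk, hkM⟩
  -- the bound `Delta` inside `K₀`
  have hout : ∀ k : G, k ∈ A ⊔ zpowers y0 → k ∉ A →
      (centralizer ({k} : Set G)).relIndex (A ⊔ zpowers y0) ≤ p ^ Delta := by
    intro k hk hkA
    have hkM : k ∉ M := fun h => hkA (hKM k hk h)
    have hC : centralizer ({k} : Set G) ≤ A ⊔ zpowers y0 := by
      refine (hcent k hkM).trans (sup_le hAK ?_)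
      rw [Subgroup.zpowers_le]
      exact hk
    have h1 := Subgroup.relIndex_mul_index hC
    rw [hK0idx, hind k hkM] at h1
    have h2 : (centralizer ({k} : Set G)).relIndex (A ⊔ zpowers y0)
        = (centralizer ({k} : Set G)).relIndex A := by
      have hpos : 0 < p ^ lam := pow_pos hpp.pos lam
      have : (centralizer ({k} : Set G)).relIndex (A ⊔ zpowers y0) * p ^ lam
          = (centralizer ({k} : Set G)).relIndex A * p ^ lam := by rw [h1, mul_comm]
      exact Nat.eq_of_mul_eq_mul_right hpos this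
    rw [h2]
    exact hrel k hkM
  have hpair : IsPair p (A.subgroupOf (A ⊔ zpowers y0)) Delta :=
    isPair_of_relIndex (A ⊔ zpowers y0) A Delta hrelK hout
  obtain ⟨p1, p2, -⟩ := ih_subgroup hG hIH (A ⊔ zpowers y0) hK0top
  have hcard := card_commutator_subtype (A ⊔ zpowers y0)
  have hres := residual_iff (A ⊔ zpowers y0) A hAK
  have hnonres : ⁅A ⊔ zpowers y0, A ⊔ zpowers y0⁆ ≠ ⁅A, A⁆ →
      Nat.card ↥⁅A ⊔ zpowers y0, A ⊔ zpowers y0⁆ ≤ p ^ tri Delta := by
    intro hne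
    rw [← hcard]
    apply p1 (A.subgroupOf (A ⊔ zpowers y0)) Delta hpair
    intro h
    exact hne (hres.mp h).symm
  refine ⟨?_, hnonres⟩
  by_cases h : ⁅A ⊔ zpowers y0, A ⊔ zpowers y0⁆ = ⁅A, A⁆
  · rw [← hcard]
    exact p2 (A.subgroupOf (A ⊔ zpowers y0)) Delta hpair (hres.mpr h.symm)
  · exact (hnonres h).trans (Nat.pow_le_pow_right hpp.pos (Nat.le_add_right _ _))

end Cfsg.Agent.Lib.H13.S3777S4
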