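import Mathlib
import Cfsg.Agent.S0058

/-!
S3814, pre-built brick: the CONJUGATE-LINES lemma (group form).

`T = ⟨z, m⟩ = C_c × C_c` normalises the `c'`-group `V`, `C_V(m) = 1`, and `h` (normalising `V`,
centralising `m`) moves `z` to `z * m ^ j` with `c ∤ j`, so that the `c` lines `⟨z m^k⟩` of `T`
other than `⟨m⟩` are conjugate under `⟨h⟩`.  Then `C_V(z) ≠ 1` (coprime generation, landed S0058).
-/

set_option autoImplicit false

namespace Cfsg.Agent.Lib.H13.S3814ConjLines

theorem pow_eq_pow_of_modEq {G : Type*} [Group G] {x : G} {c a b : ℕ} (hx : x ^ c = 1)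
    (h : a ≡ b [MOD c]) : x ^ a = x ^ b := by
  rw [pow_eq_pow_iff_modEq]
  exact Nat.ModEq.of_dvd (orderOf_dvd_of_pow_eq_one hx) h

theorem conj_pow_formula {G : Type*} [Group G] (z m h : G) (j : ℕ) (_hzm : z * m = m * z)
    (hhm : h * m = m * h) (hconj : h * z * h⁻¹ = z * m ^ j) (t : ℕ) :
    h ^ t * z * (h ^ t)⁻¹ = z * m ^ (j * t) := by
  induction t with
  | zero => simp
  | succ t ih =>
    have hm' : ∀ n : ℕ, h * m ^ n * h⁻¹ = m ^ n := by
      intro n
      have : Commute h (m ^ n) := (show Commute h m from hhm).pow_right n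
      rw [this.eq, mul_assoc, mul_inv_cancel, mul_one]
    calc h ^ (t + 1) * z * (h ^ (t + 1))⁻¹
        = h * (h ^ t * z * (h ^ t)⁻¹) * h⁻¹ := by
          rw [pow_succ', mul_inv_rev]; simp only [mul_assoc]
      _ = h * (z * m ^ (j * t)) * h⁻¹ := by rw [ih]
      _ = (h * z * h⁻¹) * (h * m ^ (j * t) * h⁻¹) := by simp only [mul_assoc, inv_mul_cancel_left]
      _ = z * m ^ j * m ^ (j * t) := by rw [hconj, hm']
      _ = z * m ^ (j * (t + 1)) := by rw [mul_assoc, ← pow_add, mul_add, mul_one, add_comm]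

theorem fixed_of_conj_lines {G : Type*} [Group G] [Finite G] {c : ℕ} (hc : c.Prime)
    (V : Subgroup G) (hV : V ≠ ⊥) (hcop : (Nat.card V).Coprime c) (z m h : G)
    (hz : z ^ c = 1) (hm : m ^ c = 1) (hzm : z * m = m * z) (hzm' : z ∉ Subgroup.zpowers m)
    (hzV : z ∈ Subgroup.normalizer (V : Set G)) (hmV : m ∈ Subgroup.normalizer (V : Set G))
    (hhV : h ∈ Subgroup.normalizer (V : Set G)) (hhm : h * m = m * h) (j : ℕ) (hj : ¬ c ∣ j)
    (hconj : h * z * h⁻¹ = z * m ^ j) (hmfix : V ⊓ Subgroup.centralizer {m} = ⊥) :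
    V ⊓ Subgroup.centralizer {z} ≠ ⊥ := by
  classical
  intro hzfix
  have hc1 : 1 < c := hc.one_lt
  have hczm : Commute z m := hzm
  -- m ≠ 1
  have hm1 : m ≠ 1 := by
    intro h1
    apply hV
    rw [h1] at hmfix
    rw [← hmfix]
    ext v
    simp [Subgroup.mem_centralizer_iff]
  have hordm : orderOf m = c := by
    have hd := orderOf_dvd_of_pow_eq_one hm
    rcases (Nat.dvd_prime hc).1 hd with h1 | h1
    · exact absurd (orderOf_eq_one_iff.1 h1) hm1
    · exact h1
  set A : Subgroup G := Subgroup.closure {z, m} with hA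
  have hzA : z ∈ A := Subgroup.subset_closure (by simp)
  have hmA : m ∈ A := Subgroup.subset_closure (by simp)
  have hAmem : ∀ a ∈ A, ∃ i k : ℕ, a = z ^ i * m ^ k := by
    intro a ha
    induction ha using Subgroup.closure_induction with
    | mem x hx =>
      rcases hx with rfl | hx
      · exact ⟨1, 0, by simp⟩
      · rw [Set.mem_singleton_iff] at hx
        subst hx
        exact ⟨0, 1, by simp⟩
    | one => exact ⟨0, 0, by simp⟩
    | mul x y _ _ hx hy =>
      obtain ⟨i, k, rfl⟩ := hx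
      obtain ⟨i', k', rfl⟩ := hy
      refine ⟨i + i', k + k', ?_⟩
      have h1 : Commute (m ^ k) (z ^ i') := (hczm.symm.pow_pow k i')
      calc z ^ i * m ^ k * (z ^ i' * m ^ k') = z ^ i * (m ^ k * z ^ i') * m ^ k' := by
            simp only [mul_assoc]
        _ = z ^ i * (z ^ i' * m ^ k) * m ^ k' := by rw [h1.eq]
        _ = z ^ (i + i') * m ^ (k + k') := by rw [pow_add, pow_add]; simp only [mul_assoc]
    | inv x _ hx =>
      obtain ⟨i, k, rfl⟩ := hx
      refine ⟨(c - 1) * i, (c - 1) * k, ?_⟩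
      have hzi : (z ^ i)⁻¹ = z ^ ((c - 1) * i) := by
        rw [inv_eq_iff_mul_eq_one, ← pow_add, ← Nat.succ_pred_eq_of_pos hc.pos]
        simp only [Nat.pred_eq_sub_one, Nat.succ_eq_add_one, Nat.add_sub_cancel]
        rw [show i + (c - 1) * i = (c - 1 + 1) * i by ring, Nat.sub_add_cancel hc.one_le,
          pow_mul, hz, one_pow]
      have hmk : (m ^ k)⁻¹ = m ^ ((c - 1) * k) := by
        rw [inv_eq_iff_mul_eq_one, ← pow_add,
          show k + (c - 1) * k = (c - 1 + 1) * k by ring, Nat.sub_add_cancel hc.one_le,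
          pow_mul, hm, one_pow]
      have h1 : Commute (z ^ i) (m ^ k) := hczm.pow_pow i k
      rw [mul_inv_rev, ← hzi, ← hmk]
      exact (h1.inv_inv).eq.symm
  have hApow : ∀ a ∈ A, a ^ c = 1 := by
    intro a ha
    obtain ⟨i, k, rfl⟩ := hAmem a ha
    rw [(hczm.pow_pow i k).mul_pow, ← pow_mul, ← pow_mul, mul_comm i, mul_comm k, pow_mul,
      pow_mul, hz, hm, one_pow, one_pow, one_mul]
  have hAcomm : IsMulCommutative A := by
    refine ⟨⟨fun a b => ?_⟩⟩
    apply Subtype.ext
    obtain ⟨i, k, ha⟩ := hAmem a a.2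
    obtain ⟨i', k', hb⟩ := hAmem b b.2
    show (a : G) * (b : G) = (b : G) * (a : G)
    rw [ha, hb]
    have h1 : Commute (z ^ i * m ^ k) (z ^ i' * m ^ k') := by
      apply Commute.mul_left
      · apply Commute.mul_right
        · exact (Commute.refl z).pow_pow i i'
        · exact hczm.pow_pow i k'
      · apply Commute.mul_right
        · exact hczm.symm.pow_pow k i'
        · exact (Commute.refl m).pow_pow k k'
    exact h1.eq
  -- A is a c-group
  have hApg : IsPGroup c A := by
    intro a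
    refine ⟨1, ?_⟩
    apply Subtype.ext
    rw [pow_one]
    exact hApow a a.2
  have : Fact c.Prime := ⟨hc⟩
  obtain ⟨n, hn⟩ := IsPGroup.iff_card.mp hApg
  have hcopAV : (Nat.card A).Coprime (Nat.card V) := by
    rw [hn]
    exact (Nat.Coprime.pow_left n hcop.symm)
  -- A normalises V
  have hAV : A ≤ Subgroup.normalizer (V : Set G) := by
    rw [hA, Subgroup.closure_le]
    intro x hx
    rcases hx with rfl | hx
    · exact hzV
    · rw [Set.mem_singleton_iff] at hx
      subst hx
      exact hmV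
  -- A is not cyclic
  have hncyc : ¬ IsCyclic A := by
    intro hcyc
    obtain ⟨g, hg⟩ := hcyc.exists_generator
    have hcardA : Nat.card A = orderOf g := (orderOf_eq_card_of_forall_mem_zpowers hg).symm
    have hgc : g ^ c = 1 := Subtype.ext (hApow g g.2)
    have hle : Nat.card A ≤ c := by
      rw [hcardA]
      exact Nat.le_of_dvd hc.pos (orderOf_dvd_of_pow_eq_one hgc)
    have hzp : Subgroup.zpowers m ≤ A := by
      rw [Subgroup.zpowers_le]; exact hmA
    have hcardm : Nat.card (Subgroup.zpowers m) = c := by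
      rw [Nat.card_zpowers, hordm]
    have heq : Subgroup.zpowers m = A := by
      apply Subgroup.eq_of_le_of_card_ge hzp
      rw [hcardm]; exact hle
    apply hzm'
    rw [heq]; exact hzA
  have key := Cfsg.Agent.S0058.result A V hncyc hAV hcopAV
  -- every term is trivial
  have hall : ∀ a ∈ A, a ≠ 1 → V ⊓ Subgroup.centralizer {a} = ⊥ := by
    intro a ha ha1
    obtain ⟨i, k, rfl⟩ := hAmem a ha
    rw [eq_bot_iff]
    intro v hv
    rw [Subgroup.mem_inf, Subgroup.mem_centralizer_iff] at hv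
    obtain ⟨hvV, hvc⟩ := hv
    have hvc' : Commute (z ^ i * m ^ k) v := hvc _ (Set.mem_singleton _)
    rw [Subgroup.mem_bot]
    by_cases hci : c ∣ i
    · -- a = m ^ k
      obtain ⟨i', rfl⟩ := hci
      have hzi : z ^ (c * i') = 1 := by rw [pow_mul, hz, one_pow]
      rw [hzi, one_mul] at hvc' ha1
      have hck : ¬ c ∣ k := by
        intro hck
        obtain ⟨k', rfl⟩ := hck
        apply ha1
        rw [pow_mul, hm, one_pow]
      have hcopk : Nat.Coprime k c := ((Nat.Prime.coprime_iff_not_dvd hc).2 hck).symm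
      obtain ⟨l, -, hl⟩ := Nat.exists_mul_mod_eq_one_of_coprime hcopk hc1
      have hml : (m ^ k) ^ l = m := by
        rw [← pow_mul]
        have : k * l ≡ 1 [MOD c] := by
          rw [Nat.ModEq, hl, Nat.mod_eq_of_lt hc1]
        rw [pow_eq_pow_of_modEq hm this, pow_one]
      have hcm : Commute m v := by
        rw [← hml]; exact hvc'.pow_left l
      have : v ∈ V ⊓ Subgroup.centralizer {m} := by
        rw [Subgroup.mem_inf, Subgroup.mem_centralizer_iff]
        refine ⟨hvV, ?_⟩
        intro x hx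
        rw [Set.mem_singleton_iff] at hx
        subst hx
        exact hcm.eq
      rw [hmfix, Subgroup.mem_bot] at this
      exact this
    · -- a ^ l = z * m ^ (k l) = h ^ t z h ^ (-t)
      have hcopi : Nat.Coprime i c := ((Nat.Prime.coprime_iff_not_dvd hc).2 hci).symm
      obtain ⟨l, -, hl⟩ := Nat.exists_mul_mod_eq_one_of_coprime hcopi hc1
      have hcopj : Nat.Coprime j c := ((Nat.Prime.coprime_iff_not_dvd hc).2 hj).symm
      obtain ⟨j', -, hj'⟩ := Nat.exists_mul_mod_eq_one_of_coprime hcopj hc1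
      have hal : (z ^ i * m ^ k) ^ l = z * m ^ (k * l) := by
        rw [(hczm.pow_pow i k).mul_pow, ← pow_mul, ← pow_mul]
        have : i * l ≡ 1 [MOD c] := by
          rw [Nat.ModEq, hl, Nat.mod_eq_of_lt hc1]
        rw [pow_eq_pow_of_modEq hz this, pow_one]
      set t := j' * (k * l) with ht
      have hjt : j * t ≡ k * l [MOD c] := by
        have h1 : j * j' ≡ 1 [MOD c] := by
          rw [Nat.ModEq, hj', Nat.mod_eq_of_lt hc1]
        calc j * t = (j * j') * (k * l) := by rw [ht]; ring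
          _ ≡ 1 * (k * l) [MOD c] := Nat.ModEq.mul_right _ h1
          _ = k * l := one_mul _
      have hconjt := conj_pow_formula z m h j hzm hhm hconj t
      rw [pow_eq_pow_of_modEq hm hjt] at hconjt
      -- v commutes with h^t z h^-t
      have hcv : Commute (h ^ t * z * (h ^ t)⁻¹) v := by
        rw [hconjt, ← hal]; exact hvc'.pow_left l
      -- w = h^-t v h^t ∈ V commutes with z
      have hhtV : h ^ t ∈ Subgroup.normalizer (V : Set G) := Subgroup.pow_mem _ hhV t
      have hwV : (h ^ t)⁻¹ * v * ((h ^ t)⁻¹)⁻¹ ∈ V := by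
        have := (Subgroup.mem_normalizer_iff.1 (Subgroup.inv_mem _ hhtV)) v
        exact this.1 hvV
      have hwz : Commute z ((h ^ t)⁻¹ * v * ((h ^ t)⁻¹)⁻¹) := by
        rw [inv_inv]
        have := hcv.eq
        show z * ((h ^ t)⁻¹ * v * h ^ t) = (h ^ t)⁻¹ * v * h ^ t * z
        have e1 : z = (h ^ t)⁻¹ * (h ^ t * z * (h ^ t)⁻¹) * h ^ t := by group
        calc z * ((h ^ t)⁻¹ * v * h ^ t)
            = (h ^ t)⁻¹ * ((h ^ t * z * (h ^ t)⁻¹) * v) * h ^ t := by group
          _ = (h ^ t)⁻¹ * (v * (h ^ t * z * (h ^ t)⁻¹)) * h ^ t := by rw [this]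
          _ = (h ^ t)⁻¹ * v * h ^ t * z := by group
      have : (h ^ t)⁻¹ * v * ((h ^ t)⁻¹)⁻¹ ∈ V ⊓ Subgroup.centralizer {z} := by
        rw [Subgroup.mem_inf, Subgroup.mem_centralizer_iff]
        refine ⟨hwV, ?_⟩
        intro x hx
        rw [Set.mem_singleton_iff] at hx
        subst hx
        exact hwz.eq
      rw [hzfix, Subgroup.mem_bot] at this
      have h2 : v = h ^ t * ((h ^ t)⁻¹ * v * ((h ^ t)⁻¹)⁻¹) * (h ^ t)⁻¹ := by group
      rw [h2, this]; group
  apply hV
  rw [← key, eq_bot_iff]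
  apply iSup₂_le
  intro a ha
  rw [hall a ha.1 ha.2]

/-- (F3)-form: if moreover `C_V(z) = 1`, contradiction. -/
theorem all_lines_bad_false {G : Type*} [Group G] [Finite G] {c : ℕ} (hc : c.Prime)
    (V : Subgroup G) (hV : V ≠ ⊥) (hcop : (Nat.card V).Coprime c) (z m h : G)
    (hz : z ^ c = 1) (hm : m ^ c = 1) (hzm : z * m = m * z) (hzm' : z ∉ Subgroup.zpowers m)
    (hzV : z ∈ Subgroup.normalizer (V : Set G)) (hmV : m ∈ Subgroup.normalizer (V : Set G))
    (hhV : h ∈ Subgroup.normalizer (V : Set G)) (hhm : h * m = m * h) (j : ℕ) (hj : ¬ c ∣ j)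
    (hconj : h * z * h⁻¹ = z * m ^ j) (hmfix : V ⊓ Subgroup.centralizer {m} = ⊥)
    (hzfix : V ⊓ Subgroup.centralizer {z} = ⊥) : False :=
  fixed_of_conj_lines hc V hV hcop z m h hz hm hzm hzm' hzV hmV hhV hhm j hj hconj hmfix hzfix

end Cfsg.Agent.Lib.H13.S3814ConjLines
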