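import Cfsg.Agent.Lib.H15.S3814C2Defs
import Cfsg.Agent.S0126
import Cfsg.Agent.Lib.H13.S3814ConjLines
import Cfsg.Agent.Lib.H16.PGroupCenter
import Cfsg.Agent.Lib.H21.S3814FactA

/-!
S3814, Case 2', piece (9) CyclicSide (F2): in the two-sided situation `O_b(K)` or `O_c(K)` is cyclic.
-/

set_option autoImplicit false

namespace Cfsg.Agent.Lib.H13.S3814C2CyclicSide

open Cfsg.Agent.H7.S3814Defs Cfsg.Agent.H15.S3814C2

/-- Type-level core: a noncyclic `t`-group (`t` odd) whose central elements of order dividing `t` lie in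
`⟨u⟩`, `u` central of order `t`, contains `z` of order `t` outside `⟨u⟩` and `h` with
`h z h⁻¹ = z u^j`, `t ∤ j`. -/
theorem pair_of_center {P : Type*} [Group P] [Finite P] {t : ℕ} [Fact t.Prime] (ht2 : t ≠ 2)
    (hP : IsPGroup t P) (hnc : ¬ IsCyclic P) (u : P) (huc : u ∈ Subgroup.center P)
    (hut : orderOf u = t)
    (hΩ : ∀ x ∈ Subgroup.center P, x ^ t = 1 → x ∈ Subgroup.zpowers u) :
    ∃ (z h : P) (j : ℕ), z ^ t = 1 ∧ z ∉ Subgroup.zpowers u ∧ ¬ t ∣ j ∧
      h * z * h⁻¹ = z * u ^ j := by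
  have ht : t.Prime := Fact.out
  obtain ⟨A, hAn, hAe, hAcard⟩ := Cfsg.Agent.S0126.result ht2 hP hnc
  have hucomm : ∀ g : P, g * u = u * g := fun g => Subgroup.mem_center_iff.mp huc g
  have hN : (Subgroup.zpowers u).Normal := by
    constructor
    intro n hn g
    obtain ⟨k, rfl⟩ := Subgroup.mem_zpowers_iff.1 hn
    have hc : Commute g (u ^ k) := (show Commute g u from hucomm g).zpow_right k
    rw [hc.eq, mul_assoc, mul_inv_cancel, mul_one]
    exact Subgroup.zpow_mem_zpowers u k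
  have hQp : IsPGroup t (P ⧸ Subgroup.zpowers u) := hP.to_quotient (Subgroup.zpowers u)
  have hBn : (A.map (QuotientGroup.mk' (Subgroup.zpowers u))).Normal :=
    hAn.map (QuotientGroup.mk' (Subgroup.zpowers u)) (QuotientGroup.mk'_surjective _)
  have hB1 : A.map (QuotientGroup.mk' (Subgroup.zpowers u)) ≠ ⊥ := by
    intro hB
    have hAN : A ≤ Subgroup.zpowers u := by
      intro a ha
      have h1 : (QuotientGroup.mk' (Subgroup.zpowers u)) a ∈
          A.map (QuotientGroup.mk' (Subgroup.zpowers u)) := Subgroup.mem_map_of_mem _ ha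
      rw [hB, Subgroup.mem_bot] at h1
      exact (QuotientGroup.eq_one_iff a).1 h1
    have h2 := Subgroup.card_le_of_le hAN
    rw [hAcard, Nat.card_zpowers, hut] at h2
    nlinarith [ht.one_lt]
  obtain ⟨x, hxB, hx1, hxc⟩ :=
    Cfsg.Agent.Lib.H16.exists_ne_one_mem_center_of_normal' ht hQp
      (A.map (QuotientGroup.mk' (Subgroup.zpowers u))) hB1
  obtain ⟨z, hzA, rfl⟩ := hxB
  have hzN : z ∉ Subgroup.zpowers u := fun h => hx1 ((QuotientGroup.eq_one_iff z).2 h)
  have hzt : z ^ t = 1 := hAe.2 z hzA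
  have hcomm : ∀ h : P, h * z * h⁻¹ * z⁻¹ ∈ Subgroup.zpowers u := by
    intro h
    rw [← QuotientGroup.eq_one_iff]
    have h1 := Subgroup.mem_center_iff.mp hxc ((QuotientGroup.mk' (Subgroup.zpowers u)) h)
    have h2 : ((h * z * h⁻¹ * z⁻¹ : P) : P ⧸ Subgroup.zpowers u) =
        (QuotientGroup.mk' (Subgroup.zpowers u)) h * (QuotientGroup.mk' (Subgroup.zpowers u)) z *
          ((QuotientGroup.mk' (Subgroup.zpowers u)) h)⁻¹ *
          ((QuotientGroup.mk' (Subgroup.zpowers u)) z)⁻¹ := by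
      simp
    rw [h2, h1]
    group
  have hznc : z ∉ Subgroup.center P := fun hc => hzN (hΩ z hc hzt)
  rw [Subgroup.mem_center_iff] at hznc
  push Not at hznc
  obtain ⟨h, hh⟩ := hznc
  obtain ⟨k, hk⟩ := Subgroup.mem_zpowers_iff.1 (hcomm h)
  have htpos : (0 : ℤ) < t := by exact_mod_cast ht.pos
  have hk0 : 0 ≤ k % (t : ℤ) := Int.emod_nonneg k (ne_of_gt htpos)
  have hupow : u ^ (k % (t : ℤ)).toNat = u ^ k := by
    rw [← zpow_natCast, Int.toNat_of_nonneg hk0, ← hut, zpow_mod_orderOf]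
  refine ⟨z, h, (k % (t : ℤ)).toNat, hzt, hzN, ?_, ?_⟩
  · intro hd
    apply hh
    have h1 : u ^ (k % (t : ℤ)).toNat = 1 := by
      obtain ⟨l, hl⟩ := hd
      rw [hl, pow_mul, ← hut, pow_orderOf_eq_one, one_pow]
    rw [hupow, hk] at h1
    -- h z h⁻¹ z⁻¹ = 1
    have h2 : h * z = (h * z * h⁻¹ * z⁻¹) * (z * h) := by group
    rw [h2, h1, one_mul]
  · rw [hupow, hk]
    have hc : Commute z (h * z * h⁻¹ * z⁻¹) := by
      rw [← hk]
      exact ((show Commute z u from hucomm z).zpow_right k)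
    rw [hc.eq]
    group

/-- in a finite cyclic group the solutions of `x ^ t = 1` lie in `⟨u⟩`, `u` of order `t` -/
theorem mem_zpowers_of_pow_eq_one_of_cyclic {Z : Type*} [Group Z] [Finite Z] [IsCyclic Z] {t : ℕ}
    (ht : 0 < t) (u x : Z) (hu : orderOf u = t) (hx : x ^ t = 1) : x ∈ Subgroup.zpowers u := by
  classical
  have := Fintype.ofFinite Z
  have hle := IsCyclic.card_pow_eq_one_le (α := Z) ht
  by_contra hxu
  have hsub : insert x ((Finset.range t).image (fun i => u ^ i)) ⊆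
      Finset.univ.filter (fun a : Z => a ^ t = 1) := by
    intro a ha
    rw [Finset.mem_filter]
    refine ⟨Finset.mem_univ _, ?_⟩
    rw [Finset.mem_insert] at ha
    rcases ha with rfl | ha
    · exact hx
    · rw [Finset.mem_image] at ha
      obtain ⟨i, -, rfl⟩ := ha
      rw [← pow_mul, mul_comm, pow_mul, ← hu, pow_orderOf_eq_one, one_pow]
  have hcard : (insert x ((Finset.range t).image (fun i => u ^ i))).card = t + 1 := by
    rw [Finset.card_insert_of_notMem, Finset.card_image_of_injOn, Finset.card_range]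
    · intro i hi j hj hij
      apply pow_injOn_Iio_orderOf (x := u)
      · rw [hu]; simpa using hi
      · rw [hu]; simpa using hj
      · exact hij
    · intro hmem
      rw [Finset.mem_image] at hmem
      obtain ⟨i, -, rfl⟩ := hmem
      exact hxu (Subgroup.npow_mem_zpowers u i)
  have := Finset.card_le_card hsub
  omega

/-- Subgroup form inside `K` (all normal abelian subgroups of `K` cyclic): a noncyclic normal `t`-subgroup `Q`
of `K`, `t` odd, contains `u` of order `t` with `⟨u⟩` normal in `K`, central in `Q`, and `z`, `h` with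
`z ^ t = 1`, `z ∉ ⟨u⟩`, `h z h⁻¹ = z u^j`, `t ∤ j`. -/
theorem pair_in_K {G : Type*} [Group G] [Finite G] (K : Subgroup G)
    (hcyc : ∀ M : Subgroup G, M ≤ K → K ≤ Subgroup.normalizer (M : Set G) →
      (∀ x ∈ M, ∀ y ∈ M, x * y = y * x) → IsCyclic M)
    {t : ℕ} (ht : t.Prime) (ht2 : t ≠ 2) (Q : Subgroup G) (hQK : Q ≤ K)
    (hQn : K ≤ Subgroup.normalizer (Q : Set G)) (hQ : IsPGroup t Q) (hQnc : ¬ IsCyclic Q) :
    ∃ u ∈ Q, ∃ z ∈ Q, ∃ h ∈ Q, ∃ j : ℕ, orderOf u = t ∧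
      K ≤ Subgroup.normalizer ((Subgroup.zpowers u : Subgroup G) : Set G) ∧
      (∀ r ∈ Q, r * u = u * r) ∧ z ^ t = 1 ∧ z ∉ Subgroup.zpowers u ∧ ¬ t ∣ j ∧
      h * z * h⁻¹ = z * u ^ j := by
  have : Fact t.Prime := ⟨ht⟩
  -- the centre of Q, as a subgroup of G
  have hMmem := Cfsg.Agent.Lib.H16.mem_map_center_iff Q
  have hMK : (Subgroup.center Q).map Q.subtype ≤ K := fun x hx => hQK ((hMmem x).1 hx).1
  have hMn : K ≤ Subgroup.normalizer (((Subgroup.center Q).map Q.subtype : Subgroup G) : Set G) := by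
    apply Cfsg.Agent.Lib.H16.le_normalizer_of_conj_mem
    intro g hg b hb
    obtain ⟨hbQ, hbc⟩ := (hMmem b).1 hb
    rw [hMmem]
    refine ⟨((Subgroup.mem_normalizer_iff.1 (hQn hg)) b).1 hbQ, ?_⟩
    intro r hr
    have hr' : g⁻¹ * r * g⁻¹⁻¹ ∈ Q :=
      ((Subgroup.mem_normalizer_iff.1 (hQn (K.inv_mem hg))) r).1 hr
    have h1 := hbc _ hr'
    rw [inv_inv] at h1
    calc r * (g * b * g⁻¹) = g * ((g⁻¹ * r * g) * b) * g⁻¹ := by group
      _ = g * (b * (g⁻¹ * r * g)) * g⁻¹ := by rw [h1]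
      _ = g * b * g⁻¹ * r := by group
  have hMab : ∀ x ∈ (Subgroup.center Q).map Q.subtype, ∀ y ∈ (Subgroup.center Q).map Q.subtype,
      x * y = y * x := by
    intro x hx y hy
    exact ((hMmem y).1 hy).2 x ((hMmem x).1 hx).1
  have hMc : IsCyclic ((Subgroup.center Q).map Q.subtype) := hcyc _ hMK hMn hMab
  have hZc : IsCyclic (Subgroup.center Q) :=
    isCyclic_of_surjective
      ((Subgroup.center Q).equivMapOfInjective Q.subtype Q.subtype_injective).symm
      ((Subgroup.center Q).equivMapOfInjective Q.subtype Q.subtype_injective).symm.surjective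
  -- an element of order t in the centre
  have hQnt : Nontrivial Q := Nontrivial.of_not_isCyclic hQnc
  have hZnt : Nontrivial (Subgroup.center Q) := hQ.center_nontrivial
  have hZp : IsPGroup t (Subgroup.center Q) := hQ.to_subgroup _
  have hdvd : t ∣ Nat.card (Subgroup.center Q) := by
    obtain ⟨n, hn0, hn⟩ := hZp.nontrivial_iff_card.mp hZnt
    rw [hn]
    exact dvd_pow_self _ (ne_of_gt hn0)
  obtain ⟨u0, hu0⟩ := exists_prime_orderOf_dvd_card' t hdvd
  have hu0' : orderOf (u0 : Q) = t := by rw [Subgroup.orderOf_coe]; exact hu0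
  have hΩ : ∀ x ∈ Subgroup.center Q, x ^ t = 1 → x ∈ Subgroup.zpowers (u0 : Q) := by
    intro x hx hxt
    have h1 : (⟨x, hx⟩ : Subgroup.center Q) ∈ Subgroup.zpowers u0 := by
      apply mem_zpowers_of_pow_eq_one_of_cyclic ht.pos u0 _ hu0
      apply Subtype.ext
      simpa using hxt
    obtain ⟨k, hk⟩ := Subgroup.mem_zpowers_iff.1 h1
    rw [Subgroup.mem_zpowers_iff]
    refine ⟨k, ?_⟩
    have := congrArg Subtype.val hk
    simpa using this
  obtain ⟨z, h, j, hzt, hzu, hj, hconj⟩ :=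
    pair_of_center ht2 hQ hQnc (u0 : Q) u0.2 hu0' hΩ
  have hu0G : orderOf ((u0 : Q) : G) = t := by rw [Subgroup.orderOf_coe]; exact hu0'
  have hu0M : ((u0 : Q) : G) ∈ (Subgroup.center Q).map Q.subtype :=
    ⟨(u0 : Q), u0.2, rfl⟩
  have hcent : ∀ r ∈ Q, r * ((u0 : Q) : G) = ((u0 : Q) : G) * r := ((hMmem _).1 hu0M).2
  refine ⟨((u0 : Q) : G), (u0 : Q).2, (z : G), z.2, (h : G), h.2, j, hu0G, ?_, hcent, ?_, ?_, hj, ?_⟩
  · -- K normalises ⟨u0⟩
    apply Cfsg.Agent.Lib.H16.le_normalizer_of_conj_mem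
    intro g hg b hb
    obtain ⟨k, rfl⟩ := Subgroup.mem_zpowers_iff.1 hb
    have hconjM : g * ((u0 : Q) : G) * g⁻¹ ∈ (Subgroup.center Q).map Q.subtype :=
      ((Subgroup.mem_normalizer_iff.1 (hMn hg)) _).1 hu0M
    obtain ⟨y, hy, hyeq⟩ := hconjM
    have hyt : y ^ t = 1 := by
      apply Subtype.ext
      have : ((y ^ t : Q) : G) = (g * ((u0 : Q) : G) * g⁻¹) ^ t := by
        rw [← hyeq]; simp
      rw [this, conj_pow, ← hu0G, pow_orderOf_eq_one]
      simp
    have hyu := hΩ y hy hyt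
    obtain ⟨l, hl⟩ := Subgroup.mem_zpowers_iff.1 hyu
    have hgu : g * ((u0 : Q) : G) * g⁻¹ = ((u0 : Q) : G) ^ l := by
      rw [← hyeq, ← hl]; simp
    have : g * ((u0 : Q) : G) ^ k * g⁻¹ = (((u0 : Q) : G) ^ l) ^ k := by
      rw [← hgu, conj_zpow]
    rw [this, ← zpow_mul]
    exact Subgroup.zpow_mem_zpowers _ _
  · have := congrArg Subtype.val hzt
    simpa using this
  · intro hmem
    apply hzu
    obtain ⟨k, hk⟩ := Subgroup.mem_zpowers_iff.1 hmem
    rw [Subgroup.mem_zpowers_iff]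
    refine ⟨k, ?_⟩
    apply Subtype.ext
    simpa using hk
  · have := congrArg Subtype.val hconj
    simpa using this

/-- elements of normal subgroups of `K` of coprime prime-power orders commute -/
theorem commute_of_normal_pgroups {G : Type*} [Group G] (K Qb Qc : Subgroup G) {b c : ℕ}
    (hbp : b.Prime) (hcp : c.Prime) (hbc : b ≠ c) (hQbK : Qb ≤ K) (hQcK : Qc ≤ K)
    (hQbn : K ≤ Subgroup.normalizer (Qb : Set G)) (hQcn : K ≤ Subgroup.normalizer (Qc : Set G))
    (hQb : IsPGroup b Qb) (hQc : IsPGroup c Qc) : ∀ x ∈ Qb, ∀ y ∈ Qc, x * y = y * x := by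
  intro x hx y hy
  have : Fact b.Prime := ⟨hbp⟩
  have : Fact c.Prime := ⟨hcp⟩
  have hdis := IsPGroup.disjoint_of_ne b c hbc Qb Qc hQb hQc
  rw [Subgroup.disjoint_def] at hdis
  have h1 : x * y * x⁻¹ * y⁻¹ ∈ Qb := by
    have h2 : y * x⁻¹ * y⁻¹ ∈ Qb :=
      ((Subgroup.mem_normalizer_iff.1 (hQbn (hQcK hy))) x⁻¹).1 (Qb.inv_mem hx)
    have h3 : x * y * x⁻¹ * y⁻¹ = x * (y * x⁻¹ * y⁻¹) := by group
    rw [h3]
    exact Qb.mul_mem hx h2
  have h2 : x * y * x⁻¹ * y⁻¹ ∈ Qc := by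
    have h2 : x * y * x⁻¹ ∈ Qc := ((Subgroup.mem_normalizer_iff.1 (hQcn (hQbK hx))) y).1 hy
    exact Qc.mul_mem h2 (Qc.inv_mem hy)
  have h3 := hdis h1 h2
  calc x * y = (x * y * x⁻¹ * y⁻¹) * (y * x) := by group
    _ = y * x := by rw [h3, one_mul]

theorem mem_normalizer_of_normal {G : Type*} [Group G] {V : Subgroup G} (hV : V.Normal) (g : G) :
    g ∈ Subgroup.normalizer (V : Set G) := by
  rw [Subgroup.mem_normalizer_iff]
  intro n
  constructor
  · exact fun hn => hV.conj_mem n hn g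
  · intro hn
    have := hV.conj_mem _ hn g⁻¹
    simpa [mul_assoc] using this

theorem mem_normalizer_cent {G : Type*} [Group G] [Finite G] {V : Subgroup G} (hV : V.Normal) {g u : G}
    (hgu : g * u = u * g) :
    g ∈ Subgroup.normalizer ((V ⊓ Subgroup.centralizer ({u} : Set G) : Subgroup G) : Set G) := by
  rw [Subgroup.mem_normalizer_iff]
  intro n
  constructor
  · exact fun hn => Cfsg.Agent.Lib.H21.S3814FactA.conj_mem_cent hV hgu hn
  · intro hn
    have hgu' : g⁻¹ * u = u * g⁻¹ := by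
      calc g⁻¹ * u = g⁻¹ * (u * g) * g⁻¹ := by group
        _ = g⁻¹ * (g * u) * g⁻¹ := by rw [hgu]
        _ = u * g⁻¹ := by group
    have := Cfsg.Agent.Lib.H21.S3814FactA.conj_mem_cent hV hgu' hn
    simpa [mul_assoc] using this

universe u

/-- PIECE (9) CyclicSide of Case 2'. -/
theorem cyclicSide : CyclicSideStmt.{u} := by
  intro G _ σ p V K hctx a b c mb mc hts
  have hfin : Finite G := hctx.cex.fin
  by_contra hcon
  rw [not_or] at hcon
  obtain ⟨hc1, hb1⟩ := hcon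
  unfold SideCyc at hc1 hb1
  push Not at hc1 hb1
  obtain ⟨Qc, hQcK, hQcn, hQcp, hQcnc⟩ := hc1
  obtain ⟨Qb, hQbK, hQbn, hQbp, hQbnc⟩ := hb1
  have hcp : c.Prime := hts.npc.1
  have hbp : b.Prime := hts.npb.1
  obtain ⟨uc, hucQ, zc, hzcQ, hc, hhcQ, jc, huco, hucn, huccent, hzct, hzcu, hjc, hconjc⟩ :=
    pair_in_K K hctx.cyc hcp hts.oddc Qc hQcK hQcn hQcp hQcnc
  obtain ⟨ub, hubQ, zb, hzbQ, hb, hhbQ, jb, hubo, hubn, hubcent, hzbt, hzbu, hjb, hconjb⟩ :=
    pair_in_K K hctx.cyc hbp hts.oddb Qb hQbK hQbn hQbp hQbnc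
  have hI := hctx.shape
  have hVn := hI.normal
  have hpp : p.Prime := hctx.cex.prime p hI.hp
  have huc1 : uc ≠ 1 := by
    intro h
    rw [h, orderOf_one] at huco
    exact hcp.one_lt.ne huco
  have hub1 : ub ≠ 1 := by
    intro h
    rw [h, orderOf_one] at hubo
    exact hbp.one_lt.ne hubo
  have hfc : Fpf uc V := Cfsg.Agent.Lib.H21.S3814FactA.m_bad hI (hQcK hucQ) huc1 hucn
  have hfb : Fpf ub V := Cfsg.Agent.Lib.H21.S3814FactA.m_bad hI (hQbK hubQ) hub1 hubn
  -- |V| is a power of p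
  have : Fact p.Prime := ⟨hpp⟩
  have hVp : IsPGroup p V := by
    intro g
    refine ⟨1, ?_⟩
    apply Subtype.ext
    rw [pow_one]
    simpa using hI.elem.2 g g.2
  obtain ⟨n, hn⟩ := IsPGroup.iff_card.mp hVp
  have hcopc : (Nat.card V).Coprime c := by
    rw [hn]
    exact Nat.Coprime.pow_left n ((Nat.coprime_primes hpp hcp).2 (Ne.symm hts.hc.2))
  have hcopb : (Nat.card V).Coprime b := by
    rw [hn]
    exact Nat.Coprime.pow_left n ((Nat.coprime_primes hpp hbp).2 (Ne.symm hts.hb.2))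
  have hcross := commute_of_normal_pgroups K Qb Qc hbp hcp hts.hbc hQbK hQcK hQbn hQcn hQbp hQcp
  -- Step 1
  have hucc : uc ^ c = 1 := by rw [← huco]; exact pow_orderOf_eq_one uc
  have hubb : ub ^ b = 1 := by rw [← hubo]; exact pow_orderOf_eq_one ub
  have hmfixc : V ⊓ Subgroup.centralizer {uc} = ⊥ := by
    rw [eq_bot_iff]
    intro v hv
    rw [Subgroup.mem_bot]
    exact hfc v hv.1 (Subgroup.mem_centralizer_singleton_iff.mp hv.2).symm
  have hW : V ⊓ Subgroup.centralizer {zc} ≠ ⊥ :=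
    Cfsg.Agent.Lib.H13.S3814ConjLines.fixed_of_conj_lines hcp V hI.ne_bot hcopc zc uc hc hzct hucc
      (huccent zc hzcQ) hzcu (mem_normalizer_of_normal hVn _) (mem_normalizer_of_normal hVn _)
      (mem_normalizer_of_normal hVn _) (huccent hc hhcQ) jc hjc hconjc hmfixc
  -- Step 2
  have hcopWb : (Nat.card (V ⊓ Subgroup.centralizer {zc} : Subgroup G)).Coprime b :=
    Nat.Coprime.coprime_dvd_left (Subgroup.card_dvd_of_le inf_le_left) hcopb
  have hmfixb : (V ⊓ Subgroup.centralizer {zc}) ⊓ Subgroup.centralizer {ub} = ⊥ := by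
    rw [eq_bot_iff]
    intro v hv
    rw [Subgroup.mem_bot]
    exact hfb v hv.1.1 (Subgroup.mem_centralizer_singleton_iff.mp hv.2).symm
  have hW2 : (V ⊓ Subgroup.centralizer {zc}) ⊓ Subgroup.centralizer {zb} ≠ ⊥ :=
    Cfsg.Agent.Lib.H13.S3814ConjLines.fixed_of_conj_lines hbp (V ⊓ Subgroup.centralizer {zc}) hW hcopWb
      zb ub hb hzbt hubb (hubcent zb hzbQ) hzbu
      (mem_normalizer_cent hVn (hcross zb hzbQ zc hzcQ))
      (mem_normalizer_cent hVn (hcross ub hubQ zc hzcQ))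
      (mem_normalizer_cent hVn (hcross hb hhbQ zc hzcQ))
      (hubcent hb hhbQ) jb hjb hconjb hmfixb
  -- Step 3
  have hzb1 : zb ≠ 1 := fun h => hzbu (h ▸ Subgroup.one_mem _)
  have hzc1 : zc ≠ 1 := fun h => hzcu (h ▸ Subgroup.one_mem _)
  have hFb : Fact b.Prime := ⟨hbp⟩
  have hFc : Fact c.Prime := ⟨hcp⟩
  have hzbo : orderOf zb = b := orderOf_eq_prime hzbt hzb1
  have hzco : orderOf zc = c := orderOf_eq_prime hzct hzc1
  have hcomm : Commute zb zc := hcross zb hzbQ zc hzcQ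
  have hord : orderOf (zb * zc) = b * c := by
    rw [hcomm.orderOf_mul_eq_mul_orderOf_of_coprime, hzbo, hzco]
    rw [hzbo, hzco]
    exact (Nat.coprime_primes hbp hcp).2 hts.hbc
  have hfx : Fpf (zb * zc) V :=
    hctx.facts.n1 (zb * zc) (K.mul_mem (hQbK hzbQ) (hQcK hzcQ)) b hts.hb.1 c hts.hc.1 hts.hb.2
      hts.hc.2 hts.hbc (by rw [hord])
  apply hW2
  rw [eq_bot_iff]
  intro v hv
  rw [Subgroup.mem_bot]
  have hvzc : v * zc = zc * v := Subgroup.mem_centralizer_singleton_iff.mp hv.1.2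
  have hvzb : v * zb = zb * v := Subgroup.mem_centralizer_singleton_iff.mp hv.2
  apply hfx v hv.1.1
  calc zb * zc * v = zb * (zc * v) := by group
    _ = zb * (v * zc) := by rw [hvzc]
    _ = (zb * v) * zc := by group
    _ = (v * zb) * zc := by rw [hvzb]
    _ = v * (zb * zc) := by group

example : CyclicSideStmt.{0} := cyclicSide

end Cfsg.Agent.Lib.H13.S3814C2CyclicSide
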