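import Cfsg.Agent.Lib.H15.S3814C2Defs

/-!
S3814, Case 2' sub-cut (helper15): the two tiny pure-group pieces (5) NPComm and (6) NPOdd.
-/

set_option autoImplicit false

namespace Cfsg.Agent.Lib.H13.S3814C2NP

open Cfsg.Agent.H7.S3814Defs Cfsg.Agent.H15.S3814C2

universe u

theorem npComm : NPCommStmt.{u} := by
  intro G _ K c a m m' hm hm' hac
  obtain ⟨hc, hmK, hmo, hmn⟩ := hm
  obtain ⟨ha, hm'K, hm'o, hm'n⟩ := hm'
  -- z = m⁻¹ * (m'⁻¹ * m * m') lies in both cyclic groups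
  have h1 : m'⁻¹ * m * m' ∈ Subgroup.zpowers m := hmn m' hm'K
  have h2 : m⁻¹ * m' * m ∈ Subgroup.zpowers m' := hm'n m hmK
  have hz1 : m⁻¹ * (m'⁻¹ * m * m') ∈ Subgroup.zpowers m :=
    Subgroup.mul_mem _ (Subgroup.inv_mem _ (Subgroup.mem_zpowers m)) h1
  have hz2 : m⁻¹ * (m'⁻¹ * m * m') ∈ Subgroup.zpowers m' := by
    have e : m⁻¹ * (m'⁻¹ * m * m') = (m⁻¹ * m' * m)⁻¹ * m' := by group
    rw [e]
    exact Subgroup.mul_mem _ (Subgroup.inv_mem _ h2) (Subgroup.mem_zpowers m')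
  have hz : m⁻¹ * (m'⁻¹ * m * m') = 1 := by
    have d1 : orderOf (m⁻¹ * (m'⁻¹ * m * m')) ∣ c := by
      rw [← hmo]; exact orderOf_dvd_of_mem_zpowers hz1
    have d2 : orderOf (m⁻¹ * (m'⁻¹ * m * m')) ∣ a := by
      rw [← hm'o]; exact orderOf_dvd_of_mem_zpowers hz2
    have hcop : Nat.Coprime c a := (Nat.coprime_primes hc ha).2 (Ne.symm hac)
    have : orderOf (m⁻¹ * (m'⁻¹ * m * m')) = 1 := Nat.eq_one_of_dvd_coprimes hcop d1 d2
    exact orderOf_eq_one_iff.1 this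
  show m' * m = m * m'
  have e : m'⁻¹ * m * m' = m := by
    have := congrArg (fun t => m * t) hz
    simpa [mul_assoc] using this
  calc m' * m = m' * (m'⁻¹ * m * m') := by rw [e]
    _ = m * m' := by group

theorem npOdd : NPOddStmt.{u} := by
  intro G _ K c m y hm hyK hnc hc2
  obtain ⟨_, _, hmo, hmn⟩ := hm
  apply hnc
  have h1 : y⁻¹ * m * y ∈ Subgroup.zpowers m := hmn y hyK
  obtain ⟨i, hi⟩ := Subgroup.mem_zpowers_iff.1 h1
  have hmo2 : orderOf m = 2 := by rw [hmo, hc2]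
  have hmod : m ^ (i % 2) = m ^ i := by
    have := zpow_mod_orderOf m i
    rw [hmo2] at this
    exact_mod_cast this
  rcases Int.emod_two_eq_zero_or_one i with h0 | h0
  · exfalso
    rw [h0, zpow_zero] at hmod
    rw [← hmod] at hi
    have : m = 1 := by
      have e : m = y * (y⁻¹ * m * y) * y⁻¹ := by group
      rw [e, ← hi]; group
    rw [this, orderOf_one] at hmo2
    exact absurd hmo2 (by norm_num)
  · rw [h0, zpow_one] at hmod
    rw [← hmod] at hi
    show y * m = m * y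
    calc y * m = y * (y⁻¹ * m * y) := by rw [← hi]
      _ = m * y := by group

example : NPCommStmt.{0} := npComm
example : NPOddStmt.{0} := npOdd

end Cfsg.Agent.Lib.H13.S3814C2NP
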