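import Cfsg.Agent.Lib.H7.S3814Defs2
import Cfsg.Agent.Lib.H12.S3814A3

/-!
S3814, piece KFACTS of helper7's level-2 cut (`Cfsg.Agent.Lib.H7.S3814Defs2`): the facts (N1), (J1),
(J2), (F2) inside the complement `K` of shape (I).
-/

set_option autoImplicit false

namespace Cfsg.Agent.Lib.H13.S3814KFacts

open Cfsg.Agent.H7.S3814Defs

universe u

variable {G : Type u} [Group G]

theorem isComplement'_of_shapeI {σ : Finset ℕ} {p : ℕ} {V K : Subgroup G}
    (hI : ShapeI σ p V K) : Subgroup.IsComplement' V K := by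
  have := hI.normal
  apply Subgroup.isComplement'_of_disjoint_and_mul_eq_univ
  · rw [disjoint_iff]; exact hI.compl_inf
  · rw [← Subgroup.normal_mul, hI.compl_sup]; rfl

theorem conj_orderOf (x y : G) : orderOf (x * y * x⁻¹) = orderOf y := by
  have := orderOf_injective (MulAut.conj x).toMonoidHom (MulAut.conj x).injective y
  simpa using this

theorem kfacts : KFactsStmt.{u} := by
  intro hF2 hR G _ σ hG p V K hI
  have := hG.fin
  have := hG.sol
  have := hI.normal
  have hpσ := hI.hp
  have hp : p.Prime := hG.prime p hpσ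
  have : Fact p.Prime := ⟨hp⟩
  have hcompl := isComplement'_of_shapeI hI
  have hcard : Nat.card V * Nat.card K = Nat.card G := hcompl.card_mul_card
  have hVpg : IsPGroup p V := by
    intro v
    refine ⟨1, ?_⟩
    apply Subtype.ext
    rw [pow_one]
    exact hI.elem.2 v v.2
  obtain ⟨n, hn⟩ := IsPGroup.iff_card.mp hVpg
  have hcopKV : (Nat.card K).Coprime (Nat.card V) := by
    rw [hn]; exact Nat.Coprime.pow_right n hI.coprime
  have hGKV : Nat.card G = Nat.card K * Nat.card V := by rw [← hcard, mul_comm]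
  have hGVK : Nat.card G = Nat.card V * Nat.card K := hcard.symm
  -- primes different from p are coprime to |V|
  have hcopt : ∀ t : ℕ, t.Prime → t ≠ p → t.Coprime (Nat.card V) := by
    intro t ht htp
    rw [hn]
    exact Nat.Coprime.pow_right n ((Nat.coprime_primes ht hp).2 htp)
  refine ⟨?_, ?_, ?_, ?_, ?_⟩
  · -- primes
    intro t ht htK
    refine ⟨hG.sgrp t ht ?_, ?_⟩
    · rw [← hcard]; exact Dvd.dvd.mul_left htK _
    · rintro rfl
      have := Nat.Coprime.eq_one_of_dvd hI.coprime.symm htK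
      exact ht.one_lt.ne' this
  · -- n1
    intro x _ t ht t' ht' htp ht'p htt' hdvd v hv hcomm
    by_contra hv1
    have htP := hG.prime t ht
    have ht'P := hG.prime t' ht'
    have hn0 : orderOf x ≠ 0 := (orderOf_pos x).ne'
    set d := orderOf x / (t * t') with hd
    have hdd : d ∣ orderOf x := Nat.div_dvd_of_dvd hdvd
    have hd0 : d ≠ 0 := by
      intro h0
      rw [h0] at hdd
      exact hn0 (Nat.eq_zero_of_zero_dvd hdd)
    have hoy : orderOf (x ^ d) = t * t' := by
      rw [orderOf_pow_of_dvd hd0 hdd, hd, Nat.div_div_self hdvd hn0]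
    have hov : orderOf v = p := orderOf_eq_prime (hI.elem.2 v hv) hv1
    have hcommyv : Commute (x ^ d) v := (show Commute x v from hcomm).pow_left d
    have hcop : (orderOf (x ^ d)).Coprime (orderOf v) := by
      rw [hoy, hov]
      exact Nat.Coprime.mul_left ((Nat.coprime_primes htP hp).2 htp)
        ((Nat.coprime_primes ht'P hp).2 ht'p)
    have horder := hcommyv.orderOf_mul_eq_mul_orderOf_of_coprime hcop
    rw [hoy, hov] at horder
    exact hG.notriple t ht t' ht' p hpσ htt' ht'p htp (x ^ d * v) horder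
  · -- j1
    intro t ht htp
    have htP := hG.prime t ht
    obtain ⟨g, hg⟩ := hG.pairs p hpσ t ht (Ne.symm htp)
    have hg0 : orderOf g ≠ 0 := (orderOf_pos g).ne'
    have hoy : orderOf (g ^ p) = t := by
      rw [orderOf_pow_of_dvd hp.ne_zero (by rw [hg]; exact Dvd.intro _ rfl), hg,
        Nat.mul_div_cancel_left _ hp.pos]
    have how : orderOf (g ^ t) = p := by
      rw [orderOf_pow_of_dvd htP.ne_zero (by rw [hg]; exact Dvd.intro_left _ rfl), hg,
        Nat.mul_div_cancel _ htP.pos]
    have hcommyw : Commute (g ^ p) (g ^ t) := (Commute.refl g).pow_pow p t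
    -- w ∈ V
    have hwV : g ^ t ∈ V := by
      obtain ⟨x, hx⟩ := Cfsg.Agent.Lib.H12.S3814A3.exists_conj_mem_hall hGVK hcopKV.symm V rfl
        (g ^ t) (by rw [how]; exact hI.coprime.symm)
      have := hI.normal.conj_mem _ hx x⁻¹
      simpa [mul_assoc] using this
    obtain ⟨x, hx⟩ := Cfsg.Agent.Lib.H12.S3814A3.exists_conj_mem_hall hGKV hcopKV K rfl
      (g ^ p) (by rw [hoy]; exact hcopt t htP htp)
    refine ⟨x * g ^ p * x⁻¹, hx, ?_, ?_⟩
    · rw [conj_orderOf, hoy]
    · intro hfpf
      have hv'V : x * g ^ t * x⁻¹ ∈ V := hI.normal.conj_mem _ hwV x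
      have hcomm' : x * g ^ p * x⁻¹ * (x * g ^ t * x⁻¹) = x * g ^ t * x⁻¹ * (x * g ^ p * x⁻¹) := by
        have := hcommyw.eq
        calc x * g ^ p * x⁻¹ * (x * g ^ t * x⁻¹) = x * (g ^ p * g ^ t) * x⁻¹ := by group
          _ = x * (g ^ t * g ^ p) * x⁻¹ := by rw [this]
          _ = _ := by group
      have h1 := hfpf _ hv'V hcomm'
      have h2 : orderOf (x * g ^ t * x⁻¹) = p := by rw [conj_orderOf, how]
      rw [h1, orderOf_one] at h2
      exact hp.one_lt.ne h2
  · -- j2
    intro t ht t' ht' htp ht'p htt'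
    have htP := hG.prime t ht
    have ht'P := hG.prime t' ht'
    obtain ⟨g, hg⟩ := hG.pairs t ht t' ht' htt'
    obtain ⟨h, hhK, hh⟩ := Cfsg.Agent.Lib.H12.S3814A3.exists_orderOf_eq_in_hall hGKV hcopKV K rfl
      g (by rw [hg]; exact Nat.Coprime.mul_left (hcopt t htP htp) (hcopt t' ht'P ht'p))
    exact ⟨h, hhK, by rw [hh, hg]⟩
  · -- f2
    intro t ht htp
    have htP := hG.prime t ht
    apply hR G K t htP (hF2 G σ hG t ht)
    rw [hcompl.index_eq_card, hn]
    intro hdvd
    have := (Nat.prime_dvd_prime_iff_eq htP hp).1 (htP.dvd_of_dvd_pow hdvd)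
    exact htp this

example : KFactsStmt.{0} := kfacts

end Cfsg.Agent.Lib.H13.S3814KFacts
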