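import Cfsg.Agent.Lib.H13.S4415G5c

/-!
helper13: S4415 GOOD block, piece G5 (`n = 4`): `four_of : B9Stmt → B10Stmt → FourStmt`.
The four lines are relabelled so that `b` acts as the fixed `3`-cycle `c₀`; then
`xs_of` / `card_R` give `XS z R`, `|R| = 32`, `z ∈ R`, `IsNeg ρ W z`; `B10Stmt` gives the
elementary abelian subgroup of order `8`, and `B9Stmt` turns `XS` into `Cfsg.IsExtraspecial`.
-/

set_option autoImplicit false

namespace Cfsg.Agent.Lib.H13.S4415G5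

open Cfsg.Agent.Lib.H10.S4415 Cfsg.Agent.Lib.H24.S4415G Equiv

variable {S E : Type*} [Group S] [AddCommGroup E] [Module (ZMod 3) E]
variable {ρ : Representation (ZMod 3) S E} {R : Subgroup S} {b : S} {W : Submodule (ZMod 3) E}
  {f : Fin 4 → E} {φ : ↥(RB R b) → Equiv.Perm (Fin 4)}

/-- Relabelling the lines of a monomial frame. -/
theorem relabel (hM : MonoFrame ρ R b W f φ) (τ : Perm (Fin 4))
    (hτ : τ⁻¹ * φ (bRB R b) * τ = c₀) :
    MonoFrame ρ R b W (f ∘ τ) (fun g => τ⁻¹ * φ g * τ) := by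
  have hτi : ∀ x : Fin 4, τ (τ⁻¹ x) = x := fun x => Equiv.Perm.eq_inv_iff_eq.mp rfl
  have hiτ : ∀ x : Fin 4, τ⁻¹ (τ x) = x := fun x => Equiv.Perm.inv_eq_iff_eq.mpr rfl
  refine ⟨fun i => hM.fW (τ i), hM.indep.comp τ τ.injective, ?_, ?_, ?_, ?_, ?_⟩
  · intro w hw
    rw [Function.Surjective.range_comp τ.surjective f]
    exact hM.span w hw
  · intro g i
    have h := hM.mono g (τ i)
    have e : (f ∘ τ) ((τ⁻¹ * φ g * τ) i) = f (φ g (τ i)) := by
      rw [Function.comp_apply, Equiv.Perm.mul_apply, Equiv.Perm.mul_apply, hτi]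
    rw [e, Function.comp_apply]
    exact h
  · intro i j
    obtain ⟨g, hg⟩ := hM.trans (τ i) (τ j)
    refine ⟨g, ?_⟩
    show (τ⁻¹ * φ g * τ) i = j
    rw [Equiv.Perm.mul_apply, Equiv.Perm.mul_apply, hg, hiτ]
  · show (τ⁻¹ * φ (bRB R b) * τ).IsThreeCycle
    rw [hτ]; exact c₀_three
  · obtain ⟨a, haR, hφa, i, j, hi, hj⟩ := hM.nonscalar
    refine ⟨a, haR, ?_, τ⁻¹ i, τ⁻¹ j, ?_, ?_⟩
    · show τ⁻¹ * φ a * τ = 1
      rw [hφa, mul_one, inv_mul_cancel]
    · rw [Function.comp_apply, hτi]; exact hi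
    · rw [Function.comp_apply, hτi]; exact hj

universe u v

/-- **G5**: four lines give the extraspecial group of order `32`. -/
theorem four_of (h9 : B9Stmt.{u}) (h10 : B10Stmt.{u, v}) : FourStmt.{u, v} := by
  intro S _ _ E _ _ _ ρ R b W x₁ x₂ x₃ e₁ e₂ e₃ f φ hL hQ hM
  have hc3 : (φ (bRB R b)) ^ 3 = 1 := by
    have := hM.three.orderOf
    rw [← this]; exact pow_orderOf_eq_one _
  have hc1 : φ (bRB R b) ≠ 1 := by
    intro h
    have := hM.three.orderOf
    rw [h, orderOf_one] at this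
    exact absurd this (by decide)
  obtain ⟨τ, hτ⟩ := conj_c₀ _ hc3 hc1
  have hM' := relabel hM τ hτ
  obtain ⟨z, hzR, hneg, hxs⟩ := xs_of hL hM' hτ
  have hcard := card_R hL hM' hτ
  have hA := h10 ρ R b W x₁ x₂ x₃ e₁ e₂ e₃ z hL hQ hzR hneg
  rcases h9 z R hxs hcard hA with h | h
  · exact absurd (h.2.symm.trans hcard) (by decide)
  · exact h

end Cfsg.Agent.Lib.H13.S4415G5
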