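import Cfsg.Agent.Lib.H24.S4415GD

/-!
helper13: S4415 GOOD block, piece G5 (`n = 4`), part (a): the sign cocycle of a monomial frame,
the product-of-signs homomorphism (trivial on `R = [R,b]`) and the extensionality principle
(an element of `R<b>` is determined by its permutation and its signs).
-/

set_option autoImplicit false

namespace Cfsg.Agent.Lib.H13.S4415G5

open Cfsg.Agent.Lib.H10.S4415 Cfsg.Agent.Lib.H24.S4415G

variable {S E : Type*} [Group S] [AddCommGroup E] [Module (ZMod 3) E]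
variable {ρ : Representation (ZMod 3) S E} {R : Subgroup S} {b : S} {W : Submodule (ZMod 3) E}
  {n : ℕ} {f : Fin n → E} {φ : ↥(RB R b) → Equiv.Perm (Fin n)}

open Classical in
/-- The sign with which `g` maps the line `f i` to the line `f (φ g i)`. -/
noncomputable def sgn (ρ : Representation (ZMod 3) S E) (f : Fin n → E)
    (φ : ↥(RB R b) → Equiv.Perm (Fin n)) (g : ↥(RB R b)) (i : Fin n) : ZMod 3 :=
  if ρ (g : S) (f i) = f (φ g i) then 1 else -1

theorem sgn_cases (g : ↥(RB R b)) (i : Fin n) : sgn ρ f φ g i = 1 ∨ sgn ρ f φ g i = -1 := by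
  unfold sgn; split_ifs
  · exact Or.inl rfl
  · exact Or.inr rfl

theorem sgn_mul_self (g : ↥(RB R b)) (i : Fin n) : sgn ρ f φ g i * sgn ρ f φ g i = 1 := by
  rcases sgn_cases (ρ := ρ) (f := f) (φ := φ) g i with h | h <;> rw [h] <;> decide

theorem sgn_spec (hM : MonoFrame ρ R b W f φ) (g : ↥(RB R b)) (i : Fin n) :
    ρ (g : S) (f i) = sgn ρ f φ g i • f (φ g i) := by
  unfold sgn; split_ifs with h
  · rw [one_smul]; exact h
  · rcases hM.mono g i with h' | h'
    · exact absurd h' h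
    · rw [neg_smul, one_smul]; exact h'

theorem smul_f_inj (hM : MonoFrame ρ R b W f φ) {k : Fin n} {s t : ZMod 3}
    (h : s • f k = t • f k) : s = t := by
  have h0 : (s - t) • f k = 0 := by rw [sub_smul, h, sub_self]
  rcases smul_eq_zero.mp h0 with h1 | h1
  · exact sub_eq_zero.mp h1
  · exact absurd h1 (f_ne_zero hM k)

theorem sgn_eq_of (hM : MonoFrame ρ R b W f φ) (g : ↥(RB R b)) (i : Fin n) (s : ZMod 3)
    (h : ρ (g : S) (f i) = s • f (φ g i)) : sgn ρ f φ g i = s :=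
  smul_f_inj hM ((sgn_spec hM g i).symm.trans h)

theorem sgn_one (hM : MonoFrame ρ R b W f φ) (i : Fin n) : sgn ρ f φ 1 i = 1 := by
  apply sgn_eq_of hM
  rw [phi_one hM, one_smul, Subgroup.coe_one, map_one, Module.End.one_apply, Equiv.Perm.one_apply]

theorem sgn_mul (hM : MonoFrame ρ R b W f φ) (g h : ↥(RB R b)) (i : Fin n) :
    sgn ρ f φ (g * h) i = sgn ρ f φ h i * sgn ρ f φ g (φ h i) := by
  apply sgn_eq_of hM
  rw [phi_mul hM, Equiv.Perm.mul_apply, Subgroup.coe_mul, map_mul, Module.End.mul_apply,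
    sgn_spec hM h i, map_smul, sgn_spec hM g (φ h i), smul_smul]

/-- An element of `R<b>` is determined by its permutation and its signs. -/
theorem ext_of (hL : LinCtx ρ R b W) (hM : MonoFrame ρ R b W f φ) (g h : ↥(RB R b))
    (hφ : φ g = φ h) (hs : ∀ i, sgn ρ f φ g i = sgn ρ f φ h i) : g = h := by
  have key0 : ∀ w ∈ Submodule.span (ZMod 3) (Set.range f), ρ (g : S) w = ρ (h : S) w := by
    intro w hsp
    induction hsp using Submodule.span_induction with
    | mem x hx =>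
      obtain ⟨i, rfl⟩ := hx
      rw [sgn_spec hM g i, sgn_spec hM h i, hφ, hs i]
    | zero => rw [map_zero, map_zero]
    | add x y _ _ hx hy => rw [map_add, map_add, hx, hy]
    | smul a x _ hx => rw [map_smul, map_smul, hx]
  have key : ∀ w ∈ W, ρ (g : S) w = ρ (h : S) w := fun w hw => key0 w (hM.span w hw)
  have h1 : ((g⁻¹ * h : ↥(RB R b)) : S) = 1 := by
    apply hL.faithful _ (g⁻¹ * h).2
    intro w hw
    rw [Subgroup.coe_mul, map_mul, Module.End.mul_apply, ← key w hw, ← Module.End.mul_apply,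
      ← map_mul, Subgroup.coe_inv, inv_mul_cancel, map_one, Module.End.one_apply]
  have h2 : g⁻¹ * h = 1 := Subtype.ext h1
  exact inv_mul_eq_one.mp h2

/-- The product of the signs. -/
noncomputable def prodSgn (ρ : Representation (ZMod 3) S E) (f : Fin n → E)
    (φ : ↥(RB R b) → Equiv.Perm (Fin n)) (g : ↥(RB R b)) : ZMod 3 :=
  ∏ i, sgn ρ f φ g i

theorem prodSgn_mul (hM : MonoFrame ρ R b W f φ) (g h : ↥(RB R b)) :
    prodSgn ρ f φ (g * h) = prodSgn ρ f φ g * prodSgn ρ f φ h := by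
  unfold prodSgn
  simp_rw [sgn_mul hM]
  rw [Finset.prod_mul_distrib, mul_comm]
  congr 1
  exact Equiv.prod_comp (φ h) (fun k => sgn ρ f φ g k)

theorem prodSgn_one (hM : MonoFrame ρ R b W f φ) : prodSgn ρ f φ 1 = 1 := by
  unfold prodSgn
  simp_rw [sgn_one hM]
  exact Finset.prod_const_one

/-- The product of the signs as a monoid homomorphism. -/
noncomputable def prodSgnHom (hM : MonoFrame ρ R b W f φ) : ↥(RB R b) →* ZMod 3 where
  toFun := prodSgn ρ f φ
  map_one' := prodSgn_one hM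
  map_mul' := prodSgn_mul hM

/-- `R = [R,b]` lies in the kernel of the product of signs. -/
theorem prodSgn_R (hL : LinCtx ρ R b W) (hM : MonoFrame ρ R b W f φ) (g : ↥(RB R b))
    (hg : (g : S) ∈ R) : prodSgn ρ f φ g = 1 := by
  have hle : R ≤ (MonoidHom.ker (prodSgnHom hM)).map (RB R b).subtype := by
    conv_lhs => rw [← hL.R_comm]
    rw [Subgroup.commutator_le]
    intro r hr c hc
    have hrRB : r ∈ RB R b := R_le_RB R b hr
    have hcRB : c ∈ RB R b :=
      (le_sup_right : Subgroup.zpowers b ≤ R ⊔ Subgroup.zpowers b) hc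
    refine ⟨(⟨r, hrRB⟩ : ↥(RB R b)) * ⟨c, hcRB⟩ * (⟨r, hrRB⟩ : ↥(RB R b))⁻¹ *
      (⟨c, hcRB⟩ : ↥(RB R b))⁻¹, ?_, rfl⟩
    rw [SetLike.mem_coe, MonoidHom.mem_ker, map_mul, map_mul, map_mul]
    set m := prodSgnHom hM
    have e1 : m ⟨r, hrRB⟩ * m (⟨r, hrRB⟩ : ↥(RB R b))⁻¹ = 1 := by
      rw [← map_mul, mul_inv_cancel, map_one]
    have e2 : m ⟨c, hcRB⟩ * m (⟨c, hcRB⟩ : ↥(RB R b))⁻¹ = 1 := by
      rw [← map_mul, mul_inv_cancel, map_one]
    calc m ⟨r, hrRB⟩ * m ⟨c, hcRB⟩ * m (⟨r, hrRB⟩ : ↥(RB R b))⁻¹ * m (⟨c, hcRB⟩ : ↥(RB R b))⁻¹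
        = (m ⟨r, hrRB⟩ * m (⟨r, hrRB⟩ : ↥(RB R b))⁻¹) *
          (m ⟨c, hcRB⟩ * m (⟨c, hcRB⟩ : ↥(RB R b))⁻¹) := by ring
      _ = 1 := by rw [e1, e2, mul_one]
  obtain ⟨g', hg', hgg'⟩ := hle hg
  have hgg : g' = g := Subtype.ext hgg'
  subst hgg
  exact MonoidHom.mem_ker.mp hg'

end Cfsg.Agent.Lib.H13.S4415G5
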