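import Cfsg.Agent.Lib.H13.S4415G5a
import Cfsg.Agent.Lib.H1.S4415F5
import Cfsg.Agent.Lib.H10.S4415BadDefs

/-!
helper13: S4415 GOOD block, piece G5 (`n = 4`), part (b): the monomial analysis on four lines
when `b` acts as the fixed `3`-cycle `c₀ = (1 3 2)`: `R` maps onto the Klein four-group of
`Perm (Fin 4)`, its diagonal part is the group of all even sign vectors, `|R| = 32`, and
`R` is "concretely extraspecial" (`XS z R`) with `z = -1`.
-/

set_option autoImplicit false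

namespace Cfsg.Agent.Lib.H13.S4415G5

open Cfsg.Agent.Lib.H10.S4415 Cfsg.Agent.Lib.H24.S4415G Equiv

/-! ### Decidable facts about `Perm (Fin 4)` and sign vectors -/

/-- The fixed `3`-cycle `1 ↦ 3 ↦ 2 ↦ 1`. -/
def c₀ : Perm (Fin 4) := swap 1 2 * swap 1 3

/-- Membership in the normal Klein four-group of `Perm (Fin 4)`. -/
def IsV4 (σ : Perm (Fin 4)) : Prop := σ * σ = 1 ∧ (σ = 1 ∨ ∀ i, σ i ≠ i)

instance instDecIsV4 (σ : Perm (Fin 4)) : Decidable (IsV4 σ) := by unfold IsV4; infer_instance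

/-- Even sign vectors. -/
def IsEven (d : Fin 4 → ZMod 3) : Prop :=
  (∀ i, d i = 1 ∨ d i = -1) ∧ d 0 * d 1 * d 2 * d 3 = 1

instance instDecIsEven (d : Fin 4 → ZMod 3) : Decidable (IsEven d) := by
  unfold IsEven; infer_instance

theorem c₀_three : c₀.IsThreeCycle :=
  Equiv.Perm.isThreeCycle_swap_mul_swap_same (by decide) (by decide) (by decide)

theorem c₀_zero : c₀ 0 = 0 := by decide

theorem c₀_sq_zero : (c₀ ^ 2) 0 = 0 := by decide

set_option maxRecDepth 100000 in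
theorem v4_of_pow : ∀ σ : Perm (Fin 4), σ ^ 8 = 1 → (σ * (c₀ * σ * c₀⁻¹)) ^ 8 = 1 → IsV4 σ := by
  decide

set_option maxRecDepth 100000 in
theorem v4_eq : ∀ σ τ : Perm (Fin 4), IsV4 σ → IsV4 τ → σ 0 = τ 0 → σ = τ := by
  decide

set_option maxRecDepth 100000 in
theorem v4_comm : ∀ σ τ : Perm (Fin 4), IsV4 σ → IsV4 τ → σ * τ = τ * σ := by
  decide

set_option maxRecDepth 100000 in
theorem v4_exists : ∀ j : Fin 4, ∃ σ : Perm (Fin 4), IsV4 σ ∧ σ 0 = j := by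
  decide

set_option maxRecDepth 100000 in
theorem v4_ne_one : ∀ π : Perm (Fin 4), IsV4 π → π ≠ 1 →
    ∃ e : Fin 4 → ZMod 3, IsEven e ∧ e 0 * e (π 0) = -1 := by
  decide

set_option maxRecDepth 100000 in
theorem keyK : ∀ σ : Perm (Fin 4), IsV4 σ → ∀ d : Fin 4 → ZMod 3, IsEven d →
    ∀ i j, d i * d (σ i) = d j * d (σ j) := by
  decide

set_option maxRecDepth 100000 in
theorem card_T :
    Fintype.card {q : Perm (Fin 4) × (Fin 4 → ZMod 3) // IsV4 q.1 ∧ IsEven q.2} = 32 := by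
  decide

set_option maxRecDepth 100000 in
theorem gen_all : ∀ d : Fin 4 → ZMod 3, IsEven d → d 0 = -1 → (∃ i, d i = 1) →
    ∀ e : Fin 4 → ZMod 3, IsEven e →
      e = 1 ∨ e = d ∨ e = (fun i => d (c₀⁻¹ i)) ∨ e = (fun i => d (c₀⁻¹ (c₀⁻¹ i))) ∨
      e = d * (fun i => d (c₀⁻¹ i)) ∨ e = d * (fun i => d (c₀⁻¹ (c₀⁻¹ i))) ∨
      e = (fun i => d (c₀⁻¹ i)) * (fun i => d (c₀⁻¹ (c₀⁻¹ i))) ∨
      e = d * (fun i => d (c₀⁻¹ i)) * (fun i => d (c₀⁻¹ (c₀⁻¹ i))) := by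
  decide

set_option maxRecDepth 100000 in
theorem conj_c₀ : ∀ c : Perm (Fin 4), c ^ 3 = 1 → c ≠ 1 →
    ∃ τ : Perm (Fin 4), τ⁻¹ * c * τ = c₀ := by
  decide

theorem pm_mul_self {x : ZMod 3} (h : x = 1 ∨ x = -1) : x * x = 1 := by
  rcases h with h | h <;> rw [h] <;> decide

/-! ### The monomial analysis -/

variable {S E : Type*} [Group S] [AddCommGroup E] [Module (ZMod 3) E]
variable {ρ : Representation (ZMod 3) S E} {R : Subgroup S} {b : S} {W : Submodule (ZMod 3) E}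
  {f : Fin 4 → E} {φ : ↥(RB R b) → Equiv.Perm (Fin 4)}

theorem phi_inv (hM : MonoFrame ρ R b W f φ) (g : ↥(RB R b)) : φ g⁻¹ = (φ g)⁻¹ :=
  map_inv (phiHom hM) g

theorem phi_pow (hM : MonoFrame ρ R b W f φ) (g : ↥(RB R b)) (k : ℕ) : φ (g ^ k) = (φ g) ^ k :=
  map_pow (phiHom hM) g k

/-- `R<b>` normalises `R`. -/
theorem conj_mem_R (hL : LinCtx ρ R b W) (g a : ↥(RB R b)) (ha : (a : S) ∈ R) :
    ((g * a * g⁻¹ : ↥(RB R b)) : S) ∈ R := by
  have hn : RB R b ≤ Subgroup.normalizer (R : Set S) :=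
    sup_le Subgroup.le_normalizer
      (Subgroup.zpowers_le.mpr (Cfsg.Agent.Lib.H1.S4415F5.b_mem_normalizer hL.b_ord hL.b_norm))
  have := (Subgroup.mem_normalizer_iff.mp (hn g.2) (a : S)).mp ha
  simpa using this

theorem mul_mem_R (g h : ↥(RB R b)) (hg : (g : S) ∈ R) (hh : (h : S) ∈ R) :
    ((g * h : ↥(RB R b)) : S) ∈ R := by
  rw [Subgroup.coe_mul]; exact R.mul_mem hg hh

/-- Conjugation permutes the signs of a diagonal element. -/
theorem sgn_conj (hM : MonoFrame ρ R b W f φ) (g a : ↥(RB R b)) (ha : φ a = 1) (k : Fin 4) :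
    sgn ρ f φ (g * a * g⁻¹) (φ g k) = sgn ρ f φ a k := by
  have h1 : φ g⁻¹ (φ g k) = k := by
    rw [phi_inv hM, Equiv.Perm.inv_eq_iff_eq]
  have h2 : sgn ρ f φ g k * sgn ρ f φ g⁻¹ (φ g k) = 1 := by
    rw [← sgn_mul hM g⁻¹ g k, inv_mul_cancel, sgn_one hM]
  rw [sgn_mul hM (g * a) g⁻¹, h1, sgn_mul hM g a, ha, Equiv.Perm.one_apply]
  calc sgn ρ f φ g⁻¹ (φ g k) * (sgn ρ f φ a k * sgn ρ f φ g k)
      = sgn ρ f φ a k * (sgn ρ f φ g k * sgn ρ f φ g⁻¹ (φ g k)) := by ring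
    _ = sgn ρ f φ a k := by rw [h2, mul_one]

theorem phi_conj (hM : MonoFrame ρ R b W f φ) (g a : ↥(RB R b)) (ha : φ a = 1) :
    φ (g * a * g⁻¹) = 1 := by
  rw [phi_mul hM, phi_mul hM, ha, phi_inv hM, mul_one, mul_inv_cancel]

/-- Elements of `R` have `2`-power order under `φ`. -/
theorem phi_pow_eight [Finite S] (hL : LinCtx ρ R b W) (hM : MonoFrame ρ R b W f φ)
    (g : ↥(RB R b)) (hg : (g : S) ∈ R) : (φ g) ^ 8 = 1 := by
  have h1 : orderOf (φ g) ∣ orderOf g := orderOf_map_dvd (phiHom hM) g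
  have h2 : orderOf g ∣ Nat.card R := by
    rw [← Subgroup.orderOf_coe]; exact Subgroup.orderOf_dvd_natCard R hg
  have h3 : orderOf (φ g) ∣ 8 * 3 := by
    have := orderOf_dvd_card (x := φ g)
    rwa [Fintype.card_perm, Fintype.card_fin] at this
  have h4 : (orderOf (φ g)).Coprime 3 :=
    Nat.Coprime.coprime_dvd_left (h1.trans h2) hL.R_coprime
  exact orderOf_dvd_iff_pow_eq_one.mp (h4.dvd_of_dvd_mul_right h3)

/-- `φ` maps `R` into the Klein four-group. -/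
theorem phi_R_v4 [Finite S] (hL : LinCtx ρ R b W) (hM : MonoFrame ρ R b W f φ)
    (hc : φ (bRB R b) = c₀) (g : ↥(RB R b)) (hg : (g : S) ∈ R) : IsV4 (φ g) := by
  apply v4_of_pow _ (phi_pow_eight hL hM g hg)
  have h1 : ((g * (bRB R b * g * (bRB R b)⁻¹) : ↥(RB R b)) : S) ∈ R :=
    mul_mem_R _ _ hg (conj_mem_R hL _ _ hg)
  have h2 := phi_pow_eight hL hM _ h1
  rwa [phi_mul hM, phi_mul hM, phi_mul hM, phi_inv hM, hc] at h2

/-- Sign vectors of elements of `R` are even. -/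
theorem sgn_even (hL : LinCtx ρ R b W) (hM : MonoFrame ρ R b W f φ)
    (g : ↥(RB R b)) (hg : (g : S) ∈ R) : IsEven (sgn ρ f φ g) := by
  refine ⟨fun i => sgn_cases g i, ?_⟩
  have := prodSgn_R hL hM g hg
  unfold prodSgn at this
  rwa [Fin.prod_univ_four] at this

/-- Realisable sign vectors: those of the diagonal elements of `R`. -/
def Realised (ρ : Representation (ZMod 3) S E) (R : Subgroup S) (b : S) (f : Fin 4 → E)
    (φ : ↥(RB R b) → Equiv.Perm (Fin 4)) (d : Fin 4 → ZMod 3) : Prop :=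
  ∃ g : ↥(RB R b), (g : S) ∈ R ∧ φ g = 1 ∧ ∀ i, sgn ρ f φ g i = d i

theorem real_one (hM : MonoFrame ρ R b W f φ) : Realised ρ R b f φ 1 :=
  ⟨1, by rw [Subgroup.coe_one]; exact R.one_mem, phi_one hM, fun i => sgn_one hM i⟩

theorem real_mul (hM : MonoFrame ρ R b W f φ) {d d' : Fin 4 → ZMod 3}
    (h : Realised ρ R b f φ d) (h' : Realised ρ R b f φ d') : Realised ρ R b f φ (d * d') := by
  obtain ⟨g, hg, hφ, hs⟩ := h
  obtain ⟨g', hg', hφ', hs'⟩ := h'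
  refine ⟨g * g', mul_mem_R _ _ hg hg', by rw [phi_mul hM, hφ, hφ', mul_one], fun i => ?_⟩
  rw [sgn_mul hM, hφ', Equiv.Perm.one_apply, hs, hs', Pi.mul_apply, mul_comm]

theorem real_conj (hL : LinCtx ρ R b W) (hM : MonoFrame ρ R b W f φ)
    (hc : φ (bRB R b) = c₀) {d : Fin 4 → ZMod 3}
    (h : Realised ρ R b f φ d) : Realised ρ R b f φ (fun i => d (c₀⁻¹ i)) := by
  obtain ⟨g, hg, hφ, hs⟩ := h
  refine ⟨bRB R b * g * (bRB R b)⁻¹, conj_mem_R hL _ _ hg, phi_conj hM _ _ hφ, fun i => ?_⟩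
  have h1 := sgn_conj hM (bRB R b) g hφ (c₀⁻¹ i)
  have h2 : c₀ (c₀⁻¹ i) = i := Equiv.Perm.eq_inv_iff_eq.mp rfl
  rw [hc, h2] at h1
  rw [h1, hs]

/-- Every even sign vector is realised by a diagonal element of `R`. -/
theorem real_all (hL : LinCtx ρ R b W) (hM : MonoFrame ρ R b W f φ)
    (hc : φ (bRB R b) = c₀) (e : Fin 4 → ZMod 3) (he : IsEven e) : Realised ρ R b f φ e := by
  obtain ⟨a, haR, hφa, i, j, hi, hj⟩ := hM.nonscalar
  obtain ⟨g, hg⟩ := hM.trans j 0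
  have hsi : sgn ρ f φ a i = 1 := by
    apply sgn_eq_of hM; rw [hφa, Equiv.Perm.one_apply, one_smul]; exact hi
  have hsj : sgn ρ f φ a j = -1 := by
    apply sgn_eq_of hM; rw [hφa, Equiv.Perm.one_apply, neg_smul, one_smul]; exact hj
  have haR' : ((g * a * g⁻¹ : ↥(RB R b)) : S) ∈ R := conj_mem_R hL g a haR
  have hd : Realised ρ R b f φ (sgn ρ f φ (g * a * g⁻¹)) :=
    ⟨g * a * g⁻¹, haR', phi_conj hM g a hφa, fun _ => rfl⟩
  have hd0 : sgn ρ f φ (g * a * g⁻¹) 0 = -1 := by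
    have := sgn_conj hM g a hφa j
    rw [hg] at this; rw [this, hsj]
  have hd1 : ∃ k, sgn ρ f φ (g * a * g⁻¹) k = 1 :=
    ⟨φ g i, by rw [sgn_conj hM g a hφa i, hsi]⟩
  have hdE := sgn_even hL hM _ haR'
  have hd' := real_conj hL hM hc hd
  have hd'' := real_conj hL hM hc hd'
  rcases gen_all _ hdE hd0 hd1 e he with h | h | h | h | h | h | h | h <;> rw [h]
  · exact real_one hM
  · exact hd
  · exact hd'
  · exact hd''
  · exact real_mul hM hd hd'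
  · exact real_mul hM hd hd''
  · exact real_mul hM hd' hd''
  · exact real_mul hM (real_mul hM hd hd') hd''

/-- `φ` maps `R` onto the Klein four-group. -/
theorem exists_R_phi [Finite S] (hL : LinCtx ρ R b W) (hM : MonoFrame ρ R b W f φ)
    (hc : φ (bRB R b) = c₀) (π : Perm (Fin 4)) (hπ : IsV4 π) :
    ∃ g : ↥(RB R b), (g : S) ∈ R ∧ φ g = π := by
  obtain ⟨g, hg⟩ := hM.trans 0 (π 0)
  obtain ⟨r, hr, hcase⟩ := Cfsg.Agent.Lib.H1.S4415F5.rb_cases hL.b_ord hL.b_norm g.2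
  set r' : ↥(RB R b) := ⟨r, R_le_RB R b hr⟩ with hr'
  refine ⟨r', hr, ?_⟩
  apply v4_eq _ _ (phi_R_v4 hL hM hc r' hr) hπ
  rw [← hg]
  rcases hcase with h | h | h
  · have : g = r' := Subtype.ext h
    rw [this]
  · have : g = r' * bRB R b := Subtype.ext h
    rw [this, phi_mul hM, Equiv.Perm.mul_apply, hc, c₀_zero]
  · have : g = r' * (bRB R b) ^ 2 := Subtype.ext h
    rw [this, phi_mul hM, Equiv.Perm.mul_apply, phi_pow hM, hc, c₀_sq_zero]

end Cfsg.Agent.Lib.H13.S4415G5
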