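import Cfsg.Agent.Lib.H13.S4415G5b

/-!
helper13: S4415 GOOD block, piece G5 (`n = 4`), part (c): `XS z R`, `|R| = 32`, and the
assembly `four_of : B9Stmt → B10Stmt → FourStmt` (after relabelling the four lines so that `b`
acts as the fixed `3`-cycle `c₀`).
-/

set_option autoImplicit false
set_option linter.unusedSectionVars false

namespace Cfsg.Agent.Lib.H13.S4415G5

open Cfsg.Agent.Lib.H10.S4415 Cfsg.Agent.Lib.H24.S4415G Equiv

set_option maxRecDepth 100000 in
theorem even_mul : ∀ d s : Fin 4 → ZMod 3, IsEven d → IsEven s → IsEven (d * s) := by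
  decide

theorem even_neg_one : IsEven (fun _ => (-1 : ZMod 3)) := by decide

theorem pm_mul_pm {x y : ZMod 3} (hx : x = 1 ∨ x = -1) (hy : y = 1 ∨ y = -1) :
    x * y = 1 ∨ x * y = -1 := by
  rcases hx with h | h <;> rcases hy with h' | h' <;> rw [h, h'] <;> decide

variable {S E : Type*} [Group S] [AddCommGroup E] [Module (ZMod 3) E]
variable {ρ : Representation (ZMod 3) S E} {R : Subgroup S} {b : S} {W : Submodule (ZMod 3) E}
  {f : Fin 4 → E} {φ : ↥(RB R b) → Equiv.Perm (Fin 4)}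

/-- A diagonal element with all signs `-1` acts as `-1` on `W`. -/
theorem isNeg_of (hM : MonoFrame ρ R b W f φ) (z : ↥(RB R b)) (hφ : φ z = 1)
    (hs : ∀ i, sgn ρ f φ z i = -1) : IsNeg ρ W (z : S) := by
  have key0 : ∀ w ∈ Submodule.span (ZMod 3) (Set.range f), ρ (z : S) w = -w := by
    intro w hsp
    induction hsp using Submodule.span_induction with
    | mem x hx =>
      obtain ⟨i, rfl⟩ := hx
      rw [sgn_spec hM z i, hs, hφ, Equiv.Perm.one_apply, neg_smul, one_smul]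
    | zero => rw [map_zero, neg_zero]
    | add x y _ _ hx hy => rw [map_add, hx, hy, neg_add]
    | smul a x _ hx => rw [map_smul, hx, smul_neg]
  exact fun w hw => key0 w (hM.span w hw)

section core

variable [Finite S] (hL : LinCtx ρ R b W) (hM : MonoFrame ρ R b W f φ)
  (hc : φ (bRB R b) = c₀)
  (z : ↥(RB R b)) (hzφ : φ z = 1) (hzs : ∀ i, sgn ρ f φ z i = -1)

include hL hM hc hzφ hzs

theorem sq_case (g : ↥(RB R b)) (hg : (g : S) ∈ R) : g * g = 1 ∨ g * g = z := by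
  have hπ := phi_R_v4 hL hM hc g hg
  have hd := sgn_even hL hM g hg
  have hK := keyK _ hπ _ hd
  have hφ2 : φ (g * g) = 1 := by rw [phi_mul hM, hπ.1]
  have hs2 : ∀ i, sgn ρ f φ (g * g) i = sgn ρ f φ g i * sgn ρ f φ g (φ g i) :=
    fun i => sgn_mul hM g g i
  rcases pm_mul_pm (hd.1 0) (hd.1 (φ g 0)) with ht | ht
  · left
    apply ext_of hL hM
    · rw [hφ2, phi_one hM]
    · intro i; rw [hs2, hK i 0, ht, sgn_one hM]
  · right
    apply ext_of hL hM
    · rw [hφ2, hzφ]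
    · intro i; rw [hs2, hK i 0, ht, hzs]

theorem comm_case (g h : ↥(RB R b)) (hg : (g : S) ∈ R) (hh : (h : S) ∈ R) :
    g * h = h * g ∨ g * h = z * (h * g) := by
  have hπ := phi_R_v4 hL hM hc g hg
  have hσ := phi_R_v4 hL hM hc h hh
  have hd := sgn_even hL hM g hg
  have he := sgn_even hL hM h hh
  have hφc : φ (g * h) = φ (h * g) := by
    rw [phi_mul hM, phi_mul hM]; exact v4_comm _ _ hπ hσ
  have hq : ∀ i, (sgn ρ f φ h i * sgn ρ f φ g (φ h i)) * (sgn ρ f φ g i * sgn ρ f φ h (φ g i)) =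
      (sgn ρ f φ h 0 * sgn ρ f φ g (φ h 0)) * (sgn ρ f φ g 0 * sgn ρ f φ h (φ g 0)) := by
    intro i
    have h1 := keyK _ hσ _ hd i 0
    have h2 := keyK _ hπ _ he i 0
    linear_combination (sgn ρ f φ h i * sgn ρ f φ h (φ g i)) * h1 +
      (sgn ρ f φ g 0 * sgn ρ f φ g (φ h 0)) * h2
  have hy : ∀ i, (sgn ρ f φ g i * sgn ρ f φ h (φ g i)) * (sgn ρ f φ g i * sgn ρ f φ h (φ g i)) = 1 :=
    fun i => pm_mul_self (pm_mul_pm (hd.1 i) (he.1 (φ g i)))
  have hx : ∀ i, sgn ρ f φ h i * sgn ρ f φ g (φ h i) =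
      ((sgn ρ f φ h 0 * sgn ρ f φ g (φ h 0)) * (sgn ρ f φ g 0 * sgn ρ f φ h (φ g 0))) *
        (sgn ρ f φ g i * sgn ρ f φ h (φ g i)) := by
    intro i
    rw [← hq i, mul_assoc, hy i, mul_one]
  rcases pm_mul_pm (pm_mul_pm (he.1 0) (hd.1 (φ h 0))) (pm_mul_pm (hd.1 0) (he.1 (φ g 0)))
    with ht | ht
  · left
    apply ext_of hL hM _ _ hφc
    intro i
    rw [sgn_mul hM g h, sgn_mul hM h g, hx i, ht, one_mul]
  · right
    apply ext_of hL hM
    · rw [phi_mul hM z, hzφ, one_mul, hφc]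
    · intro i
      rw [sgn_mul hM g h, sgn_mul hM z, sgn_mul hM h g, hzs, hx i, ht]
      ring

theorem z_comm (g : ↥(RB R b)) : g * z = z * g := by
  apply ext_of hL hM
  · rw [phi_mul hM, phi_mul hM, hzφ, mul_one, one_mul]
  · intro i
    rw [sgn_mul hM, sgn_mul hM, hzs, hzs, hzφ, Equiv.Perm.one_apply, mul_comm]

theorem z_sq : z * z = 1 := by
  apply ext_of hL hM
  · rw [phi_mul hM, hzφ, mul_one, phi_one hM]
  · intro i
    rw [sgn_mul hM, hzs, hzs, sgn_one hM]; decide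

theorem z_ne_one : z ≠ 1 := by
  intro h
  have h1 := hzs 0
  rw [h, sgn_one hM] at h1
  exact absurd h1 (by decide)

theorem center_case (g : ↥(RB R b)) (hg : (g : S) ∈ R)
    (hcen : ∀ h : ↥(RB R b), (h : S) ∈ R → g * h = h * g) : g = 1 ∨ g = z := by
  have hπ := phi_R_v4 hL hM hc g hg
  have hd := sgn_even hL hM g hg
  -- Step 1: `φ g = 1`
  have hφg : φ g = 1 := by
    by_contra hne
    obtain ⟨e, he, he0⟩ := v4_ne_one _ hπ hne
    obtain ⟨h, hh, hφh, hsh⟩ := real_all hL hM hc e he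
    have h1 := congrArg (fun x => sgn ρ f φ x 0) (hcen h hh)
    simp only [sgn_mul hM, hφh, Equiv.Perm.one_apply, hsh] at h1
    -- h1 : e 0 * sgn g 0 = sgn g 0 * e (φ g 0)
    have h2 : e 0 = e (φ g 0) := by
      have h3 := pm_mul_self (hd.1 0)
      calc e 0 = e 0 * (sgn ρ f φ g 0 * sgn ρ f φ g 0) := by rw [h3, mul_one]
        _ = (e 0 * sgn ρ f φ g 0) * sgn ρ f φ g 0 := by ring
        _ = (sgn ρ f φ g 0 * e (φ g 0)) * sgn ρ f φ g 0 := by rw [h1]
        _ = e (φ g 0) * (sgn ρ f φ g 0 * sgn ρ f φ g 0) := by ring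
        _ = e (φ g 0) := by rw [h3, mul_one]
    rw [← h2, pm_mul_self (he.1 0)] at he0
    exact absurd he0 (by decide)
  -- Step 2: the sign vector of `g` is constant
  have hconst : ∀ j, sgn ρ f φ g j = sgn ρ f φ g 0 := by
    intro j
    obtain ⟨σ, hσ, hσ0⟩ := v4_exists j
    obtain ⟨h, hh, hφh⟩ := exists_R_phi hL hM hc σ hσ
    have h1 := congrArg (fun x => sgn ρ f φ x 0) (hcen h hh)
    simp only [sgn_mul hM, hφh, hφg, Equiv.Perm.one_apply, hσ0] at h1
    -- h1 : sgn h 0 * sgn g j = sgn g 0 * sgn h 0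
    have h3 := sgn_mul_self (ρ := ρ) (f := f) (φ := φ) h 0
    calc sgn ρ f φ g j = (sgn ρ f φ h 0 * sgn ρ f φ h 0) * sgn ρ f φ g j := by rw [h3, one_mul]
      _ = sgn ρ f φ h 0 * (sgn ρ f φ h 0 * sgn ρ f φ g j) := by ring
      _ = sgn ρ f φ h 0 * (sgn ρ f φ g 0 * sgn ρ f φ h 0) := by rw [h1]
      _ = sgn ρ f φ g 0 * (sgn ρ f φ h 0 * sgn ρ f φ h 0) := by ring
      _ = sgn ρ f φ g 0 := by rw [h3, mul_one]
  rcases hd.1 0 with h0 | h0
  · left
    apply ext_of hL hM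
    · rw [hφg, phi_one hM]
    · intro i; rw [hconst i, h0, sgn_one hM]
  · right
    apply ext_of hL hM
    · rw [hφg, hzφ]
    · intro i; rw [hconst i, h0, hzs]

end core

/-- The concrete extraspecial structure of `R`. -/
theorem xs_of [Finite S] (hL : LinCtx ρ R b W) (hM : MonoFrame ρ R b W f φ)
    (hc : φ (bRB R b) = c₀) : ∃ z : S, z ∈ R ∧ IsNeg ρ W z ∧ XS z R := by
  obtain ⟨z, hzR, hzφ, hzs⟩ := real_all hL hM hc (fun _ => -1) even_neg_one
  have lift : ∀ g : S, ∀ hg : g ∈ R, ((⟨g, R_le_RB R b hg⟩ : ↥(RB R b)) : S) ∈ R :=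
    fun g hg => hg
  refine ⟨(z : S), hzR, isNeg_of hM z hzφ hzs, ?_⟩
  refine ⟨hzR, ?_, ?_, ?_, ?_, ?_, ?_, ?_⟩
  · intro h
    exact z_ne_one hL hM hc z hzφ hzs (Subtype.ext h)
  · have := congrArg (fun x : ↥(RB R b) => (x : S)) (z_sq hL hM hc z hzφ hzs)
    simpa using this
  · intro g hg
    have := congrArg (fun x : ↥(RB R b) => (x : S))
      (z_comm hL hM hc z hzφ hzs ⟨g, R_le_RB R b hg⟩)
    simpa using this
  · intro g hg
    rcases sq_case hL hM hc z hzφ hzs ⟨g, R_le_RB R b hg⟩ hg with h | h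
    · left
      have := congrArg (fun x : ↥(RB R b) => (x : S)) h
      simpa using this
    · right
      have := congrArg (fun x : ↥(RB R b) => (x : S)) h
      simpa using this
  · intro g hg h hh
    rcases comm_case hL hM hc z hzφ hzs ⟨g, R_le_RB R b hg⟩ ⟨h, R_le_RB R b hh⟩ hg hh with h1 | h1
    · left
      have h2 : g * h = h * g := by
        have := congrArg (fun x : ↥(RB R b) => (x : S)) h1
        simpa using this
      rw [h2]; group
    · right
      have h2 : g * h = (z : S) * (h * g) := by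
        have := congrArg (fun x : ↥(RB R b) => (x : S)) h1
        simpa using this
      rw [h2]; group
  · intro g hg hcen
    have := center_case hL hM hc z hzφ hzs ⟨g, R_le_RB R b hg⟩ hg (fun h hh => by
      apply Subtype.ext
      have := hcen (h : S) hh
      simpa using this)
    rcases this with h | h
    · left
      have := congrArg (fun x : ↥(RB R b) => (x : S)) h
      simpa using this
    · right
      have := congrArg (fun x : ↥(RB R b) => (x : S)) h
      simpa using this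
  · obtain ⟨a, haR, hφa, i, j, hi, hj⟩ := hM.nonscalar
    refine ⟨(a : S), haR, ?_, ?_⟩
    · intro h
      rw [h, map_one, Module.End.one_apply] at hj
      exact f_ne_zero hM j (eq_zero_of_eq_neg hj)
    · intro h
      have hz := isNeg_of hM z hzφ hzs (f i) (hM.fW i)
      rw [← h, hi] at hz
      exact f_ne_zero hM i (eq_zero_of_eq_neg hz)

/-- `|R| = 32`. -/
theorem card_R [Finite S] (hL : LinCtx ρ R b W) (hM : MonoFrame ρ R b W f φ)
    (hc : φ (bRB R b) = c₀) : Nat.card ↥R = 32 := by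
  let T := {q : Perm (Fin 4) × (Fin 4 → ZMod 3) // IsV4 q.1 ∧ IsEven q.2}
  let Θ : ↥R → T := fun r =>
    ⟨(φ ⟨r, R_le_RB R b r.2⟩, sgn ρ f φ ⟨r, R_le_RB R b r.2⟩),
      phi_R_v4 hL hM hc _ r.2, sgn_even hL hM _ r.2⟩
  have hbij : Function.Bijective Θ := by
    constructor
    · intro r r' h
      have h1 : φ ⟨r, R_le_RB R b r.2⟩ = φ ⟨r', R_le_RB R b r'.2⟩ :=
        congrArg (fun q : T => q.1.1) h
      have h2 : sgn ρ f φ ⟨r, R_le_RB R b r.2⟩ = sgn ρ f φ ⟨r', R_le_RB R b r'.2⟩ :=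
        congrArg (fun q : T => q.1.2) h
      have h3 := ext_of hL hM _ _ h1 (fun i => congrFun h2 i)
      exact Subtype.ext (congrArg (fun x : ↥(RB R b) => (x : S)) h3)
    · rintro ⟨⟨π, d⟩, hπ, hd⟩
      obtain ⟨h, hh, hφh⟩ := exists_R_phi hL hM hc π hπ
      have he : IsEven (d * sgn ρ f φ h) := even_mul _ _ hd (sgn_even hL hM h hh)
      obtain ⟨r₀, hr₀, hφr₀, hsr₀⟩ := real_all hL hM hc _ he
      refine ⟨⟨((h * r₀ : ↥(RB R b)) : S), mul_mem_R _ _ hh hr₀⟩, ?_⟩
      apply Subtype.ext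
      have e1 : (⟨((h * r₀ : ↥(RB R b)) : S), R_le_RB R b (mul_mem_R _ _ hh hr₀)⟩ : ↥(RB R b))
          = h * r₀ := Subtype.ext rfl
      show (φ ⟨((h * r₀ : ↥(RB R b)) : S), _⟩, sgn ρ f φ ⟨((h * r₀ : ↥(RB R b)) : S), _⟩) = (π, d)
      rw [e1]
      refine Prod.ext ?_ ?_
      · show φ (h * r₀) = π
        rw [phi_mul hM, hφr₀, mul_one, hφh]
      · show sgn ρ f φ (h * r₀) = d
        funext i
        rw [sgn_mul hM, hφr₀, Equiv.Perm.one_apply, hsr₀, Pi.mul_apply, mul_assoc,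
          sgn_mul_self, mul_one]
  rw [Nat.card_eq_of_bijective Θ hbij, Nat.card_eq_fintype_card]
  exact card_T

end Cfsg.Agent.Lib.H13.S4415G5
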