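import Mathlib
import Cfsg.Agent.Lib.H1.QuadMul

/-!
# S3795 farm-out, piece QREP (helper13): the `𝔽_t`-linear action on an elementary abelian
section `Q / N`.
-/

set_option autoImplicit false
set_option linter.unusedSectionVars false
set_option linter.unusedVariables false

namespace Cfsg.Agent.Lib.H13.SGT

open Module Cfsg Cfsg.Agent.Lib.H1 Cfsg.Agent.Lib.H1.QuadMul

universe u uΓ

section qrep

variable {Γ : Type uΓ} [Group Γ]

/-- conjugation on `Q` by the elements normalizing `Q` (and `N`) -/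
def conjK (Q N : Subgroup Γ) :
    ↥(Subgroup.normalizer (Q : Set Γ) ⊓ Subgroup.normalizer (N : Set Γ)) →* MulAut ↥Q where
  toFun g :=
    { toFun := fun a => ⟨(g : Γ) * a * (g : Γ)⁻¹,
        (Subgroup.mem_normalizer_iff.mp g.2.1 a).mp a.2⟩
      invFun := fun a => ⟨(g : Γ)⁻¹ * a * (g : Γ),
        (Subgroup.mem_normalizer_iff''.mp g.2.1 a).mp a.2⟩
      left_inv := fun a => by
        apply Subtype.ext
        show (g : Γ)⁻¹ * ((g : Γ) * a * (g : Γ)⁻¹) * (g : Γ) = a
        group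
      right_inv := fun a => by
        apply Subtype.ext
        show (g : Γ) * ((g : Γ)⁻¹ * a * (g : Γ)) * (g : Γ)⁻¹ = a
        group
      map_mul' := fun a b => by
        apply Subtype.ext
        show (g : Γ) * ((a : Γ) * b) * (g : Γ)⁻¹ = ((g : Γ) * a * (g : Γ)⁻¹) * ((g : Γ) * b * (g : Γ)⁻¹)
        group }
  map_one' := by
    ext a
    show ((1 : Γ) * a * (1 : Γ)⁻¹) = a
    group
  map_mul' g h := by
    ext a
    show ((g : Γ) * h) * a * ((g : Γ) * h)⁻¹ = (g : Γ) * ((h : Γ) * a * (h : Γ)⁻¹) * (g : Γ)⁻¹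
    group

theorem conjK_coe (Q N : Subgroup Γ)
    (g : ↥(Subgroup.normalizer (Q : Set Γ) ⊓ Subgroup.normalizer (N : Set Γ))) (a : ↥Q) :
    ((conjK Q N g a : ↥Q) : Γ) = (g : Γ) * a * (g : Γ)⁻¹ := rfl

theorem conjK_map (Q N : Subgroup Γ)
    (g : ↥(Subgroup.normalizer (Q : Set Γ) ⊓ Subgroup.normalizer (N : Set Γ))) :
    (N.subgroupOf Q).map ((conjK Q N g : ↥Q ≃* ↥Q) : ↥Q →* ↥Q) = N.subgroupOf Q := by
  ext a
  rw [Subgroup.mem_map]
  constructor
  · rintro ⟨b, hb, rfl⟩
    rw [Subgroup.mem_subgroupOf] at hb ⊢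
    exact (Subgroup.mem_normalizer_iff.mp g.2.2 b).mp hb
  · intro ha
    rw [Subgroup.mem_subgroupOf] at ha
    refine ⟨(conjK Q N g).symm a, ?_, ?_⟩
    · rw [Subgroup.mem_subgroupOf]
      exact (Subgroup.mem_normalizer_iff''.mp g.2.2 a).mp ha
    · exact (conjK Q N g).apply_symm_apply a

/-- the induced automorphism of `Q / N` -/
def qaFun (Q N : Subgroup Γ) [(N.subgroupOf Q).Normal]
    (g : ↥(Subgroup.normalizer (Q : Set Γ) ⊓ Subgroup.normalizer (N : Set Γ))) :
    MulAut (↥Q ⧸ N.subgroupOf Q) :=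
  QuotientGroup.congr (N.subgroupOf Q) (N.subgroupOf Q) (conjK Q N g) (conjK_map Q N g)

theorem qaFun_mk (Q N : Subgroup Γ) [(N.subgroupOf Q).Normal]
    (g : ↥(Subgroup.normalizer (Q : Set Γ) ⊓ Subgroup.normalizer (N : Set Γ))) (a : ↥Q) :
    qaFun Q N g (QuotientGroup.mk a) = QuotientGroup.mk (conjK Q N g a) := rfl

/-- the action on `Q / N` as a homomorphism -/
def qaHom (Q N : Subgroup Γ) [(N.subgroupOf Q).Normal] :
    ↥(Subgroup.normalizer (Q : Set Γ) ⊓ Subgroup.normalizer (N : Set Γ)) →*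
      MulAut (↥Q ⧸ N.subgroupOf Q) where
  toFun := qaFun Q N
  map_one' := by
    ext x
    induction x using QuotientGroup.induction_on with
    | H a =>
      rw [qaFun_mk, map_one]
      rfl
  map_mul' g h := by
    ext x
    induction x using QuotientGroup.induction_on with
    | H a =>
      rw [MulAut.mul_apply, qaFun_mk, qaFun_mk, qaFun_mk, map_mul]
      rfl

theorem qaHom_mk (Q N : Subgroup Γ) [(N.subgroupOf Q).Normal]
    (g : ↥(Subgroup.normalizer (Q : Set Γ) ⊓ Subgroup.normalizer (N : Set Γ))) (a : ↥Q) :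
    qaHom Q N g (QuotientGroup.mk a) = QuotientGroup.mk (conjK Q N g a) := rfl

end qrep

/-- **QREP**: the `𝔽_t`-linear action on an elementary abelian section `Q / N` of the subgroup of
elements normalizing both `Q` and `N`. -/
theorem exists_quotRep {Γ : Type uΓ} [Group Γ] [Finite Γ] (t : ℕ) [Fact t.Prime]
    (Q N : Subgroup Γ) (hNQ : N ≤ Q)
    (hQN : ∀ q ∈ Q, ∀ z ∈ N, q * z * q⁻¹ ∈ N)
    (hcomm : ∀ a ∈ Q, ∀ b ∈ Q, a * b * a⁻¹ * b⁻¹ ∈ N) (hpow : ∀ a ∈ Q, a ^ t ∈ N) :
    ∃ (M : Type uΓ) (_ : AddCommGroup M) (_ : Module (ZMod t) M) (_ : Module.Finite (ZMod t) M)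
      (θ : Representation (ZMod t) ↥(Subgroup.normalizer (Q : Set Γ) ⊓
        Subgroup.normalizer (N : Set Γ)) M) (cls : ↥Q → M),
      Function.Surjective cls ∧ (∀ a b : ↥Q, cls (a * b) = cls a + cls b) ∧
      (∀ a : ↥Q, cls a = 0 ↔ (a : Γ) ∈ N) ∧
      ∀ (g : ↥(Subgroup.normalizer (Q : Set Γ) ⊓ Subgroup.normalizer (N : Set Γ))) (a b : ↥Q),
        (b : Γ) = (g : Γ) * a * (g : Γ)⁻¹ → θ g (cls a) = cls b := by
  haveI hnorm : (N.subgroupOf Q).Normal := by
    constructor
    intro z hz q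
    rw [Subgroup.mem_subgroupOf] at hz ⊢
    exact hQN q q.2 z hz
  haveI hEA : IsEA t (↥Q ⧸ N.subgroupOf Q) := by
    constructor
    · intro x y
      induction x using QuotientGroup.induction_on with
      | H a =>
        induction y using QuotientGroup.induction_on with
        | H b =>
          rw [← QuotientGroup.mk_mul, ← QuotientGroup.mk_mul, QuotientGroup.eq,
            Subgroup.mem_subgroupOf]
          have h1 := hcomm (b : Γ)⁻¹ (Q.inv_mem b.2) (a : Γ)⁻¹ (Q.inv_mem a.2)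
          have e : (((a * b)⁻¹ * (b * a) : ↥Q) : Γ) = (b : Γ)⁻¹ * (a : Γ)⁻¹ * (b : Γ)⁻¹⁻¹ * (a : Γ)⁻¹⁻¹ := by
            push_cast
            group
          rw [e]
          exact h1
    · intro x
      induction x using QuotientGroup.induction_on with
      | H a =>
        rw [← QuotientGroup.mk_pow, QuotientGroup.eq_one_iff, Subgroup.mem_subgroupOf]
        push_cast
        exact hpow a a.2
  let qa := qaHom Q N
  let θ : Representation (ZMod t) ↥(Subgroup.normalizer (Q : Set Γ) ⊓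
      Subgroup.normalizer (N : Set Γ)) (EA t (↥Q ⧸ N.subgroupOf Q)) :=
    { toFun := fun g => ((mulAutToLin t (↥Q ⧸ N.subgroupOf Q) (qa g) :
          EA t (↥Q ⧸ N.subgroupOf Q) ≃ₗ[ZMod t] EA t (↥Q ⧸ N.subgroupOf Q)) :
          EA t (↥Q ⧸ N.subgroupOf Q) →ₗ[ZMod t] EA t (↥Q ⧸ N.subgroupOf Q))
      map_one' := by
        rw [map_one, map_one]
        rfl
      map_mul' := fun g h => by
        rw [map_mul, map_mul]
        rfl }
  haveI : Finite (↥Q ⧸ N.subgroupOf Q) := inferInstance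
  haveI : Finite (EA t (↥Q ⧸ N.subgroupOf Q)) := inferInstance
  refine ⟨EA t (↥Q ⧸ N.subgroupOf Q), inferInstance, inferInstance, Module.Finite.of_finite, θ,
    fun a => EA.of t (QuotientGroup.mk a), ?_, ?_, ?_, ?_⟩
  · intro x
    obtain ⟨a, ha⟩ := QuotientGroup.mk_surjective (s := N.subgroupOf Q) x.val
    exact ⟨a, EA.ext ha⟩
  · intro a b
    apply EA.ext
    rw [EA.val_add]
    rfl
  · intro a
    constructor
    · intro h
      have h1 : (EA.of t (QuotientGroup.mk a : ↥Q ⧸ N.subgroupOf Q)).val = 1 := by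
        have h' : EA.of t (QuotientGroup.mk a : ↥Q ⧸ N.subgroupOf Q) = 0 := h
        rw [h']; rfl
      rw [EA.val_of, QuotientGroup.eq_one_iff, Subgroup.mem_subgroupOf] at h1
      exact h1
    · intro h
      apply EA.ext
      rw [EA.val_of, EA.val_zero, QuotientGroup.eq_one_iff, Subgroup.mem_subgroupOf]
      exact h
  · intro g a b hb
    show EA.of t ((qa g) (QuotientGroup.mk a)) = EA.of t (QuotientGroup.mk b)
    have e : conjK Q N g a = b := by
      apply Subtype.ext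
      rw [hb]
      rfl
    rw [qaHom_mk, e]

end Cfsg.Agent.Lib.H13.SGT
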