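import Mathlib
import Cfsg.Agent.Lib.H19.SGTDefs
import Cfsg.Agent.Lib.H19.FittingCrit
import Cfsg.Agent.Lib.H19.Fpf4Main
import Cfsg.Agent.Lib.H13.SGTQREP

/-!
# S3795 farm-out, piece SPEC (helper13), parametric in the statement of `level_two`.
-/

set_option autoImplicit false
set_option linter.unusedSectionVars false
set_option linter.unusedVariables false
set_option linter.style.haveILetI false
set_option maxHeartbeats 1000000

namespace Cfsg.Agent.Lib.H13.SGT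

open Module Cfsg Cfsg.Agent.Lib.H19.SG Cfsg.Agent.Lib.H19.SGT Cfsg.Agent.Lib.H19.ModRep
  Cfsg.Agent.Lib.H1 Cfsg.Agent.Lib.H1.QuadMul
open scoped TensorProduct

universe u uΓ

/-- the statement of `level_two` at the universes needed in `spec_false` -/
def L2Stmt : Prop :=
  ∀ {k : Type} [Field k] {Y : Type uΓ} [AddCommGroup Y] [Module k Y] [IsAlgClosed k]
    [FiniteDimensional k Y] {G : Type uΓ} [Group G] [Finite G] {u a : ℕ} [Fact u.Prime]
    (hu2 : u ≠ 2) (ha : 2 ≤ a) (hG : IsPGroup u G) (h2k : (2 : k) ≠ 0) (huk : (u : k) ≠ 0)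
    {ρ : Representation k G Y} {φ : MulAut G} {T : Module.End k Y} (h : Tw ρ φ T (2 ^ a))
    (hspec : (T - 1) * (T ^ 2 ^ (a - 1) + 1) = 0),
    (∀ x : G, ρ ((φ ^ 2 ^ (a - 1)) x) = ρ x) ∨ ∃ m : ℕ, u ^ m = 2 ^ a - 1

variable {Γ : Type uΓ} [Group Γ] {s : Γ} {n : ℕ} {Q R : Subgroup Γ} {t u : ℕ}

/-- **SPEC**, parametric in `level_two`. -/
theorem spec_false_of (hL2 : L2Stmt.{uΓ}) [Finite Γ] [Fact t.Prime] [Fact u.Prime] (htu : t ≠ u)
    (ht2 : t ≠ 2)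
    (hu2 : u ≠ 2) (hn : 0 < n) (hs : s ^ 2 ^ n = 1)
    (hQ : IsPGroup t Q) (hR : IsPGroup u R)
    (hsQ : ∀ q ∈ Q, s * q * s⁻¹ ∈ Q) (hsR : ∀ x ∈ R, s * x * s⁻¹ ∈ R)
    (hRQ : ∀ x ∈ R, ∀ q ∈ Q, x * q * x⁻¹ ∈ Q)
    (hgen : R ≤ Subgroup.closure (commSet R (tau s n)))
    (hQR : Subgroup.closure {y | ∃ q ∈ Q, ∃ x ∈ R, y = q⁻¹ * (x * q * x⁻¹)} = Q)
    {N : Subgroup Γ} {j : ℕ} (hj : j < n) (hNQ : N ≤ Q) (hNne : N ≠ Q)
    (hQN : ∀ q ∈ Q, ∀ z ∈ N, q * z * q⁻¹ ∈ N)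
    (hcomm : ∀ a ∈ Q, ∀ b ∈ Q, a * b * a⁻¹ * b⁻¹ ∈ N) (hpow : ∀ a ∈ Q, a ^ t ∈ N)
    (hgN : ∀ z ∈ N, s ^ 2 ^ j * z * (s ^ 2 ^ j)⁻¹ ∈ N)
    (hRN : ∀ x ∈ R, ∀ z ∈ N, x * z * x⁻¹ ∈ N)
    (ha : 2 ≤ n - j) (hcard : ∃ b : ℕ, t ^ b = (2 ^ (n - j) - 1) ^ 2)
    (hspec : ∀ a ∈ Q, s ^ 2 ^ j * (tau s n * a * (tau s n)⁻¹ * a) * (s ^ 2 ^ j)⁻¹ *
        (tau s n * a * (tau s n)⁻¹ * a)⁻¹ ∈ N) : False := by
  classical
  have ht : t.Prime := Fact.out
  have hu : u.Prime := Fact.out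
  obtain ⟨g', hg'⟩ : ∃ g' : Γ, g' = s ^ 2 ^ j := ⟨_, rfl⟩
  obtain ⟨τ, hτdef⟩ : ∃ τ : Γ, τ = tau s n := ⟨_, rfl⟩
  rw [← hg'] at hgN hspec
  rw [← hτdef] at hgen hspec
  have hτg : τ = g' ^ 2 ^ (n - j - 1) := by
    rw [hτdef, tau, hg', ← pow_mul, ← pow_add]
    congr 2
    omega
  have hg'P : g' ^ 2 ^ (n - j) = 1 := by
    rw [hg', ← pow_mul, ← pow_add, show j + (n - j) = n by omega]
    exact hs
  -- normalizers
  have hsNQ : s ∈ Subgroup.normalizer (Q : Set Γ) := Subgroup.mem_normalizer_fintype hsQ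
  have hsNR : s ∈ Subgroup.normalizer (R : Set Γ) := Subgroup.mem_normalizer_fintype hsR
  have hgNQ : g' ∈ Subgroup.normalizer (Q : Set Γ) := by
    rw [hg']; exact Subgroup.pow_mem _ hsNQ _
  have hgNR : g' ∈ Subgroup.normalizer (R : Set Γ) := by
    rw [hg']; exact Subgroup.pow_mem _ hsNR _
  have hgNN : g' ∈ Subgroup.normalizer (N : Set Γ) := Subgroup.mem_normalizer_fintype hgN
  have hgK : g' ∈ Subgroup.normalizer (Q : Set Γ) ⊓ Subgroup.normalizer (N : Set Γ) :=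
    ⟨hgNQ, hgNN⟩
  have hτK : τ ∈ Subgroup.normalizer (Q : Set Γ) ⊓ Subgroup.normalizer (N : Set Γ) := by
    rw [hτg]; exact Subgroup.pow_mem _ hgK _
  have hτNR : τ ∈ Subgroup.normalizer (R : Set Γ) := by
    rw [hτg]; exact Subgroup.pow_mem _ hgNR _
  have hRK : R ≤ Subgroup.normalizer (Q : Set Γ) ⊓ Subgroup.normalizer (N : Set Γ) := by
    intro x hx
    exact ⟨Subgroup.mem_normalizer_fintype (hRQ x hx), Subgroup.mem_normalizer_fintype (hRN x hx)⟩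
  -- the module
  obtain ⟨M, iM1, iM2, iM3, θ, cls, hsurj, hadd, hker, hact⟩ :=
    exists_quotRep t Q N hNQ hQN hcomm hpow
  have hcls1 : cls 1 = 0 := (hker 1).mpr N.one_mem
  have hclsinv : ∀ y : ↥Q, cls y⁻¹ = - cls y := by
    intro y
    have h1 := hadd y y⁻¹
    rw [mul_inv_cancel, hcls1] at h1
    exact (neg_eq_of_add_eq_zero_right h1.symm).symm
  have hclseq : ∀ c y : ↥Q, cls c = cls y ↔ ((c : Γ) * (y : Γ)⁻¹) ∈ N := by
    intro c y
    have h1 : cls (c * y⁻¹) = cls c - cls y := by rw [hadd, hclsinv, sub_eq_add_neg]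
    have h2 := hker (c * y⁻¹)
    rw [h1, sub_eq_zero] at h2
    exact h2
  -- the elements of `K₀`
  let gK : ↥(Subgroup.normalizer (Q : Set Γ) ⊓ Subgroup.normalizer (N : Set Γ)) := ⟨g', hgK⟩
  let τK : ↥(Subgroup.normalizer (Q : Set Γ) ⊓ Subgroup.normalizer (N : Set Γ)) := ⟨τ, hτK⟩
  have hτgK : τK = gK ^ 2 ^ (n - j - 1) := by
    apply Subtype.ext
    rw [Subgroup.coe_pow]
    exact hτg
  have hgKP : gK ^ 2 ^ (n - j) = 1 := by
    apply Subtype.ext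
    rw [Subgroup.coe_pow]
    exact hg'P
  -- the operator identity on `M`
  have hspecM : (θ gK - 1) * (θ τK + 1) = 0 := by
    apply LinearMap.ext
    intro m
    obtain ⟨a, rfl⟩ := hsurj m
    have hb : τ * (a : Γ) * τ⁻¹ ∈ Q := (Subgroup.mem_normalizer_iff.mp hτK.1 a).mp a.2
    have h1 : θ τK (cls a) = cls ⟨τ * (a : Γ) * τ⁻¹, hb⟩ := hact τK a ⟨_, hb⟩ rfl
    have hy : τ * (a : Γ) * τ⁻¹ * a ∈ Q := Q.mul_mem hb a.2
    have h2 : (θ τK + 1) (cls a) = cls ⟨τ * (a : Γ) * τ⁻¹ * a, hy⟩ := by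
      rw [LinearMap.add_apply, h1, Module.End.one_apply, ← hadd]
      rfl
    have hc : g' * (τ * (a : Γ) * τ⁻¹ * a) * g'⁻¹ ∈ Q :=
      (Subgroup.mem_normalizer_iff.mp hgK.1 _).mp hy
    have h3 : θ gK (cls ⟨τ * (a : Γ) * τ⁻¹ * a, hy⟩) =
        cls ⟨g' * (τ * (a : Γ) * τ⁻¹ * a) * g'⁻¹, hc⟩ := hact gK ⟨_, hy⟩ ⟨_, hc⟩ rfl
    rw [Module.End.mul_apply, h2, LinearMap.sub_apply, h3, Module.End.one_apply,
      LinearMap.zero_apply, sub_eq_zero, hclseq]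
    exact hspec a a.2
  -- the field
  let k := AlgebraicClosure (ZMod t)
  haveI : CharP k t := charP_of_injective_algebraMap (algebraMap (ZMod t) k).injective t
  have hcast : ∀ q : ℕ, q.Prime → q ≠ t → ((q : ℕ) : k) ≠ 0 := by
    intro q hq hqt
    rw [Ne, CharP.cast_eq_zero_iff k t q]
    intro hdvd
    exact hqt ((Nat.prime_dvd_prime_iff_eq ht hq).mp hdvd).symm
  have h2k : (2 : k) ≠ 0 := by
    have := hcast 2 Nat.prime_two (Ne.symm ht2)
    rwa [Nat.cast_ofNat] at this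
  have huk : ((u : ℕ) : k) ≠ 0 := hcast u hu (Ne.symm htu)
  -- the representation of `R`
  let ρY : Representation k ↥R (k ⊗[ZMod t] M) := (bc k θ).comp (Subgroup.inclusion hRK)
  have hρY : ∀ x : ↥R, ρY x = bc k θ (Subgroup.inclusion hRK x) := fun x => rfl
  let T : Module.End k (k ⊗[ZMod t] M) := bc k θ gK
  have hTw : Tw ρY (conjAut g' R hgNR) T (2 ^ (n - j)) :=
    { hT := by
        show (bc k θ gK) ^ 2 ^ (n - j) = 1
        rw [← map_pow, hgKP, map_one]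
      hφ := by
        apply MulEquiv.ext
        intro x
        apply Subtype.ext
        rw [conjAut_pow_coe, hg'P, one_mul, inv_one, mul_one]
        rfl
      htw := by
        intro x
        show bc k θ gK * bc k θ (Subgroup.inclusion hRK x) =
          bc k θ (Subgroup.inclusion hRK (conjAut g' R hgNR x)) * bc k θ gK
        rw [← map_mul, ← map_mul]
        congr 1
        apply Subtype.ext
        show g' * (x : Γ) = (g' * (x : Γ) * g'⁻¹) * g'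
        group }
  have hspecT : (T - 1) * (T ^ 2 ^ (n - j - 1) + 1) = 0 := by
    have h1 : T ^ 2 ^ (n - j - 1) = bc k θ τK := by
      show (bc k θ gK) ^ 2 ^ (n - j - 1) = _
      rw [← map_pow, ← hτgK]
    have h2 : T - 1 = (θ gK - 1).baseChange k := by
      rw [LinearMap.baseChange_sub, LinearMap.baseChange_one]
      rfl
    have h3 : bc k θ τK + 1 = (θ τK + 1).baseChange k := by
      rw [LinearMap.baseChange_add, LinearMap.baseChange_one]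
      rfl
    rw [h1, h2, h3, ← LinearMap.baseChange_mul, hspecM, LinearMap.baseChange_zero]
  have hRp : IsPGroup u ↥R := hR
  rcases hL2 (k := k) (Y := k ⊗[ZMod t] M) (G := ↥R) (u := u) (a := n - j) hu2 ha hRp h2k huk
    hTw hspecT with hA | ⟨m, hm⟩
  · -- (a): `R` acts trivially on `Q / N`
    have hθ : ∀ x : ↥R, θ (Subgroup.inclusion hRK ((conjAut g' R hgNR ^ 2 ^ (n - j - 1)) x)) =
        θ (Subgroup.inclusion hRK x) := by
      intro x
      apply bc_injective k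
      have := hA x
      rw [hρY, hρY] at this
      exact this
    have hcoe : ∀ x : ↥R, (((conjAut g' R hgNR ^ 2 ^ (n - j - 1)) x : ↥R) : Γ) =
        τ * (x : Γ) * τ⁻¹ := by
      intro x
      rw [conjAut_pow_coe, ← hτg]
    have hS : commSet R τ ⊆ ((MonoidHom.ker θ).map (Subgroup.subtype _) : Subgroup Γ) := by
      rintro y ⟨x, hx, rfl⟩
      have hx' : τ * x * τ⁻¹ ∈ R := (Subgroup.mem_normalizer_iff.mp hτNR x).mp hx
      refine ⟨(Subgroup.inclusion hRK ⟨x, hx⟩)⁻¹ *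
        Subgroup.inclusion hRK ((conjAut g' R hgNR ^ 2 ^ (n - j - 1)) ⟨x, hx⟩), ?_, ?_⟩
      · show _ ∈ MonoidHom.ker θ
        rw [MonoidHom.mem_ker, map_mul, hθ, ← map_mul, inv_mul_cancel, map_one]
      · show ((Subgroup.inclusion hRK ⟨x, hx⟩)⁻¹ *
          Subgroup.inclusion hRK ((conjAut g' R hgNR ^ 2 ^ (n - j - 1)) ⟨x, hx⟩) :
            ↥(Subgroup.normalizer (Q : Set Γ) ⊓ Subgroup.normalizer (N : Set Γ))).1 = _
        rw [Subgroup.coe_mul, Subgroup.coe_inv, Subgroup.coe_inclusion, Subgroup.coe_inclusion,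
          hcoe]
        show x⁻¹ * (τ * x * τ⁻¹) = x⁻¹ * τ * x * τ⁻¹
        group
    have hRS : R ≤ ((MonoidHom.ker θ).map (Subgroup.subtype _) : Subgroup Γ) :=
      hgen.trans ((Subgroup.closure_le _).mpr hS)
    have htriv : ∀ x (hx : x ∈ R), θ ⟨x, hRK hx⟩ = 1 := by
      intro x hx
      obtain ⟨y, hy, hyx⟩ := hRS hx
      have : y = ⟨x, hRK hx⟩ := Subtype.ext hyx
      rw [← this]
      exact hy
    have hle : Subgroup.closure {y | ∃ q ∈ Q, ∃ x ∈ R, y = q⁻¹ * (x * q * x⁻¹)} ≤ N := by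
      rw [Subgroup.closure_le]
      rintro y ⟨q, hq, x, hx, rfl⟩
      have hc : x * q * x⁻¹ ∈ Q := hRQ x hx q hq
      have h1 : θ ⟨x, hRK hx⟩ (cls ⟨q, hq⟩) = cls ⟨x * q * x⁻¹, hc⟩ :=
        hact ⟨x, hRK hx⟩ ⟨q, hq⟩ ⟨_, hc⟩ rfl
      rw [htriv x hx, Module.End.one_apply] at h1
      have h2 := (hclseq ⟨q, hq⟩ ⟨x * q * x⁻¹, hc⟩).mp h1
      have h3 : (q⁻¹ * (x * q * x⁻¹))⁻¹ ∈ N := by
        have e : (q⁻¹ * (x * q * x⁻¹))⁻¹ = q⁻¹ * (q * (x * q * x⁻¹)⁻¹) * q⁻¹⁻¹ := by group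
        rw [e]
        exact hQN q⁻¹ (Q.inv_mem hq) _ h2
      exact (N.inv_mem_iff).mp h3
    rw [hQR] at hle
    exact hNne (le_antisymm hNQ hle)
  · -- (b): arithmetic
    obtain ⟨b, hb⟩ := hcard
    rw [← hm] at hb
    have h4 : 4 ≤ 2 ^ (n - j) := by
      calc 4 = 2 ^ 2 := by norm_num
        _ ≤ 2 ^ (n - j) := Nat.pow_le_pow_right (by norm_num) ha
    have hm0 : m ≠ 0 := by
      intro h0
      rw [h0, pow_zero] at hm
      omega
    have h5 : u ∣ t ^ b := by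
      rw [hb]
      exact dvd_pow (dvd_pow_self u hm0) (by norm_num)
    have h6 : u ∣ t := hu.dvd_of_dvd_pow h5
    exact htu ((Nat.prime_dvd_prime_iff_eq hu ht).mp h6).symm

end Cfsg.Agent.Lib.H13.SGT
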