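import Mathlib
import Cfsg.Agent.Lib.H11.SHCSG
import Cfsg.Agent.Lib.H12.SHGLUEA
import Cfsg.Agent.Lib.H15.SHCSB

/-!
# S3016 (Shult, odd `p`), CASE B at `q = |H| = 3`: group side (helper13, twin of helper11's seat)

`N = N_G(H)` transitive on `H#` with `|H| = 3` is impossible in the minimal configuration
(`LocData 3` for the principal `3`-block, `⟨H^G⟩ = G`), GIVEN the pointwise Frobenius bound `hpt`
(`Re χ(a * g b g⁻¹) ≥ 2 Re χ(a) - χ(1)` whenever `a * g b g⁻¹` is `3`-regular; this is the conclusion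
of the Q3-PT piece `q3_pointwise`).

Route (helper26's q = 3 argument): `H11.SH.cs_master` at `b = a`; `d = χ(a) ∈ ℤ` (`2 χ(a) = 3 m - f`
by `H12.SH.mult` at the trivial character, and `χ(a)` is an algebraic integer); the bad pairs give
`S χ = |G| |C_N(a)| R χ`, `R χ = 2 d²/f - d`; `hpt` termwise gives `2d - f ≤ R`; block orthogonality
gives `∑ d R = 0` and `∑ d f = 0`; `H12.SH.ker` gives `d ≠ f`; `q3_arith` ends.
-/

set_option autoImplicit false

namespace Cfsg.Agent.Lib.H13.SHQ3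

open Cfsg

/-- the arithmetic endgame at `q = 3` -/
theorem q3_arith {ι : Type*} (s : Finset ι) (i₀ : ι) (hi₀ : i₀ ∈ s) (d f : ι → ℤ) (R : ι → ℝ)
    (hf : ∀ i ∈ s, 0 < f i) (hd0 : d i₀ = 1) (hf0 : f i₀ = 1)
    (hdf : ∀ i ∈ s, i ≠ i₀ → d i < f i)
    (hcs : ∀ i ∈ s, 2 * (d i : ℝ) ^ 2 = (f i : ℝ) * ((d i : ℝ) + R i))
    (hq3 : ∀ i ∈ s, 2 * (d i : ℝ) - (f i : ℝ) ≤ R i)
    (hsum : ∑ i ∈ s, (d i : ℝ) * R i = 0)
    (hone : ∑ i ∈ s, (d i : ℝ) * (f i : ℝ) = 0) : False := by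
  classical
  -- the terms off `i₀`
  have hterm : ∀ i ∈ s, i ≠ i₀ → (d i : ℝ) * R i ≤ 0 ∧ (d i < 0 → (d i : ℝ) * R i < -1) := by
    intro i hi hne
    have hfi : (0 : ℝ) < (f i : ℝ) := by exact_mod_cast hf i hi
    have hlt : (d i : ℝ) < (f i : ℝ) := by exact_mod_cast hdf i hi hne
    have h1 := hcs i hi
    have h2 := hq3 i hi
    -- `(2d - f)(d - f) ≥ 0`
    have h3 : 0 ≤ (2 * (d i : ℝ) - (f i : ℝ)) * ((d i : ℝ) - (f i : ℝ)) := by
      have h4 : (2 * (d i : ℝ) - (f i : ℝ)) * (f i : ℝ) ≤ R i * (f i : ℝ) :=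
        mul_le_mul_of_nonneg_right h2 hfi.le
      nlinarith
    have h5 : 2 * (d i : ℝ) - (f i : ℝ) ≤ 0 := by
      by_contra hcon
      push Not at hcon
      have : (2 * (d i : ℝ) - (f i : ℝ)) * ((d i : ℝ) - (f i : ℝ)) < 0 :=
        mul_neg_of_pos_of_neg hcon (by linarith)
      linarith
    -- `f * (d R) = d² (2d - f)`
    have h6 : (f i : ℝ) * ((d i : ℝ) * R i) = (d i : ℝ) ^ 2 * (2 * (d i : ℝ) - (f i : ℝ)) := by
      have : (d i : ℝ) * ((f i : ℝ) * ((d i : ℝ) + R i)) = (d i : ℝ) * (2 * (d i : ℝ) ^ 2) := by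
        rw [h1]
      nlinarith
    constructor
    · have h7 : (f i : ℝ) * ((d i : ℝ) * R i) ≤ 0 := by
        rw [h6]
        exact mul_nonpos_of_nonneg_of_nonpos (sq_nonneg _) h5
      by_contra hcon
      push Not at hcon
      have : 0 < (f i : ℝ) * ((d i : ℝ) * R i) := mul_pos hfi hcon
      linarith
    · intro hneg
      have hd1 : (d i : ℝ) ≤ -1 := by
        have : d i ≤ -1 := by omega
        exact_mod_cast this
      have hsq : 1 ≤ (d i : ℝ) ^ 2 := by nlinarith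
      -- `f * (d R) = d²(2d - f) < -f`
      have h8 : (f i : ℝ) * ((d i : ℝ) * R i) < -(f i : ℝ) := by
        rw [h6]
        have h9 : 2 * (d i : ℝ) - (f i : ℝ) < -(f i : ℝ) := by linarith
        have h10 : (d i : ℝ) ^ 2 * (2 * (d i : ℝ) - (f i : ℝ)) ≤
            1 * (2 * (d i : ℝ) - (f i : ℝ)) := by
          apply mul_le_mul_of_nonpos_right hsq h5
        linarith
      by_contra hcon
      push Not at hcon
      have : -(f i : ℝ) ≤ (f i : ℝ) * ((d i : ℝ) * R i) := by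
        have := mul_le_mul_of_nonneg_left hcon hfi.le
        linarith
      linarith
  -- the term at `i₀`
  have hR0 : R i₀ = 1 := by
    have h := hcs i₀ hi₀
    rw [hd0, hf0] at h
    push_cast at h
    linarith
  have hsplit : ∑ i ∈ s, (d i : ℝ) * R i =
      (d i₀ : ℝ) * R i₀ + ∑ i ∈ s.erase i₀, (d i : ℝ) * R i :=
    (Finset.add_sum_erase s (fun i => (d i : ℝ) * R i) hi₀).symm
  have herase : ∑ i ∈ s.erase i₀, (d i : ℝ) * R i = -1 := by
    rw [hsplit, hd0, hR0] at hsum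
    push_cast at hsum
    linarith
  -- all `d ≥ 0`
  have hnonneg : ∀ i ∈ s.erase i₀, 0 ≤ d i := by
    intro j hj
    by_contra hcon
    push Not at hcon
    have hj' := Finset.mem_erase.1 hj
    have h1 := (hterm j hj'.2 hj'.1).2 hcon
    have hsplit2 : ∑ i ∈ s.erase i₀, (d i : ℝ) * R i =
        (d j : ℝ) * R j + ∑ i ∈ (s.erase i₀).erase j, (d i : ℝ) * R i :=
      (Finset.add_sum_erase (s.erase i₀) (fun i => (d i : ℝ) * R i) hj).symm
    have h2 : ∑ i ∈ (s.erase i₀).erase j, (d i : ℝ) * R i ≤ 0 := by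
      apply Finset.sum_nonpos
      intro i hi
      have hi' := Finset.mem_erase.1 (Finset.mem_erase.1 hi).2
      exact (hterm i hi'.2 hi'.1).1
    linarith
  -- contradiction with `hone`
  have hsplit3 : ∑ i ∈ s, (d i : ℝ) * (f i : ℝ) =
      (d i₀ : ℝ) * (f i₀ : ℝ) + ∑ i ∈ s.erase i₀, (d i : ℝ) * (f i : ℝ) :=
    (Finset.add_sum_erase s (fun i => (d i : ℝ) * (f i : ℝ)) hi₀).symm
  have h3 : 0 ≤ ∑ i ∈ s.erase i₀, (d i : ℝ) * (f i : ℝ) := by
    apply Finset.sum_nonneg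
    intro i hi
    have hi' := Finset.mem_erase.1 hi
    have h1 : (0 : ℝ) ≤ (d i : ℝ) := by exact_mod_cast hnonneg i hi
    have h2 : (0 : ℝ) < (f i : ℝ) := by exact_mod_cast hf i hi'.2
    exact mul_nonneg h1 h2.le
  rw [hsplit3, hd0, hf0] at hone
  push_cast at hone
  linarith

/-- an algebraic integer `z` with `2 z ∈ ℤ` is an integer -/
theorem int_of_two_mul {z : ℂ} (hz : IsIntegral ℤ z) (k : ℤ) (h : 2 * z = k) : ∃ d : ℤ, z = d := by
  have hz' : z = algebraMap ℚ ℂ ((k : ℚ) / 2) := by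
    rw [eq_ratCast]
    push_cast
    linear_combination (1 / 2 : ℂ) * h
  rw [hz'] at hz
  have h2 : IsIntegral ℤ ((k : ℚ) / 2) :=
    (isIntegral_algebraMap_iff (algebraMap ℚ ℂ).injective).1 hz
  obtain ⟨y, hy⟩ := IsIntegrallyClosed.isIntegral_iff.1 h2
  refine ⟨y, ?_⟩
  rw [hz', ← hy]
  simp

variable {G : Type*} [Group G]

/-- **CASE B at `q = 3`** (group side): `N_G(H)` transitive on `H#` with `|H| = 3` is impossible,
given the pointwise Frobenius bound `hpt` on the `3`-regular products `a * g b g⁻¹`. -/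
theorem caseB3 [Finite G] (M : Ideal AlgInt) (hM : IsPModular 3 M) (H : Subgroup G)
    (hloc : Cfsg.Agent.Lib.H11.SH.LocData 3 H (principalBlock M G))
    (hncl : Subgroup.normalClosure (H : Set G) = ⊤)
    (htr : Cfsg.Agent.Lib.H12.SH.TransN H)
    (hq : Nat.card ↥H = 3)
    (hpt : ∀ χ : G → ℂ, IsCharacter G χ → ∀ a b g : G, a ∈ H → a ≠ 1 → b ∈ H →
      ¬ 3 ∣ orderOf (a * (g * b * g⁻¹)) →
      2 * (χ a).re - (χ 1).re ≤ (χ (a * (g * b * g⁻¹))).re) : False := by
  classical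
  have : Fact (Nat.Prime 3) := ⟨Nat.prime_three⟩
  let _ : Fintype G := Fintype.ofFinite G
  let _ : Fintype ↥(Subgroup.normalizer (H : Set G)) := Fintype.ofFinite _
  let _ : Fintype ↥H := Fintype.ofFinite _
  -- a nontrivial element `a` of `H`, of order `3`
  obtain ⟨a, ha, ha1⟩ : ∃ a ∈ H, a ≠ 1 := by
    have h1 : 1 < Fintype.card ↥H := by
      rw [← Nat.card_eq_fintype_card, hq]
      norm_num
    obtain ⟨x, hx⟩ := Fintype.exists_ne_of_one_lt_card h1 (1 : ↥H)
    exact ⟨x, x.2, fun h => hx (Subtype.ext h)⟩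
  have ha3 : a ^ 3 = 1 := by
    have h := pow_card_eq_one' (G := ↥H) (x := ⟨a, ha⟩)
    rw [hq] at h
    have h2 := congrArg (Subtype.val) h
    simpa using h2
  have horder : orderOf a = 3 := orderOf_eq_prime ha3 ha1
  have hai : a⁻¹ ∈ H := H.inv_mem ha
  have hai1 : a⁻¹ ≠ 1 := inv_ne_one.2 ha1
  have hN : ∀ n ∈ Subgroup.normalizer (H : Set G), ∀ h ∈ H, n * h * n⁻¹ ∈ H :=
    fun n hn h hh => Cfsg.Agent.Lib.H11.SH.conj_mem_of_mem_normalizer hn hh
  have htr' : ∀ b ∈ H, b ≠ 1 → ∃ n ∈ Subgroup.normalizer (H : Set G), n * a * n⁻¹ = b :=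
    fun b hb hb1 => htr b hb a ha hb1 ha1
  -- an element of `N` inverting `a`
  obtain ⟨n0, hn0, hn0a⟩ := htr' a⁻¹ hai hai1
  have hn0a' : n0⁻¹ * a⁻¹ * n0 = a := by
    rw [← hn0a]
    group
  have hNC := Cfsg.Agent.Lib.H15.SH.card_N_eq (N := Subgroup.normalizer (H : Set G)) hN ha ha1 htr'
  set C : ℕ := (Finset.univ.filter (fun n : ↥(Subgroup.normalizer (H : Set G)) =>
      (n : G) * a * (n : G)⁻¹ = a)).card with hC
  have hCpos : 0 < C := Finset.card_pos.2 ⟨1, by simp⟩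
  rw [hq] at hNC
  obtain ⟨ν, hν, hbad, hm⟩ := Cfsg.Agent.Lib.H11.SH.cs_master hloc
  -- characters
  have hchar : ∀ χ : IrrCharacter G, IsCharacter G (χ : G → ℂ) :=
    fun χ => Cfsg.Agent.Lib.L0.isCharacter_of_irr χ.2
  have hcf : ∀ (χ : IrrCharacter G) (x n : G), (χ : G → ℂ) (n * x * n⁻¹) = (χ : G → ℂ) x :=
    fun χ x n => Cfsg.Agent.Lib.H24.isClassFunction_irr χ x n
  have hconst0 : ∀ (χ : IrrCharacter G), ∀ b ∈ H, b ≠ 1 → (χ : G → ℂ) b = (χ : G → ℂ) a := by
    intro χ b hb hb1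
    obtain ⟨n, -, hn⟩ := htr' b hb hb1
    rw [← hn, hcf]
  choose f hfpos hf using fun χ : IrrCharacter G => Cfsg.Agent.Lib.H24.irr_one_eq χ
  -- the sum over `H`
  have hsumH : ∀ χ : IrrCharacter G,
      ∑ b : ↥H, (χ : G → ℂ) b * (starRingEnd ℂ) (((1 : ↥H →* ℂˣ) b : ℂˣ) : ℂ) =
        3 * (χ : G → ℂ) a + ((f χ : ℂ) - (χ : G → ℂ) a) := by
    intro χ
    have h2 : ∀ b : ↥H, (χ : G → ℂ) b * (starRingEnd ℂ) (((1 : ↥H →* ℂˣ) b : ℂˣ) : ℂ) =
        (χ : G → ℂ) a + (if b = 1 then (f χ : ℂ) - (χ : G → ℂ) a else 0) := by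
      intro b
      simp only [MonoidHom.one_apply, Units.val_one, map_one, mul_one]
      by_cases hb : b = 1
      · rw [if_pos hb, hb, Subgroup.coe_one, hf χ]
        ring
      · rw [if_neg hb, add_zero]
        exact hconst0 χ b b.2 (fun h => hb (Subtype.ext h))
    rw [Finset.sum_congr rfl (fun b _ => h2 b), Finset.sum_add_distrib, Finset.sum_const,
      Finset.card_univ, nsmul_eq_mul, Finset.sum_ite_eq' Finset.univ (1 : ↥H),
      if_pos (Finset.mem_univ _), ← Nat.card_eq_fintype_card, hq]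
    push_cast
    ring
  -- `d = χ(a)` is an integer
  have hdint : ∀ χ : IrrCharacter G, ∃ d : ℤ, (χ : G → ℂ) a = d := by
    intro χ
    obtain ⟨m, hm1⟩ := Cfsg.Agent.Lib.H12.SH.mult (hchar χ) H (1 : ↥H →* ℂˣ)
    rw [hsumH χ, ← Nat.card_eq_fintype_card, hq] at hm1
    refine int_of_two_mul (Cfsg.Agent.Lib.L0.isCharacter_isIntegral (hchar χ) a)
      (3 * (m : ℤ) - (f χ : ℤ)) ?_
    push_cast at hm1 ⊢
    linear_combination hm1
  choose d hd using hdint
  have hconst : ∀ (χ : IrrCharacter G), ∀ b ∈ H, b ≠ 1 → (χ : G → ℂ) b = (d χ : ℂ) := by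
    intro χ b hb hb1
    rw [hconst0 χ b hb hb1, hd]
  -- the bad pairs
  set P : G → ↥(Subgroup.normalizer (H : Set G)) → Prop :=
    fun g n => a * (ν g * ((n : G) * a * (n : G)⁻¹) * (ν g)⁻¹) = 1 with hPdef
  set w : G → ↥(Subgroup.normalizer (H : Set G)) → G :=
    fun g n => a * (g * ((n : G) * a * (n : G)⁻¹) * g⁻¹) with hwdef
  set S : IrrCharacter G → ℂ :=
    fun χ => ∑ g : G, ∑ n : ↥(Subgroup.normalizer (H : Set G)),
      if P g n then (χ : G → ℂ) (w g n) else 0 with hSdef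
  -- for `μ ∈ N`: `a * μ (n a n⁻¹) μ⁻¹ = 1` iff `n0⁻¹ μ n` centralizes `a`
  have hiff : ∀ (μ : ↥(Subgroup.normalizer (H : Set G))) (n : ↥(Subgroup.normalizer (H : Set G))),
      a * ((μ : G) * ((n : G) * a * (n : G)⁻¹) * (μ : G)⁻¹) = 1 ↔
      (((⟨n0, hn0⟩ : ↥(Subgroup.normalizer (H : Set G)))⁻¹ * μ * n :
        ↥(Subgroup.normalizer (H : Set G))) : G) * a *
        (((⟨n0, hn0⟩ : ↥(Subgroup.normalizer (H : Set G)))⁻¹ * μ * n :
          ↥(Subgroup.normalizer (H : Set G))) : G)⁻¹ = a := by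
    intro μ n
    have h1 : (((⟨n0, hn0⟩ : ↥(Subgroup.normalizer (H : Set G)))⁻¹ * μ * n :
        ↥(Subgroup.normalizer (H : Set G))) : G) * a *
        (((⟨n0, hn0⟩ : ↥(Subgroup.normalizer (H : Set G)))⁻¹ * μ * n :
          ↥(Subgroup.normalizer (H : Set G))) : G)⁻¹ =
        n0⁻¹ * ((μ : G) * ((n : G) * a * (n : G)⁻¹) * (μ : G)⁻¹) * n0 := by
      simp only [Subgroup.coe_mul, Subgroup.coe_inv]
      group
    rw [h1]
    constructor
    · intro h
      rw [eq_inv_of_mul_eq_one_right h, hn0a']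
    · intro h
      have h2 : (μ : G) * ((n : G) * a * (n : G)⁻¹) * (μ : G)⁻¹ = n0 * a * n0⁻¹ := by
        calc (μ : G) * ((n : G) * a * (n : G)⁻¹) * (μ : G)⁻¹
            = n0 * (n0⁻¹ * ((μ : G) * ((n : G) * a * (n : G)⁻¹) * (μ : G)⁻¹) * n0) * n0⁻¹ := by
              group
          _ = n0 * a * n0⁻¹ := by rw [h]
      rw [h2, hn0a, mul_inv_cancel]
  have hcountμ : ∀ μ : ↥(Subgroup.normalizer (H : Set G)),
      (Finset.univ.filter (fun n : ↥(Subgroup.normalizer (H : Set G)) =>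
        a * ((μ : G) * ((n : G) * a * (n : G)⁻¹) * (μ : G)⁻¹) = 1)).card = C := by
    intro μ
    rw [hC]
    refine Finset.card_bij
      (fun n _ => (⟨n0, hn0⟩ : ↥(Subgroup.normalizer (H : Set G)))⁻¹ * μ * n) ?_ ?_ ?_
    · intro n hn
      simp only [Finset.mem_filter, Finset.mem_univ, true_and] at hn ⊢
      exact (hiff μ n).1 hn
    · intro n1 _ n2 _ h
      exact mul_left_cancel h
    · intro m hm'
      simp only [Finset.mem_filter, Finset.mem_univ, true_and] at hm'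
      refine ⟨((⟨n0, hn0⟩ : ↥(Subgroup.normalizer (H : Set G)))⁻¹ * μ)⁻¹ * m, ?_, by group⟩
      simp only [Finset.mem_filter, Finset.mem_univ, true_and]
      rw [hiff μ, mul_inv_cancel_left]
      exact hm'
  have hcount : ∀ g, (Finset.univ.filter
      (fun n : ↥(Subgroup.normalizer (H : Set G)) => P g n)).card = C := by
    intro g
    exact hcountμ ⟨ν g, hν g⟩
  have hcount1 : (Finset.univ.filter (fun n : ↥(Subgroup.normalizer (H : Set G)) =>
      a * ((n : G) * a * (n : G)⁻¹) = 1)).card = C := by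
    have h := hcountμ 1
    simpa using h
  -- the real quantities
  set R : IrrCharacter G → ℝ := fun χ =>
    2 * (d χ : ℝ) ^ 2 / (f χ : ℝ) - (d χ : ℝ) with hRdef
  have hGpos : (0 : ℝ) < (Nat.card G : ℝ) := by exact_mod_cast (Nat.card_pos (α := G))
  have hCposR : (0 : ℝ) < (C : ℝ) := by exact_mod_cast hCpos
  have hGC : (0 : ℝ) < (Nat.card G : ℝ) * (C : ℝ) := mul_pos hGpos hCposR
  -- the good sum
  have hgood : ∀ χ : IrrCharacter G,
      ∑ n : ↥(Subgroup.normalizer (H : Set G)),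
        (if a * ((n : G) * a * (n : G)⁻¹) ≠ 1 then
          (χ : G → ℂ) (a * ((n : G) * a * (n : G)⁻¹)) else 0) =
      (d χ : ℂ) * ((Fintype.card ↥(Subgroup.normalizer (H : Set G)) : ℂ) - (C : ℂ)) := by
    intro χ
    have h1 : ∀ n : ↥(Subgroup.normalizer (H : Set G)),
        (if a * ((n : G) * a * (n : G)⁻¹) ≠ 1 then
          (χ : G → ℂ) (a * ((n : G) * a * (n : G)⁻¹)) else 0) =
        (d χ : ℂ) - (if a * ((n : G) * a * (n : G)⁻¹) = 1 then (d χ : ℂ) else 0) := by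
      intro n
      by_cases h : a * ((n : G) * a * (n : G)⁻¹) = 1
      · rw [if_neg (not_not.2 h), if_pos h, sub_self]
      · rw [if_pos h, if_neg h, sub_zero]
        exact hconst χ _ (H.mul_mem ha (hN n n.2 a ha)) h
    rw [Finset.sum_congr rfl (fun n _ => h1 n), Finset.sum_sub_distrib, Finset.sum_const,
      Finset.card_univ, nsmul_eq_mul, ← Finset.sum_filter, Finset.sum_const, nsmul_eq_mul, hcount1]
    ring
  -- the structure equation
  have hS : ∀ χ ∈ principalBlock M G,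
      S χ = (((Nat.card G : ℝ) * (C : ℝ) * R χ : ℝ) : ℂ) := by
    intro χ hχ
    have h : (Nat.card ↥(Subgroup.normalizer (H : Set G)) : ℂ) *
        ((Nat.card G : ℂ) * (χ : G → ℂ) a * (χ : G → ℂ) a / (χ : G → ℂ) 1) =
        (Nat.card G : ℂ) * ∑ n : ↥(Subgroup.normalizer (H : Set G)),
          (if a * ((n : G) * a * (n : G)⁻¹) ≠ 1 then
            (χ : G → ℂ) (a * ((n : G) * a * (n : G)⁻¹)) else 0) + S χ := hm χ hχ a ha a ha
    rw [hgood χ, hd χ, hf χ, Nat.card_eq_fintype_card (α := ↥(Subgroup.normalizer (H : Set G))),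
      hNC] at h
    have hf0 : (f χ : ℂ) ≠ 0 := by exact_mod_cast (hfpos χ).ne'
    have hf0R : (f χ : ℝ) ≠ 0 := by exact_mod_cast (hfpos χ).ne'
    simp only [hRdef]
    push_cast at h ⊢
    field_simp
    field_simp at h
    linear_combination (-1 : ℂ) * h
  -- counting the bad pairs against a constant
  have hcountsum : ∀ c : ℝ, ∑ g : G, ∑ n : ↥(Subgroup.normalizer (H : Set G)),
      (if P g n then c else 0) = c * ((Nat.card G : ℝ) * (C : ℝ)) := by
    intro c
    have h1 : ∀ g : G, ∑ n : ↥(Subgroup.normalizer (H : Set G)), (if P g n then c else 0) =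
        (C : ℝ) * c := by
      intro g
      rw [← Finset.sum_filter, Finset.sum_const, hcount g, nsmul_eq_mul]
    rw [Finset.sum_congr rfl (fun g _ => h1 g), Finset.sum_const, Finset.card_univ, nsmul_eq_mul,
      Nat.card_eq_fintype_card]
    ring
  -- the pointwise Frobenius bound, summed
  have hEV : ∀ χ ∈ principalBlock M G, 2 * (d χ : ℝ) - (f χ : ℝ) ≤ R χ := by
    intro χ hχ
    have hre : (S χ).re = ∑ g : G, ∑ n : ↥(Subgroup.normalizer (H : Set G)),
        (if P g n then ((χ : G → ℂ) (w g n)).re else 0) := by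
      simp only [hSdef, Complex.re_sum]
      refine Finset.sum_congr rfl (fun g _ => Finset.sum_congr rfl (fun n _ => ?_))
      split_ifs <;> simp
    have hterm : ∀ (g : G) (n : ↥(Subgroup.normalizer (H : Set G))),
        (if P g n then (2 * (d χ : ℝ) - (f χ : ℝ)) else 0) ≤
          (if P g n then ((χ : G → ℂ) (w g n)).re else 0) := by
      intro g n
      split_ifs with hP
      · have hreg := hbad g a ha _ (hN n n.2 a ha) hP
        have h := hpt (χ : G → ℂ) (hchar χ) a ((n : G) * a * (n : G)⁻¹) g ha ha1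
          (hN n n.2 a ha) hreg
        rw [hd χ, hf χ] at h
        simp only [Complex.intCast_re, Complex.natCast_re] at h
        exact h
      · exact le_refl _
    have h1 : (2 * (d χ : ℝ) - (f χ : ℝ)) * ((Nat.card G : ℝ) * (C : ℝ)) ≤ (S χ).re := by
      rw [hre, ← hcountsum]
      exact Finset.sum_le_sum (fun g _ => Finset.sum_le_sum (fun n _ => hterm g n))
    rw [hS χ hχ, Complex.ofReal_re] at h1
    have h2 : (2 * (d χ : ℝ) - (f χ : ℝ)) * ((Nat.card G : ℝ) * (C : ℝ)) ≤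
        R χ * ((Nat.card G : ℝ) * (C : ℝ)) := by linarith
    exact le_of_mul_le_mul_right h2 hGC
  -- block orthogonality
  have hfin : (principalBlock M G).Finite := Set.toFinite _
  have hdinv : ∀ χ : IrrCharacter G, (χ : G → ℂ) a⁻¹ = (d χ : ℂ) :=
    fun χ => hconst χ a⁻¹ hai hai1
  have hORTH : ∑ χ ∈ hfin.toFinset, (d χ : ℝ) * R χ = 0 := by
    have h1 : ∑ χ ∈ hfin.toFinset, ((d χ : ℂ) * S χ) = 0 := by
      simp only [hSdef, Finset.mul_sum]
      rw [Finset.sum_comm]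
      refine Finset.sum_eq_zero (fun g _ => ?_)
      rw [Finset.sum_comm]
      refine Finset.sum_eq_zero (fun n _ => ?_)
      by_cases hP : P g n
      · simp only [if_pos hP]
        have hreg := hbad g a ha _ (hN n n.2 a ha) hP
        have h2 := Cfsg.Agent.Lib.H11.SH.sum_block_regular M hM _ a hreg
          ⟨1, by rw [pow_one]; exact horder⟩ ha1
        rw [finsum_mem_eq_finite_toFinset_sum _ hfin] at h2
        rw [← h2]
        refine Finset.sum_congr rfl (fun χ _ => ?_)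
        rw [hdinv χ]
        ring
      · simp only [if_neg hP, mul_zero, Finset.sum_const_zero]
    have h2 : ∀ χ ∈ hfin.toFinset, ((d χ : ℂ) * S χ) =
        (((d χ : ℝ) * ((Nat.card G : ℝ) * (C : ℝ) * R χ) : ℝ) : ℂ) := by
      intro χ hχ
      rw [hS χ ((Set.Finite.mem_toFinset hfin).1 hχ)]
      push_cast
      ring
    rw [Finset.sum_congr rfl h2, ← Complex.ofReal_sum] at h1
    have h3 : ∑ χ ∈ hfin.toFinset, (d χ : ℝ) * ((Nat.card G : ℝ) * (C : ℝ) * R χ) = 0 := by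
      exact_mod_cast h1
    have h4 : ((Nat.card G : ℝ) * (C : ℝ)) * ∑ χ ∈ hfin.toFinset, (d χ : ℝ) * R χ = 0 := by
      rw [Finset.mul_sum, ← h3]
      refine Finset.sum_congr rfl (fun χ _ => by ring)
    exact (mul_eq_zero.1 h4).resolve_left hGC.ne'
  -- `∑ d f = 0`
  have hONE : ∑ χ ∈ hfin.toFinset, (d χ : ℝ) * ((f χ : ℤ) : ℝ) = 0 := by
    have hreg1 : ¬ 3 ∣ orderOf (1 : G) := by
      rw [orderOf_one]
      norm_num
    have h2 := Cfsg.Agent.Lib.H11.SH.sum_block_regular M hM (1 : G) a hreg1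
      ⟨1, by rw [pow_one]; exact horder⟩ ha1
    rw [finsum_mem_eq_finite_toFinset_sum _ hfin] at h2
    have h3 : ∑ χ ∈ hfin.toFinset, (((d χ : ℝ) * ((f χ : ℤ) : ℝ) : ℝ) : ℂ) = 0 := by
      rw [← h2]
      refine Finset.sum_congr rfl (fun χ _ => ?_)
      rw [hdinv χ, hf χ]
      push_cast
      ring
    rw [← Complex.ofReal_sum] at h3
    exact_mod_cast h3
  -- the class-sum identity in the arithmetic form
  have hCS : ∀ χ ∈ hfin.toFinset, 2 * (d χ : ℝ) ^ 2 =
      (((f χ : ℤ)) : ℝ) * ((d χ : ℝ) + R χ) := by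
    intro χ _
    have hf0R : (f χ : ℝ) ≠ 0 := by exact_mod_cast (hfpos χ).ne'
    simp only [hRdef]
    push_cast
    field_simp
    ring
  -- `d ≤ f`
  have hdle : ∀ χ : IrrCharacter G, d χ ≤ (f χ : ℤ) := by
    intro χ
    have h := Cfsg.Agent.Lib.L0.isCharacter_norm_le (hchar χ) a
    rw [hd χ, hf χ] at h
    have h1 : ‖((d χ : ℤ) : ℂ)‖ = |(d χ : ℝ)| := by
      rw [← Complex.ofReal_intCast, Complex.norm_real, Real.norm_eq_abs]
    have h2 : ‖((f χ : ℕ) : ℂ)‖ = (f χ : ℝ) := by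
      rw [Complex.norm_natCast]
    rw [h1, h2] at h
    have h3 : (d χ : ℝ) ≤ (f χ : ℝ) := le_trans (le_abs_self _) h
    exact_mod_cast h3
  -- the trivial character
  set i₀ : IrrCharacter G := Cfsg.Agent.Lib.H24.trivialIrr G with hi₀def
  have hi₀ : i₀ ∈ principalBlock M G := by
    intro x
    refine ⟨0, 1, M.zero_mem, ?_, ?_⟩
    · intro h1
      exact hM.2.1.ne_top ((Ideal.eq_top_iff_one M).2 h1)
    · have hc : ((i₀ : IrrCharacter G) : G → ℂ) = fun _ => (1 : ℂ) := rfl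
      rw [hc, sub_self]
      simp
  have hd0 : d i₀ = 1 := by
    have h := hd i₀
    have hc : ((i₀ : IrrCharacter G) : G → ℂ) a = 1 := rfl
    rw [hc] at h
    exact_mod_cast h.symm
  have hf0 : ((f i₀ : ℕ) : ℤ) = 1 := by
    have h := hf i₀
    have hc : ((i₀ : IrrCharacter G) : G → ℂ) 1 = 1 := rfl
    rw [hc] at h
    exact_mod_cast h.symm
  -- `d < f` off the trivial character
  have hdf : ∀ χ ∈ hfin.toFinset, χ ≠ i₀ → d χ < ((f χ : ℕ) : ℤ) := by
    intro χ _ hne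
    refine lt_of_le_of_ne (hdle χ) ?_
    intro heq
    apply hne
    have hconst1 : ∀ b ∈ H, (χ : G → ℂ) b = (χ : G → ℂ) 1 := by
      intro b hb
      by_cases hb1 : b = 1
      · rw [hb1]
      · rw [hconst χ b hb hb1, hf χ, heq]
        push_cast
        rfl
    have h := Cfsg.Agent.Lib.H12.SH.ker χ.2 H hncl hconst1
    exact Subtype.ext h
  exact q3_arith hfin.toFinset i₀ ((Set.Finite.mem_toFinset hfin).2 hi₀) d (fun χ => ((f χ : ℕ) : ℤ)) R
    (fun χ _ => by exact_mod_cast hfpos χ) hd0 hf0 hdf hCS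
    (fun χ hχ => by
      have h := hEV χ ((Set.Finite.mem_toFinset hfin).1 hχ)
      push_cast
      exact h)
    hORTH hONE

end Cfsg.Agent.Lib.H13.SHQ3
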