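import Cfsg.Agent.Lib.H13.SHQ3B
import Cfsg.Agent.Lib.H9.SHQ3PT
import Cfsg.Agent.Lib.H16.SHQ3REP
import Cfsg.Agent.Lib.H26.SH16Min

/-!
# S3016 (Shult, odd `p`): `CaseB3Stmt` in the exact shape of the architect's cut (helper13)

`caseB3_stmt : Cfsg.Agent.Lib.H26.SH16.CaseB3Stmt` = `H13.SHQ3.caseB3` (group side) fed with
helper9's `q3_pointwise` (Q3-PT) and helper16's `q3_rep` (Q3-REP). Compiled against the LANDED files.
-/

set_option autoImplicit false

namespace Cfsg.Agent.Lib.H13.SHQ3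

open Cfsg

universe u

/-- CASE B at `q = 3`, in the shape consumed by `H26.SH16.min_normal_p` / `H25.SHPTOP.shult_II_p`. -/
theorem caseB3_stmt : Cfsg.Agent.Lib.H26.SH16.CaseB3Stmt.{u} :=
  fun _ _ _ M hM H hH3 hHab hcl hloc hncl htr hq =>
    caseB3 M hM H hloc hncl htr hq
      (fun χ hχ a b g ha ha1 hb hcop =>
        Cfsg.Agent.Lib.H9.SHp.q3_pointwise hH3 hHab hcl hq
          (fun χ hχ L a hnorm hconst y hy =>
            Cfsg.Agent.Lib.H16.SHQ3.q3_rep χ hχ L a hnorm hconst y hy)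
          χ hχ a b g ha ha1 hb hcop)

end Cfsg.Agent.Lib.H13.SHQ3
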