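import Mathlib
import Cfsg.Prelude.Def_LieTypeChar
import Cfsg.Agent.Lib.H19.SRDefs
import Cfsg.Agent.Lib.H13.PAutPO2
import Cfsg.Agent.S0286

/-!
# S4613 piece OODD (helper13): `SylRigid p (PΩ_{2m+1}(F))`, `m ≥ 3`, `|F|` odd

EXACT name + statement of `tools/blueprints/S4613_sigs.lean`; an instance of the generic coordinate-free theorem
`Cfsg.Agent.Lib.H13.PAutPO.sylRigid_POmega_gen` (any non-degenerate quadratic form of dimension at least `7` over a finite field with `PΩ(Q)`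
simple).
-/

set_option autoImplicit false

namespace Cfsg.Agent.Lib.H13.SR

open Cfsg Cfsg.Agent.Lib.H19.SR

/-- OODD -/
theorem sylRigid_POmegaOdd (F : Type*) [Field F] [Fintype F] (p : ℕ) [Fact p.Prime] [CharP F p] (m : ℕ) (hm : 3 ≤ m)
    (hodd : Odd (Fintype.card F)) (hs : IsSimpleGroup (POmega F (quadFormOdd m F))) :
    SylRigid p (POmega F (quadFormOdd m F)) := by
  have h2 : (2 : F) ≠ 0 := Cfsg.Agent.Lib.H13.AutPO.two_ne_zero_of_odd hodd
  have hQ := Cfsg.Agent.S0286.nondeg (F := F) h2 m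
  have hcard : Fintype.card (Unit ⊕ (Fin m ⊕ Fin m)) = 2 * m + 1 := by
    simp; ring
  have hc7 : 7 ≤ Fintype.card (Unit ⊕ (Fin m ⊕ Fin m)) := by rw [hcard]; omega
  have key := Cfsg.Agent.Lib.H13.PAutPO.sylRigid_POmega_gen (Cfsg.Agent.S0286.oddQF F m) hQ (le_trans (by norm_num) hc7) hc7 p
  rw [Cfsg.Agent.S0286.coe_oddQF] at key
  exact key hs

end Cfsg.Agent.Lib.H13.SR
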