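import Mathlib
import Cfsg.Prelude.Def_LieTypeChar
import Cfsg.Agent.Lib.H19.SRDefs
import Cfsg.Agent.Lib.H13.PAutPSL4

/-!
# S4613 piece PSL (helper13): `SylRigid p (PSL_n(F))`

EXACT name + statement of `tools/blueprints/S4613_sigs.lean`; derived from
`Cfsg.Agent.Lib.H13.PAut.aut_eq_one_PSL`.
-/

set_option autoImplicit false

namespace Cfsg.Agent.Lib.H13.SR

open Cfsg Cfsg.Agent.Lib.H19.SR

/-- PSL -/
theorem sylRigid_PSL (F : Type*) [Field F] [Fintype F] (p : ℕ) [Fact p.Prime] [CharP F p] (n : ℕ) (hn : 2 ≤ n)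
    (h2 : n = 2 → 4 ≤ Fintype.card F) (hs : IsSimpleGroup (Matrix.ProjectiveSpecialLinearGroup (Fin n) F)) :
    SylRigid p (Matrix.ProjectiveSpecialLinearGroup (Fin n) F) := by
  intro α hα U hfix
  exact Cfsg.Agent.Lib.H13.PAut.aut_eq_one_PSL p n hn h2 α hα U hfix

end Cfsg.Agent.Lib.H13.SR
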