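import Mathlib

set_option autoImplicit false

namespace Cfsg.Agent.Lib.H13

open Polynomial

section Functional
variable {F : Type*} [Field F]

theorem C_mul_mod (c : F) (u g : F[X]) : (C c * u) % g = C c * (u % g) := by
  rw [Polynomial.mod_def, Polynomial.mod_def, ← smul_eq_C_mul, ← smul_eq_C_mul,
    Polynomial.smul_modByMonic]

/-- the coefficient functional on `F[X]/(g)` -/
noncomputable def coeffFun (g : F[X]) (a : F[X] ⧸ (Ideal.span {g} : Ideal F[X])) : F :=
  ((Quotient.out a : F[X]) % g).coeff (g.natDegree - 1)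

theorem coeffFun_mk (g u : F[X]) :
    coeffFun g (Ideal.Quotient.mk (Ideal.span {g}) u) = (u % g).coeff (g.natDegree - 1) := by
  unfold coeffFun
  congr 1
  apply Polynomial.mod_eq_of_dvd_sub
  rw [← Ideal.mem_span_singleton, ← Ideal.Quotient.eq]
  exact Quotient.out_eq _

theorem coeffFun_add (g : F[X]) (a b : F[X] ⧸ (Ideal.span {g} : Ideal F[X])) :
    coeffFun g (a + b) = coeffFun g a + coeffFun g b := by
  obtain ⟨u, rfl⟩ := Ideal.Quotient.mk_surjective a
  obtain ⟨w, rfl⟩ := Ideal.Quotient.mk_surjective b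
  rw [← map_add, coeffFun_mk, coeffFun_mk, coeffFun_mk, Polynomial.add_mod, coeff_add]

theorem coeffFun_C_mul (g : F[X]) (c : F) (a : F[X] ⧸ (Ideal.span {g} : Ideal F[X])) :
    coeffFun g (Ideal.Quotient.mk (Ideal.span {g}) (C c) * a) = c * coeffFun g a := by
  obtain ⟨u, rfl⟩ := Ideal.Quotient.mk_surjective a
  rw [← map_mul, coeffFun_mk, coeffFun_mk, C_mul_mod, coeff_C_mul]

theorem coeffFun_nondeg (g : F[X]) (hg : g ≠ 0) (a : F[X] ⧸ (Ideal.span {g} : Ideal F[X]))
    (ha : a ≠ 0) : ∃ b, coeffFun g (a * b) ≠ 0 := by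
  obtain ⟨u, rfl⟩ := Ideal.Quotient.mk_surjective a
  set h := u % g with hh
  have hmk : Ideal.Quotient.mk (Ideal.span {g}) u = Ideal.Quotient.mk (Ideal.span {g}) h := by
    rw [Ideal.Quotient.eq, Ideal.mem_span_singleton]
    refine ⟨u / g, ?_⟩
    rw [hh]
    have := EuclideanDomain.div_add_mod u g
    linear_combination (-1 : F[X]) * this
  have hne : h ≠ 0 := by
    intro h0
    apply ha
    rw [hmk, h0, map_zero]
  have hdeg : h.degree < g.degree := Polynomial.degree_mod_lt u hg
  have hnat : h.natDegree < g.natDegree := Polynomial.natDegree_lt_natDegree hne hdeg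
  refine ⟨Ideal.Quotient.mk (Ideal.span {g}) (X ^ (g.natDegree - 1 - h.natDegree)), ?_⟩
  rw [hmk, ← map_mul, coeffFun_mk]
  have hd : (h * X ^ (g.natDegree - 1 - h.natDegree)).natDegree = g.natDegree - 1 := by
    rw [Polynomial.natDegree_mul_X_pow _ hne]
    omega
  have hlt : (h * X ^ (g.natDegree - 1 - h.natDegree)).degree < g.degree := by
    have hne' : h * X ^ (g.natDegree - 1 - h.natDegree) ≠ 0 :=
      mul_ne_zero hne (pow_ne_zero _ X_ne_zero)
    rw [Polynomial.degree_eq_natDegree hne', Polynomial.degree_eq_natDegree hg, hd]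
    exact_mod_cast (by omega : g.natDegree - 1 < g.natDegree)
  rw [(Polynomial.mod_eq_self_iff hg).mpr hlt]
  obtain ⟨k, hk⟩ : ∃ k, g.natDegree - 1 - h.natDegree = k := ⟨_, rfl⟩
  have : g.natDegree - 1 = h.natDegree + k := by omega
  rw [hk, this, Polynomial.coeff_mul_X_pow]
  exact Polynomial.leadingCoeff_ne_zero.mpr hne

end Functional

section Form
variable {F : Type*} [Field F] {V : Type*} [AddCommGroup V] [Module F V] [FiniteDimensional F V]

theorem smul_quot (g r : F[X]) (a : F[X] ⧸ (Ideal.span {g} : Ideal F[X])) :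
    r • a = Ideal.Quotient.mk (Ideal.span {g}) r * a := by
  obtain ⟨u, rfl⟩ := Ideal.Quotient.mk_surjective a
  rfl

/-- every endomorphism of a finite-dimensional space is self-adjoint for some
nondegenerate bilinear form -/
theorem exists_selfAdjoint_form (f : V →ₗ[F] V) :
    ∃ B : V →ₗ[F] V →ₗ[F] F, (∀ x y, B (f x) y = B x (f y)) ∧
      (∀ x, (∀ y, B x y = 0) → x = 0) := by
  classical
  have htors : Module.IsTorsion F[X] (Module.AEval' f) :=
    Module.AEval.isTorsion_of_finiteDimensional F V f
  obtain ⟨ι, _, p, hp, e, ⟨E⟩⟩ := Module.equiv_directSum_of_isTorsion htors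
  let g : ι → F[X] := fun i => p i ^ e i
  have hg : ∀ i, g i ≠ 0 := fun i => pow_ne_zero _ (hp i).ne_zero
  let T : (i : ι) → V → F[X] ⧸ (Ideal.span {g i} : Ideal F[X]) :=
    fun i x => (E (Module.AEval'.of f x)) i
  have T_add : ∀ i x y, T i (x + y) = T i x + T i y := by
    intro i x y
    show (E (Module.AEval'.of f (x + y))) i = _
    rw [map_add, map_add, DirectSum.add_apply]
  have T_smul : ∀ i (c : F) x, T i (c • x) = Ideal.Quotient.mk (Ideal.span {g i}) (C c) * T i x := by
    intro i c x
    show (E (Module.AEval'.of f (c • x))) i = _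
    rw [map_smul, ← Module.AEval.C_smul, map_smul, DirectSum.smul_apply, smul_quot]
  have T_f : ∀ i x, T i (f x) = Ideal.Quotient.mk (Ideal.span {g i}) X * T i x := by
    intro i x
    show (E (Module.AEval'.of f (f x))) i = _
    rw [← Module.AEval'.X_smul_of, map_smul, DirectSum.smul_apply, smul_quot]
  have T_inj : ∀ x, (∀ i, T i x = 0) → x = 0 := by
    intro x hx
    have h1 : E (Module.AEval'.of f x) = 0 := by
      apply DirectSum.ext_component F[X]
      intro i
      rw [map_zero]
      exact hx i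
    have h2 := E.map_eq_zero_iff.mp h1
    exact (Module.AEval'.of f).map_eq_zero_iff.mp h2
  have T_surj : ∀ i (b : F[X] ⧸ (Ideal.span {g i} : Ideal F[X])),
      ∃ y, T i y = b ∧ ∀ j, j ≠ i → T j y = 0 := by
    intro i b
    refine ⟨(Module.AEval'.of f).symm (E.symm (DirectSum.of _ i b)), ?_, ?_⟩
    · show (E (Module.AEval'.of f ((Module.AEval'.of f).symm (E.symm (DirectSum.of _ i b))))) i = b
      rw [LinearEquiv.apply_symm_apply, LinearEquiv.apply_symm_apply, DirectSum.of_eq_same]
    · intro j hj
      show (E (Module.AEval'.of f ((Module.AEval'.of f).symm (E.symm (DirectSum.of _ i b))))) j = 0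
      rw [LinearEquiv.apply_symm_apply, LinearEquiv.apply_symm_apply, DirectSum.of_eq_of_ne _ _ _ hj]
  let B : V →ₗ[F] V →ₗ[F] F := LinearMap.mk₂ F
    (fun x y => ∑ i, coeffFun (g i) (T i x * T i y))
    (by
      intro x x' y
      simp only [T_add, add_mul, coeffFun_add, Finset.sum_add_distrib])
    (by
      intro c x y
      simp only [T_smul, mul_assoc, coeffFun_C_mul, Finset.mul_sum, smul_eq_mul])
    (by
      intro x y y'
      simp only [T_add, mul_add, coeffFun_add, Finset.sum_add_distrib])
    (by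
      intro c x y
      simp only [T_smul, mul_left_comm (T _ x), coeffFun_C_mul, Finset.mul_sum, smul_eq_mul])
  have hB : ∀ x y, B x y = ∑ i, coeffFun (g i) (T i x * T i y) := fun _ _ => rfl
  refine ⟨B, ?_, ?_⟩
  · intro x y
    rw [hB, hB]
    apply Finset.sum_congr rfl
    intro i _
    rw [T_f, T_f]
    congr 1
    ring
  · intro x hx
    apply T_inj
    intro i
    by_contra hne
    obtain ⟨b, hb⟩ := coeffFun_nondeg (g i) (hg i) (T i x) hne
    obtain ⟨y, hy1, hy2⟩ := T_surj i b
    apply hb
    have := hx y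
    rw [hB, Finset.sum_eq_single i] at this
    · rw [← hy1]; exact this
    · intro j _ hj
      rw [hy2 j hj, mul_zero]
      have := coeffFun_C_mul (g j) 0 0
      simpa using this
    · intro h; exact absurd (Finset.mem_univ i) h

end Form

section Mat
variable {F : Type*} [Field F] {n : Type*} [Fintype n] [DecidableEq n]

/-- every square matrix over a field is conjugate to its transpose -/
theorem isConj_transpose (A : Matrix n n F) : IsConj A A.transpose := by
  obtain ⟨B, hB1, hB2⟩ := exists_selfAdjoint_form (Matrix.toLin' A)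
  set S : Matrix n n F := LinearMap.toMatrix₂' F B with hS
  have h1 : A.transpose * S = S * A := by
    rw [hS, LinearMap.mul_toMatrix', LinearMap.toMatrix₂'_mul, Matrix.transpose_transpose]
    congr 1
    apply LinearMap.ext
    intro x
    apply LinearMap.ext
    intro y
    exact hB1 x y
  have hsep : B.SeparatingLeft := by
    intro x hx
    exact hB2 x hx
  have hdet : S.det ≠ 0 := by
    rw [← LinearMap.separatingLeft_toLinearMap₂'_iff_det_ne_zero (R := F), hS,
      Matrix.toLinearMap₂'_toMatrix']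
    exact hsep
  have hu : IsUnit S := (Matrix.isUnit_iff_isUnit_det S).mpr (isUnit_iff_ne_zero.mpr hdet)
  obtain ⟨u, hu'⟩ := hu
  refine ⟨u, ?_⟩
  show (u : Matrix n n F) * A = A.transpose * (u : Matrix n n F)
  rw [hu', h1]

end Mat

end Cfsg.Agent.Lib.H13
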