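import Mathlib
import Cfsg.Agent.Lib.H20.SigCDefs
import Cfsg.Agent.S1281

/-!
# S1299 farm-out, PIECE QUOT : the quotient functor (helper13)

Exact names + statements of `tools/blueprints/S1299_sigs.lean`.
-/

set_option autoImplicit false

namespace Cfsg.Agent.Lib.H20.SigC

open Cfsg

universe u

section

variable {G : Type u} [Group G] [Finite G]

/-- An elementary abelian `p`-group meets a `p'`-group trivially. -/
theorem quot_inf_eq_bot (p : ℕ) [Fact p.Prime] (A N : Subgroup G)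
    (hA : Cfsg.IsElementaryAbelian p A) (hN : ¬ p ∣ Nat.card ↥N) :
    ∀ x ∈ A, x ∈ N → x = 1 := by
  have hp : p.Prime := Fact.out
  intro x hxA hxN
  have h1 : orderOf x ∣ p := orderOf_dvd_of_pow_eq_one (hA.2 x hxA)
  have h2 : orderOf x ∣ Nat.card ↥N := by
    have := orderOf_dvd_natCard (⟨x, hxN⟩ : ↥N)
    rwa [Subgroup.orderOf_mk] at this
  rcases (Nat.dvd_prime hp).1 h1 with h | h
  · exact orderOf_eq_one_iff.1 h
  · exact absurd (h ▸ h2) hN

/-- `mk` is injective on `A`. -/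
theorem quot_mk_inj (p : ℕ) [Fact p.Prime] (A N : Subgroup G) [N.Normal]
    (hA : Cfsg.IsElementaryAbelian p A) (hN : ¬ p ∣ Nat.card ↥N)
    {a b : G} (ha : a ∈ A) (hb : b ∈ A)
    (hab : QuotientGroup.mk' N a = QuotientGroup.mk' N b) : a = b := by
  have h1 : a⁻¹ * b ∈ N := by
    rw [QuotientGroup.mk'_apply, QuotientGroup.mk'_apply] at hab
    exact QuotientGroup.eq.1 hab
  have h2 : a⁻¹ * b ∈ A := A.mul_mem (A.inv_mem ha) hb
  have h3 := quot_inf_eq_bot p A N hA hN _ h2 h1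
  exact inv_mul_eq_one.1 h3

theorem quot_isElementaryAbelian (p : ℕ) (A N : Subgroup G) [N.Normal]
    (hA : Cfsg.IsElementaryAbelian p A) :
    Cfsg.IsElementaryAbelian p (A.map (QuotientGroup.mk' N)) := by
  obtain ⟨hc, hpw⟩ := hA
  refine ⟨⟨⟨?_⟩⟩, ?_⟩
  · rintro ⟨x, a, ha, rfl⟩ ⟨y, b, hb, rfl⟩
    apply Subtype.ext
    show QuotientGroup.mk' N a * QuotientGroup.mk' N b =
      QuotientGroup.mk' N b * QuotientGroup.mk' N a
    have h := hc.is_comm.comm (⟨a, ha⟩ : ↥A) ⟨b, hb⟩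
    have h' : a * b = b * a := congrArg Subtype.val h
    rw [← map_mul, ← map_mul, h']
  · rintro x ⟨a, ha, rfl⟩
    rw [← map_pow, hpw a ha, map_one]

theorem quot_card_map (p : ℕ) [Fact p.Prime] (A N : Subgroup G) [N.Normal]
    (hA : Cfsg.IsElementaryAbelian p A) (hN : ¬ p ∣ Nat.card ↥N) :
    Nat.card ↥(A.map (QuotientGroup.mk' N)) = Nat.card ↥A := by
  symm
  refine Nat.card_congr (Equiv.ofBijective
    (fun a : ↥A => (⟨QuotientGroup.mk' N (a : G), Subgroup.mem_map_of_mem _ a.2⟩ :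
      ↥(A.map (QuotientGroup.mk' N)))) ⟨?_, ?_⟩)
  · intro a b hab
    apply Subtype.ext
    exact quot_mk_inj p A N hA hN a.2 b.2 (congrArg Subtype.val hab)
  · rintro ⟨x, a, ha, rfl⟩
    exact ⟨⟨a, ha⟩, rfl⟩

theorem quotTheta_apply (p : ℕ) [Fact p.Prime] (A N : Subgroup G) [N.Normal]
    (hA : Cfsg.IsElementaryAbelian p A) (hN : ¬ p ∣ Nat.card ↥N) (θ : G → Subgroup G)
    {a : G} (ha : a ∈ A) (ha1 : a ≠ 1) :
    quotTheta A N θ (QuotientGroup.mk' N a) = (θ a).map (QuotientGroup.mk' N) := by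
  have h : ∃ a' ∈ A, a' ≠ 1 ∧ (QuotientGroup.mk' N a' = QuotientGroup.mk' N a) :=
    ⟨a, ha, ha1, rfl⟩
  unfold quotTheta
  rw [dif_pos h]
  have hc : h.choose = a :=
    quot_mk_inj p A N hA hN h.choose_spec.1 ha h.choose_spec.2.2
  rw [hc]

/-- Non-identity elements of `A.map mk` come from non-identity elements of `A`. -/
theorem quot_exists_rep (A N : Subgroup G) [N.Normal] {z : G ⧸ N}
    (hz : z ∈ A.map (QuotientGroup.mk' N)) (hz1 : z ≠ 1) :
    ∃ a ∈ A, a ≠ 1 ∧ QuotientGroup.mk' N a = z := by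
  obtain ⟨a, ha, rfl⟩ := hz
  refine ⟨a, ha, ?_, rfl⟩
  rintro rfl
  exact hz1 (map_one _)

theorem quot_mk_ne_one (p : ℕ) [Fact p.Prime] (A N : Subgroup G) [N.Normal]
    (hA : Cfsg.IsElementaryAbelian p A) (hN : ¬ p ∣ Nat.card ↥N)
    {a : G} (ha : a ∈ A) (ha1 : a ≠ 1) : QuotientGroup.mk' N a ≠ 1 := by
  intro h
  apply ha1
  apply quot_inf_eq_bot p A N hA hN a ha
  rw [QuotientGroup.mk'_apply, QuotientGroup.eq_one_iff] at h
  exact h

theorem quot_isSolvableSignalizerFunctor (p : ℕ) [Fact p.Prime] (A N : Subgroup G) [N.Normal]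
    (hA : Cfsg.IsElementaryAbelian p A) (hA2 : p ^ 2 ≤ Nat.card ↥A) (hN : ¬ p ∣ Nat.card ↥N)
    (θ : G → Subgroup G) (hθ : Cfsg.IsSolvableSignalizerFunctor p A θ) :
    Cfsg.IsSolvableSignalizerFunctor p (A.map (QuotientGroup.mk' N)) (quotTheta A N θ) := by
  have hθ' := hθ
  obtain ⟨⟨h1, h2, h3, h4⟩, h5⟩ := hθ
  refine ⟨⟨?_, ?_, ?_, ?_⟩, ?_⟩
  · intro z hz hz1
    obtain ⟨a, ha, ha1, rfl⟩ := quot_exists_rep A N hz hz1
    rw [quotTheta_apply p A N hA hN θ ha ha1]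
    rintro x ⟨t, ht, rfl⟩
    rw [Subgroup.mem_centralizer_iff]
    intro y hy
    rw [Set.mem_singleton_iff] at hy
    subst hy
    have htc := Subgroup.mem_centralizer_iff.1 (h1 a ha ha1 ht) a (Set.mem_singleton a)
    rw [← map_mul, ← map_mul, htc]
  · intro z hz hz1
    obtain ⟨a, ha, ha1, rfl⟩ := quot_exists_rep A N hz hz1
    rw [quotTheta_apply p A N hA hN θ ha ha1]
    intro hdvd
    exact h2 a ha ha1 (hdvd.trans (Subgroup.card_map_dvd (θ a) _))
  · intro z hz hz1 w hw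
    obtain ⟨a, ha, ha1, rfl⟩ := quot_exists_rep A N hz hz1
    obtain ⟨b, hb, rfl⟩ := hw
    rw [quotTheta_apply p A N hA hN θ ha ha1]
    rintro x ⟨t, ht, rfl⟩
    refine ⟨b * t * b⁻¹, h3 a ha ha1 b hb t ht, ?_⟩
    simp only [map_mul, map_inv]
  · intro z hz hz1 w hw hw1
    obtain ⟨a, ha, ha1, rfl⟩ := quot_exists_rep A N hz hz1
    obtain ⟨b, hb, hb1, rfl⟩ := quot_exists_rep A N hw hw1
    rw [quotTheta_apply p A N hA hN θ ha ha1, quotTheta_apply p A N hA hN θ hb hb1]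
    exact Cfsg.Agent.S1281.result p A hA hA2 θ hθ' N hN a b ha ha1 hb hb1
  · intro z hz hz1
    obtain ⟨a, ha, ha1, rfl⟩ := quot_exists_rep A N hz hz1
    rw [quotTheta_apply p A N hA hN θ ha ha1]
    haveI := h5 a ha ha1
    exact Group.isSolvable_of_surjective
      (MonoidHom.subgroupMap_surjective (QuotientGroup.mk' N) (θ a))

theorem quot_closure (p : ℕ) [Fact p.Prime] (A N : Subgroup G) [N.Normal]
    (hA : Cfsg.IsElementaryAbelian p A) (hN : ¬ p ∣ Nat.card ↥N)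
    (θ : G → Subgroup G) (hθ : Cfsg.IsSolvableSignalizerFunctor p A θ) :
    Cfsg.signalizerClosure (A.map (QuotientGroup.mk' N)) (quotTheta A N θ) =
      (Cfsg.signalizerClosure A θ).map (QuotientGroup.mk' N) := by
  unfold Cfsg.signalizerClosure
  rw [Subgroup.map_iSup]
  apply le_antisymm
  · apply iSup_le
    rintro ⟨z, hz, hz1⟩
    obtain ⟨a, ha, ha1, rfl⟩ := quot_exists_rep A N hz hz1
    show quotTheta A N θ (QuotientGroup.mk' N a) ≤ _
    rw [quotTheta_apply p A N hA hN θ ha ha1]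
    exact le_iSup (fun a : {a : G // a ∈ A ∧ a ≠ 1} => (θ (a : G)).map (QuotientGroup.mk' N))
      ⟨a, ha, ha1⟩
  · apply iSup_le
    rintro ⟨a, ha, ha1⟩
    show (θ a).map (QuotientGroup.mk' N) ≤ _
    rw [← quotTheta_apply p A N hA hN θ ha ha1]
    exact le_iSup (fun z : {z : G ⧸ N // z ∈ A.map (QuotientGroup.mk' N) ∧ z ≠ 1} =>
      quotTheta A N θ (z : G ⧸ N))
      ⟨QuotientGroup.mk' N a, Subgroup.mem_map_of_mem _ ha, quot_mk_ne_one p A N hA hN ha ha1⟩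

end

end Cfsg.Agent.Lib.H20.SigC
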