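import Mathlib
import Cfsg.Agent.Lib.H20.SigCDefs
import Cfsg.Agent.Lib.H13.SigCQUOT

/-!
# S1299 farm-out, PIECE F3 : a nontrivial normal member of the family finishes (helper13)

Exact name + statement of `tools/blueprints/S1299_sigs.lean`.
-/

set_option autoImplicit false

namespace Cfsg.Agent.Lib.H20.SigC

open Cfsg

universe u

section

variable {G : Type u} [Group G] [Finite G]

/-- `|K| = |Y| * |K.map mk|` for `Y ≤ K`. -/
theorem quot_card_mul (K Y : Subgroup G) [Y.Normal] (hYK : Y ≤ K) :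
    Nat.card ↥Y * Nat.card ↥(K.map (QuotientGroup.mk' Y)) = Nat.card ↥K := by
  have h1 := Subgroup.relIndex_ker (QuotientGroup.mk' Y) (K := K)
  rw [QuotientGroup.ker_mk'] at h1
  have h2 := Subgroup.relIndex_mul_relIndex ⊥ Y K bot_le hYK
  rw [Subgroup.relIndex_bot_left, Subgroup.relIndex_bot_left] at h2
  rw [← h1]
  exact h2

theorem closed_complete_of_normal_member {n : ℕ} (ih : ClosedCompleteUpTo.{u} n)
    (p : ℕ) [Fact p.Prime] (A : Subgroup G) (hA : Cfsg.IsElementaryAbelian p A)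
    (hA3 : p ^ 3 ≤ Nat.card ↥A) (θ : G → Subgroup G)
    (hθ : Cfsg.IsSolvableSignalizerFunctor p A θ)
    (hcard : Nat.card ↥(Cfsg.signalizerClosure A θ) ≤ n + 1)
    (hsol : Group.IsSolvable ↥(Cfsg.signalizerClosure A θ))
    (hp' : ¬ p ∣ Nat.card ↥(Cfsg.signalizerClosure A θ))
    (Y : Subgroup G) [Y.Normal] (hY : Y ∈ Cfsg.signalizerFamily p A θ)
    (hYK : Y ≤ Cfsg.signalizerClosure A θ) (hY1 : Y ≠ ⊥) :
    ∀ a ∈ A, a ≠ 1 → Cfsg.signalizerClosure A θ ⊓ Subgroup.centralizer {a} ≤ θ a := by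
  have hp : p.Prime := Fact.out
  obtain ⟨-, hYp, -, hYc⟩ := hY
  set K := Cfsg.signalizerClosure A θ with hKdef
  have hA2 : p ^ 2 ≤ Nat.card ↥A :=
    le_trans (Nat.pow_le_pow_right hp.pos (by norm_num)) hA3
  have hcl := quot_closure p A Y hA hYp θ hθ
  have hmul := quot_card_mul K Y hYK
  have hY2 : 2 ≤ Nat.card ↥Y := by
    have h1 : Nat.card ↥Y ≠ 1 := fun h => hY1 (Subgroup.card_eq_one.1 h)
    have h0 : 0 < Nat.card ↥Y := Nat.card_pos
    omega
  have hcard' : Nat.card ↥(K.map (QuotientGroup.mk' Y)) ≤ n := by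
    have h3 : 2 * Nat.card ↥(K.map (QuotientGroup.mk' Y)) ≤
        Nat.card ↥Y * Nat.card ↥(K.map (QuotientGroup.mk' Y)) :=
      Nat.mul_le_mul_right _ hY2
    omega
  have hsol' : Group.IsSolvable ↥(K.map (QuotientGroup.mk' Y)) := by
    haveI := hsol
    exact Group.isSolvable_of_surjective
      (MonoidHom.subgroupMap_surjective (QuotientGroup.mk' Y) K)
  have hp'' : ¬ p ∣ Nat.card ↥(K.map (QuotientGroup.mk' Y)) :=
    fun h => hp' (h.trans (Subgroup.card_map_dvd K _))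
  have hq := ih (G ⧸ Y) p (A.map (QuotientGroup.mk' Y)) (quot_isElementaryAbelian p A Y hA)
    (by rw [quot_card_map p A Y hA hYp]; exact hA3) (quotTheta A Y θ)
    (quot_isSolvableSignalizerFunctor p A Y hA hA2 hYp θ hθ)
    (by rw [hcl]; exact hcard') (by rw [hcl]; exact hsol') (by rw [hcl]; exact hp'')
  intro a ha ha1 x hx
  obtain ⟨hxK, hxC⟩ := hx
  have hxK : x ∈ K := hxK
  have hxC : x ∈ Subgroup.centralizer ({a} : Set G) := hxC
  have hz := hq (QuotientGroup.mk' Y a) (Subgroup.mem_map_of_mem _ ha)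
    (quot_mk_ne_one p A Y hA hYp ha ha1)
  rw [hcl, quotTheta_apply p A Y hA hYp θ ha ha1] at hz
  have hmem : QuotientGroup.mk' Y x ∈ (θ a).map (QuotientGroup.mk' Y) := by
    apply hz
    refine ⟨Subgroup.mem_map_of_mem _ hxK, ?_⟩
    show QuotientGroup.mk' Y x ∈ Subgroup.centralizer ({QuotientGroup.mk' Y a} : Set (G ⧸ Y))
    rw [Subgroup.mem_centralizer_iff]
    intro y hy
    rw [Set.mem_singleton_iff] at hy
    subst hy
    have hc := Subgroup.mem_centralizer_iff.1 hxC a (Set.mem_singleton a)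
    rw [← map_mul, ← map_mul, hc]
  obtain ⟨t, ht, htx⟩ := hmem
  have ht : t ∈ θ a := ht
  have hty : t⁻¹ * x ∈ Y := by
    rw [QuotientGroup.mk'_apply, QuotientGroup.mk'_apply] at htx
    exact QuotientGroup.eq.1 htx
  have htC : t ∈ Subgroup.centralizer ({a} : Set G) := hθ.1.1 a ha ha1 ht
  have htxC : t⁻¹ * x ∈ Subgroup.centralizer ({a} : Set G) :=
    Subgroup.mul_mem _ (Subgroup.inv_mem _ htC) hxC
  have h4 : t⁻¹ * x ∈ θ a := hYc a ha ha1 ⟨hty, htxC⟩
  have h5 : x = t * (t⁻¹ * x) := by group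
  rw [h5]
  exact (θ a).mul_mem ht h4

end

end Cfsg.Agent.Lib.H20.SigC
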