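import Mathlib

/-!
# S3385 from S3685 (helper13): the five groups have order `2 ^ k * 3`, `k ≤ 4`;
and `Ω` is finite when a finite group acts pretransitively.
-/

namespace Cfsg.Agent.Lib.H13.SimsCard

theorem card_of_cases {P : Type*} [Group P]
    (h : Nonempty (P ≃* Multiplicative (ZMod 3)) ∨ Nonempty (P ≃* Equiv.Perm (Fin 3)) ∨
      Nonempty (P ≃* DihedralGroup 6) ∨ Nonempty (P ≃* Equiv.Perm (Fin 4)) ∨
      Nonempty (P ≃* Equiv.Perm (Fin 4) × Multiplicative (ZMod 2))) :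
    ∃ k : ℕ, k ≤ 4 ∧ Nat.card P = 2 ^ k * 3 := by
  rcases h with ⟨⟨e⟩⟩ | ⟨⟨e⟩⟩ | ⟨⟨e⟩⟩ | ⟨⟨e⟩⟩ | ⟨⟨e⟩⟩
  · refine ⟨0, by norm_num, ?_⟩
    rw [Nat.card_congr e.toEquiv]
    simp [Nat.card_eq_fintype_card]
  · refine ⟨1, by norm_num, ?_⟩
    rw [Nat.card_congr e.toEquiv]
    simp [Nat.card_eq_fintype_card, Fintype.card_perm]
    decide
  · refine ⟨2, by norm_num, ?_⟩
    rw [Nat.card_congr e.toEquiv, DihedralGroup.nat_card]
    norm_num
  · refine ⟨3, by norm_num, ?_⟩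
    rw [Nat.card_congr e.toEquiv]
    simp [Nat.card_eq_fintype_card, Fintype.card_perm]
    decide
  · refine ⟨4, by norm_num, ?_⟩
    rw [Nat.card_congr e.toEquiv, Nat.card_prod]
    simp [Nat.card_eq_fintype_card, Fintype.card_perm]
    decide

theorem finite_of_pretransitive (G : Type*) {Ω : Type*} [Group G] [Finite G] [MulAction G Ω]
    [MulAction.IsPretransitive G Ω] (a : Ω) : Finite Ω :=
  Finite.of_surjective (fun g : G => g • a) (MulAction.surjective_smul G a)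

end Cfsg.Agent.Lib.H13.SimsCard
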