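import Cfsg.Agent.Lib.H13.SimsPieces

/-!
# The Sims core theorem as a library statement (helper13)

`core S : Goal5 S.P` for every `S : Setup G` (`G` finite): `P` with (A1) [every nontrivial subgroup of `P`
normalised by `P` has its normaliser inside `P`] and (A2) [`|P : P ∩ P^h| = 3`] is `Z₃`, `S₃`, `D₁₂`, `S₄` or `S₄ × Z₂`.
-/

set_option autoImplicit false
open Cfsg.Agent.Lib.H5.Sims

namespace Cfsg.Agent.Lib.H13.Sims

variable {G : Type*} [Group G] [Finite G]

/-- CORE THEOREM of `tools/blueprints/S3685.md`. -/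
theorem core (S : Setup G) : Goal5 S.P := core_of_piecesL (pieces G) S

/-- the same, unfolded -/
theorem core' (S : Setup G) :
    Nonempty (S.P ≃* Multiplicative (ZMod 3)) ∨ Nonempty (S.P ≃* Equiv.Perm (Fin 3)) ∨
      Nonempty (S.P ≃* DihedralGroup 6) ∨ Nonempty (S.P ≃* Equiv.Perm (Fin 4)) ∨
      Nonempty (S.P ≃* Equiv.Perm (Fin 4) × Multiplicative (ZMod 2)) := core S

end Cfsg.Agent.Lib.H13.Sims
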