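import Cfsg.Agent.Lib.H5.Sims.Defs
import Cfsg.Agent.Lib.H23.SimsL2Sig

/-!
# S3685 / S3385: glue between the chain interface and helper23's piece L2 (helper13)

`hyp_of_ell2`: from `S.Bent`, `S.Loc`, `S.Con`, `S.Ell 2` the hypothesis bundle
`Hyp (P_1) (P_2) (T_1) (Q_1) (Q_2) (V_1) (V_2)` of `Cfsg.Agent.Lib.H23.SimsL2`.
`l2_of_goal`: transport of `Goal (S.Pj 1)` to `S.P`.
-/

set_option autoImplicit false
open scoped Pointwise
open Cfsg.Agent.Lib.H5.Sims Cfsg.Agent.Lib.H23.SimsL2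

namespace Cfsg.Agent.Lib.H13.Sims

variable {G : Type*} [Group G] [Finite G]

/-- elementwise invariance from `≤ normalizer` -/
theorem conj_mem_of_le_normalizer {P X : Subgroup G} (h : P ≤ Subgroup.normalizer (X : Set G))
    {g x : G} (hg : g ∈ P) (hx : x ∈ X) : g * x * g⁻¹ ∈ X :=
  (Subgroup.mem_normalizer_iff.mp (h hg) x).mp hx

/-- `≤ normalizer` from elementwise invariance -/
theorem le_normalizer_of_conj_mem {P X : Subgroup G}
    (h : ∀ g ∈ P, ∀ x ∈ X, g * x * g⁻¹ ∈ X) : P ≤ Subgroup.normalizer (X : Set G) := by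
  intro g hg
  rw [Subgroup.mem_normalizer_iff]
  intro x
  refine ⟨fun hx => h g hg x hx, fun hx => ?_⟩
  have := h g⁻¹ (P.inv_mem hg) _ hx
  simpa [mul_assoc] using this

/-- a Sylow `X` of `P_j` is not normal in `P_j`, elementwise form -/
theorem exists_conj_not_mem (S : Setup G) (_hb : S.Bent) (hL : S.Loc) (j : ℤ) (X : Subgroup G)
    (hX : S.IsSyl j X) : ∃ g ∈ S.Pj j, ∃ x ∈ X, g * x * g⁻¹ ∉ X := by
  by_contra hcon
  push_neg at hcon
  -- then every `g ∈ P_j` normalises `X`, so `P_j ≤ X`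
  have hle : S.Pj j ≤ X := by
    intro g hg
    apply hL.syl_selfnorm j X hX g hg
    apply Subgroup.eq_of_le_of_card_ge
    · intro y hy
      rw [mem_conj_smul] at hy
      have := hcon g hg _ hy
      simpa [mul_assoc] using this
    · rw [Setup.card_conj_smul]
  have h1 : Nat.card (S.Pj j) ≤ Nat.card X := Subgroup.card_le_of_le hle
  rw [S.card_Pj_eq j, hX.2] at h1
  have hpos : 0 < Nat.card (S.Tj 0) := Nat.card_pos
  omega

/-- the hypothesis bundle of piece L2 at `(P_1, P_2)` -/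
theorem hyp_of_ell2 (S : Setup G) (hb : S.Bent) (hL : S.Loc) (hC : S.Con) (hl : S.Ell 2) :
    Hyp (S.Pj 1) (S.Pj 2) (S.Tj 1) (S.Qj 1) (S.Qj 2) (S.Vj 1) (S.Vj 2) := by
  have e12 : (1 : ℤ) + 1 = 2 := by norm_num
  have e21 : (2 : ℤ) - 1 = 1 := by norm_num
  have hT1 : S.Tj 1 = S.Pj 1 ⊓ S.Pj 2 := by rw [Setup.Tj, e12]
  have hsyl1 : S.IsSyl 1 (S.Tj 1) := S.isSyl_Tj 1
  have hsyl2 : S.IsSyl 2 (S.Tj 1) := by have := S.isSyl_Tj_succ 1; rwa [e12] at this
  have hQ2T : S.Qj 2 ≤ S.Tj 1 := by have := S.Qj_le_left 2; rwa [e21] at this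
  refine
    { hT := hT1
      finP := inferInstance
      finP' := inferInstance
      hT2 := ?_
      cardP := by rw [S.card_Pj_eq 1, S.card_Tj 1]
      cardP' := by rw [S.card_Pj_eq 2, S.card_Tj 1]
      hQT := S.Qj_le_right 1
      hQ'T := hQ2T
      cardQ := by rw [S.card_Tj 1]; exact hL.cardQ 1
      cardQ' := by rw [S.card_Tj 1]; exact hL.cardQ 2
      hQn := fun g hg x hx => conj_mem_of_le_normalizer (hL.Q_norm 1) hg hx
      hQ'n := fun g hg x hx => conj_mem_of_le_normalizer (hL.Q_norm 2) hg hx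
      hTn := exists_conj_not_mem S hb hL 1 _ hsyl1
      hTn' := exists_conj_not_mem S hb hL 2 _ hsyl2
      hVQ := hC.V_le_Q 1
      hV'Q' := hC.V_le_Q 2
      hVn := fun g hg x hx => conj_mem_of_le_normalizer (hC.V_norm 1) hg hx
      hV'n := fun g hg x hx => conj_mem_of_le_normalizer (hC.V_norm 2) hg hx
      hVexp := fun x hx => by have := hC.V_sq 1 x hx; rwa [pow_two] at this
      hV'exp := fun x hx => by have := hC.V_sq 2 x hx; rwa [pow_two] at this
      hQV := fun q hq v hv => (hC.V_comm_Q 1 v hv q hq).symm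
      hQ'V' := fun q hq v hv => (hC.V_comm_Q 2 v hv q hq).symm
      hCV := hC.cV 1
      hCV' := hC.cV 2
      hZV := fun x hx hx2 hxc => hC.Z_le_V 1 _ hsyl1
        (mem_zOf.mpr ⟨hx, by rw [pow_two]; exact hx2, fun y hy => (hxc y hy).symm⟩)
      hZV' := fun x hx hx2 hxc => hC.Z_le_V 2 _ hsyl2
        (mem_zOf.mpr ⟨hx, by rw [pow_two]; exact hx2, fun y hy => (hxc y hy).symm⟩)
      hcore := ?_
      hne := ?_ }
  · -- `T_1` is a 2-group
    obtain ⟨n, hn⟩ := IsPGroup.iff_card.mp hb.two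
    exact IsPGroup.of_card (n := n) (by rw [S.card_Tj 1, hn])
  · intro X hXT h1 h2
    apply S.no_common_normal_Pj 1 2 X (hXT.trans (S.Tj_le_left 1))
      (le_normalizer_of_conj_mem h1) (le_normalizer_of_conj_mem h2)
    have := hL.P_ne 1
    rwa [e12] at this
  · -- `[V_1, V_2] ≠ 1` from `[Z_0, Z_2] ≠ 1`
    have hnc := hl.nc 0
    have e02 : (0 : ℤ) + ((2 : ℕ) : ℤ) = 2 := by norm_num
    rw [e02] at hnc
    unfold Comm at hnc
    push_neg at hnc
    obtain ⟨a, ha, b, hb', hab⟩ := hnc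
    have hsyl01 : S.IsSyl 1 (S.Tj 0) := by have := S.isSyl_Tj_succ 0; rwa [zero_add] at this
    exact ⟨a, hC.Z_le_V 1 _ hsyl01 ha, b, hC.Z_le_V 2 _ (S.isSyl_Tj 2) hb', hab⟩

/-- transport of the goal from `P_1` to `P` -/
theorem l2_of_goal (S : Setup G) (h : Goal (S.Pj 1)) :
    Nonempty (S.P ≃* Equiv.Perm (Fin 4)) ∨
      Nonempty (S.P ≃* Equiv.Perm (Fin 4) × Multiplicative (ZMod 2)) := by
  have e : S.P ≃* ↥(S.Pj 1) := Subgroup.equivSMul (MulAut.conj (S.h ^ (1 : ℤ))) S.P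
  rcases h with ⟨⟨f⟩⟩ | ⟨⟨f⟩⟩
  · exact Or.inl ⟨e.trans f⟩
  · exact Or.inr ⟨e.trans f⟩

/-- The case `l = 2` from helper23's `l2_main` (passed as `hmain`). -/
theorem l2_of_main
    (hmain : ∀ {P P' T Q Q' V V' : Subgroup G}, Hyp P P' T Q Q' V V' → Goal P)
    (S : Setup G) (hb : S.Bent) (hL : S.Loc) (hC : S.Con) (hl : S.Ell 2) :
    Nonempty (S.P ≃* Equiv.Perm (Fin 4)) ∨
      Nonempty (S.P ≃* Equiv.Perm (Fin 4) × Multiplicative (ZMod 2)) :=
  l2_of_goal S (hmain (hyp_of_ell2 S hb hL hC hl))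

end Cfsg.Agent.Lib.H13.Sims
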