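import Mathlib

/-!
# S3685 / S3385, piece RED (helper13): from the `MulAction` statement to the subgroup form

`P := stabilizer G a`, `h • a = b`:
(A1) every `X ≤ P`, `X ≠ ⊥`, normalised by `P` has `N_G(X) ≤ P`;
(A2) `|P : P ∩ P^h| = 3`  (`P^h = MulAut.conj h • P = stabilizer G b`).
-/

open scoped Pointwise
open MulAction

namespace Cfsg.Agent.Lib.H13.Sims

/-- `MulAut.conj h • stabilizer G a = stabilizer G (h • a)`. -/
theorem conj_smul_stabilizer {G Ω : Type*} [Group G] [MulAction G Ω] (h : G) (a : Ω) :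
    MulAut.conj h • stabilizer G a = stabilizer G (h • a) := by
  rw [stabilizer_smul_eq_stabilizer_map_conj, Subgroup.pointwise_smul_def]
  rfl

/-- (A1): in a faithful preprimitive action (with at least two points) a nontrivial subgroup of a
point stabiliser `P` that is normalised by `P` has its normaliser inside `P`. -/
theorem prim_A1 {G Ω : Type*} [Group G] [MulAction G Ω] [FaithfulSMul G Ω] [Nontrivial Ω]
    (hprim : MulAction.IsPreprimitive G Ω) (a : Ω) (X : Subgroup G)
    (hX : X ≤ stabilizer G a) (hX1 : X ≠ ⊥) (hN : stabilizer G a ≤ Subgroup.normalizer (X : Set G)) :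
    Subgroup.normalizer (X : Set G) ≤ stabilizer G a := by
  have hco : IsCoatom (stabilizer G a) :=
    MulAction.IsPreprimitive.isCoatom_stabilizer_of_isPreprimitive (G := G) a
  by_contra hcon
  have hlt : stabilizer G a < Subgroup.normalizer (X : Set G) := lt_of_le_of_ne hN (fun h => hcon h.ge)
  have htop : Subgroup.normalizer (X : Set G) = ⊤ := hco.2 _ hlt
  apply hX1
  rw [Subgroup.eq_bot_iff_forall]
  intro x hx
  have : MulAction.IsPretransitive G Ω := hprim.toIsPretransitive
  apply FaithfulSMul.eq_of_smul_eq_smul (α := Ω)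
  intro ω
  obtain ⟨g, rfl⟩ := MulAction.exists_smul_eq G a ω
  rw [one_smul]
  have hg : g⁻¹ ∈ Subgroup.normalizer (X : Set G) := by rw [htop]; trivial
  have h1 : g⁻¹ * x * g⁻¹⁻¹ ∈ X := (Subgroup.mem_normalizer_iff.mp hg x).mp hx
  have h2 : (g⁻¹ * x * g⁻¹⁻¹) • a = a := hX h1
  rw [inv_inv, mul_smul, mul_smul] at h2
  calc x • g • a = g • (g⁻¹ • x • g • a) := by rw [smul_inv_smul]
    _ = g • a := by rw [h2]

/-- (A2): `|P : P ∩ stabilizer b| = |orbit P b|`. -/
theorem relIndex_eq_card_orbit {G Ω : Type*} [Group G] [MulAction G Ω] (a b : Ω) :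
    (stabilizer G a ⊓ stabilizer G b).relIndex (stabilizer G a) =
      Nat.card (MulAction.orbit (MulAction.stabilizer G a) b) := by
  have h1 : stabilizer (stabilizer G a) b = (stabilizer G a ⊓ stabilizer G b).subgroupOf
      (stabilizer G a) := by
    ext x
    simp [Subgroup.mem_subgroupOf, mem_stabilizer_iff, Subgroup.smul_def]
  rw [Subgroup.relIndex, ← h1, MulAction.index_stabilizer, Nat.card_coe_set_eq]

/-- `|K| = |H ⊓ K| * |K : H ⊓ K|` in the `relIndex` form. -/
theorem card_eq_relIndex_mul {G : Type*} [Group G] (H K : Subgroup G) (hle : H ≤ K) :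
    Nat.card K = H.relIndex K * Nat.card H := by
  rw [Subgroup.relIndex, ← Subgroup.card_mul_index (H.subgroupOf K), mul_comm,
    Nat.card_congr (Subgroup.subgroupOfEquivOfLe hle).toEquiv]

/-- Piece RED, `relIndex` form. -/
theorem red_relIndex {G Ω : Type*} [Group G] [MulAction G Ω] [FaithfulSMul G Ω]
    (hprim : MulAction.IsPreprimitive G Ω) (a b : Ω)
    (h3 : Nat.card (MulAction.orbit (MulAction.stabilizer G a) b) = 3) :
    ∃ h : G,
      (∀ X : Subgroup G, X ≤ stabilizer G a → X ≠ ⊥ →
          stabilizer G a ≤ Subgroup.normalizer (X : Set G) →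
          Subgroup.normalizer (X : Set G) ≤ stabilizer G a) ∧
      (stabilizer G a ⊓ MulAut.conj h • stabilizer G a).relIndex (stabilizer G a) = 3 := by
  have : MulAction.IsPretransitive G Ω := hprim.toIsPretransitive
  obtain ⟨h, rfl⟩ := MulAction.exists_smul_eq G a b
  have : Nontrivial Ω := by
    by_contra hnt
    rw [not_nontrivial_iff_subsingleton] at hnt
    have : Nat.card (MulAction.orbit (MulAction.stabilizer G a) (h • a)) ≤ 1 :=
      Finite.card_le_one_iff_subsingleton.mpr inferInstance
    omega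
  refine ⟨h, fun X hX hX1 hN => prim_A1 hprim a X hX hX1 hN, ?_⟩
  rw [conj_smul_stabilizer, relIndex_eq_card_orbit, h3]

/-- (RED) from the permutation statement to the subgroup setting (exact sig of
`tools/blueprints/S3685_sigs1.lean`). -/
theorem red {G Ω : Type*} [Group G] [Finite G] [MulAction G Ω] [FaithfulSMul G Ω]
    (hprim : MulAction.IsPreprimitive G Ω) (a b : Ω)
    (h3 : Nat.card (MulAction.orbit (MulAction.stabilizer G a) b) = 3) :
    ∃ h : G, (∀ X : Subgroup G, X ≤ MulAction.stabilizer G a → X ≠ ⊥ →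
        MulAction.stabilizer G a ≤ Subgroup.normalizer (X : Set G) →
        Subgroup.normalizer (X : Set G) ≤ MulAction.stabilizer G a) ∧
      Nat.card (MulAction.stabilizer G a) =
        3 * Nat.card ↥(MulAction.stabilizer G a ⊓ MulAut.conj h • MulAction.stabilizer G a) := by
  obtain ⟨h, h1, h2⟩ := red_relIndex hprim a b h3
  refine ⟨h, h1, ?_⟩
  rw [card_eq_relIndex_mul _ _ inf_le_left, h2]

end Cfsg.Agent.Lib.H13.Sims
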