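import Cfsg.Agent.Lib.H5.Sims.Defs
import Cfsg.Agent.Lib.H13.SimsRed
import Cfsg.Agent.Lib.H13.SimsCard

/-!
# S3685 / S3385, piece MAIN (helper13): the assembly

`Pieces G` collects the exact-sig pieces of `tools/blueprints/S3685_sigs2.lean` (for one group `G`);
`core_of_pieces` is section 10 of the blueprint; `s3685_of_pieces`, `s3385_of_pieces` are the two
frozen statements given the pieces.
-/

set_option autoImplicit false
open scoped Pointwise
open Cfsg.Agent.Lib.H5.Sims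

namespace Cfsg.Agent.Lib.H13.Sims

/-- the conclusion of S3685 for a group `P` -/
def Goal5 (P : Type*) [Group P] : Prop :=
  Nonempty (P ≃* Multiplicative (ZMod 3)) ∨ Nonempty (P ≃* Equiv.Perm (Fin 3)) ∨
    Nonempty (P ≃* DihedralGroup 6) ∨ Nonempty (P ≃* Equiv.Perm (Fin 4)) ∨
    Nonempty (P ≃* Equiv.Perm (Fin 4) × Multiplicative (ZMod 2))

/-- the pieces of `tools/blueprints/S3685_sigs2.lean`, for one finite group `G` -/
structure Pieces (G : Type*) [Group G] [Finite G] : Prop where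
  odd : ∀ S : Setup G, IsPGroup 2 ↥(S.Tj 0)
  exists_bent : ∀ S : Setup G, IsPGroup 2 ↥(S.Tj 0) → S.Tj 0 ≠ ⊥ →
    ∃ S' : Setup G, S'.P = S.P ∧ S'.Bent
  loc : ∀ S : Setup G, S.Bent → S.Loc
  small2 : ∀ S : Setup G, S.Bent → S.Loc → Nat.card (S.Tj 0) = 2 →
    Nonempty (S.P ≃* Equiv.Perm (Fin 3))
  small4 : ∀ S : Setup G, S.Bent → S.Loc → Nat.card (S.Tj 0) = 4 →
    Nonempty (S.P ≃* DihedralGroup 6)
  con : ∀ S : Setup G, S.Bent → S.Loc → 8 ≤ Nat.card (S.Tj 0) → S.Con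
  mod : ∀ S : Setup G, S.Bent → S.Loc → S.Con → S.Mod
  einf : ∀ S : Setup G, S.Bent → S.Loc → ∃ n : ℕ, S.seg 0 n = ⊥
  ell : ∀ S : Setup G, S.Bent → S.Loc → S.Con → S.Mod → (∃ n : ℕ, S.seg 0 n = ⊥) →
    S.Ell 2 ∨ S.Ell 3
  l2a : ∀ S : Setup G, S.Bent → S.Loc → S.Con → S.Mod → S.Ell 2 → S.L2
  l2b : ∀ S : Setup G, S.Bent → S.Loc → S.Con → S.L2 →
    Nonempty (S.P ≃* Equiv.Perm (Fin 4)) ∨
      Nonempty (S.P ≃* Equiv.Perm (Fin 4) × Multiplicative (ZMod 2))
  l3a : ∀ S : Setup G, S.Bent → S.Loc → S.Con → S.Mod → S.Ell 3 → ∃ y : ℤ → G, S.Y3 y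
  l3b : ∀ S : Setup G, S.Bent → S.Loc → S.Con → ∀ y : ℤ → G, S.Y3 y → False

/-- the same with the case `l = 2` in one piece (e.g. helper23's `l2_main` + `SimsL2Glue`) -/
structure PiecesL (G : Type*) [Group G] [Finite G] : Prop where
  odd : ∀ S : Setup G, IsPGroup 2 ↥(S.Tj 0)
  exists_bent : ∀ S : Setup G, IsPGroup 2 ↥(S.Tj 0) → S.Tj 0 ≠ ⊥ →
    ∃ S' : Setup G, S'.P = S.P ∧ S'.Bent
  loc : ∀ S : Setup G, S.Bent → S.Loc
  small2 : ∀ S : Setup G, S.Bent → S.Loc → Nat.card (S.Tj 0) = 2 →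
    Nonempty (S.P ≃* Equiv.Perm (Fin 3))
  small4 : ∀ S : Setup G, S.Bent → S.Loc → Nat.card (S.Tj 0) = 4 →
    Nonempty (S.P ≃* DihedralGroup 6)
  con : ∀ S : Setup G, S.Bent → S.Loc → 8 ≤ Nat.card (S.Tj 0) → S.Con
  mod : ∀ S : Setup G, S.Bent → S.Loc → S.Con → S.Mod
  einf : ∀ S : Setup G, S.Bent → S.Loc → ∃ n : ℕ, S.seg 0 n = ⊥
  ell : ∀ S : Setup G, S.Bent → S.Loc → S.Con → S.Mod → (∃ n : ℕ, S.seg 0 n = ⊥) →
    S.Ell 2 ∨ S.Ell 3
  l2 : ∀ S : Setup G, S.Bent → S.Loc → S.Con → S.Mod → S.Ell 2 →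
    Nonempty (S.P ≃* Equiv.Perm (Fin 4)) ∨
      Nonempty (S.P ≃* Equiv.Perm (Fin 4) × Multiplicative (ZMod 2))
  l3a : ∀ S : Setup G, S.Bent → S.Loc → S.Con → S.Mod → S.Ell 3 → ∃ y : ℤ → G, S.Y3 y
  l3b : ∀ S : Setup G, S.Bent → S.Loc → S.Con → ∀ y : ℤ → G, S.Y3 y → False

variable {G : Type*} [Group G] [Finite G]

theorem Pieces.toL (hp : Pieces G) : PiecesL G where
  odd := hp.odd
  exists_bent := hp.exists_bent
  loc := hp.loc
  small2 := hp.small2
  small4 := hp.small4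
  con := hp.con
  mod := hp.mod
  einf := hp.einf
  ell := hp.ell
  l2 := fun S hb hL hC hM h2 => hp.l2b S hb hL hC (hp.l2a S hb hL hC hM h2)
  l3a := hp.l3a
  l3b := hp.l3b

/-- the bent case: sections 3, 7, 8, 9 -/
theorem core_bent (hp : PiecesL G) (S : Setup G) (hb : S.Bent) : Goal5 S.P := by
  have hL := hp.loc S hb
  obtain ⟨n, hn⟩ := (IsPGroup.iff_card.mp hb.two)
  have hne1 : Nat.card (S.Tj 0) ≠ 1 := fun h => hb.ne_bot (Subgroup.card_eq_one.mp h)
  match n, hn with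
  | 0, hn => exact absurd (by simpa using hn) hne1
  | 1, hn => exact Or.inr (Or.inl (hp.small2 S hb hL (by simpa using hn)))
  | 2, hn => exact Or.inr (Or.inr (Or.inl (hp.small4 S hb hL (by rw [hn]; norm_num))))
  | (k + 3), hn =>
    have h8 : 8 ≤ Nat.card (S.Tj 0) := by
      rw [hn, pow_add]
      have : 1 ≤ 2 ^ k := Nat.one_le_two_pow
      omega
    have hC := hp.con S hb hL h8
    have hM := hp.mod S hb hL hC
    have hE := hp.einf S hb hL
    rcases hp.ell S hb hL hC hM hE with h2 | h3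
    · rcases hp.l2 S hb hL hC hM h2 with h | h
      · exact Or.inr (Or.inr (Or.inr (Or.inl h)))
      · exact Or.inr (Or.inr (Or.inr (Or.inr h)))
    · obtain ⟨y, hy⟩ := hp.l3a S hb hL hC hM h3
      exact (hp.l3b S hb hL hC y hy).elim

/-- CORE THEOREM (section 10 of the blueprint). -/
theorem core_of_piecesL (hp : PiecesL G) (S : Setup G) : Goal5 S.P := by
  have h2 := hp.odd S
  by_cases hT : S.Tj 0 = ⊥
  · -- `|P| = 3`
    left
    have hc : Nat.card S.P = 3 := by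
      have h1 := S.card_Pj_eq 0
      rw [S.card_Pj, hT] at h1
      simpa using h1
    have : Fact (Nat.Prime 3) := ⟨Nat.prime_three⟩
    exact ⟨mulEquivOfPrimeCardEq hc (by simp [Nat.card_eq_fintype_card])⟩
  · obtain ⟨S', hP', hb⟩ := hp.exists_bent S h2 hT
    have := core_bent hp S' hb
    rw [hP'] at this
    exact this

/-- CORE THEOREM from the 13 pieces of sigs2. -/
theorem core_of_pieces (hp : Pieces G) (S : Setup G) : Goal5 S.P := core_of_piecesL hp.toL S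

/-- S3685 from the pieces. -/
theorem s3685_of_piecesL {Ω : Type*} [MulAction G Ω] [FaithfulSMul G Ω] (hp : PiecesL G)
    (hprim : MulAction.IsPreprimitive G Ω) (a b : Ω)
    (h3 : Nat.card (MulAction.orbit (MulAction.stabilizer G a) b) = 3) :
    Nonempty (MulAction.stabilizer G a ≃* Multiplicative (ZMod 3)) ∨
      Nonempty (MulAction.stabilizer G a ≃* Equiv.Perm (Fin 3)) ∨
      Nonempty (MulAction.stabilizer G a ≃* DihedralGroup 6) ∨
      Nonempty (MulAction.stabilizer G a ≃* Equiv.Perm (Fin 4)) ∨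
      Nonempty (MulAction.stabilizer G a ≃* Equiv.Perm (Fin 4) × Multiplicative (ZMod 2)) := by
  obtain ⟨h, hA1, hA2⟩ := red hprim a b h3
  exact core_of_piecesL hp ⟨MulAction.stabilizer G a, h, hA1, hA2⟩

/-- S3385 from the pieces. -/
theorem s3385_of_piecesL {Ω : Type*} [MulAction G Ω] [FaithfulSMul G Ω] (hp : PiecesL G)
    (hprim : MulAction.IsPreprimitive G Ω) (a b : Ω)
    (h3 : Nat.card (MulAction.orbit (MulAction.stabilizer G a) b) = 3) :
    ∃ k : ℕ, k ≤ 4 ∧ Nat.card ↥(MulAction.stabilizer G a) = 2 ^ k * 3 :=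
  Cfsg.Agent.Lib.H13.SimsCard.card_of_cases (s3685_of_piecesL hp hprim a b h3)

/-- S3685 from the 13 pieces of sigs2. -/
theorem s3685_of_pieces {Ω : Type*} [MulAction G Ω] [FaithfulSMul G Ω] (hp : Pieces G)
    (hprim : MulAction.IsPreprimitive G Ω) (a b : Ω)
    (h3 : Nat.card (MulAction.orbit (MulAction.stabilizer G a) b) = 3) :
    Nonempty (MulAction.stabilizer G a ≃* Multiplicative (ZMod 3)) ∨
      Nonempty (MulAction.stabilizer G a ≃* Equiv.Perm (Fin 3)) ∨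
      Nonempty (MulAction.stabilizer G a ≃* DihedralGroup 6) ∨
      Nonempty (MulAction.stabilizer G a ≃* Equiv.Perm (Fin 4)) ∨
      Nonempty (MulAction.stabilizer G a ≃* Equiv.Perm (Fin 4) × Multiplicative (ZMod 2)) :=
  s3685_of_piecesL hp.toL hprim a b h3

/-- S3385 from the 13 pieces of sigs2. -/
theorem s3385_of_pieces {Ω : Type*} [MulAction G Ω] [FaithfulSMul G Ω] (hp : Pieces G)
    (hprim : MulAction.IsPreprimitive G Ω) (a b : Ω)
    (h3 : Nat.card (MulAction.orbit (MulAction.stabilizer G a) b) = 3) :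
    ∃ k : ℕ, k ≤ 4 ∧ Nat.card ↥(MulAction.stabilizer G a) = 2 ^ k * 3 :=
  s3385_of_piecesL hp.toL hprim a b h3

end Cfsg.Agent.Lib.H13.Sims
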