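import Cfsg.Agent.Lib.H21.SimsMOD6
import Cfsg.Agent.Lib.H24.SimsMODX
import Cfsg.Agent.Lib.H24.SimsMODW
import Cfsg.Agent.Lib.H24.SimsMODW2

set_option autoImplicit false
open scoped Pointwise
open Cfsg.Agent.Lib.H5.Sims

namespace Cfsg.Agent.Lib.H13.Sims

variable {G : Type*} [Group G] [Finite G]

/-- `S.Mod` from the landed parts (helper21 `mod_six`, helper24 `mod_cards`, `mod_W_eq`, `mod_W_norm`,
`mod_comm_le_W`) and the five remaining fields. -/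
theorem mod_of_parts (S : Setup G) (hb : S.Bent) (hL : S.Loc) (hC : S.Con)
    (cV_three : ∀ j : ℤ, ∀ t ∈ S.Pj j, orderOf t = 3 → ∀ v ∈ S.Vj j, t * v = v * t → v ∈ S.Yj j)
    (W_sup : ∀ j : ℤ, ∀ t ∈ S.Pj j, orderOf t = 3 → S.Yj j ⊔ ⁅S.Vj j, Subgroup.zpowers t⁆ = S.Vj j)
    (W_disj : ∀ j : ℤ, ∀ t ∈ S.Pj j, orderOf t = 3 → S.Yj j ⊓ ⁅S.Vj j, Subgroup.zpowers t⁆ = ⊥)
    (card_V : ∀ j : ℤ, Nat.card (S.Vj j) = Nat.card (S.Yj 0) * Nat.card ↥⁅S.Vj 0, S.Tj 0⁆ ^ 2)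
    (W_card : ∀ j : ℤ, ∀ t ∈ S.Pj j, orderOf t = 3 →
      Nat.card ↥⁅S.Vj j, Subgroup.zpowers t⁆ = Nat.card ↥⁅S.Vj 0, S.Tj 0⁆ ^ 2) : S.Mod := by
  obtain ⟨h1, h2, h3, h5, h6, h7⟩ := Cfsg.Agent.Lib.H21.Sims.M6.mod_six S hb hL hC
  obtain ⟨hc1, hc2, -⟩ := Cfsg.Agent.Lib.H24.Sims.mod_cards S hb hL hC h2 h3
  exact
    { comm_le := h1
      Z_eq := h2
      Y_disj := h3
      card_comm := hc1
      Z_inf := h5
      Z_sup := h6
      comm_eq := h7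
      card_Y_le := hc2
      card_V := card_V
      cV_three := cV_three
      W_card := W_card
      W_sup := W_sup
      W_disj := W_disj
      W_eq := Cfsg.Agent.Lib.H24.Sims.Con.mod_W_eq S hb hL hC
      W_norm := Cfsg.Agent.Lib.H24.Sims.Con.mod_W_norm S hb hL hC
      comm_le_W := Cfsg.Agent.Lib.H24.Sims.Con.mod_comm_le_W S hb hL hC }

end Cfsg.Agent.Lib.H13.Sims
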