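import Cfsg.Agent.Lib.H13.SimsMain
import Cfsg.Agent.Lib.H13.SimsL2Glue
import Cfsg.Agent.Lib.H19.SimsAd
import Cfsg.Agent.Lib.H10.SimsLOC2
import Cfsg.Agent.Lib.H26.SimsSM
import Cfsg.Agent.Lib.H24.SimsCON
import Cfsg.Agent.Lib.H4.Sub3.EinfSig
import Cfsg.Agent.Lib.H15.SimsELL
import Cfsg.Agent.Lib.H5.Sims.L3A
import Cfsg.Agent.Lib.H2.SimsL2B
import Cfsg.Agent.Lib.H2.SimsL3Bx
import Cfsg.Agent.Lib.H25.SimsMODG
import Cfsg.Agent.Lib.H4.Sub3.L2A

/-!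
# S3685 / S3385: all pieces together (helper13, MAIN)

`pieces G : PiecesL G` from the landed exact-sig pieces of `tools/blueprints/S3685_sigs2.lean`:
ODD, BENT (helper19), LOC (helper10), SM2/SM4 (helper26), CON (helper24), MOD (helper25, with parts of helper24),
EINF (helper4), ELL (helper15), L2A (helper4) + L2B (helper2), L3A (helper5), L3B (helper2 on helper8's `Chain3.false`).
-/

set_option autoImplicit false
open Cfsg.Agent.Lib.H5.Sims

namespace Cfsg.Agent.Lib.H13.Sims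

theorem pieces (G : Type*) [Group G] [Finite G] : PiecesL G where
  odd := Cfsg.Agent.Lib.H19.SimsAd.odd
  exists_bent := Cfsg.Agent.Lib.H19.SimsAd.exists_bent
  loc := Cfsg.Agent.Lib.H10.Sims.loc
  small2 := Cfsg.Agent.Lib.H26.Sims.small2
  small4 := Cfsg.Agent.Lib.H26.Sims.small4
  con := Cfsg.Agent.Lib.H24.Sims.con
  mod := Cfsg.Agent.Lib.H25.Sims.mod
  einf := Cfsg.Agent.Lib.H4.Sims.einf
  ell := Cfsg.Agent.Lib.H15.Sims.ell
  l2 := fun S hb hL hC hM hl =>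
    Cfsg.Agent.Lib.H2.Sims.l2b S hb hL hC (Cfsg.Agent.Lib.H4.Sims.l2a S hb hL hC hM hl)
  l3a := Cfsg.Agent.Lib.H5.Sims.Setup.l3a
  l3b := Cfsg.Agent.Lib.H2.Sims.l3b

end Cfsg.Agent.Lib.H13.Sims
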