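import Mathlib

/-!
# S3685 / S3385, piece (R1) (helper13): a group of order 6 with a non-normal subgroup of order 2
is `Equiv.Perm (Fin 3)` (action on the three cosets).
-/

set_option autoImplicit false
open scoped Pointwise

namespace Cfsg.Agent.Lib.H13.Sims

/-- (R1) order 6, a non-normal subgroup of order 2 -/
theorem s3_of_card_six {K : Type*} [Group K] [Finite K] (hK : Nat.card K = 6) (T : Subgroup K)
    (hT : Nat.card T = 2) (hn : ¬ T.Normal) : Nonempty (K ≃* Equiv.Perm (Fin 3)) := by
  classical
  let f : K →* Equiv.Perm (K ⧸ T) := MulAction.toPermHom K (K ⧸ T)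
  have hker : f.ker = T.normalCore := (Subgroup.normalCore_eq_ker T).symm
  have hcore : T.normalCore = ⊥ := by
    have hle : T.normalCore ≤ T := Subgroup.normalCore_le T
    have hdvd : Nat.card T.normalCore ∣ 2 := hT ▸ Subgroup.card_dvd_of_le hle
    have h12 : Nat.card T.normalCore = 1 ∨ Nat.card T.normalCore = 2 :=
      (Nat.dvd_prime Nat.prime_two).mp hdvd
    rcases h12 with h1 | h2
    · exact Subgroup.card_eq_one.mp h1
    · exfalso
      apply hn
      have : T.normalCore = T := Subgroup.eq_of_le_of_card_ge hle (by rw [h2, hT])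
      rw [← this]
      infer_instance
  have hinj : Function.Injective f := (MonoidHom.ker_eq_bot_iff f).mp (by rw [hker, hcore])
  have hidx : Nat.card (K ⧸ T) = 3 := by
    have h := Subgroup.card_mul_index T
    rw [hT, hK] at h
    unfold Subgroup.index at h
    omega
  have e3 : (K ⧸ T) ≃ Fin 3 := Finite.equivFinOfCardEq hidx
  have hcardperm : Nat.card (Equiv.Perm (K ⧸ T)) = 6 := by
    rw [Nat.card_congr (Equiv.permCongr e3)]
    simp [Nat.card_eq_fintype_card, Fintype.card_perm]
    decide
  have hbij : Function.Bijective f :=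
    (Nat.bijective_iff_injective_and_card f).mpr ⟨hinj, by rw [hK, hcardperm]⟩
  exact ⟨(MulEquiv.ofBijective f hbij).trans (Equiv.permCongrHom e3)⟩

end Cfsg.Agent.Lib.H13.Sims
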