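import Mathlib

/-!
# S3685 / S3385, piece (R4) = Lemma 1a (helper13, twin): an element of odd order of a subgroup `T`
of index 3 stays in `T` under every conjugation.
-/

set_option autoImplicit false
open scoped Pointwise

namespace Cfsg.Agent.Lib.H13.Sims

/-- (R4) Lemma 1a -/
theorem odd_conj_mem {K : Type*} [Group K] [Finite K] (T : Subgroup K) (hT : T.index = 3) (s : K)
    (hs : s ∈ T) (hodd : Odd (orderOf s)) (g : K) : g * s * g⁻¹ ∈ T := by
  classical
  have e3 : (K ⧸ T) ≃ Fin 3 := Finite.equivFinOfCardEq (by rw [← hT]; rfl)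
  set x := g * s * g⁻¹ with hx
  let f : K →* Equiv.Perm (K ⧸ T) := MulAction.toPermHom K (K ⧸ T)
  have hfix : f x (g : K ⧸ T) = (g : K ⧸ T) := by
    show x • (g : K ⧸ T) = _
    rw [MulAction.Quotient.smul_coe, QuotientGroup.eq]
    have : (x • g)⁻¹ * g = s⁻¹ := by simp [hx, smul_eq_mul]
    rw [this]
    exact T.inv_mem hs
  have key : ∀ τ : Equiv.Perm (Fin 3), ∀ i, τ i = i → τ ^ 2 = 1 := by decide
  have hσ2 : (f x) ^ 2 = 1 := by
    have h1 := key (Equiv.permCongrHom e3 (f x)) (e3 g)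
      (by simp only [Equiv.permCongrHom_coe, Equiv.permCongr_apply, Equiv.symm_apply_apply, hfix])
    rw [← map_pow] at h1
    exact (EmbeddingLike.map_eq_one_iff).mp h1
  have hd2 : orderOf (f x) ∣ 2 := orderOf_dvd_of_pow_eq_one hσ2
  have hxs : orderOf x = orderOf s := by
    have := MulEquiv.orderOf_eq (MulAut.conj g) s
    rwa [MulAut.conj_apply] at this
  have hds : orderOf (f x) ∣ orderOf s := hxs ▸ orderOf_map_dvd f x
  have h1 : orderOf (f x) = 1 := by
    have hcop : Nat.Coprime (orderOf s) 2 := Nat.Coprime.symm (Nat.coprime_two_left.mpr hodd)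
    exact Nat.eq_one_of_dvd_coprimes hcop hds hd2
  have hfx : f x = 1 := orderOf_eq_one_iff.mp h1
  have h2 : x • ((1 : K) : K ⧸ T) = ((1 : K) : K ⧸ T) := by
    have h4 : f x ((1 : K) : K ⧸ T) = ((1 : K) : K ⧸ T) := by rw [hfx]; rfl
    exact h4
  rw [MulAction.Quotient.smul_coe, QuotientGroup.eq] at h2
  have h3 : (x • (1 : K))⁻¹ * 1 = x⁻¹ := by simp [smul_eq_mul]
  rw [h3] at h2
  exact inv_mem_iff.mp h2

end Cfsg.Agent.Lib.H13.Sims
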