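import Mathlib
import Cfsg.Agent.Lib.H13.SimsR1

/-!
# S3685 / S3385, section 3 (SMALL) in hypothesis form (helper13)

* `exp_two_of_two_le`: a group of order 4 with two distinct subgroups of order 2 has exponent 2.
* `small_two`: `|P| = 3 |T|`, `|T| = 2`, `T` not normal in `P` ⟹ `P ≃* Perm (Fin 3)`.
* `small_four_hyps`: the hypotheses of (R2) `d12_of_card_twelve` for `K = ↥P`.
-/

set_option autoImplicit false
open scoped Pointwise

namespace Cfsg.Agent.Lib.H13.Sims

/-- A group of order 4 containing two distinct subgroups of order 2 has exponent 2. -/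
theorem exp_two_of_two_le {G : Type*} [Group G] (T A B : Subgroup G) (hT : Nat.card T = 4)
    (hA : A ≤ T) (hB : B ≤ T) (hcA : Nat.card A = 2) (hcB : Nat.card B = 2) (hne : A ≠ B) :
    ∀ x ∈ T, x ^ 2 = 1 := by
  have : Finite T := Nat.finite_of_card_ne_zero (by rw [hT]; norm_num)
  intro x hx
  by_contra hx2
  -- `orderOf x` divides 4 and is not 1 or 2, so it is 4 and `T = zpowers x`
  have hdvd : orderOf x ∣ 4 := by
    have h1 : orderOf (⟨x, hx⟩ : T) ∣ Nat.card T := orderOf_dvd_natCard _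
    rw [hT] at h1
    have h2 : orderOf (⟨x, hx⟩ : T) = orderOf x := Subgroup.orderOf_mk x hx
    rwa [h2] at h1
  have ho : orderOf x = 4 := by
    have hle : orderOf x ≤ 4 := Nat.le_of_dvd (by norm_num) hdvd
    have hpos : 0 < orderOf x := Nat.pos_of_dvd_of_pos hdvd (by norm_num)
    have h12 : ¬ orderOf x ∣ 2 := fun h => hx2 (orderOf_dvd_iff_pow_eq_one.mp h)
    interval_cases h : orderOf x
    · exact absurd (one_dvd 2) h12
    · exact absurd (dvd_refl 2) h12
    · norm_num at hdvd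
    · rfl
  -- every subgroup of order 2 of `T` is `zpowers (x ^ 2)`
  have key : ∀ C : Subgroup G, C ≤ T → Nat.card C = 2 → C = Subgroup.zpowers (x ^ 2) := by
    intro C hC hcC
    have hTz : T = Subgroup.zpowers x := by
      symm
      apply Subgroup.eq_of_le_of_card_ge (Subgroup.zpowers_le.mpr hx)
      rw [Nat.card_zpowers, ho, hT]
    have : Finite C := Nat.finite_of_card_ne_zero (by rw [hcC]; norm_num)
    -- pick the non-identity element of `C`
    have hCne : C ≠ ⊥ := by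
      intro h
      rw [h] at hcC
      simp at hcC
    obtain ⟨⟨c, hc⟩, hc1'⟩ := (Subgroup.ne_bot_iff_exists_ne_one).mp hCne
    have hc1 : c ≠ 1 := fun h => hc1' (Subtype.ext h)
    have hcT : c ∈ Subgroup.zpowers x := hTz ▸ hC hc
    obtain ⟨k, rfl⟩ := Subgroup.mem_zpowers_iff.mp hcT
    -- `(x^k)^2 = 1`
    have hc2 : (x ^ k) ^ 2 = 1 := by
      have h1 : orderOf (⟨x ^ k, hc⟩ : C) ∣ Nat.card C := orderOf_dvd_natCard _
      rw [hcC, Subgroup.orderOf_mk] at h1
      exact orderOf_dvd_iff_pow_eq_one.mp h1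
    have h4 : (4 : ℤ) ∣ k * 2 := by
      have : x ^ (k * 2) = 1 := by rw [zpow_mul]; exact_mod_cast hc2
      have := (orderOf_dvd_iff_zpow_eq_one).mpr this
      rwa [ho] at this
    have h2k : (2 : ℤ) ∣ k := by omega
    obtain ⟨j, rfl⟩ := h2k
    have hxk : x ^ (2 * j) = (x ^ 2) ^ j := by rw [zpow_mul]; norm_cast
    have hmem : x ^ (2 * j) ∈ Subgroup.zpowers (x ^ 2) := by
      rw [hxk]; exact Subgroup.zpow_mem_zpowers _ _
    have hle : Subgroup.zpowers (x ^ (2 * j)) ≤ Subgroup.zpowers (x ^ 2) :=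
      Subgroup.zpowers_le.mpr hmem
    have hcz : Nat.card (Subgroup.zpowers (x ^ 2)) = 2 := by
      rw [Nat.card_zpowers, orderOf_pow' x (by norm_num : (2 : ℕ) ≠ 0), ho]
      decide
    have hfin : IsOfFinOrder x := orderOf_pos_iff.mp (by rw [ho]; norm_num)
    have : Finite (Subgroup.zpowers (x ^ 2)) :=
      Nat.finite_of_card_ne_zero (by rw [hcz]; norm_num)
    have hC' : C = Subgroup.zpowers (x ^ (2 * j)) := by
      symm
      apply Subgroup.eq_of_le_of_card_ge (Subgroup.zpowers_le.mpr hc)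
      rw [hcC, Nat.card_zpowers]
      have : orderOf (x ^ (2 * j)) ≠ 1 := fun h => hc1 (orderOf_eq_one_iff.mp h)
      have hpos : 0 < orderOf (x ^ (2 * j)) := orderOf_pos_iff.mpr hfin.zpow
      omega
    rw [hC']
    apply Subgroup.eq_of_le_of_card_ge hle
    rw [hcz, ← hC', hcC]
  exact hne ((key A hA hcA).trans (key B hB hcB).symm)

/-- `|T.subgroupOf P| = |T|` for `T ≤ P`. -/
theorem card_subgroupOf_of_le {G : Type*} [Group G] {T P : Subgroup G} (hTP : T ≤ P) :
    Nat.card (T.subgroupOf P) = Nat.card T :=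
  Nat.card_congr (Subgroup.subgroupOfEquivOfLe hTP).toEquiv

/-- Section 3, `|T| = 2`: `P ≃* Perm (Fin 3)`. -/
theorem small_two {G : Type*} [Group G] [Finite G] (P T : Subgroup G) (hTP : T ≤ P)
    (hc : Nat.card P = 3 * Nat.card T) (h2 : Nat.card T = 2)
    (hnn : ¬ (T.subgroupOf P).Normal) : Nonempty (P ≃* Equiv.Perm (Fin 3)) :=
  s3_of_card_six (K := P) (by rw [hc, h2]) (T.subgroupOf P)
    (by rw [card_subgroupOf_of_le hTP, h2]) hnn

/-- Section 3, `|T| = 4`: `P ≃* DihedralGroup 6`, given (R2) `d12_of_card_twelve` for `K = ↥P`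
(pass `fun T' => d12_of_card_twelve hK T'`). `Q0 ≠ Q1` are the two cores of order 2 in `T`. -/
theorem small_four {G : Type*} [Group G] [Finite G] (P T Q0 Q1 : Subgroup G) (hTP : T ≤ P)
    (hc : Nat.card P = 3 * Nat.card T) (h4 : Nat.card T = 4)
    (hQ0 : Q0 ≤ T) (hQ1 : Q1 ≤ T) (hc0 : Nat.card Q0 = 2) (hc1 : Nat.card Q1 = 2) (hne : Q0 ≠ Q1)
    (hnn : ¬ (T.subgroupOf P).Normal)
    (hR2 : Nat.card P = 12 → ∀ T' : Subgroup P, Nat.card T' = 4 → (∀ x ∈ T', x ^ 2 = 1) →
      ¬ T'.Normal → Nonempty (P ≃* DihedralGroup 6)) :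
    Nonempty (P ≃* DihedralGroup 6) := by
  refine hR2 (by rw [hc, h4]) (T.subgroupOf P) (by rw [card_subgroupOf_of_le hTP, h4]) ?_ hnn
  intro x hx
  have h := exp_two_of_two_le T Q0 Q1 h4 hQ0 hQ1 hc0 hc1 hne (x : G) (Subgroup.mem_subgroupOf.mp hx)
  exact Subtype.ext (by simpa using h)

end Cfsg.Agent.Lib.H13.Sims
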