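import Cfsg.Agent.Lib.H2.SpPerfect
import Cfsg.Agent.Lib.H13.SympBasis

set_option autoImplicit false

namespace Cfsg.Agent.Lib.H13.SpAbs

open Module Matrix

variable {F : Type*} [Field F] {U : Type*} [AddCommGroup U] [Module F U]

/-- the transvection `x ↦ x + κ B(x,t) t` -/
def tvMap (B : LinearMap.BilinForm F U) (t : U) (κ : F) : U →ₗ[F] U :=
  LinearMap.id + κ • (B.flip t).smulRight t

theorem tvMap_apply (B : LinearMap.BilinForm F U) (t : U) (κ : F) (x : U) :
    tvMap B t κ x = x + (κ * B x t) • t := by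
  simp [tvMap, mul_smul]

theorem tvMap_comp (B : LinearMap.BilinForm F U) (halt : ∀ v, B v v = 0) (t : U) (κ κ' : F) :
    (tvMap B t κ).comp (tvMap B t κ') = tvMap B t (κ + κ') := by
  ext x
  simp only [LinearMap.comp_apply, tvMap_apply, map_add, map_smul, LinearMap.add_apply,
    LinearMap.smul_apply, halt, smul_eq_mul, mul_zero, add_zero, zero_smul]
  rw [add_assoc, ← add_smul]
  congr 2
  ring

theorem tvMap_zero (B : LinearMap.BilinForm F U) (t : U) : tvMap B t 0 = LinearMap.id := by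
  ext x
  simp [tvMap_apply]

/-- the transvection as a linear equivalence -/
def tvEquiv (B : LinearMap.BilinForm F U) (halt : ∀ v, B v v = 0) (t : U) (κ : F) : U ≃ₗ[F] U :=
  LinearEquiv.ofLinearMap (tvMap B t κ) (tvMap B t (-κ))
    (by rw [tvMap_comp B halt, add_neg_cancel, tvMap_zero])
    (by rw [tvMap_comp B halt, neg_add_cancel, tvMap_zero])

theorem tvEquiv_apply (B : LinearMap.BilinForm F U) (halt : ∀ v, B v v = 0) (t : U) (κ : F) (x : U) :
    tvEquiv B halt t κ x = x + (κ * B x t) • t := tvMap_apply B t κ x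

/-- **abstract generation of the symplectic group by transvections** -/
theorem mem_closure_tv [FiniteDimensional F U] (B : LinearMap.BilinForm F U)
    (halt : ∀ v, B v v = 0) (hnd : ∀ v, (∀ w, B v w = 0) → v = 0)
    (g : U ≃ₗ[F] U) (hg : ∀ x y, B (g x) (g y) = B x y) :
    g ∈ Subgroup.closure {h : U ≃ₗ[F] U | ∃ t κ, h = tvEquiv B halt t κ} := by
  classical
  obtain ⟨ι, hι, hdec, b₁, hb₁⟩ := Cfsg.Agent.Lib.H13.symp_aux (finrank F U) B halt hnd rfl
  set m := Fintype.card ι with hm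
  let e : ι ≃ Fin m := Fintype.equivFin ι
  set b₀ := b₁.reindex (e.sumCongr e) with hb₀def
  have hb₀ : Cfsg.Agent.Lib.H13.IsSymp B b₀ := Cfsg.Agent.Lib.H13.IsSymp.reindex B b₁ hb₁ e
  set b := b₀.reindex (Equiv.sumComm (Fin m) (Fin m)) with hb
  have hB : ∀ v w, B v w = Cfsg.sympForm m F (b.equivFun v) (b.equivFun w) :=
    Cfsg.Agent.Lib.H13.sympForm_of_isSymp B halt b₀ hb₀
  -- the matrix of a linear equivalence
  have hmat : ∀ (h : U ≃ₗ[F] U) (u : U),
      (LinearMap.toMatrix b b (h : U →ₗ[F] U)).mulVec (b.equivFun u) = b.equivFun (h u) := by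
    intro h u
    exact LinearMap.toMatrix_mulVec_repr b b (h : U →ₗ[F] U) u
  have hmem : LinearMap.toMatrix b b (g : U →ₗ[F] U) ∈ Matrix.symplecticGroup (Fin m) F := by
    rw [Cfsg.Agent.Lib.H13.mem_symplecticGroup_iff_sympForm']
    intro x y
    obtain ⟨v, rfl⟩ := b.equivFun.surjective x
    obtain ⟨w, rfl⟩ := b.equivFun.surjective y
    rw [hmat, hmat, ← hB, ← hB, hg]
  -- every element of `TS` lifts
  have key : ∀ M : Matrix.symplecticGroup (Fin m) F, M ∈ Cfsg.Agent.Lib.H2.Sp.TS F m →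
      ∃ h ∈ Subgroup.closure {h : U ≃ₗ[F] U | ∃ t κ, h = tvEquiv B halt t κ},
        LinearMap.toMatrix b b (h : U →ₗ[F] U) = (M : Matrix (Fin m ⊕ Fin m) (Fin m ⊕ Fin m) F) := by
    intro M hM
    induction hM using Subgroup.closure_induction with
    | mem M hM =>
      obtain ⟨v, c, rfl⟩ := hM
      refine ⟨tvEquiv B halt (b.equivFun.symm v) c, Subgroup.subset_closure ⟨_, _, rfl⟩, ?_⟩
      apply Matrix.ext_iff_mulVec.mpr
      intro x
      obtain ⟨u, rfl⟩ := b.equivFun.surjective x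
      rw [hmat, Cfsg.Agent.Lib.H2.Sp.tv_mulVec, tvEquiv_apply, map_add, map_smul, hB,
        LinearEquiv.apply_symm_apply]
    | one =>
      refine ⟨1, Subgroup.one_mem _, ?_⟩
      show LinearMap.toMatrix b b LinearMap.id = 1
      exact LinearMap.toMatrix_id b
    | mul M N _ _ ihM ihN =>
      obtain ⟨h₁, hh₁, e₁⟩ := ihM
      obtain ⟨h₂, hh₂, e₂⟩ := ihN
      refine ⟨h₁ * h₂, mul_mem hh₁ hh₂, ?_⟩
      show LinearMap.toMatrix b b ((h₁ : U →ₗ[F] U).comp (h₂ : U →ₗ[F] U)) = _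
      rw [LinearMap.toMatrix_comp b b b, e₁, e₂]
      rfl
    | inv M _ ihM =>
      obtain ⟨h₁, hh₁, e₁⟩ := ihM
      refine ⟨h₁⁻¹, inv_mem hh₁, ?_⟩
      have h3 : LinearMap.toMatrix b b ((h₁⁻¹ : U ≃ₗ[F] U) : U →ₗ[F] U) *
          (M : Matrix (Fin m ⊕ Fin m) (Fin m ⊕ Fin m) F) = 1 := by
        rw [← e₁, ← LinearMap.toMatrix_comp b b b]
        have : ((h₁⁻¹ : U ≃ₗ[F] U) : U →ₗ[F] U).comp (h₁ : U →ₗ[F] U) = LinearMap.id := by
          ext x
          show h₁⁻¹ (h₁ x) = x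
          exact h₁.symm_apply_apply x
        rw [this, LinearMap.toMatrix_id]
      have h4 : ((M⁻¹ : Matrix.symplecticGroup (Fin m) F) : Matrix (Fin m ⊕ Fin m) (Fin m ⊕ Fin m) F) *
          (M : Matrix (Fin m ⊕ Fin m) (Fin m ⊕ Fin m) F) = 1 := by
        rw [← Submonoid.coe_mul, inv_mul_cancel]
        rfl
      have hMdet : IsUnit (M : Matrix (Fin m ⊕ Fin m) (Fin m ⊕ Fin m) F).det := by
        have := congrArg Matrix.det h4
        rw [Matrix.det_mul, Matrix.det_one] at this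
        exact IsUnit.of_mul_eq_one _ (by rw [mul_comm]; exact this)
      have hMu : IsUnit (M : Matrix (Fin m ⊕ Fin m) (Fin m ⊕ Fin m) F) :=
        (Matrix.isUnit_iff_isUnit_det _).mpr hMdet
      exact hMu.mul_left_injective (by show _ * _ = _ * _; rw [h3, h4])
  have hTS : (⟨_, hmem⟩ : Matrix.symplecticGroup (Fin m) F) ∈ Cfsg.Agent.Lib.H2.Sp.TS F m := by
    rw [Cfsg.Agent.Lib.H2.Sp.TS_eq_top]
    exact Subgroup.mem_top _
  obtain ⟨h, hh, e₁⟩ := key _ hTS
  have : h = g := by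
    apply LinearEquiv.toLinearMap_injective
    exact (LinearMap.toMatrix b b).injective e₁
  rw [← this]
  exact hh

end Cfsg.Agent.Lib.H13.SpAbs
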