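import Cfsg.Agent.Lib.H13.SpPairs
import Cfsg.Agent.Lib.H13.FrameCount

set_option autoImplicit false

namespace Cfsg.Agent.Lib.H13.SpDerange

open Module Matrix
open Cfsg.Agent.Lib.H13.SpInvolCount Cfsg.Agent.Lib.H13.SpPairs

section hom
variable {F : Type*} [Field F]

/-- a representation preserving a non-degenerate alternating form, in symplectic coordinates -/
theorem exists_hom_symplectic {G : Type*} [Group G] {V : Type*} [AddCommGroup V]
    [Module F V] [FiniteDimensional F V] {m : ℕ} (hV : finrank F V = 2 * m)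
    (B : LinearMap.BilinForm F V) (halt : ∀ v, B v v = 0) (hnd : ∀ v, (∀ w, B v w = 0) → v = 0)
    (ρ : G →* Module.End F V) (hpres : ∀ g v w, B (ρ g v) (ρ g w) = B v w) :
    ∃ (Θ : V ≃ₗ[F] (Fin m ⊕ Fin m → F)) (φ : G →* ↥(Matrix.symplecticGroup (Fin m) F)),
      (∀ v w, B v w = Cfsg.sympForm m F (Θ v) (Θ w)) ∧
      ∀ g v, (φ g).1.mulVec (Θ v) = Θ (ρ g v) := by
  classical
  obtain ⟨b₀, hb₀⟩ := exists_symp_basis B halt hnd hV
  set b := b₀.reindex (Equiv.sumComm (Fin m) (Fin m)) with hb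
  have hB : ∀ v w, B v w = Cfsg.sympForm m F (b.equivFun v) (b.equivFun w) :=
    sympForm_of_isSymp B halt b₀ hb₀
  let M : G →* Matrix (Fin m ⊕ Fin m) (Fin m ⊕ Fin m) F :=
    ((LinearMap.toMatrixAlgEquiv b).toAlgHom : Module.End F V →* _).comp ρ
  have hM : ∀ g, M g = LinearMap.toMatrix b b (ρ g) := fun g => rfl
  have h1 : ∀ g u, (M g).mulVec (b.equivFun u) = b.equivFun (ρ g u) := by
    intro g u
    rw [hM]
    exact LinearMap.toMatrix_mulVec_repr b b (ρ g) u
  have hmem : ∀ g, M g ∈ Matrix.symplecticGroup (Fin m) F := by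
    intro g
    rw [mem_symplecticGroup_iff_sympForm']
    intro x y
    obtain ⟨v, rfl⟩ := b.equivFun.surjective x
    obtain ⟨w, rfl⟩ := b.equivFun.surjective y
    rw [h1, h1, ← hB, ← hB, hpres]
  exact ⟨b.equivFun, M.codRestrict (Matrix.symplecticGroup (Fin m) F) hmem, hB, h1⟩

end hom

section arith

theorem dvd_add_one_iff (q r i : ℕ) : r ∣ q ^ i + 1 ↔ ((q : ZMod r)) ^ i = -1 := by
  rw [← ZMod.natCast_eq_zero_iff, Nat.cast_add, Nat.cast_pow, Nat.cast_one,
    add_eq_zero_iff_eq_neg]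

theorem dvd_sub_one_iff (q r k : ℕ) (hq : 1 ≤ q) : r ∣ q ^ k - 1 ↔ ((q : ZMod r)) ^ k = 1 := by
  rw [← ZMod.natCast_eq_zero_iff, Nat.cast_sub (Nat.one_le_pow _ _ hq), Nat.cast_pow, Nat.cast_one,
    sub_eq_zero]

/-- from a divisor of some `q^j + 1` to a primitive one -/
theorem exists_min (q r d : ℕ) (hq : 1 ≤ q) (hr : r.Prime) (hr2 : r ≠ 2)
    (h : ∃ j, 1 ≤ j ∧ j ≤ d ∧ r ∣ q ^ j + 1) :
    ∃ j, 1 ≤ j ∧ j ≤ d ∧ r ∣ q ^ j + 1 ∧ ∀ k, 0 < k → k < 2 * j → ¬ r ∣ q ^ k - 1 := by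
  classical
  haveI : Fact r.Prime := ⟨hr⟩
  have h' : ∃ j, 1 ≤ j ∧ r ∣ q ^ j + 1 := by
    obtain ⟨j, h1, _, h3⟩ := h
    exact ⟨j, h1, h3⟩
  obtain ⟨j0, hj01, hj0d, hj0⟩ := h
  set j := Nat.find h' with hj
  have hj1 : 1 ≤ j := (Nat.find_spec h').1
  have hjr : r ∣ q ^ j + 1 := (Nat.find_spec h').2
  have hjd : j ≤ d := le_trans (Nat.find_min' h' ⟨hj01, hj0⟩) hj0d
  have hjmin : ∀ i, 1 ≤ i → i < j → ¬ r ∣ q ^ i + 1 := fun i hi hij hdvd =>
    Nat.find_min h' hij ⟨hi, hdvd⟩
  set a : ZMod r := (q : ZMod r) with ha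
  have haj : a ^ j = -1 := (dvd_add_one_iff q r j).mp hjr
  have hne : (1 : ZMod r) ≠ -1 := by
    intro h1
    have h2 : (2 : ZMod r) = 0 := by
      have : (1 : ZMod r) + 1 = 0 := by nth_rewrite 1 [h1]; ring
      rw [← this]; norm_num
    have h3 : ((2 : ℕ) : ZMod r) = 0 := by exact_mod_cast h2
    rw [ZMod.natCast_eq_zero_iff] at h3
    exact hr2 ((Nat.prime_dvd_prime_iff_eq hr Nat.prime_two).mp h3)
  have case1 : ∀ k, 0 < k → k < j → a ^ k ≠ 1 := by
    intro k hk0 hkj hk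
    have h1 : a ^ (j - k) = -1 := by
      have : a ^ (j - k) * a ^ k = a ^ j := by rw [← pow_add]; congr 1; omega
      rw [hk, mul_one] at this
      rw [this, haj]
    exact hjmin (j - k) (by omega) (by omega) ((dvd_add_one_iff q r _).mpr h1)
  refine ⟨j, hj1, hjd, hjr, ?_⟩
  intro k hk0 hk2 hdvd
  rw [dvd_sub_one_iff q r k hq] at hdvd
  rcases lt_trichotomy k j with hlt | heq | hgt
  · exact case1 k hk0 hlt hdvd
  · rw [heq, haj] at hdvd
    exact hne hdvd.symm
  · have h1 : a ^ (2 * j - k) = 1 := by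
      have : a ^ (2 * j - k) * a ^ k = a ^ j * a ^ j := by
        rw [← pow_add, ← pow_add]; congr 1; omega
      rw [hdvd, mul_one, haj] at this
      rw [this]; ring
    exact case1 (2 * j - k) (by omega) (by omega) h1

end arith

section irred
variable {F : Type*} [Field F] [Fintype F] {V : Type*} [AddCommGroup V] [Module F V]
  [FiniteDimensional F V]

/-- the basic dichotomy for an invariant subspace of an element of primitive prime order -/
theorem dichotomy (q : ℕ) (hq : Fintype.card F = q) (n : ℕ) (hn : finrank F V = n)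
    (r : ℕ) [Fact r.Prime] (hrq : ¬ r ∣ q)
    (hmin : ∀ k, 0 < k → k < n → ¬ r ∣ q ^ k - 1)
    (T : Module.End F V) (hTr : T ^ r = 1)
    (S : Submodule F V) (hS : ∀ v ∈ S, T v ∈ S) :
    S ≤ LinearMap.ker (T - 1) ∨ (S = ⊤ ∧ S ⊓ LinearMap.ker (T - 1) = ⊥) := by
  classical
  haveI : Finite V := Module.finite_of_finite F
  haveI : Fintype V := Fintype.ofFinite V
  have hr : r.Prime := Fact.out
  set C' := S ⊓ LinearMap.ker (T - 1) with hC'
  have hker : ∀ v, v ∈ LinearMap.ker (T - 1) ↔ T v = v := by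
    intro v
    rw [LinearMap.mem_ker, LinearMap.sub_apply, Module.End.one_apply, sub_eq_zero]
  have hTpow : ∀ v, (T ^ (r - 1)) (T v) = v := by
    intro v
    rw [← Module.End.mul_apply, ← pow_succ, Nat.sub_add_cancel hr.one_lt.le, hTr,
      Module.End.one_apply]
  have hTpow' : ∀ v, T ((T ^ (r - 1)) v) = v := by
    intro v
    rw [← Module.End.mul_apply, ← pow_succ', Nat.sub_add_cancel hr.one_lt.le, hTr,
      Module.End.one_apply]
  have hTinj : Function.Injective T := fun a b h => by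
    rw [← hTpow a, ← hTpow b, h]
  have hSpow : ∀ k : ℕ, ∀ v ∈ S, (T ^ k) v ∈ S := by
    intro k
    induction k with
    | zero => intro v hv; simpa using hv
    | succ k ih =>
      intro v hv
      rw [pow_succ', Module.End.mul_apply]
      exact hS _ (ih v hv)
  let X := {v : V // v ∈ S ∧ v ∉ C'}
  have hXmem : ∀ v : V, (v ∈ S ∧ v ∉ C') ↔ (v ∈ S ∧ T v ≠ v) := by
    intro v
    rw [hC', Submodule.mem_inf, hker]
    tauto
  let σ : Equiv.Perm X :=
    { toFun := fun v => ⟨T v.1, by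
        rw [hXmem]
        have := (hXmem v.1).mp v.2
        exact ⟨hS _ this.1, fun h => this.2 (hTinj h)⟩⟩
      invFun := fun v => ⟨(T ^ (r - 1)) v.1, by
        rw [hXmem]
        have := (hXmem v.1).mp v.2
        refine ⟨hSpow _ _ this.1, fun h => this.2 ?_⟩
        rw [hTpow'] at h
        have h2 := congrArg T h
        rw [hTpow'] at h2
        exact h2⟩
      left_inv := fun v => Subtype.ext (hTpow v.1)
      right_inv := fun v => Subtype.ext (hTpow' v.1) }
  have hσpow : ∀ (k : ℕ) (v : X), ((σ ^ k) v : V) = (T ^ k) v.1 := by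
    intro k
    induction k with
    | zero => intro v; simp
    | succ k ih =>
      intro v
      rw [pow_succ', Equiv.Perm.mul_apply, pow_succ', Module.End.mul_apply]
      show T ((σ ^ k) v : V) = _
      rw [ih]
  have hσr : σ ^ r = 1 := by
    apply Equiv.ext
    intro v
    apply Subtype.ext
    rw [hσpow, hTr]
    rfl
  have hfix : ∀ v, σ v ≠ v := by
    intro v h
    have h1 : T v.1 = v.1 := congrArg Subtype.val h
    exact ((hXmem v.1).mp v.2).2 h1
  have hdvd := SingerConj.dvd_card_of_fpf σ r hσr hfix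
  rw [← Nat.card_eq_fintype_card, FrameCount.card_sdiff_submodule S C' inf_le_left, hq] at hdvd
  have hle : finrank F C' ≤ finrank F S := Submodule.finrank_mono inf_le_left
  have hSn : finrank F S ≤ n := by rw [← hn]; exact Submodule.finrank_le S
  rcases Nat.eq_or_lt_of_le hle with heq | hlt
  · left
    have : C' = S := Submodule.eq_of_le_of_finrank_eq inf_le_left heq
    rw [← this]
    exact inf_le_right
  · right
    have h1 : q ^ finrank F S - q ^ finrank F C' =
        q ^ finrank F C' * (q ^ (finrank F S - finrank F C') - 1) := by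
      rw [Nat.mul_sub, mul_one, ← pow_add]
      congr 2
      omega
    rw [h1] at hdvd
    rcases (Nat.Prime.dvd_mul hr).mp hdvd with h2 | h2
    · exact absurd (hr.dvd_of_dvd_pow h2) hrq
    · have h3 : ¬ (finrank F S - finrank F C' < n) := fun h => hmin _ (by omega) h h2
      have h4 : finrank F S = n := by omega
      have h5 : finrank F C' = 0 := by omega
      refine ⟨Submodule.eq_top_of_finrank_eq (by rw [h4, hn]), ?_⟩
      exact Submodule.finrank_eq_zero.mp h5

theorem ker_eq_bot_of_ppd (q : ℕ) (hq : Fintype.card F = q) (n : ℕ) (hn : finrank F V = n)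
    (r : ℕ) [Fact r.Prime] (hrq : ¬ r ∣ q)
    (hmin : ∀ k, 0 < k → k < n → ¬ r ∣ q ^ k - 1)
    (T : Module.End F V) (hTr : T ^ r = 1) (hT1 : T ≠ 1) : LinearMap.ker (T - 1) = ⊥ := by
  rcases dichotomy q hq n hn r hrq hmin T hTr ⊤ (fun v _ => trivial) with h | ⟨_, h⟩
  · exfalso
    apply hT1
    apply LinearMap.ext
    intro v
    have := h (show v ∈ (⊤ : Submodule F V) from trivial)
    rw [LinearMap.mem_ker, LinearMap.sub_apply, sub_eq_zero] at this
    exact this
  · rwa [top_inf_eq] at h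

theorem irreducible_of_ppd (q : ℕ) (hq : Fintype.card F = q) (n : ℕ) (hn : finrank F V = n)
    (r : ℕ) [Fact r.Prime] (hrq : ¬ r ∣ q)
    (hmin : ∀ k, 0 < k → k < n → ¬ r ∣ q ^ k - 1)
    (T : Module.End F V) (hTr : T ^ r = 1) (hT1 : T ≠ 1)
    (S : Submodule F V) (hS : ∀ v ∈ S, T v ∈ S) : S = ⊥ ∨ S = ⊤ := by
  rcases dichotomy q hq n hn r hrq hmin T hTr S hS with h | ⟨h, _⟩
  · left
    rw [ker_eq_bot_of_ppd q hq n hn r hrq hmin T hTr hT1] at h
    exact le_bot_iff.mp h
  · right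
    exact h

end irred

section nopair
variable {F : Type*} [Field F]

theorem no_pair_aux {V₁ V₀ : Type*} [AddCommGroup V₁] [Module F V₁] [AddCommGroup V₀]
    [Module F V₀] (B₁ : LinearMap.BilinForm F V₁) (hnd₁ : ∀ v, (∀ w, B₁ v w = 0) → v = 0)
    (a₀ : V₁) (ha₀ : a₀ ≠ 0) (T : Module.End F V₁)
    (hirr : ∀ S : Submodule F V₁, (∀ v ∈ S, T v ∈ S) → S = ⊥ ∨ S = ⊤)
    (hker : LinearMap.ker (T - 1) = ⊥)
    (U' W' : Submodule F (V₁ × V₀))
    (hUi : ∀ a a' : V₁, ((a, 0) : V₁ × V₀) ∈ U' → ((a', 0) : V₁ × V₀) ∈ U' → B₁ a a' = 0)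
    (hWi : ∀ a a' : V₁, ((a, 0) : V₁ × V₀) ∈ W' → ((a', 0) : V₁ × V₀) ∈ W' → B₁ a a' = 0)
    (hUinv : ∀ v ∈ U', ((T v.1, v.2) : V₁ × V₀) ∈ U')
    (hWinv : ∀ v ∈ W', ((T v.1, v.2) : V₁ × V₀) ∈ W')
    (hsum : ∀ v : V₁ × V₀, ∃ u ∈ U', ∃ w ∈ W', v = u + w) : False := by
  have key : ∀ X : Submodule F (V₁ × V₀),
      (∀ a a' : V₁, ((a, 0) : V₁ × V₀) ∈ X → ((a', 0) : V₁ × V₀) ∈ X → B₁ a a' = 0) →
      (∀ v ∈ X, ((T v.1, v.2) : V₁ × V₀) ∈ X) → ∀ v ∈ X, v.1 = 0 := by
    intro X hXi hXinv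
    have hS : X.comap (LinearMap.inl F V₁ V₀) = ⊥ := by
      rcases hirr (X.comap (LinearMap.inl F V₁ V₀)) (by
        intro a ha
        rw [Submodule.mem_comap, LinearMap.inl_apply] at ha ⊢
        exact hXinv _ ha) with h | h
      · exact h
      · exfalso
        apply ha₀
        apply hnd₁
        intro w
        have h1 : a₀ ∈ X.comap (LinearMap.inl F V₁ V₀) := by rw [h]; trivial
        have h2 : w ∈ X.comap (LinearMap.inl F V₁ V₀) := by rw [h]; trivial
        rw [Submodule.mem_comap, LinearMap.inl_apply] at h1 h2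
        exact hXi _ _ h1 h2
    intro v hv
    have h1 := X.sub_mem (hXinv v hv) hv
    have h2 : ((T v.1, v.2) : V₁ × V₀) - v = (T v.1 - v.1, 0) := by
      ext
      · rfl
      · simp
    rw [h2] at h1
    have h3 : T v.1 - v.1 ∈ X.comap (LinearMap.inl F V₁ V₀) := by
      rw [Submodule.mem_comap, LinearMap.inl_apply]
      exact h1
    rw [hS, Submodule.mem_bot] at h3
    have h4 : v.1 ∈ LinearMap.ker (T - 1) := by
      rw [LinearMap.mem_ker, LinearMap.sub_apply, Module.End.one_apply]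
      exact h3
    rw [hker, Submodule.mem_bot] at h4
    exact h4
  obtain ⟨u, hu, w, hw, huw⟩ := hsum (a₀, 0)
  have h1 := key U' hUi hUinv u hu
  have h2 := key W' hWi hWinv w hw
  have h3 := congrArg Prod.fst huw
  rw [Prod.fst_add, h1, h2, add_zero] at h3
  exact ha₀ h3

end nopair

section main
variable {F : Type*} [Field F] [Fintype F]

theorem toLin'_pow' {n : Type*} [Fintype n] [DecidableEq n] (M : Matrix n n F) (k : ℕ) :
    (Matrix.toLin' (M ^ k) : Module.End F (n → F)) =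
      (Matrix.toLin' M : Module.End F (n → F)) ^ k := by
  induction k with
  | zero => rw [pow_zero, pow_zero, Matrix.toLin'_one]; rfl
  | succ k ih => rw [pow_succ, pow_succ, Matrix.toLin'_mul, ih]; rfl

theorem main {p : ℕ} [Fact p.Prime] [CharP F p] {q : ℕ} (hq : Fintype.card F = q)
    (d : ℕ) (hd : 1 ≤ d) (r : ℕ) [Fact r.Prime] (hr2 : r ≠ 2) (hrp : r ≠ p)
    (hΩ : r ∣ Nat.card (Pairs d F) / 2) :
    ∃ x : ↥(Matrix.symplecticGroup (Fin d) F),
      (∃ z : F, ((x ^ r : ↥(Matrix.symplecticGroup (Fin d) F)) :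
        Matrix (Fin d ⊕ Fin d) (Fin d ⊕ Fin d) F) = z • (1 : Matrix (Fin d ⊕ Fin d) (Fin d ⊕ Fin d) F)) ∧
      (∀ z : F, (x : Matrix (Fin d ⊕ Fin d) (Fin d ⊕ Fin d) F) ≠
        z • (1 : Matrix (Fin d ⊕ Fin d) (Fin d ⊕ Fin d) F)) ∧
      ¬ (∃ U W : Submodule F (Fin d ⊕ Fin d → F), IsCompl U W ∧
        (∀ u ∈ U, ∀ v ∈ U, Cfsg.sympForm d F u v = 0) ∧
        (∀ u ∈ W, ∀ v ∈ W, Cfsg.sympForm d F u v = 0) ∧
        ((U.map (Matrix.toLin' (x : Matrix (Fin d ⊕ Fin d) (Fin d ⊕ Fin d) F)) = U ∧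
          W.map (Matrix.toLin' (x : Matrix (Fin d ⊕ Fin d) (Fin d ⊕ Fin d) F)) = W) ∨
         (U.map (Matrix.toLin' (x : Matrix (Fin d ⊕ Fin d) (Fin d ⊕ Fin d) F)) = W ∧
          W.map (Matrix.toLin' (x : Matrix (Fin d ⊕ Fin d) (Fin d ⊕ Fin d) F)) = U))) := by
  classical
  have hr : r.Prime := Fact.out
  have hp : p.Prime := Fact.out
  have hq1 : 1 ≤ q := by rw [← hq]; exact Fintype.card_pos
  have hrq : ¬ r ∣ q := by
    obtain ⟨f, _, hf⟩ := FiniteField.card F p
    rw [hq] at hf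
    rw [hf]
    intro h
    exact hrp ((Nat.prime_dvd_prime_iff_eq hr hp).mp (hr.dvd_of_dvd_pow h))
  obtain ⟨j, hj1, hjd, hjr, hmin⟩ :=
    exists_min q r d hq1 hr hr2 (exists_dvd q hq hd r hr hrq hΩ)
  -- an element of order `r` in the small symplectic group
  have hcard : r ∣ Nat.card ↥(Matrix.symplecticGroup (Fin j) F) := by
    rw [Cfsg.Agent.Lib.H2.Sp.card_Sp, hq]
    apply Dvd.dvd.mul_left
    apply Dvd.dvd.trans _ (Finset.dvd_prod_of_mem _
      (Finset.mem_range.mpr (show j - 1 < j by omega)))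
    rw [show 2 * (j - 1 + 1) = j * 2 by omega, pow_mul, sq_sub_one _ (Nat.one_le_pow _ _ hq1)]
    exact Dvd.dvd.mul_left hjr _
  obtain ⟨x₁, hx₁⟩ := exists_prime_orderOf_dvd_card' r hcard
  obtain ⟨T₁, hT₁⟩ : ∃ T₁ : Module.End F (KK j → F), T₁ = Matrix.toLin' x₁.1 := ⟨_, rfl⟩
  have hx₁r : x₁.1 ^ r = 1 := by
    have : ((x₁ ^ r : ↥(Matrix.symplecticGroup (Fin j) F)) :
        Matrix (Fin j ⊕ Fin j) (Fin j ⊕ Fin j) F) = 1 := by
      rw [← hx₁, pow_orderOf_eq_one]; rfl
    rwa [SubmonoidClass.coe_pow] at this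
  have hT₁r : T₁ ^ r = 1 := by
    rw [hT₁, ← toLin'_pow', hx₁r, Matrix.toLin'_one]; rfl
  have hT₁1 : T₁ ≠ 1 := by
    intro h
    have h1 : Matrix.toLin' x₁.1 = Matrix.toLin' (1 : Matrix (KK j) (KK j) F) := by
      rw [← hT₁, h, Matrix.toLin'_one]; rfl
    have h2 : x₁ = 1 := Subtype.ext (Matrix.toLin'.injective h1)
    rw [h2, orderOf_one] at hx₁
    exact hr.one_lt.ne hx₁
  have hV₁ : finrank F (KK j → F) = 2 * j := by
    rw [Module.finrank_fintype_fun_eq_card, Fintype.card_sum, Fintype.card_fin]; ring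
  have hirr := irreducible_of_ppd q hq (2 * j) hV₁ r hrq hmin T₁ hT₁r hT₁1
  have hker := ker_eq_bot_of_ppd q hq (2 * j) hV₁ r hrq hmin T₁ hT₁r hT₁1
  -- the ambient space
  let B : LinearMap.BilinForm F ((KK j → F) × (KK (d - j) → F)) :=
    (sympB (F := F) j).compl₁₂ (LinearMap.fst F _ _) (LinearMap.fst F _ _) +
    (sympB (F := F) (d - j)).compl₁₂ (LinearMap.snd F _ _) (LinearMap.snd F _ _)
  have hBapp : ∀ v w, B v w = sympB j v.1 w.1 + sympB (d - j) v.2 w.2 := fun v w => rfl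
  have halt : ∀ v, B v v = 0 := by
    intro v
    rw [hBapp, sympB_alt j v.1, sympB_alt (d - j) v.2, add_zero]
  have hnd : ∀ v, (∀ w, B v w = 0) → v = 0 := by
    intro v hv
    apply Prod.ext
    · apply (sympB_nondeg (F := F) j).1
      intro a
      have := hv (a, 0)
      rw [hBapp] at this
      simpa using this
    · apply (sympB_nondeg (F := F) (d - j)).1
      intro a
      have := hv (0, a)
      rw [hBapp] at this
      simpa using this
  have hV : finrank F ((KK j → F) × (KK (d - j) → F)) = 2 * d := by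
    rw [Module.finrank_prod, Module.finrank_fintype_fun_eq_card, Module.finrank_fintype_fun_eq_card,
      Fintype.card_sum, Fintype.card_sum, Fintype.card_fin, Fintype.card_fin]
    omega
  let ρ : ↥(Matrix.symplecticGroup (Fin j) F) →*
      Module.End F ((KK j → F) × (KK (d - j) → F)) :=
    { toFun := fun g => (Matrix.toLin' g.1).prodMap LinearMap.id
      map_one' := by
        apply LinearMap.ext
        intro v
        show (Matrix.toLin' (1 : Matrix (KK j) (KK j) F) v.1, v.2) = v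
        rw [Matrix.toLin'_one]
        rfl
      map_mul' := by
        intro g h
        apply LinearMap.ext
        intro v
        show (Matrix.toLin' (g.1 * h.1) v.1, v.2) =
          (Matrix.toLin' g.1 (Matrix.toLin' h.1 v.1), v.2)
        rw [Matrix.toLin'_mul]
        rfl }
  have hρ : ∀ g v, ρ g v = (Matrix.toLin' g.1 v.1, v.2) := fun g v => rfl
  have hpres : ∀ g v w, B (ρ g v) (ρ g w) = B v w := by
    intro g v w
    rw [hBapp, hBapp, hρ, hρ]
    show sympB j (Matrix.toLin' g.1 v.1) (Matrix.toLin' g.1 w.1) + sympB (d - j) v.2 w.2 =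
      sympB j v.1 w.1 + sympB (d - j) v.2 w.2
    congr 1
    rw [sympB_apply, sympB_apply, Matrix.toLin'_apply, Matrix.toLin'_apply,
      (Cfsg.Agent.Lib.H4.mem_symplecticGroup_iff_sympForm j _).mp g.2]
  obtain ⟨Θ, φ, hB, hφ⟩ := exists_hom_symplectic hV B halt hnd ρ hpres
  have hxr : (φ x₁) ^ r = 1 := by
    rw [← map_pow, ← hx₁, pow_orderOf_eq_one, map_one]
  have hxr' : (φ x₁).1 ^ r = 1 := by
    have : (((φ x₁) ^ r : ↥(Matrix.symplecticGroup (Fin d) F)) :
        Matrix (Fin d ⊕ Fin d) (Fin d ⊕ Fin d) F) = 1 := by rw [hxr]; rfl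
    rwa [SubmonoidClass.coe_pow] at this
  have ha₀ : (Pi.single (Sum.inl ⟨0, hj1⟩) 1 : KK j → F) ≠ 0 := by
    intro h
    have := congrFun h (Sum.inl ⟨0, hj1⟩)
    simp at this
  refine ⟨φ x₁, ⟨1, by rw [hxr, one_smul]; rfl⟩, ?_, ?_⟩
  · -- not a scalar
    intro z hz
    have h1 : ∀ a : KK j → F, T₁ a = z • a := by
      intro a
      have h2 := hφ x₁ (a, 0)
      rw [hz, Matrix.smul_mulVec, Matrix.one_mulVec, ← map_smul] at h2
      have h3 := Θ.injective h2
      rw [hρ] at h3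
      have h4 := congrArg Prod.fst h3
      rw [hT₁]
      exact h4.symm
    rcases hirr (Submodule.span F {(Pi.single (Sum.inl ⟨0, hj1⟩) 1 : KK j → F)}) (by
      intro v hv
      rw [h1]
      exact Submodule.smul_mem _ _ hv) with h | h
    · apply ha₀
      have : (Pi.single (Sum.inl ⟨0, hj1⟩) 1 : KK j → F) ∈
          Submodule.span F {(Pi.single (Sum.inl ⟨0, hj1⟩) 1 : KK j → F)} :=
        Submodule.mem_span_singleton_self _
      rw [h, Submodule.mem_bot] at this
      exact this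
    · have h5 := finrank_span_singleton (K := F) ha₀
      rw [h, finrank_top, hV₁] at h5
      omega
  · rintro ⟨U, W, hc, hU, hW, hcase⟩
    rcases hcase with ⟨hUU, hWW⟩ | ⟨hUW, hWU⟩
    · apply no_pair_aux (V₀ := KK (d - j) → F) (sympB (F := F) j) (sympB_nondeg (F := F) j).1 _ ha₀ T₁
        hirr hker (U.comap (Θ : _ →ₗ[F] _)) (W.comap (Θ : _ →ₗ[F] _))
      · intro a a' ha ha'
        rw [Submodule.mem_comap] at ha ha'
        have := hU _ ha _ ha'
        rw [LinearEquiv.coe_coe, ← hB, hBapp] at this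
        simpa using this
      · intro a a' ha ha'
        rw [Submodule.mem_comap] at ha ha'
        have := hW _ ha _ ha'
        rw [LinearEquiv.coe_coe, ← hB, hBapp] at this
        simpa using this
      · intro v hv
        rw [Submodule.mem_comap] at hv ⊢
        rw [hT₁, ← hρ, LinearEquiv.coe_coe, ← hφ, ← hUU]
        exact ⟨Θ v, hv, rfl⟩
      · intro v hv
        rw [Submodule.mem_comap] at hv ⊢
        rw [hT₁, ← hρ, LinearEquiv.coe_coe, ← hφ, ← hWW]
        exact ⟨Θ v, hv, rfl⟩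
      · intro v
        have : Θ v ∈ U ⊔ W := by rw [hc.sup_eq_top]; trivial
        obtain ⟨a, ha, b, hb, hab⟩ := Submodule.mem_sup.mp this
        refine ⟨Θ.symm a, ?_, Θ.symm b, ?_, ?_⟩
        · rw [Submodule.mem_comap, LinearEquiv.coe_coe, LinearEquiv.apply_symm_apply]; exact ha
        · rw [Submodule.mem_comap, LinearEquiv.coe_coe, LinearEquiv.apply_symm_apply]; exact hb
        · rw [← map_add, hab, LinearEquiv.symm_apply_apply]
    · -- the swap case
      have hev : ∀ k : ℕ, act ((φ x₁).1 ^ (2 * k)) U = U := by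
        intro k
        induction k with
        | zero => rw [mul_zero, pow_zero, act_one]
        | succ k ih =>
          rw [show 2 * (k + 1) = 2 * k + 1 + 1 by ring, pow_succ, pow_succ, mul_assoc, act_mul, act_mul]
          have h1 : act (φ x₁).1 U = W := hUW
          have h2 : act (φ x₁).1 W = U := hWU
          rw [h1, h2, ih]
      obtain ⟨k, hk⟩ := hr.eq_two_or_odd'.resolve_left hr2
      have h1 : act ((φ x₁).1 ^ r) U = W := by
        rw [hk, pow_succ', act_mul, hev k]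
        exact hUW
      rw [hxr', act_one] at h1
      subst h1
      have htop : (⊤ : Submodule F (KK d → F)) = ⊥ := by
        rw [← hc.sup_eq_top, ← hc.inf_eq_bot, sup_idem, inf_idem]
      have hmem : (Pi.single (Sum.inl ⟨0, hd⟩) 1 : KK d → F) ∈ (⊥ : Submodule F (KK d → F)) := by
        rw [← htop]; trivial
      rw [Submodule.mem_bot] at hmem
      have := congrFun hmem (Sum.inl ⟨0, hd⟩)
      simp at this

end main

end Cfsg.Agent.Lib.H13.SpDerange
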