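import Cfsg.Agent.Lib.H13.SpInvolCount

set_option autoImplicit false

namespace Cfsg.Agent.Lib.H13.SpInvolCount

open Module Matrix

variable {F : Type*} [Field F] [Fintype F] [CharP F 2] (m : ℕ)

set_option quotPrecheck false in
local notation "Sp" => ↥(Matrix.symplecticGroup (Fin m) F)

set_option quotPrecheck false in
local notation "MM" => Matrix (Fin m ⊕ Fin m) (Fin m ⊕ Fin m) F

theorem alt_iff_card (t : Sp) :
    (∀ v, Cfsg.sympForm m F v ((t : MM) *ᵥ v) = 0) ↔
      Nat.card {v : Fin m ⊕ Fin m → F // Cfsg.sympForm m F v ((t : MM) *ᵥ v) = 0} =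
        Nat.card (Fin m ⊕ Fin m → F) := by
  classical
  constructor
  · intro h
    apply Nat.card_congr
    exact ⟨fun v => v.1, fun v => ⟨v, h v⟩, fun v => rfl, fun v => rfl⟩
  · intro h v
    by_contra hv
    have hlt : Nat.card {v : Fin m ⊕ Fin m → F // Cfsg.sympForm m F v ((t : MM) *ᵥ v) = 0} <
        Nat.card (Fin m ⊕ Fin m → F) := by
      rw [Nat.card_eq_fintype_card, Nat.card_eq_fintype_card]
      exact Fintype.card_subtype_lt hv
    omega

/-- S2166 -/
theorem isConj_iff_invariants (a b : Sp) (ha : orderOf a = 2) (hb : orderOf b = 2) :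
    IsConj a b ↔ (((a : MM) - 1).rank = ((b : MM) - 1).rank ∧
      (Even ((a : MM) - 1).rank →
        Nat.card {v : Fin m ⊕ Fin m → F // Cfsg.sympForm m F v ((a : MM) *ᵥ v) = 0} =
        Nat.card {v : Fin m ⊕ Fin m → F // Cfsg.sympForm m F v ((b : MM) *ᵥ v) = 0})) := by
  rw [orderOf_two_iff] at ha hb
  constructor
  · intro h
    obtain ⟨h1, h2⟩ := invariants_of_isConj m a b h
    refine ⟨h1, fun _ => ?_⟩
    by_cases hA : ∀ v, Cfsg.sympForm m F v ((a : MM) *ᵥ v) = 0
    · rw [(alt_iff_card m a).mp hA, (alt_iff_card m b).mp (h2.mp hA)]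
    · obtain ⟨c, hc⟩ := isConj_iff.mp h
      -- bijection `v ↦ c v`
      have hcc : ((c⁻¹ : Sp) : MM) * (c : MM) = 1 := by
        have := congrArg Subtype.val (inv_mul_cancel c)
        exact this
      have hcc' : (c : MM) * ((c⁻¹ : Sp) : MM) = 1 := by
        have := congrArg Subtype.val (mul_inv_cancel c)
        exact this
      have hbm : (b : MM) = (c : MM) * (a : MM) * ((c⁻¹ : Sp) : MM) := by
        rw [← hc]; rfl
      have hiso := (Cfsg.Agent.Lib.H4.mem_symplecticGroup_iff_sympForm m _).mp c.2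
      apply Nat.card_congr
      refine ⟨fun v => ⟨(c : MM) *ᵥ v.1, ?_⟩, fun v => ⟨((c⁻¹ : Sp) : MM) *ᵥ v.1, ?_⟩, ?_, ?_⟩
      · obtain ⟨v, hv⟩ := v
        show Cfsg.sympForm m F ((c : MM) *ᵥ v) ((b : MM) *ᵥ ((c : MM) *ᵥ v)) = 0
        rw [hbm, ← Matrix.mulVec_mulVec, ← Matrix.mulVec_mulVec, Matrix.mulVec_mulVec (v := v),
          hcc, Matrix.one_mulVec, hiso]
        exact hv
      · obtain ⟨v, hv⟩ := v
        show Cfsg.sympForm m F (((c⁻¹ : Sp) : MM) *ᵥ v) ((a : MM) *ᵥ (((c⁻¹ : Sp) : MM) *ᵥ v)) = 0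
        rw [hbm, ← Matrix.mulVec_mulVec, ← Matrix.mulVec_mulVec] at hv
        rw [← hiso]
        rw [Matrix.mulVec_mulVec (v := v), hcc', Matrix.one_mulVec]
        exact hv
      · intro v
        apply Subtype.ext
        show ((c⁻¹ : Sp) : MM) *ᵥ ((c : MM) *ᵥ v.1) = v.1
        rw [Matrix.mulVec_mulVec, hcc, Matrix.one_mulVec]
      · intro v
        apply Subtype.ext
        show (c : MM) *ᵥ (((c⁻¹ : Sp) : MM) *ᵥ v.1) = v.1
        rw [Matrix.mulVec_mulVec, hcc', Matrix.one_mulVec]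
  · rintro ⟨h1, h2⟩
    apply isConj_of_invariants m a b ha.1 hb.1 h1
    obtain ⟨-, -, ea⟩ := invariants_range_sp m a ha.1 ha.2
    obtain ⟨-, -, eb⟩ := invariants_range_sp m b hb.1 hb.2
    constructor
    · intro hA
      have he := ea hA
      rw [alt_iff_card, ← h2 he]
      exact (alt_iff_card m a).mp hA
    · intro hB
      have he := eb hB
      rw [← h1] at he
      rw [alt_iff_card, h2 he]
      exact (alt_iff_card m b).mp hB

end Cfsg.Agent.Lib.H13.SpInvolCount
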