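import Cfsg.Agent.Lib.H13.SympBasis
import Cfsg.Agent.Lib.H13.SpPlanes
import Cfsg.Agent.Lib.H13.DecompBasis

set_option autoImplicit false

universe u

namespace Cfsg.Agent.Lib.H13.SpPolar

open Module Cfsg.Agent.Lib.H13

variable {F : Type*} [Field F]

/-- generic induction splitting off invariant hyperbolic planes of a prescribed shape -/
theorem adapted2 (z : F) (hz : z ≠ 0) (P : F → F → F → F → Prop)
    (hstep : ∀ {V : Type u} [AddCommGroup V] [Module F V] [FiniteDimensional F V]
      (B : LinearMap.BilinForm F V), (∀ v, B v v = 0) → (∀ v, (∀ w, B v w = 0) → v = 0) →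
      ∀ (t : V →ₗ[F] V), (∀ u v, B (t u) (t v) = B u v) → (∀ v, t (t v) = z • v) →
      0 < finrank F V → ∃ (e f : V) (α β γ δ : F), B e f = 1 ∧ P α β γ δ ∧
        t e = α • e + γ • f ∧ t f = β • e + δ • f) (n : ℕ) :
    ∀ {V : Type u} [AddCommGroup V] [Module F V] [FiniteDimensional F V]
      (B : LinearMap.BilinForm F V), (∀ v, B v v = 0) → (∀ v, (∀ w, B v w = 0) → v = 0) →
      ∀ (t : V →ₗ[F] V), (∀ u v, B (t u) (t v) = B u v) → (∀ v, t (t v) = z • v) →
      finrank F V = n →
      ∃ (ι : Type) (_ : Fintype ι) (_ : DecidableEq ι) (b : Basis (ι ⊕ ι) F V), IsSymp B b ∧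
        ∀ i, ∃ α β γ δ : F, P α β γ δ ∧ t (b (.inl i)) = α • b (.inl i) + γ • b (.inr i) ∧
          t (b (.inr i)) = β • b (.inl i) + δ • b (.inr i) := by
  induction n using Nat.strong_induction_on with
  | _ n ih =>
    intro V _ _ _ B halt hnd t hiso ht hn
    by_cases h0 : n = 0
    · subst h0
      haveI : Subsingleton V := by
        rw [Module.finrank_zero_iff] at hn
        exact hn
      refine ⟨Empty, inferInstance, inferInstance, Basis.empty V, ?_, fun i => i.elim⟩
      constructor <;> intro i <;> exact i.elim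
    · obtain ⟨e, f, α, β, γ, δ, hef, hP, hte, htf⟩ := hstep B halt hnd t hiso ht (by omega)
      have hfr := finrank_pairOrthB B halt e f hef
      have hmap := SpPlanes.map_pairOrth B t hiso z hz ht e f α β γ δ hte htf
      let tW : pairOrthB B e f →ₗ[F] pairOrthB B e f := t.restrict hmap
      have htW : ∀ w : pairOrthB B e f, ((tW w : pairOrthB B e f) : V) = t (w : V) := fun w => rfl
      obtain ⟨ι, hι, hdec, b', hsymp', hb'⟩ := ih (n - 2) (by omega)
        (restrictB B (pairOrthB B e f)) (fun x => halt x)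
        (nondeg_pairOrthB B halt e f hef hnd) tW (fun u v => hiso _ _)
        (fun w => Subtype.ext (by rw [htW, htW, ht]; rfl)) (by omega)
      refine ⟨Unit ⊕ ι, inferInstance, inferInstance, consBasisB B halt e f hef b',
        IsSymp.cons B halt e f hef b' hsymp', ?_⟩
      rintro (⟨⟩ | i)
      · refine ⟨α, β, γ, δ, hP, ?_, ?_⟩
        · rw [consBasisB_e, consBasisB_f]; exact hte
        · rw [consBasisB_e, consBasisB_f]; exact htf
      · obtain ⟨α', β', γ', δ', hP', h1, h2⟩ := hb' i
        refine ⟨α', β', γ', δ', hP', ?_, ?_⟩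
        · rw [consBasisB_l, consBasisB_r, ← htW, h1]; rfl
        · rw [consBasisB_l, consBasisB_r, ← htW, h2]; rfl

/-- the step for involutions in odd characteristic -/
theorem step_one (h2 : (2 : F) ≠ 0) {V : Type u} [AddCommGroup V] [Module F V]
    [FiniteDimensional F V] (B : LinearMap.BilinForm F V) (halt : ∀ v, B v v = 0)
    (hnd : ∀ v, (∀ w, B v w = 0) → v = 0) (t : V →ₗ[F] V)
    (hiso : ∀ u v, B (t u) (t v) = B u v) (ht : ∀ v, t (t v) = (1 : F) • v)
    (hpos : 0 < finrank F V) :
    ∃ (e f : V) (α β γ δ : F), B e f = 1 ∧ (β = 0 ∧ γ = 0) ∧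
      t e = α • e + γ • f ∧ t f = β • e + δ • f := by
  have ht' : ∀ v, t (t v) = v := fun v => by rw [ht, one_smul]
  obtain ⟨y, hy⟩ := Module.finrank_pos_iff_exists_ne_zero.mp hpos
  -- an eigenvector
  obtain ⟨e, ε, he0, hε, hte⟩ : ∃ (e : V) (ε : F), e ≠ 0 ∧ ε * ε = 1 ∧ t e = ε • e := by
    by_cases h : y + t y = 0
    · refine ⟨y - t y, -1, ?_, by ring, ?_⟩
      · intro h'
        have : (2 : F) • y = 0 := by
          rw [two_smul]
          have : y + y = (y + t y) + (y - t y) := by abel
          rw [this, h, h', add_zero]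
        rcases smul_eq_zero.mp this with h3 | h3
        · exact h2 h3
        · exact hy h3
      · rw [map_sub, ht', neg_one_smul, neg_sub]
    · exact ⟨y + t y, 1, h, by ring, by rw [map_add, ht', one_smul, add_comm]⟩
  obtain ⟨f₀, hf₀⟩ : ∃ f₀, B e f₀ ≠ 0 := by
    by_contra h
    push Not at h
    exact he0 (hnd e h)
  set f₁ := f₀ + ε • t f₀ with hf₁
  have htf₁ : t f₁ = ε • f₁ := by
    rw [hf₁, map_add, map_smul, ht', smul_add, smul_smul, hε, one_smul, add_comm]
  have hB1 : B e (t f₀) = ε * B e f₀ := by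
    have h1 : B (t e) (t (t f₀)) = B e (t f₀) := hiso _ _
    rw [ht', hte, map_smul, LinearMap.smul_apply, smul_eq_mul] at h1
    exact h1.symm
  have hB2 : B e f₁ = 2 * B e f₀ := by
    rw [hf₁, map_add, map_smul, smul_eq_mul, hB1, ← mul_assoc, hε]
    ring
  have hB3 : B e f₁ ≠ 0 := by
    rw [hB2]
    exact mul_ne_zero h2 hf₀
  refine ⟨e, (B e f₁)⁻¹ • f₁, ε, 0, 0, ε, ?_, ⟨rfl, rfl⟩, ?_, ?_⟩
  · rw [map_smul, smul_eq_mul, inv_mul_cancel₀ hB3]
  · rw [hte, zero_smul, add_zero]
  · rw [map_smul, htf₁, zero_smul, zero_add, smul_comm]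

/-- the step for elements squaring to `-1` in odd characteristic -/
theorem step_neg (h2 : (2 : F) ≠ 0) {V : Type u} [AddCommGroup V] [Module F V]
    [FiniteDimensional F V] (B : LinearMap.BilinForm F V) (halt : ∀ v, B v v = 0)
    (hnd : ∀ v, (∀ w, B v w = 0) → v = 0) (t : V →ₗ[F] V)
    (hiso : ∀ u v, B (t u) (t v) = B u v) (ht : ∀ v, t (t v) = (-1 : F) • v)
    (hpos : 0 < finrank F V) :
    ∃ (e f : V) (α β γ δ : F), B e f = 1 ∧ (α = 0 ∧ δ = 0) ∧
      t e = α • e + γ • f ∧ t f = β • e + δ • f := by
  have ht' : ∀ v, t (t v) = -v := fun v => by rw [ht, neg_one_smul]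
  have hskew : ∀ x y, B x y = - B y x := alt_skew B halt
  obtain ⟨y, hy⟩ : ∃ y, B y (t y) ≠ 0 := by
    by_contra h
    push Not at h
    obtain ⟨w, hw⟩ := Module.finrank_pos_iff_exists_ne_zero.mp hpos
    have hsym : ∀ y w, B w (t y) = B y (t w) := by
      intro y w
      have h1 : B (t w) (t (t y)) = B w (t y) := hiso _ _
      rw [ht', map_neg] at h1
      rw [← h1, hskew y (t w)]
    have hzero : ∀ y w, B y (t w) = 0 := by
      intro y w
      have h1 := h (y + w)
      rw [map_add, map_add, LinearMap.add_apply, map_add, map_add, h y, h w, hsym y w] at h1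
      have h3 : (2 : F) * B y (t w) = 0 := by linear_combination h1
      exact (mul_eq_zero.mp h3).resolve_left h2
    have h4 : t w = 0 := by
      apply hnd
      intro y
      rw [hskew, hzero y w, neg_zero]
    have h5 : t (t w) = 0 := by rw [h4, map_zero]
    rw [ht', neg_eq_zero] at h5
    exact hw h5
  refine ⟨y, (B y (t y))⁻¹ • t y, 0, -(B y (t y))⁻¹, B y (t y), 0, ?_, ⟨rfl, rfl⟩, ?_, ?_⟩
  · rw [map_smul, smul_eq_mul, inv_mul_cancel₀ hy]
  · rw [smul_smul, mul_inv_cancel₀ hy, one_smul, zero_smul, zero_add]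
  · rw [map_smul, ht', zero_smul, add_zero, smul_neg, neg_smul]

section pair
variable {V : Type*} [AddCommGroup V] [Module F V] {ι : Type} [Fintype ι] [DecidableEq ι]
  (B : LinearMap.BilinForm F V) (b : Basis (ι ⊕ ι) F V) (hb : IsSymp B b)

/-- colouring of a symplectic basis by the two Lagrangians -/
def col : ι ⊕ ι → Fin 2 := fun k => match k with
  | .inl _ => 0
  | .inr _ => 1

theorem isCompl_blk : IsCompl (DecompBasis.blk b (col (ι := ι)) 0) (DecompBasis.blk b (col (ι := ι)) 1) := by
  constructor
  · exact (DecompBasis.indep_blk b (col (ι := ι))).pairwiseDisjoint (by decide : (0 : Fin 2) ≠ 1)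
  · rw [codisjoint_iff]
    have := DecompBasis.iSup_blk b (col (ι := ι))
    rw [← this]
    apply le_antisymm
    · apply sup_le
      · exact le_iSup _ 0
      · exact le_iSup _ 1
    · apply iSup_le
      intro j
      fin_cases j
      · exact le_sup_left
      · exact le_sup_right

include hb in
theorem iso_blk (j : Fin 2) : ∀ u ∈ DecompBasis.blk b (col (ι := ι)) j,
    ∀ v ∈ DecompBasis.blk b (col (ι := ι)) j, B u v = 0 := by
  intro u hu v hv
  unfold DecompBasis.blk at hu hv
  induction hu using Submodule.span_induction with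
  | mem x hx =>
    obtain ⟨k, hk, rfl⟩ := hx
    induction hv using Submodule.span_induction with
    | mem y hy =>
      obtain ⟨k', hk', rfl⟩ := hy
      rcases k with i | i <;> rcases k' with i' | i'
      · exact hb.iso_l i i'
      · exfalso
        have h1 : col (ι := ι) (Sum.inl i) = j := hk
        have h2 : col (ι := ι) (Sum.inr i') = j := hk'
        rw [← h2] at h1
        have h3 : (0 : Fin 2) = 1 := h1
        exact absurd h3 (by decide)
      · exfalso
        have h1 : col (ι := ι) (Sum.inr i) = j := hk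
        have h2 : col (ι := ι) (Sum.inl i') = j := hk'
        rw [← h2] at h1
        have h3 : (1 : Fin 2) = 0 := h1
        exact absurd h3 (by decide)
      · exact hb.iso_r i i'
    | zero => simp
    | add a a' _ _ h1 h2 => rw [map_add, h1, h2, add_zero]
    | smul l a _ h1 => rw [map_smul, h1, smul_zero]
  | zero => simp
  | add a a' _ _ h1 h2 => rw [map_add, LinearMap.add_apply, h1, h2, add_zero]
  | smul l a _ h1 => rw [map_smul, LinearMap.smul_apply, h1, smul_zero]

theorem card_col0 : Fintype.card {k : ι ⊕ ι // col k = 0} = Fintype.card ι := by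
  have h01 : ∀ i : ι, col (Sum.inr i) = 0 → False := by
    intro i h
    have h3 : (1 : Fin 2) = 0 := h
    exact absurd h3 (by decide)
  apply Fintype.card_congr
  exact { toFun := fun k => match k with
            | ⟨.inl i, _⟩ => i
            | ⟨.inr i, h⟩ => (h01 i h).elim
          invFun := fun i => ⟨.inl i, rfl⟩
          left_inv := by
            rintro ⟨i | i, h⟩
            · rfl
            · exact (h01 i h).elim
          right_inv := fun i => rfl }

theorem card_col1 : Fintype.card {k : ι ⊕ ι // col k = 1} = Fintype.card ι := by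
  have h01 : ∀ i : ι, col (Sum.inl i) = 1 → False := by
    intro i h
    have h3 : (0 : Fin 2) = 1 := h
    exact absurd h3 (by decide)
  apply Fintype.card_congr
  exact { toFun := fun k => match k with
            | ⟨.inr i, _⟩ => i
            | ⟨.inl i, h⟩ => (h01 i h).elim
          invFun := fun i => ⟨.inr i, rfl⟩
          left_inv := by
            rintro ⟨i | i, h⟩
            · exact (h01 i h).elim
            · rfl
          right_inv := fun i => rfl }

theorem card_col (j : Fin 2) : Fintype.card {k : ι ⊕ ι // col k = j} = Fintype.card ι := by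
  fin_cases j
  · exact card_col0
  · exact card_col1

end pair

end Cfsg.Agent.Lib.H13.SpPolar
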