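import Cfsg.Agent.Lib.H13.SpQuadIndex
import Cfsg.Agent.Lib.H13.MinusFix
import Cfsg.Agent.Lib.H13.PlusFix
import Cfsg.Agent.Lib.H13.OrthEmbed
import Cfsg.Agent.Lib.H13.PlusTS

set_option autoImplicit false

namespace Cfsg.Agent.Lib.H13.SpQuadElts

open Module Matrix QuadraticMap
open scoped MatrixGroups
open Cfsg.Agent.Lib.H13 Cfsg.Agent.Lib.H13.SpInvolCount Cfsg.Agent.Lib.H13.TraceForm
  Cfsg.Agent.Lib.H13.SpQuadIndex Cfsg.Agent.Lib.H13.MinusClass Cfsg.Agent.Lib.H13.OInvol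

/-- index arithmetic, plus type -/
theorem arith_index_plus (q k I P : ℕ) (hq : 2 ≤ q) (hP : 0 < P)
    (h : I * (2 * q ^ ((k + 1) * k) * (q ^ (k + 1) - 1) * P) =
      q ^ ((k + 1) ^ 2) * (P * (q ^ (2 * (k + 1)) - 1))) :
    2 * I = q ^ (k + 1) * (q ^ (k + 1) + 1) := by
  have hC : 2 ≤ q ^ (k + 1) := by
    calc 2 ≤ q := hq
      _ = q ^ 1 := (pow_one q).symm
      _ ≤ q ^ (k + 1) := Nat.pow_le_pow_right (by omega) (by omega)
  obtain ⟨c, hc⟩ : ∃ c, q ^ (k + 1) = c + 1 := ⟨q ^ (k + 1) - 1, by omega⟩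
  have h1 : q ^ ((k + 1) ^ 2) = q ^ ((k + 1) * k) * (c + 1) := by
    rw [← hc, ← pow_add]
    congr 1
    ring
  have h2 : q ^ (2 * (k + 1)) - 1 = c * (c + 2) := by
    rw [two_mul, pow_add, hc]
    have : (c + 1) * (c + 1) = c * (c + 2) + 1 := by ring
    omega
  rw [h1, h2, hc, Nat.add_sub_cancel] at h
  have hA : 0 < q ^ ((k + 1) * k) := Nat.pos_of_ne_zero (pow_ne_zero _ (by omega))
  have hc0 : 0 < c := by omega
  have hpos : 0 < q ^ ((k + 1) * k) * c * P := Nat.mul_pos (Nat.mul_pos hA hc0) hP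
  apply Nat.eq_of_mul_eq_mul_right hpos
  rw [hc]
  calc 2 * I * (q ^ ((k + 1) * k) * c * P) = I * (2 * q ^ ((k + 1) * k) * c * P) := by ring
    _ = q ^ ((k + 1) * k) * (c + 1) * (P * (c * (c + 2))) := h
    _ = (c + 1) * (c + 1 + 1) * (q ^ ((k + 1) * k) * c * P) := by ring

/-- index arithmetic, minus type -/
theorem arith_index_minus (q k I P : ℕ) (hq : 2 ≤ q) (hP : 0 < P)
    (h : I * (2 * q ^ ((k + 1) * k) * (q ^ (k + 1) + 1) * P) =
      q ^ ((k + 1) ^ 2) * (P * (q ^ (2 * (k + 1)) - 1))) :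
    2 * I = q ^ (k + 1) * (q ^ (k + 1) - 1) := by
  have hC : 2 ≤ q ^ (k + 1) := by
    calc 2 ≤ q := hq
      _ = q ^ 1 := (pow_one q).symm
      _ ≤ q ^ (k + 1) := Nat.pow_le_pow_right (by omega) (by omega)
  obtain ⟨c, hc⟩ : ∃ c, q ^ (k + 1) = c + 1 := ⟨q ^ (k + 1) - 1, by omega⟩
  have h1 : q ^ ((k + 1) ^ 2) = q ^ ((k + 1) * k) * (c + 1) := by
    rw [← hc, ← pow_add]
    congr 1
    ring
  have h2 : q ^ (2 * (k + 1)) - 1 = c * (c + 2) := by
    rw [two_mul, pow_add, hc]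
    have : (c + 1) * (c + 1) = c * (c + 2) + 1 := by ring
    omega
  rw [h1, h2, hc] at h
  have hA : 0 < q ^ ((k + 1) * k) := Nat.pos_of_ne_zero (pow_ne_zero _ (by omega))
  have hpos : 0 < q ^ ((k + 1) * k) * (c + 2) * P := Nat.mul_pos (Nat.mul_pos hA (by omega)) hP
  apply Nat.eq_of_mul_eq_mul_right hpos
  rw [hc, Nat.add_sub_cancel]
  calc 2 * I * (q ^ ((k + 1) * k) * (c + 2) * P)
      = I * (2 * q ^ ((k + 1) * k) * (c + 1 + 1) * P) := by ring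
    _ = q ^ ((k + 1) * k) * (c + 1) * (P * (c * (c + 2))) := h
    _ = (c + 1) * c * (q ^ ((k + 1) * k) * (c + 2) * P) := by ring

theorem prod_pos (q k : ℕ) (hq : 2 ≤ q) : 0 < ∏ i ∈ Finset.range k, (q ^ (2 * (i + 1)) - 1) := by
  apply Finset.prod_pos
  intro i _
  have : 2 ≤ q ^ (2 * (i + 1)) := by
    calc 2 ≤ q := hq
      _ = q ^ 1 := (pow_one q).symm
      _ ≤ q ^ (2 * (i + 1)) := Nat.pow_le_pow_right (by omega) (by omega)
  omega

/-- an odd prime dividing `I` with `2 I = q^d (q^d ± 1)`, `q` a power of two -/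
theorem odd_dvd (q j r I D E : ℕ) (hq : q = 2 ^ j) (hr : r.Prime) (hr2 : r ≠ 2) (h : r ∣ I)
    (hI : 2 * I = q ^ D * E) : r ∣ E := by
  have h1 : r ∣ q ^ D * E := by rw [← hI]; exact Dvd.dvd.mul_left h 2
  rcases (Nat.Prime.dvd_mul hr).1 h1 with h2 | h2
  · exfalso
    rw [hq] at h2
    have h3 := hr.dvd_of_dvd_pow h2
    have h4 := hr.dvd_of_dvd_pow h3
    exact hr2 ((Nat.prime_dvd_prime_iff_eq hr Nat.prime_two).1 h4)
  · exact h2

section Core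

variable {F : Type*} [Field F] [Fintype F] [CharP F 2]

theorem finrank_KK (d : ℕ) : finrank F (KK d → F) = 2 * d := by
  rw [Module.finrank_fintype_fun_eq_card, Fintype.card_sum, Fintype.card_fin, two_mul]

theorem plus_of_ts (d : ℕ) (Q : (KK d → F) → F) (U : Submodule F (KK d → F))
    (hU : ∀ u ∈ U, Q u = 0) (hdim : finrank F U = d) : Cfsg.Geo.IsPlusTypeOn Q ⊤ := by
  refine ⟨U, le_top, hU, ?_⟩
  rw [hdim, finrank_top, finrank_KK]

theorem ts_of_plus (d : ℕ) (Q : (KK d → F) → F) (h : Cfsg.Geo.IsPlusTypeOn Q ⊤) :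
    ∃ U : Submodule F (KK d → F), (∀ u ∈ U, Q u = 0) ∧ finrank F U = d := by
  obtain ⟨U, -, hU, hdim⟩ := h
  rw [finrank_top, finrank_KK] at hdim
  exact ⟨U, hU, by omega⟩

/-- the linear equivalence of an invertible matrix -/
noncomputable def glEquiv {ι : Type} [Fintype ι] [DecidableEq ι] (g : GL ι F) :
    (ι → F) ≃ₗ[F] (ι → F) :=
  Matrix.toLin'OfInv (M := ((g⁻¹ : GL ι F) : Matrix ι ι F)) (M' := (g : Matrix ι ι F))
    (by rw [← Units.val_mul, inv_mul_cancel, Units.val_one])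
    (by rw [← Units.val_mul, mul_inv_cancel, Units.val_one])

theorem glEquiv_apply {ι : Type} [Fintype ι] [DecidableEq ι] (g : GL ι F) (v : ι → F) :
    glEquiv g v = (g : Matrix ι ι F) *ᵥ v := by
  show Matrix.toLin' (g : Matrix ι ι F) v = _
  rw [Matrix.toLin'_apply]

theorem inv_mulVec_mulVec {ι : Type} [Fintype ι] [DecidableEq ι] (g : GL ι F) (v : ι → F) :
    ((g⁻¹ : GL ι F) : Matrix ι ι F) *ᵥ ((g : Matrix ι ι F) *ᵥ v) = v := by
  rw [Matrix.mulVec_mulVec, ← Units.val_mul, inv_mul_cancel, Units.val_one, Matrix.one_mulVec]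

theorem mulVec_inv_mulVec {ι : Type} [Fintype ι] [DecidableEq ι] (g : GL ι F) (v : ι → F) :
    (g : Matrix ι ι F) *ᵥ (((g⁻¹ : GL ι F) : Matrix ι ι F) *ᵥ v) = v := by
  rw [Matrix.mulVec_mulVec, ← Units.val_mul, mul_inv_cancel, Units.val_one, Matrix.one_mulVec]

/-- replacing `Q` by `Q ∘ g⁻¹` -/
theorem transfer (d : ℕ) (hd : 1 ≤ d) (Q : (KK d → F) → F)
    (hs : ∀ (c : F) (v : KK d → F), Q (c • v) = c ^ 2 * Q v)
    (hQf : ∀ u v, QuadraticMap.polar Q u v = Cfsg.sympForm d F u v)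
    (x g : GL (KK d) F) (hg : g ∈ Cfsg.spGL d F) (hx : x ∈ Cfsg.spGL d F)
    (ht : g⁻¹ * x * g ∈ Cfsg.Geo.quadSimilarityGroup Q) :
    ∃ Q' : (KK d → F) → F, (∀ (c : F) (v : KK d → F), Q' (c • v) = c ^ 2 * Q' v) ∧
      (∀ u v, QuadraticMap.polar Q' u v = Cfsg.sympForm d F u v) ∧
      (∀ v, Q' ((x : Matrix (KK d) (KK d) F) *ᵥ v) = Q' v) ∧
      (Cfsg.Geo.IsPlusTypeOn Q' ⊤ ↔ Cfsg.Geo.IsPlusTypeOn Q ⊤) := by
  have htsp : g⁻¹ * x * g ∈ Cfsg.spGL d F :=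
    Subgroup.mul_mem _ (Subgroup.mul_mem _ (Subgroup.inv_mem _ hg) hx) hg
  have htiso : g⁻¹ * x * g ∈ Cfsg.isometryGroup F Q := by
    rw [← quadSim_inf_sp d hd Q hQf]
    exact ⟨ht, htsp⟩
  rw [Cfsg.Agent.Lib.H11.IsoReindex.mem_iso_iff'] at htiso
  have hginv : ∀ u v, Cfsg.sympForm d F (((g⁻¹ : GL (KK d) F) : Matrix (KK d) (KK d) F) *ᵥ u)
      (((g⁻¹ : GL (KK d) F) : Matrix (KK d) (KK d) F) *ᵥ v) = Cfsg.sympForm d F u v :=
    Subgroup.inv_mem _ hg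
  refine ⟨fun v => Q (((g⁻¹ : GL (KK d) F) : Matrix (KK d) (KK d) F) *ᵥ v), ?_, ?_, ?_, ?_⟩
  · intro c v
    show Q (((g⁻¹ : GL (KK d) F) : Matrix (KK d) (KK d) F) *ᵥ (c • v)) = _
    rw [Matrix.mulVec_smul, hs]
  · intro u v
    have : QuadraticMap.polar (fun v => Q (((g⁻¹ : GL (KK d) F) : Matrix (KK d) (KK d) F) *ᵥ v))
        u v = QuadraticMap.polar Q (((g⁻¹ : GL (KK d) F) : Matrix (KK d) (KK d) F) *ᵥ u)
          (((g⁻¹ : GL (KK d) F) : Matrix (KK d) (KK d) F) *ᵥ v) := by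
      unfold QuadraticMap.polar
      show Q (((g⁻¹ : GL (KK d) F) : Matrix (KK d) (KK d) F) *ᵥ (u + v)) - _ - _ = _
      rw [Matrix.mulVec_add]
    rw [this, hQf, hginv]
  · intro v
    show Q (((g⁻¹ : GL (KK d) F) : Matrix (KK d) (KK d) F) *ᵥ ((x : Matrix (KK d) (KK d) F) *ᵥ v)) =
      Q (((g⁻¹ : GL (KK d) F) : Matrix (KK d) (KK d) F) *ᵥ v)
    have h1 := htiso (((g⁻¹ : GL (KK d) F) : Matrix (KK d) (KK d) F) *ᵥ v)
    rw [← h1]
    congr 1
    show _ = ((g⁻¹ * x * g : GL (KK d) F) : Matrix (KK d) (KK d) F) *ᵥ _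
    rw [Units.val_mul, Units.val_mul, ← Matrix.mulVec_mulVec, ← Matrix.mulVec_mulVec,
      mulVec_inv_mulVec]
  · constructor
    · intro h
      obtain ⟨U, hU, hdim⟩ := ts_of_plus d _ h
      refine plus_of_ts d Q (U.map (glEquiv g⁻¹ : (KK d → F) →ₗ[F] (KK d → F))) ?_ ?_
      · rintro _ ⟨u, hu, rfl⟩
        rw [LinearEquiv.coe_coe, glEquiv_apply]
        exact hU u hu
      · rw [LinearEquiv.finrank_map_eq, hdim]
    · intro h
      obtain ⟨U, hU, hdim⟩ := ts_of_plus d _ h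
      refine plus_of_ts d _ (U.map (glEquiv g : (KK d → F) →ₗ[F] (KK d → F))) ?_ ?_
      · rintro _ ⟨u, hu, rfl⟩
        rw [LinearEquiv.coe_coe, glEquiv_apply]
        show Q (((g⁻¹ : GL (KK d) F) : Matrix (KK d) (KK d) F) *ᵥ ((g : Matrix (KK d) (KK d) F) *ᵥ u)) = 0
        rw [inv_mulVec_mulVec]
        exact hU u hu
      · rw [LinearEquiv.finrank_map_eq, hdim]

/-- (1) a fixed-point-free isometry of odd prime order `r ∣ q^d + 1` forces minus type -/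
theorem not_plus_of_fpf (k : ℕ) (Q' : (KK (k + 1) → F) → F)
    (hs : ∀ (c : F) (v : KK (k + 1) → F), Q' (c • v) = c ^ 2 * Q' v)
    (hQf : ∀ u v, QuadraticMap.polar Q' u v = Cfsg.sympForm (k + 1) F u v)
    (x : GL (KK (k + 1)) F)
    (hxQ : ∀ v, Q' ((x : Matrix (KK (k + 1)) (KK (k + 1)) F) *ᵥ v) = Q' v)
    (r : ℕ) [Fact r.Prime] (hr2 : r ≠ 2) (hr : r ∣ Fintype.card F ^ (k + 1) + 1)
    (hxr : x ^ r = 1)
    (hfix : ∀ v, (x : Matrix (KK (k + 1)) (KK (k + 1)) F) *ᵥ v = v → v = 0) :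
    ¬ Cfsg.Geo.IsPlusTypeOn Q' ⊤ := by
  intro hP
  obtain ⟨U, hU, hdim⟩ := ts_of_plus (k + 1) Q' hP
  obtain ⟨b, hb⟩ := exists_plus_basis (mkQF (k + 1) Q' hs hQf) (nondeg_mkQF (k + 1) Q' hs hQf)
    (finrank_KK (k + 1)) U (by omega) hU
  have hmem : x ∈ Cfsg.isometryGroup F Q' :=
    (Cfsg.Agent.Lib.H11.IsoReindex.mem_iso_iff' _ _).mpr hxQ
  have h1 := dvd_card_singular (natRep Q') (mkQF (k + 1) Q' hs hQf) (natRep_pres Q')
    (⟨x, hmem⟩ : ↥(Cfsg.isometryGroup F Q')) r (Subtype.ext hxr)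
    (fun v hv => hfix v (by rw [natRep_apply] at hv; exact hv))
  have e : {v : KK (k + 1) → F // v ≠ 0 ∧ (mkQF (k + 1) Q' hs hQf) v = 0} ≃
      {w : Fin (k + 1) ⊕ Fin (k + 1) → F // w ≠ 0 ∧ Cfsg.quadFormPlus (k + 1) F w = 0} :=
    b.equivFun.toEquiv.subtypeEquiv (fun v => by
      rw [hb v]
      simp)
  rw [Nat.card_congr e, MinusFix.card_singular_plus (k + 1) (by omega)] at h1
  exact MinusFix.arith_plus (Fintype.card F) k r Fintype.card_pos Fact.out hr2 hr h1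

/-- (2) a Levi element without eigenvalue one forces plus type -/
theorem plus_of_levi (d : ℕ) (Q' : (KK d → F) → F)
    (hQf : ∀ u v, QuadraticMap.polar Q' u v = Cfsg.sympForm d F u v)
    (g₀ : GL (Fin d) F)
    (hg₀ : ∀ u : Fin d → F, (g₀ : Matrix (Fin d) (Fin d) F) *ᵥ u = u → u = 0)
    (hxQ : ∀ v, Q' (PlusLevi.leviM g₀ *ᵥ v) = Q' v) : Cfsg.Geo.IsPlusTypeOn Q' ⊤ := by
  refine plus_of_ts d Q' (PlusTS.U0 F d) ?_ PlusTS.finrank_U0
  have hadd : ∀ u v : KK d → F, Q' (u + v) = Q' u + Q' v + Cfsg.sympForm d F u v := by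
    intro u v
    rw [← hQf]
    unfold QuadraticMap.polar
    ring
  have hU0 : ∀ u ∈ PlusTS.U0 F d, ∀ v ∈ PlusTS.U0 F d, Cfsg.sympForm d F u v = 0 := by
    intro u hu v hv
    rw [PlusTS.mem_U0_iff] at hu hv
    rw [Cfsg.Agent.Lib.H2.Sp.sympForm_eq]
    apply Finset.sum_eq_zero
    intro i _
    have h1 : u (Sum.inr i) = 0 := congrFun hu i
    have h2 : v (Sum.inr i) = 0 := congrFun hv i
    rw [h1, h2]
    ring
  -- the map `b ↦ g₀ b + b` is surjective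
  let N : (Fin d → F) →ₗ[F] (Fin d → F) :=
    Matrix.toLin' (g₀ : Matrix (Fin d) (Fin d) F) + LinearMap.id
  have hNinj : Function.Injective N := by
    rw [← LinearMap.ker_eq_bot, LinearMap.ker_eq_bot']
    intro b hb
    apply hg₀
    have h1 : (g₀ : Matrix (Fin d) (Fin d) F) *ᵥ b + b = 0 := by
      have : N b = 0 := hb
      simpa [N, Matrix.toLin'_apply] using this
    have h2 : (g₀ : Matrix (Fin d) (Fin d) F) *ᵥ b = -b := eq_neg_of_add_eq_zero_left h1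
    rw [h2]
    funext i
    show -b i = b i
    have := Char2Gen.add_self_zero F (b i)
    exact neg_eq_of_add_eq_zero_left this
  have hNsurj : Function.Surjective N := LinearMap.injective_iff_surjective.1 hNinj
  intro u hu
  obtain ⟨b, hb⟩ := hNsurj (u ∘ Sum.inl)
  have hb' : (g₀ : Matrix (Fin d) (Fin d) F) *ᵥ b + b = u ∘ Sum.inl := by
    have : N b = u ∘ Sum.inl := hb
    simpa [N, Matrix.toLin'_apply] using this
  set w : KK d → F := Sum.elim b 0 with hw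
  have hwU : w ∈ PlusTS.U0 F d := by
    rw [PlusTS.mem_U0_iff]
    funext i
    simp [hw]
  have hxw : PlusLevi.leviM g₀ *ᵥ w = Sum.elim ((g₀ : Matrix (Fin d) (Fin d) F) *ᵥ b) 0 := by
    rw [PlusLevi.leviM, hw, Matrix.fromBlocks_mulVec]
    simp
  have hxwU : PlusLevi.leviM g₀ *ᵥ w ∈ PlusTS.U0 F d := by
    rw [PlusTS.mem_U0_iff, hxw]
    funext i
    simp
  have hu' : u = PlusLevi.leviM g₀ *ᵥ w + w := by
    rw [PlusTS.mem_U0_iff] at hu
    rw [hxw, hw]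
    funext i
    rcases i with i | i
    · have := congrFun hb' i
      simp only [Pi.add_apply, Function.comp_apply] at this
      simp only [Pi.add_apply, Sum.elim_inl]
      exact this.symm
    · have := congrFun hu i
      simp only [Function.comp_apply, Pi.zero_apply] at this
      simp [this]
  rw [hu', hadd, hxQ, hU0 _ hxwU _ hwU, add_zero]
  exact Char2Gen.add_self_zero F _

/-- (3) an isometry of exceptional type forces plus type -/
theorem plus_of_exc (d : ℕ) (Q' : (KK d → F) → F)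
    (hs : ∀ (c : F) (v : KK d → F), Q' (c • v) = c ^ 2 * Q' v)
    (hQf : ∀ u v, QuadraticMap.polar Q' u v = Cfsg.sympForm d F u v)
    (T : Matrix (KK d) (KK d) F) (hTQ : ∀ v, Q' (T *ᵥ v) = Q' v) (hrank : (T - 1).rank = d)
    (halt : ∀ v, Cfsg.sympForm d F v (T *ᵥ v) = 0) : Cfsg.Geo.IsPlusTypeOn Q' ⊤ := by
  refine plus_of_ts d Q' (LinearMap.range (Matrix.mulVecLin (T - 1))) ?_ hrank
  rintro _ ⟨w, rfl⟩
  rw [Matrix.mulVecLin_apply, Matrix.sub_mulVec, Matrix.one_mulVec]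
  have h1 := Q_sub_eq (mkQF d Q' hs hQf) (Matrix.toLin' T)
    (fun y => by rw [Matrix.toLin'_apply]; exact hTQ y) w
  rw [Matrix.toLin'_apply, coe_mkQF, hQf, halt w] at h1
  exact h1

end Core

end Cfsg.Agent.Lib.H13.SpQuadElts
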