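import Cfsg.Agent.Lib.H13.SpQuadElts

set_option autoImplicit false

namespace Cfsg.Agent.Lib.H13.SpQuadMain

open Module Matrix QuadraticMap
open scoped MatrixGroups
open Cfsg.Agent.Lib.H13 Cfsg.Agent.Lib.H13.SpInvolCount Cfsg.Agent.Lib.H13.TraceForm
  Cfsg.Agent.Lib.H13.SpQuadIndex Cfsg.Agent.Lib.H13.MinusClass Cfsg.Agent.Lib.H13.OInvol
  Cfsg.Agent.Lib.H13.SpQuadElts

/-- the reindexing `IM k ≃ KK (k + 1)` -/
def eIdx (k : ℕ) : IM k ≃ KK (k + 1) where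
  toFun
    | .inl (.inl i) => .inl i.succ
    | .inl (.inr i) => .inr i.succ
    | .inr j => if j = 0 then .inl 0 else .inr 0
  invFun
    | .inl i => Fin.cases (.inr 0) (fun j => .inl (.inl j)) i
    | .inr i => Fin.cases (.inr 1) (fun j => .inl (.inr j)) i
  left_inv := by
    rintro ((i | i) | j)
    · simp
    · simp
    · fin_cases j
      · simp
      · simp
  right_inv := by
    rintro (i | i)
    · refine Fin.cases ?_ (fun j => ?_) i
      · simp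
      · simp
    · refine Fin.cases ?_ (fun j => ?_) i
      · simp
      · simp

section

variable {F : Type*} [Field F] [Fintype F] [CharP F 2]

/-- a minus-type form with polar form `sympForm` -/
def Qm (k : ℕ) (ζ : F) (v : KK (k + 1) → F) : F := Cfsg.quadFormMinus k F 1 ζ (v ∘ eIdx k)

theorem Qm_eq (k : ℕ) (ζ : F) (v : KK (k + 1) → F) :
    Qm k ζ v = Cfsg.quadFormPlus (k + 1) F v + v (Sum.inl 0) ^ 2 + ζ * v (Sum.inr 0) ^ 2 := by
  unfold Qm Cfsg.quadFormMinus Cfsg.quadFormPlus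
  rw [Fin.sum_univ_succ]
  simp only [Function.comp_apply, eIdx, Equiv.coe_fn_mk]
  simp
  ring

theorem polar_Qm (k : ℕ) (ζ : F) (u v : KK (k + 1) → F) :
    QuadraticMap.polar (Qm k ζ) u v = Cfsg.sympForm (k + 1) F u v := by
  have h2 : (2 : F) = 0 := CharTwo.two_eq_zero
  rw [← polar_plus_eq_symp]
  unfold QuadraticMap.polar
  rw [Qm_eq, Qm_eq, Qm_eq]
  simp only [Pi.add_apply]
  linear_combination (u (Sum.inl 0) * v (Sum.inl 0) + ζ * u (Sum.inr 0) * v (Sum.inr 0)) * h2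

/-- an element of `Sp` of odd prime order `r ∣ q^d + 1` without nonzero fixed vectors -/
theorem x_minus (k : ℕ) (r : ℕ) [Fact r.Prime] (hr2 : r ≠ 2)
    (hr : r ∣ Fintype.card F ^ (k + 1) + 1) :
    ∃ x : GL (KK (k + 1)) F, x ∈ Cfsg.spGL (k + 1) F ∧ x ^ r = 1 ∧
      ∀ v, (x : Matrix (KK (k + 1)) (KK (k + 1)) F) *ᵥ v = v → v = 0 := by
  obtain ⟨ζ, hζ⟩ := MinusFix.exists_irred F
  have hab := MinusFix.aniso_of_irred ζ hζ
  obtain ⟨x₀, hx₀r, hx₀⟩ := MinusFix.exists_fpf_minus k 1 ζ hab r hr2 hr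
  let θ : (IM k → F) ≃ₗ[F] (KK (k + 1) → F) := LinearEquiv.funCongrLeft F F (eIdx k).symm
  have hθ : ∀ u, θ u = u ∘ (eIdx k).symm := fun u => rfl
  have hb : ∀ u : IM k → F, (⇑(minusQF F k 1 ζ)) u = Qm k ζ (θ u) := by
    intro u
    rw [Cfsg.Agent.S0288.coe_minusQF, hθ]
    unfold Qm
    congr 1
    funext i
    simp
  obtain ⟨φ, hφ⟩ := exists_hom_isometryGroup θ (Qm k ζ) (⇑(minusQF F k 1 ζ)) hb
    (natRep _) (natRep_pres _)
  refine ⟨((φ x₀ : ↥(Cfsg.isometryGroup F (Qm k ζ))) : GL (KK (k + 1)) F), ?_, ?_, ?_⟩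
  · have hle : Cfsg.isometryGroup F (Qm k ζ) ≤ Cfsg.spGL (k + 1) F := by
      rw [← quadSim_inf_sp (k + 1) (by omega) (Qm k ζ) (polar_Qm k ζ)]
      exact inf_le_right
    exact hle (φ x₀).2
  · rw [← SubmonoidClass.coe_pow, ← map_pow, hx₀r, map_one]
    rfl
  · intro w hw
    obtain ⟨v, rfl⟩ := θ.surjective w
    have h1 := hφ x₀ v
    rw [hw, natRep_apply] at h1
    have h2 := θ.injective h1
    rw [hx₀ v h2.symm, map_zero]

/-- classification of `Q` by type, with coordinates -/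
theorem classify_Q (k : ℕ) (Q : (KK (k + 1) → F) → F)
    (hs : ∀ (c : F) (v : KK (k + 1) → F), Q (c • v) = c ^ 2 * Q v)
    (hQf : ∀ u v, QuadraticMap.polar Q u v = Cfsg.sympForm (k + 1) F u v) :
    (Cfsg.Geo.IsPlusTypeOn Q ⊤ ∧ ∃ θ : (KK (k + 1) → F) ≃ₗ[F] (KK (k + 1) → F),
      ∀ v, Q v = Cfsg.quadFormPlus (k + 1) F (θ v)) ∨
    (¬ Cfsg.Geo.IsPlusTypeOn Q ⊤ ∧ ∃ ζ : F, (∀ t : F, t ^ 2 + t + ζ ≠ 0) ∧
      ∃ θ : (KK (k + 1) → F) ≃ₗ[F] (IM k → F), ∀ v, Q v = Cfsg.quadFormMinus k F 1 ζ (θ v)) := by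
  by_cases hP : Cfsg.Geo.IsPlusTypeOn Q ⊤
  · left
    refine ⟨hP, ?_⟩
    obtain ⟨U, hU, hdim⟩ := ts_of_plus (k + 1) Q hP
    obtain ⟨b, hb⟩ := exists_plus_basis (mkQF (k + 1) Q hs hQf) (nondeg_mkQF (k + 1) Q hs hQf)
      (finrank_KK (k + 1)) U (by omega) hU
    exact ⟨b.equivFun, hb⟩
  · right
    refine ⟨hP, ?_⟩
    rcases classify (mkQF (k + 1) Q hs hQf) (nondeg_mkQF (k + 1) Q hs hQf) (d := k + 1) (by omega)
      (finrank_KK (k + 1)) with ⟨Φ, hΦ⟩ | ⟨ζ, hζ, Φ, hΦ⟩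
    · exfalso
      apply hP
      refine plus_of_ts (k + 1) Q ((PlusTS.U0 F (k + 1)).map
        (Φ.symm : (KK (k + 1) → F) →ₗ[F] (KK (k + 1) → F))) ?_ ?_
      · rintro _ ⟨u, hu, rfl⟩
        have := hΦ (Φ.symm u)
        rw [coe_mkQF, LinearEquiv.apply_symm_apply] at this
        rw [LinearEquiv.coe_coe, this, ← Cfsg.Agent.S0287.coe_plusQF]
        exact PlusTS.U0_ts u hu
      · rw [LinearEquiv.finrank_map_eq, PlusTS.finrank_U0]
    · exact ⟨ζ, hζ, Φ, hΦ⟩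

/-- the odd primes dividing the index -/
theorem dvd_of_index (k : ℕ) (Q : (KK (k + 1) → F) → F)
    (hs : ∀ (c : F) (v : KK (k + 1) → F), Q (c • v) = c ^ 2 * Q v)
    (hQf : ∀ u v, QuadraticMap.polar Q u v = Cfsg.sympForm (k + 1) F u v)
    (r : ℕ) [Fact r.Prime] (hr2 : r ≠ 2)
    (hΩ : r ∣ (Cfsg.Geo.quadSimilarityGroup Q).relIndex (Cfsg.spGL (k + 1) F)) :
    (Cfsg.Geo.IsPlusTypeOn Q ⊤ → r ∣ Fintype.card F ^ (k + 1) + 1) ∧
    (¬ Cfsg.Geo.IsPlusTypeOn Q ⊤ → r ∣ Fintype.card F ^ (k + 1) - 1) := by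
  have hidx := relIndex_mul_card (k + 1) (by omega) Q hQf
  rw [card_spGL, Finset.prod_range_succ] at hidx
  obtain ⟨j, hj⟩ := FiniteField.card F 2
  have hq2 : 2 ≤ Fintype.card F := Fintype.one_lt_card
  have hPpos := prod_pos (Fintype.card F) k hq2
  rcases classify_Q k Q hs hQf with ⟨hP, θ, hθ⟩ | ⟨hP, ζ, hζ, θ, hθ⟩
  · refine ⟨fun _ => ?_, fun h => absurd hP h⟩
    have hcard := card_iso_eq Q (Cfsg.quadFormPlus (k + 1) F) θ hθ
    have hO := Cfsg.Agent.S0287.result (F := F) rfl (k + 1) (by omega)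
    simp only [Nat.add_sub_cancel] at hO
    rw [hcard, hO] at hidx
    have h2I := arith_index_plus (Fintype.card F) k _ _ hq2 hPpos hidx
    exact odd_dvd (Fintype.card F) j r _ (k + 1) _ hj.2 Fact.out hr2 hΩ h2I
  · refine ⟨fun h => absurd h hP, fun _ => ?_⟩
    have hcard := card_iso_eq Q (Cfsg.quadFormMinus k F 1 ζ) θ hθ
    have hO := Cfsg.Agent.S0288.main_k (F := F) 1 ζ (MinusFix.aniso_of_irred ζ hζ) k
    rw [hcard, hO] at hidx
    have h2I := arith_index_minus (Fintype.card F) k _ _ hq2 hPpos hidx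
    exact odd_dvd (Fintype.card F) j r _ (k + 1) _ hj.2 Fact.out hr2 hΩ h2I

/-- a scalar symplectic matrix is the identity in characteristic two -/
theorem sp_scalar_eq_one (d : ℕ) (hd : 1 ≤ d) (x : GL (KK d) F) (hx : x ∈ Cfsg.spGL d F) (z : F)
    (hz : (x : Matrix (KK d) (KK d) F) = z • (1 : Matrix (KK d) (KK d) F)) : z = 1 := by
  obtain ⟨w, hw⟩ := Cfsg.Agent.Lib.H2.Sp.exists_sympForm_ne_zero d
    (Pi.single (Sum.inl ⟨0, hd⟩) 1 : KK d → F) (by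
      intro h
      have := congrFun h (Sum.inl ⟨0, hd⟩)
      simp at this)
  have h1 : Cfsg.sympForm d F ((x : Matrix (KK d) (KK d) F) *ᵥ (Pi.single (Sum.inl ⟨0, hd⟩) 1))
      ((x : Matrix (KK d) (KK d) F) *ᵥ w) = Cfsg.sympForm d F (Pi.single (Sum.inl ⟨0, hd⟩) 1) w :=
    hx _ _
  rw [hz, Matrix.smul_mulVec, Matrix.smul_mulVec, Matrix.one_mulVec, Matrix.one_mulVec,
    Cfsg.Agent.Lib.H4.sympForm_smul_left, Cfsg.Agent.Lib.H4.sympForm_smul_right] at h1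
  have h2 : z * z = 1 := by
    have : (z * z - 1) * Cfsg.sympForm d F (Pi.single (Sum.inl ⟨0, hd⟩) 1) w = 0 := by
      rw [sub_mul, one_mul, mul_assoc, h1, sub_self]
    rcases mul_eq_zero.1 this with h | h
    · exact sub_eq_zero.1 h
    · exact absurd h hw
  have h3 : (z + 1) * (z + 1) = 0 := by
    have : (z + 1) * (z + 1) = z * z + 1 + (z + z) := by ring
    rw [this, h2, Char2Gen.add_self_zero F z, Char2Gen.add_self_zero F 1, add_zero]
  have h4 : z + 1 = 0 := by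
    rcases mul_eq_zero.1 h3 with h | h <;> exact h
  have : z = z + (1 + 1) := by rw [Char2Gen.add_self_zero F 1, add_zero]
  rw [this, ← add_assoc, h4, zero_add]

theorem iso_plus_le_sp (d : ℕ) (hd : 1 ≤ d) :
    Cfsg.isometryGroup F ⇑(plusQF F d) ≤ Cfsg.spGL d F := by
  rw [Cfsg.Agent.S0287.coe_plusQF,
    ← quadSim_inf_sp d hd (Cfsg.quadFormPlus d F) (polar_plus_eq_symp d)]
  exact inf_le_right

/-- the forward direction -/
theorem forward (k : ℕ) (hk : 1 ≤ k) (Q : (KK (k + 1) → F) → F)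
    (hs : ∀ (c : F) (v : KK (k + 1) → F), Q (c • v) = c ^ 2 * Q v)
    (hQf : ∀ u v, QuadraticMap.polar Q u v = Cfsg.sympForm (k + 1) F u v)
    (r : ℕ) [Fact r.Prime]
    (hΩ : r ∣ (Cfsg.Geo.quadSimilarityGroup Q).relIndex (Cfsg.spGL (k + 1) F))
    (H : ∀ x ∈ Cfsg.spGL (k + 1) F,
      (∃ z : F, ((x ^ r : GL (KK (k + 1)) F) : Matrix (KK (k + 1)) (KK (k + 1)) F) =
        z • (1 : Matrix (KK (k + 1)) (KK (k + 1)) F)) →
      (∀ z : F, (x : Matrix (KK (k + 1)) (KK (k + 1)) F) ≠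
        z • (1 : Matrix (KK (k + 1)) (KK (k + 1)) F)) →
      ∃ g ∈ Cfsg.spGL (k + 1) F, g⁻¹ * x * g ∈ Cfsg.Geo.quadSimilarityGroup Q) :
    r = 2 ∧ (Cfsg.Geo.IsPlusTypeOn Q ⊤ ∨ Odd (k + 1)) := by
  have he0 : (Pi.single (Sum.inl ⟨0, by omega⟩) 1 : KK (k + 1) → F) ≠ 0 := by
    intro h
    have := congrFun h (Sum.inl ⟨0, by omega⟩)
    simp at this
  have hr2 : r = 2 := by
    by_contra hr2
    obtain ⟨h1, h2⟩ := dvd_of_index k Q hs hQf r hr2 hΩ
    by_cases hP : Cfsg.Geo.IsPlusTypeOn Q ⊤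
    · obtain ⟨x, hxsp, hxr, hxfix⟩ := x_minus (F := F) k r hr2 (h1 hP)
      obtain ⟨g, hg, ht⟩ := H x hxsp ⟨1, by rw [hxr]; simp⟩ (by
        intro z hz
        have hz1 := sp_scalar_eq_one (k + 1) (by omega) x hxsp z hz
        rw [hz1, one_smul] at hz
        exact he0 (hxfix _ (by rw [hz, Matrix.one_mulVec])))
      obtain ⟨Q', hs', hQf', hxQ', hiff⟩ := transfer (k + 1) (by omega) Q hs hQf x g hg hxsp ht
      exact not_plus_of_fpf k Q' hs' hQf' x hxQ' r hr2 (h1 hP) hxr hxfix (hiff.2 hP)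
    · obtain ⟨g₀, hg₀r, hg₀⟩ := Singer.exists_fpf F 2 (k + 1) (by omega) r (h2 hP)
      have hxsp : ((PlusLevi.levi g₀ : ↥(Cfsg.isometryGroup F ⇑(plusQF F (k + 1)))) :
          GL (KK (k + 1)) F) ∈ Cfsg.spGL (k + 1) F :=
        iso_plus_le_sp (k + 1) (by omega) (PlusLevi.levi g₀).2
      have hfixall : ∀ v : KK (k + 1) → F,
          (((PlusLevi.levi g₀ : ↥(Cfsg.isometryGroup F ⇑(plusQF F (k + 1)))) :
            GL (KK (k + 1)) F) : Matrix (KK (k + 1)) (KK (k + 1)) F) *ᵥ v = v →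
            v ∘ Sum.inl = 0 := by
        intro v hv
        apply hg₀
        rw [PlusLevi.levi_val, PlusLevi.leviM, fromBlocks_mulVec] at hv
        have := congrArg (fun w : KK (k + 1) → F => w ∘ Sum.inl) hv
        simpa using this
      obtain ⟨g, hg, ht⟩ := H _ hxsp
        ⟨1, by rw [← SubmonoidClass.coe_pow, ← map_pow, hg₀r, map_one]; simp⟩ (by
        intro z hz
        have hz1 := sp_scalar_eq_one (k + 1) (by omega) _ hxsp z hz
        rw [hz1, one_smul] at hz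
        have h0 := hfixall (Pi.single (Sum.inl ⟨0, by omega⟩) 1) (by rw [hz, Matrix.one_mulVec])
        have := congrFun h0 ⟨0, by omega⟩
        simp at this)
      obtain ⟨Q', hs', hQf', hxQ', hiff⟩ := transfer (k + 1) (by omega) Q hs hQf _ g hg hxsp ht
      exact hP (hiff.1 (plus_of_levi (k + 1) Q' hQf' g₀ hg₀ hxQ'))
  refine ⟨hr2, ?_⟩
  by_contra hcon
  push Not at hcon
  obtain ⟨hP, hodd⟩ := hcon
  rw [Nat.not_odd_iff_even] at hodd
  obtain ⟨e, he⟩ := hodd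
  obtain ⟨T, hT2, hTr, hTalt⟩ := OInvolStd.rep_swap_plus (F := F) (k + 1) e (by omega)
  have hxsp : (T : GL (KK (k + 1)) F) ∈ Cfsg.spGL (k + 1) F :=
    iso_plus_le_sp (k + 1) (by omega) T.2
  obtain ⟨g, hg, ht⟩ := H _ hxsp
    ⟨1, by rw [hr2, pow_two, Units.val_mul, val_mul_self (plusQF F (k + 1)) T hT2, one_smul]⟩ (by
      intro z hz
      have hz1 := sp_scalar_eq_one (k + 1) (by omega) _ hxsp z hz
      rw [hz1, one_smul] at hz
      rw [hz, sub_self, Matrix.rank_zero] at hTr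
      omega)
  obtain ⟨Q', hs', hQf', hxQ', hiff⟩ := transfer (k + 1) (by omega) Q hs hQf _ g hg hxsp ht
  apply hP
  apply hiff.1
  refine plus_of_exc (k + 1) Q' hs' hQf' _ hxQ' (by rw [hTr]; omega) ?_
  intro v
  rw [← polar_plus_eq_symp, ← Cfsg.Agent.S0287.coe_plusQF]
  exact hTalt v

/-- transport of an involution along an isometry of quadratic spaces -/
theorem transport_invol {ι ι₀ : Type} [Fintype ι] [DecidableEq ι] [Fintype ι₀] [DecidableEq ι₀]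
    (Q : (ι → F) → F) (Q₀ : (ι₀ → F) → F) (θ : (ι → F) ≃ₗ[F] (ι₀ → F)) (hθ : ∀ v, Q v = Q₀ (θ v))
    (T₀ : ↥(Cfsg.isometryGroup F Q₀)) (hT : T₀ * T₀ = 1) :
    ∃ t₁ : ↥(Cfsg.isometryGroup F Q), t₁ * t₁ = 1 ∧
      (((t₁ : GL ι F) : Matrix ι ι F) - 1).rank = (((T₀ : GL ι₀ F) : Matrix ι₀ ι₀ F) - 1).rank ∧
      ((∀ v, QuadraticMap.polar Q v (((t₁ : GL ι F) : Matrix ι ι F) *ᵥ v) = 0) ↔
        (∀ v, QuadraticMap.polar Q₀ v (((T₀ : GL ι₀ F) : Matrix ι₀ ι₀ F) *ᵥ v) = 0)) := by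
  have hθ' : ∀ v, Q₀ v = Q (θ.symm v) := by
    intro v
    rw [hθ, LinearEquiv.apply_symm_apply]
  obtain ⟨φ, hφ⟩ := exists_hom_isometryGroup θ.symm Q Q₀ hθ' (natRep Q₀) (natRep_pres Q₀)
  have hform : ∀ u, (((φ T₀ : ↥(Cfsg.isometryGroup F Q)) : GL ι F) : Matrix ι ι F) *ᵥ u =
      θ.symm (((T₀ : GL ι₀ F) : Matrix ι₀ ι₀ F) *ᵥ (θ u)) := by
    intro u
    have := hφ T₀ (θ u)
    rw [LinearEquiv.symm_apply_apply, natRep_apply] at this
    exact this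
  have hpol : ∀ a b, QuadraticMap.polar Q a b = QuadraticMap.polar Q₀ (θ a) (θ b) := by
    intro a b
    unfold QuadraticMap.polar
    rw [hθ, hθ, hθ, map_add]
  refine ⟨φ T₀, by rw [← map_mul, hT, map_one], ?_, ?_⟩
  · have hrange : LinearMap.range (Matrix.mulVecLin
        ((((φ T₀ : ↥(Cfsg.isometryGroup F Q)) : GL ι F) : Matrix ι ι F) - 1)) =
        (LinearMap.range (Matrix.mulVecLin (((T₀ : GL ι₀ F) : Matrix ι₀ ι₀ F) - 1))).map
          (θ.symm : (ι₀ → F) →ₗ[F] (ι → F)) := by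
      ext y
      constructor
      · rintro ⟨u, rfl⟩
        refine ⟨((T₀ : GL ι₀ F) : Matrix ι₀ ι₀ F) *ᵥ (θ u) - θ u, ⟨θ u, ?_⟩, ?_⟩
        · rw [Matrix.mulVecLin_apply, Matrix.sub_mulVec, Matrix.one_mulVec]
        · rw [LinearEquiv.coe_coe, map_sub, LinearEquiv.symm_apply_apply, Matrix.mulVecLin_apply,
            Matrix.sub_mulVec, Matrix.one_mulVec, hform]
      · rintro ⟨_, ⟨w, rfl⟩, rfl⟩
        refine ⟨θ.symm w, ?_⟩
        rw [Matrix.mulVecLin_apply, Matrix.sub_mulVec, Matrix.one_mulVec, hform,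
          LinearEquiv.apply_symm_apply, LinearEquiv.coe_coe, Matrix.mulVecLin_apply,
          Matrix.sub_mulVec, Matrix.one_mulVec, map_sub]
    show finrank F ↥(LinearMap.range (Matrix.mulVecLin
        ((((φ T₀ : ↥(Cfsg.isometryGroup F Q)) : GL ι F) : Matrix ι ι F) - 1))) =
      finrank F ↥(LinearMap.range (Matrix.mulVecLin (((T₀ : GL ι₀ F) : Matrix ι₀ ι₀ F) - 1)))
    rw [hrange, LinearEquiv.finrank_map_eq]
  · constructor
    · intro h w
      have := h (θ.symm w)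
      rw [hpol, hform, LinearEquiv.apply_symm_apply, LinearEquiv.apply_symm_apply] at this
      exact this
    · intro h v
      rw [hpol, hform, LinearEquiv.apply_symm_apply]
      exact h (θ v)

/-- involutions of `O(Q)` of every admissible type -/
theorem exists_rep (k : ℕ) (Q : (KK (k + 1) → F) → F)
    (hs : ∀ (c : F) (v : KK (k + 1) → F), Q (c • v) = c ^ 2 * Q v)
    (hQf : ∀ u v, QuadraticMap.polar Q u v = Cfsg.sympForm (k + 1) F u v)
    (hcase : Cfsg.Geo.IsPlusTypeOn Q ⊤ ∨ Odd (k + 1)) :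
    (∀ r' : ℕ, 2 * r' ≤ k + 1 → ∃ t₁ : ↥(Cfsg.isometryGroup F Q), t₁ * t₁ = 1 ∧
      (((t₁ : GL (KK (k + 1)) F) : Matrix (KK (k + 1)) (KK (k + 1)) F) - 1).rank = 2 * r' ∧
      ∀ v, Cfsg.sympForm (k + 1) F v
        (((t₁ : GL (KK (k + 1)) F) : Matrix (KK (k + 1)) (KK (k + 1)) F) *ᵥ v) = 0) ∧
    (∀ s : ℕ, 1 ≤ s → s ≤ k + 1 → ∃ t₁ : ↥(Cfsg.isometryGroup F Q), t₁ * t₁ = 1 ∧
      (((t₁ : GL (KK (k + 1)) F) : Matrix (KK (k + 1)) (KK (k + 1)) F) - 1).rank = s ∧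
      ¬ ∀ v, Cfsg.sympForm (k + 1) F v
        (((t₁ : GL (KK (k + 1)) F) : Matrix (KK (k + 1)) (KK (k + 1)) F) *ᵥ v) = 0) := by
  rcases classify_Q k Q hs hQf with ⟨hP, θ, hθ⟩ | ⟨hP, ζ, hζ, θ, hθ⟩
  · have hθ' : ∀ v, Q v = (⇑(plusQF F (k + 1))) (θ v) := by
      intro v
      rw [Cfsg.Agent.S0287.coe_plusQF]
      exact hθ v
    constructor
    · intro r' hr'
      obtain ⟨T₀, hT2, hTr, hTalt⟩ := OInvolStd.rep_swap_plus (F := F) (k + 1) r' hr'
      obtain ⟨t₁, h1, h2, h3⟩ := transport_invol Q _ θ hθ' T₀ hT2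
      refine ⟨t₁, h1, by rw [h2, hTr], ?_⟩
      intro v
      rw [← hQf]
      exact h3.2 hTalt v
    · intro s hs1 hs2
      obtain ⟨T₀, hT2, hTr, hTalt⟩ := OInvolStd.rep_id_plus (F := F) (k + 1) s hs1 hs2
      obtain ⟨t₁, h1, h2, h3⟩ := transport_invol Q _ θ hθ' T₀ hT2
      refine ⟨t₁, h1, by rw [h2, hTr], ?_⟩
      intro h
      apply hTalt
      apply h3.1
      intro v
      rw [hQf]
      exact h v
  · have hodd : Odd (k + 1) := by
      rcases hcase with h | h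
      · exact absurd h hP
      · exact h
    have hab := MinusFix.aniso_of_irred ζ hζ
    have hθ' : ∀ v, Q v = (⇑(minusQF F k 1 ζ)) (θ v) := by
      intro v
      rw [Cfsg.Agent.S0288.coe_minusQF]
      exact hθ v
    constructor
    · intro r' hr'
      have hr'' : 2 * r' ≤ k := by
        obtain ⟨m, hm⟩ := hodd
        omega
      obtain ⟨T₀, hT2, hTr, hTalt⟩ := OInvolStd.rep_swap_minus (F := F) k 1 ζ hab r' hr''
      obtain ⟨t₁, h1, h2, h3⟩ := transport_invol Q _ θ hθ' T₀ hT2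
      refine ⟨t₁, h1, by rw [h2, hTr], ?_⟩
      intro v
      rw [← hQf]
      exact h3.2 hTalt v
    · intro s hs1 hs2
      obtain ⟨T₀, hT2, hTr, hTalt⟩ := OInvolStd.rep_id_minus (F := F) k 1 ζ hab s hs1 hs2
      obtain ⟨t₁, h1, h2, h3⟩ := transport_invol Q _ θ hθ' T₀ hT2
      refine ⟨t₁, h1, by rw [h2, hTr], ?_⟩
      intro h
      apply hTalt
      apply h3.1
      intro v
      rw [hQf]
      exact h v

theorem glOf_inv_mulVec {ι : Type} [Fintype ι] [DecidableEq ι] (e : (ι → F) ≃ₗ[F] (ι → F))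
    (v : ι → F) : (((Singer.glOf e)⁻¹ : GL ι F) : Matrix ι ι F) *ᵥ v = e.symm v := by
  show (LinearMap.toMatrix' (e.symm : (ι → F) →ₗ[F] (ι → F))) *ᵥ v = e.symm v
  rw [LinearMap.toMatrix'_mulVec]
  rfl

open Cfsg.Agent.Lib.H13.SpInvol in
/-- the backward direction -/
theorem backward (k : ℕ) (Q : (KK (k + 1) → F) → F)
    (hs : ∀ (c : F) (v : KK (k + 1) → F), Q (c • v) = c ^ 2 * Q v)
    (hQf : ∀ u v, QuadraticMap.polar Q u v = Cfsg.sympForm (k + 1) F u v)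
    (hcase : Cfsg.Geo.IsPlusTypeOn Q ⊤ ∨ Odd (k + 1))
    (x : GL (KK (k + 1)) F) (hx : x ∈ Cfsg.spGL (k + 1) F)
    (hx2 : ∃ z : F, ((x ^ 2 : GL (KK (k + 1)) F) : Matrix (KK (k + 1)) (KK (k + 1)) F) =
        z • (1 : Matrix (KK (k + 1)) (KK (k + 1)) F)) :
    ∃ g ∈ Cfsg.spGL (k + 1) F, g⁻¹ * x * g ∈ Cfsg.Geo.quadSimilarityGroup Q := by
  classical
  obtain ⟨z, hz⟩ := hx2
  have hz1 := sp_scalar_eq_one (k + 1) (by omega) (x ^ 2) (Subgroup.pow_mem _ hx 2) z hz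
  rw [hz1, one_smul] at hz
  have hxx : (x : Matrix (KK (k + 1)) (KK (k + 1)) F) * (x : Matrix (KK (k + 1)) (KK (k + 1)) F) = 1 := by
    rw [← Units.val_mul, ← pow_two]
    exact hz
  obtain ⟨t, htdef⟩ : ∃ t : (KK (k + 1) → F) →ₗ[F] (KK (k + 1) → F),
    t = Matrix.toLin' (x : Matrix (KK (k + 1)) (KK (k + 1)) F) := ⟨_, rfl⟩
  have ht : ∀ y, t y = (x : Matrix (KK (k + 1)) (KK (k + 1)) F) *ᵥ y := by
    intro y
    rw [htdef, Matrix.toLin'_apply]
  have ht2 : ∀ y, t (t y) = y := by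
    intro y
    rw [ht, ht, Matrix.mulVec_mulVec, hxx, Matrix.one_mulVec]
  have hiso : ∀ a b, sympB (k + 1) (t a) (t b) = sympB (k + 1) a b := by
    intro a b
    rw [sympB_apply, sympB_apply, ht, ht]
    exact hx a b
  obtain ⟨hrepA, hrepB⟩ := exists_rep k Q hs hQf hcase
  have hex : ∃ t₁ : ↥(Cfsg.isometryGroup F Q), t₁ * t₁ = 1 ∧
      (((t₁ : GL (KK (k + 1)) F) : Matrix (KK (k + 1)) (KK (k + 1)) F) - 1).rank =
        finrank F ↥(LinearMap.range (t - (LinearMap.id :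
          (KK (k + 1) → F) →ₗ[F] (KK (k + 1) → F)))) ∧
      ((∀ y, sympB (k + 1) y (t y) = 0) ↔ (∀ v, Cfsg.sympForm (k + 1) F v
        (((t₁ : GL (KK (k + 1)) F) : Matrix (KK (k + 1)) (KK (k + 1)) F) *ᵥ v) = 0)) := by
    by_cases halt : ∀ y, sympB (k + 1) y (t y) = 0
    · obtain ⟨r', w, hw⟩ := exists_NF_swap (sympB_nondeg (F := F) (k + 1)) (sympB_alt (k + 1))
        t ht2 hiso halt
      have h1 := hw.finrank_range (sympB_nondeg (F := F) (k + 1)) (sympB_alt (k + 1)) Sum.swap_swap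
      have h2 := hw.two_mul_card_le (sympB_nondeg (F := F) (k + 1))
      rw [Fintype.card_sum, Fintype.card_fin] at h1 h2
      rw [finrank_KK] at h2
      obtain ⟨t₁, h3, h4, h5⟩ := hrepA r' (by omega)
      exact ⟨t₁, h3, by rw [h4, h1]; ring, ⟨fun _ => h5, fun _ => halt⟩⟩
    · have halt' := halt
      push Not at halt
      obtain ⟨s, w, hw⟩ := exists_NF_id (sympB_nondeg (F := F) (k + 1)) (sympB_alt (k + 1))
        t ht2 hiso halt
      have h1 := hw.finrank_range (sympB_nondeg (F := F) (k + 1)) (sympB_alt (k + 1))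
        (fun _ => rfl)
      have h2 := hw.two_mul_card_le (sympB_nondeg (F := F) (k + 1))
      rw [Fintype.card_fin] at h1 h2
      rw [finrank_KK] at h2
      have hs1 : 1 ≤ s := by
        by_contra hs0
        have hs0' : s = 0 := by omega
        subst hs0'
        have hid := hw.eq_id_of_isEmpty
        obtain ⟨y, hy⟩ := halt
        apply hy
        rw [hid, LinearMap.id_apply]
        exact sympB_alt (k + 1) y
      obtain ⟨t₁, h3, h4, h5⟩ := hrepB s hs1 (by omega)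
      exact ⟨t₁, h3, by rw [h4, h1], ⟨fun h => absurd h halt', fun h => absurd h h5⟩⟩
  obtain ⟨t₁, ht₁2, ht₁r, ht₁a⟩ := hex
  have hle : Cfsg.isometryGroup F Q ≤ Cfsg.spGL (k + 1) F := by
    rw [← quadSim_inf_sp (k + 1) (by omega) Q hQf]
    exact inf_le_right
  have ht₁sp := hle t₁.2
  have ht₁xx : ((t₁ : GL (KK (k + 1)) F) : Matrix (KK (k + 1)) (KK (k + 1)) F) *
      ((t₁ : GL (KK (k + 1)) F) : Matrix (KK (k + 1)) (KK (k + 1)) F) = 1 := by
    have := congrArg (fun y : ↥(Cfsg.isometryGroup F Q) =>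
      ((y : GL (KK (k + 1)) F) : Matrix (KK (k + 1)) (KK (k + 1)) F)) ht₁2
    simpa using this
  obtain ⟨t', ht'def⟩ : ∃ t' : (KK (k + 1) → F) →ₗ[F] (KK (k + 1) → F),
    t' = Matrix.toLin' ((t₁ : GL (KK (k + 1)) F) : Matrix (KK (k + 1)) (KK (k + 1)) F) := ⟨_, rfl⟩
  have ht' : ∀ y, t' y = ((t₁ : GL (KK (k + 1)) F) : Matrix (KK (k + 1)) (KK (k + 1)) F) *ᵥ y := by
    intro y
    rw [ht'def, Matrix.toLin'_apply]
  have ht'2 : ∀ y, t' (t' y) = y := by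
    intro y
    rw [ht', ht', Matrix.mulVec_mulVec, ht₁xx, Matrix.one_mulVec]
  have hiso' : ∀ a b, sympB (k + 1) (t' a) (t' b) = sympB (k + 1) a b := by
    intro a b
    rw [sympB_apply, sympB_apply, ht', ht']
    exact ht₁sp a b
  obtain ⟨g₁, hg₁, hg₁t⟩ := conj_of_invariants (sympB_nondeg (F := F) (k + 1)) (sympB_alt (k + 1))
    t t' ht2 hiso ht'2 hiso'
    (by rw [← ht₁r, ht'def]; exact rank_eq (k + 1) _)
    (by
      rw [ht₁a]
      constructor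
      · intro h y
        rw [sympB_apply, ht']
        exact h y
      · intro h v
        have := h v
        rw [sympB_apply, ht'] at this
        exact this)
  refine ⟨Singer.glOf g₁.symm, ?_, ?_⟩
  · intro u v
    show Cfsg.sympForm (k + 1) F ((Singer.glOf g₁.symm : GL (KK (k + 1)) F).1 *ᵥ u)
      ((Singer.glOf g₁.symm : GL (KK (k + 1)) F).1 *ᵥ v) = Cfsg.sympForm (k + 1) F u v
    have h1 := Singer.glOf_mulVec g₁.symm u
    have h2 := Singer.glOf_mulVec g₁.symm v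
    rw [h1, h2, ← sympB_apply, ← sympB_apply]
    have := hg₁ (g₁.symm u) (g₁.symm v)
    rw [LinearEquiv.apply_symm_apply, LinearEquiv.apply_symm_apply] at this
    exact this.symm
  · have heq : (Singer.glOf g₁.symm)⁻¹ * x * Singer.glOf g₁.symm = (t₁ : GL (KK (k + 1)) F) := by
      apply Singer.gl_ext
      intro v
      rw [Units.val_mul, Units.val_mul, ← Matrix.mulVec_mulVec, ← Matrix.mulVec_mulVec,
        Singer.glOf_mulVec, glOf_inv_mulVec, LinearEquiv.symm_symm, ← ht, hg₁t,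
        LinearEquiv.apply_symm_apply, ht']
    rw [heq]
    refine ⟨1, fun v => ?_⟩
    rw [(Cfsg.Agent.Lib.H11.IsoReindex.mem_iso_iff' _ _).mp t₁.2 v]
    simp

/-- **S5983** for `d = k + 1` -/
theorem main (k : ℕ) (hk : 1 ≤ k) (Q : (KK (k + 1) → F) → F)
    (hs : ∀ (c : F) (v : KK (k + 1) → F), Q (c • v) = c ^ 2 * Q v)
    (hQf : ∀ u v, QuadraticMap.polar Q u v = Cfsg.sympForm (k + 1) F u v)
    (r : ℕ) [Fact r.Prime]
    (hΩ : r ∣ (Cfsg.Geo.quadSimilarityGroup Q).relIndex (Cfsg.spGL (k + 1) F)) :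
    (∀ x ∈ Cfsg.spGL (k + 1) F,
      (∃ z : F, ((x ^ r : GL (KK (k + 1)) F) : Matrix (KK (k + 1)) (KK (k + 1)) F) =
        z • (1 : Matrix (KK (k + 1)) (KK (k + 1)) F)) →
      (∀ z : F, (x : Matrix (KK (k + 1)) (KK (k + 1)) F) ≠
        z • (1 : Matrix (KK (k + 1)) (KK (k + 1)) F)) →
      ∃ g ∈ Cfsg.spGL (k + 1) F, g⁻¹ * x * g ∈ Cfsg.Geo.quadSimilarityGroup Q) ↔
    (r = 2 ∧ (Cfsg.Geo.IsPlusTypeOn Q ⊤ ∨ Odd (k + 1))) := by
  constructor
  · intro H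
    exact forward k hk Q hs hQf r hΩ H
  · rintro ⟨rfl, hcase⟩ x hx hx2 _
    exact backward k Q hs hQf hcase x hx hx2

end

end Cfsg.Agent.Lib.H13.SpQuadMain
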