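import Mathlib
import Cfsg.Agent.Lib.H13.AutPO1
import Cfsg.Agent.Lib.H13.HypPairs
import Cfsg.Agent.Lib.H13.Dickson
import Cfsg.Agent.Lib.H13.PlusLevi

/-!
Sylow `2`-subgroups of `O⁺_{2m}(2)` pairwise meet (helper13). Generic part (any field, any nondegenerate `Q` on `ι → F`): action `gv` of isometries
on vectors, pointwise stabilisers `Pfix Q S`, reflections and Siegel elements in `Pfix`, `exists_common`: two conjugates of the pointwise
stabiliser of a set orthogonal to a subspace of dimension at least `n/2 + 1` share a nontrivial element (a reflection or a Siegel element).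
Over `F_2`: the pointwise stabiliser of the standard totally singular `(m-1)`-frame has exponent dividing `8` (`pow_eight`, `isPGroup_Pfix`),
`sylow_meet_abs`, `sylow_meet`.
-/

set_option autoImplicit false
set_option linter.unusedSectionVars false
set_option linter.unusedVariables false
set_option linter.unusedSimpArgs false
set_option linter.deprecated false

namespace Cfsg.Agent.Lib.H13.SylMeet

section

open Matrix QuadraticMap Module
open Cfsg.Agent.Lib.H13.AutPO Cfsg.Agent.Lib.H13.HypPairs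

section gen

variable {F : Type*} [Field F] {ι : Type} [Fintype ι] [DecidableEq ι]
variable (Q : QuadraticForm F (ι → F))

set_option quotPrecheck false in
local notation "B" => QuadraticMap.polar (⇑Q)

variable {Q}

/-- the action of an isometry on vectors -/
def gv (g : ↥(Cfsg.isometryGroup F ⇑Q)) (x : ι → F) : ι → F :=
  ((g : GL ι F) : Matrix ι ι F) *ᵥ x

theorem gv_one (x : ι → F) : gv (1 : ↥(Cfsg.isometryGroup F ⇑Q)) x = x := by
  show (1 : Matrix ι ι F) *ᵥ x = x
  rw [one_mulVec]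

theorem gv_mul (g h : ↥(Cfsg.isometryGroup F ⇑Q)) (x : ι → F) : gv (g * h) x = gv g (gv h x) := by
  show (((g : GL ι F) : Matrix ι ι F) * ((h : GL ι F) : Matrix ι ι F)) *ᵥ x = _
  rw [← mulVec_mulVec]
  rfl

theorem gv_inv_gv (g : ↥(Cfsg.isometryGroup F ⇑Q)) (x : ι → F) : gv g⁻¹ (gv g x) = x := by
  rw [← gv_mul, inv_mul_cancel, gv_one]

theorem gv_gv_inv (g : ↥(Cfsg.isometryGroup F ⇑Q)) (x : ι → F) : gv g (gv g⁻¹ x) = x := by
  rw [← gv_mul, mul_inv_cancel, gv_one]

theorem gv_add (g : ↥(Cfsg.isometryGroup F ⇑Q)) (x y : ι → F) : gv g (x + y) = gv g x + gv g y :=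
  mulVec_add _ _ _

theorem gv_sub (g : ↥(Cfsg.isometryGroup F ⇑Q)) (x y : ι → F) : gv g (x - y) = gv g x - gv g y :=
  mulVec_sub _ _ _

theorem gv_smul (g : ↥(Cfsg.isometryGroup F ⇑Q)) (a : F) (x : ι → F) :
    gv g (a • x) = a • gv g x := mulVec_smul _ _ _

theorem gv_zero (g : ↥(Cfsg.isometryGroup F ⇑Q)) : gv g 0 = 0 := mulVec_zero _

theorem Q_gv (g : ↥(Cfsg.isometryGroup F ⇑Q)) (x : ι → F) : Q (gv g x) = Q x :=
  (mem_iso_iff _).1 g.2 x

theorem B_gv (g : ↥(Cfsg.isometryGroup F ⇑Q)) (x y : ι → F) : B (gv g x) (gv g y) = B x y := by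
  simp only [QuadraticMap.polar]
  rw [← gv_add, Q_gv, Q_gv, Q_gv]

theorem ext_gv {g h : ↥(Cfsg.isometryGroup F ⇑Q)} (hh : ∀ x, gv g x = gv h x) : g = h := by
  apply isoMat_ext
  rw [Matrix.ext_iff_mulVec]
  exact hh

/-- the linear map of an isometry -/
def gLin (g : ↥(Cfsg.isometryGroup F ⇑Q)) : (ι → F) ≃ₗ[F] (ι → F) where
  toFun := gv g
  invFun := gv g⁻¹
  map_add' := gv_add g
  map_smul' := gv_smul g
  left_inv := gv_inv_gv g
  right_inv := gv_gv_inv g

theorem gLin_apply (g : ↥(Cfsg.isometryGroup F ⇑Q)) (x : ι → F) : gLin g x = gv g x := rfl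

variable (Q)

/-- the pointwise stabiliser of a set of vectors -/
def Pfix (S : Set (ι → F)) : Subgroup ↥(Cfsg.isometryGroup F ⇑Q) where
  carrier := {g | ∀ w ∈ S, gv g w = w}
  one_mem' := fun w _ => gv_one w
  mul_mem' := by
    intro g h hg hh w hw
    rw [gv_mul, hh w hw, hg w hw]
  inv_mem' := by
    intro g hg w hw
    conv_lhs => rw [← hg w hw]
    exact gv_inv_gv g w

variable {Q}

theorem mem_Pfix {S : Set (ι → F)} {g : ↥(Cfsg.isometryGroup F ⇑Q)} :
    g ∈ Pfix Q S ↔ ∀ w ∈ S, gv g w = w := Iff.rfl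

theorem conj_mem_Pfix {S : Set (ι → F)} {g : ↥(Cfsg.isometryGroup F ⇑Q)} (hg : g ∈ Pfix Q S)
    (x : ↥(Cfsg.isometryGroup F ⇑Q)) : x * g * x⁻¹ ∈ Pfix Q (gv x '' S) := by
  rintro _ ⟨w, hw, rfl⟩
  rw [gv_mul, gv_mul, gv_inv_gv, hg w hw]

theorem gv_reflG (v : ι → F) (hv : Q v ≠ 0) (x : ι → F) :
    gv (reflG Q v hv) x = x - ((Q v)⁻¹ * B v x) • v := by
  show Cfsg.reflectionMatrix ⇑Q v *ᵥ x = _
  rw [Cfsg.Agent.Lib.H4.reflectionMatrix_mulVec]

theorem gv_rhoO {u y : ι → F} (hu : Q u = 0) (hy : B u y = 0) (x : ι → F) :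
    gv (rhoO Q u y) x = x + B x y • u - B x u • y - (Q y * B x u) • u := by
  show (((rhoO Q u y : ↥(Cfsg.isometryGroup F ⇑Q)) : GL ι F) : Matrix ι ι F) *ᵥ x = _
  rw [rhoO_val Q hu hy, rhoM_mulVec]

theorem reflG_mem_Pfix {S : Set (ι → F)} (v : ι → F) (hv : Q v ≠ 0) (hS : ∀ w ∈ S, B w v = 0) :
    reflG Q v hv ∈ Pfix Q S := by
  intro w hw
  rw [gv_reflG, B_comm, hS w hw, mul_zero, zero_smul, sub_zero]

theorem rhoO_mem_Pfix {S : Set (ι → F)} {u y : ι → F} (hu : Q u = 0) (hy : B u y = 0)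
    (hSu : ∀ w ∈ S, B w u = 0) (hSy : ∀ w ∈ S, B w y = 0) : rhoO Q u y ∈ Pfix Q S := by
  intro w hw
  rw [gv_rhoO hu hy, hSu w hw, hSy w hw]
  simp

theorem reflG_ne_one (hQ : (polarBilin Q).Nondegenerate) (v : ι → F) (hv : Q v ≠ 0) :
    reflG Q v hv ≠ 1 := by
  intro h
  have hv0 : v ≠ 0 := by
    rintro rfl
    exact hv (Q_zero Q)
  obtain ⟨f, hf⟩ := exists_B_ne_zero hQ hv0
  have h1 := gv_reflG v hv f
  rw [h, gv_one] at h1
  have h2 : ((Q v)⁻¹ * B v f) • v = 0 := by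
    have : f - (f - ((Q v)⁻¹ * B v f) • v) = ((Q v)⁻¹ * B v f) • v := by abel
    rw [← this, ← h1, sub_self]
  rcases smul_eq_zero.1 h2 with h3 | h3
  · rcases mul_eq_zero.1 h3 with h4 | h4
    · exact hv (inv_eq_zero.1 h4)
    · exact hf h4
  · exact hv0 h3

theorem rhoO_ne_one (hQ : (polarBilin Q).Nondegenerate) {u y : ι → F} (hu0 : u ≠ 0)
    (hu : Q u = 0) (hy : B u y = 0) (hyu : y ∉ Submodule.span F {u}) : rhoO Q u y ≠ 1 := by
  intro h
  obtain ⟨f, hf⟩ := exists_B_ne_zero hQ hu0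
  have h1 := gv_rhoO hu hy f
  rw [h, gv_one] at h1
  apply hyu
  rw [Submodule.mem_span_singleton]
  have hf' : B f u ≠ 0 := by rw [B_comm]; exact hf
  refine ⟨(B f u)⁻¹ * (B f y - Q y * B f u), ?_⟩
  have h2 : B f u • y = (B f y - Q y * B f u) • u := by
    have : f + B f y • u - B f u • y - (Q y * B f u) • u - f = 0 := by rw [← h1]; simp
    rw [← sub_eq_zero, ← neg_eq_zero, ← this]
    module
  rw [mul_smul, ← h2, smul_smul, inv_mul_cancel₀ hf', one_smul]

end gen

end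

section

open Matrix QuadraticMap Module
open Cfsg.Agent.Lib.H13.AutPO Cfsg.Agent.Lib.H13.HypPairs

section gen

variable {F : Type*} [Field F] {ι : Type} [Fintype ι] [DecidableEq ι]
variable (Q : QuadraticForm F (ι → F))

set_option quotPrecheck false in
local notation "B" => QuadraticMap.polar (⇑Q)

variable {Q}

/-- two conjugates of the pointwise stabiliser of a set `S` orthogonal to a large subspace `A` have a common nontrivial element -/
theorem exists_common (hQ : (polarBilin Q).Nondegenerate) (A : Submodule F (ι → F))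
    (hA : Fintype.card ι + 2 ≤ 2 * finrank F A) (S : Set (ι → F))
    (hSA : ∀ w ∈ S, ∀ a ∈ A, B w a = 0) (g₁ g₂ : ↥(Cfsg.isometryGroup F ⇑Q)) :
    ∃ h : ↥(Cfsg.isometryGroup F ⇑Q), h ≠ 1 ∧ h ∈ Pfix Q (gv g₁ '' S) ∧ h ∈ Pfix Q (gv g₂ '' S) := by
  classical
  set X₁ : Submodule F (ι → F) := A.map (gLin g₁).toLinearMap with hX₁
  set X₂ : Submodule F (ι → F) := A.map (gLin g₂).toLinearMap with hX₂
  have hf₁ : finrank F X₁ = finrank F A := LinearEquiv.finrank_map_eq (gLin g₁) A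
  have hf₂ : finrank F X₂ = finrank F A := LinearEquiv.finrank_map_eq (gLin g₂) A
  have hsum := Submodule.finrank_sup_add_finrank_inf_eq X₁ X₂
  have hle : finrank F ↥(X₁ ⊔ X₂) ≤ Fintype.card ι := by
    have := Submodule.finrank_le (X₁ ⊔ X₂)
    rwa [Module.finrank_fintype_fun_eq_card] at this
  have hX : 2 ≤ finrank F ↥(X₁ ⊓ X₂) := by omega
  -- orthogonality
  have horth₁ : ∀ v ∈ X₁, ∀ w ∈ gv g₁ '' S, B w v = 0 := by
    rintro v ⟨a, ha, rfl⟩ _ ⟨s, hs, rfl⟩
    show B (gv g₁ s) (gv g₁ a) = 0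
    rw [B_gv]
    exact hSA s hs a ha
  have horth₂ : ∀ v ∈ X₂, ∀ w ∈ gv g₂ '' S, B w v = 0 := by
    rintro v ⟨a, ha, rfl⟩ _ ⟨s, hs, rfl⟩
    show B (gv g₂ s) (gv g₂ a) = 0
    rw [B_gv]
    exact hSA s hs a ha
  by_cases hns : ∃ v ∈ X₁ ⊓ X₂, Q v ≠ 0
  · obtain ⟨v, hvX, hv⟩ := hns
    refine ⟨reflG Q v hv, reflG_ne_one hQ v hv, ?_, ?_⟩
    · exact reflG_mem_Pfix v hv (fun w hw => horth₁ v hvX.1 w hw)
    · exact reflG_mem_Pfix v hv (fun w hw => horth₂ v hvX.2 w hw)
  · push Not at hns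
    have hne : X₁ ⊓ X₂ ≠ ⊥ := by
      intro h
      rw [h, finrank_bot] at hX
      omega
    obtain ⟨u, huX, hu0⟩ := Submodule.exists_mem_ne_zero_of_ne_bot hne
    have hnle : ¬ X₁ ⊓ X₂ ≤ Submodule.span F {u} := by
      intro h
      have h1 := Submodule.finrank_mono h
      have h2 : finrank F ↥(Submodule.span F {u}) ≤ 1 := by
        have := finrank_span_le_card (R := F) ({u} : Set (ι → F))
        simpa using this
      omega
    obtain ⟨y, hyX, hyu⟩ := SetLike.not_le_iff_exists.1 hnle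
    have hu : Q u = 0 := hns u huX
    have hy : B u y = 0 := by
      have h1 := hns (u + y) (Submodule.add_mem _ huX hyX)
      rw [Q_add, hu, hns y hyX, zero_add, zero_add] at h1
      exact h1
    refine ⟨rhoO Q u y, rhoO_ne_one hQ hu0 hu hy hyu, ?_, ?_⟩
    · exact rhoO_mem_Pfix hu hy (fun w hw => horth₁ u huX.1 w hw) (fun w hw => horth₁ y hyX.1 w hw)
    · exact rhoO_mem_Pfix hu hy (fun w hw => horth₂ u huX.2 w hw) (fun w hw => horth₂ y hyX.2 w hw)

end gen

end

section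

open Matrix QuadraticMap Module
open Cfsg.Agent.Lib.H13 Cfsg.Agent.Lib.H13.AutPO Cfsg.Agent.Lib.H13.HypPairs Cfsg.Agent.Lib.H13.PlusLevi

section two

variable {F : Type*} [Field F] [Fintype F] {n : ℕ}

/-- the standard basis vector `e_i` -/
def eV (n : ℕ) (F : Type*) [Field F] (i : Fin (n + 1)) : K (n + 1) → F := Pi.single (Sum.inl i) 1
/-- the standard basis vector `f_i` -/
def fV (n : ℕ) (F : Type*) [Field F] (i : Fin (n + 1)) : K (n + 1) → F := Pi.single (Sum.inr i) 1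

/-- the standard totally singular frame `e_i`, `i ≠ last` -/
def S0 (n : ℕ) (F : Type*) [Field F] : Set (K (n + 1) → F) :=
  {w | ∃ i : Fin (n + 1), i ≠ Fin.last n ∧ w = eV n F i}

theorem B_eV (i : Fin (n + 1)) (x : K (n + 1) → F) :
    polar (⇑(plusQF F (n + 1))) (eV n F i) x = x (Sum.inr i) := (hypPair_plusQF i).pa x

theorem B_fV (i : Fin (n + 1)) (x : K (n + 1) → F) :
    polar (⇑(plusQF F (n + 1))) (fV n F i) x = x (Sum.inl i) := (hypPair_plusQF i).pb x

theorem zero_or_one (hF : Fintype.card F = 2) (a : F) : a = 0 ∨ a = 1 := by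
  have h := FiniteField.pow_card a
  rw [hF] at h
  have h1 : a * (a - 1) = 0 := by linear_combination h
  rcases mul_eq_zero.1 h1 with h2 | h2
  · exact Or.inl h2
  · exact Or.inr (sub_eq_zero.1 h2)

theorem two_eq_zero' (hF : Fintype.card F = 2) : (2 : F) = 0 := by
  rcases zero_or_one hF (2 : F) with h | h
  · exact h
  · exfalso
    have : (1 : F) = 0 := by linear_combination h
    exact one_ne_zero this

theorem add_self_vec (hF : Fintype.card F = 2) (x : K (n + 1) → F) : x + x = 0 := by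
  have : x + x = (2 : F) • x := by rw [two_smul]
  rw [this, two_eq_zero' hF, zero_smul]

/-- inside `A₀ = W₀^⊥` -/
def inA (x : K (n + 1) → F) : Prop := ∀ i : Fin (n + 1), i ≠ Fin.last n → x (Sum.inr i) = 0
/-- inside `W₀` -/
def inW (x : K (n + 1) → F) : Prop := (∀ j : Fin (n + 1), x (Sum.inr j) = 0) ∧ x (Sum.inl (Fin.last n)) = 0

theorem Q_of_inA {x : K (n + 1) → F} (hx : inA x) :
    plusQF F (n + 1) x = x (Sum.inl (Fin.last n)) * x (Sum.inr (Fin.last n)) := by
  rw [plusQF_apply, Cfsg.quadFormPlus]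
  apply Finset.sum_eq_single
  · intro i _ hi
    rw [hx i hi, mul_zero]
  · intro h
    exact absurd (Finset.mem_univ _) h

variable (g : ↥(Cfsg.isometryGroup F ⇑(plusQF F (n + 1))))

theorem gv_sum' {α : Type*} (s : Finset α) (f : α → K (n + 1) → F) :
    gv g (∑ i ∈ s, f i) = ∑ i ∈ s, gv g (f i) := by
  classical
  induction s using Finset.induction_on with
  | empty => simp [gv_zero]
  | insert a s ha ih => rw [Finset.sum_insert ha, Finset.sum_insert ha, gv_add, ih]

variable {g}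

theorem gv_inr (hg : g ∈ Pfix (plusQF F (n + 1)) (S0 n F)) (x : K (n + 1) → F) (i : Fin (n + 1))
    (hi : i ≠ Fin.last n) : gv g x (Sum.inr i) = x (Sum.inr i) := by
  have h1 : gv g (eV n F i) = eV n F i := hg _ ⟨i, hi, rfl⟩
  rw [← B_eV i (gv g x), ← B_eV i x]
  conv_lhs => rw [← h1]
  exact B_gv g _ _

theorem gv_of_inW (hg : g ∈ Pfix (plusQF F (n + 1)) (S0 n F)) {x : K (n + 1) → F} (hx : inW x) :
    gv g x = x := by
  classical
  have hx' : x = ∑ i : Fin (n + 1), x (Sum.inl i) • eV n F i := by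
    funext k
    rw [Finset.sum_apply]
    rcases k with j | j
    · simp [eV, Pi.single_apply, Finset.sum_ite_eq]
    · simp [eV, Pi.single_apply, hx.1 j]
  conv_lhs => rw [hx']
  rw [gv_sum']
  conv_rhs => rw [hx']
  apply Finset.sum_congr rfl
  intro i _
  rw [gv_smul]
  by_cases hi : i = Fin.last n
  · rw [hi, hx.2, zero_smul, zero_smul]
  · rw [hg _ ⟨i, hi, rfl⟩]

theorem inA_gv (hg : g ∈ Pfix (plusQF F (n + 1)) (S0 n F)) {x : K (n + 1) → F} (hx : inA x) :
    inA (gv g x) := by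
  intro i hi
  rw [gv_inr hg x i hi, hx i hi]

theorem inA_eV : inA (eV n F (Fin.last n)) := by
  intro i hi
  simp [eV]

theorem inA_fV : inA (fV n F (Fin.last n)) := by
  intro i hi
  simp [fV, Pi.single_apply, hi]

theorem inW_sub {x : K (n + 1) → F} (hx : inA x) :
    inW (x - x (Sum.inl (Fin.last n)) • eV n F (Fin.last n)
      - x (Sum.inr (Fin.last n)) • fV n F (Fin.last n)) := by
  constructor
  · intro j
    by_cases hj : j = Fin.last n
    · subst hj
      simp [eV, fV]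
    · simp [eV, fV, Pi.single_apply, hj, hx j hj]
  · simp [eV, fV]

end two

end

section

open Matrix QuadraticMap Module
open Cfsg.Agent.Lib.H13 Cfsg.Agent.Lib.H13.AutPO Cfsg.Agent.Lib.H13.HypPairs Cfsg.Agent.Lib.H13.PlusLevi

section two

variable {F : Type*} [Field F] [Fintype F] {n : ℕ}
variable {g : ↥(Cfsg.isometryGroup F ⇑(plusQF F (n + 1)))}

theorem gv_decomp (hg : g ∈ Pfix (plusQF F (n + 1)) (S0 n F)) {x : K (n + 1) → F} (hx : inA x) :
    gv g x = (x - x (Sum.inl (Fin.last n)) • eV n F (Fin.last n)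
      - x (Sum.inr (Fin.last n)) • fV n F (Fin.last n))
      + x (Sum.inl (Fin.last n)) • gv g (eV n F (Fin.last n))
      + x (Sum.inr (Fin.last n)) • gv g (fV n F (Fin.last n)) := by
  have h1 : x = (x - x (Sum.inl (Fin.last n)) • eV n F (Fin.last n)
      - x (Sum.inr (Fin.last n)) • fV n F (Fin.last n))
      + x (Sum.inl (Fin.last n)) • eV n F (Fin.last n)
      + x (Sum.inr (Fin.last n)) • fV n F (Fin.last n) := by abel
  conv_lhs => rw [h1]
  rw [gv_add, gv_add, gv_smul, gv_smul, gv_of_inW hg (inW_sub hx)]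

theorem alpha_gv (hg : g ∈ Pfix (plusQF F (n + 1)) (S0 n F)) {x : K (n + 1) → F} (hx : inA x) :
    gv g x (Sum.inl (Fin.last n)) =
      x (Sum.inl (Fin.last n)) * gv g (eV n F (Fin.last n)) (Sum.inl (Fin.last n))
      + x (Sum.inr (Fin.last n)) * gv g (fV n F (Fin.last n)) (Sum.inl (Fin.last n)) := by
  conv_lhs => rw [gv_decomp hg hx]
  have := (inW_sub hx).2
  simp only [Pi.add_apply, Pi.smul_apply, smul_eq_mul]
  rw [this, zero_add]

theorem beta_gv (hg : g ∈ Pfix (plusQF F (n + 1)) (S0 n F)) {x : K (n + 1) → F} (hx : inA x) :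
    gv g x (Sum.inr (Fin.last n)) =
      x (Sum.inl (Fin.last n)) * gv g (eV n F (Fin.last n)) (Sum.inr (Fin.last n))
      + x (Sum.inr (Fin.last n)) * gv g (fV n F (Fin.last n)) (Sum.inr (Fin.last n)) := by
  conv_lhs => rw [gv_decomp hg hx]
  have := (inW_sub hx).1 (Fin.last n)
  simp only [Pi.add_apply, Pi.smul_apply, smul_eq_mul]
  rw [this, zero_add]

theorem f2_cases (hF : Fintype.card F = 2) (a1 a2 b1 b2 : F) (h1 : a1 * a2 = 0) (h2 : b1 * b2 = 0)
    (h3 : (a1 + b1) * (a2 + b2) = 1) :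
    (a1 = 1 ∧ a2 = 0 ∧ b1 = 0 ∧ b2 = 1) ∨ (a1 = 0 ∧ a2 = 1 ∧ b1 = 1 ∧ b2 = 0) := by
  have h20 := two_eq_zero' hF
  have h11 : (1 : F) + 1 = 0 := by rw [← h20]; norm_num
  rcases zero_or_one hF a1 with h | h <;> rcases zero_or_one hF a2 with k | k <;>
    rcases zero_or_one hF b1 with l | l <;> rcases zero_or_one hF b2 with r | r <;>
    subst h k l r <;> simp [h11] at h1 h2 h3 ⊢

/-- `g` acts on `W₀^⊥ / W₀` as the identity or the swap -/
theorem id_or_swap (hF : Fintype.card F = 2) (hg : g ∈ Pfix (plusQF F (n + 1)) (S0 n F)) :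
    (∀ x : K (n + 1) → F, inA x → gv g x (Sum.inl (Fin.last n)) = x (Sum.inl (Fin.last n)) ∧
      gv g x (Sum.inr (Fin.last n)) = x (Sum.inr (Fin.last n))) ∨
    (∀ x : K (n + 1) → F, inA x → gv g x (Sum.inl (Fin.last n)) = x (Sum.inr (Fin.last n)) ∧
      gv g x (Sum.inr (Fin.last n)) = x (Sum.inl (Fin.last n))) := by
  have hQe : plusQF F (n + 1) (eV n F (Fin.last n)) = 0 := (hypPair_plusQF (Fin.last n)).Qa
  have hQf : plusQF F (n + 1) (fV n F (Fin.last n)) = 0 := (hypPair_plusQF (Fin.last n)).Qb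
  have hQef : plusQF F (n + 1) (eV n F (Fin.last n) + fV n F (Fin.last n)) = 1 :=
    (hypPair_plusQF (Fin.last n)).Q_plus
  have h1 : gv g (eV n F (Fin.last n)) (Sum.inl (Fin.last n)) *
      gv g (eV n F (Fin.last n)) (Sum.inr (Fin.last n)) = 0 := by
    rw [← Q_of_inA (inA_gv hg inA_eV), Q_gv, hQe]
  have h2 : gv g (fV n F (Fin.last n)) (Sum.inl (Fin.last n)) *
      gv g (fV n F (Fin.last n)) (Sum.inr (Fin.last n)) = 0 := by
    rw [← Q_of_inA (inA_gv hg inA_fV), Q_gv, hQf]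
  have h3 : (gv g (eV n F (Fin.last n)) (Sum.inl (Fin.last n)) +
      gv g (fV n F (Fin.last n)) (Sum.inl (Fin.last n))) *
      (gv g (eV n F (Fin.last n)) (Sum.inr (Fin.last n)) +
      gv g (fV n F (Fin.last n)) (Sum.inr (Fin.last n))) = 1 := by
    have hin : inA (eV n F (Fin.last n) + fV n F (Fin.last n)) := by
      intro i hi
      rw [Pi.add_apply, inA_eV i hi, inA_fV i hi, add_zero]
    have := Q_of_inA (inA_gv hg hin)
    rw [Q_gv, hQef, gv_add] at this
    rw [this]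
    rfl
  rcases f2_cases hF _ _ _ _ h1 h2 h3 with ⟨e1, e2, e3, e4⟩ | ⟨e1, e2, e3, e4⟩
  · left
    intro x hx
    rw [alpha_gv hg hx, beta_gv hg hx, e1, e2, e3, e4]
    constructor <;> ring
  · right
    intro x hx
    rw [alpha_gv hg hx, beta_gv hg hx, e1, e2, e3, e4]
    constructor <;> ring

end two

end

section

open Matrix QuadraticMap Module
open Cfsg.Agent.Lib.H13 Cfsg.Agent.Lib.H13.AutPO Cfsg.Agent.Lib.H13.HypPairs Cfsg.Agent.Lib.H13.PlusLevi

section two

variable {F : Type*} [Field F] [Fintype F] {n : ℕ}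
variable {g : ↥(Cfsg.isometryGroup F ⇑(plusQF F (n + 1)))}

/-- the square of `g` acts trivially on `W₀^⊥ / W₀` -/
theorem sq_coords (hF : Fintype.card F = 2) (hg : g ∈ Pfix (plusQF F (n + 1)) (S0 n F))
    {x : K (n + 1) → F} (hx : inA x) :
    gv (g * g) x (Sum.inl (Fin.last n)) = x (Sum.inl (Fin.last n)) ∧
      gv (g * g) x (Sum.inr (Fin.last n)) = x (Sum.inr (Fin.last n)) := by
  rw [gv_mul]
  have hgx := inA_gv hg hx
  rcases id_or_swap hF hg with h | h
  · rw [(h _ hgx).1, (h _ hgx).2, (h _ hx).1, (h _ hx).2]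
    exact ⟨rfl, rfl⟩
  · rw [(h _ hgx).1, (h _ hgx).2, (h _ hx).1, (h _ hx).2]
    exact ⟨rfl, rfl⟩

theorem pow_eight (hF : Fintype.card F = 2) (hg : g ∈ Pfix (plusQF F (n + 1)) (S0 n F)) :
    g ^ 8 = 1 := by
  have hh : g * g ∈ Pfix (plusQF F (n + 1)) (S0 n F) := Subgroup.mul_mem _ hg hg
  obtain ⟨M, hM⟩ : ∃ M : (K (n + 1) → F) → (K (n + 1) → F), ∀ x, M x = gv (g * g) x - x :=
    ⟨fun x => gv (g * g) x - x, fun x => rfl⟩
  have hMa : ∀ x, inA (M x) := by
    intro x i hi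
    rw [hM, Pi.sub_apply, gv_inr hh x i hi, sub_self]
  have hMb : ∀ x, inA x → inW (M x) := by
    intro x hx
    have := sq_coords hF hg hx
    constructor
    · intro j
      by_cases hj : j = Fin.last n
      · rw [hj, hM, Pi.sub_apply, this.2, sub_self]
      · exact hMa x j hj
    · rw [hM, Pi.sub_apply, this.1, sub_self]
  have hMc : ∀ x, inW x → M x = 0 := by
    intro x hx
    rw [hM, gv_of_inW hh hx, sub_self]
  have hMadd : ∀ x y, M (x + y) = M x + M y := by
    intro x y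
    rw [hM, hM, hM, gv_add]
    abel
  have hM3 : ∀ x, M (M (M x)) = 0 := fun x => hMc _ (hMb _ (hMa x))
  have hgg : ∀ x, gv (g * g) x = x + M x := by
    intro x
    rw [hM]
    abel
  have h4 : ∀ x, gv (g * g * (g * g)) x = x + M (M x) := by
    intro x
    rw [gv_mul, hgg, hgg, hMadd]
    have := add_self_vec hF (M x)
    calc x + M x + (M x + M (M x)) = x + (M x + M x) + M (M x) := by abel
      _ = x + M (M x) := by rw [this, add_zero]
  have h8 : ∀ x, gv (g * g * (g * g) * (g * g * (g * g))) x = x := by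
    intro x
    rw [gv_mul, h4, h4, hMadd, hMadd]
    have h5 : M (M (M (M x))) = 0 := hM3 (M x)
    have := add_self_vec hF (M (M x))
    calc x + M (M x) + (M (M x) + M (M (M (M x)))) = x + (M (M x) + M (M x)) + M (M (M (M x))) := by
          abel
      _ = x := by rw [this, h5, add_zero, add_zero]
  have : g ^ 8 = g * g * (g * g) * (g * g * (g * g)) := by
    simp only [pow_succ, pow_zero, one_mul, mul_assoc]
  rw [this]
  apply ext_gv
  intro x
  rw [h8, gv_one]

theorem isPGroup_Pfix (hF : Fintype.card F = 2) :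
    IsPGroup 2 ↥(Pfix (plusQF F (n + 1)) (S0 n F)) := by
  intro g
  refine ⟨3, ?_⟩
  apply Subtype.ext
  show ((g ^ 2 ^ 3 : ↥(Pfix (plusQF F (n + 1)) (S0 n F))) :
    ↥(Cfsg.isometryGroup F ⇑(plusQF F (n + 1)))) = 1
  rw [Subgroup.coe_pow]
  exact pow_eight hF g.2

end two

end

section

open Matrix QuadraticMap Module
open Cfsg.Agent.Lib.H13 Cfsg.Agent.Lib.H13.AutPO Cfsg.Agent.Lib.H13.HypPairs Cfsg.Agent.Lib.H13.PlusLevi
open scoped Pointwise

section gen

variable {F : Type*} [Field F] {ι : Type} [Fintype ι] [DecidableEq ι]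
variable {Q : QuadraticForm F (ι → F)}

theorem mem_Pfix_of_image {S : Set (ι → F)} {h y : ↥(Cfsg.isometryGroup F ⇑Q)}
    (hh : h ∈ Pfix Q (gv y '' S)) : y⁻¹ * h * y ∈ Pfix Q S := by
  have h1 := conj_mem_Pfix hh y⁻¹
  rw [inv_inv] at h1
  intro w hw
  apply h1
  exact ⟨gv y w, ⟨w, hw, rfl⟩, gv_inv_gv y w⟩

theorem mem_smul_of_image {S : Set (ι → F)} {h y : ↥(Cfsg.isometryGroup F ⇑Q)}
    (hh : h ∈ Pfix Q (gv y '' S)) {T : Subgroup ↥(Cfsg.isometryGroup F ⇑Q)} (hT : Pfix Q S ≤ T) :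
    h ∈ MulAut.conj y • T := by
  rw [Subgroup.mem_pointwise_smul_iff_inv_smul_mem]
  show (MulAut.conj y)⁻¹ h ∈ T
  rw [← map_inv, MulAut.conj_apply, inv_inv]
  exact hT (mem_Pfix_of_image hh)

end gen

section abs

theorem sylow_meet_abs {G : Type*} [Group G] [Finite G] (P₀ : Subgroup G) (hP : IsPGroup 2 ↥P₀)
    (hcommon : ∀ y z : G, ∃ h : G, h ≠ 1 ∧ h ∈ MulAut.conj y • P₀ ∧ h ∈ MulAut.conj z • P₀)
    (H : Sylow 2 G) (x : G) :
    (H : Subgroup G) ⊓ MulAut.conj x • (H : Subgroup G) ≠ ⊥ := by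
  haveI : Fact (Nat.Prime 2) := ⟨Nat.prime_two⟩
  obtain ⟨T, hT⟩ := hP.exists_le_sylow
  obtain ⟨y, hy⟩ := MulAction.exists_smul_eq G T H
  obtain ⟨h, hne, h1, h2⟩ := hcommon y (x * y)
  have hH : (H : Subgroup G) = MulAut.conj y • (T : Subgroup G) := by
    rw [← hy]
    rfl
  intro hbot
  apply hne
  have hmem : h ∈ (H : Subgroup G) ⊓ MulAut.conj x • (H : Subgroup G) := by
    constructor
    · rw [hH]
      exact Subgroup.pointwise_smul_le_pointwise_smul_iff.2 hT h1
    · show h ∈ MulAut.conj x • (H : Subgroup G)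
      rw [hH, ← mul_smul, ← map_mul]
      exact Subgroup.pointwise_smul_le_pointwise_smul_iff.2 hT h2
  rw [hbot] at hmem
  exact (Subgroup.mem_bot).1 hmem

end abs

section two

variable {F : Type*} [Field F] [Fintype F] {n : ℕ}

/-- the subspace `A₀ = W₀^⊥` -/
def A0 (n : ℕ) (F : Type*) [Field F] : Submodule F (K (n + 1) → F) where
  carrier := {x | inA x}
  add_mem' := by
    intro x y hx hy i hi
    rw [Pi.add_apply, hx i hi, hy i hi, add_zero]
  zero_mem' := fun i _ => rfl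
  smul_mem' := by
    intro c x hx i hi
    rw [Pi.smul_apply, hx i hi, smul_zero]

theorem finrank_A0 : n + 2 ≤ finrank F ↥(A0 n F) := by
  classical
  set φ : (K (n + 1) → F) →ₗ[F] ({i : Fin (n + 1) // i ≠ Fin.last n} → F) :=
    { toFun := fun x i => x (Sum.inr i.1)
      map_add' := fun x y => rfl
      map_smul' := fun c x => rfl } with hφ
  have hker : LinearMap.ker φ = A0 n F := by
    ext x
    rw [LinearMap.mem_ker]
    constructor
    · intro h i hi
      exact congrFun h ⟨i, hi⟩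
    · intro h
      funext i
      exact h i.1 i.2
  have h1 := LinearMap.finrank_range_add_finrank_ker φ
  have h2 : finrank F ↥(LinearMap.range φ) ≤ n := by
    have := Submodule.finrank_le (LinearMap.range φ)
    rw [Module.finrank_fintype_fun_eq_card, Fintype.card_subtype_compl, Fintype.card_fin,
      Fintype.card_subtype_eq] at this
    simpa using this
  rw [Module.finrank_fintype_fun_eq_card, hker] at h1
  have h3 : Fintype.card (K (n + 1)) = 2 * (n + 1) := by
    rw [Fintype.card_sum, Fintype.card_fin]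
    ring
  omega

theorem S0_orth : ∀ w ∈ S0 n F, ∀ a ∈ A0 n F, polar (⇑(plusQF F (n + 1))) w a = 0 := by
  rintro _ ⟨i, hi, rfl⟩ a ha
  rw [B_eV]
  exact ha i hi

/-- any two Sylow `2`-subgroups of `O⁺_{2m}(2)` meet nontrivially -/
theorem sylow_meet (hF : Fintype.card F = 2)
    (H : Sylow 2 ↥(Cfsg.isometryGroup F ⇑(plusQF F (n + 1))))
    (x : ↥(Cfsg.isometryGroup F ⇑(plusQF F (n + 1)))) :
    (H : Subgroup ↥(Cfsg.isometryGroup F ⇑(plusQF F (n + 1)))) ⊓
      MulAut.conj x • (H : Subgroup ↥(Cfsg.isometryGroup F ⇑(plusQF F (n + 1)))) ≠ ⊥ := by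
  classical
  have hQ : (polarBilin (plusQF F (n + 1))).Nondegenerate := Cfsg.Agent.S0287.nondeg (F := F) (n + 1)
  have hA : Fintype.card (K (n + 1)) + 2 ≤ 2 * finrank F ↥(A0 n F) := by
    have h3 : Fintype.card (K (n + 1)) = 2 * (n + 1) := by
      rw [Fintype.card_sum, Fintype.card_fin]
      ring
    have := finrank_A0 (F := F) (n := n)
    omega
  apply sylow_meet_abs (Pfix (plusQF F (n + 1)) (S0 n F)) (isPGroup_Pfix hF)
  intro y z
  obtain ⟨h, hne, h1, h2⟩ := exists_common hQ (A0 n F) hA (S0 n F) S0_orth y z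
  exact ⟨h, hne, mem_smul_of_image h1 le_rfl, mem_smul_of_image h2 le_rfl⟩

/-- the same for a function propositionally equal to the standard plus form -/
theorem sylow_meet' (hF : Fintype.card F = 2) (Q₁ : (K (n + 1) → F) → F)
    (hQ₁ : ⇑(plusQF F (n + 1)) = Q₁)
    (H : Sylow 2 ↥(Cfsg.isometryGroup F Q₁)) (x : ↥(Cfsg.isometryGroup F Q₁)) :
    (H : Subgroup ↥(Cfsg.isometryGroup F Q₁)) ⊓
      MulAut.conj x • (H : Subgroup ↥(Cfsg.isometryGroup F Q₁)) ≠ ⊥ := by
  subst hQ₁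
  exact sylow_meet hF H x

end two

end

end Cfsg.Agent.Lib.H13.SylMeet
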