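import Mathlib
import Cfsg.Agent.Lib.H13.MinusClass
import Cfsg.Agent.Lib.H13.TraceForm
import Cfsg.Agent.S0289
import Cfsg.Agent.S0290

set_option autoImplicit false

namespace Cfsg.Agent.Lib.H13.SymOrth

open Matrix Module QuadraticMap

section wt
variable {N : ℕ}

/-- weight of a binary vector -/
def wt (v : Fin N → ZMod 2) : ℕ := ∑ i, (v i).val

theorem val_add (a b : ZMod 2) : (a + b).val + 2 * (a.val * b.val) = a.val + b.val := by
  revert a b; decide

theorem wt_add (u v : Fin N → ZMod 2) :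
    wt (u + v) + 2 * ∑ i, (u i).val * (v i).val = wt u + wt v := by
  unfold wt
  rw [Finset.mul_sum, ← Finset.sum_add_distrib, ← Finset.sum_add_distrib]
  exact Finset.sum_congr rfl (fun i _ => val_add (u i) (v i))

theorem cast_wt (v : Fin N → ZMod 2) : ((wt v : ℕ) : ZMod 2) = ∑ i, v i := by
  unfold wt
  rw [Nat.cast_sum]
  exact Finset.sum_congr rfl (fun i _ => ZMod.natCast_zmod_val (v i))

theorem cast_dot (u v : Fin N → ZMod 2) :
    ((∑ i, (u i).val * (v i).val : ℕ) : ZMod 2) = u ⬝ᵥ v := by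
  rw [Nat.cast_sum]
  exact Finset.sum_congr rfl (fun i _ => by
    rw [Nat.cast_mul, ZMod.natCast_zmod_val, ZMod.natCast_zmod_val])

theorem even_wt (v : Fin N → ZMod 2) (hv : ∑ i, v i = 0) : 2 ∣ wt v := by
  rw [← cast_wt] at hv
  exact (ZMod.natCast_eq_zero_iff _ _).mp hv

/-- the quadratic function: half the weight -/
def Qf (v : Fin N → ZMod 2) : ZMod 2 := ((wt v / 2 : ℕ) : ZMod 2)

theorem Qf_add (u v : Fin N → ZMod 2) (hu : ∑ i, u i = 0) (hv : ∑ i, v i = 0) :
    Qf (u + v) = Qf u + Qf v + u ⬝ᵥ v := by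
  have huv : ∑ i, (u + v) i = 0 := by
    simp only [Pi.add_apply, Finset.sum_add_distrib, hu, hv, add_zero]
  obtain ⟨a, ha⟩ := even_wt u hu
  obtain ⟨b, hb⟩ := even_wt v hv
  obtain ⟨c, hc⟩ := even_wt (u + v) huv
  have h := wt_add u v
  rw [ha, hb, hc] at h
  have h' : c + ∑ i, (u i).val * (v i).val = a + b := by omega
  unfold Qf
  rw [ha, hb, hc, Nat.mul_div_cancel_left _ (by norm_num), Nat.mul_div_cancel_left _ (by norm_num),
    Nat.mul_div_cancel_left _ (by norm_num), ← cast_dot]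
  have h'' := congrArg (Nat.cast : ℕ → ZMod 2) h'
  rw [Nat.cast_add, Nat.cast_add] at h''
  rw [← h'', add_assoc, CharTwo.add_self_eq_zero, add_zero]

theorem wt_zero : wt (0 : Fin N → ZMod 2) = 0 := by
  unfold wt
  simp

theorem wt_comp_perm (π : Equiv.Perm (Fin N)) (v : Fin N → ZMod 2) : wt (v ∘ π) = wt v := by
  unfold wt
  exact Equiv.sum_comp π (fun i => (v i).val)

theorem val_add_one (a : ZMod 2) : (a + 1).val + a.val = 1 := by
  revert a; decide

theorem wt_add_one (v : Fin N → ZMod 2) : wt (v + 1) + wt v = N := by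
  unfold wt
  rw [← Finset.sum_add_distrib]
  have : ∀ i : Fin N, ((v + 1) i).val + (v i).val = 1 := fun i => val_add_one (v i)
  rw [Finset.sum_congr rfl (fun i _ => this i)]
  simp

end wt

section space
variable (n : ℕ)

/-- sum of coordinates and the last coordinate -/
def phi : (Fin (n + 1) → ZMod 2) →ₗ[ZMod 2] ZMod 2 × ZMod 2 :=
  (∑ i, LinearMap.proj i).prod (LinearMap.proj (Fin.last n))

theorem phi_apply (v : Fin (n + 1) → ZMod 2) : phi n v = (∑ i, v i, v (Fin.last n)) := by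
  unfold phi
  simp [LinearMap.prod_apply, LinearMap.sum_apply]

/-- even weight vectors with last coordinate zero -/
def E0 : Submodule (ZMod 2) (Fin (n + 1) → ZMod 2) := LinearMap.ker (phi n)

variable {n}

theorem mem_E0 (v : Fin (n + 1) → ZMod 2) : v ∈ E0 n ↔ ∑ i, v i = 0 ∧ v (Fin.last n) = 0 := by
  rw [E0, LinearMap.mem_ker, phi_apply, Prod.mk_eq_zero]

/-- the vector `e_a + e_b` -/
def pr (a b : Fin (n + 1)) : Fin (n + 1) → ZMod 2 := Pi.single a 1 + Pi.single b 1

theorem pr_apply (a b x : Fin (n + 1)) :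
    pr a b x = (if x = a then 1 else 0) + (if x = b then 1 else 0) := by
  unfold pr
  rw [Pi.add_apply, Pi.single_apply, Pi.single_apply]

theorem pr_mem (a b : Fin (n + 1)) (ha : a ≠ Fin.last n) (hb : b ≠ Fin.last n) : pr a b ∈ E0 n := by
  rw [mem_E0]
  constructor
  · unfold pr
    simp only [Pi.add_apply, Finset.sum_add_distrib, Finset.sum_pi_single', Finset.mem_univ,
      if_true]
    decide
  · rw [pr_apply, if_neg (Ne.symm ha), if_neg (Ne.symm hb), add_zero]

theorem dot_pr (u : Fin (n + 1) → ZMod 2) (a b : Fin (n + 1)) : u ⬝ᵥ pr a b = u a + u b := by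
  unfold pr
  rw [dotProduct_add, dotProduct_single, dotProduct_single, mul_one, mul_one]

theorem phi_surjective (hn : 1 ≤ n) : Function.Surjective (phi n) := by
  rintro ⟨a, b⟩
  have h0 : (0 : Fin (n + 1)) ≠ Fin.last n := by
    intro h
    have := congrArg Fin.val h
    simp at this
    omega
  refine ⟨Pi.single 0 (a + b) + Pi.single (Fin.last n) b, ?_⟩
  rw [phi_apply]
  simp only [Pi.add_apply, Finset.sum_add_distrib, Pi.single_apply, if_neg (Ne.symm h0), zero_add,
    Prod.mk.injEq, and_true, Finset.sum_ite_eq', Finset.mem_univ, if_true]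
  rw [add_assoc, CharTwo.add_self_eq_zero, add_zero]

theorem finrank_E0 (hn : 1 ≤ n) : finrank (ZMod 2) (E0 n) + 2 = n + 1 := by
  have h := LinearMap.finrank_range_add_finrank_ker (phi n)
  rw [LinearMap.range_eq_top.mpr (phi_surjective hn), finrank_top, Module.finrank_prod,
    Module.finrank_self, Module.finrank_fin_fun] at h
  unfold E0
  omega

/-- the companion bilinear form -/
def B0 : LinearMap.BilinMap (ZMod 2) (E0 n) (ZMod 2) :=
  LinearMap.mk₂ (ZMod 2) (fun u v => (u : Fin (n + 1) → ZMod 2) ⬝ᵥ (v : Fin (n + 1) → ZMod 2))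
    (fun u u' v => by simp [add_dotProduct])
    (fun c u v => by simp [smul_dotProduct])
    (fun u v v' => by simp [dotProduct_add])
    (fun c u v => by simp [dotProduct_smul])

/-- the quadratic form on `E0` -/
def Q0 : QuadraticForm (ZMod 2) (E0 n) where
  toFun v := Qf (v : Fin (n + 1) → ZMod 2)
  toFun_smul a v := by
    have : a = 0 ∨ a = 1 := by revert a; decide
    rcases this with rfl | rfl
    · simp [Qf, wt_zero]
    · simp
  exists_companion' := ⟨B0, fun u v => by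
    have hu := ((mem_E0 _).mp u.2).1
    have hv := ((mem_E0 _).mp v.2).1
    exact Qf_add _ _ hu hv⟩

theorem Q0_apply (v : E0 n) : Q0 v = Qf (v : Fin (n + 1) → ZMod 2) := rfl

theorem polar_Q0 (u v : E0 n) :
    polar (Q0 (n := n)) u v = (u : Fin (n + 1) → ZMod 2) ⬝ᵥ (v : Fin (n + 1) → ZMod 2) := by
  unfold polar
  rw [Q0_apply, Q0_apply, Q0_apply, Submodule.coe_add,
    Qf_add _ _ ((mem_E0 _).mp u.2).1 ((mem_E0 _).mp v.2).1]
  ring

theorem nondeg_Q0 (hn : Odd n) : (polarBilin (Q0 (n := n))).Nondegenerate := by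
  rw [Cfsg.Agent.Lib.H13.nondegenerate_polar_iff]
  intro u hu
  -- all non-last coordinates are equal
  have h1 : ∀ a b : Fin (n + 1), a ≠ Fin.last n → b ≠ Fin.last n →
      (u : Fin (n + 1) → ZMod 2) a = (u : Fin (n + 1) → ZMod 2) b := by
    intro a b ha hb
    have := hu ⟨pr a b, pr_mem a b ha hb⟩
    rw [polar_Q0, dot_pr] at this
    exact CharTwo.add_eq_zero.mp this
  obtain ⟨hs, hl⟩ := (mem_E0 _).mp u.2
  have h0 : (0 : Fin (n + 1)) ≠ Fin.last n := by
    intro h
    have := congrArg Fin.val h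
    simp at this
    obtain ⟨m, hm⟩ := hn
    omega
  rw [Fin.sum_univ_castSucc, hl, add_zero] at hs
  have h2 : ∀ i : Fin n, (u : Fin (n + 1) → ZMod 2) i.castSucc = (u : Fin (n + 1) → ZMod 2) 0 :=
    fun i => h1 _ _ (Fin.castSucc_lt_last i).ne h0
  rw [Finset.sum_congr rfl (fun i _ => h2 i), Finset.sum_const, Finset.card_univ, Fintype.card_fin,
    nsmul_eq_mul] at hs
  obtain ⟨m, hm⟩ := hn
  have hn1 : ((n : ℕ) : ZMod 2) = 1 := by
    rw [hm, Nat.cast_add, Nat.cast_mul]
    have : ((2 : ℕ) : ZMod 2) = 0 := by decide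
    rw [this, zero_mul, zero_add, Nat.cast_one]
  rw [hn1, one_mul] at hs
  apply Subtype.ext
  funext x
  rw [Submodule.coe_zero, Pi.zero_apply]
  by_cases hx : x = Fin.last n
  · rw [hx, hl]
  · rw [h1 x 0 hx h0, hs]

end space

section action
variable {n : ℕ}

/-- the action on the ambient space -/
def Tamb (π : Equiv.Perm (Fin (n + 1))) :
    (Fin (n + 1) → ZMod 2) →ₗ[ZMod 2] (Fin (n + 1) → ZMod 2) where
  toFun v := fun x => v (π⁻¹ x) + v (π⁻¹ (Fin.last n))
  map_add' u v := by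
    funext x
    simp only [Pi.add_apply]
    ring
  map_smul' c v := by
    funext x
    simp only [Pi.smul_apply, smul_eq_mul, RingHom.id_apply]
    ring

theorem Tamb_apply (π : Equiv.Perm (Fin (n + 1))) (v : Fin (n + 1) → ZMod 2) (x : Fin (n + 1)) :
    Tamb π v x = v (π⁻¹ x) + v (π⁻¹ (Fin.last n)) := rfl

theorem Tamb_mul (π σ : Equiv.Perm (Fin (n + 1))) (v : Fin (n + 1) → ZMod 2) :
    Tamb (π * σ) v = Tamb π (Tamb σ v) := by
  funext x
  rw [Tamb_apply, Tamb_apply, Tamb_apply, Tamb_apply, _root_.mul_inv_rev, Equiv.Perm.mul_apply,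
    Equiv.Perm.mul_apply]
  have : ∀ a b c : ZMod 2, a + b = a + c + (b + c) := by decide
  exact this _ _ _

theorem Tamb_eq (π : Equiv.Perm (Fin (n + 1))) (v : Fin (n + 1) → ZMod 2) :
    (v (π⁻¹ (Fin.last n)) = 0 ∧ Tamb π v = v ∘ ⇑π⁻¹) ∨
    (v (π⁻¹ (Fin.last n)) = 1 ∧ Tamb π v = v ∘ ⇑π⁻¹ + 1) := by
  have : v (π⁻¹ (Fin.last n)) = 0 ∨ v (π⁻¹ (Fin.last n)) = 1 := by
    generalize v (π⁻¹ (Fin.last n)) = c
    revert c; decide
  rcases this with h | h
  · left
    refine ⟨h, ?_⟩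
    funext x
    rw [Tamb_apply, h, add_zero]
    rfl
  · right
    refine ⟨h, ?_⟩
    funext x
    rw [Tamb_apply, h]
    rfl

theorem sum_comp_perm (π : Equiv.Perm (Fin (n + 1))) (v : Fin (n + 1) → ZMod 2) :
    ∑ i, (v ∘ ⇑π) i = ∑ i, v i := Equiv.sum_comp π v

theorem Tamb_mem (hn : Odd n) (π : Equiv.Perm (Fin (n + 1))) (v : Fin (n + 1) → ZMod 2)
    (hv : v ∈ E0 n) : Tamb π v ∈ E0 n := by
  rw [mem_E0] at hv ⊢
  constructor
  · have h1 : ∑ i : Fin (n + 1), (1 : Fin (n + 1) → ZMod 2) i = 0 := by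
      simp only [Pi.one_apply, Finset.sum_const, Finset.card_univ, Fintype.card_fin, nsmul_eq_mul,
        mul_one]
      obtain ⟨m, hm⟩ := hn
      have : n + 1 = 2 * (m + 1) := by omega
      rw [this, Nat.cast_mul]
      have : ((2 : ℕ) : ZMod 2) = 0 := by decide
      rw [this, zero_mul]
    rcases Tamb_eq π v with ⟨_, h⟩ | ⟨_, h⟩
    · rw [h, sum_comp_perm, hv.1]
    · rw [h]
      simp only [Pi.add_apply, Finset.sum_add_distrib]
      rw [sum_comp_perm, hv.1, h1, add_zero]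
  · rw [Tamb_apply, CharTwo.add_self_eq_zero]

theorem Qf_Tamb (m : ℕ) (hn : n + 1 = 4 * m) (π : Equiv.Perm (Fin (n + 1)))
    (v : Fin (n + 1) → ZMod 2) (hv : v ∈ E0 n) : Qf (Tamb π v) = Qf v := by
  rw [mem_E0] at hv
  rcases Tamb_eq π v with ⟨_, h⟩ | ⟨_, h⟩
  · rw [h]
    unfold Qf
    rw [wt_comp_perm]
  · rw [h]
    unfold Qf
    have h1 := wt_add_one (v ∘ ⇑π⁻¹)
    rw [wt_comp_perm] at h1
    obtain ⟨a, ha⟩ := even_wt v hv.1
    rw [ha] at h1 ⊢
    have h2 : wt (v ∘ ⇑π⁻¹ + 1) = 2 * (2 * m - a) := by omega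
    rw [h2, Nat.mul_div_cancel_left _ (by norm_num), Nat.mul_div_cancel_left _ (by norm_num)]
    have h3 : (2 * m - a) + a = 2 * m := by omega
    have h4 := congrArg (Nat.cast : ℕ → ZMod 2) h3
    rw [Nat.cast_add, Nat.cast_mul] at h4
    have : ((2 : ℕ) : ZMod 2) = 0 := by decide
    rw [this, zero_mul] at h4
    exact CharTwo.add_eq_zero.mp h4

/-- the representation on `E0` -/
def rho (hn : Odd n) : Equiv.Perm (Fin (n + 1)) →* Module.End (ZMod 2) (E0 n) where
  toFun π := (Tamb π).restrict (fun v hv => Tamb_mem hn π v hv)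
  map_one' := by
    apply LinearMap.ext
    intro v
    apply Subtype.ext
    funext x
    show Tamb 1 (v : Fin (n + 1) → ZMod 2) x = (v : Fin (n + 1) → ZMod 2) x
    rw [Tamb_apply, inv_one, Equiv.Perm.one_apply, Equiv.Perm.one_apply,
      ((mem_E0 _).mp v.2).2, add_zero]
  map_mul' π σ := by
    apply LinearMap.ext
    intro v
    apply Subtype.ext
    show Tamb (π * σ) (v : Fin (n + 1) → ZMod 2) = Tamb π (Tamb σ (v : Fin (n + 1) → ZMod 2))
    exact Tamb_mul π σ _

theorem rho_apply (hn : Odd n) (π : Equiv.Perm (Fin (n + 1))) (v : E0 n) :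
    ((rho hn π v : E0 n) : Fin (n + 1) → ZMod 2) = Tamb π (v : Fin (n + 1) → ZMod 2) := rfl

theorem exists_notMem (S : Finset (Fin (n + 1))) (h : S.card < n + 1) : ∃ x, x ∉ S := by
  by_contra hcon
  push Not at hcon
  have : S = Finset.univ := Finset.eq_univ_iff_forall.mpr hcon
  rw [this, Finset.card_univ, Fintype.card_fin] at h
  omega

theorem rho_injective (hn : Odd n) (h4 : 4 ≤ n) : Function.Injective (rho hn) := by
  rw [injective_iff_map_eq_one]
  intro π hπ
  by_contra hne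
  have hσ : π⁻¹ ≠ 1 := fun h => hne (inv_eq_one.mp h)
  -- the fixed-point equation
  have key : ∀ a b : Fin (n + 1), a ≠ Fin.last n → b ≠ Fin.last n → ∀ x,
      pr a b (π⁻¹ x) + pr a b (π⁻¹ (Fin.last n)) = pr a b x := by
    intro a b ha hb x
    have := congrArg (fun f : Module.End (ZMod 2) (E0 n) =>
      ((f ⟨pr a b, pr_mem a b ha hb⟩ : E0 n) : Fin (n + 1) → ZMod 2) x) hπ
    simpa [rho_apply, Tamb_apply] using this
  by_cases hl : π⁻¹ (Fin.last n) = Fin.last n
  · -- some other point is moved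
    obtain ⟨a, ha⟩ : ∃ a, π⁻¹ a ≠ a := by
      by_contra hcon
      push Not at hcon
      exact hσ (Equiv.ext hcon)
    have hal : a ≠ Fin.last n := by
      rintro rfl
      exact ha hl
    obtain ⟨b, hb⟩ := exists_notMem ({Fin.last n, a, π⁻¹ a} : Finset (Fin (n + 1)))
      (lt_of_le_of_lt (Finset.card_le_three) (by omega))
    simp only [Finset.mem_insert, Finset.mem_singleton, not_or] at hb
    have := key a b hal hb.1 a
    rw [hl, pr_apply, pr_apply, pr_apply, if_neg ha, if_neg (Ne.symm hb.2.2),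
      if_neg (Ne.symm hal), if_neg (Ne.symm hb.1), if_pos rfl, if_neg (Ne.symm hb.2.1)] at this
    revert this; decide
  · obtain ⟨b, hb⟩ := exists_notMem ({Fin.last n, π⁻¹ (Fin.last n)} : Finset (Fin (n + 1)))
      (lt_of_le_of_lt (Finset.card_le_two) (by omega))
    simp only [Finset.mem_insert, Finset.mem_singleton, not_or] at hb
    obtain ⟨x, hx⟩ := exists_notMem
      ({π⁻¹ (Fin.last n), b, Fin.last n, π b} : Finset (Fin (n + 1)))
      (lt_of_le_of_lt (Finset.card_le_four) (by omega))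
    simp only [Finset.mem_insert, Finset.mem_singleton, not_or] at hx
    have := key (π⁻¹ (Fin.last n)) b hl hb.1 x
    have h1 : π⁻¹ x ≠ π⁻¹ (Fin.last n) := fun h => hx.2.2.1 (π⁻¹.injective h)
    have h2 : π⁻¹ x ≠ b := by
      intro h
      apply hx.2.2.2
      rw [← h]
      simp
    rw [pr_apply, pr_apply, pr_apply, if_neg h1, if_neg h2, if_pos rfl, if_neg (Ne.symm hb.2),
      if_neg hx.1, if_neg hx.2.1] at this
    revert this; decide

end action

section count

theorem gen_fun {R : Type*} [CommRing R] (x : R) (M : ℕ) :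
    ∑ w : Fin M → ZMod 2, x ^ wt w = (1 + x) ^ M := by
  have h2 : ∀ _ : Fin M, ∑ a : ZMod 2, x ^ a.val = 1 + x := by
    intro _
    have : (Finset.univ : Finset (ZMod 2)) = {0, 1} := by decide
    rw [this, Finset.sum_pair (by decide)]
    have h0 : (0 : ZMod 2).val = 0 := rfl
    have h1 : (1 : ZMod 2).val = 1 := rfl
    rw [h0, h1, pow_zero, pow_one]
  calc ∑ w : Fin M → ZMod 2, x ^ wt w = ∑ w : Fin M → ZMod 2, ∏ i, x ^ (w i).val := by
        refine Finset.sum_congr rfl (fun w _ => ?_)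
        unfold wt
        rw [Finset.prod_pow_eq_pow_sum]
    _ = ∏ _i : Fin M, ∑ a : ZMod 2, x ^ a.val := by
        rw [Finset.prod_univ_sum, Fintype.piFinset_univ]
    _ = (1 + x) ^ M := by
        rw [Finset.prod_congr rfl (fun i _ => h2 i), Finset.prod_const, Finset.card_univ,
          Fintype.card_fin]

/-- number of vectors of weight `j` mod 4 -/
def A (M j : ℕ) : ℕ := (Finset.univ.filter (fun w : Fin M → ZMod 2 => wt w % 4 = j)).card

theorem sum_mod_four {R : Type*} [AddCommMonoid R] (M : ℕ) (g : ℕ → R) :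
    ∑ w : Fin M → ZMod 2, g (wt w % 4) = ∑ j ∈ Finset.range 4, A M j • g j := by
  rw [← Finset.sum_fiberwise_of_maps_to (s := Finset.univ) (t := Finset.range 4)
    (g := fun w : Fin M → ZMod 2 => wt w % 4)
    (fun w _ => Finset.mem_range.mpr (Nat.mod_lt _ (by norm_num)))]
  refine Finset.sum_congr rfl (fun j _ => ?_)
  rw [Finset.sum_congr rfl (fun w hw => by rw [(Finset.mem_filter.mp hw).2]), Finset.sum_const]
  rfl

theorem pow_mod_four {R : Type*} [Monoid R] (x : R) (hx : x ^ 4 = 1) (m : ℕ) :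
    x ^ m = x ^ (m % 4) := by
  conv_lhs => rw [← Nat.div_add_mod m 4]
  rw [pow_add, pow_mul, hx, one_pow, one_mul]

theorem A_sum (M : ℕ) : A M 0 + A M 1 + A M 2 + A M 3 = 2 ^ M := by
  have h := sum_mod_four M (fun _ => (1 : ℕ))
  simp only [Finset.sum_const, Finset.card_univ, Fintype.card_fun, ZMod.card, Fintype.card_fin,
    smul_eq_mul, mul_one] at h
  rw [Finset.sum_range_succ, Finset.sum_range_succ, Finset.sum_range_succ,
    Finset.sum_range_one] at h
  omega

theorem A_alt (M : ℕ) (hM : 1 ≤ M) :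
    (A M 0 : ℤ) - A M 1 + A M 2 - A M 3 = 0 := by
  have h1 := gen_fun (-1 : ℤ) M
  rw [show (1 : ℤ) + -1 = 0 by norm_num, zero_pow (by omega)] at h1
  have h2 : ∀ w : Fin M → ZMod 2, (-1 : ℤ) ^ wt w = (-1 : ℤ) ^ (wt w % 4) := fun w =>
    pow_mod_four (-1 : ℤ) (by norm_num) _
  rw [Finset.sum_congr rfl (fun w _ => h2 w), sum_mod_four M (fun j => (-1 : ℤ) ^ j)] at h1
  rw [Finset.sum_range_succ, Finset.sum_range_succ, Finset.sum_range_succ,
    Finset.sum_range_one] at h1
  simp only [nsmul_eq_mul] at h1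
  linarith

/-- Gaussian integer `i` -/
def gI : GaussianInt := ⟨0, 1⟩

theorem gI_pow_four : gI ^ 4 = 1 := by decide

theorem one_add_gI_pow_four : (1 + gI) ^ 4 = ((-4 : ℤ) : GaussianInt) := by decide

def reHom : GaussianInt →+ ℤ where
  toFun z := z.re
  map_zero' := rfl
  map_add' _ _ := rfl

theorem A_re (M : ℕ) : (A M 0 : ℤ) - A M 2 = ((1 + gI) ^ M).re := by
  have h1 := gen_fun gI M
  have h2 : ∀ w : Fin M → ZMod 2, gI ^ wt w = gI ^ (wt w % 4) := fun w =>
    pow_mod_four gI gI_pow_four _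
  rw [Finset.sum_congr rfl (fun w _ => h2 w), sum_mod_four M (fun j => gI ^ j)] at h1
  rw [Finset.sum_range_succ, Finset.sum_range_succ, Finset.sum_range_succ,
    Finset.sum_range_one] at h1
  have h3 := congrArg reHom h1
  simp only [map_add, map_nsmul] at h3
  have e0 : reHom (gI ^ 0) = 1 := by decide
  have e1 : reHom (gI ^ 1) = 0 := by decide
  have e2 : reHom (gI ^ 2) = -1 := by decide
  have e3 : reHom (gI ^ 3) = 0 := by decide
  rw [e0, e1, e2, e3] at h3
  simp only [nsmul_eq_mul, mul_one, mul_zero, add_zero, mul_neg] at h3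
  show _ = reHom ((1 + gI) ^ M)
  rw [← h3]
  ring

theorem re_pow (k : ℕ) : ((1 + gI) ^ (4 * k + 3)).re = -2 * (-4) ^ k := by
  rw [pow_add, pow_mul, one_add_gI_pow_four]
  have h3 : (1 + gI) ^ 3 = (⟨-2, 2⟩ : GaussianInt) := by decide
  rw [h3, ← Int.cast_pow, Zsqrtd.re_mul, Zsqrtd.re_intCast, Zsqrtd.im_intCast]
  ring

theorem A_zero (k : ℕ) : (A (4 * k + 3) 0 : ℤ) = 2 ^ (4 * k + 1) - (-4) ^ k := by
  have h1 := A_re (4 * k + 3)
  rw [re_pow] at h1
  have h2 := A_alt (4 * k + 3) (by omega)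
  have h3 := A_sum (4 * k + 3)
  have h3' : (A (4 * k + 3) 0 : ℤ) + A (4 * k + 3) 1 + A (4 * k + 3) 2 + A (4 * k + 3) 3 =
      2 ^ (4 * k + 3) := by exact_mod_cast h3
  have h4 : (2 : ℤ) ^ (4 * k + 3) = 4 * 2 ^ (4 * k + 1) := by
    rw [show 4 * k + 3 = 4 * k + 1 + 2 by ring, pow_add]; ring
  linarith

end count

section final

theorem wt_castSucc {n : ℕ} (v : Fin (n + 1) → ZMod 2) (hv : v (Fin.last n) = 0) :
    wt (fun i : Fin n => v i.castSucc) = wt v := by
  unfold wt
  rw [Fin.sum_univ_castSucc (fun i => (v i).val), hv]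
  rfl

theorem Qf_eq_zero_iff {N : ℕ} (v : Fin N → ZMod 2) (hv : ∑ i, v i = 0) :
    Qf v = 0 ↔ wt v % 4 = 0 := by
  obtain ⟨a, ha⟩ := even_wt v hv
  unfold Qf
  rw [ha, Nat.mul_div_cancel_left _ (by norm_num), ZMod.natCast_eq_zero_iff]
  omega

theorem card_zeros (n : ℕ) : Nat.card {v : E0 n // Q0 v = 0} = A n 0 := by
  have e : {v : E0 n // Q0 v = 0} ≃ {w : Fin n → ZMod 2 // wt w % 4 = 0} :=
    { toFun := fun v => ⟨fun i => (v.1 : Fin (n + 1) → ZMod 2) i.castSucc, by
        have h1 := (mem_E0 _).mp v.1.2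
        rw [wt_castSucc _ h1.2]
        exact (Qf_eq_zero_iff _ h1.1).mp v.2⟩
      invFun := fun w => ⟨⟨Fin.snoc w.1 0, by
          rw [mem_E0]
          refine ⟨?_, Fin.snoc_last _ _⟩
          rw [← cast_wt, ← wt_castSucc _ (Fin.snoc_last _ _)]
          simp only [Fin.snoc_castSucc]
          rw [ZMod.natCast_eq_zero_iff]
          have := w.2
          show 2 ∣ wt w.1
          omega⟩, by
          rw [Q0_apply]
          have hs : ∑ i, (Fin.snoc w.1 (0 : ZMod 2) : Fin (n + 1) → ZMod 2) i = 0 := by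
            rw [← cast_wt, ← wt_castSucc _ (Fin.snoc_last _ _)]
            simp only [Fin.snoc_castSucc]
            rw [ZMod.natCast_eq_zero_iff]
            have := w.2
            show 2 ∣ wt w.1
            omega
          rw [Qf_eq_zero_iff _ hs, ← wt_castSucc _ (Fin.snoc_last _ _)]
          simp only [Fin.snoc_castSucc]
          exact w.2⟩
      left_inv := by
        intro v
        apply Subtype.ext
        apply Subtype.ext
        funext x
        refine Fin.lastCases ?_ (fun i => ?_) x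
        · simp only [Fin.snoc_last]
          exact ((mem_E0 _).mp v.1.2).2.symm
        · simp only [Fin.snoc_castSucc]
      right_inv := by
        intro w
        apply Subtype.ext
        funext i
        simp only [Fin.snoc_castSucc] }
  rw [Nat.card_congr e, Nat.card_eq_fintype_card, Fintype.card_subtype]
  rfl

theorem aniso : ∀ z₁ z₂ : ZMod 2, z₁ ^ 2 + 1 * z₁ * z₂ + 1 * z₂ ^ 2 = 0 → z₁ = 0 ∧ z₂ = 0 := by
  decide

theorem main (k : ℕ) (hk1 : 1 ≤ k) :
    (Odd k → ∃ φ : Equiv.Perm (Fin (4 * k + 4)) →*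
      ↥(Cfsg.isometryGroup (ZMod 2) (Cfsg.quadFormPlus (2 * k + 1) (ZMod 2))),
      Function.Injective φ) ∧
    (Even k → ∃ φ : Equiv.Perm (Fin (4 * k + 4)) →*
      ↥(Cfsg.isometryGroup (ZMod 2) (Cfsg.quadFormMinus (2 * k) (ZMod 2) 1 1)),
      Function.Injective φ) := by
  have hn : Odd (4 * k + 3) := ⟨2 * k + 1, by ring⟩
  have hfr : finrank (ZMod 2) (E0 (4 * k + 3)) = 2 * (2 * k + 1) := by
    have := finrank_E0 (n := 4 * k + 3) (by omega)
    omega
  have hnd := nondeg_Q0 hn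
  have hcount := card_zeros (4 * k + 3)
  have hA := A_zero k
  have hcard : Fintype.card (ZMod 2) = 2 := ZMod.card 2
  -- the two standard counts
  have hplus := Cfsg.Agent.S0289.result hcard (2 * k + 1) (by omega)
  have hminus : Nat.card {v : (Fin (2 * k) ⊕ Fin (2 * k)) ⊕ Fin 2 → ZMod 2 //
      Cfsg.quadFormMinus (2 * k) (ZMod 2) 1 1 v = 0} =
      2 ^ (2 * (2 * k + 1) - 1) + 2 ^ (2 * k) - 2 ^ (2 * k + 1) :=
    Cfsg.Agent.S0290.result hcard (2 * k + 1) (by omega) 1 1 aniso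
  rw [Nat.add_sub_cancel] at hplus
  -- powers
  obtain ⟨X, hX⟩ : ∃ X : ℕ, X = 2 ^ (2 * k) := ⟨_, rfl⟩
  have hX1 : 1 ≤ X := by rw [hX]; exact Nat.one_le_two_pow
  have e1 : 2 ^ (2 * (2 * k + 1) - 1) = 2 * (X * X) := by
    rw [show 2 * (2 * k + 1) - 1 = 2 * k + 2 * k + 1 by omega, pow_succ, pow_add, ← hX]; ring
  have e2 : 2 ^ (2 * k + 1) = 2 * X := by rw [pow_succ, ← hX]; ring
  have e3 : (2 : ℤ) ^ (4 * k + 1) = 2 * ((X : ℤ) * X) := by
    rw [show 4 * k + 1 = 2 * k + 2 * k + 1 by omega, pow_succ, pow_add, hX]; push_cast; ring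
  have e4 : (4 : ℤ) ^ k = X := by
    rw [hX, show (4 : ℤ) = 2 ^ 2 by norm_num, ← pow_mul]; push_cast; ring
  rw [e1, e2, ← hX] at hplus hminus
  have hXX : X ≤ X * X := Nat.le_mul_self X
  -- the injectivity argument
  have hinj : ∀ {ι : Type} [Fintype ι] [DecidableEq ι] (Θ : E0 (4 * k + 3) ≃ₗ[ZMod 2] (ι → ZMod 2))
      (Q₀ : (ι → ZMod 2) → ZMod 2) (hb : ∀ v, Q0 v = Q₀ (Θ v)),
      ∃ φ : Equiv.Perm (Fin (4 * k + 4)) →* ↥(Cfsg.isometryGroup (ZMod 2) Q₀),
        Function.Injective φ := by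
    intro ι _ _ Θ Q₀ hb
    obtain ⟨φ, hφ⟩ := TraceForm.exists_hom_isometryGroup Θ Q₀ (fun v => Q0 v) hb (rho hn)
      (fun g v => by
        show Qf _ = Qf _
        rw [rho_apply]
        exact Qf_Tamb (k + 1) (by ring) g _ v.2)
    refine ⟨φ, fun g h hgh => ?_⟩
    apply rho_injective hn (by omega)
    apply LinearMap.ext
    intro v
    apply Θ.injective
    rw [← hφ, ← hφ, hgh]
  -- zero counts through an isometry
  have hzero : ∀ {ι : Type} (Θ : E0 (4 * k + 3) ≃ₗ[ZMod 2] (ι → ZMod 2))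
      (Q₀ : (ι → ZMod 2) → ZMod 2) (hb : ∀ v, Q0 v = Q₀ (Θ v)),
      Nat.card {x : ι → ZMod 2 // Q₀ x = 0} = A (4 * k + 3) 0 := by
    intro ι Θ Q₀ hb
    rw [← hcount]
    symm
    apply Nat.card_congr
    exact Θ.toEquiv.subtypeEquiv (fun v => by rw [hb]; rfl)
  rcases MinusClass.classify (Q0 (n := 4 * k + 3)) hnd (d := 2 * k + 1) (by omega) hfr with
    ⟨Φ, hΦ⟩ | ⟨ζ, hζ, Φ, hΦ⟩
  · have hz := hzero Φ _ hΦ
    rw [hplus] at hz
    constructor
    · intro _
      exact hinj Φ _ hΦ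
    · intro hk
      exfalso
      rw [Even.neg_pow hk, e3, e4] at hA
      have : ((2 * (X * X) + 2 * X - X : ℕ) : ℤ) = 2 * ((X : ℤ) * X) - X := by
        rw [← hA, hz]
      rw [Nat.cast_sub (by nlinarith)] at this
      push_cast at this
      have hX1' : (1 : ℤ) ≤ X := by exact_mod_cast hX1
      linarith
  · have hζ1 : ζ = 1 := by
      have : ∀ z : ZMod 2, z = 0 ∨ z = 1 := by decide
      rcases this ζ with h | h
      · subst h
        exact absurd (by decide) (hζ 0)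
      · exact h
    subst hζ1
    obtain ⟨Φ, hΦ⟩ : ∃ Φ' : E0 (4 * k + 3) ≃ₗ[ZMod 2] (MinusClass.IM (2 * k) → ZMod 2),
        ∀ v, Q0 v = Cfsg.quadFormMinus (2 * k) (ZMod 2) 1 1 (Φ' v) := ⟨Φ, hΦ⟩
    have hz := hzero Φ _ hΦ
    rw [hminus] at hz
    constructor
    · intro hk
      exfalso
      rw [Odd.neg_pow hk, e3, e4] at hA
      have : ((2 * (X * X) + X - 2 * X : ℕ) : ℤ) = 2 * ((X : ℤ) * X) - -X := by
        rw [← hA, hz]
      rw [Nat.cast_sub (by nlinarith)] at this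
      push_cast at this
      have hX1' : (1 : ℤ) ≤ X := by exact_mod_cast hX1
      linarith
    · intro _
      exact hinj Φ _ hΦ

end final

end Cfsg.Agent.Lib.H13.SymOrth
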