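import Cfsg.Agent.Lib.H13.Char2OmegaA
import Cfsg.Agent.Lib.H13.OInvol
import Cfsg.Prelude.Def_SporadicB

set_option autoImplicit false

namespace Cfsg.Agent.Lib.H13.ThreeTransp

open Matrix Module QuadraticMap
open scoped MatrixGroups
open Cfsg.Agent.Lib.H13.HypPairs Cfsg.Agent.Lib.H13.Char2Gen Cfsg.Agent.Lib.H13.Char2Mat
  Cfsg.Agent.Lib.H13.Dickson Cfsg.Agent.Lib.H13.Char2Omega Cfsg.Agent.Lib.H13.Char2OmegaA
  Cfsg.Agent.Lib.H4

variable {F : Type*} [Field F] [Finite F] [CharP F 2] {ι : Type} [Fintype ι] [DecidableEq ι]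
  (Q : QuadraticForm F (ι → F))

set_option quotPrecheck false in
local notation "OO" => ↥(Cfsg.isometryGroup F ⇑Q)

set_option quotPrecheck false in
local notation "MM" => Matrix ι ι F

/-- the set of orthogonal transvections: `rank (g - 1) = 1` -/
def DD : Set OO := {g | (((g : GL ι F) : MM) - 1).rank = 1}

theorem refl_sub_one_mulVec (v : ι → F) (y : ι → F) :
    (Cfsg.reflectionMatrix ⇑Q v - 1) *ᵥ y = ((Q v)⁻¹ * polar (⇑Q) v y) • v := by
  rw [Matrix.sub_mulVec, Matrix.one_mulVec, reflectionMatrix_mulVec, sub_sub_cancel_left,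
    Char2Gen.neg_eq_self F]

/-- a reflection has `rank (r - 1) = 1` -/
theorem rank_refl (hQ : (polarBilin Q).Nondegenerate) (v : ι → F) (hv : Q v ≠ 0) :
    (Cfsg.reflectionMatrix ⇑Q v - 1).rank = 1 := by
  have hv0 : v ≠ 0 := by
    rintro rfl
    rw [map_zero] at hv
    exact hv rfl
  have hrange : LinearMap.range (Matrix.mulVecLin (Cfsg.reflectionMatrix ⇑Q v - 1)) =
      Submodule.span F {v} := by
    apply le_antisymm
    · rintro _ ⟨y, rfl⟩
      rw [Matrix.mulVecLin_apply, refl_sub_one_mulVec]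
      exact Submodule.smul_mem _ _ (Submodule.subset_span rfl)
    · rw [Submodule.span_le, Set.singleton_subset_iff]
      obtain ⟨y, hy⟩ : ∃ y, polar (⇑Q) v y ≠ 0 := by
        by_contra hcon
        push Not at hcon
        exact hv0 (hQ.1 v (fun y => by rw [polarBilin_apply_apply]; exact hcon y))
      refine ⟨(Q v * (polar (⇑Q) v y)⁻¹) • y, ?_⟩
      rw [Matrix.mulVecLin_apply, refl_sub_one_mulVec, polar_smul_right, smul_eq_mul]
      have : (Q v)⁻¹ * (Q v * (polar (⇑Q) v y)⁻¹ * polar (⇑Q) v y) = 1 := by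
        field_simp
      rw [this, one_smul]
  show finrank F ↥(LinearMap.range (Matrix.mulVecLin (Cfsg.reflectionMatrix ⇑Q v - 1))) = 1
  rw [hrange]
  exact finrank_span_singleton hv0

/-- an isometry with `rank (g - 1) = 1` is a reflection -/
theorem exists_refl_of_rank_one (hQ : (polarBilin Q).Nondegenerate) (g : OO)
    (hg : (((g : GL ι F) : MM) - 1).rank = 1) :
    ∃ (w : ι → F) (hw : Q w ≠ 0), g = reflG Q w hw := by
  obtain ⟨N, hNdef⟩ : ∃ N : MM, N = ((g : GL ι F) : MM) - 1 := ⟨_, rfl⟩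
  rw [← hNdef] at hg
  have hg' : finrank F ↥(LinearMap.range (Matrix.mulVecLin N)) = 1 := hg
  obtain ⟨⟨w, hwmem⟩, hw0, hspan⟩ := finrank_eq_one_iff'.mp hg'
  have hw0' : w ≠ 0 := fun h => hw0 (Subtype.ext h)
  obtain ⟨y₀, hy₀⟩ := hwmem
  rw [Matrix.mulVecLin_apply] at hy₀
  have hN : ∀ y, ∃ c : F, N *ᵥ y = c • w := by
    intro y
    obtain ⟨c, hc⟩ := hspan ⟨N *ᵥ y, ⟨y, rfl⟩⟩
    exact ⟨c, (congrArg Subtype.val hc).symm⟩
  have hgy : ∀ y, ((g : GL ι F) : MM) *ᵥ y = y + N *ᵥ y := by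
    intro y
    rw [hNdef, Matrix.sub_mulVec, Matrix.one_mulVec]
    abel
  have hiso : ∀ y, Q (((g : GL ι F) : MM) *ᵥ y) = Q y := OInvol.iso_apply Q g
  -- the key identity
  have hkey0 : ∀ y c, N *ᵥ y = c • w → c ≠ 0 → c * Q w = polar (⇑Q) y w := by
    intro y c hc hc0
    have h1 := hiso y
    rw [hgy, hc, Char2Gen.Q_add', QuadraticMap.map_smul, polar_smul_right] at h1
    simp only [smul_eq_mul] at h1
    have h2 : c * (c * Q w + polar (⇑Q) y w) = 0 := by linear_combination h1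
    have h3 := (mul_eq_zero.mp h2).resolve_left hc0
    have : c * Q w = - polar (⇑Q) y w := by linear_combination h3
    rw [this, Char2Gen.neg_eq_self F]
  have hc1 : Q w = polar (⇑Q) y₀ w := by
    have := hkey0 y₀ 1 (by rw [one_smul]; exact hy₀) one_ne_zero
    rwa [one_mul] at this
  have hkey : ∀ y c, N *ᵥ y = c • w → c * Q w = polar (⇑Q) y w := by
    intro y c hc
    by_cases hc0 : c = 0
    · subst hc0
      rw [zero_smul] at hc
      have h1 : N *ᵥ (y + y₀) = (1 : F) • w := by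
        rw [Matrix.mulVec_add, hc, hy₀, zero_add, one_smul]
      have h2 := hkey0 (y + y₀) 1 h1 one_ne_zero
      rw [one_mul, polar_add_left, ← hc1] at h2
      rw [zero_mul]
      have : polar (⇑Q) y w = Q w - Q w := by linear_combination -h2
      rw [this, sub_self]
    · exact hkey0 y c hc hc0
  have hQw : Q w ≠ 0 := by
    intro h0
    apply hw0'
    apply hQ.1
    intro y
    rw [polarBilin_apply_apply, polar_comm]
    obtain ⟨c, hc⟩ := hN y
    rw [← hkey y c hc, h0, mul_zero]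
  refine ⟨w, hQw, ?_⟩
  apply Subtype.ext
  apply Units.ext
  rw [reflG_val]
  apply Matrix.ext_iff_mulVec.mpr
  intro y
  obtain ⟨c, hc⟩ := hN y
  have h1 := hkey y c hc
  rw [hgy, hc, reflectionMatrix_mulVec, sub_eq_add_neg, Char2Gen.neg_eq_self F, polar_comm, ← h1]
  congr 2
  field_simp

theorem mem_DD_iff (hQ : (polarBilin Q).Nondegenerate) (g : OO) :
    g ∈ DD Q ↔ ∃ (w : ι → F) (hw : Q w ≠ 0), g = reflG Q w hw := by
  constructor
  · exact exists_refl_of_rank_one Q hQ g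
  · rintro ⟨w, hw, rfl⟩
    show (((reflG Q w hw : OO) : GL ι F).1 - 1).rank = 1
    rw [reflG_val]
    exact rank_refl Q hQ w hw

theorem DD_eq_reflSet (hQ : (polarBilin Q).Nondegenerate) : DD Q = reflSet Q := by
  ext g
  rw [mem_DD_iff Q hQ]
  constructor
  · rintro ⟨w, hw, rfl⟩
    exact ⟨w, hw, rfl⟩
  · rintro ⟨w, hw, hg⟩
    refine ⟨w, hw, ?_⟩
    apply Subtype.ext
    apply Units.ext
    rw [hg, reflG_val]

/-- commuting reflections -/
theorem refl_comm_of_orth (u v : ι → F) (hu : Q u ≠ 0) (hv : Q v ≠ 0)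
    (huv : polar (⇑Q) u v = 0) :
    (reflG Q u hu * reflG Q v hv) ^ 2 = 1 := by
  have h1 : ((reflG Q u hu : OO) : GL ι F).1 *ᵥ v = v := by
    rw [reflG_val, reflectionMatrix_mulVec, huv, mul_zero, zero_smul, sub_zero]
  have hv' : Q (((reflG Q u hu : OO) : GL ι F).1 *ᵥ v) ≠ 0 := by rw [h1]; exact hv
  have h2 := conj_reflG Q (reflG Q u hu) v hv hv'
  have h3 : reflG Q (((reflG Q u hu : OO) : GL ι F).1 *ᵥ v) hv' = reflG Q v hv := by
    congr 1
  rw [h3, reflG_inv] at h2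
  rw [_root_.sq]
  calc reflG Q u hu * reflG Q v hv * (reflG Q u hu * reflG Q v hv)
      = (reflG Q u hu * reflG Q v hv * reflG Q u hu) * reflG Q v hv := by group
    _ = reflG Q v hv * reflG Q v hv := by rw [h2]
    _ = 1 := reflG_mul_self' Q v hv

/-- two non-commuting reflections over the field of two elements generate `S₃` -/
theorem refl_cube (hone : ∀ x : F, x ≠ 0 → x = 1) (u v : ι → F) (hu : Q u ≠ 0) (hv : Q v ≠ 0)
    (huv : polar (⇑Q) u v ≠ 0) :
    (reflG Q u hu * reflG Q v hv) ^ 3 = 1 := by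
  have eu := hone _ hu
  have ev := hone _ hv
  have euv := hone _ huv
  have h1 : ((reflG Q u hu : OO) : GL ι F).1 *ᵥ v = u + v := by
    rw [reflG_val, reflectionMatrix_mulVec, eu, euv, inv_one, one_mul, one_smul,
      Char2Gen.sub_eq_add' F, add_comm]
  have h1' : ((reflG Q v hv : OO) : GL ι F).1 *ᵥ u = u + v := by
    rw [reflG_val, reflectionMatrix_mulVec, ev, polar_comm, euv, inv_one, one_mul, one_smul,
      Char2Gen.sub_eq_add' F]
  have huv' : Q (u + v) ≠ 0 := by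
    rw [Char2Gen.Q_add', eu, ev, euv, Char2Gen.add_self_zero F, zero_add]
    exact one_ne_zero
  have hv' : Q (((reflG Q u hu : OO) : GL ι F).1 *ᵥ v) ≠ 0 := by rw [h1]; exact huv'
  have hu' : Q (((reflG Q v hv : OO) : GL ι F).1 *ᵥ u) ≠ 0 := by rw [h1']; exact huv'
  have h2 := conj_reflG Q (reflG Q u hu) v hv hv'
  have h2' := conj_reflG Q (reflG Q v hv) u hu hu'
  have h3 : reflG Q (((reflG Q u hu : OO) : GL ι F).1 *ᵥ v) hv' = reflG Q (u + v) huv' := by
    congr 1
  have h3' : reflG Q (((reflG Q v hv : OO) : GL ι F).1 *ᵥ u) hu' = reflG Q (u + v) huv' := by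
    congr 1
  rw [h3, reflG_inv] at h2
  rw [h3', reflG_inv] at h2'
  have : (reflG Q u hu * reflG Q v hv) ^ 3 =
      (reflG Q u hu * reflG Q v hv * reflG Q u hu) * (reflG Q v hv * reflG Q u hu * reflG Q v hv) := by
    rw [pow_succ, pow_succ, pow_one]; group
  rw [this, h2, h2', reflG_mul_self']

/-- the reflections of an orthogonal group over the field of two elements form a class of
`3`-transpositions -/
theorem isThreeTranspositionClass [Nonempty ι] (hQ : (polarBilin Q).Nondegenerate)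
    (hA : LemmaA Q) (hone : ∀ x : F, x ≠ 0 → x = 1) :
    Cfsg.IsThreeTranspositionClass (DD Q) := by
  refine ⟨⟨?_, ?_⟩, ?_, ?_⟩
  · intro d hd
    obtain ⟨w, hw, rfl⟩ := (mem_DD_iff Q hQ d).mp hd
    rw [SpInvolCount.orderOf_two_iff]
    refine ⟨reflG_mul_self' Q w hw, ?_⟩
    intro h1
    have h2 : (reflG Q w hw) ∈ DD Q := hd
    rw [h1] at h2
    have h3 : ((((1 : OO) : GL ι F) : MM) - 1).rank = 1 := h2
    have : ((((1 : OO) : GL ι F) : MM) - 1) = 0 := by
      show (1 : MM) - 1 = 0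
      exact sub_self _
    rw [this, Matrix.rank_zero] at h3
    omega
  · intro d hd e he
    obtain ⟨u, hu, rfl⟩ := (mem_DD_iff Q hQ d).mp hd
    obtain ⟨v, hv, rfl⟩ := (mem_DD_iff Q hQ e).mp he
    by_cases huv : polar (⇑Q) u v = 0
    · exact Or.inl (refl_comm_of_orth Q u v hu hv huv)
    · exact Or.inr (refl_cube Q hone u v hu hv huv)
  · obtain ⟨u, hu⟩ := exists_Q_ne_zero' Q hQ
    refine ⟨reflG Q u hu, (mem_DD_iff Q hQ _).mpr ⟨u, hu, rfl⟩, ?_⟩
    ext g
    show g ∈ DD Q ↔ IsConj (reflG Q u hu) g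
    rw [isConj_iff]
    constructor
    · intro hg
      obtain ⟨v, hv, rfl⟩ := (mem_DD_iff Q hQ g).mp hg
      exact exists_conj_A Q hA u v hu hv
    · rintro ⟨c, rfl⟩
      have hne : Q (((c : GL ι F) : MM) *ᵥ u) ≠ 0 := by
        rw [OInvol.iso_apply]; exact hu
      rw [conj_reflG Q c u hu hne]
      exact (mem_DD_iff Q hQ _).mpr ⟨_, hne, rfl⟩
  · rw [DD_eq_reflSet Q hQ]
    exact closure_reflSet_eq_top_A Q hQ hA

end Cfsg.Agent.Lib.H13.ThreeTransp
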