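import Mathlib

set_option autoImplicit false

namespace Cfsg.Agent.Lib.H13.Tiling

open Finset

section core
variable {ι : Type*} [DecidableEq ι] [LinearOrder ι]

/-- an invariant set built from fixed points and pairs -/
theorem build_card (π : ι → ι) (hπ : Function.Involutive π) (A T₀ : Finset ι)
    (hA : ∀ i ∈ A, π i = i) (hT : ∀ i ∈ T₀, i < π i) :
    (A ∪ (T₀ ∪ T₀.image π)).card = A.card + 2 * T₀.card := by
  have h1 : Disjoint T₀ (T₀.image π) := by
    rw [Finset.disjoint_left]
    intro i hi hi'
    obtain ⟨k, hk, hki⟩ := Finset.mem_image.mp hi'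
    have h2 := hT k hk
    have h3 := hT i hi
    rw [← hki, hπ k] at h3
    exact lt_asymm h2 h3
  have h2 : Disjoint A (T₀ ∪ T₀.image π) := by
    rw [Finset.disjoint_left]
    intro i hi hi'
    have hfix := hA i hi
    rcases Finset.mem_union.mp hi' with h | h
    · have := hT i h
      rw [hfix] at this
      exact lt_irrefl _ this
    · obtain ⟨k, hk, hki⟩ := Finset.mem_image.mp h
      have := hT k hk
      rw [hki] at this
      have h4 : π i = k := by rw [← hki, hπ k]
      rw [hfix] at h4
      rw [h4] at this
      exact lt_irrefl _ this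
  rw [Finset.card_union_of_disjoint h2, Finset.card_union_of_disjoint h1,
    Finset.card_image_of_injective _ hπ.injective]
  ring

theorem build_inv (π : ι → ι) (hπ : Function.Involutive π) (A T₀ : Finset ι)
    (hA : ∀ i ∈ A, π i = i) :
    ∀ i ∈ (A ∪ (T₀ ∪ T₀.image π)), π i ∈ (A ∪ (T₀ ∪ T₀.image π)) := by
  intro i hi
  rcases Finset.mem_union.mp hi with h | h
  · rw [hA i h]; exact Finset.mem_union_left _ h
  · apply Finset.mem_union_right
    rcases Finset.mem_union.mp h with h | h
    · exact Finset.mem_union_right _ (Finset.mem_image_of_mem _ h)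
    · obtain ⟨k, hk, hki⟩ := Finset.mem_image.mp h
      rw [← hki, hπ k]
      exact Finset.mem_union_left _ hk

/-- the counting of an invariant set -/
theorem card_split (π : ι → ι) (hπ : Function.Involutive π) (S : Finset ι)
    (hS : ∀ i ∈ S, π i ∈ S) :
    S.card = (S.filter (fun i => π i = i)).card + 2 * (S.filter (fun i => i < π i)).card := by
  have h := build_card π hπ (S.filter (fun i => π i = i)) (S.filter (fun i => i < π i))
    (fun i hi => (Finset.mem_filter.mp hi).2) (fun i hi => (Finset.mem_filter.mp hi).2)
  rw [← h]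
  congr 1
  ext i
  simp only [Finset.mem_union, Finset.mem_filter, Finset.mem_image]
  constructor
  · intro hi
    rcases lt_trichotomy i (π i) with h1 | h1 | h1
    · exact Or.inr (Or.inl ⟨hi, h1⟩)
    · exact Or.inl ⟨hi, h1.symm⟩
    · refine Or.inr (Or.inr ⟨π i, ⟨hS i hi, ?_⟩, hπ i⟩)
      rw [hπ i]; exact h1
  · rintro (h | h | ⟨k, ⟨hk, _⟩, rfl⟩)
    · exact h.1
    · exact h.1
    · exact hS k hk

theorem color_aux (π : ι → ι) (hπ : Function.Involutive π) (a : ℕ) (ha : 1 ≤ a) :
    ∀ (t : ℕ) (S : Finset ι), (∀ i ∈ S, π i ∈ S) → S.card = a * t →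
      ∃ c : ι → ℕ, (∀ i ∈ S, c i < t) ∧ (∀ j < t, (S.filter (fun i => c i = j)).card = a) ∧
        (∀ i ∈ S, ∀ i' ∈ S, c i = c i' → c (π i) = c (π i')) := by
  intro t
  induction t using Nat.strong_induction_on with
  | _ t ih =>
    intro S hS hcard
    by_cases ht0 : t = 0
    · subst ht0
      have : S = ∅ := by
        rw [← Finset.card_eq_zero, hcard, mul_zero]
      subst this
      exact ⟨fun _ => 0, by simp, by simp, by simp⟩
    have hsplit := card_split π hπ S hS
    set Fx := S.filter (fun i => π i = i) with hFx
    set T := S.filter (fun i => i < π i) with hT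
    have hFxS : Fx ⊆ S := Finset.filter_subset _ _
    have hTS : T ⊆ S := Finset.filter_subset _ _
    by_cases hA : Even a ∨ 1 ≤ Fx.card
    · -- an invariant block of size a
      obtain ⟨c₀, j₀, hc₀, hj₀, hcj⟩ : ∃ c₀ j₀ : ℕ, c₀ ≤ Fx.card ∧ j₀ ≤ T.card ∧ c₀ + 2 * j₀ = a := by
        have hle : a ≤ Fx.card + 2 * T.card := by
          rw [← hsplit, hcard]
          have : 1 ≤ t := Nat.one_le_iff_ne_zero.mpr ht0
          nlinarith
        by_cases h1 : a / 2 ≤ T.card
        · refine ⟨a % 2, a / 2, ?_, h1, by omega⟩
          rcases hA with hA | hA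
          · rw [Nat.even_iff] at hA; omega
          · have := Nat.mod_lt a (by norm_num : 0 < 2); omega
        · refine ⟨a - 2 * T.card, T.card, by omega, le_refl _, by omega⟩
      obtain ⟨A, hAF, hAc⟩ := Finset.exists_subset_card_eq hc₀
      obtain ⟨T₀, hT₀, hT₀c⟩ := Finset.exists_subset_card_eq hj₀
      set Z := A ∪ (T₀ ∪ T₀.image π) with hZ
      have hAfix : ∀ i ∈ A, π i = i := fun i hi => (Finset.mem_filter.mp (hAF hi)).2
      have hT₀lt : ∀ i ∈ T₀, i < π i := fun i hi => (Finset.mem_filter.mp (hT₀ hi)).2
      have hZc : Z.card = a := by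
        rw [hZ, build_card π hπ A T₀ hAfix hT₀lt, hAc, hT₀c, hcj]
      have hZinv : ∀ i ∈ Z, π i ∈ Z := build_inv π hπ A T₀ hAfix
      have hZS : Z ⊆ S := by
        intro i hi
        rcases Finset.mem_union.mp hi with h | h
        · exact hFxS (hAF h)
        · rcases Finset.mem_union.mp h with h | h
          · exact hTS (hT₀ h)
          · obtain ⟨k, hk, rfl⟩ := Finset.mem_image.mp h
            exact hS k (hTS (hT₀ hk))
      have hS'inv : ∀ i ∈ S \ Z, π i ∈ S \ Z := by
        intro i hi
        rw [Finset.mem_sdiff] at hi ⊢
        refine ⟨hS i hi.1, fun h => hi.2 ?_⟩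
        have := hZinv _ h
        rwa [hπ i] at this
      have hS'c : (S \ Z).card = a * (t - 1) := by
        rw [Finset.card_sdiff_of_subset hZS, hcard, hZc]
        have : 1 ≤ t := Nat.one_le_iff_ne_zero.mpr ht0
        rw [Nat.mul_sub, mul_one]
      obtain ⟨c', hc'lt, hc'card, hc'inv⟩ := ih (t - 1) (by omega) (S \ Z) hS'inv hS'c
      refine ⟨fun i => if i ∈ Z then t - 1 else c' i, ?_, ?_, ?_⟩
      · intro i hi
        by_cases hiZ : i ∈ Z
        · simp only [hiZ, if_true]; omega
        · simp only [hiZ, if_false]
          have := hc'lt i (Finset.mem_sdiff.mpr ⟨hi, hiZ⟩)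
          omega
      · intro j hj
        by_cases hjt : j = t - 1
        · subst hjt
          have : S.filter (fun i => (if i ∈ Z then t - 1 else c' i) = t - 1) = Z := by
            ext i
            rw [Finset.mem_filter]
            constructor
            · rintro ⟨hi, h⟩
              by_contra hiZ
              simp only [hiZ, if_false] at h
              have := hc'lt i (Finset.mem_sdiff.mpr ⟨hi, hiZ⟩)
              omega
            · intro hi
              exact ⟨hZS hi, by simp [hi]⟩
          rw [this, hZc]
        · have : S.filter (fun i => (if i ∈ Z then t - 1 else c' i) = j) =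
              (S \ Z).filter (fun i => c' i = j) := by
            ext i
            rw [Finset.mem_filter, Finset.mem_filter, Finset.mem_sdiff]
            constructor
            · rintro ⟨hi, h⟩
              by_cases hiZ : i ∈ Z
              · simp only [hiZ, if_true] at h; omega
              · simp only [hiZ, if_false] at h
                exact ⟨⟨hi, hiZ⟩, h⟩
            · rintro ⟨⟨hi, hiZ⟩, h⟩
              exact ⟨hi, by simp [hiZ, h]⟩
          rw [this]
          exact hc'card j (by omega)
      · intro i hi i' hi' hcc
        by_cases hiZ : i ∈ Z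
        · have hi'Z : i' ∈ Z := by
            by_contra h
            simp only [hiZ, if_true, h, if_false] at hcc
            have := hc'lt i' (Finset.mem_sdiff.mpr ⟨hi', h⟩)
            omega
          simp only [hZinv i hiZ, hZinv i' hi'Z, if_true]
        · have hi'Z : i' ∉ Z := by
            intro h
            simp only [hiZ, if_false, h, if_true] at hcc
            have := hc'lt i (Finset.mem_sdiff.mpr ⟨hi, hiZ⟩)
            omega
          simp only [hiZ, hi'Z, if_false] at hcc
          have h1 := hS'inv i (Finset.mem_sdiff.mpr ⟨hi, hiZ⟩)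
          have h2 := hS'inv i' (Finset.mem_sdiff.mpr ⟨hi', hi'Z⟩)
          simp only [(Finset.mem_sdiff.mp h1).2, (Finset.mem_sdiff.mp h2).2, if_false]
          exact hc'inv i (Finset.mem_sdiff.mpr ⟨hi, hiZ⟩) i' (Finset.mem_sdiff.mpr ⟨hi', hi'Z⟩) hcc
    · -- a odd, no fixed points: two swapped blocks
      push Not at hA
      obtain ⟨hodd, hm⟩ := hA
      have hm0 : Fx.card = 0 := by omega
      rw [Nat.not_even_iff_odd] at hodd
      have h2s : 2 * T.card = a * t := by rw [← hcard, hsplit, hm0, zero_add]
      have hteven : Even t := by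
        have : Even (a * t) := ⟨T.card, by omega⟩
        rcases Nat.even_mul.mp this with h | h
        · exact absurd h (Nat.not_even_iff_odd.mpr hodd)
        · exact h
      have ht2 : 2 ≤ t := by
        obtain ⟨k, hk⟩ := hteven
        omega
      have haT : a ≤ T.card := by
        obtain ⟨k, hk⟩ := hteven
        have : 1 ≤ k := by omega
        have : T.card = a * k := by
          have : 2 * T.card = 2 * (a * k) := by rw [h2s, hk]; ring
          omega
        nlinarith
      obtain ⟨Y, hYT, hYc⟩ := Finset.exists_subset_card_eq haT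
      set Y' := Y.image π with hY'
      have hYlt : ∀ i ∈ Y, i < π i := fun i hi => (Finset.mem_filter.mp (hYT hi)).2
      have hYY' : Disjoint Y Y' := by
        rw [Finset.disjoint_left]
        intro i hi hi'
        obtain ⟨k, hk, hki⟩ := Finset.mem_image.mp hi'
        have h2 := hYlt k hk
        have h3 := hYlt i hi
        rw [← hki, hπ k] at h3
        exact lt_asymm h2 h3
      have hY'c : Y'.card = a := by
        rw [hY', Finset.card_image_of_injective _ hπ.injective, hYc]
      have hYS : Y ⊆ S := fun i hi => hTS (hYT hi)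
      have hY'S : Y' ⊆ S := by
        intro i hi
        obtain ⟨k, hk, rfl⟩ := Finset.mem_image.mp hi
        exact hS k (hYS hk)
      have hπY : ∀ i ∈ Y, π i ∈ Y' := fun i hi => Finset.mem_image_of_mem _ hi
      have hπY' : ∀ i ∈ Y', π i ∈ Y := by
        intro i hi
        obtain ⟨k, hk, rfl⟩ := Finset.mem_image.mp hi
        rw [hπ k]; exact hk
      set Z := Y ∪ Y' with hZ
      have hZc : Z.card = 2 * a := by
        rw [hZ, Finset.card_union_of_disjoint hYY', hYc, hY'c]; ring
      have hZS : Z ⊆ S := Finset.union_subset hYS hY'S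
      have hZinv : ∀ i ∈ Z, π i ∈ Z := by
        intro i hi
        rcases Finset.mem_union.mp hi with h | h
        · exact Finset.mem_union_right _ (hπY i h)
        · exact Finset.mem_union_left _ (hπY' i h)
      have hS'inv : ∀ i ∈ S \ Z, π i ∈ S \ Z := by
        intro i hi
        rw [Finset.mem_sdiff] at hi ⊢
        refine ⟨hS i hi.1, fun h => hi.2 ?_⟩
        have := hZinv _ h
        rwa [hπ i] at this
      have hS'c : (S \ Z).card = a * (t - 2) := by
        rw [Finset.card_sdiff_of_subset hZS, hcard, hZc, Nat.mul_sub]
        ring_nf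
      obtain ⟨c', hc'lt, hc'card, hc'inv⟩ := ih (t - 2) (by omega) (S \ Z) hS'inv hS'c
      have hnotZ : ∀ i, i ∉ Z → i ∉ Y ∧ i ∉ Y' := by
        intro i hi
        exact ⟨fun h => hi (Finset.mem_union_left _ h), fun h => hi (Finset.mem_union_right _ h)⟩
      have hYnY' : ∀ i, i ∈ Y → i ∉ Y' := fun i hi hi' => (Finset.disjoint_left.mp hYY') hi hi'
      refine ⟨fun i => if i ∈ Y then t - 1 else if i ∈ Y' then t - 2 else c' i, ?_, ?_, ?_⟩
      · intro i hi
        by_cases hiY : i ∈ Y
        · simp only [hiY, if_true]; omega
        · by_cases hiY' : i ∈ Y'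
          · simp only [hiY, hiY', if_true, if_false]; omega
          · simp only [hiY, hiY', if_false]
            have : i ∉ Z := by
              rw [hZ, Finset.mem_union]; tauto
            have := hc'lt i (Finset.mem_sdiff.mpr ⟨hi, this⟩)
            omega
      · intro j hj
        by_cases hjt : j = t - 1
        · subst hjt
          have : S.filter (fun i => (if i ∈ Y then t - 1 else if i ∈ Y' then t - 2 else c' i)
              = t - 1) = Y := by
            ext i
            rw [Finset.mem_filter]
            constructor
            · rintro ⟨hi, h⟩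
              by_contra hiY
              by_cases hiY' : i ∈ Y'
              · simp only [hiY, hiY', if_true, if_false] at h; omega
              · simp only [hiY, hiY', if_false] at h
                have : i ∉ Z := by
                  rw [hZ, Finset.mem_union]; tauto
                have := hc'lt i (Finset.mem_sdiff.mpr ⟨hi, this⟩)
                omega
            · intro hi
              exact ⟨hYS hi, by simp [hi]⟩
          rw [this, hYc]
        by_cases hjt' : j = t - 2
        · subst hjt'
          have : S.filter (fun i => (if i ∈ Y then t - 1 else if i ∈ Y' then t - 2 else c' i)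
              = t - 2) = Y' := by
            ext i
            rw [Finset.mem_filter]
            constructor
            · rintro ⟨hi, h⟩
              by_contra hiY'
              by_cases hiY : i ∈ Y
              · simp only [hiY, if_true] at h; omega
              · simp only [hiY, hiY', if_false] at h
                have : i ∉ Z := by
                  rw [hZ, Finset.mem_union]; tauto
                have := hc'lt i (Finset.mem_sdiff.mpr ⟨hi, this⟩)
                omega
            · intro hi
              have hiY : i ∉ Y := fun h => hYnY' i h hi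
              exact ⟨hY'S hi, by simp [hi, hiY]⟩
          rw [this, hY'c]
        · have : S.filter (fun i => (if i ∈ Y then t - 1 else if i ∈ Y' then t - 2 else c' i)
              = j) = (S \ Z).filter (fun i => c' i = j) := by
            ext i
            rw [Finset.mem_filter, Finset.mem_filter, Finset.mem_sdiff]
            constructor
            · rintro ⟨hi, h⟩
              by_cases hiY : i ∈ Y
              · simp only [hiY, if_true] at h; omega
              · by_cases hiY' : i ∈ Y'
                · simp only [hiY, hiY', if_true, if_false] at h; omega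
                · simp only [hiY, hiY', if_false] at h
                  refine ⟨⟨hi, ?_⟩, h⟩
                  rw [hZ, Finset.mem_union]; tauto
            · rintro ⟨⟨hi, hiZ⟩, h⟩
              obtain ⟨h1, h2⟩ := hnotZ i hiZ
              exact ⟨hi, by simp [h1, h2, h]⟩
          rw [this]
          exact hc'card j (by omega)
      · intro i hi i' hi' hcc
        -- classify i and i'
        have key : ∀ k ∈ S, (k ∈ Y ∧ (if k ∈ Y then t - 1 else if k ∈ Y' then t - 2 else c' k) = t - 1) ∨
            (k ∉ Y ∧ k ∈ Y' ∧ (if k ∈ Y then t - 1 else if k ∈ Y' then t - 2 else c' k) = t - 2) ∨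
            (k ∉ Z ∧ (if k ∈ Y then t - 1 else if k ∈ Y' then t - 2 else c' k) = c' k ∧
              c' k < t - 2) := by
          intro k hk
          by_cases hkY : k ∈ Y
          · left; exact ⟨hkY, by simp [hkY]⟩
          · by_cases hkY' : k ∈ Y'
            · right; left; exact ⟨hkY, hkY', by simp [hkY, hkY']⟩
            · right; right
              have hkZ : k ∉ Z := by rw [hZ, Finset.mem_union]; tauto
              exact ⟨hkZ, by simp [hkY, hkY'], hc'lt k (Finset.mem_sdiff.mpr ⟨hk, hkZ⟩)⟩
        have val : ∀ k ∈ S, (k ∈ Y → (if π k ∈ Y then t - 1 else if π k ∈ Y' then t - 2 else c' (π k)) = t - 2) ∧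
            (k ∈ Y' → (if π k ∈ Y then t - 1 else if π k ∈ Y' then t - 2 else c' (π k)) = t - 1) ∧
            (k ∉ Z → (if π k ∈ Y then t - 1 else if π k ∈ Y' then t - 2 else c' (π k)) = c' (π k)) := by
          intro k hk
          refine ⟨fun h => ?_, fun h => ?_, fun h => ?_⟩
          · have h1 := hπY k h
            have h2 : π k ∉ Y := fun h' => hYnY' _ h' h1
            simp [h1, h2]
          · have h1 := hπY' k h
            simp [h1]
          · have h1 := hS'inv k (Finset.mem_sdiff.mpr ⟨hk, h⟩)
            obtain ⟨h2, h3⟩ := hnotZ _ (Finset.mem_sdiff.mp h1).2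
            simp [h2, h3]
        simp only at hcc ⊢
        rcases key i hi with ⟨h1, h2⟩ | ⟨h1, h1', h2⟩ | ⟨h1, h2, h3⟩ <;>
        rcases key i' hi' with ⟨g1, g2⟩ | ⟨g1, g1', g2⟩ | ⟨g1, g2, g3⟩
        · rw [(val i hi).1 h1, (val i' hi').1 g1]
        · rw [h2, g2] at hcc; omega
        · rw [h2, g2] at hcc; omega
        · rw [h2, g2] at hcc; omega
        · rw [(val i hi).2.1 h1', (val i' hi').2.1 g1']
        · rw [h2, g2] at hcc; omega
        · rw [h2, g2] at hcc; omega
        · rw [h2, g2] at hcc; omega
        · rw [(val i hi).2.2 h1, (val i' hi').2.2 g1]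
          rw [h2, g2] at hcc
          exact hc'inv i (Finset.mem_sdiff.mpr ⟨hi, h1⟩) i' (Finset.mem_sdiff.mpr ⟨hi', g1⟩) hcc

end core

/-- an involution on a set of `a * t` points preserves some partition into `t` blocks of size `a` -/
theorem tiling {ι : Type*} [Fintype ι] [DecidableEq ι] (π : ι → ι) (hπ : Function.Involutive π)
    (a t : ℕ) (ha : 1 ≤ a) (hcard : Fintype.card ι = a * t) :
    ∃ (c : ι → Fin t) (σ : Equiv.Perm (Fin t)),
      (∀ j, Fintype.card {i // c i = j} = a) ∧ ∀ i, c (π i) = σ (c i) := by
  classical
  letI : LinearOrder ι := LinearOrder.lift' (Fintype.equivFin ι) (Fintype.equivFin ι).injective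
  obtain ⟨c₀, hlt, hfib, hinv⟩ := color_aux π hπ a ha t (Finset.univ : Finset ι)
    (fun i _ => Finset.mem_univ _) (by rw [Finset.card_univ, hcard])
  let c : ι → Fin t := fun i => ⟨c₀ i, hlt i (Finset.mem_univ _)⟩
  have hfib' : ∀ j : Fin t, Fintype.card {i // c i = j} = a := by
    intro j
    rw [Fintype.card_subtype, ← hfib j j.2]
    congr 1
    ext i
    simp only [Finset.mem_filter, Finset.mem_univ, true_and, c]
    rw [Fin.ext_iff]
  have hne : ∀ j : Fin t, ∃ i, c i = j := by
    intro j
    have h1 := hfib' j
    have : 0 < Fintype.card {i // c i = j} := by omega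
    obtain ⟨⟨i, hi⟩⟩ := Fintype.card_pos_iff.mp this
    exact ⟨i, hi⟩
  have hinv' : ∀ i i', c i = c i' → c (π i) = c (π i') := by
    intro i i' h
    rw [Fin.ext_iff] at h ⊢
    exact hinv i (Finset.mem_univ _) i' (Finset.mem_univ _) h
  let f : Fin t → Fin t := fun j => c (π (hne j).choose)
  have hf : ∀ i, f (c i) = c (π i) := by
    intro i
    exact hinv' _ _ (hne (c i)).choose_spec
  have hfinv : Function.Involutive f := by
    intro j
    obtain ⟨i, rfl⟩ := hne j
    have h1 : f (c i) = c (π i) := hf i
    have h2 : f (c (π i)) = c (π (π i)) := hf (π i)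
    show f (f (c i)) = c i
    rw [h1, h2, hπ i]
  exact ⟨c, hfinv.toPerm f, hfib', fun i => by
    rw [Function.Involutive.coe_toPerm, hf]⟩

end Cfsg.Agent.Lib.H13.Tiling
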