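import Mathlib
import Cfsg.Agent.Lib.H13.StdForm

/-!
Triality for `PΩ⁺₈(q)`, part 1 (helper13): the split octonions on `F^8` (Zorn vector matrices) with norm the hyperbolic
form `Σ xᵢ x₄₊ᵢ`; the product `omul`, conjugation `okap`, composition `oN_omul`, the Moufang, flexible and alternative
identities.
-/

set_option autoImplicit false
set_option linter.unusedSectionVars false
set_option linter.unusedVariables false
set_option linter.unusedSimpArgs false
set_option linter.deprecated false

namespace Cfsg.Agent.Lib.H13.Tri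

section

open Matrix

variable {F : Type*} [Field F]

/-- the index type of the eight-dimensional space -/
abbrev I8 : Type := Fin 4 ⊕ Fin 4

/-- a vector from its eight coordinates -/
def mk8 (a0 a1 a2 a3 b0 b1 b2 b3 : F) : I8 → F := Sum.elim ![a0, a1, a2, a3] ![b0, b1, b2, b3]

/-- the product of the split octonions (Zorn vector matrices), whose norm is `Σ xᵢ yᵢ` -/
def omul (x y : I8 → F) : I8 → F :=
  mk8
    (x (.inl 0) * y (.inl 0) - x (.inl 1) * y (.inr 1) - x (.inl 2) * y (.inr 2) - x (.inl 3) * y (.inr 3))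
    (x (.inl 0) * y (.inl 1) + y (.inr 0) * x (.inl 1) - (x (.inr 2) * y (.inr 3) - x (.inr 3) * y (.inr 2)))
    (x (.inl 0) * y (.inl 2) + y (.inr 0) * x (.inl 2) - (x (.inr 3) * y (.inr 1) - x (.inr 1) * y (.inr 3)))
    (x (.inl 0) * y (.inl 3) + y (.inr 0) * x (.inl 3) - (x (.inr 1) * y (.inr 2) - x (.inr 2) * y (.inr 1)))
    (x (.inr 0) * y (.inr 0) - x (.inr 1) * y (.inl 1) - x (.inr 2) * y (.inl 2) - x (.inr 3) * y (.inl 3))
    (y (.inl 0) * x (.inr 1) + x (.inr 0) * y (.inr 1) - (x (.inl 2) * y (.inl 3) - x (.inl 3) * y (.inl 2)))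
    (y (.inl 0) * x (.inr 2) + x (.inr 0) * y (.inr 2) - (x (.inl 3) * y (.inl 1) - x (.inl 1) * y (.inl 3)))
    (y (.inl 0) * x (.inr 3) + x (.inr 0) * y (.inr 3) - (x (.inl 1) * y (.inl 2) - x (.inl 2) * y (.inl 1)))

/-- the norm form -/
def oN (x : I8 → F) : F :=
  x (.inl 0) * x (.inr 0) + x (.inl 1) * x (.inr 1) + x (.inl 2) * x (.inr 2) + x (.inl 3) * x (.inr 3)

/-- the polar form of the norm -/
def oB (x y : I8 → F) : F :=
  x (.inl 0) * y (.inr 0) + x (.inl 1) * y (.inr 1) + x (.inl 2) * y (.inr 2) + x (.inl 3) * y (.inr 3) +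
  (y (.inl 0) * x (.inr 0) + y (.inl 1) * x (.inr 1) + y (.inl 2) * x (.inr 2) + y (.inl 3) * x (.inr 3))

/-- the identity element -/
def oe : I8 → F := mk8 1 0 0 0 1 0 0 0

/-- conjugation -/
def okap (x : I8 → F) : I8 → F :=
  mk8 (x (.inr 0)) (-x (.inl 1)) (-x (.inl 2)) (-x (.inl 3)) (x (.inl 0)) (-x (.inr 1)) (-x (.inr 2)) (-x (.inr 3))

theorem oN_eq (x : I8 → F) : oN x = Cfsg.quadFormPlus 4 F x := by
  unfold oN Cfsg.quadFormPlus
  rw [Fin.sum_univ_four]

theorem oB_eq (x y : I8 → F) : oB x y = oN (x + y) - oN x - oN y := by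
  unfold oB oN
  simp only [Pi.add_apply]
  ring

theorem omul_add_left (x x' y : I8 → F) : omul (x + x') y = omul x y + omul x' y := by
  funext i; rcases i with i | i <;> fin_cases i <;> simp [omul, mk8, oe, okap, oN, oB] <;> ring
theorem omul_add_right (x y y' : I8 → F) : omul x (y + y') = omul x y + omul x y' := by
  funext i; rcases i with i | i <;> fin_cases i <;> simp [omul, mk8, oe, okap, oN, oB] <;> ring
theorem omul_smul_left (c : F) (x y : I8 → F) : omul (c • x) y = c • omul x y := by
  funext i; rcases i with i | i <;> fin_cases i <;> simp [omul, mk8, oe, okap, oN, oB] <;> ring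
theorem omul_smul_right (c : F) (x y : I8 → F) : omul x (c • y) = c • omul x y := by
  funext i; rcases i with i | i <;> fin_cases i <;> simp [omul, mk8, oe, okap, oN, oB] <;> ring
theorem oe_omul (x : I8 → F) : omul oe x = x := by
  funext i; rcases i with i | i <;> fin_cases i <;> simp [omul, mk8, oe, okap, oN, oB] <;> ring
theorem omul_oe (x : I8 → F) : omul x oe = x := by
  funext i; rcases i with i | i <;> fin_cases i <;> simp [omul, mk8, oe, okap, oN, oB] <;> ring

theorem oN_omul (x y : I8 → F) : oN (omul x y) = oN x * oN y := by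
  simp [omul, mk8, oN]
  ring

theorem oN_oe : oN (oe : I8 → F) = 1 := by
  simp [oe, mk8, oN]

theorem okap_okap (x : I8 → F) : okap (okap x) = x := by
  funext i; rcases i with i | i <;> fin_cases i <;> simp [omul, mk8, oe, okap, oN, oB] <;> ring
theorem oN_okap (x : I8 → F) : oN (okap x) = oN x := by
  simp [okap, mk8, oN]
  ring

theorem okap_eq (x : I8 → F) : okap x = oB x oe • oe - x := by
  funext i; rcases i with i | i <;> fin_cases i <;> simp [omul, mk8, oe, okap, oN, oB] <;> ring

theorem omul_okap_right (x y : I8 → F) : omul (omul x y) (okap y) = oN y • x := by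
  funext i; rcases i with i | i <;> fin_cases i <;> simp [omul, mk8, oe, okap, oN, oB] <;> ring
theorem omul_okap_left (x y : I8 → F) : omul (okap x) (omul x y) = oN x • y := by
  funext i; rcases i with i | i <;> fin_cases i <;> simp [omul, mk8, oe, okap, oN, oB] <;> ring
theorem okap_omul (x y : I8 → F) : okap (omul x y) = omul (okap y) (okap x) := by
  funext i; rcases i with i | i <;> fin_cases i <;> simp [omul, mk8, oe, okap, oN, oB] <;> ring

end

section

open Matrix

variable {F : Type*} [Field F]

/-- the middle Moufang identity -/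
theorem moufang (a x y : I8 → F) :
    omul (omul a x) (omul y a) = omul (omul a (omul x y)) a := by
  funext i; rcases i with i | i <;> fin_cases i <;> simp [omul, mk8, oe, okap, oN, oB] <;> ring

theorem flexible (a x : I8 → F) : omul (omul a x) a = omul a (omul x a) := by
  funext i; rcases i with i | i <;> fin_cases i <;> simp [omul, mk8, oe, okap, oN, oB] <;> ring

theorem alt_left (x y : I8 → F) : omul x (omul x y) = omul (omul x x) y := by
  funext i; rcases i with i | i <;> fin_cases i <;> simp [omul, mk8, oe, okap, oN, oB] <;> ring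

theorem alt_right (x y : I8 → F) : omul (omul y x) x = omul y (omul x x) := by
  funext i; rcases i with i | i <;> fin_cases i <;> simp [omul, mk8, oe, okap, oN, oB] <;> ring

theorem refl_formula (c x : I8 → F) :
    omul (omul c (okap x)) c = oB c x • c - oN c • x := by
  funext i; rcases i with i | i <;> fin_cases i <;> simp [omul, mk8, oe, okap, oN, oB] <;> ring

theorem oB_omul_left (x y z : I8 → F) : oB (omul x y) z = oB y (omul (okap x) z) := by
  simp [omul, mk8, oe, okap, oN, oB]
  ring

theorem oB_omul_right (x y z : I8 → F) : oB (omul x y) z = oB x (omul z (okap y)) := by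
  simp [omul, mk8, oe, okap, oN, oB]
  ring

theorem omul_self (x : I8 → F) : omul x x = oB x oe • x - oN x • oe := by
  funext i; rcases i with i | i <;> fin_cases i <;> simp [omul, mk8, oe, okap, oN, oB] <;> ring

end

end Cfsg.Agent.Lib.H13.Tri
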