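import Mathlib
import Cfsg.Agent.Lib.H13.Tri1
import Cfsg.Agent.Lib.H13.AutPO14

/-!
Triality, part 2 (helper13): the norm form `Q8 = plusQF F 4`, left and right multiplications, the isometry group `O8` and
its action `ov`, the subgroup `RT` of related triples `A(xy) = (Bx)(Cy)`, the triples `mtrip` attached to products of two
reflections, generation of `O8` by reflections and `commutator O8 ≤ P1` (first components of related triples).
-/

set_option autoImplicit false
set_option linter.unusedSectionVars false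
set_option linter.unusedVariables false
set_option linter.unusedSimpArgs false
set_option linter.deprecated false

namespace Cfsg.Agent.Lib.H13.Tri

section

open Matrix QuadraticMap Module
open Cfsg.Agent.Lib.H13 Cfsg.Agent.Lib.H13.AutPO

variable {F : Type*} [Field F]

/-- the norm form as a quadratic form: the plus-type form of rank four -/
noncomputable abbrev Q8 (F : Type*) [Field F] : QuadraticForm F (I8 → F) := plusQF F 4

theorem Q8_apply (x : I8 → F) : Q8 F x = oN x := by
  rw [plusQF_apply, oN_eq]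

theorem polar_Q8 (x y : I8 → F) : QuadraticMap.polar (⇑(Q8 F)) x y = oB x y := by
  unfold QuadraticMap.polar
  rw [Q8_apply, Q8_apply, Q8_apply, oB_eq]

theorem oB_comm (x y : I8 → F) : oB x y = oB y x := by
  unfold oB; ring

theorem oB_self (x : I8 → F) : oB x x = 2 * oN x := by
  unfold oB oN; ring

theorem oN_smul (c : F) (x : I8 → F) : oN (c • x) = c * c * oN x := by
  simp [oN]; ring

theorem oN_add (x y : I8 → F) : oN (x + y) = oN x + oN y + oB x y := by
  rw [oB_eq]; ring

theorem oB_add_left (x x' y : I8 → F) : oB (x + x') y = oB x y + oB x' y := by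
  simp [oB]; ring

theorem oB_smul_left (c : F) (x y : I8 → F) : oB (c • x) y = c * oB x y := by
  simp [oB]; ring

theorem oB_add_right (x y y' : I8 → F) : oB x (y + y') = oB x y + oB x y' := by
  simp [oB]; ring

theorem oB_smul_right (c : F) (x y : I8 → F) : oB x (c • y) = c * oB x y := by
  simp [oB]; ring

theorem oN_zero : oN (0 : I8 → F) = 0 := by simp [oN]

theorem omul_zero_left (y : I8 → F) : omul 0 y = 0 := by
  have := omul_smul_left (0 : F) (0 : I8 → F) y
  simpa using this

theorem omul_zero_right (x : I8 → F) : omul x 0 = 0 := by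
  have := omul_smul_right (0 : F) x (0 : I8 → F)
  simpa using this

theorem omul_neg_left (x y : I8 → F) : omul (-x) y = -omul x y := by
  have := omul_smul_left (-1 : F) x y
  simpa using this

theorem omul_neg_right (x y : I8 → F) : omul x (-y) = -omul x y := by
  have := omul_smul_right (-1 : F) x y
  simpa using this

theorem omul_sub_left (x x' y : I8 → F) : omul (x - x') y = omul x y - omul x' y := by
  rw [sub_eq_add_neg, omul_add_left, omul_neg_left, sub_eq_add_neg]

theorem omul_sub_right (x y y' : I8 → F) : omul x (y - y') = omul x y - omul x y' := by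
  rw [sub_eq_add_neg, omul_add_right, omul_neg_right, sub_eq_add_neg]

/-- left multiplication -/
def Lm (a : I8 → F) : (I8 → F) →ₗ[F] (I8 → F) where
  toFun x := omul a x
  map_add' x y := omul_add_right a x y
  map_smul' c x := omul_smul_right c a x

/-- right multiplication -/
def Rm (a : I8 → F) : (I8 → F) →ₗ[F] (I8 → F) where
  toFun x := omul x a
  map_add' x y := omul_add_left x y a
  map_smul' c x := omul_smul_left c x a

/-- the map `x ↦ a x a` -/
def Bm (a : I8 → F) : (I8 → F) →ₗ[F] (I8 → F) := (Rm a).comp (Lm a)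

@[simp] theorem Lm_apply (a x : I8 → F) : Lm a x = omul a x := rfl
@[simp] theorem Rm_apply (a x : I8 → F) : Rm a x = omul x a := rfl
@[simp] theorem Bm_apply (a x : I8 → F) : Bm a x = omul (omul a x) a := rfl

/-- the conjugation as a linear map -/
def Km : (I8 → F) →ₗ[F] (I8 → F) where
  toFun x := okap x
  map_add' x y := by
    funext i; rcases i with i | i <;> fin_cases i <;> simp [omul, mk8, oe, okap, oN, oB] <;> ring
  map_smul' c x := by
    funext i; rcases i with i | i <;> fin_cases i <;> simp [omul, mk8, oe, okap, oN, oB]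

@[simp] theorem Km_apply (x : I8 → F) : Km x = okap x := rfl

/-- if `x y = 0` with `x ≠ 0` then `y` is singular -/
theorem oN_eq_zero_of_omul_eq_zero {x y : I8 → F} (h : omul x y = 0) (hx : x ≠ 0) : oN y = 0 := by
  by_contra hy
  apply hx
  have h1 := omul_okap_right x y
  rw [h, omul_zero_left] at h1
  have h2 : (oN y)⁻¹ • (oN y • x) = 0 := by rw [← h1, smul_zero]
  rwa [smul_smul, inv_mul_cancel₀ hy, one_smul] at h2

theorem oN_eq_zero_of_omul_eq_zero' {x y : I8 → F} (h : omul x y = 0) (hy : y ≠ 0) : oN x = 0 := by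
  by_contra hx
  apply hy
  have h1 := omul_okap_left x y
  rw [h, omul_zero_right] at h1
  have h2 : (oN x)⁻¹ • (oN x • y) = 0 := by rw [← h1, smul_zero]
  rwa [smul_smul, inv_mul_cancel₀ hx, one_smul] at h2

/-- the middle nucleus consists of scalars -/
theorem nucleus_mid {c : I8 → F} (h : ∀ x y, omul (omul x c) y = omul x (omul c y)) :
    ∃ μ : F, c = μ • oe := by
  have e1 := congrFun (h (Pi.single (.inl 0) 1) (Pi.single (.inl 1) 1)) (.inr 2)
  have e2 := congrFun (h (Pi.single (.inl 0) 1) (Pi.single (.inl 1) 1)) (.inr 3)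
  have e3 := congrFun (h (Pi.single (.inl 0) 1) (Pi.single (.inl 2) 1)) (.inr 3)
  have e4 := congrFun (h (Pi.single (.inl 0) 1) (Pi.single (.inr 1) 1)) (.inl 2)
  have e5 := congrFun (h (Pi.single (.inl 0) 1) (Pi.single (.inr 1) 1)) (.inl 3)
  have e6 := congrFun (h (Pi.single (.inl 0) 1) (Pi.single (.inr 2) 1)) (.inl 3)
  have e7 := congrFun (h (Pi.single (.inl 1) 1) (Pi.single (.inl 2) 1)) (.inr 3)
  simp [omul, mk8, Pi.single_apply] at e1 e2 e3 e4 e5 e6 e7
  refine ⟨c (.inl 0), ?_⟩
  funext i; rcases i with i | i <;> fin_cases i <;> simp [oe, mk8]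
  all_goals first | assumption | (symm; assumption) | linear_combination e7 | linear_combination -e7 | skip

/-- the right nucleus consists of scalars -/
theorem nucleus_right {c : I8 → F} (h : ∀ x y, omul (omul x y) c = omul x (omul y c)) :
    ∃ μ : F, c = μ • oe := by
  have e1 := congrFun (h (Pi.single (.inl 0) 1) (Pi.single (.inl 1) 1)) (.inr 2)
  have e2 := congrFun (h (Pi.single (.inl 0) 1) (Pi.single (.inl 1) 1)) (.inr 3)
  have e3 := congrFun (h (Pi.single (.inl 0) 1) (Pi.single (.inl 2) 1)) (.inr 3)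
  have e4 := congrFun (h (Pi.single (.inl 0) 1) (Pi.single (.inr 1) 1)) (.inl 2)
  have e5 := congrFun (h (Pi.single (.inl 0) 1) (Pi.single (.inr 1) 1)) (.inl 3)
  have e6 := congrFun (h (Pi.single (.inl 0) 1) (Pi.single (.inr 2) 1)) (.inl 3)
  have e7 := congrFun (h (Pi.single (.inl 1) 1) (Pi.single (.inl 2) 1)) (.inr 3)
  simp [omul, mk8, Pi.single_apply] at e1 e2 e3 e4 e5 e6 e7
  refine ⟨c (.inl 0), ?_⟩
  funext i; rcases i with i | i <;> fin_cases i <;> simp [oe, mk8]
  all_goals first | assumption | (symm; assumption) | linear_combination e7 | linear_combination -e7 | skip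

/-! ### isometries -/

/-- the orthogonal group of the norm form -/
abbrev O8 (F : Type*) [Field F] : Type _ := ↥(Cfsg.isometryGroup F ⇑(Q8 F))

/-- the action on vectors -/
def ov (g : O8 F) (x : I8 → F) : I8 → F := ((g : GL I8 F) : Matrix I8 I8 F) *ᵥ x

theorem ov_one (x : I8 → F) : ov (1 : O8 F) x = x := by
  unfold ov; simp

theorem ov_mul (g h : O8 F) (x : I8 → F) : ov (g * h) x = ov g (ov h x) := by
  unfold ov
  rw [Matrix.mulVec_mulVec]
  rfl

theorem ov_inv_ov (g : O8 F) (x : I8 → F) : ov g⁻¹ (ov g x) = x := by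
  rw [← ov_mul, inv_mul_cancel, ov_one]

theorem ov_ov_inv (g : O8 F) (x : I8 → F) : ov g (ov g⁻¹ x) = x := by
  rw [← ov_mul, mul_inv_cancel, ov_one]

theorem ov_add (g : O8 F) (x y : I8 → F) : ov g (x + y) = ov g x + ov g y := Matrix.mulVec_add _ _ _
theorem ov_smul (g : O8 F) (c : F) (x : I8 → F) : ov g (c • x) = c • ov g x := Matrix.mulVec_smul _ _ _
theorem ov_zero (g : O8 F) : ov g (0 : I8 → F) = 0 := Matrix.mulVec_zero _
theorem ov_neg (g : O8 F) (x : I8 → F) : ov g (-x) = -ov g x := Matrix.mulVec_neg _ _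
theorem ov_sub (g : O8 F) (x y : I8 → F) : ov g (x - y) = ov g x - ov g y := Matrix.mulVec_sub _ _ _

theorem ov_injective (g : O8 F) : Function.Injective (ov g) := by
  intro x y h
  rw [← ov_inv_ov g x, h, ov_inv_ov]

theorem oN_ov (g : O8 F) (x : I8 → F) : oN (ov g x) = oN x := by
  have := (mem_iso_iff (Q := Q8 F) (g : GL I8 F)).1 g.2 x
  rw [Q8_apply, Q8_apply] at this
  exact this

theorem oB_ov (g : O8 F) (x y : I8 → F) : oB (ov g x) (ov g y) = oB x y := by
  rw [oB_eq, oB_eq, ← ov_add, oN_ov, oN_ov, oN_ov]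

theorem ov_ext {g h : O8 F} (H : ∀ x, ov g x = ov h x) : g = h := by
  apply isoMat_ext
  apply Matrix.ext_iff_mulVec.mpr
  exact H

theorem oB_nondeg {x : I8 → F} (h : ∀ y, oB x y = 0) : x = 0 := by
  have hQ := Cfsg.Agent.S0287.nondeg (F := F) 4
  have h1 : ∀ y, QuadraticMap.polarBilin (Q8 F) x y = 0 := by
    intro y
    show QuadraticMap.polar (⇑(Q8 F)) x y = 0
    rw [polar_Q8]
    exact h y
  have h2 : QuadraticMap.polarBilin (Q8 F) x = 0 := LinearMap.ext h1
  exact hQ.1 x (fun y => h1 y)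

/-- a linear map preserving the norm is an element of the orthogonal group -/
noncomputable def isoOfLin (f : (I8 → F) →ₗ[F] (I8 → F)) (hf : ∀ x, oN (f x) = oN x) : O8 F :=
  elOfEquiv (Q8 F) (LinearEquiv.ofInjectiveEndo f (by
    rw [← LinearMap.ker_eq_bot, LinearMap.ker_eq_bot']
    intro x hx
    apply oB_nondeg
    intro y
    have h1 : oB (f x) (f y) = oB x y := by
      rw [oB_eq, oB_eq, ← map_add, hf, hf, hf]
    rw [← h1, hx]
    simp [oB])) (by
    intro v
    rw [Q8_apply, Q8_apply]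
    exact hf v)

theorem ov_isoOfLin (f : (I8 → F) →ₗ[F] (I8 → F)) (hf : ∀ x, oN (f x) = oN x) (x : I8 → F) :
    ov (isoOfLin f hf) x = f x := by
  unfold ov isoOfLin
  rw [elOfEquiv_mulVec]
  rfl

end

section

open Matrix QuadraticMap Module
open Cfsg.Agent.Lib.H13 Cfsg.Agent.Lib.H13.AutPO Cfsg.Agent.Lib.H13.HypPairs
open Cfsg.Agent.Lib.H13.Char2Mat Cfsg.Agent.Lib.H13.Dickson

variable {F : Type*} [Field F]

/-- the group of related triples of isometries: `A (x y) = B x · C y` -/
def RT (F : Type*) [Field F] : Subgroup (O8 F × O8 F × O8 F) where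
  carrier := {ρ | ∀ x y, ov ρ.1 (omul x y) = omul (ov ρ.2.1 x) (ov ρ.2.2 y)}
  one_mem' := by
    intro x y
    simp only [Prod.fst_one, Prod.snd_one, ov_one]
  mul_mem' := by
    intro ρ ρ' h h' x y
    simp only [Prod.fst_mul, Prod.snd_mul, ov_mul]
    rw [h', h]
  inv_mem' := by
    intro ρ h x y
    simp only [Prod.fst_inv, Prod.snd_inv]
    apply ov_injective ρ.1
    rw [ov_ov_inv, h, ov_ov_inv, ov_ov_inv]

theorem mem_RT {ρ : O8 F × O8 F × O8 F} :
    ρ ∈ RT F ↔ ∀ x y, ov ρ.1 (omul x y) = omul (ov ρ.2.1 x) (ov ρ.2.2 y) := Iff.rfl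

/-- the three linear maps of a Moufang triple -/
noncomputable def mA (a b : I8 → F) : (I8 → F) →ₗ[F] (I8 → F) :=
  (oN a * oN b)⁻¹ • (Bm a).comp (Bm (okap b))

noncomputable def mB (a b : I8 → F) (ν : F) : (I8 → F) →ₗ[F] (I8 → F) :=
  ν⁻¹ • (Lm a).comp (Lm (okap b))

noncomputable def mC (a b : I8 → F) (ν : F) : (I8 → F) →ₗ[F] (I8 → F) :=
  ν⁻¹ • (Rm a).comp (Rm (okap b))

theorem oN_mA {a b : I8 → F} (ha : oN a ≠ 0) (hb : oN b ≠ 0) (x : I8 → F) :
    oN (mA a b x) = oN x := by
  simp only [mA, LinearMap.smul_apply, LinearMap.comp_apply, Bm_apply, oN_smul, oN_omul, oN_okap]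
  field_simp

theorem oN_mB {a b : I8 → F} {ν : F} (h : oN a * oN b = ν * ν) (hν : ν ≠ 0) (x : I8 → F) :
    oN (mB a b ν x) = oN x := by
  simp only [mB, LinearMap.smul_apply, LinearMap.comp_apply, Lm_apply, oN_smul, oN_omul, oN_okap]
  have : ν⁻¹ * ν⁻¹ * (oN a * (oN b * oN x)) = ν⁻¹ * ν⁻¹ * (oN a * oN b) * oN x := by ring
  rw [this, h]
  field_simp

theorem oN_mC {a b : I8 → F} {ν : F} (h : oN a * oN b = ν * ν) (hν : ν ≠ 0) (x : I8 → F) :
    oN (mC a b ν x) = oN x := by
  simp only [mC, LinearMap.smul_apply, LinearMap.comp_apply, Rm_apply, oN_smul, oN_omul, oN_okap]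
  have : ν⁻¹ * ν⁻¹ * (oN x * oN b * oN a) = ν⁻¹ * ν⁻¹ * (oN a * oN b) * oN x := by ring
  rw [this, h]
  field_simp

/-- the Moufang triple of `a, b` with `N(a) N(b) = ν²` -/
noncomputable def mtrip (a b : I8 → F) (ν : F) (h : oN a * oN b = ν * ν) (hν : ν ≠ 0) :
    O8 F × O8 F × O8 F :=
  have ha : oN a ≠ 0 := fun h0 => by
    rw [h0, zero_mul] at h
    exact hν (mul_self_eq_zero.1 h.symm)
  have hb : oN b ≠ 0 := fun h0 => by
    rw [h0, mul_zero] at h
    exact hν (mul_self_eq_zero.1 h.symm)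
  (isoOfLin (mA a b) (oN_mA ha hb), isoOfLin (mB a b ν) (oN_mB h hν), isoOfLin (mC a b ν) (oN_mC h hν))

theorem mtrip_mem (a b : I8 → F) (ν : F) (h : oN a * oN b = ν * ν) (hν : ν ≠ 0) :
    mtrip a b ν h hν ∈ RT F := by
  intro x y
  simp only [mtrip, ov_isoOfLin]
  simp only [mA, mB, mC, LinearMap.smul_apply, LinearMap.comp_apply, Bm_apply, Lm_apply, Rm_apply]
  rw [omul_smul_left, omul_smul_right, smul_smul, ← moufang (okap b) x y, ← moufang a]
  congr 1
  rw [h]
  field_simp

theorem ov_mtrip_fst (a b : I8 → F) (ν : F) (h : oN a * oN b = ν * ν) (hν : ν ≠ 0) (x : I8 → F) :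
    ov (mtrip a b ν h hν).1 x = mA a b x := by
  simp only [mtrip, ov_isoOfLin]

theorem ov_mtrip_snd (a b : I8 → F) (ν : F) (h : oN a * oN b = ν * ν) (hν : ν ≠ 0) (x : I8 → F) :
    ov (mtrip a b ν h hν).2.1 x = mB a b ν x := by
  simp only [mtrip, ov_isoOfLin]

/-- a reflection in octonion terms -/
theorem ov_reflG (a : I8 → F) (ha : Q8 F a ≠ 0) (x : I8 → F) :
    ov (reflG (Q8 F) a ha) x = -((oN a)⁻¹ • omul (omul a (okap x)) a) := by
  unfold ov
  rw [reflG_val, Cfsg.Agent.Lib.H4.reflectionMatrix_mulVec, refl_formula, polar_Q8, Q8_apply]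
  have ha' : oN a ≠ 0 := by rwa [Q8_apply] at ha
  rw [smul_sub, smul_smul, smul_smul (oN a)⁻¹ (oN a), inv_mul_cancel₀ ha', one_smul]
  abel

theorem okap_Bm (b x : I8 → F) : okap (omul (omul b (okap x)) b) = omul (omul (okap b) x) (okap b) := by
  rw [okap_omul, okap_omul, okap_okap, flexible]

/-- the product of two reflections is the first component of a Moufang triple -/
theorem reflG_mul_eq (a b : I8 → F) (ha : Q8 F a ≠ 0) (hb : Q8 F b ≠ 0) (ν : F)
    (h : oN a * oN b = ν * ν) (hν : ν ≠ 0) :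
    reflG (Q8 F) a ha * reflG (Q8 F) b hb = (mtrip a b ν h hν).1 := by
  apply ov_ext
  intro x
  rw [ov_mul, ov_mtrip_fst, ov_reflG, ov_reflG]
  have h1 : okap (-((oN b)⁻¹ • omul (omul b (okap x)) b)) =
      -((oN b)⁻¹ • omul (omul (okap b) x) (okap b)) := by
    rw [← okap_Bm]
    show Km (-((oN b)⁻¹ • omul (omul b (okap x)) b)) = _
    rw [map_neg, map_smul]
    rfl
  rw [h1, omul_neg_right, omul_smul_right, omul_neg_left, omul_smul_left]
  simp only [mA, LinearMap.smul_apply, LinearMap.comp_apply, Bm_apply]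
  rw [smul_neg, neg_neg, smul_smul, mul_inv]

/-- the first projection of the group of related triples -/
noncomputable def P1 (F : Type*) [Field F] : Subgroup (O8 F) := (RT F).map (MonoidHom.fst _ _)

theorem mem_P1 {A : O8 F} : A ∈ P1 F ↔ ∃ B C, (A, B, C) ∈ RT F := by
  unfold P1
  rw [Subgroup.mem_map]
  constructor
  · rintro ⟨⟨A', B, C⟩, h, rfl⟩
    exact ⟨B, C, h⟩
  · rintro ⟨B, C, h⟩
    exact ⟨(A, B, C), h, rfl⟩

end

section

open Matrix QuadraticMap Module
open Cfsg.Agent.Lib.H13 Cfsg.Agent.Lib.H13.AutPO Cfsg.Agent.Lib.H13.HypPairs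
open Cfsg.Agent.Lib.H13.Char2Mat Cfsg.Agent.Lib.H13.Dickson

/-- a normal subgroup containing the commutators of the generators contains the commutator
subgroup -/
theorem commutator_le_of_gens {G : Type*} [Group G] (S : Set G) (hS : Subgroup.closure S = ⊤)
    (N : Subgroup G) [N.Normal] (h : ∀ s ∈ S, ∀ t ∈ S, s * t * s⁻¹ * t⁻¹ ∈ N) :
    commutator G ≤ N := by
  have key : ∀ g h : G, (QuotientGroup.mk' N g) * (QuotientGroup.mk' N h) =
      (QuotientGroup.mk' N h) * (QuotientGroup.mk' N g) := by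
    have h1 : ∀ s ∈ S, ∀ g : G, (QuotientGroup.mk' N g) * (QuotientGroup.mk' N s) =
        (QuotientGroup.mk' N s) * (QuotientGroup.mk' N g) := by
      intro s hs g
      have hg : g ∈ Subgroup.closure S := by rw [hS]; exact Subgroup.mem_top g
      induction hg using Subgroup.closure_induction with
      | mem t ht =>
        have := h t ht s hs
        rw [← QuotientGroup.eq_one_iff, ← QuotientGroup.mk'_apply] at this
        simp only [map_mul, map_inv] at this
        calc _ = (QuotientGroup.mk' N t * QuotientGroup.mk' N s * (QuotientGroup.mk' N t)⁻¹ *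
              (QuotientGroup.mk' N s)⁻¹) * (QuotientGroup.mk' N s * QuotientGroup.mk' N t) := by group
          _ = _ := by rw [this, one_mul]
      | one => simp
      | mul x y _ _ hx hy =>
        rw [map_mul, mul_assoc, hy, ← mul_assoc, hx, mul_assoc]
      | inv x _ hx =>
        rw [map_inv]
        have hc : Commute (QuotientGroup.mk' N x) (QuotientGroup.mk' N s) := hx
        exact hc.inv_left
    intro g k
    have hk : k ∈ Subgroup.closure S := by rw [hS]; exact Subgroup.mem_top k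
    induction hk using Subgroup.closure_induction with
    | mem t ht => exact h1 t ht g
    | one => simp
    | mul x y _ _ hx hy =>
      rw [map_mul, ← mul_assoc, hx, mul_assoc, hy, mul_assoc]
    | inv x _ hx =>
      rw [map_inv]
      have hc : Commute (QuotientGroup.mk' N g) (QuotientGroup.mk' N x) := hx
      exact hc.inv_right
  rw [commutator_def, Subgroup.commutator_le]
  intro g _ k _
  rw [← QuotientGroup.eq_one_iff, ← QuotientGroup.mk'_apply, commutatorElement_def]
  simp only [map_mul, map_inv]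
  rw [key g k]
  group

variable {F : Type*} [Field F]

/-- products of two reflections with a square product of norms -/
def PS (F : Type*) [Field F] : Set (O8 F) :=
  {g | ∃ (a b : I8 → F) (ha : Q8 F a ≠ 0) (hb : Q8 F b ≠ 0), IsSquare (oN a * oN b) ∧
    g = reflG (Q8 F) a ha * reflG (Q8 F) b hb}

theorem PS_subset_P1 : PS F ⊆ (P1 F : Set (O8 F)) := by
  rintro g ⟨a, b, ha, hb, ⟨ν, hν⟩, rfl⟩
  have ha' : oN a ≠ 0 := by rwa [Q8_apply] at ha
  have hb' : oN b ≠ 0 := by rwa [Q8_apply] at hb
  have hν0 : ν ≠ 0 := by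
    rintro rfl
    rw [mul_zero] at hν
    exact mul_ne_zero ha' hb' hν
  rw [SetLike.mem_coe, mem_P1, reflG_mul_eq a b ha hb ν hν hν0]
  exact ⟨_, _, mtrip_mem a b ν hν hν0⟩

theorem Q8_ov (g : O8 F) (x : I8 → F) : Q8 F (ov g x) = Q8 F x := by
  rw [Q8_apply, Q8_apply, oN_ov]

theorem closure_PS_normal : (Subgroup.closure (PS F)).Normal := by
  constructor
  intro x hx g
  induction hx using Subgroup.closure_induction with
  | mem x hx =>
    obtain ⟨a, b, ha, hb, hsq, rfl⟩ := hx
    apply Subgroup.subset_closure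
    refine ⟨ov g a, ov g b, by rw [Q8_ov]; exact ha, by rw [Q8_ov]; exact hb, ?_, ?_⟩
    · rw [oN_ov, oN_ov]; exact hsq
    · have e1 := conj_reflG (Q8 F) g a ha (by rw [← ov, Q8_ov]; exact ha)
      have e2 := conj_reflG (Q8 F) g b hb (by rw [← ov, Q8_ov]; exact hb)
      calc g * (reflG (Q8 F) a ha * reflG (Q8 F) b hb) * g⁻¹
          = (g * reflG (Q8 F) a ha * g⁻¹) * (g * reflG (Q8 F) b hb * g⁻¹) := by group
        _ = _ := by rw [e1, e2]; rfl
  | one =>
    rw [mul_one, mul_inv_cancel]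
    exact Subgroup.one_mem _
  | mul x y _ _ ihx ihy =>
    have : g * (x * y) * g⁻¹ = (g * x * g⁻¹) * (g * y * g⁻¹) := by group
    rw [this]
    exact Subgroup.mul_mem _ ihx ihy
  | inv x _ ihx =>
    have : g * x⁻¹ * g⁻¹ = (g * x * g⁻¹)⁻¹ := by group
    rw [this]
    exact Subgroup.inv_mem _ ihx

theorem reflSet_closure [Fintype F] : Subgroup.closure (reflSet (Q8 F)) = ⊤ := by
  have hQ := Cfsg.Agent.S0287.nondeg (F := F) 4
  by_cases h2 : (2 : F) = 0
  · haveI : CharP F 2 := CharTwo.of_one_ne_zero_of_two_eq_zero one_ne_zero h2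
    apply closure_reflSet_eq_top (Q8 F) hQ
    right
    simp
  · exact Cfsg.Agent.Lib.H11.ConfOrth.closure_reflSet_odd (Q8 F) hQ h2

/-- the commutator subgroup of `O(N)` lies in the first projection of the related triples -/
theorem commutator_le_P1 [Fintype F] : commutator (O8 F) ≤ P1 F := by
  haveI := closure_PS_normal (F := F)
  refine le_trans (commutator_le_of_gens (reflSet (Q8 F)) reflSet_closure
    (Subgroup.closure (PS F)) ?_) ((Subgroup.closure_le _).2 PS_subset_P1)
  rintro s ⟨a, ha, hs⟩ t ⟨b, hb, ht⟩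
  have hs' : s = reflG (Q8 F) a ha := isoMat_ext (by rw [hs, reflG_val])
  have ht' : t = reflG (Q8 F) b hb := isoMat_ext (by rw [ht, reflG_val])
  subst hs' ht'
  apply Subgroup.subset_closure
  have hb' : Q8 F (ov (reflG (Q8 F) a ha) b) ≠ 0 := by rw [Q8_ov]; exact hb
  have e2 := conj_reflG (Q8 F) (reflG (Q8 F) a ha) b hb hb'
  refine ⟨ov (reflG (Q8 F) a ha) b, b, hb', hb, ?_, ?_⟩
  · rw [oN_ov]; exact ⟨oN b, rfl⟩
  · have hbb : (reflG (Q8 F) b hb)⁻¹ = reflG (Q8 F) b hb := by
      apply inv_eq_of_mul_eq_one_right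
      apply isoMat_ext
      show Cfsg.reflectionMatrix ⇑(Q8 F) b * Cfsg.reflectionMatrix ⇑(Q8 F) b = 1
      exact refl_mul_self (Q8 F) b hb
    rw [hbb]
    exact congrArg (· * reflG (Q8 F) b hb) e2

end

end Cfsg.Agent.Lib.H13.Tri
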