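import Mathlib
import Cfsg.Agent.Lib.H13.Tri2

/-!
Triality, part 3 (helper13): a total centre-compatible correspondence induces an automorphism of the central quotient
(`exists_equiv_of_rel`); the triality automorphism `trial` of `PΩ⁺₈(F)` with `trial_spec`; it is not induced by a
semilinear map (`trial_not_mem_gamma`).
-/

set_option autoImplicit false
set_option linter.unusedSectionVars false
set_option linter.unusedVariables false
set_option linter.unusedSimpArgs false
set_option linter.deprecated false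

namespace Cfsg.Agent.Lib.H13.Tri

section

open Matrix QuadraticMap Module
open Cfsg.Agent.Lib.H13 Cfsg.Agent.Lib.H13.AutPO Cfsg.Agent.Lib.H13.HypPairs
open Cfsg.Agent.Lib.H11.ConfOrth

/-- a correspondence on a finite group which is total and compatible with the centre induces an
automorphism of the central quotient -/
theorem exists_equiv_of_rel {G : Type*} [Group G] [Finite G] (T : Subgroup (G × G))
    (ha : ∀ A, ∃ B, (A, B) ∈ T)
    (hb : ∀ A B, (A, B) ∈ T → A ∈ Subgroup.center G → B ∈ Subgroup.center G)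
    (hc : ∀ A B, (A, B) ∈ T → B ∈ Subgroup.center G → A ∈ Subgroup.center G) :
    ∃ t : (G ⧸ Subgroup.center G) ≃* (G ⧸ Subgroup.center G),
      ∀ A B, (A, B) ∈ T → t (QuotientGroup.mk A) = QuotientGroup.mk B := by
  classical
  have huniq : ∀ A B B', (A, B) ∈ T → (A, B') ∈ T →
      (QuotientGroup.mk B : G ⧸ Subgroup.center G) = QuotientGroup.mk B' := by
    intro A B B' h h'
    have h1 : ((A, B)⁻¹ * (A, B') : G × G) ∈ T := T.mul_mem (T.inv_mem h) h'
    have h2 : ((A, B)⁻¹ * (A, B') : G × G) = (1, B⁻¹ * B') := by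
      ext <;> simp
    rw [h2] at h1
    have := hb _ _ h1 (Subgroup.one_mem _)
    exact QuotientGroup.eq.2 this
  let f : G →* G ⧸ Subgroup.center G :=
    { toFun := fun A => QuotientGroup.mk (ha A).choose
      map_one' := by
        have := huniq 1 _ 1 (ha 1).choose_spec (Subgroup.one_mem T)
        rw [this]; rfl
      map_mul' := by
        intro A A'
        have h1 : ((A, (ha A).choose) * (A', (ha A').choose) : G × G) ∈ T :=
          T.mul_mem (ha A).choose_spec (ha A').choose_spec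
        have := huniq (A * A') _ ((ha A).choose * (ha A').choose) (ha (A * A')).choose_spec h1
        rw [this]; rfl }
  have hf : ∀ A B, (A, B) ∈ T → f A = QuotientGroup.mk B := by
    intro A B h
    exact huniq A _ B (ha A).choose_spec h
  have hker : Subgroup.center G ≤ f.ker := by
    intro A hA
    rw [MonoidHom.mem_ker]
    show (QuotientGroup.mk (ha A).choose : G ⧸ Subgroup.center G) = 1
    rw [QuotientGroup.eq_one_iff]
    exact hb A _ (ha A).choose_spec hA
  let t₀ : (G ⧸ Subgroup.center G) →* (G ⧸ Subgroup.center G) :=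
    QuotientGroup.lift (Subgroup.center G) f hker
  have ht₀ : ∀ A, t₀ (QuotientGroup.mk A) = f A := fun A => rfl
  have hinj : Function.Injective t₀ := by
    rw [injective_iff_map_eq_one]
    intro x hx
    induction x using QuotientGroup.induction_on with
    | H A =>
      rw [ht₀] at hx
      have h1 : (QuotientGroup.mk (ha A).choose : G ⧸ Subgroup.center G) = 1 := hx
      rw [QuotientGroup.eq_one_iff] at h1
      rw [QuotientGroup.eq_one_iff]
      exact hc A _ (ha A).choose_spec h1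
  have hbij : Function.Bijective t₀ := Finite.injective_iff_bijective.1 hinj
  refine ⟨MulEquiv.ofBijective t₀ hbij, ?_⟩
  intro A B h
  show t₀ (QuotientGroup.mk A) = _
  rw [ht₀, hf A B h]

variable {F : Type*} [Field F]

/-- a related triple whose first member is a scalar: the second member is a scalar -/
theorem RT_scalar_fst {A B C : O8 F} (h : (A, B, C) ∈ RT F) {μ : F} (hA : ∀ x, ov A x = μ • x) :
    ∃ l : F, ∀ x, ov B x = l • x := by
  rw [mem_RT] at h
  simp only at h
  have hμ : μ ≠ 0 := by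
    rintro rfl
    have h1 := hA oe
    rw [zero_smul] at h1
    have h2 := oN_ov A (oe : I8 → F)
    rw [h1, oN_zero, oN_oe] at h2
    exact zero_ne_one h2
  set c := ov C oe with hc
  set b := ov B oe with hb
  have hNc : oN c = 1 := by rw [hc, oN_ov, oN_oe]
  have hNb : oN b = 1 := by rw [hb, oN_ov, oN_oe]
  -- `B x = μ (x c̄)`
  have hB : ∀ x, ov B x = μ • omul x (okap c) := by
    intro x
    have h1 := h x oe
    rw [omul_oe, hA, ← hc] at h1
    have h2 := omul_okap_right (ov B x) c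
    rw [← h1, hNc, one_smul, omul_smul_left] at h2
    exact h2.symm
  -- `C y = μ (b̄ y)`
  have hC : ∀ y, ov C y = μ • omul (okap b) y := by
    intro y
    have h1 := h oe y
    rw [oe_omul, hA, ← hb] at h1
    have h2 := omul_okap_left b (ov C y)
    rw [← h1, hNb, one_smul, omul_smul_right] at h2
    exact h2.symm
  have hrel : ∀ x y, omul x y = μ • omul (omul x (okap c)) (omul (okap b) y) := by
    intro x y
    have h1 := h x y
    rw [hA, hB, hC, omul_smul_left, omul_smul_right, smul_smul] at h1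
    have h2 : μ⁻¹ • (μ • omul x y) = μ⁻¹ • ((μ * μ) • omul (omul x (okap c)) (omul (okap b) y)) := by
      rw [h1]
    rw [smul_smul, smul_smul, inv_mul_cancel₀ hμ, one_smul, ← mul_assoc, inv_mul_cancel₀ hμ,
      one_mul] at h2
    exact h2
  -- `b̄ = μ⁻¹ c`
  have hbc : okap b = μ⁻¹ • c := by
    have h1 := hrel oe oe
    rw [oe_omul, omul_oe, oe_omul] at h1
    -- e = μ (c̄ b̄); multiply by c on the left
    have h2 := omul_okap_left (okap c) (okap b)
    rw [okap_okap, oN_okap, hNc, one_smul] at h2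
    have h3 : omul c oe = μ • omul c (omul (okap c) (okap b)) := by
      rw [← omul_smul_right, ← h1]
    rw [omul_oe, h2] at h3
    rw [h3, smul_smul, inv_mul_cancel₀ hμ, one_smul]
  have hrel' : ∀ x y, omul x y = omul (omul x (okap c)) (omul c y) := by
    intro x y
    rw [hrel x y, hbc, omul_smul_left, omul_smul_right, smul_smul, mul_inv_cancel₀ hμ, one_smul]
  have hnuc : ∀ x y, omul (omul x (okap c)) y = omul x (omul (okap c) y) := by
    intro x y
    have h1 := hrel' x (omul (okap c) y)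
    have h2 := omul_okap_left (okap c) y
    rw [okap_okap, oN_okap, hNc, one_smul] at h2
    rw [h2] at h1
    exact h1.symm
  obtain ⟨l, hl⟩ := nucleus_mid hnuc
  refine ⟨μ * l, fun x => ?_⟩
  rw [hB, hl, omul_smul_right, omul_oe, smul_smul]

/-- a related triple whose second member is a scalar: the first member is a scalar -/
theorem RT_scalar_snd {A B C : O8 F} (h : (A, B, C) ∈ RT F) {μ : F} (hB : ∀ x, ov B x = μ • x) :
    ∃ l : F, ∀ x, ov A x = l • x := by
  rw [mem_RT] at h
  simp only at h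
  have hAC : ∀ y, ov A y = μ • ov C y := by
    intro y
    have h1 := h oe y
    rw [oe_omul, hB, omul_smul_left, oe_omul] at h1
    exact h1
  have h1 : ∀ x y, ov A (omul x y) = omul x (ov A y) := by
    intro x y
    rw [h x y, hB, omul_smul_left, hAC, omul_smul_right]
  set a := ov A oe with ha
  have h2 : ∀ x, ov A x = omul x a := by
    intro x
    have := h1 x oe
    rwa [omul_oe] at this
  have hnuc : ∀ x y, omul (omul x y) a = omul x (omul y a) := by
    intro x y
    rw [← h2, ← h2, h1]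
  obtain ⟨l, hl⟩ := nucleus_right hnuc
  refine ⟨l, fun x => ?_⟩
  rw [h2, hl, omul_smul_right, omul_oe]

end

section

open Matrix QuadraticMap Module
open Cfsg.Agent.Lib.H13 Cfsg.Agent.Lib.H13.AutPO Cfsg.Agent.Lib.H13.HypPairs
open Cfsg.Agent.Lib.H11.ConfOrth
open scoped commutatorElement

variable {F : Type*} [Field F]

/-- `Ω` of the norm form -/
abbrev Om8 (F : Type*) [Field F] : Type _ := ↥(Cfsg.Omega F ⇑(Q8 F))

/-- the embedding `Ω × Ω × O → O × O × O` -/
noncomputable def iota3 (F : Type*) [Field F] : Om8 F × Om8 F × O8 F →* O8 F × O8 F × O8 F :=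
  MonoidHom.prodMap (Subgroup.subtype _) (MonoidHom.prodMap (Subgroup.subtype _) (MonoidHom.id (O8 F)))

/-- the projection to the first two coordinates -/
noncomputable def pi12 (F : Type*) [Field F] : Om8 F × Om8 F × O8 F →* Om8 F × Om8 F :=
  MonoidHom.prod (MonoidHom.fst _ _) ((MonoidHom.fst _ _).comp (MonoidHom.snd _ _))

/-- the correspondence `A ↦ B` on `Ω` given by the related triples -/
noncomputable def TΩ (F : Type*) [Field F] : Subgroup (Om8 F × Om8 F) :=
  ((RT F).comap (iota3 F)).map (pi12 F)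

theorem mem_TΩ {A B : Om8 F} : (A, B) ∈ TΩ F ↔ ∃ C : O8 F, (A.1, B.1, C) ∈ RT F := by
  unfold TΩ
  rw [Subgroup.mem_map]
  constructor
  · rintro ⟨⟨A', B', C⟩, h, heq⟩
    have h1 : A' = A := congrArg Prod.fst heq
    have h2 : B' = B := congrArg Prod.snd heq
    subst h1 h2
    exact ⟨C, h⟩
  · rintro ⟨C, h⟩
    exact ⟨(A, B, C), h, rfl⟩

theorem hQ8 : (polarBilin (Q8 F)).Nondegenerate := Cfsg.Agent.S0287.nondeg (F := F) 4

theorem card_I8 : Fintype.card I8 = 8 := by
  simp

theorem sv_eq_ov (s : Om8 F) (x : I8 → F) : sv s x = ov (s : O8 F) x := rfl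

/-- central elements of `Ω` are scalars -/
theorem scalar_of_center [Fintype F] {z : Om8 F} (hz : z ∈ Subgroup.center (Om8 F)) :
    ∃ μ : F, ∀ x, ov (z : O8 F) x = μ • x := by
  rw [Subgroup.mem_center_iff] at hz
  have h1 : z.1.1 ∈ Zs I8 F := by
    apply schur_all (Q8 F) hQ8 (by rw [card_I8]; omega)
    rintro w ⟨s, hs, rfl⟩
    have := hz ⟨s, hs⟩
    have h3 := congrArg (fun x : Om8 F => ((x : O8 F) : GL I8 F)) this
    exact h3.symm
  obtain ⟨c, hc⟩ := (mem_Zs_iff _).1 h1
  refine ⟨(c : F), fun x => ?_⟩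
  unfold ov
  rw [hc, scalar_mulVec]

theorem center_of_scalar {z : Om8 F} {μ : F} (h : ∀ x, ov (z : O8 F) x = μ • x) :
    z ∈ Subgroup.center (Om8 F) :=
  mem_center_of_scalar (Q8 F) (fun x => by rw [sv_eq_ov]; exact h x)

/-- the correspondence is total -/
theorem TΩ_total [Fintype F] (A : Om8 F) : ∃ B : Om8 F, (A, B) ∈ TΩ F := by
  have hperf := perfect_all (Q8 F) hQ8 (by rw [card_I8]; omega)
  have hA : A ∈ commutator (Om8 F) := by rw [hperf]; exact Subgroup.mem_top A
  have hle : commutator (Om8 F) ≤ (TΩ F).map (MonoidHom.fst _ _) := by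
    rw [commutator_def, Subgroup.commutator_le]
    intro A₁ _ A₂ _
    have h1 : (A₁ : O8 F) ∈ P1 F := commutator_le_P1 A₁.2
    have h2 : (A₂ : O8 F) ∈ P1 F := commutator_le_P1 A₂.2
    obtain ⟨B₁, C₁, t₁⟩ := mem_P1.1 h1
    obtain ⟨B₂, C₂, t₂⟩ := mem_P1.1 h2
    have h3 : ⁅((A₁ : O8 F), B₁, C₁), ((A₂ : O8 F), B₂, C₂)⁆ ∈ RT F := by
      rw [commutatorElement_def]
      exact (RT F).mul_mem ((RT F).mul_mem ((RT F).mul_mem t₁ t₂) ((RT F).inv_mem t₁))
        ((RT F).inv_mem t₂)
    have hB : ⁅B₁, B₂⁆ ∈ commutator (O8 F) :=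
      Subgroup.commutator_mem_commutator (Subgroup.mem_top _) (Subgroup.mem_top _)
    rw [Subgroup.mem_map]
    refine ⟨(⁅A₁, A₂⁆, ⟨⁅B₁, B₂⁆, hB⟩), mem_TΩ.2 ⟨⁅C₁, C₂⁆, ?_⟩, rfl⟩
    exact h3
  obtain ⟨⟨A', B⟩, h, rfl⟩ := Subgroup.mem_map.1 (hle hA)
  exact ⟨B, h⟩

/-- **the triality automorphism** of `PΩ⁺₈(F)` -/
theorem exists_trial [Fintype F] :
    ∃ t : Cfsg.POmega F ⇑(Q8 F) ≃* Cfsg.POmega F ⇑(Q8 F),
      ∀ A B : Om8 F, (A, B) ∈ TΩ F → t (pr (Q8 F) A) = pr (Q8 F) B := by
  haveI : Finite (Om8 F) := inferInstance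
  apply exists_equiv_of_rel (TΩ F) TΩ_total
  · intro A B hAB hA
    obtain ⟨C, h⟩ := mem_TΩ.1 hAB
    obtain ⟨μ, hμ⟩ := scalar_of_center hA
    obtain ⟨l, hl⟩ := RT_scalar_fst h hμ
    exact center_of_scalar hl
  · intro A B hAB hB
    obtain ⟨C, h⟩ := mem_TΩ.1 hAB
    obtain ⟨μ, hμ⟩ := scalar_of_center hB
    obtain ⟨l, hl⟩ := RT_scalar_snd h hμ
    exact center_of_scalar hl

/-- the triality automorphism -/
noncomputable def trial (F : Type*) [Field F] [Fintype F] :
    Cfsg.POmega F ⇑(Q8 F) ≃* Cfsg.POmega F ⇑(Q8 F) := exists_trial.choose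

theorem trial_spec [Fintype F] {A B : Om8 F} (h : (A, B) ∈ TΩ F) :
    trial F (pr (Q8 F) A) = pr (Q8 F) B := exists_trial.choose_spec A B h

end

section

open Matrix QuadraticMap Module
open Cfsg.Agent.Lib.H13 Cfsg.Agent.Lib.H13.AutPO Cfsg.Agent.Lib.H13.HypPairs
open Cfsg.Agent.Lib.H13.Char2Mat
open Cfsg.Agent.Lib.H11.ConfOrth
open scoped commutatorElement

variable {F : Type*} [Field F]

/-- squares of isometries lie in `Ω` -/
theorem sq_mem_commutator [Fintype F] (g : O8 F) : g * g ∈ commutator (O8 F) := by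
  have hg : g ∈ Subgroup.closure (reflSet (Q8 F)) := by
    rw [reflSet_closure]; exact Subgroup.mem_top g
  induction hg using Subgroup.closure_induction with
  | mem r hr =>
    obtain ⟨a, ha, hr⟩ := hr
    have hr' : r = reflG (Q8 F) a ha := isoMat_ext (by rw [hr, reflG_val])
    have : r * r = 1 := by
      rw [hr']
      apply isoMat_ext
      show Cfsg.reflectionMatrix ⇑(Q8 F) a * Cfsg.reflectionMatrix ⇑(Q8 F) a = 1
      exact refl_mul_self (Q8 F) a ha
    rw [this]
    exact Subgroup.one_mem _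
  | one => rw [mul_one]; exact Subgroup.one_mem _
  | mul x y _ _ hx hy =>
    have h1 : ⁅x⁻¹, y⁆ ∈ commutator (O8 F) :=
      Subgroup.commutator_mem_commutator (Subgroup.mem_top _) (Subgroup.mem_top _)
    have : x * y * (x * y) = (x * x) * ⁅x⁻¹, y⁆ * (y * y) := by
      rw [commutatorElement_def]; group
    rw [this]
    exact Subgroup.mul_mem _ (Subgroup.mul_mem _ hx h1) hy
  | inv x _ hx =>
    have : x⁻¹ * x⁻¹ = (x * x)⁻¹ := by group
    rw [this]
    exact Subgroup.inv_mem _ hx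

/-- the test element `c'` of norm one -/
def cT : I8 → F := mk8 1 1 0 0 0 1 0 0

/-- a non-singular vector fixed by `x ↦ c' x c'` -/
def xT : I8 → F := mk8 0 0 1 0 0 0 1 0

theorem oN_cT : oN (cT : I8 → F) = 1 := by simp [cT, mk8, oN]
theorem oN_xT : oN (xT : I8 → F) = 1 := by simp [xT, mk8, oN]

theorem Bm_cT_xT : omul (omul (cT : I8 → F) xT) cT = xT := by
  funext i; rcases i with i | i <;> fin_cases i <;> simp [omul, mk8, cT, xT]

theorem cT_sq_inl0 : omul (cT : I8 → F) cT (.inl 0) = 0 := by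
  simp [omul, mk8, cT]

theorem trial_not_mem_gamma [Fintype F] : trial F ∉ Cfsg.gammaPOmega F ⇑(Q8 F) := by
  intro hmem
  obtain ⟨g, σ, hp, ht⟩ := (mem_gamma_iff ⇑(Q8 F) (trial F)).1 hmem
  have h11 : oN (cT : I8 → F) * oN (oe : I8 → F) = 1 * 1 := by rw [oN_cT, oN_oe]
  set ρ := mtrip (cT : I8 → F) oe 1 h11 one_ne_zero with hρ
  have hρm : ρ ∈ RT F := mtrip_mem _ _ _ _ _
  have hρ2 : ρ * ρ ∈ RT F := (RT F).mul_mem hρm hρm
  set s : Om8 F := ⟨ρ.1 * ρ.1, sq_mem_commutator ρ.1⟩ with hs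
  set s₂ : Om8 F := ⟨ρ.2.1 * ρ.2.1, sq_mem_commutator ρ.2.1⟩ with hs₂
  have hT : (s, s₂) ∈ TΩ F := mem_TΩ.2 ⟨ρ.2.2 * ρ.2.2, hρ2⟩
  have h1 := trial_spec hT
  rw [ht] at h1
  have h2 : semiAut ⇑(Q8 F) g σ hp (pr (Q8 F) s) = pr (Q8 F) (semiOmega ⇑(Q8 F) g σ hp s) := rfl
  rw [h2, pr_eq_pr_iff] at h1
  obtain ⟨μ, hμ⟩ := scalar_of_center h1
  -- the action of the three elements
  have hA : ∀ x, ov ρ.1 x = omul (omul cT x) cT := by
    intro x
    rw [hρ, ov_mtrip_fst]
    simp only [mA, LinearMap.smul_apply, LinearMap.comp_apply, Bm_apply, oN_cT, oN_oe]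
    have : okap (oe : I8 → F) = oe := by
      funext i; rcases i with i | i <;> fin_cases i <;> simp [okap, oe, mk8]
    rw [this, oe_omul, omul_oe]
    simp
  have hB : ∀ x, ov ρ.2.1 x = omul cT x := by
    intro x
    rw [hρ, ov_mtrip_snd]
    simp only [mB, LinearMap.smul_apply, LinearMap.comp_apply, Lm_apply]
    have : okap (oe : I8 → F) = oe := by
      funext i; rcases i with i | i <;> fin_cases i <;> simp [okap, oe, mk8]
    rw [this, oe_omul]
    simp
  have hsx : ov (s : O8 F) xT = xT := by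
    show ov (ρ.1 * ρ.1) xT = xT
    rw [ov_mul, hA xT, Bm_cT_xT, hA xT, Bm_cT_xT]
  set w := sact g σ (xT : I8 → F) with hw
  have hfix : ov ((semiOmega ⇑(Q8 F) g σ hp s : Om8 F) : O8 F) w = w := by
    unfold ov
    rw [semiOmega_val, hw, conj_sact]
    have : ((s : O8 F) : GL I8 F).1 *ᵥ xT = xT := hsx
    rw [this]
  have hNw : oN w ≠ 0 := by
    obtain ⟨c, hc⟩ := (pair_iff ⇑(Q8 F) g σ).1 hp
    have := hc xT
    rw [Q8_apply, Q8_apply, oN_xT, map_one, mul_one] at this
    rw [hw, this]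
    exact c.ne_zero
  -- `c w = μ w`
  have h3 := hμ w
  rw [show (((semiOmega ⇑(Q8 F) g σ hp s)⁻¹ * s₂ : Om8 F) : O8 F) =
    ((semiOmega ⇑(Q8 F) g σ hp s : Om8 F) : O8 F)⁻¹ * (s₂ : O8 F) from rfl, ov_mul] at h3
  have h4 : omul (omul cT cT) w = μ • w := by
    have h5 := congrArg (ov ((semiOmega ⇑(Q8 F) g σ hp s : Om8 F) : O8 F)) h3
    rw [ov_ov_inv, ov_smul, hfix] at h5
    rw [← h5]
    show _ = ov (ρ.2.1 * ρ.2.1) w
    rw [ov_mul, hB, hB, alt_left]
  have h6 : omul (omul cT cT - μ • oe) w = 0 := by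
    rw [omul_sub_left, omul_smul_left, oe_omul, h4, sub_self]
  apply hNw
  apply oN_eq_zero_of_omul_eq_zero h6
  intro h0
  have := congrFun h0 (.inl 1)
  simp [omul, mk8, cT, oe] at this

end

end Cfsg.Agent.Lib.H13.Tri
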