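import Mathlib
import Cfsg.Agent.Lib.H13.AutPO14

/-!
Triality, part 4 (helper13): the reconstruction of a semisimilarity from an automorphism of `PΩ(Q)` preserving incidence
of totally singular lines (`MeetPres`, `aut_inducedP`; dimension at least `7`, including dimension `8`); the symplecton
`Symp L M` of two lines in terms of root subgroups, preserved by automorphisms (`symp_lam`), computed for two
non-perpendicular lines through a point (`symp_point`) and for two disjoint perpendicular lines in dimension `8`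
(`symp_solid`).
-/

set_option autoImplicit false
set_option linter.unusedSectionVars false
set_option linter.unusedVariables false
set_option linter.unusedSimpArgs false
set_option linter.deprecated false

namespace Cfsg.Agent.Lib.H13.AutPO

section

section

open Matrix QuadraticMap Module
open scoped commutatorElement

variable {F : Type*} [Field F] {ι : Type} [Fintype ι] [DecidableEq ι]
variable (Q : QuadraticForm F (ι → F))

set_option quotPrecheck false in
local notation "B" => QuadraticMap.polar (⇑Q)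

variable (hQ : (polarBilin Q).Nondegenerate) (hn : 5 ≤ Fintype.card ι)
variable [Fintype F]

/-- the automorphism preserves incidence of totally singular lines, in both directions -/
def MeetPres (θ : Cfsg.POmega F ⇑Q ≃* Cfsg.POmega F ⇑Q) : Prop :=
  ∀ L M, IsLine Q L → IsLine Q M → (LMeet (lam Q hQ hn θ L) (lam Q hQ hn θ M) ↔ LMeet L M)

variable {θ : Cfsg.POmega F ⇑Q ≃* Cfsg.POmega F ⇑Q}

include hQ hn

theorem lmeet_lamP (hnt : MeetPres Q hQ hn θ) {L M : Submodule F (ι → F)}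
    (hL : IsLine Q L) (hM : IsLine Q M) (h : LMeet L M) :
    LMeet (lam Q hQ hn θ L) (lam Q hQ hn θ M) := (hnt L M hL hM).2 h

theorem lmeet_lam_iffP (hnt : MeetPres Q hQ hn θ) {L M : Submodule F (ι → F)}
    (hL : IsLine Q L) (hM : IsLine Q M) :
    LMeet (lam Q hQ hn θ L) (lam Q hQ hn θ M) ↔ LMeet L M := hnt L M hL hM

theorem lperp_lam_iffP (hn7 : 7 ≤ Fintype.card ι) (hnt : MeetPres Q hQ hn θ)
    {L M : Submodule F (ι → F)} (hL : IsLine Q L) (hM : IsLine Q M) (hmeet : LMeet L M) :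
    LPerp Q (lam Q hQ hn θ L) (lam Q hQ hn θ M) ↔ LPerp Q L M := by
  have hL' := lam_isLine Q hQ hn θ hL
  have hM' := lam_isLine Q hQ hn θ hM
  by_cases hLM : L = M
  · rw [hLM]
    exact ⟨fun _ => hM.le_perp, fun _ => hM'.le_perp⟩
  have hLM' : lam Q hQ hn θ L ≠ lam Q hQ hn θ M := fun h => hLM (lam_injective Q hQ hn θ hL hM h)
  have hmeet' := lmeet_lamP Q hQ hn hnt hL hM hmeet
  have := gadj_lam_iff Q hQ hn θ hL hM
  rw [gadj_iff Q hQ hn hn7 hL hM, gadj_iff Q hQ hn hn7 hL' hM'] at this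
  constructor
  · intro h
    exact (this.1 ⟨hLM', h, hmeet'⟩).2.1
  · intro h
    exact (this.2 ⟨hLM, h, hmeet⟩).2.1

theorem MeetPres.symm (hnt : MeetPres Q hQ hn θ) : MeetPres Q hQ hn θ.symm := by
  intro L M hL hM
  have := hnt _ _ (lam_isLine Q hQ hn θ.symm hL) (lam_isLine Q hQ hn θ.symm hM)
  rw [lam_lam_symm Q hQ hn θ hL, lam_lam_symm Q hQ hn θ hM] at this
  exact this.symm

end

section

open Matrix QuadraticMap Module
open scoped commutatorElement

variable {F : Type*} [Field F] {ι : Type} [Fintype ι] [DecidableEq ι]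
variable (Q : QuadraticForm F (ι → F))

set_option quotPrecheck false in
local notation "B" => QuadraticMap.polar (⇑Q)

variable (hQ : (polarBilin Q).Nondegenerate)
include hQ

/-- the point map induced by an automorphism -/
theorem exists_point_mapP [Fintype F] (hn : 5 ≤ Fintype.card ι) (hn7 : 7 ≤ Fintype.card ι)
    (θ : Cfsg.POmega F ⇑Q ≃* Cfsg.POmega F ⇑Q) (hnt : MeetPres Q hQ hn θ) {x : ι → F} (hx0 : x ≠ 0)
    (hx : Q x = 0) :
    ∃ x' : ι → F, x' ≠ 0 ∧ Q x' = 0 ∧
      ∀ K, IsLine Q K → (x ∈ K ↔ x' ∈ lam Q hQ hn θ K) := by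
  obtain ⟨y, z, hy, hz, hyz⟩ := exists_c_pair Q hQ hn hx0 hx
  set L := Submodule.span F {x, y} with hLdef
  set M := Submodule.span F {x, z} with hMdef
  have hL : IsLine Q L := ⟨x, y, hy, rfl⟩
  have hM : IsLine Q M := ⟨x, z, hz, rfl⟩
  have hxL : x ∈ L := Submodule.subset_span (by simp)
  have hxM : x ∈ M := Submodule.subset_span (by simp)
  have hmeet : LMeet L M := lmeet_span hx0
  have hperp : ¬LPerp Q L M := by
    intro h
    have := B_zero_of_lperp Q h
    rw [hyz] at this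
    exact one_ne_zero this
  have hL' := lam_isLine Q hQ hn θ hL
  have hM' := lam_isLine Q hQ hn θ hM
  have hmeet' := lmeet_lamP Q hQ hn hnt hL hM hmeet
  have hperp' : ¬LPerp Q (lam Q hQ hn θ L) (lam Q hQ hn θ M) := fun h =>
    hperp ((lperp_lam_iffP Q hQ hn hn7 hnt hL hM hmeet).1 h)
  obtain ⟨x', hx'0, hx'L, hx'M⟩ := lmeet_iff.1 hmeet'
  refine ⟨x', hx'0, hL'.sing hx'L, fun K hK => ?_⟩
  have hK' := lam_isLine Q hQ hn θ hK
  constructor
  · intro hxK
    have h1 : LMeet K L := lmeet_iff.2 ⟨x, hx0, hxK, hxL⟩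
    have h2 : LMeet K M := lmeet_iff.2 ⟨x, hx0, hxK, hxM⟩
    exact mem_of_meet_both hL' hM' hK' hx'0 hx'L hx'M hperp'
      (lmeet_lamP Q hQ hn hnt hK hL h1) (lmeet_lamP Q hQ hn hnt hK hM h2)
  · intro hx'K
    have h1 : LMeet (lam Q hQ hn θ K) (lam Q hQ hn θ L) := lmeet_iff.2 ⟨x', hx'0, hx'K, hx'L⟩
    have h2 : LMeet (lam Q hQ hn θ K) (lam Q hQ hn θ M) := lmeet_iff.2 ⟨x', hx'0, hx'K, hx'M⟩
    exact mem_of_meet_both hL hM hK hx0 hxL hxM hperp
      ((lmeet_lam_iffP Q hQ hn hnt hK hL).1 h1) ((lmeet_lam_iffP Q hQ hn hnt hK hM).1 h2)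

end

section

open Matrix QuadraticMap Module
open scoped commutatorElement

variable {F : Type*} [Field F] {ι : Type} [Fintype ι] [DecidableEq ι]
variable (Q : QuadraticForm F (ι → F))

set_option quotPrecheck false in
local notation "B" => QuadraticMap.polar (⇑Q)

variable (hQ : (polarBilin Q).Nondegenerate) [Fintype F] (hn : 5 ≤ Fintype.card ι)
include hQ hn

/-- a hyperbolic pair is mapped to a hyperbolic pair -/
theorem exists_locP (hn7 : 7 ≤ Fintype.card ι)
    (θ : Cfsg.POmega F ⇑Q ≃* Cfsg.POmega F ⇑Q) (hnt : MeetPres Q hQ hn θ) {u f : ι → F} (hu : Q u = 0) (hf : Q f = 0)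
    (huf : B u f = 1) : ∃ u' f', Loc Q hQ hn θ u f u' f' := by
  have hu0 : u ≠ 0 := by
    rintro rfl
    rw [B_zero_left] at huf
    exact zero_ne_one huf
  have hf0 : f ≠ 0 := by
    rintro rfl
    rw [B_zero_right] at huf
    exact zero_ne_one huf
  obtain ⟨u', hu'0, hu', mapu⟩ := exists_point_mapP Q hQ hn hn7 θ hnt hu0 hu
  obtain ⟨f'', hf''0, hf'', mapf⟩ := exists_point_mapP Q hQ hn hn7 θ hnt hf0 hf
  have key : B u' f'' ≠ 0 := by
    intro h0
    by_cases hmem : f'' ∈ Submodule.span F {u'}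
    · obtain ⟨y, z, hy, hz, hyz⟩ := exists_c_pair Q hQ hn hu0 hu
      set K := Submodule.span F {u, y} with hK
      have hKl : IsLine Q K := ⟨u, y, hy, rfl⟩
      have h1 : u' ∈ lam Q hQ hn θ K := (mapu K hKl).1 (Submodule.subset_span (by simp))
      obtain ⟨c, rfl⟩ := Submodule.mem_span_singleton.1 hmem
      have h2 : f ∈ K := (mapf K hKl).2 (Submodule.smul_mem _ _ h1)
      have h3 : B u f = 0 := mem_perp.1 (hKl.le_perp h2) u (Submodule.subset_span (by simp))
      rw [huf] at h3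
      exact one_ne_zero h3
    · have hts : TSPair Q u' f'' := ⟨hu', hf'', h0, li_pair_of_not_mem hu'0 hmem⟩
      set K' := Submodule.span F {u', f''} with hK'
      have hK'l : IsLine Q K' := ⟨u', f'', hts, rfl⟩
      set K := lam Q hQ hn θ.symm K' with hK
      have hKl : IsLine Q K := lam_isLine Q hQ hn θ.symm hK'l
      have hKK' : lam Q hQ hn θ K = K' := lam_lam_symm Q hQ hn θ hK'l
      have h1 : u ∈ K := (mapu K hKl).2 (by rw [hKK']; exact Submodule.subset_span (by simp))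
      have h2 : f ∈ K := (mapf K hKl).2 (by rw [hKK']; exact Submodule.subset_span (by simp))
      have h3 : B u f = 0 := mem_perp.1 (hKl.le_perp h2) u h1
      rw [huf] at h3
      exact one_ne_zero h3
  refine ⟨u', (B u' f'')⁻¹ • f'', hu, hf, huf, hu', ?_, ?_, mapu, ?_⟩
  · rw [Q_smul, hf'', mul_zero]
  · rw [B_smul_right, inv_mul_cancel₀ key]
  · intro K hK
    rw [mapf K hK]
    constructor
    · intro h
      exact Submodule.smul_mem _ _ h
    · intro h
      have : f'' = B u' f'' • ((B u' f'')⁻¹ • f'') := by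
        rw [smul_smul, mul_inv_cancel₀ key, one_smul]
      rw [this]
      exact Submodule.smul_mem _ _ h

end

section

open Matrix QuadraticMap Module
open scoped commutatorElement

variable {F : Type*} [Field F] {ι : Type} [Fintype ι] [DecidableEq ι]
variable {Q : QuadraticForm F (ι → F)}

set_option quotPrecheck false in
local notation "B" => QuadraticMap.polar (⇑Q)

variable {hQ : (polarBilin Q).Nondegenerate} [Fintype F] {hn : 5 ≤ Fintype.card ι}
variable {θ : Cfsg.POmega F ⇑Q ≃* Cfsg.POmega F ⇑Q} {u f u' f' : ι → F}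
  {φ ψ : (ι → F) → (ι → F)}

/-- on singular vectors, the maps attached to `u` and to `f` are proportional -/
theorem psi_memP (hn7 : 7 ≤ Fintype.card ι) (hnt : MeetPres Q hQ hn θ) (h : Loc Q hQ hn θ u f u' f')
    (hφ : IsPhi Q θ u f u' f' φ) (hψ : IsPhi Q θ f u f' u' ψ) {y : ι → F} (hy0 : y ≠ 0)
    (hy : Q y = 0) (hyu : B y u = 0) (hyf : B y f = 0) : ∃ c : F, ψ y = c • φ y := by
  obtain ⟨ts1, hK1, _⟩ := phi_sing h hφ hy0 hy hyu hyf
  obtain ⟨ts2, hK2, _⟩ := phi_sing h.swap hψ hy0 hy hyf hyu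
  have hts1 : TSPair Q u y :=
    (tspair_of Q hy0 hy h.hu hyu hyf (by rw [h.huf]; exact one_ne_zero)).symm
  have hts2 : TSPair Q f y :=
    (tspair_of Q hy0 hy h.hf hyf hyu (by rw [B_comm, h.huf]; exact one_ne_zero)).symm
  have hmeet : LMeet (Submodule.span F {f, y}) (Submodule.span F {u, y}) :=
    lmeet_iff.2 ⟨y, hy0, Submodule.subset_span (by simp), Submodule.subset_span (by simp)⟩
  have hmeet' := lmeet_lamP Q hQ hn hnt ⟨f, y, hts2, rfl⟩ ⟨u, y, hts1, rfl⟩ hmeet
  rw [hK1, hK2] at hmeet'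
  obtain ⟨z, hz0, hz1, hz2⟩ := lmeet_iff.1 hmeet'
  obtain ⟨α, β, e1⟩ := Submodule.mem_span_pair.1 hz1
  obtain ⟨γ, δ, e2⟩ := Submodule.mem_span_pair.1 hz2
  obtain ⟨a1, a2, _⟩ := hφ y hyu hyf
  obtain ⟨b1, b2, _⟩ := hψ y hyf hyu
  have huu : B u' u' = 0 := by rw [B_self, h.hu', mul_zero]
  have hff : B f' f' = 0 := by rw [B_self, h.hf', mul_zero]
  have hfu : B f' u' = 1 := by rw [B_comm, h.huf']
  have hα : α = 0 := by
    have := congrArg (fun v => B v u') (e1.trans e2.symm)
    simp only [B_add_left, B_smul_left, hfu, b2, huu, a1] at this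
    linear_combination this
  have hγ : γ = 0 := by
    have := congrArg (fun v => B v f') (e1.trans e2.symm)
    simp only [B_add_left, B_smul_left, hff, b1, h.huf', a2] at this
    linear_combination -this
  rw [hα, zero_smul, zero_add] at e1
  rw [hγ, zero_smul, zero_add] at e2
  have hβ : β ≠ 0 := by
    rintro rfl
    rw [zero_smul] at e1
    exact hz0 e1.symm
  refine ⟨β⁻¹ * δ, ?_⟩
  rw [mul_smul, e2, ← e1, smul_smul, inv_mul_cancel₀ hβ, one_smul]

/-- the maps attached to `u` and `f` are proportional -/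
theorem exists_muP (hn7 : 7 ≤ Fintype.card ι) (hnt : MeetPres Q hQ hn θ) (h : Loc Q hQ hn θ u f u' f')
    (hφ : IsPhi Q θ u f u' f' φ) (hψ : IsPhi Q θ f u f' u' ψ) :
    ∃ μ : F, μ ≠ 0 ∧ ∀ w, B w u = 0 → B w f = 0 → ψ w = μ • φ w := by
  have hφadd : ∀ y₁ y₂, B y₁ u = 0 → B y₁ f = 0 → B y₂ u = 0 → B y₂ f = 0 →
      φ (y₁ + y₂) = φ y₁ + φ y₂ := fun y₁ y₂ h1u h1f h2u h2f => phi_add h hφ h1u h1f h2u h2f
  obtain ⟨μ, hμ⟩ : ∃ μ : F, ∀ w, B w u = 0 → B w f = 0 → ψ w = μ • φ w := by
    apply prop_of_sing Q hQ hn7 h.hu h.hf h.huf hφadd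
    · intro y₁ y₂ h1u h1f h2u h2f
      exact phi_add h.swap hψ h1f h1u h2f h2u
    · intro y hyu hyf hy
      by_cases hy0 : y = 0
      · exact ⟨0, by rw [hy0, phi_zero h.swap hψ, zero_smul]⟩
      · exact psi_memP hn7 hnt h hφ hψ hy0 hy hyu hyf
    · intro y₁ y₂ h1u h1f h2u h2f h1 h2 hl
      exact phi_li h hφ h1 h1u h1f h2 h2u h2f hl
    · intro y hyu hyf h0
      exact phi_inj h hφ hyu hyf h0
  refine ⟨μ, ?_, hμ⟩
  rintro rfl
  obtain ⟨w₀, hw₀0, hw₀, hw₀t⟩ := exists_singular_perp Q ![u, f] (by omega)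
  have hw₀u : B w₀ u = 0 := by rw [B_comm]; exact hw₀t 0
  have hw₀f : B w₀ f = 0 := by rw [B_comm]; exact hw₀t 1
  have := hμ w₀ hw₀u hw₀f
  rw [zero_smul] at this
  exact hw₀0 (phi_inj h.swap hψ hw₀f hw₀u this)

/-- the semilinear similitude attached to the local data -/
theorem exists_semilinearP (hn7 : 7 ≤ Fintype.card ι) (hnt : MeetPres Q hQ hn θ)
    (h : Loc Q hQ hn θ u f u' f') (hφ : IsPhi Q θ u f u' f' φ) (hψ : IsPhi Q θ f u f' u' ψ) :
    ∃ (σ : F ≃+* F) (g : (ι → F) →ₛₗ[(σ : F →+* F)] (ι → F)) (c : F), c ≠ 0 ∧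
      (∀ x, Q (g x) = c * σ (Q x)) ∧ (∀ x, g x = 0 → x = 0) ∧ g u = c • u' ∧ g f = f' ∧
      (∀ w, B w u = 0 → B w f = 0 → g w = φ w) ∧
      (∀ w, B w u = 0 → B w f = 0 → ψ w = c⁻¹ • φ w) := by
  obtain ⟨σ, hσ⟩ := exists_sigma hn7 h hφ
  obtain ⟨μ, hμ0, hμ⟩ := exists_muP hn7 hnt h hφ hψ
  have hform : ∀ w, B w u = 0 → B w f = 0 → Q (φ w) = μ⁻¹ * σ (Q w) := fun w hwu hwf =>
    phi_form h hφ hψ hσ hμ0 hμ hwu hwf
  have huu : B u u = 0 := by rw [B_self, h.hu, mul_zero]
  have hff : B f f = 0 := by rw [B_self, h.hf, mul_zero]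
  have hfu : B f u = 1 := by rw [B_comm, h.huf]
  have huu' : B u' u' = 0 := by rw [B_self, h.hu', mul_zero]
  have hff' : B f' f' = 0 := by rw [B_self, h.hf', mul_zero]
  have hfu' : B f' u' = 1 := by rw [B_comm, h.huf']
  set w0 : (ι → F) → (ι → F) := fun x => x - B x f • u - B x u • f with hw0
  have hw0u : ∀ x, B (w0 x) u = 0 := by
    intro x
    simp only [hw0, B_sub_left, B_smul_left, huu, hfu]; ring
  have hw0f : ∀ x, B (w0 x) f = 0 := by
    intro x
    simp only [hw0, B_sub_left, B_smul_left, h.huf, hff]; ring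
  have hdec : ∀ x, x = B x f • u + B x u • f + w0 x := by
    intro x
    simp only [hw0]; module
  have hw0add : ∀ x y, w0 (x + y) = w0 x + w0 y := by
    intro x y
    simp only [hw0, B_add_left]; module
  have hw0smul : ∀ (a : F) x, w0 (a • x) = a • w0 x := by
    intro a x
    simp only [hw0, B_smul_left]; module
  let g : (ι → F) →ₛₗ[(σ : F →+* F)] (ι → F) :=
    { toFun := fun x => (μ⁻¹ * σ (B x f)) • u' + σ (B x u) • f' + φ (w0 x)
      map_add' := by
        intro x y
        simp only [B_add_left, map_add, hw0add]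
        rw [phi_add h hφ (hw0u x) (hw0f x) (hw0u y) (hw0f y)]
        module
      map_smul' := by
        intro a x
        simp only [B_smul_left, map_mul, hw0smul, RingHom.coe_coe]
        rw [hσ a (w0 x) (hw0u x) (hw0f x)]
        module }
  have hgdef : ∀ x, g x = (μ⁻¹ * σ (B x f)) • u' + σ (B x u) • f' + φ (w0 x) := fun x => rfl
  have hφw0 : ∀ x, B (φ (w0 x)) u' = 0 ∧ B (φ (w0 x)) f' = 0 := fun x =>
    ⟨(hφ _ (hw0u x) (hw0f x)).1, (hφ _ (hw0u x) (hw0f x)).2.1⟩
  refine ⟨σ, g, μ⁻¹, inv_ne_zero hμ0, ?_, ?_, ?_, ?_, ?_, ?_⟩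
  · intro x
    rw [hgdef, Q_hyp h.hu' h.hf' h.huf' (hφw0 x).1 (hφw0 x).2, hform _ (hw0u x) (hw0f x)]
    conv_rhs => rw [hdec x, Q_hyp h.hu h.hf h.huf (hw0u x) (hw0f x)]
    rw [map_add, map_mul]
    ring
  · intro x hx
    rw [hgdef] at hx
    have h1 : B x f = 0 := by
      have := congrArg (fun v => B v f') hx
      simp only [B_add_left, B_smul_left, h.huf', hff', (hφw0 x).2, B_zero_left] at this
      have h2 : μ⁻¹ * σ (B x f) = 0 := by linear_combination this
      exact (map_eq_zero σ).1 ((mul_eq_zero.1 h2).resolve_left (inv_ne_zero hμ0))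
    have h2 : B x u = 0 := by
      have := congrArg (fun v => B v u') hx
      simp only [B_add_left, B_smul_left, huu', hfu', (hφw0 x).1, B_zero_left] at this
      have h2 : σ (B x u) = 0 := by linear_combination this
      exact (map_eq_zero σ).1 h2
    rw [h1, h2, map_zero, mul_zero, zero_smul, zero_smul, zero_add, zero_add] at hx
    have h3 := phi_inj h hφ (hw0u x) (hw0f x) hx
    rw [hdec x, h1, h2, h3]
    simp
  · rw [hgdef]
    have : w0 u = 0 := by
      simp only [hw0, h.huf, huu]; module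
    rw [this, phi_zero h hφ, h.huf, huu, map_one, map_zero]
    module
  · rw [hgdef]
    have : w0 f = 0 := by
      simp only [hw0, hff, hfu]; module
    rw [this, phi_zero h hφ, hff, hfu, map_one, map_zero]
    module
  · intro w hwu hwf
    rw [hgdef]
    have : w0 w = w := by
      simp only [hw0, hwu, hwf]; module
    rw [this, hwu, hwf, map_zero]
    module
  · intro w hwu hwf
    rw [inv_inv]
    exact hμ w hwu hwf

end

section

open Matrix QuadraticMap Module
open scoped commutatorElement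

variable {F : Type*} [Field F] {ι : Type} [Fintype ι] [DecidableEq ι]
variable (Q : QuadraticForm F (ι → F))

set_option quotPrecheck false in
local notation "B" => QuadraticMap.polar (⇑Q)

variable (hQ : (polarBilin Q).Nondegenerate) [Fintype F] (hn : 5 ≤ Fintype.card ι)

include hQ hn in
/-- **every automorphism of `PΩ(Q)` is induced by a semisimilarity** (`n ≥ 7`, away from the
triality case) -/
theorem aut_inducedP (hn7 : 7 ≤ Fintype.card ι)
    (θ : Cfsg.POmega F ⇑Q ≃* Cfsg.POmega F ⇑Q) (hnt : MeetPres Q hQ hn θ) :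
    ∃ (g : GL ι F) (σ : F ≃+* F), Cfsg.IsSemisimilarityPair ⇑Q g σ ∧
      Cfsg.IsInducedBySemilinearPOmega ⇑Q g σ θ := by
  obtain ⟨u, hu0, hu⟩ := exists_singular Q hn
  obtain ⟨f, hf, huf⟩ := exists_hyperbolic_pair Q hQ u hu0 hu
  obtain ⟨u', f', h⟩ := exists_locP Q hQ hn hn7 θ hnt hu hf huf
  obtain ⟨φ, hφ⟩ := exists_isPhi Q hQ hn h
  obtain ⟨ψ, hψ⟩ := exists_isPhi Q hQ hn h.swap
  obtain ⟨σ, g, c, hc, hgQ, hginj, hgu, hgf, hgw, hψφ⟩ := exists_semilinearP hn7 hnt h hφ hψ
  set G : GL ι F := (isUnit_slMat g hginj).unit with hG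
  have hGval : (G : Matrix ι ι F) = slMat g := rfl
  have hf0 : f ≠ 0 := h.swap.u_ne
  have hfu : B f u = 1 := by rw [B_comm, huf]
  have hB : ∀ a b, B (g a) (g b) = c * σ (B a b) := by
    intro a b
    unfold QuadraticMap.polar
    rw [← map_add, hgQ, hgQ, hgQ, map_sub, map_sub]
    ring
  refine ⟨G, σ, ⟨Units.mk0 c hc, fun v => ?_⟩, ?_⟩
  · rw [hGval, slMat_mulVec, hgQ]
    rfl
  set Γ := Compat Q G σ θ with hΓ
  -- `Q_u ≤ Γ`
  have hΓu : Qg Q u ≤ Γ := by
    intro s hs
    obtain ⟨y, huy, rfl⟩ := exists_of_mem_Qg Q hQ hn hu0 hu hs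
    obtain ⟨w, hwu, hwf, hdec⟩ := hyp_decomp hu hf huf y
    rw [B_comm Q y u, huy, zero_smul, add_zero] at hdec
    have huw : B u w = 0 := by rw [B_comm, hwu]
    have e1 : rhoΩ Q u y = rhoΩ Q u w := by
      rw [hdec, add_comm]
      exact rhoΩ_add_smul Q hQ hn hu huw _
    obtain ⟨a1, a2, a3⟩ := hφ w hwu hwf
    have hu'φ : B u' (φ w) = 0 := by rw [B_comm, a1]
    rw [e1]
    refine ⟨rhoΩ Q u' (φ w), ?_, a3⟩
    rw [hG, cj_rho Q hQ hn g hc hgQ hginj hu huw, mat_rhoΩ Q hQ hn h.hu' hu'φ, hgu, hgw w hwu hwf,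
      smul_smul, inv_mul_cancel₀ hc, one_smul]
  -- `Q_f ≤ Γ`
  have hΓf : Qg Q f ≤ Γ := by
    intro s hs
    obtain ⟨y, hfy, rfl⟩ := exists_of_mem_Qg Q hQ hn hf0 hf hs
    obtain ⟨w, hwf, hwu, hdec⟩ := hyp_decomp hf hu hfu y
    rw [B_comm Q y f, hfy, zero_smul, add_zero] at hdec
    have hfw : B f w = 0 := by rw [B_comm, hwf]
    have e1 : rhoΩ Q f y = rhoΩ Q f w := by
      rw [hdec, add_comm]
      exact rhoΩ_add_smul Q hQ hn hf hfw _
    obtain ⟨a1, a2, a3⟩ := hψ w hwf hwu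
    have hf'ψ : B f' (ψ w) = 0 := by rw [B_comm, a1]
    rw [e1]
    refine ⟨rhoΩ Q f' (ψ w), ?_, a3⟩
    rw [hG, cj_rho Q hQ hn g hc hgQ hginj hf hfw, mat_rhoΩ Q hQ hn h.hf' hf'ψ, hgf, hgw w hwu hwf,
      hψφ w hwu hwf, rhoM_smul_left]
  have hall : ∀ v, v ≠ 0 → Q v = 0 → Qg Q v ≤ Γ := fun v hv0 hv =>
    Qg_le_of_pair Q hQ hn hu hf huf hΓu hΓf hv0 hv
  -- the final step
  intro s s' hss'
  have hss'' : mat s' = cj G σ (mat s) := hss'
  show θ (pr Q s) = pr Q s'
  obtain ⟨ζ, hζ⟩ := pr_surjective Q (θ.symm ((pr Q s')⁻¹ * θ (pr Q s)))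
  -- `ζ` centralises `Q_v` for `v = u, f`
  have key : ∀ v, v ≠ 0 → Q v = 0 → ∀ y, B v y = 0 → ζ * rhoΩ Q v y = rhoΩ Q v y * ζ := by
    intro v hv0 hv y hvy
    set q := rhoΩ Q v y with hq
    have hqQ : q ∈ Qg Q v := rhoΩ_mem_Qg Q hQ hn hv hvy
    obtain ⟨q', hq', hθq⟩ := hall v hv0 hv hqQ
    have hsv0 : sv s v ≠ 0 := fun h0 => hv0 ((sv_eq_zero_iff s).1 h0)
    obtain ⟨t, ht, hθt⟩ := hall (sv s v) hsv0 (by rw [Q_sv, hv]) (conj_mem_Qg (t := s) hqQ)
    have ht' : t = s' * q' * s'⁻¹ := by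
      apply mat_injective
      rw [ht, mat_mul, mat_mul, cj_mul, cj_mul, mat_mul, mat_mul, hss'', hq', cj_inv Q G σ hss'']
    have e1 : θ (pr Q s) * θ (pr Q q) * (θ (pr Q s))⁻¹ = pr Q s' * θ (pr Q q) * (pr Q s')⁻¹ := by
      have : θ (pr Q (s * q * s⁻¹)) = pr Q (s' * q' * s'⁻¹) := by rw [hθt, ht']
      simpa only [map_mul, map_inv, hθq] using this
    have e2 : (pr Q s')⁻¹ * θ (pr Q s) * θ (pr Q q) = θ (pr Q q) * ((pr Q s')⁻¹ * θ (pr Q s)) := by
      have := congrArg (fun x => (pr Q s')⁻¹ * x * θ (pr Q s)) e1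
      simp only [mul_assoc, inv_mul_cancel, mul_one, inv_mul_cancel_left] at this
      rw [mul_assoc, this]
    have hθζ : θ (pr Q ζ) = (pr Q s')⁻¹ * θ (pr Q s) := by rw [hζ, MulEquiv.apply_symm_apply]
    have e3 : pr Q ζ * pr Q q = pr Q q * pr Q ζ := by
      apply θ.injective
      rw [map_mul, map_mul, hθζ]
      exact e2
    have e4 : pr Q (ζ * q * ζ⁻¹) = pr Q q := by
      rw [map_mul, map_mul, e3, map_inv, mul_inv_cancel_right]
    have hζv0 : sv ζ v ≠ 0 := fun h0 => hv0 ((sv_eq_zero_iff ζ).1 h0)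
    have e5 := eq_of_pr_eq_of_mem_Qg hQ hn hζv0 (by rw [Q_sv, hv]) hv0 hv
      (conj_mem_Qg (t := ζ) hqQ) hqQ e4
    calc ζ * q = (ζ * q * ζ⁻¹) * ζ := by group
      _ = q * ζ := by rw [e5]
  obtain ⟨μ, hμ⟩ := scalar_of_centralizes_pair Q hQ hn hu hf huf (key u hu0 hu) (key f hf0 hf)
  have hcen := mem_center_of_scalar Q hμ
  have h1 : pr Q ζ = 1 := (pr_eq_one_iff Q).2 hcen
  rw [h1] at hζ
  have h2 : (pr Q s')⁻¹ * θ (pr Q s) = 1 := by
    have := congrArg θ hζ
    rw [map_one, MulEquiv.apply_symm_apply] at this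
    exact this.symm
  rw [inv_mul_eq_one] at h2
  exact h2.symm

end

end

section

section

open Matrix QuadraticMap Module
open scoped commutatorElement

variable {F : Type*} [Field F] {ι : Type} [Fintype ι] [DecidableEq ι]
variable (Q : QuadraticForm F (ι → F))

set_option quotPrecheck false in
local notation "B" => QuadraticMap.polar (⇑Q)

/-- the symplecton of two lines, defined in terms of the root subgroups -/
def Symp (L M : Submodule F (ι → F)) : Set (Submodule F (ι → F)) :=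
  {K | IsLine Q K ∧ GCom Q K L ∧ GCom Q K M ∧
    ∀ N, IsLine Q N → GAdj Q N L → GAdj Q N M → GCom Q K N}

variable (hQ : (polarBilin Q).Nondegenerate) (hn : 5 ≤ Fintype.card ι)
variable [Fintype F]

include hQ hn

/-- symplecta are preserved by automorphisms -/
theorem symp_lam (θ : Cfsg.POmega F ⇑Q ≃* Cfsg.POmega F ⇑Q) {K L M : Submodule F (ι → F)}
    (hK : IsLine Q K) (hL : IsLine Q L) (hM : IsLine Q M) :
    lam Q hQ hn θ K ∈ Symp Q (lam Q hQ hn θ L) (lam Q hQ hn θ M) ↔ K ∈ Symp Q L M := by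
  constructor
  · rintro ⟨-, h1, h2, h3⟩
    refine ⟨hK, (gcom_lam_iff Q hQ hn θ hK hL).1 h1, (gcom_lam_iff Q hQ hn θ hK hM).1 h2, ?_⟩
    intro N hN a1 a2
    exact (gcom_lam_iff Q hQ hn θ hK hN).1 (h3 _ (lam_isLine Q hQ hn θ hN)
      ((gadj_lam_iff Q hQ hn θ hN hL).2 a1) ((gadj_lam_iff Q hQ hn θ hN hM).2 a2))
  · rintro ⟨-, h1, h2, h3⟩
    refine ⟨lam_isLine Q hQ hn θ hK, (gcom_lam_iff Q hQ hn θ hK hL).2 h1,
      (gcom_lam_iff Q hQ hn θ hK hM).2 h2, ?_⟩
    intro N' hN' a1 a2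
    set N := lam Q hQ hn θ.symm N' with hNdef
    have hN : IsLine Q N := lam_isLine Q hQ hn θ.symm hN'
    have hNN' : lam Q hQ hn θ N = N' := lam_lam_symm Q hQ hn θ hN'
    rw [← hNN'] at a1 a2 ⊢
    exact (gcom_lam_iff Q hQ hn θ hK hN).2 (h3 N hN ((gadj_lam_iff Q hQ hn θ hN hL).1 a1)
      ((gadj_lam_iff Q hQ hn θ hN hM).1 a2))

omit hQ hn [Fintype F] in
/-- a line meeting `⟨x,t⟩` and perpendicular to `⟨x,t'⟩` with `B t t' ≠ 0` passes through `x` -/
theorem mem_of_meet_perp {x t t' : ι → F} (ht : TSPair Q x t) (ht' : TSPair Q x t')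
    (htt' : B t t' ≠ 0) {K : Submodule F (ι → F)}
    (hm : LMeet K (Submodule.span F {x, t})) (hp : LPerp Q K (Submodule.span F {x, t'})) :
    x ∈ K := by
  obtain ⟨p, hp0, hpK, hpL⟩ := lmeet_iff.1 hm
  obtain ⟨α, β, rfl⟩ := Submodule.mem_span_pair.1 hpL
  have h4 := (mem_perp_span_pair.1 (hp hpK)).2
  rw [B_comm, B_add_left, B_smul_left, B_smul_left, ht'.2.2.1, mul_zero, zero_add] at h4
  have hβ : β = 0 := (mul_eq_zero.1 h4).resolve_right htt'
  rw [hβ, zero_smul, add_zero] at hpK hp0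
  have hα : α ≠ 0 := by
    rintro rfl
    exact hp0 (zero_smul _ _)
  have : x = α⁻¹ • (α • x) := by rw [smul_smul, inv_mul_cancel₀ hα, one_smul]
  rw [this]
  exact K.smul_mem _ hpK

/-- the symplecton of two non-perpendicular lines through a point: all lines through the point -/
theorem symp_point (hn7 : 7 ≤ Fintype.card ι) {x y z : ι → F} (hy : TSPair Q x y)
    (hz : TSPair Q x z) (hyz : B y z ≠ 0) {K : Submodule F (ι → F)} (hK : IsLine Q K) :
    K ∈ Symp Q (Submodule.span F {x, y}) (Submodule.span F {x, z}) ↔ x ∈ K := by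
  have hx0 : x ≠ 0 := hy.ne_zero_left
  set L := Submodule.span F {x, y} with hLdef
  set M := Submodule.span F {x, z} with hMdef
  have hL : IsLine Q L := ⟨x, y, hy, rfl⟩
  have hM : IsLine Q M := ⟨x, z, hz, rfl⟩
  have hxL : x ∈ L := Submodule.subset_span (by simp)
  have hxM : x ∈ M := Submodule.subset_span (by simp)
  have hperp : ¬LPerp Q L M := fun h => hyz (B_zero_of_lperp Q h)
  have hzy : B z y ≠ 0 := by rw [B_comm]; exact hyz
  constructor
  · rintro ⟨-, h1, h2, h3⟩
    by_contra hxK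
    rw [gcom_iff Q hQ hn hK hL] at h1
    rw [gcom_iff Q hQ hn hK hM] at h2
    rcases h1 with h1 | h1
    swap
    · rcases h2 with h2 | h2
      · exact hxK (mem_of_meet_perp Q hy hz hyz h1 h2)
      · exact hxK (mem_of_meet_both hL hM hK hx0 hxL hxM hperp h1 h2)
    rcases h2 with h2 | h2
    swap
    · exact hxK (mem_of_meet_perp Q hz hy hzy h2 h1)
    -- `K` is perpendicular to both lines
    obtain ⟨k₁, k₂, hk, rfl⟩ := hK
    have hk₁K : k₁ ∈ Submodule.span F {k₁, k₂} := Submodule.subset_span (by simp)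
    have hk1 := mem_perp_span_pair.1 (h1 hk₁K)
    have hk2 := mem_perp_span_pair.1 (h2 hk₁K)
    -- `hk1 : B x k₁ = 0 ∧ B y k₁ = 0`, `hk2 : B x k₁ = 0 ∧ B z k₁ = 0`
    have hk₁x : k₁ ∉ Submodule.span F {x} := by
      intro hmem
      obtain ⟨c, hc⟩ := Submodule.mem_span_singleton.1 hmem
      have hc0 : c ≠ 0 := by
        rintro rfl
        rw [zero_smul] at hc
        exact hk.ne_zero_left hc.symm
      apply hxK
      have : x = c⁻¹ • k₁ := by rw [← hc, smul_smul, inv_mul_cancel₀ hc0, one_smul]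
      rw [this]
      exact Submodule.smul_mem _ _ hk₁K
    -- a vector perpendicular to `x, y, z` but not to `k₁`
    obtain ⟨d, hdx, hdy, hdz, hdk⟩ : ∃ d, B x d = 0 ∧ B y d = 0 ∧ B z d = 0 ∧ B d k₁ ≠ 0 := by
      by_contra hcon
      push_neg at hcon
      have h5 : k₁ ∈ perp Q (perp Q (Submodule.span F {x, y} ⊔ Submodule.span F {z})) := by
        rw [mem_perp]
        intro d hd
        rw [perp_sup, Submodule.mem_inf, mem_perp_span_pair, mem_perp_span_singleton] at hd
        exact hcon d hd.1.1 hd.1.2 hd.2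
      rw [perp_perp hQ] at h5
      obtain ⟨w, hw, w', hw', e⟩ := Submodule.mem_sup.1 h5
      obtain ⟨a, b, rfl⟩ := Submodule.mem_span_pair.1 hw
      obtain ⟨c, rfl⟩ := Submodule.mem_span_singleton.1 hw'
      have e1 : B y k₁ = 0 := hk1.2
      have e2 : B z k₁ = 0 := hk2.2
      rw [← e] at e1 e2
      have hyy : B y y = 0 := by rw [B_self, hy.2.1, mul_zero]
      have hzz : B z z = 0 := by rw [B_self, hz.2.1, mul_zero]
      rw [B_add_right, B_add_right, B_smul_right, B_smul_right, B_smul_right, B_comm Q y x,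
        hy.2.2.1, hyy] at e1
      rw [B_add_right, B_add_right, B_smul_right, B_smul_right, B_smul_right, B_comm Q z x,
        hz.2.2.1, hzz] at e2
      have hc : c = 0 := by
        have : c * B y z = 0 := by linear_combination e1
        exact (mul_eq_zero.1 this).resolve_right hyz
      have hb : b = 0 := by
        have : b * B z y = 0 := by linear_combination e2
        exact (mul_eq_zero.1 this).resolve_right hzy
      apply hk₁x
      rw [← e, hc, hb, zero_smul, zero_smul, add_zero, add_zero]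
      exact Submodule.smul_mem _ _ (Submodule.subset_span (by simp))
    -- make it singular
    set c := d + (-(Q d) / B d k₁) • k₁ with hc
    have hkk : B k₁ k₁ = 0 := by rw [B_self, hk.1, mul_zero]
    have hQc : Q c = 0 := by
      rw [hc, Q_add, Q_smul, hk.1, B_smul_right]
      field_simp
      ring
    have hcx : B x c = 0 := by rw [hc, B_add_right, B_smul_right, hdx, hk1.1]; ring
    have hcy : B y c = 0 := by rw [hc, B_add_right, B_smul_right, hdy, hk1.2]; ring
    have hcz : B z c = 0 := by rw [hc, B_add_right, B_smul_right, hdz, hk2.2]; ring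
    have hck : B c k₁ ≠ 0 := by
      rw [hc, B_add_left, B_smul_left, hkk, mul_zero, add_zero]
      exact hdk
    have htc : TSPair Q x c := tspair_of Q hx0 hy.1 hQc hcx hk1.1 hck
    have hcy' : B c y = 0 := by rw [B_comm]; exact hcy
    have hcz' : B c z = 0 := by rw [B_comm]; exact hcz
    have a1 := (gadj_of_vectors Q hQ hn hn7 htc hy hcy' hz.2.2.1 hcz' hyz).1
    have a2 := (gadj_of_vectors Q hQ hn hn7 htc hz hcz' hy.2.2.1 hcy' hzy).1
    have hN : IsLine Q (Submodule.span F {x, c}) := ⟨x, c, htc, rfl⟩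
    have h6 := h3 _ hN a1 a2
    rw [gcom_iff Q hQ hn ⟨k₁, k₂, hk, rfl⟩ hN] at h6
    rcases h6 with h6 | h6
    · have := (mem_perp_span_pair.1 (h6 hk₁K)).2
      exact hck this
    · obtain ⟨w, hw0, hwK, hwN⟩ := lmeet_iff.1 h6
      obtain ⟨α, β, rfl⟩ := Submodule.mem_span_pair.1 hwN
      have h7 : B (α • x + β • c) k₁ = 0 := by
        have hKK : IsLine Q (Submodule.span F {k₁, k₂}) := ⟨k₁, k₂, hk, rfl⟩
        exact mem_perp.1 (hKK.le_perp hk₁K) _ hwK
      rw [B_add_left, B_smul_left, B_smul_left, hk1.1, mul_zero, zero_add] at h7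
      have hβ : β = 0 := (mul_eq_zero.1 h7).resolve_right hck
      rw [hβ, zero_smul, add_zero] at hwK hw0
      have hα : α ≠ 0 := by
        rintro rfl
        exact hw0 (zero_smul _ _)
      apply hxK
      have : x = α⁻¹ • (α • x) := by rw [smul_smul, inv_mul_cancel₀ hα, one_smul]
      rw [this]
      exact Submodule.smul_mem _ _ hwK
  · intro hxK
    have hKL : LMeet K L := lmeet_iff.2 ⟨x, hx0, hxK, hxL⟩
    have hKM : LMeet K M := lmeet_iff.2 ⟨x, hx0, hxK, hxM⟩
    refine ⟨hK, (gcom_iff Q hQ hn hK hL).2 (Or.inr hKL), (gcom_iff Q hQ hn hK hM).2 (Or.inr hKM), ?_⟩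
    intro N hN a1 a2
    rw [gadj_iff Q hQ hn hn7 hN hL] at a1
    rw [gadj_iff Q hQ hn hn7 hN hM] at a2
    have hxN : x ∈ N := mem_of_meet_both hL hM hN hx0 hxL hxM hperp a1.2.2 a2.2.2
    exact (gcom_iff Q hQ hn hK hN).2 (Or.inr (lmeet_iff.2 ⟨x, hx0, hxK, hxN⟩))

omit hn [Fintype F] in
/-- two disjoint perpendicular lines in dimension eight span a subspace equal to its
perpendicular -/
theorem perp_sup_eq (h8 : Fintype.card ι = 8) {L M : Submodule F (ι → F)} (hL : IsLine Q L)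
    (hM : IsLine Q M) (hperp : LPerp Q L M) (hbot : L ⊓ M = ⊥) : perp Q (L ⊔ M) = L ⊔ M := by
  have h1 := sup_le_perp hL hM hperp
  have h2 := Submodule.finrank_sup_add_finrank_inf_eq L M
  rw [hbot, finrank_bot, hL.finrank, hM.finrank] at h2
  have h3 := finrank_perp hQ (L ⊔ M)
  symm
  apply Submodule.eq_of_le_of_finrank_eq h1
  rw [h3, h8]
  omega

/-- the symplecton of two disjoint perpendicular lines: all lines of the solid they span -/
theorem symp_solid (hn7 : 7 ≤ Fintype.card ι) (h8 : Fintype.card ι = 8)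
    {L M : Submodule F (ι → F)} (hL : IsLine Q L) (hM : IsLine Q M) (hperp : LPerp Q L M)
    (hbot : L ⊓ M = ⊥) {K : Submodule F (ι → F)} (hK : IsLine Q K) :
    K ∈ Symp Q L M ↔ K ≤ L ⊔ M := by
  have hS := perp_sup_eq Q hQ h8 hL hM hperp hbot
  have hSts : L ⊔ M ≤ perp Q (L ⊔ M) := sup_le_perp hL hM hperp
  -- the asymmetric case
  have key : ∀ {L M : Submodule F (ι → F)}, IsLine Q L → IsLine Q M → LPerp Q L M → L ⊓ M = ⊥ →
      (∀ N, IsLine Q N → GAdj Q N L → GAdj Q N M → GCom Q K N) →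
      LMeet K L → LPerp Q K M → K ≤ L ⊔ M := by
    intro L M hL hM hperp hbot h3 hm hp
    have hSts : L ⊔ M ≤ perp Q (L ⊔ M) := sup_le_perp hL hM hperp
    by_cases hKL : LPerp Q K L
    · have hS := perp_sup_eq Q hQ h8 hL hM hperp hbot
      rw [← hS, perp_sup]
      exact le_inf hKL hp
    exfalso
    obtain ⟨p₁, hp₁0, hp₁K, hp₁L⟩ := lmeet_iff.1 hm
    obtain ⟨k, hk, rfl⟩ := hK.exists_basis hp₁K hp₁0
    have hkK : k ∈ Submodule.span F {p₁, k} := Submodule.subset_span (by simp)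
    -- `k` is not perpendicular to `L`
    have hkL : ¬ k ∈ perp Q L := by
      intro hk'
      apply hKL
      intro w hw
      obtain ⟨a, b, rfl⟩ := Submodule.mem_span_pair.1 hw
      exact Submodule.add_mem _ (Submodule.smul_mem _ _ (hL.le_perp hp₁L)) (Submodule.smul_mem _ _ hk')
    rw [mem_perp] at hkL
    push_neg at hkL
    obtain ⟨p₁', hp₁'L, hkp⟩ := hkL
    obtain ⟨q, r, hqr, rfl⟩ := hM
    have hqM : q ∈ Submodule.span F {q, r} := Submodule.subset_span (by simp)
    have hq0 : q ≠ 0 := hqr.ne_zero_left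
    have hp₁'0 : p₁' ≠ 0 := by
      rintro rfl
      rw [B_zero_left] at hkp
      exact hkp rfl
    have hli := li_of_inf_bot hbot hp₁'L hqM hp₁'0 hq0
    have hp₁'q : B p₁' q = 0 := by
      have := hperp hp₁'L
      rw [mem_perp] at this
      rw [B_comm]
      exact this q hqM
    have hts : TSPair Q p₁' q := ⟨hL.sing hp₁'L, hqr.1, hp₁'q, hli⟩
    have hN : IsLine Q (Submodule.span F {p₁', q}) := ⟨p₁', q, hts, rfl⟩
    have hMl : IsLine Q (Submodule.span F {q, r}) := ⟨q, r, hqr, rfl⟩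
    have hNS : Submodule.span F {p₁', q} ≤ L ⊔ Submodule.span F {q, r} := by
      rw [Submodule.span_le]
      rintro w (rfl | rfl)
      · exact Submodule.mem_sup_left hp₁'L
      · exact Submodule.mem_sup_right hqM
    have hNL : GAdj Q (Submodule.span F {p₁', q}) L := by
      rw [gadj_iff Q hQ hn hn7 hN hL]
      refine ⟨?_, ?_, lmeet_iff.2 ⟨p₁', hp₁'0, Submodule.subset_span (by simp), hp₁'L⟩⟩
      · intro he
        have : q ∈ L ⊓ Submodule.span F {q, r} :=
          Submodule.mem_inf.2 ⟨by rw [← he]; exact Submodule.subset_span (by simp), hqM⟩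
        rw [hbot, Submodule.mem_bot] at this
        exact hq0 this
      · exact (hNS.trans hSts).trans (perp_anti le_sup_left)
    have hNM : GAdj Q (Submodule.span F {p₁', q}) (Submodule.span F {q, r}) := by
      rw [gadj_iff Q hQ hn hn7 hN hMl]
      refine ⟨?_, ?_, lmeet_iff.2 ⟨q, hq0, Submodule.subset_span (by simp), hqM⟩⟩
      · intro he
        have : p₁' ∈ L ⊓ Submodule.span F {q, r} :=
          Submodule.mem_inf.2 ⟨hp₁'L, by rw [← he]; exact Submodule.subset_span (by simp)⟩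
        rw [hbot, Submodule.mem_bot] at this
        exact hp₁'0 this
      · exact (hNS.trans hSts).trans (perp_anti le_sup_right)
    have h6 := h3 _ hN hNL hNM
    have hKl : IsLine Q (Submodule.span F {p₁, k}) := ⟨p₁, k, hk, rfl⟩
    rw [gcom_iff Q hQ hn hKl hN] at h6
    rcases h6 with h6 | h6
    · have := (mem_perp_span_pair.1 (h6 hkK)).1
      exact hkp this
    · obtain ⟨w, hw0, hwK, hwN⟩ := lmeet_iff.1 h6
      obtain ⟨α, β, e1⟩ := Submodule.mem_span_pair.1 hwK
      obtain ⟨γ, δ, e2⟩ := Submodule.mem_span_pair.1 hwN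
      -- `k ⊥ q`
      have hkq : B k q = 0 := by
        have := hp hkK
        rw [mem_perp] at this
        rw [B_comm]
        exact this q hqM
      have hp₁q : B p₁ q = 0 := by
        have := hperp hp₁L
        rw [mem_perp] at this
        rw [B_comm]
        exact this q hqM
      have hp₁p₁' : B p₁ p₁' = 0 := by
        have := hL.le_perp hp₁L
        rw [mem_perp] at this
        rw [B_comm]
        exact this p₁' hp₁'L
      have hkk : B k k = 0 := by rw [B_self, hk.2.1, mul_zero]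
      have hkp₁ : B k p₁ = 0 := by rw [B_comm]; exact hk.2.2.1
      -- pair the equation with `k`
      have e3 := congrArg (fun v => B k v) (e1.trans e2.symm)
      simp only [B_add_right, B_smul_right, hkp₁, hkk, hkq, mul_zero, add_zero] at e3
      have hγ : γ = 0 := by
        have : γ * B k p₁' = 0 := by rw [← e3]
        rw [B_comm] at hkp
        exact (mul_eq_zero.1 this).resolve_right hkp
      -- now `δ q = α p₁ + β k`
      rw [hγ, zero_smul, zero_add] at e2
      -- if `β ≠ 0` then `k ∈ L ⊔ M`, so `k ⊥ L`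
      by_cases hβ : β = 0
      · rw [hβ, zero_smul, add_zero] at e1
        have : w ∈ L ⊓ Submodule.span F {q, r} := by
          refine Submodule.mem_inf.2 ⟨?_, ?_⟩
          · rw [← e1]; exact L.smul_mem _ hp₁L
          · rw [← e2]; exact Submodule.smul_mem _ _ hqM
        rw [hbot, Submodule.mem_bot] at this
        exact hw0 this
      · have hkS : k ∈ L ⊔ Submodule.span F {q, r} := by
          have : k = β⁻¹ • (δ • q - α • p₁) := by
            rw [e2, ← e1, add_sub_cancel_left, smul_smul, inv_mul_cancel₀ hβ, one_smul]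
          rw [this]
          exact Submodule.smul_mem _ _ (Submodule.sub_mem _
            (Submodule.smul_mem _ _ (Submodule.mem_sup_right hqM))
            (Submodule.smul_mem _ _ (Submodule.mem_sup_left hp₁L)))
        have := (hSts.trans (perp_anti le_sup_left)) hkS
        rw [mem_perp] at this
        exact hkp (this p₁' hp₁'L)
  constructor
  · rintro ⟨-, h1, h2, h3⟩
    rw [gcom_iff Q hQ hn hK hL] at h1
    rw [gcom_iff Q hQ hn hK hM] at h2
    by_cases hKL : LPerp Q K L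
    · by_cases hKM : LPerp Q K M
      · rw [← hS, perp_sup]
        exact le_inf hKL hKM
      · have hm : LMeet K M := h2.resolve_left hKM
        have := key hM hL hperp.symm (by rw [inf_comm]; exact hbot)
          (fun N hN a1 a2 => h3 N hN a2 a1) hm hKL
        rwa [sup_comm] at this
    · have hm : LMeet K L := h1.resolve_left hKL
      rcases h2 with h2 | h2
      · exact key hL hM hperp hbot h3 hm h2
      · obtain ⟨p, q, -, -, hpL, hqM, -, rfl⟩ := hK.span_of_meet hbot hm h2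
        rw [Submodule.span_le]
        rintro w (rfl | rfl)
        · exact Submodule.mem_sup_left hpL
        · exact Submodule.mem_sup_right hqM
  · intro hKS
    have hKp : K ≤ perp Q (L ⊔ M) := hKS.trans hSts
    refine ⟨hK, (gcom_iff Q hQ hn hK hL).2 (Or.inl (hKp.trans (perp_anti le_sup_left))),
      (gcom_iff Q hQ hn hK hM).2 (Or.inl (hKp.trans (perp_anti le_sup_right))), ?_⟩
    intro N hN a1 a2
    rw [gadj_iff Q hQ hn hn7 hN hL] at a1
    rw [gadj_iff Q hQ hn hn7 hN hM] at a2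
    obtain ⟨p, q, -, -, hpL, hqM, hpq, rfl⟩ := hN.span_of_meet hbot a1.2.2 a2.2.2
    have hNS : Submodule.span F {p, q} ≤ L ⊔ M := by
      rw [Submodule.span_le]
      rintro w (rfl | rfl)
      · exact Submodule.mem_sup_left hpL
      · exact Submodule.mem_sup_right hqM
    exact (gcom_iff Q hQ hn hK ⟨p, q, hpq, rfl⟩).2 (Or.inl (hKp.trans (perp_anti hNS)))

end

end

end Cfsg.Agent.Lib.H13.AutPO
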