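import Mathlib
import Cfsg.Agent.Lib.H13.Tri4

/-!
Triality, part 5 (helper13): `Ω` is transitive on non-zero singular vectors in all characteristics
(`exists_Omega_sing`), the line map of `semiAut g σ` is the semilinear image (`lam_semiAut`), point-type automorphisms
lie in `Γ` (`mem_gamma_of_pointAt`), the point/solid dichotomy in dimension `8` (`point_or_solid`), and the order of
`Γ = gammaPOmega` (`card_gamma`).
-/

set_option autoImplicit false
set_option linter.unusedSectionVars false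
set_option linter.unusedVariables false
set_option linter.unusedSimpArgs false
set_option linter.deprecated false

namespace Cfsg.Agent.Lib.H13.AutPO

section

section

open Matrix QuadraticMap Module
open scoped commutatorElement
open Cfsg.Agent.Lib.H11.ConfOrth

variable {F : Type*} [Field F] {ι : Type} [Fintype ι] [DecidableEq ι]
variable (Q : QuadraticForm F (ι → F))

set_option quotPrecheck false in
local notation "B" => QuadraticMap.polar (⇑Q)

variable (hQ : (polarBilin Q).Nondegenerate) (hn : 5 ≤ Fintype.card ι)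

include hQ hn

/-- `Ω` moves a singular vector to any collinear independent singular vector -/
theorem exists_Omega_collinear {x p : ι → F} (hx : Q x = 0) (hp : Q p = 0) (hxp : B x p = 0)
    (hli : LinearIndependent F ![x, p]) : ∃ s : ↥(Cfsg.Omega F ⇑Q), sv s x = p := by
  set u := p - x with hu
  have hQu : Q u = 0 := by rw [hu, Q_sub, hx, hp, B_comm, hxp]; ring
  have hxu : B x u = 0 := by rw [hu, B_sub_right, hxp, B_self, hx]; ring
  obtain ⟨y₀, hy₀u, hy₀x⟩ : ∃ y₀, B u y₀ = 0 ∧ B x y₀ ≠ 0 := by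
    by_contra hcon
    push Not at hcon
    have h5 : x ∈ perp Q (perp Q (Submodule.span F {u})) := by
      rw [mem_perp]
      intro d hd
      rw [mem_perp_span_singleton] at hd
      rw [B_comm]
      exact hcon d hd
    rw [perp_perp hQ] at h5
    obtain ⟨c, hc⟩ := Submodule.mem_span_singleton.1 h5
    rw [LinearIndependent.pair_iff] at hli
    have := hli (-(1 + c)) c (by rw [← sub_eq_zero] at hc; rw [← hc, hu]; module)
    have h1 := this.2
    have h2 := this.1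
    rw [h1] at h2
    simp at h2
  set y := (B x y₀)⁻¹ • y₀ with hy
  have hyu : B u y = 0 := by rw [hy, B_smul_right, hy₀u, mul_zero]
  have hyx : B x y = 1 := by rw [hy, B_smul_right, inv_mul_cancel₀ hy₀x]
  refine ⟨rhoΩ Q u y, ?_⟩
  rw [sv_rhoΩ Q hQ hn hQu hyu, hyx, hxu, hu]
  module

/-- `Ω` is transitive on the non-zero singular vectors -/
theorem exists_Omega_sing [Fintype F] {x p : ι → F} (hx0 : x ≠ 0) (hp0 : p ≠ 0) (hx : Q x = 0)
    (hp : Q p = 0) : ∃ s : ↥(Cfsg.Omega F ⇑Q), sv s x = p := by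
  have key : ∀ z, Q z = 0 → B x z = 0 → B z p = 0 → LinearIndependent F ![x, z] →
      LinearIndependent F ![z, p] → ∃ s : ↥(Cfsg.Omega F ⇑Q), sv s x = p := by
    intro z hz h1 h2 l1 l2
    obtain ⟨s₁, hs₁⟩ := exists_Omega_collinear Q hQ hn hx hz h1 l1
    obtain ⟨s₂, hs₂⟩ := exists_Omega_collinear Q hQ hn hz hp h2 l2
    exact ⟨s₂ * s₁, by rw [sv_mul, hs₁, hs₂]⟩
  obtain ⟨y, -, hy, -, -⟩ := exists_c_pair Q hQ hn hx0 hx
  by_cases hxp : B x p = 0
  · by_cases hli : LinearIndependent F ![x, p]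
    · exact exists_Omega_collinear Q hQ hn hx hp hxp hli
    · have hmem : p ∈ Submodule.span F {x} := by
        by_contra hnm
        exact hli (li_pair_of_not_mem hx0 hnm)
      obtain ⟨c, rfl⟩ := Submodule.mem_span_singleton.1 hmem
      have hc : c ≠ 0 := by
        rintro rfl
        exact hp0 (zero_smul _ _)
      refine key y hy.2.1 hy.2.2.1 (by rw [B_smul_right, B_comm, hy.2.2.1, mul_zero]) hy.2.2.2 ?_
      apply li_pair_of_not_mem hy.ne_zero_right
      intro hm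
      obtain ⟨d, hd⟩ := Submodule.mem_span_singleton.1 hm
      apply hy.symm.not_mem
      rw [Submodule.mem_span_singleton]
      refine ⟨c⁻¹ * d, ?_⟩
      rw [← smul_smul, hd, smul_smul, inv_mul_cancel₀ hc, one_smul]
  · set z := y - (B y p / B x p) • x with hzdef
    have hxx : B x x = 0 := by rw [B_self, hx, mul_zero]
    have hQz : Q z = 0 := by
      rw [hzdef, Q_sub, hy.2.1, Q_smul, hx, B_smul_right, B_comm Q y x, hy.2.2.1]; ring
    have hxz : B x z = 0 := by rw [hzdef, B_sub_right, B_smul_right, hy.2.2.1, hxx]; ring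
    have hzp : B z p = 0 := by
      rw [hzdef, B_sub_left, B_smul_left, div_mul_cancel₀ _ hxp, sub_self]
    have hznm : z ∉ Submodule.span F {x} := by
      intro hm
      apply hy.not_mem
      have : y = z + (B y p / B x p) • x := by rw [hzdef]; module
      rw [this]
      exact Submodule.add_mem _ hm (Submodule.smul_mem _ _ (Submodule.mem_span_singleton_self x))
    have hz0 : z ≠ 0 := by
      intro h0
      apply hznm
      rw [h0]
      exact Submodule.zero_mem _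
    refine key z hQz hxz hzp (li_pair_of_not_mem hx0 hznm) ?_
    apply li_pair_of_not_mem hz0
    intro hm
    obtain ⟨d, hd⟩ := Submodule.mem_span_singleton.1 hm
    apply hxp
    rw [← hd, B_smul_right, hxz, mul_zero]

/-- containment of root subgroups forces equality of the lines -/
theorem Xb_eq_of_le [Fintype F] {L L' : Submodule F (ι → F)} (hL : IsLine Q L) (hL' : IsLine Q L')
    (h : Xb Q L ≤ Xb Q L') : L = L' := by
  obtain ⟨u, v, huv, rfl⟩ := hL
  have hy : B u ((1 : F) • v) = 0 := by rw [B_smul_right, huv.2.2.1, mul_zero]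
  have hs := rhoΩ_mem_XL Q hQ hn huv 1
  have hs1 : rhoΩ Q u ((1 : F) • v) ≠ 1 := by
    intro h1
    rw [rhoΩ_eq_one_iff Q hQ hn huv.ne_zero_left huv.1 hy, one_smul] at h1
    exact huv.not_mem h1
  have h2 : pr Q (rhoΩ Q u ((1 : F) • v)) ∈ Xb Q L' := h (Subgroup.mem_map_of_mem _ hs)
  obtain ⟨t, ht, hpt⟩ := Subgroup.mem_map.1 h2
  obtain ⟨x, hx0, hx⟩ := exists_ne_zero_perp Q hQ (Submodule.span F {u, v} ⊔ L') (by
    have := IsLine.finrank_sup_le ⟨u, v, huv, rfl⟩ hL'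
    omega)
  rw [perp_sup, Submodule.mem_inf] at hx
  have e : t = rhoΩ Q u ((1 : F) • v) :=
    eq_of_pr_eq_of_fix Q hQ hn hpt hx0 (ht.2.1 x hx.2) (hs.2.1 x hx.1)
  rw [e] at ht
  exact IsLine.eq_of_le ⟨u, v, huv, rfl⟩ hL' (le_of_mem_XL Q hQ hn huv hs hs1 ht)

/-- composition of the line maps -/
theorem lam_mul [Fintype F] (θ₁ θ₂ : MulAut (Cfsg.POmega F ⇑Q)) {L : Submodule F (ι → F)}
    (hL : IsLine Q L) :
    lam Q hQ hn (θ₂ * θ₁) L = lam Q hQ hn θ₂ (lam Q hQ hn θ₁ L) := by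
  have h1 := lam_isLine Q hQ hn θ₁ hL
  have h2 := lam_isLine Q hQ hn θ₂ h1
  have h3 := lam_isLine Q hQ hn (θ₂ * θ₁) hL
  apply Xb_injective Q hQ hn h3 h2
  rw [← lam_spec Q hQ hn θ₂ h1, ← lam_spec Q hQ hn θ₁ hL, ← lam_spec Q hQ hn (θ₂ * θ₁) hL,
    Subgroup.map_map]
  rfl

end

section

open Matrix QuadraticMap Module
open scoped commutatorElement
open Cfsg.Agent.Lib.H11.ConfOrth

variable {F : Type*} [Field F] {ι : Type} [Fintype ι] [DecidableEq ι]

/-- the image of a subspace under the semilinear map attached to `(g, σ)` -/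
def simg (g : GL ι F) (σ : F ≃+* F) (L : Submodule F (ι → F)) : Submodule F (ι → F) where
  carrier := {x | ∃ w ∈ L, sact g σ w = x}
  add_mem' := by
    rintro _ _ ⟨a, ha, rfl⟩ ⟨b, hb, rfl⟩
    exact ⟨a + b, L.add_mem ha hb, sact_add g σ a b⟩
  zero_mem' := ⟨0, L.zero_mem, by
    have := sact_smul g σ 0 0
    rw [zero_smul, map_zero, zero_smul] at this
    exact this⟩
  smul_mem' := by
    rintro c _ ⟨a, ha, rfl⟩
    exact ⟨σ.symm c • a, L.smul_mem _ ha, by rw [sact_smul, RingEquiv.apply_symm_apply]⟩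

variable (g : GL ι F) (σ : F ≃+* F)

theorem mem_simg {L : Submodule F (ι → F)} {x : ι → F} :
    x ∈ simg g σ L ↔ ∃ w ∈ L, sact g σ w = x := Iff.rfl

theorem sact_zero : sact g σ (0 : ι → F) = 0 := by
  have := sact_smul g σ 0 (0 : ι → F)
  rw [zero_smul, map_zero, zero_smul] at this
  exact this

theorem sact_injective : Function.Injective (sact g σ : (ι → F) → ι → F) := by
  intro a b hab
  unfold sact at hab
  have h1 := congrArg (fun z => ((g⁻¹ : GL ι F) : Matrix ι ι F) *ᵥ z) hab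
  simp only [inv_mulVec_mulVec] at h1
  have h2 := congrArg (vmap σ.symm) h1
  rwa [vmap_symm_vmap, vmap_symm_vmap] at h2

theorem sact_sub (a b : ι → F) : sact g σ (a - b) = sact g σ a - sact g σ b := by
  have := sact_add g σ (a - b) b
  rw [sub_add_cancel] at this
  rw [this, add_sub_cancel_right]

theorem sact_mem_simg_iff {L : Submodule F (ι → F)} {w : ι → F} :
    sact g σ w ∈ simg g σ L ↔ w ∈ L := by
  constructor
  · rintro ⟨w', hw', h⟩
    rwa [← sact_injective g σ h]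
  · intro h
    exact ⟨w, h, rfl⟩

theorem simg_mono {L M : Submodule F (ι → F)} : simg g σ L ≤ simg g σ M ↔ L ≤ M := by
  constructor
  · intro h w hw
    exact (sact_mem_simg_iff g σ).1 (h ((sact_mem_simg_iff g σ).2 hw))
  · rintro h _ ⟨w, hw, rfl⟩
    exact ⟨w, h hw, rfl⟩

theorem simg_span_pair (u v : ι → F) :
    simg g σ (Submodule.span F {u, v}) = Submodule.span F {sact g σ u, sact g σ v} := by
  apply le_antisymm
  · rintro _ ⟨w, hw, rfl⟩
    obtain ⟨a, b, rfl⟩ := Submodule.mem_span_pair.1 hw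
    rw [sact_add, sact_smul, sact_smul]
    exact Submodule.mem_span_pair.2 ⟨σ a, σ b, rfl⟩
  · rw [Submodule.span_le]
    rintro w (rfl | rfl)
    · exact ⟨u, Submodule.subset_span (by simp), rfl⟩
    · exact ⟨v, Submodule.subset_span (by simp), rfl⟩

theorem simg_refl (L : Submodule F (ι → F)) :
    simg g (RingEquiv.refl F) L = L.map (Matrix.mulVecLin (g : Matrix ι ι F)) := by
  ext x
  rw [Submodule.mem_map]
  rfl

variable (Q : QuadraticForm F (ι → F))

set_option quotPrecheck false in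
local notation "B" => QuadraticMap.polar (⇑Q)

variable {g σ}

theorem B_sact {c : F} (hc : ∀ v, Q (sact g σ v) = c * σ (Q v)) (a b : ι → F) :
    B (sact g σ a) (sact g σ b) = c * σ (B a b) := by
  unfold QuadraticMap.polar
  rw [← sact_add, hc, hc, hc, map_sub, map_sub]
  ring

theorem tspair_sact (hp : Cfsg.IsSemisimilarityPair ⇑Q g σ) {u v : ι → F} (h : TSPair Q u v) :
    TSPair Q (sact g σ u) (sact g σ v) := by
  obtain ⟨c, hc⟩ := (pair_iff ⇑Q g σ).1 hp
  refine ⟨by rw [hc, h.1, map_zero, mul_zero], by rw [hc, h.2.1, map_zero, mul_zero],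
    by rw [B_sact Q hc, h.2.2.1, map_zero, mul_zero], ?_⟩
  have hli := h.2.2.2
  rw [LinearIndependent.pair_iff] at hli ⊢
  intro s t hst
  have h1 : sact g σ (σ.symm s • u + σ.symm t • v) = sact g σ 0 := by
    rw [sact_add, sact_smul, sact_smul, RingEquiv.apply_symm_apply, RingEquiv.apply_symm_apply,
      hst, sact_zero]
  have h2 := hli _ _ (sact_injective g σ h1)
  exact ⟨by simpa using h2.1, by simpa using h2.2⟩

theorem isLine_simg (hp : Cfsg.IsSemisimilarityPair ⇑Q g σ) {L : Submodule F (ι → F)}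
    (hL : IsLine Q L) : IsLine Q (simg g σ L) := by
  obtain ⟨u, v, huv, rfl⟩ := hL
  exact ⟨_, _, tspair_sact Q hp huv, simg_span_pair g σ u v⟩

variable [Fintype F]

theorem sv_semiOmega (hp : Cfsg.IsSemisimilarityPair ⇑Q g σ) (s : ↥(Cfsg.Omega F ⇑Q))
    (w : ι → F) : sv (semiOmega ⇑Q g σ hp s) (sact g σ w) = sact g σ (sv s w) :=
  conj_sact g s.1.1 σ w

theorem semiOmega_mem_XL (hp : Cfsg.IsSemisimilarityPair ⇑Q g σ) {L : Submodule F (ι → F)}
    {s : ↥(Cfsg.Omega F ⇑Q)} (hs : s ∈ XL Q L) :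
    semiOmega ⇑Q g σ hp s ∈ XL Q (simg g σ L) := by
  obtain ⟨c, hc⟩ := (pair_iff ⇑Q g σ).1 hp
  have hsurj : ∀ x : ι → F, ∃ w, sact g σ w = x := fun x => ⟨_, sact_surj g σ x⟩
  refine ⟨?_, ?_, ?_⟩
  · intro x
    obtain ⟨w, rfl⟩ := hsurj x
    rw [sv_semiOmega, ← sact_sub]
    exact ⟨_, hs.1 w, rfl⟩
  · intro x hx
    obtain ⟨w, rfl⟩ := hsurj x
    rw [sv_semiOmega]
    congr 1
    apply hs.2.1
    rw [mem_perp] at hx ⊢
    intro l hl
    have := hx (sact g σ l) ⟨l, hl, rfl⟩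
    rw [B_sact Q hc] at this
    have h2 := (mul_eq_zero.1 this).resolve_left c.ne_zero
    exact (map_eq_zero σ).1 h2
  · rintro _ ⟨w, hw, rfl⟩
    rw [sv_semiOmega, hs.2.2 w hw]

variable (hQ : (polarBilin Q).Nondegenerate) (hn : 5 ≤ Fintype.card ι)
include hQ hn

/-- the line map of a semilinear automorphism is the semilinear image -/
theorem lam_semiAut (hp : Cfsg.IsSemisimilarityPair ⇑Q g σ) {L : Submodule F (ι → F)}
    (hL : IsLine Q L) : lam Q hQ hn (semiAut ⇑Q g σ hp) L = simg g σ L := by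
  have h1 := lam_spec Q hQ hn (semiAut ⇑Q g σ hp) hL
  apply Xb_eq_of_le Q hQ hn (lam_isLine Q hQ hn _ hL) (isLine_simg Q hp hL)
  rw [← h1]
  rintro _ ⟨x, hx, rfl⟩
  obtain ⟨s, hs, rfl⟩ := hx
  show semiAut ⇑Q g σ hp (pr Q s) ∈ _
  have : semiAut ⇑Q g σ hp (pr Q s) = pr Q (semiOmega ⇑Q g σ hp s) := semiAut_mk ⇑Q g σ hp s
  rw [this]
  exact Subgroup.mem_map_of_mem _ (semiOmega_mem_XL Q hp hs)

omit hQ hn in
theorem pair_of_Omega (s : ↥(Cfsg.Omega F ⇑Q)) :
    Cfsg.IsSemisimilarityPair ⇑Q s.1.1 (RingEquiv.refl F) :=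
  ⟨1, fun v => by
    have := Q_sv s v
    rw [Units.val_one, one_mul]
    exact this⟩

omit hQ hn in
theorem conj_eq_semiAut (s : ↥(Cfsg.Omega F ⇑Q)) :
    MulAut.conj (pr Q s) = semiAut ⇑Q s.1.1 (RingEquiv.refl F) (pair_of_Omega Q s) := by
  apply MulEquiv.ext
  intro x
  obtain ⟨t, rfl⟩ := pr_surjective Q x
  have : semiAut ⇑Q s.1.1 (RingEquiv.refl F) (pair_of_Omega Q s) (pr Q t) =
    pr Q (semiOmega ⇑Q s.1.1 (RingEquiv.refl F) (pair_of_Omega Q s) t) := semiAut_mk ⇑Q _ _ _ t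
  rw [this, MulAut.conj_apply, ← map_inv, ← map_mul, ← map_mul]
  congr 1

/-- the line map of an inner automorphism -/
theorem lam_conj (s : ↥(Cfsg.Omega F ⇑Q)) {L : Submodule F (ι → F)} (hL : IsLine Q L) :
    lam Q hQ hn (MulAut.conj (pr Q s)) L = simg s.1.1 (RingEquiv.refl F) L := by
  rw [conj_eq_semiAut]
  exact lam_semiAut Q hQ hn _ hL

omit hQ hn in
theorem sv_mem_simg_iff (s : ↥(Cfsg.Omega F ⇑Q)) {L : Submodule F (ι → F)} {w : ι → F} :
    sv s w ∈ simg s.1.1 (RingEquiv.refl F) L ↔ w ∈ L :=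
  sact_mem_simg_iff s.1.1 (RingEquiv.refl F)

end

end

section

section

open Matrix QuadraticMap Module
open scoped commutatorElement
open Cfsg.Agent.Lib.H11.ConfOrth

variable {F : Type*} [Field F] [Fintype F] {ι : Type} [Fintype ι] [DecidableEq ι]
variable (Q : QuadraticForm F (ι → F))

set_option quotPrecheck false in
local notation "B" => QuadraticMap.polar (⇑Q)

variable (hQ : (polarBilin Q).Nondegenerate) (hn : 5 ≤ Fintype.card ι)

/-- the lines through the singular point `x` are mapped to the lines through `x'` -/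
def PointAt (θ : MulAut (Cfsg.POmega F ⇑Q)) (x x' : ι → F) : Prop :=
  x ≠ 0 ∧ Q x = 0 ∧ x' ≠ 0 ∧ Q x' = 0 ∧ ∀ K, IsLine Q K → (x ∈ K ↔ x' ∈ lam Q hQ hn θ K)

include hQ hn

theorem PointAt.symm {θ : MulAut (Cfsg.POmega F ⇑Q)} {x x' : ι → F}
    (h : PointAt Q hQ hn θ x x') : PointAt Q hQ hn θ⁻¹ x' x := by
  obtain ⟨h1, h2, h3, h4, h5⟩ := h
  refine ⟨h3, h4, h1, h2, fun K hK => ?_⟩
  have hK' : IsLine Q (lam Q hQ hn θ⁻¹ K) := lam_isLine Q hQ hn θ⁻¹ hK
  have := h5 _ hK'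
  have e : lam Q hQ hn θ (lam Q hQ hn θ⁻¹ K) = K := lam_lam_symm Q hQ hn θ hK
  rw [e] at this
  exact this.symm

/-- transport of the point correspondence by elements of `Ω` -/
theorem PointAt.all {θ : MulAut (Cfsg.POmega F ⇑Q)} {x x' : ι → F}
    (h : PointAt Q hQ hn θ x x') {p : ι → F} (hp0 : p ≠ 0) (hp : Q p = 0) :
    ∃ p', PointAt Q hQ hn θ p p' := by
  obtain ⟨h1, h2, h3, h4, h5⟩ := h
  obtain ⟨s, hs⟩ := exists_Omega_sing Q hQ hn hp0 h1 hp h2
  obtain ⟨s', hs'⟩ := pr_surjective Q (θ (pr Q s))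
  have hcomm : θ * MulAut.conj (pr Q s) = MulAut.conj (pr Q s') * θ := by
    apply MulEquiv.ext
    intro y
    simp only [MulAut.mul_apply, MulAut.conj_apply, map_mul, map_inv, hs']
  refine ⟨sv s'⁻¹ x', hp0, hp, ?_, by rw [Q_sv, h4], fun K hK => ?_⟩
  · intro h0
    exact h3 ((sv_eq_zero_iff _).1 h0)
  have hK1 : IsLine Q (lam Q hQ hn (MulAut.conj (pr Q s)) K) := lam_isLine Q hQ hn _ hK
  have hK2 : IsLine Q (lam Q hQ hn θ K) := lam_isLine Q hQ hn θ hK
  have e1 := lam_mul Q hQ hn (MulAut.conj (pr Q s)) θ hK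
  have e2 := lam_mul Q hQ hn θ (MulAut.conj (pr Q s')) hK
  rw [hcomm] at e1
  rw [e2, lam_conj Q hQ hn s' hK2] at e1
  have e3 := h5 _ hK1
  rw [← e1, lam_conj Q hQ hn s hK, ← hs, sv_mem_simg_iff] at e3
  rw [e3]
  conv_lhs => rw [← sv_sv_inv s' x']
  exact sv_mem_simg_iff Q s'

/-- point-type automorphisms preserve incidence of lines -/
theorem meetPres_of_pointAt {θ : MulAut (Cfsg.POmega F ⇑Q)} {x x' : ι → F}
    (h : PointAt Q hQ hn θ x x') : MeetPres Q hQ hn θ := by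
  have key : ∀ {θ : MulAut (Cfsg.POmega F ⇑Q)} {x x' : ι → F}, PointAt Q hQ hn θ x x' →
      ∀ L M, IsLine Q L → IsLine Q M → LMeet L M →
        LMeet (lam Q hQ hn θ L) (lam Q hQ hn θ M) := by
    intro θ x x' h L M hL hM hLM
    obtain ⟨p, hp0, hpL, hpM⟩ := lmeet_iff.1 hLM
    obtain ⟨p', -, -, hp'0, -, hp'⟩ := h.all Q hQ hn hp0 (hL.sing hpL)
    exact lmeet_iff.2 ⟨p', hp'0, (hp' L hL).1 hpL, (hp' M hM).1 hpM⟩
  intro L M hL hM
  constructor
  · intro hm
    have := key (h.symm Q hQ hn) _ _ (lam_isLine Q hQ hn θ hL) (lam_isLine Q hQ hn θ hM) hm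
    have e1 : lam Q hQ hn θ⁻¹ (lam Q hQ hn θ L) = L := lam_symm_lam Q hQ hn θ hL
    have e2 : lam Q hQ hn θ⁻¹ (lam Q hQ hn θ M) = M := lam_symm_lam Q hQ hn θ hM
    rwa [e1, e2] at this
  · exact key h L M hL hM

/-- point-type automorphisms are induced by semilinear maps -/
theorem mem_gamma_of_pointAt (hn7 : 7 ≤ Fintype.card ι) {θ : MulAut (Cfsg.POmega F ⇑Q)}
    {x x' : ι → F} (h : PointAt Q hQ hn θ x x') : θ ∈ Cfsg.gammaPOmega F ⇑Q := by
  obtain ⟨g, σ, hp, hind⟩ := aut_inducedP Q hQ hn hn7 θ (meetPres_of_pointAt Q hQ hn h)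
  unfold Cfsg.gammaPOmega Cfsg.autSubgroupOf
  exact Subgroup.subset_closure ⟨g, σ, hp, hind⟩

/-- the lines through the singular point `x` are mapped to the lines of the solid `S` -/
def SolidAt (θ : MulAut (Cfsg.POmega F ⇑Q)) (x : ι → F) (S : Submodule F (ι → F)) : Prop :=
  finrank F ↥S = 4 ∧ (∀ s ∈ S, Q s = 0) ∧ ∀ K, IsLine Q K → (x ∈ K ↔ lam Q hQ hn θ K ≤ S)

/-- the dichotomy: an automorphism of `PΩ₈⁺` maps the lines through a point to the lines
through a point or to the lines of a solid -/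
theorem point_or_solid (hn7 : 7 ≤ Fintype.card ι) (h8 : Fintype.card ι = 8) {x y z : ι → F}
    (hy : TSPair Q x y) (hz : TSPair Q x z) (hyz : B y z ≠ 0) (θ : MulAut (Cfsg.POmega F ⇑Q)) :
    (∃ x', PointAt Q hQ hn θ x x') ∨ ∃ S, SolidAt Q hQ hn θ x S := by
  have hx0 : x ≠ 0 := hy.ne_zero_left
  set L := Submodule.span F {x, y} with hLdef
  set M := Submodule.span F {x, z} with hMdef
  have hL : IsLine Q L := ⟨x, y, hy, rfl⟩
  have hM : IsLine Q M := ⟨x, z, hz, rfl⟩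
  have hxL : x ∈ L := Submodule.subset_span (by simp)
  have hxM : x ∈ M := Submodule.subset_span (by simp)
  have hperp : ¬LPerp Q L M := fun h => hyz (B_zero_of_lperp Q h)
  have hmeet : LMeet L M := lmeet_iff.2 ⟨x, hx0, hxL, hxM⟩
  have hcom : GCom Q L M := (gcom_iff Q hQ hn hL hM).2 (Or.inr hmeet)
  have hadj : ¬GAdj Q L M := fun h => hperp ((gadj_iff Q hQ hn hn7 hL hM).1 h).2.1
  have hne : L ≠ M := by
    intro h
    apply hperp
    rw [h]
    exact hM.le_perp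
  set L' := lam Q hQ hn θ L with hL'def
  set M' := lam Q hQ hn θ M with hM'def
  have hL' : IsLine Q L' := lam_isLine Q hQ hn θ hL
  have hM' : IsLine Q M' := lam_isLine Q hQ hn θ hM
  have hcom' : GCom Q L' M' := (gcom_lam_iff Q hQ hn θ hL hM).2 hcom
  have hadj' : ¬GAdj Q L' M' := fun h => hadj ((gadj_lam_iff Q hQ hn θ hL hM).1 h)
  have hne' : L' ≠ M' := fun h => hne (lam_injective Q hQ hn θ hL hM h)
  have hsymp : ∀ K, IsLine Q K → (x ∈ K ↔ lam Q hQ hn θ K ∈ Symp Q L' M') := by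
    intro K hK
    rw [symp_lam Q hQ hn θ hK hL hM, symp_point Q hQ hn hn7 hy hz hyz hK]
  by_cases hm' : LMeet L' M'
  · left
    have hperp' : ¬LPerp Q L' M' := fun h =>
      hadj' ((gadj_iff Q hQ hn hn7 hL' hM').2 ⟨hne', h, hm'⟩)
    obtain ⟨x', hx'0, hx'L, hx'M⟩ := lmeet_iff.1 hm'
    obtain ⟨y', hy', hLy'⟩ := hL'.exists_basis hx'L hx'0
    obtain ⟨z', hz', hMz'⟩ := hM'.exists_basis hx'M hx'0
    have hyz' : B y' z' ≠ 0 := by
      intro h0
      apply hperp'
      rw [hLy', hMz']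
      exact lperp_of_B_zero Q hy' hz' h0
    refine ⟨x', hx0, hy.1, hx'0, hy'.1, fun K hK => ?_⟩
    rw [hsymp K hK, hLy', hMz',
      symp_point Q hQ hn hn7 hy' hz' hyz' (lam_isLine Q hQ hn θ hK)]
  · right
    have hbot : L' ⊓ M' = ⊥ := by
      by_contra h
      exact hm' h
    have hperp' : LPerp Q L' M' := ((gcom_iff Q hQ hn hL' hM').1 hcom').resolve_right hm'
    refine ⟨L' ⊔ M', ?_, ?_, fun K hK => ?_⟩
    · have h2 := Submodule.finrank_sup_add_finrank_inf_eq L' M'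
      rw [hbot, finrank_bot, hL'.finrank, hM'.finrank] at h2
      omega
    · intro s hs
      obtain ⟨a, ha, b, hb, rfl⟩ := Submodule.mem_sup.1 hs
      have hab : B a b = 0 := by
        have := hperp' ha
        rw [mem_perp] at this
        rw [B_comm]
        exact this b hb
      rw [Q_add, hL'.sing ha, hM'.sing hb, hab]
      ring
    · rw [hsymp K hK,
        symp_solid Q hQ hn hn7 h8 hL' hM' hperp' hbot (lam_isLine Q hQ hn θ hK)]

end

end

section

section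

open Matrix QuadraticMap Module
open Cfsg.Agent.Lib.H11.ConfOrth

variable {F : Type*} [Field F] [Fintype F] {ι : Type} [Fintype ι] [DecidableEq ι]
variable (Q : QuadraticForm F (ι → F))

variable (hQ : (polarBilin Q).Nondegenerate) (hcard : 7 ≤ Fintype.card ι)

/-- every element of `Γ` has the form `semiAut g σ` -/
theorem exists_formG (β : ↥(Cfsg.gammaPOmega F ⇑Q)) :
    ∃ (g : GL ι F) (σ : F ≃+* F) (hp : Cfsg.IsSemisimilarityPair ⇑Q g σ),
      (β : MulAut (Cfsg.POmega F ⇑Q)) = semiAut ⇑Q g σ hp :=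
  (mem_gamma_iff ⇑Q β.1).1 β.2

theorem semiAut_mem (g : GL ι F) (σ : F ≃+* F) (hp : Cfsg.IsSemisimilarityPair ⇑Q g σ) :
    semiAut ⇑Q g σ hp ∈ Cfsg.gammaPOmega F ⇑Q :=
  (mem_gamma_iff ⇑Q _).2 ⟨g, σ, hp, rfl⟩

include hQ hcard in
/-- the field automorphism of `semiAut g σ` is unique -/
theorem uniq_sigmaG {g g' : GL ι F} {σ σ' : F ≃+* F} (hp : Cfsg.IsSemisimilarityPair ⇑Q g σ)
    (hp' : Cfsg.IsSemisimilarityPair ⇑Q g' σ')
    (h : semiAut ⇑Q g σ hp = semiAut ⇑Q g' σ' hp') : σ = σ' := by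
  obtain ⟨k, τ, hk, hinv⟩ := (mem_gamma_iff ⇑Q (semiAut ⇑Q g σ hp)⁻¹).1
    ((Cfsg.gammaPOmega F ⇑Q).inv_mem (semiAut_mem Q g σ hp))
  have e1 : semiAut ⇑Q k τ hk * semiAut ⇑Q g σ hp = 1 := by rw [← hinv]; group
  have e2 : semiAut ⇑Q k τ hk * semiAut ⇑Q g' σ' hp' = 1 := by rw [← h]; exact e1
  rw [semiAut_mul] at e1 e2
  have s1 := (semi_ker_all Q hQ hcard _ _ _ e1).1
  have s2 := (semi_ker_all Q hQ hcard _ _ _ e2).1
  ext x
  have t1 := RingEquiv.congr_fun s1 x
  have t2 := RingEquiv.congr_fun s2 x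
  simp only [RingEquiv.trans_apply, RingEquiv.refl_apply] at t1 t2
  exact τ.injective (t1.trans t2.symm)

/-- the field automorphism component -/
noncomputable def psiGFun (β : ↥(Cfsg.gammaPOmega F ⇑Q)) : F ≃+* F :=
  (exists_formG Q β).choose_spec.choose

include hQ hcard in
theorem psiGFun_eq {β : ↥(Cfsg.gammaPOmega F ⇑Q)} {g : GL ι F} {σ : F ≃+* F}
    (hp : Cfsg.IsSemisimilarityPair ⇑Q g σ)
    (h : (β : MulAut (Cfsg.POmega F ⇑Q)) = semiAut ⇑Q g σ hp) :
    psiGFun Q β = σ := by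
  obtain ⟨hp', h1⟩ := (exists_formG Q β).choose_spec.choose_spec
  unfold psiGFun
  exact uniq_sigmaG Q hQ hcard hp' hp (h1.symm.trans h)

/-- the homomorphism `Γ → Aut(F)` -/
noncomputable def psiG : ↥(Cfsg.gammaPOmega F ⇑Q) →* (F ≃+* F) where
  toFun := psiGFun Q
  map_one' := by
    have h1 : ((1 : ↥(Cfsg.gammaPOmega F ⇑Q)) : MulAut (Cfsg.POmega F ⇑Q)) =
        semiAut ⇑Q (1 : ↥(Sim ⇑Q)).1 (RingEquiv.refl F) (pair_refl_of_sim ⇑Q 1) := by
      rw [semiAut_refl, map_one]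
      rfl
    rw [psiGFun_eq Q hQ hcard _ h1]
    rfl
  map_mul' β β' := by
    obtain ⟨g, σ, hp, h⟩ := exists_formG Q β
    obtain ⟨g', σ', hp', h'⟩ := exists_formG Q β'
    rw [psiGFun_eq Q hQ hcard hp h, psiGFun_eq Q hQ hcard hp' h']
    have h3 : ((β * β' : ↥(Cfsg.gammaPOmega F ⇑Q)) : MulAut (Cfsg.POmega F ⇑Q)) =
        semiAut ⇑Q (g * glmap σ g') (σ'.trans σ) (pair_mul ⇑Q hp hp') := by
      rw [Subgroup.coe_mul, h, h', semiAut_mul]
    rw [psiGFun_eq Q hQ hcard _ h3]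
    rfl

theorem psiG_apply {g : GL ι F} {σ : F ≃+* F} (hp : Cfsg.IsSemisimilarityPair ⇑Q g σ) :
    psiG Q hQ hcard ⟨semiAut ⇑Q g σ hp, semiAut_mem Q g σ hp⟩ = σ :=
  psiGFun_eq Q hQ hcard hp rfl

theorem range_Phi_le : (Phi ⇑Q).range ≤ Cfsg.gammaPOmega F ⇑Q := by
  rintro _ ⟨g, rfl⟩
  rw [← semiAut_refl]
  exact semiAut_mem Q _ _ _

theorem psiG_ker :
    (psiG Q hQ hcard).ker = ((Phi ⇑Q).range).subgroupOf (Cfsg.gammaPOmega F ⇑Q) := by
  ext β
  rw [MonoidHom.mem_ker, Subgroup.mem_subgroupOf, MonoidHom.mem_range]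
  obtain ⟨g, σ, hp, hβ⟩ := exists_formG Q β
  have e : psiG Q hQ hcard β = σ := psiGFun_eq Q hQ hcard hp hβ
  constructor
  · intro h
    rw [e] at h
    subst h
    refine ⟨⟨g, sim_of_pair_refl ⇑Q hp⟩, ?_⟩
    rw [hβ, ← semiAut_refl]
    rfl
  · rintro ⟨k, hk⟩
    rw [← semiAut_refl] at hk
    exact psiGFun_eq Q hQ hcard _ hk.symm

theorem psiG_surjective (hex : ∀ σ : F ≃+* F, ∃ g : GL ι F, Cfsg.IsSemisimilarityPair ⇑Q g σ) :
    Function.Surjective (psiG Q hQ hcard) := by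
  intro σ
  obtain ⟨g, hg⟩ := hex σ
  exact ⟨⟨semiAut ⇑Q g σ hg, semiAut_mem Q g σ hg⟩, psiG_apply Q hQ hcard _⟩

include hQ hcard in
/-- the order of `Γ` -/
theorem card_gamma (hex : ∀ σ : F ≃+* F, ∃ g : GL ι F, Cfsg.IsSemisimilarityPair ⇑Q g σ)
    {p f : ℕ} [Fact p.Prime] [CharP F p] (hF : Fintype.card F = p ^ f) :
    Nat.card ↥(Cfsg.gammaPOmega F ⇑Q) = f * Nat.card ↥(Phi ⇑Q).range := by
  rw [AutPSL.card_of_surjective_ker _ (psiG_surjective Q hQ hcard hex), psiG_ker,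
    AutPSL.card_ringAut p hF,
    Nat.card_congr (Subgroup.subgroupOfEquivOfLe (range_Phi_le Q)).toEquiv]

end

end

end Cfsg.Agent.Lib.H13.AutPO
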