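import Mathlib
import Cfsg.Agent.Lib.H13.Tri3
import Cfsg.Agent.Lib.H13.Tri5
import Cfsg.Agent.Lib.H11.OmPar1

/-!
Triality, part 6 (helper13): the two families of solids (maximal totally singular subspaces) of the hyperbolic form of
rank four and the subgroup of index two of `O⁺₈` preserving them (`exists_H`), solid-type automorphisms, `[Aut(PΩ⁺₈(q)) : Γ] = 3`
(`card_A8`), and the order of `Aut(PΩ⁺_{2m}(q))` for `m ≥ 4` (`card_aut_plus`).
-/

set_option autoImplicit false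
set_option linter.unusedSectionVars false
set_option linter.unusedVariables false
set_option linter.unusedSimpArgs false
set_option linter.deprecated false

namespace Cfsg.Agent.Lib.H13.Tri

section

open Matrix QuadraticMap Module
open Cfsg.Agent.Lib.H13 Cfsg.Agent.Lib.H13.AutPO Cfsg.Agent.Lib.H13.HypPairs
open Cfsg.Agent.Lib.H11.ConfOrth
open scoped commutatorElement

variable {F : Type*} [Field F]

set_option quotPrecheck false in
local notation "B8" => QuadraticMap.polar (⇑(Q8 F))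

/-- maximal totally singular subspaces -/
def IsSolid (S : Submodule F (I8 → F)) : Prop := finrank F ↥S = 4 ∧ ∀ s ∈ S, Q8 F s = 0

/-- the image of a subspace under an isometry -/
abbrev gmap (g : O8 F) (S : Submodule F (I8 → F)) : Submodule F (I8 → F) :=
  S.map (Matrix.mulVecLin ((g : GL I8 F) : Matrix I8 I8 F))

/-- two solids belong to the same family -/
def SRel (S S' : Submodule F (I8 → F)) : Prop := Even (4 - finrank F ↥(S ⊓ S'))

theorem gmap_mul (a b : O8 F) (S : Submodule F (I8 → F)) : gmap (a * b) S = gmap a (gmap b S) :=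
  PlusSplit.map_mul' _ S a b

theorem gmap_one (S : Submodule F (I8 → F)) : gmap (1 : O8 F) S = S := PlusSplit.map_one' _ S

theorem mem_gmap {g : O8 F} {S : Submodule F (I8 → F)} {x : I8 → F} :
    x ∈ gmap g S ↔ ∃ w ∈ S, ov g w = x := by
  unfold gmap
  rw [Submodule.mem_map]
  rfl

theorem IsSolid.gmap {S : Submodule F (I8 → F)} (hS : IsSolid S) (g : O8 F) :
    IsSolid (gmap g S) := by
  refine ⟨by rw [PlusSplit.finrank_map']; exact hS.1, ?_⟩
  intro x hx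
  obtain ⟨w, hw, rfl⟩ := mem_gmap.1 hx
  rw [Q8_apply, oN_ov, ← Q8_apply]
  exact hS.2 w hw

theorem IsSolid.polar_eq_zero {S : Submodule F (I8 → F)} (hS : IsSolid S) {a b : I8 → F}
    (ha : a ∈ S) (hb : b ∈ S) : B8 a b = 0 := by
  unfold QuadraticMap.polar
  rw [hS.2 _ (S.add_mem ha hb), hS.2 _ ha, hS.2 _ hb]
  ring

theorem IsSolid.perp_eq {S : Submodule F (I8 → F)} (hS : IsSolid S) : perp (Q8 F) S = S := by
  symm
  apply Submodule.eq_of_le_of_finrank_eq
  · intro x hx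
    rw [mem_perp]
    intro w hw
    exact hS.polar_eq_zero hw hx
  · rw [finrank_perp hQ8, hS.1, card_I8]

theorem srel_gmap {S S' : Submodule F (I8 → F)} (a : O8 F) :
    SRel (gmap a S) (gmap a S') ↔ SRel S S' := by
  unfold SRel
  rw [← Submodule.map_inf _ (PlusSplit.mulVecLin_injective _ a), PlusSplit.finrank_map']

variable [Fintype F]

/-- the subgroup of index two preserving the two families of solids -/
theorem exists_H : ∃ H : Subgroup (O8 F), H.index = 2 ∧ Cfsg.Omega F ⇑(Q8 F) ≤ H ∧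
    ∀ W : Submodule F (I8 → F), IsSolid W → ∀ g : O8 F, SRel W (gmap g W) ↔ g ∈ H := by
  by_cases h2 : (2 : F) = 0
  · haveI : CharP F 2 := CharTwo.of_one_ne_zero_of_two_eq_zero one_ne_zero h2
    refine ⟨Cfsg.Omega F ⇑(Q8 F), ?_, le_refl _, ?_⟩
    · haveI : Nonempty I8 := ⟨Sum.inl 0⟩
      exact Char2Omega.index_Omega (Q8 F) hQ8 (Or.inr (by rw [card_I8]; norm_num))
    · intro W hW g
      exact PlusSplit.even_iff_mem_Omega_ts (m := 4) (Or.inr (by norm_num)) W hW.1 hW.2 g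
  · let ψ : O8 F →* Fˣ := (Matrix.GeneralLinearGroup.det).comp (Cfsg.isometryGroup F _).subtype
    have hψ : ∀ g : O8 F, g ∈ ψ.ker ↔ ((g : GL I8 F) : Matrix I8 I8 F).det = 1 := by
      intro g
      rw [MonoidHom.mem_ker]
      constructor
      · intro h
        have := congrArg Units.val h
        simpa [ψ] using this
      · intro h
        apply Units.ext
        simpa [ψ] using h
    have hne : (-1 : F) ≠ 1 := by
      intro h
      apply h2
      linear_combination -h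
    refine ⟨ψ.ker, ?_, ?_, ?_⟩
    · obtain ⟨u, hu⟩ : ∃ u : I8 → F, Q8 F u ≠ 0 := by
        haveI : Nonempty I8 := ⟨Sum.inl 0⟩
        exact Char2Omega.exists_Q_ne_zero' (Q8 F) hQ8
      rw [Subgroup.index_eq_two_iff]
      refine ⟨reflG (Q8 F) u hu, fun b => ?_⟩
      have hdr : (((reflG (Q8 F) u hu : O8 F) : GL I8 F) : Matrix I8 I8 F).det = -1 := by
        rw [reflG_val]
        exact PlusTS.det_reflectionMatrix (Q8 F) u hu
      have hdb : ((b : GL I8 F) : Matrix I8 I8 F).det = 1 ∨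
          ((b : GL I8 F) : Matrix I8 I8 F).det = -1 := by
        have key := PlusTS.det_eq_pow (F := F) (m := 4)
        rw [← Cfsg.Agent.S0287.coe_plusQF] at key
        rw [key b]
        exact neg_one_pow_eq_or F _
      have hmul : (((b * reflG (Q8 F) u hu : O8 F) : GL I8 F) : Matrix I8 I8 F).det =
          ((b : GL I8 F) : Matrix I8 I8 F).det * (-1) := by
        rw [← hdr, ← Matrix.det_mul]
        rfl
      rw [hψ, hψ, hmul]
      rcases hdb with h | h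
      · rw [h]
        right
        exact ⟨rfl, by rw [one_mul]; exact hne⟩
      · rw [h]
        left
        exact ⟨by ring, hne⟩
    · intro g hg
      rw [hψ]
      exact Cfsg.Agent.Lib.H11.OmPar.det_eq_one_of_mem_comm _ g hg
    · intro W hW g
      rw [hψ]
      exact Cfsg.Agent.Lib.H11.OmPar.even_iff_det_ts (m := 4) h2 W hW.1 hW.2 g

end

section

open Matrix QuadraticMap Module
open Cfsg.Agent.Lib.H13 Cfsg.Agent.Lib.H13.AutPO Cfsg.Agent.Lib.H13.HypPairs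
open Cfsg.Agent.Lib.H11.ConfOrth
open scoped commutatorElement

variable {F : Type*} [Field F]

set_option quotPrecheck false in
local notation "B8" => QuadraticMap.polar (⇑(Q8 F))

theorem hn5 : 5 ≤ Fintype.card I8 := by rw [card_I8]; norm_num
theorem hn7 : 7 ≤ Fintype.card I8 := by rw [card_I8]; norm_num

/-- the base point and two non-perpendicular lines through it -/
def xP : I8 → F := mk8 1 0 0 0 0 0 0 0
def yP : I8 → F := mk8 0 1 0 0 0 0 0 0
def zP : I8 → F := mk8 0 0 0 0 0 1 0 0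

theorem ts_xy : TSPair (Q8 F) (xP : I8 → F) yP := by
  refine ⟨by rw [Q8_apply]; simp [xP, mk8, oN], by rw [Q8_apply]; simp [yP, mk8, oN],
    by rw [polar_Q8]; simp [xP, yP, mk8, oB], ?_⟩
  rw [LinearIndependent.pair_iff]
  intro s t hst
  have h1 := congrFun hst (Sum.inl 0)
  have h2 := congrFun hst (Sum.inl 1)
  simp [xP, yP, mk8] at h1 h2
  exact ⟨h1, h2⟩

theorem ts_xz : TSPair (Q8 F) (xP : I8 → F) zP := by
  refine ⟨by rw [Q8_apply]; simp [xP, mk8, oN], by rw [Q8_apply]; simp [zP, mk8, oN],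
    by rw [polar_Q8]; simp [xP, zP, mk8, oB], ?_⟩
  rw [LinearIndependent.pair_iff]
  intro s t hst
  have h1 := congrFun hst (Sum.inl 0)
  have h2 := congrFun hst (Sum.inr 1)
  simp [xP, zP, mk8] at h1 h2
  exact ⟨h1, h2⟩

theorem B_yz : B8 (yP : I8 → F) zP ≠ 0 := by
  rw [polar_Q8]
  simp [yP, zP, mk8, oB]

theorem xP_ne : (xP : I8 → F) ≠ 0 := ts_xy.ne_zero_left
theorem Q_xP : Q8 F (xP : I8 → F) = 0 := ts_xy.1

variable [Fintype F]

/-- the automorphism group and the subgroup induced by semilinear maps -/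
abbrev A8 (F : Type*) [Field F] [Fintype F] : Type _ := MulAut (Cfsg.POmega F ⇑(Q8 F))
noncomputable abbrev Γ8 (F : Type*) [Field F] [Fintype F] : Subgroup (A8 F) := Cfsg.gammaPOmega F ⇑(Q8 F)

/-- solid-type automorphisms at the base point -/
abbrev SolAt (θ : A8 F) (S : Submodule F (I8 → F)) : Prop := SolidAt (Q8 F) hQ8 hn5 θ xP S

theorem SolAt.isSolid {θ : A8 F} {S : Submodule F (I8 → F)} (h : SolAt θ S) : IsSolid S :=
  ⟨h.1, h.2.1⟩

/-- the dichotomy -/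
theorem gamma_or_solid (θ : A8 F) : θ ∈ Γ8 F ∨ ∃ S, SolAt θ S := by
  rcases point_or_solid (Q8 F) hQ8 hn5 hn7 card_I8 ts_xy ts_xz B_yz θ with ⟨x', h⟩ | h
  · exact Or.inl (mem_gamma_of_pointAt (Q8 F) hQ8 hn5 hn7 h)
  · exact Or.inr h

theorem pair_of_O (κ : O8 F) : Cfsg.IsSemisimilarityPair ⇑(Q8 F) κ.1 (RingEquiv.refl F) :=
  ⟨1, fun v => by
    have := (mem_iso_iff ⇑(Q8 F) κ.1).1 κ.2 v
    rw [Units.val_one, one_mul]
    exact this⟩

/-- conjugation by an isometry, as an automorphism of `PΩ` -/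
noncomputable def cO (κ : O8 F) : A8 F := semiAut ⇑(Q8 F) κ.1 (RingEquiv.refl F) (pair_of_O κ)

theorem cO_mem (κ : O8 F) : cO κ ∈ Γ8 F :=
  (mem_gamma_iff ⇑(Q8 F) _).2 ⟨_, _, _, rfl⟩

theorem lam_cO (κ : O8 F) {L : Submodule F (I8 → F)} (hL : IsLine (Q8 F) L) :
    lam (Q8 F) hQ8 hn5 (cO κ) L = gmap κ L := by
  unfold cO
  rw [lam_semiAut (Q8 F) hQ8 hn5 _ hL, simg_refl]

theorem conj_mem (x : Cfsg.POmega F ⇑(Q8 F)) : MulAut.conj x ∈ Γ8 F := by
  obtain ⟨s, rfl⟩ := pr_surjective (Q8 F) x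
  rw [conj_eq_semiAut]
  exact (mem_gamma_iff ⇑(Q8 F) _).2 ⟨_, _, _, rfl⟩

theorem gmap_le_iff (g : O8 F) {L M : Submodule F (I8 → F)} : gmap g L ≤ gmap g M ↔ L ≤ M := by
  have := simg_mono g.1 (RingEquiv.refl F) (L := L) (M := M)
  rwa [simg_refl, simg_refl] at this

/-- composing with an isometry moves the solid -/
theorem SolAt.cO_mul {θ : A8 F} {S : Submodule F (I8 → F)} (h : SolAt θ S) (κ : O8 F) :
    SolAt (cO κ * θ) (gmap κ S) := by
  refine ⟨(h.isSolid.gmap κ).1, (h.isSolid.gmap κ).2, fun K hK => ?_⟩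
  rw [lam_mul (Q8 F) hQ8 hn5 θ (cO κ) hK, lam_cO κ (lam_isLine (Q8 F) hQ8 hn5 θ hK), gmap_le_iff]
  exact h.2.2 K hK

/-- two solid-type automorphisms with the same solid differ by an element of `Γ` -/
theorem mem_gamma_of_same {θ₁ θ₂ : A8 F} {S : Submodule F (I8 → F)} (h₁ : SolAt θ₁ S)
    (h₂ : SolAt θ₂ S) : θ₂⁻¹ * θ₁ ∈ Γ8 F := by
  apply mem_gamma_of_pointAt (Q8 F) hQ8 hn5 hn7 (x := xP) (x' := xP)
  refine ⟨xP_ne, Q_xP, xP_ne, Q_xP, fun K hK => ?_⟩
  rw [lam_mul (Q8 F) hQ8 hn5 θ₁ θ₂⁻¹ hK]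
  have hK1 := lam_isLine (Q8 F) hQ8 hn5 θ₁ hK
  have hK2 := lam_isLine (Q8 F) hQ8 hn5 θ₂⁻¹ hK1
  rw [h₁.2.2 K hK, h₂.2.2 _ hK2]
  have e : lam (Q8 F) hQ8 hn5 θ₂ (lam (Q8 F) hQ8 hn5 θ₂⁻¹ (lam (Q8 F) hQ8 hn5 θ₁ K)) =
      lam (Q8 F) hQ8 hn5 θ₁ K := lam_lam_symm (Q8 F) hQ8 hn5 θ₂ hK1
  rw [e]

theorem om_eq_cO (s : Om8 F) : MulAut.conj (pr (Q8 F) s) = cO (s : O8 F) := conj_eq_semiAut (Q8 F) s

/-- every non-zero vector of a solid lies on a line of the solid -/
theorem IsSolid.exists_line {S : Submodule F (I8 → F)} (hS : IsSolid S) {s : I8 → F} (hs : s ∈ S)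
    (hs0 : s ≠ 0) : ∃ N, IsLine (Q8 F) N ∧ s ∈ N ∧ N ≤ S := by
  obtain ⟨s₂, hs₂, hns⟩ : ∃ s₂ ∈ S, s₂ ∉ Submodule.span F {s} := by
    by_contra hcon
    push Not at hcon
    have hle : S ≤ Submodule.span F {s} := fun w hw => hcon w hw
    have := Submodule.finrank_mono hle
    rw [hS.1, finrank_span_singleton hs0] at this
    omega
  refine ⟨Submodule.span F {s, s₂}, ⟨s, s₂, ⟨hS.2 s hs, hS.2 s₂ hs₂, hS.polar_eq_zero hs hs₂,
    li_pair_of_not_mem hs0 hns⟩, rfl⟩, Submodule.subset_span (by simp), ?_⟩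
  rw [Submodule.span_le]
  rintro w (rfl | rfl)
  · exact hs
  · exact hs₂

/-- the solid of a solid-type automorphism is unique -/
theorem SolAt.unique {θ : A8 F} {S S' : Submodule F (I8 → F)} (h : SolAt θ S) (h' : SolAt θ S') :
    S = S' := by
  have key : ∀ {S S' : Submodule F (I8 → F)}, SolAt θ S → SolAt θ S' → S ≤ S' := by
    intro S S' h h' s hs
    by_cases hs0 : s = 0
    · rw [hs0]; exact S'.zero_mem
    obtain ⟨N, hN, hsN, hNS⟩ := h.isSolid.exists_line hs hs0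
    have hK := lam_isLine (Q8 F) hQ8 hn5 θ⁻¹ hN
    have e : lam (Q8 F) hQ8 hn5 θ (lam (Q8 F) hQ8 hn5 θ⁻¹ N) = N := lam_lam_symm (Q8 F) hQ8 hn5 θ hN
    have h1 := (h.2.2 _ hK).2 (by rw [e]; exact hNS)
    have h2 := (h'.2.2 _ hK).1 h1
    rw [e] at h2
    exact h2 hsN
  exact le_antisymm (key h h') (key h' h)

/-- composing on the right with an element of `Γ` moves the solid by an element of `Ω` -/
theorem SolAt.mul_gamma {θ : A8 F} {S : Submodule F (I8 → F)} (h : SolAt θ S) {γ : A8 F}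
    (hγ : γ ∈ Γ8 F) : ∃ s' : Om8 F, SolAt (θ * γ) (gmap (s' : O8 F) S) := by
  obtain ⟨g, σ, hp, rfl⟩ := (mem_gamma_iff ⇑(Q8 F) γ).1 hγ
  have hts := tspair_sact (Q8 F) hp (ts_xy (F := F))
  obtain ⟨s, hs⟩ := exists_Omega_sing (Q8 F) hQ8 hn5 xP_ne hts.ne_zero_left Q_xP hts.1
  obtain ⟨s', hs'⟩ := pr_surjective (Q8 F) (θ (pr (Q8 F) s))
  have hcomm : θ * MulAut.conj (pr (Q8 F) s) = MulAut.conj (pr (Q8 F) s') * θ := by
    apply MulEquiv.ext
    intro y
    simp only [MulAut.mul_apply, MulAut.conj_apply, map_mul, map_inv, hs']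
  refine ⟨s', (h.isSolid.gmap _).1, (h.isSolid.gmap _).2, fun K hK => ?_⟩
  -- the line `K₁ = s⁻¹ ĝ K`
  have hK0 : IsLine (Q8 F) (simg g σ K) := isLine_simg (Q8 F) hp hK
  set K₁ := lam (Q8 F) hQ8 hn5 (MulAut.conj (pr (Q8 F) s))⁻¹ (simg g σ K) with hK₁
  have hK1 : IsLine (Q8 F) K₁ := lam_isLine (Q8 F) hQ8 hn5 _ hK0
  have e1 : lam (Q8 F) hQ8 hn5 (MulAut.conj (pr (Q8 F) s)) K₁ = simg g σ K :=
    lam_lam_symm (Q8 F) hQ8 hn5 (MulAut.conj (pr (Q8 F) s)) hK0
  have e2 : xP ∈ K ↔ xP ∈ K₁ := by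
    rw [← sact_mem_simg_iff g σ, ← hs, ← e1, lam_conj (Q8 F) hQ8 hn5 s hK1, sv_mem_simg_iff]
  have e3 : lam (Q8 F) hQ8 hn5 (θ * semiAut ⇑(Q8 F) g σ hp) K =
      gmap (s' : O8 F) (lam (Q8 F) hQ8 hn5 θ K₁) := by
    rw [lam_mul (Q8 F) hQ8 hn5 _ θ hK, lam_semiAut (Q8 F) hQ8 hn5 hp hK, ← e1,
      ← lam_mul (Q8 F) hQ8 hn5 _ θ hK1, hcomm, lam_mul (Q8 F) hQ8 hn5 θ _ hK1, om_eq_cO,
      lam_cO _ (lam_isLine (Q8 F) hQ8 hn5 θ hK1)]
  rw [e2, e3, gmap_le_iff]
  exact h.2.2 K₁ hK1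

end

section

open Matrix QuadraticMap Module
open Cfsg.Agent.Lib.H13 Cfsg.Agent.Lib.H13.AutPO Cfsg.Agent.Lib.H13.HypPairs
open Cfsg.Agent.Lib.H11.ConfOrth
open scoped commutatorElement

variable {F : Type*} [Field F]

set_option quotPrecheck false in
local notation "B8" => QuadraticMap.polar (⇑(Q8 F))

theorem SRel.symm {S S' : Submodule F (I8 → F)} (h : SRel S S') : SRel S' S := by
  unfold SRel at h ⊢
  rwa [inf_comm]

/-- the isometry group is transitive on the solids -/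
theorem exists_O_map {S S' : Submodule F (I8 → F)} (hS : IsSolid S) (hS' : IsSolid S') :
    ∃ a : O8 F, gmap a S = S' := by
  have hperp : ∀ x, (∀ u ∈ S', B8 u x = 0) → x ∈ S' := by
    intro x hx
    rw [← hS'.perp_eq, mem_perp]
    exact hx
  obtain ⟨vs, hvs, -, hmap⟩ := MaxTS.exists_refl_list (Q8 F) S' hS'.2 hperp _ S hS.2
    (by rw [hS.1, hS'.1]) rfl
  have hvs' : ∀ v ∈ vs, Q8 F v ≠ 0 := fun v hv => by rw [hvs v hv]; exact one_ne_zero
  obtain ⟨a, ha⟩ := exists_of_list (Q8 F) vs hvs'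
  refine ⟨a, ?_⟩
  unfold gmap
  rw [ha]
  exact hmap

variable [Fintype F]

section withH

variable {H : Subgroup (O8 F)} (hH : H.index = 2) (hΩ : Cfsg.Omega F ⇑(Q8 F) ≤ H)
  (hrel : ∀ W : Submodule F (I8 → F), IsSolid W → ∀ g : O8 F, SRel W (gmap g W) ↔ g ∈ H)

include hH hrel in
/-- among three solids, two belong to the same family -/
theorem srel_three {S₁ S₂ S₃ : Submodule F (I8 → F)} (h₁ : IsSolid S₁) (h₂ : IsSolid S₂)
    (h₃ : IsSolid S₃) : SRel S₁ S₂ ∨ SRel S₁ S₃ ∨ SRel S₂ S₃ := by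
  obtain ⟨a, rfl⟩ := exists_O_map h₁ h₂
  obtain ⟨b, rfl⟩ := exists_O_map h₁ h₃
  by_cases ha : a ∈ H
  · exact Or.inl ((hrel S₁ h₁ a).2 ha)
  by_cases hb : b ∈ H
  · exact Or.inr (Or.inl ((hrel S₁ h₁ b).2 hb))
  right; right
  have h1 : a⁻¹ * b ∈ H := by
    rw [Subgroup.mul_mem_iff_of_index_two hH, inv_mem_iff]
    exact ⟨fun h => absurd h ha, fun h => absurd h hb⟩
  have h2 := (hrel S₁ h₁ (a⁻¹ * b)).2 h1
  rw [← srel_gmap a, ← gmap_mul, mul_inv_cancel_left] at h2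
  exact h2

include hΩ hrel in
/-- solid-type automorphisms with solids in the same family lie in the same coset of `Γ` -/
theorem mem_gamma_of_srel {θ₁ θ₂ : A8 F} {S₁ S₂ : Submodule F (I8 → F)} (h₁ : SolAt θ₁ S₁)
    (h₂ : SolAt θ₂ S₂) (h : SRel S₁ S₂) : θ₂⁻¹ * θ₁ ∈ Γ8 F := by
  obtain ⟨g, hg, hmap⟩ := PlusTS.exists_Omega_map_ts (F := F) (m := 4) (by norm_num)
    (Or.inr (by norm_num)) S₁ S₂ h₁.1 h₂.1 h₁.2.1 h₂.2.1 h
  have h3 : SolAt (cO g * θ₁) S₂ := by
    have := h₁.cO_mul g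
    unfold gmap at this
    rwa [hmap] at this
  have h4 := mem_gamma_of_same h3 h₂
  -- `θ₂⁻¹ θ₁ = (θ₂⁻¹ c_g θ₁) (θ₁⁻¹ c_g⁻¹ θ₁)`
  have h5 : θ₁⁻¹ * (cO g)⁻¹ * θ₁ ∈ Γ8 F := by
    have e : cO g = MulAut.conj (pr (Q8 F) ⟨g, hg⟩) := (om_eq_cO ⟨g, hg⟩).symm
    have e2 : θ₁⁻¹ * (cO g)⁻¹ * θ₁ = MulAut.conj (θ₁⁻¹ (pr (Q8 F) ⟨g, hg⟩)⁻¹) := by
      rw [e]
      apply MulEquiv.ext
      intro y
      simp only [MulAut.mul_apply, MulAut.conj_apply, MulAut.inv_apply, map_mul, map_inv,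
        MulAut.conj_inv_apply, MulAut.conj_symm_apply, inv_inv]
      simp [MulAut.inv_def]
    rw [e2]
    exact conj_mem _
  have e3 : θ₂⁻¹ * θ₁ = (θ₂⁻¹ * (cO g * θ₁)) * (θ₁⁻¹ * (cO g)⁻¹ * θ₁) := by group
  rw [e3]
  exact (Γ8 F).mul_mem h4 h5

end withH

/-- **the index of `Γ` in the automorphism group of `PΩ₈⁺(q)` is three** -/
theorem card_A8 : Nat.card (A8 F) = 3 * Nat.card ↥(Γ8 F) := by
  obtain ⟨H, hH, hΩ, hrel⟩ := exists_H (F := F)
  obtain ⟨κ, hκ⟩ : ∃ κ : O8 F, κ ∉ H := by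
    by_contra hcon
    push Not at hcon
    have : H = ⊤ := by
      rw [eq_top_iff]
      intro x _
      exact hcon x
    rw [this, Subgroup.index_top] at hH
    norm_num at hH
  set t : A8 F := trial F with ht
  have htΓ : t ∉ Γ8 F := trial_not_mem_gamma
  obtain ⟨S, hS⟩ := (gamma_or_solid t).resolve_left htΓ
  set t' : A8 F := cO κ * t with ht'
  have hS' : SolAt t' (gmap κ S) := hS.cO_mul κ
  have hnrel : ¬ SRel S (gmap κ S) := fun h => hκ ((hrel S hS.isSolid κ).1 h)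
  have ht'Γ : t' ∉ Γ8 F := by
    intro h
    apply htΓ
    have : t = (cO κ)⁻¹ * t' := by rw [ht']; group
    rw [this]
    exact (Γ8 F).mul_mem ((Γ8 F).inv_mem (cO_mem κ)) h
  have htt' : t⁻¹ * t' ∉ Γ8 F := by
    intro h
    obtain ⟨s', hs'⟩ := hS.mul_gamma h
    rw [mul_inv_cancel_left] at hs'
    have e := hS'.unique hs'
    apply hnrel
    rw [e]
    exact (hrel S hS.isSolid _).2 (hΩ s'.2)
  have hall : ∀ θ : A8 F, θ ∈ Γ8 F ∨ t⁻¹ * θ ∈ Γ8 F ∨ t'⁻¹ * θ ∈ Γ8 F := by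
    intro θ
    rcases gamma_or_solid θ with h | ⟨Sθ, hθ⟩
    · exact Or.inl h
    right
    rcases srel_three hH hrel hθ.isSolid hS.isSolid hS'.isSolid with h | h | h
    · exact Or.inl (mem_gamma_of_srel hΩ hrel hθ hS h)
    · exact Or.inr (mem_gamma_of_srel hΩ hrel hθ hS' h)
    · exact absurd h hnrel
  -- count the cosets
  have hidx : (Γ8 F).index = 3 := by
    unfold Subgroup.index
    let f : Fin 3 → A8 F ⧸ Γ8 F := ![((1 : A8 F) : A8 F ⧸ Γ8 F), (t : A8 F ⧸ Γ8 F), (t' : A8 F ⧸ Γ8 F)]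
    have h01 : ((1 : A8 F) : A8 F ⧸ Γ8 F) ≠ (t : A8 F ⧸ Γ8 F) := by
      intro h
      rw [QuotientGroup.eq, inv_one, one_mul] at h
      exact htΓ h
    have h02 : ((1 : A8 F) : A8 F ⧸ Γ8 F) ≠ (t' : A8 F ⧸ Γ8 F) := by
      intro h
      rw [QuotientGroup.eq, inv_one, one_mul] at h
      exact ht'Γ h
    have h12 : ((t : A8 F) : A8 F ⧸ Γ8 F) ≠ (t' : A8 F ⧸ Γ8 F) := by
      intro h
      rw [QuotientGroup.eq] at h
      exact htt' h
    have hf : Function.Bijective f := by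
      constructor
      · intro i j hij
        fin_cases i <;> fin_cases j
        · rfl
        · exact absurd hij h01
        · exact absurd hij h02
        · exact absurd hij.symm h01
        · rfl
        · exact absurd hij h12
        · exact absurd hij.symm h02
        · exact absurd hij.symm h12
        · rfl
      · intro q
        induction q using QuotientGroup.induction_on with
        | H θ =>
          rcases hall θ with h | h | h
          · refine ⟨0, ?_⟩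
            show ((1 : A8 F) : A8 F ⧸ Γ8 F) = _
            rw [QuotientGroup.eq, inv_one, one_mul]
            exact h
          · refine ⟨1, ?_⟩
            show ((t : A8 F) : A8 F ⧸ Γ8 F) = _
            rw [QuotientGroup.eq]
            exact h
          · refine ⟨2, ?_⟩
            show ((t' : A8 F) : A8 F ⧸ Γ8 F) = _
            rw [QuotientGroup.eq]
            exact h
    rw [← Nat.card_eq_of_bijective f hf]
    simp
  have := Subgroup.card_eq_card_quotient_mul_card_subgroup (Γ8 F)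
  rw [this]
  congr 1

end

section

open Matrix QuadraticMap Module
open Cfsg.Agent.Lib.H13 Cfsg.Agent.Lib.H13.AutPO Cfsg.Agent.Lib.H13.HypPairs
open Cfsg.Agent.Lib.H11.ConfOrth

variable {F : Type*} [Field F] [Fintype F] {m : ℕ}

theorem card_K_ge (hm : 4 ≤ m) : 7 ≤ Fintype.card (Fin m ⊕ Fin m) := by
  rw [card_plus]; omega

/-- the order of `PGO⁺` in odd characteristic -/
theorem card_range_plus_odd (hodd : Odd (Fintype.card F)) (hm : 4 ≤ m) :
    Nat.card ↥(Phi ⇑(plusQF F m)).range =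
      (if Odd m ∧ Fintype.card F % 4 = 3 then 4 else 8) *
        Nat.card (Cfsg.POmega F ⇑(plusQF F m)) := by
  classical
  have hQ := Cfsg.Agent.S0287.nondeg (F := F) m
  have hinn := card_inn_pomega (plusQF F m) hQ (card_K_ge hm)
  have hle := inn_le_pgo (F := F) (plusQF F m)
  have hker : Nat.card ↥((Cfsg.Inn (Cfsg.POmega F ⇑(plusQF F m))).subgroupOf
      (Cfsg.pgoAut F ⇑(plusQF F m))) = Nat.card (Cfsg.POmega F ⇑(plusQF F m)) := by
    rw [Nat.card_congr (Subgroup.subgroupOfEquivOfLe hle).toEquiv, hinn]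
  obtain ⟨h1, h2⟩ := plus_pgo_inn (F := F) (m := m) hodd hm
  rw [← pgoAut_eq]
  by_cases hc : Odd m ∧ Fintype.card F % 4 = 3
  · obtain ⟨φ, hsurj, hk⟩ := h1 hc
    rw [if_pos hc, AutPSL.card_of_surjective_ker φ hsurj, hk, hker,
      Nat.card_eq_fintype_card (α := Multiplicative (ZMod 2 × ZMod 2))]
    rfl
  · obtain ⟨φ, hsurj, hk⟩ := h2 hc
    rw [if_neg hc, AutPSL.card_of_surjective_ker φ hsurj, hk, hker, DihedralGroup.nat_card]

/-- `|Aut(PΩ⁺_{2m}(q))|` in terms of `|Γ|` -/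
theorem card_aut_eq_gamma (hm : 4 ≤ m) :
    Nat.card (MulAut (Cfsg.POmega F ⇑(plusQF F m))) =
      (if m = 4 then 3 else 1) * Nat.card ↥(Cfsg.gammaPOmega F ⇑(plusQF F m)) := by
  by_cases h4 : m = 4
  · subst h4
    rw [if_pos rfl]
    exact card_A8 (F := F)
  · rw [if_neg h4, one_mul, hall_plus (F := F) (m := m) (by omega), Subgroup.card_top]

/-- **the order of `Aut(PΩ⁺_{2m}(q))`**, `m ≥ 4` -/
theorem card_aut_plus (p f : ℕ) [Fact p.Prime] (hf : 1 ≤ f) (hF : Fintype.card F = p ^ f)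
    (hm : 4 ≤ m) :
    Nat.card (MulAut (Cfsg.POmega F ⇑(plusQF F m))) =
      (if m = 4 then 3 else 1) *
        (if p = 2 then 2 else (if Odd m ∧ p ^ f % 4 = 3 then 4 else 8)) * f *
        Nat.card (Cfsg.POmega F ⇑(plusQF F m)) := by
  haveI hcp := charP_of_card hF
  have hQ := Cfsg.Agent.S0287.nondeg (F := F) m
  have hc7 := card_K_ge (m := m) hm
  have hex : ∀ σ : F ≃+* F, ∃ g : GL (Fin m ⊕ Fin m) F,
      Cfsg.IsSemisimilarityPair ⇑(plusQF F m) g σ :=
    fun σ => ⟨1, pair_one_of_sigEq _ _ (sigEq_plus σ)⟩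
  rw [card_aut_eq_gamma hm, card_gamma (plusQF F m) hQ hc7 hex hF]
  by_cases hp : p = 2
  · subst hp
    rw [if_pos rfl, card_Phi_range2 (plusQF F m) hQ hc7]
    ring
  · have hodd : Odd (Fintype.card F) := by
      rw [hF]
      exact ((Fact.out : p.Prime).odd_of_ne_two hp).pow
    rw [if_neg hp, card_range_plus_odd hodd hm, hF]
    ring

end

end Cfsg.Agent.Lib.H13.Tri
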