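import Mathlib
import Cfsg.Agent.Lib.H13.Tri6

/-!
Triality, part 7 (helper13): symmetries of related triples (`RT_hat`, `RT_swap`), every element of `Ω` starts a related triple
inside `Ω` (`RTΩ_total`), the triality automorphism is an involution (`trial_trial`) satisfying the braid relation with the
conjugation automorphism (`braid`), and the standard field automorphisms `fO8` commute with both (`fO8_trial`, `fO8_cO`).
-/

set_option autoImplicit false
set_option linter.unusedSectionVars false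
set_option linter.unusedVariables false
set_option linter.unusedSimpArgs false
set_option linter.deprecated false

namespace Cfsg.Agent.Lib.H13.Tri

section

open Matrix QuadraticMap Module
open Cfsg.Agent.Lib.H13 Cfsg.Agent.Lib.H13.AutPO Cfsg.Agent.Lib.H13.HypPairs
open Cfsg.Agent.Lib.H11.ConfOrth
open scoped commutatorElement

variable {F : Type*} [Field F]

/-- octonion conjugation as an isometry -/
noncomputable def kapO (F : Type*) [Field F] : O8 F :=
  isoOfLin Km (fun x => by rw [Km_apply]; exact oN_okap x)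

theorem ov_kapO (x : I8 → F) : ov (kapO F) x = okap x := by
  unfold kapO
  rw [ov_isoOfLin]
  rfl

theorem kapO_mul_self : kapO F * kapO F = 1 := by
  apply ov_ext
  intro x
  rw [ov_mul, ov_kapO, ov_kapO, okap_okap, ov_one]

theorem kapO_inv : (kapO F)⁻¹ = kapO F := inv_eq_of_mul_eq_one_left kapO_mul_self

/-- conjugation of an isometry by octonion conjugation -/
noncomputable def hatO (A : O8 F) : O8 F := kapO F * A * kapO F

theorem ov_hatO (A : O8 F) (x : I8 → F) : ov (hatO A) x = okap (ov A (okap x)) := by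
  unfold hatO
  rw [ov_mul, ov_mul, ov_kapO, ov_kapO]

theorem hatO_hatO (A : O8 F) : hatO (hatO A) = A := by
  unfold hatO
  calc kapO F * (kapO F * A * kapO F) * kapO F
      = (kapO F * kapO F) * A * (kapO F * kapO F) := by group
    _ = A := by rw [kapO_mul_self, one_mul, mul_one]

/-- the symmetry `(A, B, C) ↦ (Â, Ĉ, B̂)` of related triples -/
theorem RT_hat {A B C : O8 F} (h : (A, B, C) ∈ RT F) : (hatO A, hatO C, hatO B) ∈ RT F := by
  intro x y
  show ov (hatO A) (omul x y) = omul (ov (hatO C) x) (ov (hatO B) y)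
  rw [ov_hatO, ov_hatO, ov_hatO, okap_omul, h (okap y) (okap x), okap_omul]

theorem oB_sub_left (x x' y : I8 → F) : oB (x - x') y = oB x y - oB x' y := by
  simp [oB]; ring

/-- the symmetry `(A, B, C) ↦ (B, A, Ĉ)` of related triples -/
theorem RT_swap {A B C : O8 F} (h : (A, B, C) ∈ RT F) : (B, A, hatO C) ∈ RT F := by
  intro z w
  show ov B (omul z w) = omul (ov A z) (ov (hatO C) w)
  rw [← sub_eq_zero]
  apply oB_nondeg
  intro u
  -- write `u = B x`
  have hu : u = ov B (ov B⁻¹ u) := (ov_ov_inv B u).symm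
  set x := ov B⁻¹ u with hx
  rw [hu, oB_sub_left, sub_eq_zero, oB_ov, oB_omul_right, ← oB_ov A, h x (okap w),
    oB_comm (ov A z), oB_omul_right, oB_comm, ov_hatO]

theorem hatO_mem_Omega {A : O8 F} (hA : A ∈ Cfsg.Omega F ⇑(Q8 F)) :
    hatO A ∈ Cfsg.Omega F ⇑(Q8 F) := by
  have hn : (Cfsg.Omega F ⇑(Q8 F)).Normal := inferInstance
  have := hn.conj_mem A hA (kapO F)
  rwa [kapO_inv] at this

/-- the related triples inside `Ω` -/
noncomputable def iota3' (F : Type*) [Field F] : Om8 F × Om8 F × Om8 F →* O8 F × O8 F × O8 F :=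
  MonoidHom.prodMap (Subgroup.subtype _)
    (MonoidHom.prodMap (Subgroup.subtype _) (Subgroup.subtype _))

noncomputable def RTΩ (F : Type*) [Field F] : Subgroup (Om8 F × Om8 F × Om8 F) :=
  (RT F).comap (iota3' F)

theorem mem_RTΩ {A B C : Om8 F} : (A, B, C) ∈ RTΩ F ↔ ((A : O8 F), (B : O8 F), (C : O8 F)) ∈ RT F :=
  Iff.rfl

/-- every element of `Ω` is the first component of a related triple in `Ω` -/
theorem RTΩ_total [Fintype F] (A : Om8 F) : ∃ B C : Om8 F, (A, B, C) ∈ RTΩ F := by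
  have hperf := perfect_all (Q8 F) hQ8 (by rw [card_I8]; omega)
  have hA : A ∈ commutator (Om8 F) := by rw [hperf]; exact Subgroup.mem_top A
  have hle : commutator (Om8 F) ≤ (RTΩ F).map (MonoidHom.fst _ _) := by
    rw [commutator_def, Subgroup.commutator_le]
    intro A₁ _ A₂ _
    have h1 : (A₁ : O8 F) ∈ P1 F := commutator_le_P1 A₁.2
    have h2 : (A₂ : O8 F) ∈ P1 F := commutator_le_P1 A₂.2
    obtain ⟨B₁, C₁, t₁⟩ := mem_P1.1 h1
    obtain ⟨B₂, C₂, t₂⟩ := mem_P1.1 h2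
    have h3 : ⁅((A₁ : O8 F), B₁, C₁), ((A₂ : O8 F), B₂, C₂)⁆ ∈ RT F := by
      rw [commutatorElement_def]
      exact (RT F).mul_mem ((RT F).mul_mem ((RT F).mul_mem t₁ t₂) ((RT F).inv_mem t₁))
        ((RT F).inv_mem t₂)
    have hB : ⁅B₁, B₂⁆ ∈ commutator (O8 F) :=
      Subgroup.commutator_mem_commutator (Subgroup.mem_top _) (Subgroup.mem_top _)
    have hC : ⁅C₁, C₂⁆ ∈ commutator (O8 F) :=
      Subgroup.commutator_mem_commutator (Subgroup.mem_top _) (Subgroup.mem_top _)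
    rw [Subgroup.mem_map]
    refine ⟨(⁅A₁, A₂⁆, ⟨⁅B₁, B₂⁆, hB⟩, ⟨⁅C₁, C₂⁆, hC⟩), ?_, rfl⟩
    exact h3
  obtain ⟨⟨A', B, C⟩, h, rfl⟩ := Subgroup.mem_map.1 (hle hA)
  exact ⟨B, C, h⟩

variable [Fintype F]

theorem trial_RTΩ {A B C : Om8 F} (h : (A, B, C) ∈ RTΩ F) :
    trial F (pr (Q8 F) A) = pr (Q8 F) B :=
  trial_spec (mem_TΩ.2 ⟨C, h⟩)

/-- the triality automorphism `A ↦ B` is an involution -/
theorem trial_trial (x : Cfsg.POmega F ⇑(Q8 F)) : trial F (trial F x) = x := by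
  obtain ⟨A, rfl⟩ := pr_surjective (Q8 F) x
  obtain ⟨B, C, h⟩ := RTΩ_total A
  rw [trial_RTΩ h]
  have h2 : (B, A, (⟨hatO C.1, hatO_mem_Omega C.2⟩ : Om8 F)) ∈ RTΩ F := RT_swap h
  exact trial_RTΩ h2

/-- the element `Â` of `Ω` -/
noncomputable def hatΩ (A : Om8 F) : Om8 F := ⟨hatO A.1, hatO_mem_Omega A.2⟩

theorem cO_kapO_pr (A : Om8 F) : cO (kapO F) (pr (Q8 F) A) = pr (Q8 F) (hatΩ A) := by
  unfold cO
  have : semiAut ⇑(Q8 F) (kapO F).1 (RingEquiv.refl F) (pair_of_O (kapO F)) (pr (Q8 F) A) =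
    pr (Q8 F) (semiOmega ⇑(Q8 F) (kapO F).1 (RingEquiv.refl F) (pair_of_O (kapO F)) A) :=
    semiAut_mk ⇑(Q8 F) _ _ _ A
  rw [this]
  congr 1
  apply Subtype.ext
  apply Subtype.ext
  rw [semiOmega_val, glmap_refl]
  show (kapO F).1 * A.1.1 * (kapO F).1⁻¹ = (kapO F * A.1 * kapO F).1
  rw [← Subgroup.coe_inv, kapO_inv]
  rfl

/-- the braid relation between triality and conjugation -/
theorem braid (x : Cfsg.POmega F ⇑(Q8 F)) :
    trial F (cO (kapO F) (trial F x)) = cO (kapO F) (trial F (cO (kapO F) x)) := by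
  obtain ⟨X, rfl⟩ := pr_surjective (Q8 F) x
  obtain ⟨Y, Z, h⟩ := RTΩ_total X
  -- left side: `X ↦ Y ↦ Ŷ ↦ Z`
  have h1 : (Y, X, hatΩ Z) ∈ RTΩ F := RT_swap h
  have h2 : (hatΩ Y, Z, hatΩ X) ∈ RTΩ F := by
    have := RT_hat (mem_RTΩ.1 h1)
    rw [mem_RTΩ]
    show (hatO Y.1, Z.1, hatO X.1) ∈ RT F
    have e : hatO (hatΩ Z).1 = Z.1 := hatO_hatO Z.1
    rw [e] at this
    exact this
  -- right side: `X ↦ X̂ ↦ Ẑ ↦ Z`
  have h3 : (hatΩ X, hatΩ Z, hatΩ Y) ∈ RTΩ F := RT_hat h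
  rw [trial_RTΩ h, cO_kapO_pr, trial_RTΩ h2, cO_kapO_pr, trial_RTΩ h3, cO_kapO_pr]
  congr 1
  apply Subtype.ext
  exact (hatO_hatO Z.1).symm

end

section

open Matrix QuadraticMap Module
open Cfsg.Agent.Lib.H13 Cfsg.Agent.Lib.H13.AutPO Cfsg.Agent.Lib.H13.HypPairs
open Cfsg.Agent.Lib.H11.ConfOrth
open scoped commutatorElement

variable {F : Type*} [Field F]

theorem vmap_omul (σ : F ≃+* F) (x y : I8 → F) :
    vmap σ (omul x y) = omul (vmap σ x) (vmap σ y) := by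
  funext i; rcases i with i | i <;> fin_cases i <;> simp [omul, mk8, vmap]

theorem vmap_okap (σ : F ≃+* F) (x : I8 → F) : vmap σ (okap x) = okap (vmap σ x) := by
  funext i; rcases i with i | i <;> fin_cases i <;> simp [okap, mk8, vmap]

theorem vmap_surj (σ : F ≃+* F) (x : I8 → F) : ∃ x', vmap σ x' = x :=
  ⟨vmap σ.symm x, vmap_vmap_symm σ x⟩

variable [Fintype F]

theorem hstd8 (σ : F ≃+* F) : Cfsg.IsSemisimilarityPair ⇑(Q8 F) 1 σ :=
  pair_one_of_sigEq _ _ (sigEq_plus σ)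

/-- the field automorphism acting on the isometry group -/
noncomputable def sigO (σ : F ≃+* F) : O8 F ≃* O8 F := semiO ⇑(Q8 F) 1 σ (hstd8 σ)

theorem ov_sigO (σ : F ≃+* F) (X : O8 F) (x : I8 → F) :
    ov (sigO σ X) (vmap σ x) = vmap σ (ov X x) := by
  have h := conj_sact (1 : GL I8 F) X.1 σ x
  unfold sact at h
  rw [Units.val_one, Matrix.one_mulVec, Matrix.one_mulVec] at h
  exact h

/-- field automorphisms preserve related triples -/
theorem RT_sig (σ : F ≃+* F) {A B C : O8 F} (h : (A, B, C) ∈ RT F) :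
    (sigO σ A, sigO σ B, sigO σ C) ∈ RT F := by
  intro x y
  obtain ⟨x', rfl⟩ := vmap_surj σ x
  obtain ⟨y', rfl⟩ := vmap_surj σ y
  show ov (sigO σ A) (omul (vmap σ x') (vmap σ y')) =
    omul (ov (sigO σ B) (vmap σ x')) (ov (sigO σ C) (vmap σ y'))
  rw [← vmap_omul, ov_sigO, ov_sigO, ov_sigO, h x' y', vmap_omul]

/-- the standard field automorphisms of `PΩ⁺₈` -/
noncomputable def fO8 (F : Type*) [Field F] [Fintype F] : (F ≃+* F) →* A8 F :=
  fieldO (Q8 F) hstd8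

theorem fO8_apply (σ : F ≃+* F) : fO8 F σ = semiAut ⇑(Q8 F) 1 σ (hstd8 σ) := rfl

/-- the field automorphism acting on `Ω` -/
noncomputable def sigΩ (σ : F ≃+* F) (X : Om8 F) : Om8 F :=
  semiOmega ⇑(Q8 F) 1 σ (hstd8 σ) X

theorem sigΩ_val (σ : F ≃+* F) (X : Om8 F) : (sigΩ σ X : O8 F) = sigO σ X.1 := rfl

theorem fO8_pr (σ : F ≃+* F) (X : Om8 F) : fO8 F σ (pr (Q8 F) X) = pr (Q8 F) (sigΩ σ X) :=
  semiAut_mk ⇑(Q8 F) _ _ _ X

/-- field automorphisms commute with triality -/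
theorem fO8_trial (σ : F ≃+* F) (x : Cfsg.POmega F ⇑(Q8 F)) :
    fO8 F σ (trial F x) = trial F (fO8 F σ x) := by
  obtain ⟨X, rfl⟩ := pr_surjective (Q8 F) x
  obtain ⟨Y, Z, h⟩ := RTΩ_total X
  have h2 : (sigΩ σ X, sigΩ σ Y, sigΩ σ Z) ∈ RTΩ F := RT_sig σ (mem_RTΩ.1 h)
  rw [trial_RTΩ h, fO8_pr, fO8_pr, trial_RTΩ h2]

theorem sigO_kapO (σ : F ≃+* F) : sigO σ (kapO F) = kapO F := by
  apply ov_ext
  intro x
  obtain ⟨x', rfl⟩ := vmap_surj σ x
  rw [ov_sigO, ov_kapO, ov_kapO, vmap_okap]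

/-- field automorphisms commute with the conjugation automorphism -/
theorem fO8_cO (σ : F ≃+* F) (x : Cfsg.POmega F ⇑(Q8 F)) :
    fO8 F σ (cO (kapO F) x) = cO (kapO F) (fO8 F σ x) := by
  obtain ⟨X, rfl⟩ := pr_surjective (Q8 F) x
  rw [cO_kapO_pr, fO8_pr, fO8_pr, cO_kapO_pr]
  congr 1
  apply Subtype.ext
  show sigO σ (kapO F * X.1 * kapO F) = kapO F * sigO σ X.1 * kapO F
  rw [map_mul, map_mul, sigO_kapO]

end

end Cfsg.Agent.Lib.H13.Tri
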