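import Mathlib
import Cfsg.Agent.Lib.H13.Tri7

/-!
Triality, part 8 (helper13): abstract recognition lemmas (`mulEquiv_perm_of_core`, `split_of_bound`, `s3_times`), the three
cosets of `Γ` in `Aut(PΩ⁺₈)` (`cosets_A8`), the outer automorphism group `Out8` with the classes `aT`, `bK` of triality and the
graph involution and the central subgroup `CF` of field automorphisms, `Out(PΩ⁺₈(2^f)) ≅ S₃ × C_f` (`out8_two`), and S2607
(`out_plus_two`).
-/

set_option autoImplicit false
set_option linter.unusedSectionVars false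
set_option linter.unusedVariables false
set_option linter.unusedSimpArgs false
set_option linter.deprecated false

namespace Cfsg.Agent.Lib.H13.Tri

section

open Cfsg.Agent.Lib.H13.AutPO

section abstract

variable {G : Type*} [Group G]

/-- a group acting faithfully on the cosets of a subgroup of index `n` and of order `n!` is the
symmetric group -/
theorem mulEquiv_perm_of_core [Finite G] (S : Subgroup G) (n : ℕ)
    (hidx : S.index = n) (hcore : S.normalCore = ⊥) (hcard : Nat.card G = n.factorial) :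
    Nonempty (G ≃* Equiv.Perm (Fin n)) := by
  have hq : Nat.card (G ⧸ S) = n := hidx
  let e : (G ⧸ S) ≃ Fin n := Finite.equivFinOfCardEq hq
  let ρ : G →* Equiv.Perm (Fin n) :=
    (Equiv.permCongrHom e).toMonoidHom.comp (MulAction.toPermHom G (G ⧸ S))
  have hinj : Function.Injective ρ := by
    rw [injective_iff_map_eq_one]
    intro x hx
    have h1 : MulAction.toPermHom G (G ⧸ S) x = 1 := by
      have : (Equiv.permCongrHom e) (MulAction.toPermHom G (G ⧸ S) x) = 1 := hx
      exact (MulEquiv.map_eq_one_iff _).1 this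
    have h2 : x ∈ S.normalCore := by
      rw [Subgroup.normalCore_eq_ker]
      exact h1
    rw [hcore, Subgroup.mem_bot] at h2
    exact h2
  have hbij : Function.Bijective ρ := by
    apply hinj.bijective_of_nat_card_le
    rw [hcard, Nat.card_perm, Nat.card_fin]
  exact ⟨MulEquiv.ofBijective ρ hbij⟩

/-- the closure of a set is contained in a list closed under left multiplication -/
theorem closure_subset_list (s : Set G) (l : List G) (h1 : (1 : G) ∈ l)
    (hmul : ∀ x ∈ s, ∀ y ∈ l, x * y ∈ l) (hinv : ∀ x ∈ s, ∀ y ∈ l, x⁻¹ * y ∈ l) :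
    ∀ g ∈ Subgroup.closure s, g ∈ l := by
  intro g hg
  induction hg using Subgroup.closure_induction_left with
  | one => exact h1
  | mul_left x hx y hy ih => exact hmul x hx y ih
  | inv_mul_cancel x hx y hy ih => exact hinv x hx y ih

theorem card_le_of_subset_list (K : Subgroup G) (l : List G) (h : ∀ g ∈ K, g ∈ l) :
    Nat.card ↥K ≤ l.length := by
  classical
  have h1 : (K : Set G) ⊆ ↑l.toFinset := by
    intro g hg
    simp only [Finset.mem_coe, List.mem_toFinset]
    exact h g hg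
  have h2 : Nat.card ↥K = Set.ncard (K : Set G) := by
    rw [← Nat.card_coe_set_eq]
    rfl
  rw [h2]
  calc Set.ncard (K : Set G) ≤ Set.ncard (↑l.toFinset : Set G) :=
        Set.ncard_le_ncard h1 (Finset.finite_toSet _)
    _ = l.toFinset.card := Set.ncard_coe_finset _
    _ ≤ l.length := List.toFinset_card_le l

/-- splitting off a central subgroup by counting -/
theorem split_of_bound [Finite G] (K C : Subgroup G) (hC : C ≤ Subgroup.center G) (n : ℕ)
    (hgen : ∀ g : G, ∃ k ∈ K, ∃ c ∈ C, g = k * c) (hK : Nat.card ↥K ≤ n)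
    (hcard : Nat.card G = n * Nat.card ↥C) :
    Nat.card ↥K = n ∧ K ⊓ C = ⊥ ∧ Nonempty (↥K × ↥C ≃* G) := by
  let φ : ↥K × ↥C → G := fun x => x.1.1 * x.2.1
  have hsurj : Function.Surjective φ := by
    intro g
    obtain ⟨k, hk, c, hc, rfl⟩ := hgen g
    exact ⟨(⟨k, hk⟩, ⟨c, hc⟩), rfl⟩
  have hCpos : 0 < Nat.card ↥C := Nat.card_pos
  have h1 : Nat.card G ≤ Nat.card (↥K × ↥C) := Nat.card_le_card_of_surjective φ hsurj
  rw [Nat.card_prod] at h1
  have h2 : Nat.card ↥K * Nat.card ↥C ≤ n * Nat.card ↥C := Nat.mul_le_mul_right _ hK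
  have h3 : Nat.card ↥K * Nat.card ↥C = n * Nat.card ↥C := le_antisymm h2 (by rw [← hcard]; exact h1)
  have hKn : Nat.card ↥K = n := Nat.eq_of_mul_eq_mul_right hCpos h3
  have hbij : Function.Bijective φ := by
    apply hsurj.bijective_of_nat_card_le
    rw [Nat.card_prod, h3, hcard]
  have hdisj : K ⊓ C = ⊥ := by
    rw [eq_bot_iff]
    intro x hx
    rw [Subgroup.mem_inf] at hx
    have e : φ (⟨x, hx.1⟩, 1) = φ (1, ⟨x, hx.2⟩) := by
      show x * 1 = 1 * x
      rw [mul_one, one_mul]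
    have := hbij.1 e
    have h4 := congrArg (fun p : ↥K × ↥C => (p.1 : G)) this
    rw [Subgroup.mem_bot]
    exact h4
  refine ⟨hKn, hdisj, ?_⟩
  apply mulEquiv_prod_of_disjoint K C _ hdisj (by rw [hKn, hcard])
  intro k _ c hc
  exact Subgroup.mem_center_iff.1 (hC hc) k

/-- recognition of `S₃ × C` -/
theorem s3_times [Finite G] (C : Subgroup G) (hC : C ≤ Subgroup.center G)
    (a b : G) (ha : a * a = 1) (hb : b * b = 1) (hab : a * b * a = b * a * b)
    (hgen : ∀ g : G, ∃ k ∈ Subgroup.closure {a, b}, ∃ c ∈ C, g = k * c)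
    (hcard : Nat.card G = 6 * Nat.card ↥C) :
    Nonempty (G ≃* Equiv.Perm (Fin 3) × ↥C) := by
  classical
  set K := Subgroup.closure ({a, b} : Set G) with hKdef
  have hai : a⁻¹ = a := inv_eq_of_mul_eq_one_left ha
  have hbi : b⁻¹ = b := inv_eq_of_mul_eq_one_left hb
  set l : List G := [1, a, b, a * b, b * a, a * b * a] with hl
  have hmul : ∀ x ∈ ({a, b} : Set G), ∀ y ∈ l, x * y ∈ l := by
    rintro x (rfl | rfl) y hy
    · simp only [hl, List.mem_cons, List.not_mem_nil, or_false] at hy ⊢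
      rcases hy with rfl | rfl | rfl | rfl | rfl | rfl
      · right; left; rw [mul_one]
      · left; exact ha
      · right; right; right; left; rfl
      · right; right; left; rw [← mul_assoc, ha, one_mul]
      · right; right; right; right; right; rw [mul_assoc]
      · right; right; right; right; left; rw [← mul_assoc, ← mul_assoc, ha, one_mul]
    · simp only [hl, List.mem_cons, List.not_mem_nil, or_false] at hy ⊢
      rcases hy with rfl | rfl | rfl | rfl | rfl | rfl
      · right; right; left; rw [mul_one]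
      · right; right; right; right; left; rfl
      · left; exact hb
      · right; right; right; right; right; rw [hab, mul_assoc]
      · right; left; rw [← mul_assoc, hb, one_mul]
      · right; right; right; left
        rw [hab, ← mul_assoc, ← mul_assoc, hb, one_mul]
  have hinv : ∀ x ∈ ({a, b} : Set G), ∀ y ∈ l, x⁻¹ * y ∈ l := by
    rintro x (rfl | rfl) y hy
    · rw [hai]; exact hmul _ (Or.inl rfl) y hy
    · rw [hbi]; exact hmul _ (Or.inr rfl) y hy
  have hsub : ∀ g ∈ K, g ∈ l := closure_subset_list _ l (by simp [hl]) hmul hinv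
  have hK6 : Nat.card ↥K ≤ 6 := card_le_of_subset_list K l hsub
  obtain ⟨hKn, hdisj, ⟨e⟩⟩ := split_of_bound K C hC 6 hgen hK6 hcard
  -- `a` and `b` do not commute
  have hne : a * b ≠ b * a := by
    intro hcomm
    -- then `K` is contained in `[1, a, b, a * b]`
    have hsub' : ∀ g ∈ K, g ∈ [1, a, b, a * b] := by
      intro g hg
      have := hsub g hg
      simp only [hl, List.mem_cons, List.not_mem_nil, or_false] at this ⊢
      rcases this with rfl | rfl | rfl | rfl | rfl | rfl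
      · left; rfl
      · right; left; rfl
      · right; right; left; rfl
      · right; right; right; rfl
      · right; right; right; exact hcomm.symm
      · right; right; left
        rw [hcomm, mul_assoc, ha, mul_one]
    have := card_le_of_subset_list K _ hsub'
    rw [hKn] at this
    simp at this
  have haK : a ∈ K := Subgroup.subset_closure (by simp)
  have hbK : b ∈ K := Subgroup.subset_closure (by simp)
  have hb1 : b ≠ 1 := by
    rintro rfl
    exact hne (by rw [mul_one, one_mul])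
  -- the subgroup `{1, b}` of `K`
  set b' : ↥K := ⟨b, hbK⟩ with hb'
  set a' : ↥K := ⟨a, haK⟩ with ha'
  have hb'2 : b' * b' = 1 := Subtype.ext hb
  have hb'1 : b' ≠ 1 := fun h => hb1 (congrArg Subtype.val h)
  set S : Subgroup ↥K := Subgroup.zpowers b' with hS
  have hord : orderOf b' = 2 := by
    apply orderOf_eq_prime
    · rw [pow_two]; exact hb'2
    · exact hb'1
  have hScard : Nat.card ↥S = 2 := by rw [hS, Nat.card_zpowers, hord]
  have hidx : S.index = 3 := by
    have := Subgroup.card_mul_index S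
    rw [hScard, hKn] at this
    omega
  have hSmem : ∀ x ∈ S, x = 1 ∨ x = b' := by
    intro x hx
    obtain ⟨k, rfl⟩ := Subgroup.mem_zpowers_iff.1 hx
    rcases Int.even_or_odd k with ⟨j, rfl⟩ | ⟨j, rfl⟩
    · left
      rw [← two_mul, zpow_mul, zpow_ofNat, pow_two, hb'2, one_zpow]
    · right
      rw [zpow_add, zpow_mul, zpow_ofNat, pow_two, hb'2, one_zpow, one_mul, zpow_one]
  have hcore : S.normalCore = ⊥ := by
    rw [eq_bot_iff]
    intro x hx
    rw [Subgroup.mem_bot]
    have hxS : x ∈ S := Subgroup.normalCore_le S hx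
    rcases hSmem x hxS with h | h
    · exact h
    exfalso
    rw [h] at hx
    have hn : (S.normalCore).Normal := Subgroup.normalCore_normal S
    have h1 := Subgroup.normalCore_le S (hn.conj_mem b' hx a')
    rcases hSmem _ h1 with h2 | h2
    · apply hb'1
      have : b' = a'⁻¹ * (a' * b' * a'⁻¹) * a' := by group
      rw [this, h2]
      group
    · apply hne
      have h3 := congrArg Subtype.val h2
      have h4 : a * b * a⁻¹ = b := h3
      rw [hai] at h4
      calc a * b = a * b * a * a := by rw [mul_assoc (a * b), ha, mul_one]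
        _ = b * a := by rw [h4]
  obtain ⟨e3⟩ := mulEquiv_perm_of_core S 3 hidx hcore (by rw [hKn]; rfl)
  exact ⟨e.symm.trans (MulEquiv.prodCongr e3 (MulEquiv.refl _))⟩

end abstract

end

section

open Matrix QuadraticMap Module
open Cfsg.Agent.Lib.H13 Cfsg.Agent.Lib.H13.AutPO Cfsg.Agent.Lib.H13.HypPairs
open Cfsg.Agent.Lib.H11.ConfOrth
open scoped commutatorElement

variable {F : Type*} [Field F] [Fintype F]

/-- the subgroup of index two preserving the two families of solids; it contains no reflection -/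
theorem exists_H' : ∃ H : Subgroup (O8 F), H.index = 2 ∧ Cfsg.Omega F ⇑(Q8 F) ≤ H ∧
    (∀ W : Submodule F (I8 → F), IsSolid W → ∀ g : O8 F, SRel W (gmap g W) ↔ g ∈ H) ∧
    ∀ (v : I8 → F) (hv : Q8 F v ≠ 0), reflG (Q8 F) v hv ∉ H := by
  by_cases h2 : (2 : F) = 0
  · haveI : CharP F 2 := CharTwo.of_one_ne_zero_of_two_eq_zero one_ne_zero h2
    refine ⟨Cfsg.Omega F ⇑(Q8 F), ?_, le_refl _, ?_, ?_⟩
    · haveI : Nonempty I8 := ⟨Sum.inl 0⟩
      exact Char2Omega.index_Omega (Q8 F) hQ8 (Or.inr (by rw [card_I8]; norm_num))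
    · intro W hW g
      exact PlusSplit.even_iff_mem_Omega_ts (m := 4) (Or.inr (by norm_num)) W hW.1 hW.2 g
    · intro v hv
      exact Char2Omega.refl_not_mem (Q8 F) hQ8 v hv
  · let ψ : O8 F →* Fˣ := (Matrix.GeneralLinearGroup.det).comp (Cfsg.isometryGroup F _).subtype
    have hψ : ∀ g : O8 F, g ∈ ψ.ker ↔ ((g : GL I8 F) : Matrix I8 I8 F).det = 1 := by
      intro g
      rw [MonoidHom.mem_ker]
      constructor
      · intro h
        have := congrArg Units.val h
        simpa [ψ] using this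
      · intro h
        apply Units.ext
        simpa [ψ] using h
    have hne : (-1 : F) ≠ 1 := by
      intro h
      apply h2
      linear_combination -h
    have hdr : ∀ (u : I8 → F) (hu : Q8 F u ≠ 0),
        (((reflG (Q8 F) u hu : O8 F) : GL I8 F) : Matrix I8 I8 F).det = -1 := by
      intro u hu
      rw [reflG_val]
      exact PlusTS.det_reflectionMatrix (Q8 F) u hu
    refine ⟨ψ.ker, ?_, ?_, ?_, ?_⟩
    · obtain ⟨u, hu⟩ : ∃ u : I8 → F, Q8 F u ≠ 0 := by
        haveI : Nonempty I8 := ⟨Sum.inl 0⟩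
        exact Char2Omega.exists_Q_ne_zero' (Q8 F) hQ8
      rw [Subgroup.index_eq_two_iff]
      refine ⟨reflG (Q8 F) u hu, fun b => ?_⟩
      have hdb : ((b : GL I8 F) : Matrix I8 I8 F).det = 1 ∨
          ((b : GL I8 F) : Matrix I8 I8 F).det = -1 := by
        have key := PlusTS.det_eq_pow (F := F) (m := 4)
        rw [← Cfsg.Agent.S0287.coe_plusQF] at key
        rw [key b]
        exact neg_one_pow_eq_or F _
      have hmul : (((b * reflG (Q8 F) u hu : O8 F) : GL I8 F) : Matrix I8 I8 F).det =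
          ((b : GL I8 F) : Matrix I8 I8 F).det * (-1) := by
        rw [← hdr u hu, ← Matrix.det_mul]
        rfl
      rw [hψ, hψ, hmul]
      rcases hdb with h | h
      · rw [h]
        right
        exact ⟨rfl, by rw [one_mul]; exact hne⟩
      · rw [h]
        left
        exact ⟨by ring, hne⟩
    · intro g hg
      rw [hψ]
      exact Cfsg.Agent.Lib.H11.OmPar.det_eq_one_of_mem_comm _ g hg
    · intro W hW g
      rw [hψ]
      exact Cfsg.Agent.Lib.H11.OmPar.even_iff_det_ts (m := 4) h2 W hW.1 hW.2 g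
    · intro v hv
      rw [hψ, hdr v hv]
      exact hne

/-- the three cosets of `Γ` in the automorphism group -/
theorem cosets_A8 (κ : O8 F) (hκ : ∃ (v : I8 → F) (hv : Q8 F v ≠ 0), κ = reflG (Q8 F) v hv)
    (θ : A8 F) : θ ∈ Γ8 F ∨ (trial F : A8 F)⁻¹ * θ ∈ Γ8 F ∨
      (cO κ * (trial F : A8 F))⁻¹ * θ ∈ Γ8 F := by
  obtain ⟨H, hH, hΩ, hrel, hrefl⟩ := exists_H' (F := F)
  have hκH : κ ∉ H := by
    obtain ⟨v, hv, rfl⟩ := hκ
    exact hrefl v hv
  set t : A8 F := trial F with ht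
  have htΓ : t ∉ Γ8 F := trial_not_mem_gamma
  obtain ⟨S, hS⟩ := (gamma_or_solid t).resolve_left htΓ
  have hS' : SolAt (cO κ * t) (gmap κ S) := hS.cO_mul κ
  have hnrel : ¬ SRel S (gmap κ S) := fun h => hκH ((hrel S hS.isSolid κ).1 h)
  rcases gamma_or_solid θ with h | ⟨Sθ, hθ⟩
  · exact Or.inl h
  right
  rcases srel_three hH hrel hθ.isSolid hS.isSolid hS'.isSolid with h | h | h
  · exact Or.inl (mem_gamma_of_srel hΩ hrel hθ hS h)
  · exact Or.inr (mem_gamma_of_srel hΩ hrel hθ hS' h)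
  · exact absurd h hnrel

/-- the reflection in the identity element is minus the conjugation -/
theorem Q8_oe : Q8 F (oe : I8 → F) ≠ 0 := by
  rw [Q8_apply, oN_oe]
  exact one_ne_zero

/-- the reflection `r_e` -/
noncomputable def rE (F : Type*) [Field F] : O8 F := reflG (Q8 F) oe (by
  rw [Q8_apply, oN_oe]; exact one_ne_zero)

theorem ov_rE (x : I8 → F) : ov (rE F) x = -okap x := by
  unfold rE
  rw [ov_reflG, oN_oe, inv_one, one_smul, oe_omul, omul_oe]

theorem rE_conj (A : O8 F) : rE F * A * (rE F)⁻¹ = hatO A := by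
  have hinv : (rE F)⁻¹ = rE F := by
    apply inv_eq_of_mul_eq_one_left
    apply ov_ext
    intro x
    rw [ov_mul, ov_rE, ov_rE, ov_one]
    have : okap (-okap x) = -x := by
      show Km (-okap x) = -x
      rw [map_neg, Km_apply, okap_okap]
    rw [this, neg_neg]
  rw [hinv]
  apply ov_ext
  intro x
  rw [ov_mul, ov_mul, ov_rE, ov_rE, ov_hatO, ov_neg]
  have : okap (-ov A (okap x)) = -okap (ov A (okap x)) := by
    show Km (-ov A (okap x)) = -Km (ov A (okap x))
    rw [map_neg]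
  rw [this, neg_neg]

theorem cO_pr (κ : O8 F) (A : Om8 F) (h : κ * A.1 * κ⁻¹ ∈ Cfsg.Omega F ⇑(Q8 F)) :
    cO κ (pr (Q8 F) A) = pr (Q8 F) ⟨κ * A.1 * κ⁻¹, h⟩ := by
  unfold cO
  have : semiAut ⇑(Q8 F) κ.1 (RingEquiv.refl F) (pair_of_O κ) (pr (Q8 F) A) =
    pr (Q8 F) (semiOmega ⇑(Q8 F) κ.1 (RingEquiv.refl F) (pair_of_O κ) A) :=
    semiAut_mk ⇑(Q8 F) _ _ _ A
  rw [this]
  congr 1

theorem cO_rE : cO (rE F) = cO (kapO F) := by
  apply MulEquiv.ext
  intro x
  obtain ⟨X, rfl⟩ := pr_surjective (Q8 F) x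
  rw [cO_kapO_pr, cO_pr (rE F) X (by rw [rE_conj]; exact hatO_mem_Omega X.2)]
  congr 1
  apply Subtype.ext
  exact rE_conj X.1

end

section

open Matrix QuadraticMap Module
open Cfsg.Agent.Lib.H13 Cfsg.Agent.Lib.H13.AutPO Cfsg.Agent.Lib.H13.HypPairs
open Cfsg.Agent.Lib.H11.ConfOrth
open scoped commutatorElement

section general

variable {F : Type*} [Field F] [Fintype F]

/-- the outer automorphism group of `PΩ⁺₈` -/
abbrev Out8 (F : Type*) [Field F] [Fintype F] : Type _ := Cfsg.Out (Cfsg.POmega F ⇑(Q8 F))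

/-- the projection onto the outer automorphism group -/
noncomputable abbrev π8 (F : Type*) [Field F] [Fintype F] : A8 F →* Out8 F :=
  QuotientGroup.mk' (Cfsg.Inn (Cfsg.POmega F ⇑(Q8 F)))

/-- the images of triality, the graph involution and the field automorphisms -/
noncomputable def aT (F : Type*) [Field F] [Fintype F] : Out8 F := π8 F (trial F)
noncomputable def bK (F : Type*) [Field F] [Fintype F] : Out8 F := π8 F (cO (rE F))
noncomputable def CF (F : Type*) [Field F] [Fintype F] : Subgroup (Out8 F) :=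
  ((fO8 F).range).map (π8 F)

theorem trial_mul_self : (trial F : A8 F) * trial F = 1 := by
  apply MulEquiv.ext
  intro x
  exact trial_trial x

theorem cO_rE_mul_self : cO (rE F) * cO (rE F) = 1 := by
  apply MulEquiv.ext
  intro x
  obtain ⟨X, rfl⟩ := pr_surjective (Q8 F) x
  rw [cO_rE, MulAut.mul_apply, cO_kapO_pr, cO_kapO_pr, MulAut.one_apply]
  congr 1
  apply Subtype.ext
  exact hatO_hatO X.1

theorem braid' : (trial F : A8 F) * cO (rE F) * trial F = cO (rE F) * trial F * cO (rE F) := by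
  apply MulEquiv.ext
  intro x
  rw [cO_rE]
  exact braid x

theorem aT_sq : aT F * aT F = 1 := by
  unfold aT
  rw [← map_mul, trial_mul_self, map_one]

theorem bK_sq : bK F * bK F = 1 := by
  unfold bK
  rw [← map_mul, cO_rE_mul_self, map_one]

theorem aba : aT F * bK F * aT F = bK F * aT F * bK F := by
  unfold aT bK
  rw [← map_mul, ← map_mul, braid', map_mul, map_mul]

theorem fO8_comm_trial (σ : F ≃+* F) : fO8 F σ * (trial F : A8 F) = trial F * fO8 F σ := by
  apply MulEquiv.ext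
  intro x
  exact fO8_trial σ x

theorem fO8_comm_cO (σ : F ≃+* F) : fO8 F σ * cO (rE F) = cO (rE F) * fO8 F σ := by
  apply MulEquiv.ext
  intro x
  rw [cO_rE]
  exact fO8_cO σ x

theorem mem_CF {c : Out8 F} : c ∈ CF F ↔ ∃ σ : F ≃+* F, π8 F (fO8 F σ) = c := by
  unfold CF
  rw [Subgroup.mem_map]
  constructor
  · rintro ⟨_, ⟨σ, rfl⟩, rfl⟩
    exact ⟨σ, rfl⟩
  · rintro ⟨σ, rfl⟩
    exact ⟨_, ⟨σ, rfl⟩, rfl⟩

theorem hc7_8 : 7 ≤ Fintype.card I8 := hn7

/-- the field automorphism component on `Γ` -/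
theorem psiG_fO8 (σ : F ≃+* F) :
    psiG (Q8 F) hQ8 hn7 ⟨fO8 F σ, semiAut_mem (Q8 F) _ _ _⟩ = σ :=
  psiG_apply (Q8 F) hQ8 hn7 _

/-- the field automorphisms inject into `Out` -/
theorem fieldOut8_injective : Function.Injective ((π8 F).comp (fO8 F)) := by
  rw [injective_iff_map_eq_one]
  intro σ hσ
  have h1 : fO8 F σ ∈ Cfsg.Inn (Cfsg.POmega F ⇑(Q8 F)) := by
    have : π8 F (fO8 F σ) = 1 := hσ
    exact (QuotientGroup.eq_one_iff _).1 this
  have h2 : fO8 F σ ∈ (Phi ⇑(Q8 F)).range := by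
    rw [← pgoAut_eq]
    exact inn_le_pgo (Q8 F) h1
  have h3 : (⟨fO8 F σ, semiAut_mem (Q8 F) _ _ _⟩ : ↥(Γ8 F)) ∈ (psiG (Q8 F) hQ8 hn7).ker := by
    rw [psiG_ker, Subgroup.mem_subgroupOf]
    exact h2
  rw [MonoidHom.mem_ker, psiG_fO8] at h3
  exact h3

theorem card_CF {p f : ℕ} [Fact p.Prime] [CharP F p] (hF : Fintype.card F = p ^ f) :
    Nat.card ↥(CF F) = f := by
  have h1 : CF F = ((π8 F).comp (fO8 F)).range := by
    unfold CF
    rw [MonoidHom.range_eq_map, MonoidHom.range_eq_map, ← Subgroup.map_map]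
  rw [h1, ← Nat.card_congr (MonoidHom.ofInjective fieldOut8_injective).toEquiv,
    AutPSL.card_ringAut p hF]

theorem CF_equiv {p f : ℕ} [Fact p.Prime] [CharP F p] (hF : Fintype.card F = p ^ f) :
    Nonempty (↥(CF F) ≃* Multiplicative (ZMod f)) := by
  have h1 : CF F = ((π8 F).comp (fO8 F)).range := by
    unfold CF
    rw [MonoidHom.range_eq_map, MonoidHom.range_eq_map, ← Subgroup.map_map]
  rw [h1]
  exact ⟨(MonoidHom.ofInjective fieldOut8_injective).symm.trans (AutPSL.ringAutEquiv p hF)⟩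

/-- elements of `Γ` are products of elements of `PGO` and field automorphisms -/
theorem gamma_decomp {γ : A8 F} (hγ : γ ∈ Γ8 F) :
    ∃ σ : F ≃+* F, ∃ n ∈ (Phi ⇑(Q8 F)).range, γ = n * fO8 F σ := by
  set σ := psiG (Q8 F) hQ8 hn7 ⟨γ, hγ⟩ with hσ
  refine ⟨σ, γ * (fO8 F σ)⁻¹, ?_, by group⟩
  have h1 : (⟨γ, hγ⟩ * (⟨fO8 F σ, semiAut_mem (Q8 F) _ _ _⟩ : ↥(Γ8 F))⁻¹ : ↥(Γ8 F)) ∈
      (psiG (Q8 F) hQ8 hn7).ker := by
    rw [MonoidHom.mem_ker, map_mul, map_inv, psiG_fO8, ← hσ, mul_inv_cancel]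
  rw [psiG_ker, Subgroup.mem_subgroupOf] at h1
  exact h1

theorem card_Out8 {p f : ℕ} [Fact p.Prime] (hf : 1 ≤ f) (hF : Fintype.card F = p ^ f) :
    Nat.card (Out8 F) = 3 * (if p = 2 then 2 else 8) * f := by
  have h1 := card_aut_plus (F := F) (m := 4) p f hf hF (le_refl 4)
  rw [if_pos rfl] at h1
  have h2 : ¬ (Odd 4 ∧ p ^ f % 4 = 3) := by
    rintro ⟨h, -⟩
    revert h
    decide
  rw [if_neg h2] at h1
  have h3 := Subgroup.card_eq_card_quotient_mul_card_subgroup (Cfsg.Inn (Cfsg.POmega F ⇑(Q8 F)))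
  rw [card_inn_pomega (Q8 F) hQ8 hn7] at h3
  have hpos : 0 < Nat.card (Cfsg.POmega F ⇑(Q8 F)) := Nat.card_pos
  have h4 : Nat.card (Out8 F) * Nat.card (Cfsg.POmega F ⇑(Q8 F)) =
      (3 * (if p = 2 then 2 else 8) * f) * Nat.card (Cfsg.POmega F ⇑(Q8 F)) := by
    rw [← h1]
    exact h3.symm
  exact Nat.eq_of_mul_eq_mul_right hpos h4

end general

end

section

open Matrix QuadraticMap Module
open Cfsg.Agent.Lib.H13 Cfsg.Agent.Lib.H13.AutPO Cfsg.Agent.Lib.H13.HypPairs
open Cfsg.Agent.Lib.H11.ConfOrth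
open scoped commutatorElement

section general

variable {F : Type*} [Field F] [Fintype F]

theorem cO_eq_PhiO (κ : O8 F) : cO κ = PhiO (Q8 F) κ := by
  unfold cO PhiO
  exact semiAut_refl ⇑(Q8 F) ⟨κ.1, iso_le_sim ⇑(Q8 F) κ.2⟩

/-- the field automorphisms are central as soon as they centralise the image of `PGO` -/
theorem CF_central
    (hN : ∀ n ∈ (Phi ⇑(Q8 F)).range, ∀ σ : F ≃+* F,
      π8 F (fO8 F σ) * π8 F n = π8 F n * π8 F (fO8 F σ)) :
    CF F ≤ Subgroup.center (Out8 F) := by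
  intro c hc
  obtain ⟨σ, rfl⟩ := mem_CF.1 hc
  rw [Subgroup.mem_center_iff]
  intro g
  obtain ⟨θ, rfl⟩ := QuotientGroup.mk'_surjective _ g
  have hcomm : ∀ τ : F ≃+* F, fO8 F τ * fO8 F σ = fO8 F σ * fO8 F τ := by
    intro τ
    obtain ⟨p, hp⟩ := CharP.exists F
    haveI := hp
    haveI : Fact p.Prime := ⟨CharP.char_is_prime F p⟩
    obtain ⟨f, hF⟩ : ∃ f, Fintype.card F = p ^ f := by
      obtain ⟨n, hn⟩ := FiniteField.card F p
      exact ⟨n, hn.2⟩
    have e := AutPSL.ringAutEquiv (F := F) p hF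
    have : τ * σ = σ * τ := by
      apply e.injective
      rw [map_mul, map_mul, mul_comm]
    rw [← map_mul, ← map_mul, this]
  have hΓ : ∀ γ ∈ Γ8 F, π8 F γ * π8 F (fO8 F σ) = π8 F (fO8 F σ) * π8 F γ := by
    intro γ hγ
    obtain ⟨τ, n, hn, rfl⟩ := gamma_decomp hγ
    rw [map_mul, mul_assoc, ← map_mul (π8 F) (fO8 F τ), hcomm τ, map_mul, ← mul_assoc,
      ← hN n hn σ, mul_assoc]
  have ht : π8 F (trial F) * π8 F (fO8 F σ) = π8 F (fO8 F σ) * π8 F (trial F) := by
    rw [← map_mul, ← map_mul, fO8_comm_trial]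
  have hk : π8 F (cO (rE F)) * π8 F (fO8 F σ) = π8 F (fO8 F σ) * π8 F (cO (rE F)) := by
    rw [← map_mul, ← map_mul, fO8_comm_cO]
  have key2 : ∀ x y c : Out8 F, x * c = c * x → y * c = c * y → x * y * c = c * (x * y) := by
    intro x y c h1 h2
    rw [mul_assoc, h2, ← mul_assoc, h1, mul_assoc]
  rcases cosets_A8 (rE F) ⟨oe, Q8_oe, rfl⟩ θ with h | h | h
  · exact hΓ θ h
  · have e : π8 F θ = π8 F (trial F) * π8 F ((trial F : A8 F)⁻¹ * θ) := by
      rw [← map_mul, mul_inv_cancel_left]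
    show π8 F θ * π8 F (fO8 F σ) = π8 F (fO8 F σ) * π8 F θ
    rw [e]
    exact key2 _ _ _ ht (hΓ _ h)
  · have e : π8 F θ = π8 F (cO (rE F)) * (π8 F (trial F) *
        π8 F ((cO (rE F) * (trial F : A8 F))⁻¹ * θ)) := by
      rw [← map_mul, ← map_mul, ← mul_assoc, mul_inv_cancel_left]
    show π8 F θ * π8 F (fO8 F σ) = π8 F (fO8 F σ) * π8 F θ
    rw [e]
    exact key2 _ _ _ hk (key2 _ _ _ ht (hΓ _ h))

end general

section char2

variable {F : Type*} [Field F] [Fintype F] [CharP F 2]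

/-- in characteristic two, `PGO` is `Inn ∪ c_r Inn` -/
theorem range_Phi_two {n : A8 F} (hn : n ∈ (Phi ⇑(Q8 F)).range) :
    π8 F n = 1 ∨ π8 F n = bK F := by
  rw [← PhiO_range2 (Q8 F) hQ8 hn7] at hn
  obtain ⟨s, rfl⟩ := hn
  rcases Char2Omega.abel_cases (Q8 F) hQ8 (Or.inr (by rw [card_I8]; norm_num)) oe Q8_oe s
    with h | h
  · left
    rw [QuotientGroup.mk'_apply, QuotientGroup.eq_one_iff]
    exact (mem_inn_iff2 (Q8 F) hQ8 hn7 s).2 h
  · right
    have h1 : PhiO (Q8 F) (rE F * s) ∈ Cfsg.Inn (Cfsg.POmega F ⇑(Q8 F)) :=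
      (mem_inn_iff2 (Q8 F) hQ8 hn7 _).2 h
    have h2 : π8 F (PhiO (Q8 F) (rE F * s)) = 1 := by
      rw [QuotientGroup.mk'_apply, QuotientGroup.eq_one_iff]
      exact h1
    rw [map_mul, map_mul, ← cO_eq_PhiO] at h2
    have h3 : bK F * π8 F (PhiO (Q8 F) s) = 1 := h2
    calc π8 F (PhiO (Q8 F) s) = bK F * (bK F * π8 F (PhiO (Q8 F) s)) := by
          rw [← mul_assoc, bK_sq, one_mul]
      _ = bK F := by rw [h3, mul_one]

/-- **`Out(PΩ⁺₈(2^f)) ≅ S₃ × C_f`** -/
theorem out8_two {f : ℕ} (hf : 1 ≤ f) (hF : Fintype.card F = 2 ^ f) :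
    Nonempty (Out8 F ≃* Equiv.Perm (Fin 3) × Multiplicative (ZMod f)) := by
  haveI : Fact (Nat.Prime 2) := ⟨Nat.prime_two⟩
  haveI : Finite (Out8 F) := by
    haveI : Finite (Cfsg.POmega F ⇑(Q8 F)) := by
      unfold Cfsg.POmega
      infer_instance
    haveI : Finite (A8 F) := Finite.of_injective
      (fun f : A8 F => (f : Cfsg.POmega F ⇑(Q8 F) → Cfsg.POmega F ⇑(Q8 F)))
      (fun f g h => MulEquiv.ext (congrFun h))
    infer_instance
  have hbmem : bK F ∈ Subgroup.closure ({aT F, bK F} : Set (Out8 F)) :=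
    Subgroup.subset_closure (by simp)
  have hamem : aT F ∈ Subgroup.closure ({aT F, bK F} : Set (Out8 F)) :=
    Subgroup.subset_closure (by simp)
  -- the centre
  have hcen : CF F ≤ Subgroup.center (Out8 F) := by
    apply CF_central
    intro n hn σ
    rcases range_Phi_two hn with h | h
    · rw [h, mul_one, one_mul]
    · rw [h]
      unfold bK
      rw [← map_mul, ← map_mul, fO8_comm_cO]
  -- generation
  have hgenΓ : ∀ γ ∈ Γ8 F, ∃ k ∈ Subgroup.closure ({aT F, bK F} : Set (Out8 F)),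
      ∃ c ∈ CF F, π8 F γ = k * c := by
    intro γ hγ
    obtain ⟨τ, n, hn, rfl⟩ := gamma_decomp hγ
    rw [map_mul]
    rcases range_Phi_two hn with h | h
    · exact ⟨1, Subgroup.one_mem _, _, mem_CF.2 ⟨τ, rfl⟩, by rw [h]⟩
    · exact ⟨bK F, hbmem, _, mem_CF.2 ⟨τ, rfl⟩, by rw [h]⟩
  have hgen : ∀ g : Out8 F, ∃ k ∈ Subgroup.closure ({aT F, bK F} : Set (Out8 F)),
      ∃ c ∈ CF F, g = k * c := by
    intro g
    obtain ⟨θ, rfl⟩ := QuotientGroup.mk'_surjective _ g
    rcases cosets_A8 (rE F) ⟨oe, Q8_oe, rfl⟩ θ with h | h | h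
    · exact hgenΓ θ h
    · obtain ⟨k, hk, c, hc, e⟩ := hgenΓ _ h
      refine ⟨aT F * k, Subgroup.mul_mem _ hamem hk, c, hc, ?_⟩
      have e' : θ = trial F * ((trial F : A8 F)⁻¹ * θ) := (mul_inv_cancel_left _ _).symm
      show π8 F θ = _
      rw [e', map_mul, e, mul_assoc]
      rfl
    · obtain ⟨k, hk, c, hc, e⟩ := hgenΓ _ h
      refine ⟨bK F * (aT F * k), Subgroup.mul_mem _ hbmem (Subgroup.mul_mem _ hamem hk), c, hc, ?_⟩
      have e' : θ = cO (rE F) * (trial F * ((cO (rE F) * (trial F : A8 F))⁻¹ * θ)) := by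
        rw [← mul_assoc, mul_inv_cancel_left]
      show π8 F θ = _
      rw [e', map_mul, map_mul, e, mul_assoc, mul_assoc]
      rfl
  have hcard : Nat.card (Out8 F) = 6 * Nat.card ↥(CF F) := by
    rw [card_Out8 (p := 2) hf hF, if_pos rfl, card_CF (p := 2) hF]
  obtain ⟨e⟩ := s3_times (CF F) hcen (aT F) (bK F) aT_sq bK_sq aba hgen hcard
  obtain ⟨e2⟩ := CF_equiv (p := 2) hF
  exact ⟨e.trans (MulEquiv.prodCongr (MulEquiv.refl _) e2)⟩

end char2

end

section

open Matrix QuadraticMap Module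
open Cfsg.Agent.Lib.H13 Cfsg.Agent.Lib.H13.AutPO Cfsg.Agent.Lib.H13.HypPairs
open Cfsg.Agent.Lib.H11.ConfOrth
open scoped commutatorElement

section char2gen

variable {F : Type*} [Field F] [Fintype F] [CharP F 2] {ι : Type} [Fintype ι] [DecidableEq ι]
variable (Q : QuadraticForm F (ι → F))
variable (hQ : (polarBilin Q).Nondegenerate) (hcard : 7 ≤ Fintype.card ι)
variable (hall : Cfsg.gammaPOmega F ⇑Q = ⊤)
variable (hstd : ∀ σ : F ≃+* F, Cfsg.IsSemisimilarityPair ⇑Q 1 σ)

/-- the induced map `Out(PΩ) → Aut(F)` -/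
noncomputable def psiOutA : Cfsg.Out (Cfsg.POmega F ⇑Q) →* (F ≃+* F) :=
  QuotientGroup.lift _ (psiA Q hQ hcard hall) (inn_le_kerA Q hQ hcard hall)

theorem psiOutA_fieldOut (σ : F ≃+* F) :
    psiOutA Q hQ hcard hall (fieldOut Q hstd σ) = σ := by
  unfold psiOutA fieldOut
  rw [MonoidHom.comp_apply, QuotientGroup.mk'_apply, QuotientGroup.lift_mk]
  exact psiA_apply Q hQ hcard hall _

include hQ hcard hall hstd in
/-- in characteristic two, when every automorphism is semilinear, `Out ≅ C₂ × C_f` -/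
theorem out_two_general {f : ℕ} (hf : 1 ≤ f) (hF : Fintype.card F = 2 ^ f) :
    Nonempty (Cfsg.Out (Cfsg.POmega F ⇑Q) ≃* Multiplicative (ZMod 2 × ZMod f)) := by
  haveI : Fact (Nat.Prime 2) := ⟨Nat.prime_two⟩
  have hcO : Nat.card (Cfsg.Out (Cfsg.POmega F ⇑Q)) = 2 * f := by
    have h1 := card_aut_all Q hQ hcard hall (fun σ => ⟨1, hstd σ⟩) (p := 2) hF
    rw [card_Phi_range2 Q hQ hcard] at h1
    have h3 := Subgroup.card_eq_card_quotient_mul_card_subgroup (Cfsg.Inn (Cfsg.POmega F ⇑Q))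
    rw [card_inn_pomega Q hQ hcard, h1] at h3
    have hpos : 0 < Nat.card (Cfsg.POmega F ⇑Q) := Nat.card_pos
    have h4 : f * (2 * Nat.card (Cfsg.POmega F ⇑Q)) = (2 * f) * Nat.card (Cfsg.POmega F ⇑Q) := by
      ring
    rw [h4] at h3
    exact (Nat.eq_of_mul_eq_mul_right hpos h3).symm
  set Ψ := psiOutA Q hQ hcard hall with hΨ
  have hsurj : Function.Surjective Ψ := fun σ => ⟨_, psiOutA_fieldOut Q hQ hcard hall hstd σ⟩
  have hcK : Nat.card ↥Ψ.ker = 2 := by
    have h1 := AutPSL.card_of_surjective_ker Ψ hsurj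
    rw [hcO, AutPSL.card_ringAut 2 hF] at h1
    have : f * 2 = f * Nat.card ↥Ψ.ker := by rw [← h1]; ring
    exact (Nat.eq_of_mul_eq_mul_left (by omega) this).symm
  have hcen : Ψ.ker ≤ Subgroup.center _ := le_center_of_card_two _ hcK
  obtain ⟨e⟩ := nonempty_mulEquiv_prod_of_split Ψ (fieldOut Q hstd)
    (psiOutA_fieldOut Q hQ hcard hall hstd) hcen
  have e2 : ↥Ψ.ker ≃* Multiplicative (ZMod 2) :=
    mulEquivOfPrimeCardEq (p := 2) hcK (by rw [Nat.card_eq_fintype_card]; simp)
  exact ⟨e.symm.trans ((MulEquiv.prodCongr e2 (AutPSL.ringAutEquiv 2 hF)).trans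
    (MulEquiv.prodMultiplicative _ _).symm)⟩

end char2gen

section final

variable {F : Type*} [Field F] [Fintype F]

/-- S2607 -/
theorem out_plus_two {f m : ℕ} (hf : 1 ≤ f) (hF : Fintype.card F = 2 ^ f) (hm : 4 ≤ m) :
    if m = 4 then
      Nonempty (Cfsg.Out (Cfsg.POmega F ⇑(plusQF F m)) ≃*
        Equiv.Perm (Fin 3) × Multiplicative (ZMod f))
    else
      Nonempty (Cfsg.Out (Cfsg.POmega F ⇑(plusQF F m)) ≃* Multiplicative (ZMod 2 × ZMod f)) := by
  haveI : Fact (Nat.Prime 2) := ⟨Nat.prime_two⟩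
  haveI := charP_of_card (p := 2) hF
  by_cases h4 : m = 4
  · subst h4
    rw [if_pos rfl]
    exact out8_two hf hF
  · rw [if_neg h4]
    have hQ := Cfsg.Agent.S0287.nondeg (F := F) m
    have hc7 := card_K_ge (m := m) hm
    exact out_two_general (plusQF F m) hQ hc7 (hall_plus (by omega))
      (fun σ => pair_one_of_sigEq _ _ (sigEq_plus σ)) hf hF

end final

end

end Cfsg.Agent.Lib.H13.Tri
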