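import Mathlib
import Cfsg.Agent.Lib.H13.Tri8

/-!
Triality, part 9 (helper13): outer automorphisms of `PΩ⁺_{2m}(q)`, `q` odd, `m ≥ 5`. An abstract splitting lemma for a cyclic
quotient generated by an element acting on the kernel trivially or like a commuting involution of the kernel
(`split_twisted`); the entrywise action of a field automorphism on reflections (`glmap_reflG`); generation of the similarity
group in odd characteristic (`sim_gen`); the action of a field automorphism on `PGO / PΩ` (`field_act_A`, `field_act_B`);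
the resulting splitting `Out ≅ (PGO/PΩ) × C_f` (`out_split_odd`) and `out_plus_odd_big`.
-/

set_option autoImplicit false
set_option linter.unusedSectionVars false
set_option linter.unusedVariables false
set_option linter.unusedSimpArgs false
set_option linter.deprecated false

namespace Cfsg.Agent.Lib.H13.Tri

section

open Cfsg.Agent.Lib.H13.AutPO

section abstract

variable {G : Type*} [Group G]

/-- splitting a cyclic quotient by a (possibly twisted) complement centralising the kernel -/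
theorem split_twisted [Finite G] {H : Type*} [Group H] (ψ : G →* H) (hψ : Function.Surjective ψ)
    (f : ℕ) (hf : 0 < f) (hH : Nat.card H = f) (φ r : G)
    (hgen : ∀ h : H, h ∈ Subgroup.zpowers (ψ φ)) (hφf : φ ^ f = 1)
    (hr : r ∈ ψ.ker) (hrr : r * r = 1) (hφr : φ * r = r * φ)
    (hact : (∀ x ∈ ψ.ker, φ * x * φ⁻¹ = x) ∨ (∀ x ∈ ψ.ker, φ * x * φ⁻¹ = r * x * r⁻¹)) :
    ∃ K : Subgroup G, Nat.card ↥K = f ∧ IsCyclic ↥K ∧ Nonempty (↥ψ.ker × ↥K ≃* G) := by
  haveI : Finite H := Finite.of_surjective ψ hψ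
  have hri : r⁻¹ = r := inv_eq_of_mul_eq_one_left hrr
  -- reduce to an element `y` centralising the kernel
  obtain ⟨y, hyψ, hyf, hycen⟩ : ∃ y : G, ψ y = ψ φ ∧ y ^ f = 1 ∧ ∀ x ∈ ψ.ker, y * x = x * y := by
    rcases hact with h | h
    · refine ⟨φ, rfl, hφf, fun x hx => ?_⟩
      have := h x hx
      calc φ * x = φ * x * φ⁻¹ * φ := by group
        _ = x * φ := by rw [this]
    · by_cases hrc : ∀ x ∈ ψ.ker, r * x = x * r
      · refine ⟨φ, rfl, hφf, fun x hx => ?_⟩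
        have h1 := h x hx
        have h2 : r * x * r⁻¹ = x := by rw [hrc x hx, mul_inv_cancel_right]
        rw [h2] at h1
        calc φ * x = φ * x * φ⁻¹ * φ := by group
          _ = x * φ := by rw [h1]
      · -- `f` is even
        push Not at hrc
        obtain ⟨x₀, hx₀, hx₀r⟩ := hrc
        have hpow : ∀ k : ℕ, ∀ x ∈ ψ.ker, φ ^ k * x * (φ ^ k)⁻¹ = r ^ k * x * (r ^ k)⁻¹ := by
          intro k
          induction k with
          | zero => intro x _; simp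
          | succ k ih =>
            intro x hx
            have hx' : r ^ k * x * (r ^ k)⁻¹ ∈ ψ.ker := by
              have hn : ψ.ker.Normal := inferInstance
              exact hn.conj_mem x hx (r ^ k)
            have h1 : φ ^ (k + 1) * x * (φ ^ (k + 1))⁻¹ =
                φ * (φ ^ k * x * (φ ^ k)⁻¹) * φ⁻¹ := by
              rw [pow_succ']; group
            rw [h1, ih x hx, h _ hx', pow_succ']
            group
        have hfe : Even f := by
          rcases Nat.even_or_odd f with he | ho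
          · exact he
          exfalso
          obtain ⟨j, hj⟩ := ho
          have h1 := hpow f x₀ hx₀
          rw [hφf, inv_one, mul_one, one_mul] at h1
          have h2 : r ^ f = r := by
            rw [hj, pow_succ, pow_mul, pow_two, hrr, one_pow, one_mul]
          rw [h2, hri] at h1
          apply hx₀r
          calc r * x₀ = r * x₀ * r * r := by rw [mul_assoc (r * x₀), hrr, mul_one]
            _ = x₀ * r := by rw [← h1]
        obtain ⟨j, hj⟩ := hfe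
        have hrf : r ^ f = 1 := by
          rw [hj, ← two_mul, pow_mul, pow_two, hrr, one_pow]
        refine ⟨φ * r, ?_, ?_, fun x hx => ?_⟩
        · rw [map_mul, MonoidHom.mem_ker.1 hr, mul_one]
        · rw [(Commute.mul_pow (show Commute φ r from hφr)), hφf, hrf, mul_one]
        · have hx' : r * x * r⁻¹ ∈ ψ.ker := by
            have hn : ψ.ker.Normal := inferInstance
            exact hn.conj_mem x hx r
          have h1 := h _ hx'
          have h2 : r * (r * x * r⁻¹) * r⁻¹ = x := by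
            rw [hri]
            calc r * (r * x * r) * r = (r * r) * x * (r * r) := by group
              _ = x := by rw [hrr, one_mul, mul_one]
          rw [h2] at h1
          -- `φ (r x r⁻¹) φ⁻¹ = x`
          calc φ * r * x = φ * (r * x * r⁻¹) * φ⁻¹ * (φ * r) := by group
            _ = x * (φ * r) := by rw [h1]
  -- the complement
  have hgen' : ∀ h : H, h ∈ Subgroup.zpowers (ψ y) := by rw [hyψ]; exact hgen
  have hordH : orderOf (ψ y) = f := by
    have h1 : Subgroup.zpowers (ψ y) = ⊤ := by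
      rw [eq_top_iff]; intro h _; exact hgen' h
    rw [← Nat.card_zpowers, h1, Subgroup.card_top, hH]
  have hord : orderOf y = f := by
    apply Nat.dvd_antisymm
    · exact orderOf_dvd_of_pow_eq_one hyf
    · rw [← hordH]
      exact orderOf_map_dvd ψ y
  set K := Subgroup.zpowers y with hK
  have hKcard : Nat.card ↥K = f := by rw [hK, Nat.card_zpowers, hord]
  have hdisj : ψ.ker ⊓ K = ⊥ := by
    rw [eq_bot_iff]
    rintro x ⟨hx1, hx2⟩
    obtain ⟨k, rfl⟩ := Subgroup.mem_zpowers_iff.1 hx2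
    have h1 : ψ y ^ k = 1 := by
      have := MonoidHom.mem_ker.1 hx1
      rwa [map_zpow] at this
    have h2 : (f : ℤ) ∣ k := by
      rw [← hordH]
      exact orderOf_dvd_iff_zpow_eq_one.2 h1
    rw [Subgroup.mem_bot]
    rw [← hord] at h2
    exact orderOf_dvd_iff_zpow_eq_one.1 h2
  have hcomm : ∀ h ∈ ψ.ker, ∀ k ∈ K, h * k = k * h := by
    intro x hx k hk
    obtain ⟨j, rfl⟩ := Subgroup.mem_zpowers_iff.1 hk
    have : Commute y x := hycen x hx
    exact ((this.zpow_left j).eq).symm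
  have hcard : Nat.card ↥ψ.ker * Nat.card ↥K = Nat.card G := by
    rw [hKcard, AutPSL.card_of_surjective_ker ψ hψ, hH, mul_comm]
  refine ⟨K, hKcard, ?_, mulEquiv_prod_of_disjoint ψ.ker K hcomm hdisj hcard⟩
  rw [hK]
  infer_instance

end abstract

end

section

open Matrix QuadraticMap Module
open Cfsg.Agent.Lib.H13 Cfsg.Agent.Lib.H13.AutPO Cfsg.Agent.Lib.H13.HypPairs
open Cfsg.Agent.Lib.H11.ConfOrth
open scoped commutatorElement

section glrefl

variable {F : Type*} [Field F] {ι : Type} [Fintype ι] [DecidableEq ι]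
variable (Q : QuadraticForm F (ι → F)) (σ : F ≃+* F) (hσQ : SigEq σ Q)

include hσQ in
theorem sigEq_polar (x y : ι → F) : polar (⇑Q) (vmap σ x) (vmap σ y) = σ (polar (⇑Q) x y) := by
  unfold polar
  rw [← vmap_add, hσQ, hσQ, hσQ, map_sub, map_sub]

include hσQ in
theorem glmap_reflG (v : ι → F) (hv : Q v ≠ 0) (hv' : Q (vmap σ v) ≠ 0) :
    glmap σ (reflG Q v hv).1 = (reflG Q (vmap σ v) hv').1 := by
  apply Units.ext
  rw [glmap_val, reflG_val, reflG_val]
  apply Matrix.ext_iff_mulVec.mpr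
  intro x
  have hx : x = vmap σ (vmap σ.symm x) := (vmap_vmap_symm σ x).symm
  rw [hx, map_mulVec_vmap, Cfsg.Agent.Lib.H4.reflectionMatrix_mulVec,
    Cfsg.Agent.Lib.H4.reflectionMatrix_mulVec, sigEq_polar Q σ hσQ, hσQ]
  funext i
  simp only [vmap_apply, Pi.sub_apply, Pi.smul_apply, smul_eq_mul, map_sub, map_mul, map_inv₀]

end glrefl

section simgen

variable {F : Type*} [Field F] [Fintype F] {ι : Type} [Fintype ι] [DecidableEq ι]
variable (Q : QuadraticForm F (ι → F))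

/-- the inclusion of the isometry group in the similarity group -/
def oSHom : ↥(Cfsg.isometryGroup F ⇑Q) →* ↥(Sim ⇑Q) where
  toFun h := oS Q h.1 h.2
  map_one' := rfl
  map_mul' _ _ := rfl

theorem oSHom_val (h : ↥(Cfsg.isometryGroup F ⇑Q)) : (oSHom Q h).1 = h.1 := rfl

/-- in odd characteristic the similarity group is generated by the scalars, the reflections and
one similarity with non-square multiplier -/
theorem sim_gen (hQ : (polarBilin Q).Nondegenerate) (h2 : (2 : F) ≠ 0) (hne : ∃ v, Q v ≠ 0)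
    (S : Subgroup ↥(Sim ⇑Q)) (hz : ∀ c : Fˣ, zS Q c ∈ S)
    (hr : ∀ (v : ι → F) (hv : Q v ≠ 0), oSHom Q (reflG Q v hv) ∈ S)
    (d : ↥(Sim ⇑Q)) (hd : ¬ IsSquare (mult (⇑Q) hne d : F)) (hdS : d ∈ S) :
    ∀ g : ↥(Sim ⇑Q), g ∈ S := by
  -- isometries
  have hiso : ∀ h : ↥(Cfsg.isometryGroup F ⇑Q), oSHom Q h ∈ S := by
    intro h
    have h1 : h ∈ Subgroup.closure (Char2Mat.reflSet Q) := by
      rw [closure_reflSet_odd Q hQ h2]; exact Subgroup.mem_top _
    have h3 : Subgroup.closure (Char2Mat.reflSet Q) ≤ S.comap (oSHom Q) := by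
      rw [Subgroup.closure_le]
      rintro r ⟨v, hv, hrv⟩
      have : r = reflG Q v hv := by
        apply Subtype.ext
        apply Units.ext
        rw [hrv, reflG_val]
      rw [this]
      exact hr v hv
    exact h3 h1
  -- square multipliers
  have hsq : ∀ g : ↥(Sim ⇑Q), IsSquare (mult (⇑Q) hne g : F) → g ∈ S := by
    rintro g ⟨r, hr'⟩
    have hr0 : r ≠ 0 := by
      rintro rfl
      rw [mul_zero] at hr'
      exact Units.ne_zero _ hr'
    set c : Fˣ := Units.mk0 r hr0 with hc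
    have hmc : mult (⇑Q) hne g = c ^ 2 := by
      apply Units.ext
      rw [hr', Units.val_pow_eq_pow_val, hc, Units.val_mk0, _root_.sq]
    have h1 : mult (⇑Q) hne ((zS Q c)⁻¹ * g) = 1 := by
      rw [map_mul, map_inv, mult_zS, hmc, inv_mul_cancel]
    have h3 := (mult_eq_one_iff (⇑Q) hne _).1 h1
    have h4 : (zS Q c)⁻¹ * g = oSHom Q ⟨((zS Q c)⁻¹ * g).1, h3⟩ := rfl
    have h5 : g = zS Q c * ((zS Q c)⁻¹ * g) := (mul_inv_cancel_left _ _).symm
    rw [h5]
    apply S.mul_mem (hz c)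
    rw [h4]
    exact hiso _
  intro g
  by_cases hg : IsSquare (mult (⇑Q) hne g : F)
  · exact hsq g hg
  · have h1 : IsSquare (mult (⇑Q) hne (g * d⁻¹) : F) := by
      rw [map_mul, map_inv, Units.val_mul]
      have hd' : ¬ IsSquare ((mult (⇑Q) hne d)⁻¹ : Fˣ).1 := by
        intro h
        apply hd
        have := h.inv
        rwa [← Units.val_inv_eq_inv_val, inv_inv] at this
      exact SOIndexTwo.isSquare_mul_of_not _ _ (Units.ne_zero _) (Units.ne_zero _) hg hd'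
    have h3 : g = g * d⁻¹ * d := (inv_mul_cancel_right _ _).symm
    rw [h3]
    exact S.mul_mem (hsq _ h1) hdS

end simgen

section fieldact

variable {F : Type*} [Field F] [Fintype F] {ι : Type} [Fintype ι] [DecidableEq ι]
variable (Q : QuadraticForm F (ι → F)) (σ : F ≃+* F) (hσQ : SigEq σ Q)

/-- `gmS` as a homomorphism -/
def gmSHom : ↥(Sim ⇑Q) →* ↥(Sim ⇑Q) where
  toFun := gmS Q σ hσQ
  map_one' := Subtype.ext (map_one (glmap σ))
  map_mul' a b := Subtype.ext (map_mul (glmap σ) a.1 b.1)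

theorem gmSHom_apply (g : ↥(Sim ⇑Q)) : gmSHom Q σ hσQ g = gmS Q σ hσQ g := rfl

theorem gmS_val (g : ↥(Sim ⇑Q)) : (gmS Q σ hσQ g).1 = glmap σ g.1 := rfl

variable (hQ : (polarBilin Q).Nondegenerate) (h2 : (2 : F) ≠ 0) (m : ℕ) (hm : 4 ≤ m)
  (hcard : Fintype.card ι = 2 * m) (hne : ∃ v, Q v ≠ 0)

include hQ h2 hm hcard in
theorem Phi_mem_inn_of (g : ↥(Sim ⇑Q)) (c : Fˣ) (ω : GL ι F) (hω : ω ∈ Cfsg.Geo.omegaGL ⇑Q)
    (hg : g.1 = Matrix.GeneralLinearGroup.scalar ι c * ω) :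
    Phi ⇑Q g ∈ Cfsg.Inn (Cfsg.POmega F ⇑Q) := by
  rw [inn_eq]
  have := (mem_comap_map Q (ker_Phi_main Q hQ h2 m hm hcard) (Cfsg.Geo.omegaGL ⇑Q) g).2
    ⟨c, ω, hω, hg⟩
  exact this

include hQ h2 hm hcard in
theorem Phi_zS (c : Fˣ) (g : ↥(Sim ⇑Q)) (hg : g.1 = Matrix.GeneralLinearGroup.scalar ι c) :
    Phi ⇑Q g = 1 := by
  have h1 : g ∈ (Phi ⇑Q).ker := by
    rw [ker_Phi_main Q hQ h2 m hm hcard, Subgroup.mem_subgroupOf, mem_Zs_iff]
    exact ⟨c, hg⟩
  exact h1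

omit [Fintype F] in
theorem reflG_inv' (v : ι → F) (hv : Q v ≠ 0) : (reflG Q v hv)⁻¹ = reflG Q v hv := by
  apply inv_eq_of_mul_eq_one_left
  apply Subtype.ext
  apply Units.ext
  exact refl_mul_self Q v hv

include hQ h2 hm hcard in
theorem refl_pair_mem (u v : ι → F) (hu : Q u ≠ 0) (hv : Q v ≠ 0) (hs : IsSquare (Q u * Q v)) :
    (reflG Q u hu).1 * (reflG Q v hv).1⁻¹ ∈ Cfsg.Geo.omegaGL ⇑Q := by
  have hc2 : 2 ≤ Fintype.card ι := by omega
  have e : (reflG Q u hu).1 * (reflG Q v hv).1⁻¹ = (reflG Q u hu * reflG Q v hv).1 := by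
    rw [Subgroup.coe_mul, ← Subgroup.coe_inv, reflG_inv']
  rw [e, omegaGL_iff_list Q hQ h2 hc2 _ (reflG Q u hu * reflG Q v hv).2 [u, v]
    (by
      intro w hw
      rcases List.mem_pair.1 hw with rfl | rfl
      · exact hu
      · exact hv)
    (by
      rw [Subgroup.coe_mul, Units.val_mul, reflG_val, reflG_val]
      simp)]
  refine ⟨⟨1, rfl⟩, ?_⟩
  simpa using hs

include hQ h2 hm hcard in
/-- how a field automorphism acts on `PGO / PΩ`, part A -/
theorem field_act_A (hsq : ∀ x : F, IsSquare (σ x * x))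
    (D : ↥(Sim ⇑Q)) (hD : ¬ IsSquare (mult (⇑Q) hne D : F)) (c : Fˣ) (l : GL ι F)
    (hDσ : glmap σ D.1 = Matrix.GeneralLinearGroup.scalar ι c * l * D.1)
    (hl : l ∈ Cfsg.Geo.omegaGL ⇑Q) (g : ↥(Sim ⇑Q)) :
    Phi ⇑Q (gmS Q σ hσQ g) * (Phi ⇑Q g)⁻¹ ∈ Cfsg.Inn (Cfsg.POmega F ⇑Q) := by
  set N := Cfsg.Inn (Cfsg.POmega F ⇑Q) with hN
  set S : Subgroup ↥(Sim ⇑Q) := MonoidHom.eqLocus
    ((QuotientGroup.mk' N).comp ((Phi ⇑Q).comp (gmSHom Q σ hσQ)))
    ((QuotientGroup.mk' N).comp (Phi ⇑Q)) with hS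
  have hmem : ∀ x : ↥(Sim ⇑Q), x ∈ S ↔ Phi ⇑Q (gmS Q σ hσQ x) * (Phi ⇑Q x)⁻¹ ∈ N := by
    intro x
    rw [← div_eq_mul_inv, ← QuotientGroup.eq_iff_div_mem]
    rfl
  have key : ∀ x : ↥(Sim ⇑Q), x ∈ S := by
    apply sim_gen Q hQ h2 hne S _ _ D hD
    · rw [hmem, ← map_inv, ← map_mul]
      apply Phi_mem_inn_of Q hQ h2 m hm hcard _ c l hl
      rw [Subgroup.coe_mul, Subgroup.coe_inv, gmS_val, hDσ, mul_inv_cancel_right]
    · intro c'
      rw [hmem, Phi_zS Q hQ h2 m hm hcard c' (zS Q c') rfl,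
        Phi_zS Q hQ h2 m hm hcard (Units.map (σ : F →* F) c') (gmS Q σ hσQ (zS Q c'))
          (by rw [gmS_val]; exact glmap_scalar σ c')]
      simp only [inv_one, mul_one]
      exact N.one_mem
    · intro v hv
      rw [hmem, ← map_inv, ← map_mul]
      have hv' : Q (vmap σ v) ≠ 0 := by
        rw [hσQ]
        intro h
        exact hv ((map_eq_zero_iff σ σ.injective).1 h)
      apply Phi_mem_inn_of Q hQ h2 m hm hcard _ 1
        ((reflG Q (vmap σ v) hv').1 * (reflG Q v hv).1⁻¹)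
      · apply refl_pair_mem Q hQ h2 m hm hcard
        rw [hσQ]
        exact hsq _
      · rw [map_one, one_mul, Subgroup.coe_mul, Subgroup.coe_inv, gmS_val, oSHom_val,
          glmap_reflG Q σ hσQ v hv hv']
  exact (hmem g).1 (key g)

omit [Fintype F] in
theorem comm_mem_sO (a b : GL ι F) (ha : a ∈ Sim ⇑Q) (hb : b ∈ Cfsg.isometryGroup F ⇑Q) :
    a * b * a⁻¹ * b⁻¹ ∈ Cfsg.specialIsometryGL F ⇑Q := by
  rw [mem_sO_iff]
  constructor
  · exact mul_mem (conj_mem_iso ⇑Q ha hb) (inv_mem hb)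
  · have h1 : Matrix.GeneralLinearGroup.det (a * b * a⁻¹ * b⁻¹) = 1 := by
      rw [map_mul, map_mul, map_mul, map_inv, map_inv, mul_inv_cancel_comm, mul_inv_cancel]
    have := congrArg Units.val h1
    rwa [Matrix.GeneralLinearGroup.val_det_apply, Units.val_one] at this

include hQ h2 hm hcard in
/-- how a field automorphism acts on `PGO / PΩ`, part B -/
theorem field_act_B (hsq : ∀ x : F, IsSquare (σ x * x))
    (v₀ : ι → F) (hv₀ : Q v₀ ≠ 0)
    (D : ↥(Sim ⇑Q)) (hD : ¬ IsSquare (mult (⇑Q) hne D : F)) (c : Fˣ) (l : GL ι F)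
    (hDσ : glmap σ D.1 = Matrix.GeneralLinearGroup.scalar ι c * l * D.1)
    (hlS : l ∈ Cfsg.specialIsometryGL F ⇑Q)
    (hl : l ∉ Cfsg.Geo.omegaGL ⇑Q) (g : ↥(Sim ⇑Q)) :
    Phi ⇑Q (gmS Q σ hσQ g) * (Phi ⇑Q (oSHom Q (reflG Q v₀ hv₀) * g *
      (oSHom Q (reflG Q v₀ hv₀))⁻¹))⁻¹ ∈ Cfsg.Inn (Cfsg.POmega F ⇑Q) := by
  set N := Cfsg.Inn (Cfsg.POmega F ⇑Q) with hN
  set ρ := oSHom Q (reflG Q v₀ hv₀) with hρ
  set S : Subgroup ↥(Sim ⇑Q) := MonoidHom.eqLocus
    ((QuotientGroup.mk' N).comp ((Phi ⇑Q).comp (gmSHom Q σ hσQ)))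
    ((QuotientGroup.mk' N).comp ((Phi ⇑Q).comp (MulAut.conj ρ).toMonoidHom)) with hS
  have hmem : ∀ x : ↥(Sim ⇑Q), x ∈ S ↔
      Phi ⇑Q (gmS Q σ hσQ x) * (Phi ⇑Q (ρ * x * ρ⁻¹))⁻¹ ∈ N := by
    intro x
    rw [← div_eq_mul_inv, ← QuotientGroup.eq_iff_div_mem]
    rfl
  have hc2 : 2 ≤ Fintype.card ι := by omega
  have key : ∀ x : ↥(Sim ⇑Q), x ∈ S := by
    apply sim_gen Q hQ h2 hne S _ _ D hD
    · rw [hmem, ← map_inv, ← map_mul]
      apply Phi_mem_inn_of Q hQ h2 m hm hcard _ c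
        (l * (D.1 * (reflG Q v₀ hv₀).1 * D.1⁻¹ * (reflG Q v₀ hv₀).1⁻¹))
      · rw [mul_mem_omegaGL_iff Q hQ h2 hc2 _ _ hlS
          (comm_mem_sO Q _ _ D.2 (reflG Q v₀ hv₀).2)]
        exact ⟨fun h => absurd h hl,
          fun h => absurd h (comm_refl_not_mem Q hne hQ h2 hc2 D hD v₀ hv₀)⟩
      · rw [Subgroup.coe_mul, Subgroup.coe_inv, gmS_val, hDσ, Subgroup.coe_mul, Subgroup.coe_mul,
          Subgroup.coe_inv, hρ, oSHom_val]
        group
    · intro c'
      rw [hmem, map_mul, map_mul, Phi_zS Q hQ h2 m hm hcard c' (zS Q c') rfl,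
        Phi_zS Q hQ h2 m hm hcard (Units.map (σ : F →* F) c') (gmS Q σ hσQ (zS Q c'))
          (by rw [gmS_val]; exact glmap_scalar σ c'), mul_one, map_inv, mul_inv_cancel]
      simp only [inv_one, mul_one]
      exact N.one_mem
    · intro v hv
      rw [hmem, ← map_inv, ← map_mul]
      have hv' : Q (vmap σ v) ≠ 0 := by
        rw [hσQ]
        intro h
        exact hv ((map_eq_zero_iff σ σ.injective).1 h)
      have hiso : Q (((reflG Q v₀ hv₀).1 : Matrix ι ι F) *ᵥ v) = Q v :=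
        (mem_iso_iff ⇑Q _).1 (reflG Q v₀ hv₀).2 v
      have hv'' : Q (((reflG Q v₀ hv₀).1 : Matrix ι ι F) *ᵥ v) ≠ 0 := by rw [hiso]; exact hv
      have hconj : ρ * oSHom Q (reflG Q v hv) * ρ⁻¹ =
          oSHom Q (reflG Q (((reflG Q v₀ hv₀).1 : Matrix ι ι F) *ᵥ v) hv'') := by
        rw [hρ, ← map_inv, ← map_mul, ← map_mul, Dickson.conj_reflG Q _ v hv hv'']
      apply Phi_mem_inn_of Q hQ h2 m hm hcard _ 1
        ((reflG Q (vmap σ v) hv').1 * (reflG Q _ hv'').1⁻¹)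
      · apply refl_pair_mem Q hQ h2 m hm hcard
        rw [hσQ, hiso]
        exact hsq _
      · rw [map_one, one_mul, hconj, Subgroup.coe_mul, Subgroup.coe_inv, gmS_val, oSHom_val,
          oSHom_val, glmap_reflG Q σ hσQ v hv hv']
  exact (hmem g).1 (key g)

end fieldact

end

section

open Matrix QuadraticMap Module
open Cfsg.Agent.Lib.H13 Cfsg.Agent.Lib.H13.AutPO Cfsg.Agent.Lib.H13.HypPairs
open Cfsg.Agent.Lib.H11.ConfOrth
open scoped commutatorElement

section oddsplit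

variable {F : Type*} [Field F] [Fintype F] {ι : Type} [Fintype ι] [DecidableEq ι]
variable (Q : QuadraticForm F (ι → F))

theorem psiOutA_fieldOut' (hQ : (polarBilin Q).Nondegenerate) (hcard : 7 ≤ Fintype.card ι)
    (hall : Cfsg.gammaPOmega F ⇑Q = ⊤)
    (hstd : ∀ σ : F ≃+* F, Cfsg.IsSemisimilarityPair ⇑Q 1 σ) (σ : F ≃+* F) :
    psiOutA Q hQ hcard hall (fieldOut Q hstd σ) = σ := by
  unfold psiOutA fieldOut
  rw [MonoidHom.comp_apply, QuotientGroup.mk'_apply, QuotientGroup.lift_mk]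
  exact psiA_apply Q hQ hcard hall _

theorem frob_hsq {p : ℕ} [Fact p.Prime] [CharP F p] (hp2 : p ≠ 2) (x : F) :
    IsSquare (frobeniusEquiv F p x * x) := by
  have hodd : Odd p := (Fact.out : p.Prime).odd_of_ne_two hp2
  obtain ⟨k, hk⟩ := hodd
  refine ⟨x ^ (k + 1), ?_⟩
  rw [frobeniusEquiv_apply, frobenius_def, ← pow_succ, ← pow_add, hk]
  congr 1
  ring

variable (hQ : (polarBilin Q).Nondegenerate) (hc7 : 7 ≤ Fintype.card ι)
    (hall : Cfsg.gammaPOmega F ⇑Q = ⊤)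

set_option quotPrecheck false in
local notation "πN" => QuotientGroup.mk' (Cfsg.Inn (Cfsg.POmega F ⇑Q))

theorem psiOutA_mk (β : MulAut (Cfsg.POmega F ⇑Q)) :
    psiOutA Q hQ hc7 hall (πN β) = psiA Q hQ hc7 hall β := by
  unfold psiOutA
  rw [QuotientGroup.mk'_apply, QuotientGroup.lift_mk]

theorem psiOutA_ker_exists (x : Cfsg.Out (Cfsg.POmega F ⇑Q)) (hx : x ∈ (psiOutA Q hQ hc7 hall).ker) :
    ∃ g : ↥(Sim ⇑Q), x = πN (Phi ⇑Q g) := by
  obtain ⟨β, rfl⟩ := QuotientGroup.mk'_surjective _ x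
  have h1 : β ∈ (psiA Q hQ hc7 hall).ker := by
    rw [MonoidHom.mem_ker, ← psiOutA_mk]
    exact hx
  rw [psiA_ker] at h1
  obtain ⟨g, rfl⟩ := h1
  exact ⟨g, rfl⟩

theorem Phi_mem_psiOutA_ker (g : ↥(Sim ⇑Q)) : πN (Phi ⇑Q g) ∈ (psiOutA Q hQ hc7 hall).ker := by
  rw [MonoidHom.mem_ker, psiOutA_mk]
  have : Phi ⇑Q g ∈ (psiA Q hQ hc7 hall).ker := by
    rw [psiA_ker]; exact ⟨g, rfl⟩
  exact this

theorem fieldOut_conj (hσall : ∀ σ : F ≃+* F, SigEq σ Q) (σ : F ≃+* F) (g : ↥(Sim ⇑Q)) :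
    fieldOut Q (fun σ => pair_one_of_sigEq Q σ (hσall σ)) σ * πN (Phi ⇑Q g) *
      (fieldOut Q (fun σ => pair_one_of_sigEq Q σ (hσall σ)) σ)⁻¹ =
      πN (Phi ⇑Q (gmS Q σ (hσall σ) g)) := by
  have e1 : fieldOut Q (fun σ => pair_one_of_sigEq Q σ (hσall σ)) σ =
    πN (stdAut Q σ (hσall σ)) := rfl
  rw [e1, ← map_inv, ← map_mul, ← map_mul, Phi_gmS]

theorem fieldOut_comm_refl (hσall : ∀ σ : F ≃+* F, SigEq σ Q) (σ : F ≃+* F)
    (v₀ : ι → F) (hv₀ : Q v₀ ≠ 0) (hfix : ∀ i, σ (v₀ i) = v₀ i) :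
    fieldOut Q (fun σ => pair_one_of_sigEq Q σ (hσall σ)) σ *
      πN (Phi ⇑Q (oSHom Q (reflG Q v₀ hv₀))) =
    πN (Phi ⇑Q (oSHom Q (reflG Q v₀ hv₀))) *
      fieldOut Q (fun σ => pair_one_of_sigEq Q σ (hσall σ)) σ := by
  have e1 : fieldOut Q (fun σ => pair_one_of_sigEq Q σ (hσall σ)) σ =
    πN (stdAut Q σ (hσall σ)) := rfl
  have hgmρ : gmS Q σ (hσall σ) (oSHom Q (reflG Q v₀ hv₀)) = oSHom Q (reflG Q v₀ hv₀) := by
    apply Subtype.ext
    rw [gmS_val]
    exact glmap_refl_of_fixed Q σ (hσall σ) v₀ hv₀ hfix _ (reflG_val Q v₀ hv₀)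
  rw [e1, ← map_mul, ← map_mul, stdAut_mul_Phi', hgmρ]

theorem refl_class_sq (v₀ : ι → F) (hv₀ : Q v₀ ≠ 0) :
    πN (Phi ⇑Q (oSHom Q (reflG Q v₀ hv₀))) * πN (Phi ⇑Q (oSHom Q (reflG Q v₀ hv₀))) = 1 := by
  have : reflG Q v₀ hv₀ * reflG Q v₀ hv₀ = 1 :=
    mul_eq_one_iff_eq_inv.2 (reflG_inv' Q v₀ hv₀).symm
  rw [← map_mul, ← map_mul, ← map_mul, this, map_one, map_one, map_one]

/-- the splitting of `Out(PΩ(Q))` over the field automorphisms, odd characteristic, all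
automorphisms semilinear -/
theorem out_split_odd (h2 : (2 : F) ≠ 0) (m : ℕ) (hm : 4 ≤ m)
    (hcard : Fintype.card ι = 2 * m) (hne : ∃ v, Q v ≠ 0)
    (hσall : ∀ σ : F ≃+* F, SigEq σ Q)
    {p f : ℕ} [Fact p.Prime] [CharP F p] (hf : 1 ≤ f) (hF : Fintype.card F = p ^ f) (hp2 : p ≠ 2)
    (v₀ : ι → F) (hv₀ : Q v₀ ≠ 0) (hfix : ∀ i, frobeniusEquiv F p (v₀ i) = v₀ i)
    (D : ↥(Sim ⇑Q)) (hD : ¬ IsSquare (mult (⇑Q) hne D : F)) (c : Fˣ) (l : GL ι F)
    (hDσ : glmap (frobeniusEquiv F p) D.1 = Matrix.GeneralLinearGroup.scalar ι c * l * D.1)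
    (hlS : l ∈ Cfsg.specialIsometryGL F ⇑Q) :
    ∃ K : Subgroup (Cfsg.Out (Cfsg.POmega F ⇑Q)), Nat.card ↥K = f ∧ IsCyclic ↥K ∧
      Nonempty (↥(psiOutA Q hQ hc7 hall).ker × ↥K ≃* Cfsg.Out (Cfsg.POmega F ⇑Q)) := by
  haveI : Finite (Cfsg.POmega F ⇑Q) := by
    unfold Cfsg.POmega
    infer_instance
  haveI : Finite (MulAut (Cfsg.POmega F ⇑Q)) :=
    Finite.of_injective (fun f : MulAut (Cfsg.POmega F ⇑Q) =>
      (f : Cfsg.POmega F ⇑Q → Cfsg.POmega F ⇑Q)) (fun f g h => MulEquiv.ext (congrFun h))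
  haveI : Finite (Cfsg.Out (Cfsg.POmega F ⇑Q)) := by infer_instance
  have hsurj : Function.Surjective (psiOutA Q hQ hc7 hall) :=
    fun σ => ⟨_, psiOutA_fieldOut' Q hQ hc7 hall (fun σ => pair_one_of_sigEq Q σ (hσall σ)) σ⟩
  have hH : Nat.card (F ≃+* F) = f := AutPSL.card_ringAut p hF
  have hψφ := psiOutA_fieldOut' Q hQ hc7 hall (fun σ => pair_one_of_sigEq Q σ (hσall σ))
    (frobeniusEquiv F p)
  have hφf : (fieldOut Q (fun σ => pair_one_of_sigEq Q σ (hσall σ)) (frobeniusEquiv F p)) ^ f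
      = 1 := by
    rw [← map_pow]
    have : (frobeniusEquiv F p) ^ f = 1 := by
      rw [← orderOf_frob hF hf]
      exact pow_orderOf_eq_one _
    rw [this, map_one]
  have hg1 : ∀ h : F ≃+* F, h ∈ Subgroup.zpowers ((psiOutA Q hQ hc7 hall)
      (fieldOut Q (fun σ => pair_one_of_sigEq Q σ (hσall σ)) (frobeniusEquiv F p))) := by
    intro h
    rw [hψφ]
    exact frob_generates hF h
  refine split_twisted (psiOutA Q hQ hc7 hall) hsurj f (by omega) hH
    (fieldOut Q (fun σ => pair_one_of_sigEq Q σ (hσall σ)) (frobeniusEquiv F p))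
    (πN (Phi ⇑Q (oSHom Q (reflG Q v₀ hv₀)))) hg1 hφf (Phi_mem_psiOutA_ker Q hQ hc7 hall _)
    (refl_class_sq Q v₀ hv₀) (fieldOut_comm_refl Q hσall _ v₀ hv₀ hfix) ?_
  by_cases hl : l ∈ Cfsg.Geo.omegaGL ⇑Q
  · left
    intro x hx
    obtain ⟨g, rfl⟩ := psiOutA_ker_exists Q hQ hc7 hall x hx
    rw [fieldOut_conj]
    have := field_act_A Q _ (hσall _) hQ h2 m hm hcard hne (frob_hsq hp2) D hD c l hDσ hl g
    rw [← div_eq_mul_inv, ← QuotientGroup.eq_iff_div_mem] at this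
    exact this
  · right
    intro x hx
    obtain ⟨g, rfl⟩ := psiOutA_ker_exists Q hQ hc7 hall x hx
    rw [fieldOut_conj, ← map_inv, ← map_mul, ← map_mul, ← map_inv, ← map_mul, ← map_mul]
    have := field_act_B Q _ (hσall _) hQ h2 m hm hcard hne (frob_hsq hp2) v₀ hv₀ D hD c l hDσ
      hlS hl g
    rw [← div_eq_mul_inv, ← QuotientGroup.eq_iff_div_mem] at this
    exact this

end oddsplit

end

section

open Matrix QuadraticMap Module
open Cfsg.Agent.Lib.H13 Cfsg.Agent.Lib.H13.AutPO Cfsg.Agent.Lib.H13.HypPairs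
open Cfsg.Agent.Lib.H11.ConfOrth Cfsg.Agent.Lib.H13.PlusLevi
open scoped commutatorElement

section plusdata

variable {F : Type*} [Field F] {m : ℕ}

theorem dPlus_mul (a b : Fˣ) :
    (dPlus (a * b) : GL (Fin m ⊕ Fin m) F) = dPlus a * dPlus b := by
  apply Units.ext
  rw [Units.val_mul, dPlus_val, dPlus_val, dPlus_val, Matrix.diagonal_mul_diagonal]
  congr 1
  funext k
  rcases k with k | k <;> simp

theorem glmap_dPlus (σ : F ≃+* F) (ν : Fˣ) :
    glmap σ (dPlus ν : GL (Fin m ⊕ Fin m) F) = dPlus (Units.map (σ : F →* F) ν) := by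
  apply Units.ext
  rw [glmap_val, dPlus_val, dPlus_val]
  ext i j
  rw [Matrix.map_apply, Matrix.diagonal_apply, Matrix.diagonal_apply]
  split_ifs with h
  · rcases i with i | i <;> simp
  · simp

theorem leviM_det (A : GL (Fin m) F) : (leviM A).det = 1 := by
  unfold leviM
  rw [Matrix.det_fromBlocks_zero₁₂, Matrix.det_transpose, ← Matrix.det_mul, ← Units.val_mul,
    mul_inv_cancel, Units.val_one, Matrix.det_one]

theorem levi_mem_sO (A : GL (Fin m) F) :
    ((levi A : ↥(Cfsg.isometryGroup F ⇑(plusQF F m))) : GL (Fin m ⊕ Fin m) F) ∈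
      Cfsg.specialIsometryGL F ⇑(plusQF F m) := by
  rw [mem_sO_iff]
  exact ⟨(levi A).2, by rw [levi_val]; exact leviM_det A⟩

/-- the action of a field automorphism on `diag(ν, 1)` -/
theorem plus_field_data (σ : F ≃+* F) (hsq : ∀ x : F, IsSquare (σ x * x)) (ν : Fˣ) :
    ∃ c : Fˣ, glmap σ (dPlus ν : GL (Fin m ⊕ Fin m) F) =
      Matrix.GeneralLinearGroup.scalar (Fin m ⊕ Fin m) c *
        ((levi (Matrix.GeneralLinearGroup.scalar (Fin m) c) :
          ↥(Cfsg.isometryGroup F ⇑(plusQF F m))) : GL (Fin m ⊕ Fin m) F) * dPlus ν := by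
  obtain ⟨d, hd⟩ := hsq ν
  have hd0 : d ≠ 0 := by
    rintro rfl
    rw [mul_zero] at hd
    exact mul_ne_zero ((map_ne_zero σ).2 (Units.ne_zero ν)) (Units.ne_zero ν) hd
  refine ⟨Units.mk0 d hd0 * ν⁻¹, ?_⟩
  have h1 : Units.map (σ : F →* F) ν = (Units.mk0 d hd0 * ν⁻¹) * (Units.mk0 d hd0 * ν⁻¹) * ν := by
    apply Units.ext
    simp only [Units.coe_map, MonoidHom.coe_coe, Units.val_mul, Units.val_mk0]
    have hν0 : (ν : F) ≠ 0 := Units.ne_zero ν
    rw [Units.val_inv_eq_inv_val]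
    field_simp
    rw [hd, pow_two]
  rw [glmap_dPlus, h1, dPlus_mul, dPlus_mul, dPlus_sq]

/-- a vector with prime-field coordinates and `Q = 1` -/
def pv (F : Type*) [Field F] {m : ℕ} (i : Fin m) : Fin m ⊕ Fin m → F :=
  Pi.single (Sum.inl i) 1 + Pi.single (Sum.inr i) 1

theorem pv_Q (i : Fin m) : plusQF F m (pv F i) = 1 := (hypPair_plusQF i).Q_plus

theorem pv_ne (i : Fin m) : plusQF F m (pv F i) ≠ 0 := by
  rw [pv_Q]; exact one_ne_zero

theorem pv_fixed (σ : F ≃+* F) (i : Fin m) (k : Fin m ⊕ Fin m) : σ (pv F i k) = pv F i k := by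
  unfold pv
  simp only [Pi.add_apply, Pi.single_apply]
  split_ifs <;> simp

end plusdata

section plusbig

variable {F : Type*} [Field F] [Fintype F]

/-- `Out(PΩ⁺_{2m}(q))`, `q` odd, `m ≥ 5` -/
theorem out_plus_odd_big {p f m : ℕ} [Fact p.Prime] (hf : 1 ≤ f) (hF : Fintype.card F = p ^ f)
    (hp2 : p ≠ 2) (hm : 5 ≤ m) :
    ((p ^ f % 4 = 3 ∧ Odd m) →
      Nonempty (Cfsg.Out (Cfsg.POmega F ⇑(plusQF F m)) ≃*
        Multiplicative (ZMod 2 × ZMod 2 × ZMod f))) ∧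
    (¬ (p ^ f % 4 = 3 ∧ Odd m) →
      Nonempty (Cfsg.Out (Cfsg.POmega F ⇑(plusQF F m)) ≃*
        DihedralGroup 4 × Multiplicative (ZMod f))) := by
  classical
  haveI := charP_of_card (p := p) hF
  have h2 := two_ne_zero_of_char (F := F) hp2
  have hoddp : Odd p := (Fact.out : p.Prime).odd_of_ne_two hp2
  have hodd : Odd (Fintype.card F) := by rw [hF]; exact hoddp.pow
  have hQ := Cfsg.Agent.S0287.nondeg (F := F) m
  have hc7 := card_K_ge (m := m) (by omega)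
  have hne : ∃ v, plusQF F m v ≠ 0 := ⟨pv F ⟨0, by omega⟩, pv_ne _⟩
  have hall := hall_plus (F := F) hm
  obtain ⟨ν, hν⟩ := exists_nonsquare_unit (F := F) h2
  obtain ⟨c, hc⟩ := plus_field_data (m := m) (frobeniusEquiv F p) (frob_hsq hp2) ν
  obtain ⟨K, hKc, hKcyc, ⟨e⟩⟩ := out_split_odd (plusQF F m) hQ hc7 hall h2 m (by omega)
    card_plus hne (fun σ => sigEq_plus σ) hf hF hp2 (pv F ⟨0, by omega⟩) (pv_ne _) (pv_fixed _ _)
    ⟨dPlus ν, dPlus_mem ν⟩ (by rw [dPlus_mult]; exact hν) c _ hc (levi_mem_sO _)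
  have eK : ↥K ≃* Multiplicative (ZMod f) :=
    ((zmodCyclicMulEquiv hKcyc).symm).trans
      (AddEquiv.toMultiplicative (ZMod.ringEquivCongr hKc).toAddEquiv)
  have hkerO : (psiA (plusQF F m) hQ hc7 hall).ker = Cfsg.pgoAut F ⇑(plusQF F m) := by
    rw [psiA_ker, pgoAut_eq]
  have hN := inn_le_kerA (plusQF F m) hQ hc7 hall
  obtain ⟨hKl, hD8⟩ := plus_pgo_inn (F := F) (m := m) hodd (by omega)
  have hFq : Fintype.card F % 4 = 3 ↔ p ^ f % 4 = 3 := by rw [hF]
  constructor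
  · intro hcase
    obtain ⟨φ, hφs, hφk⟩ := transport_hom hkerO.symm (hKl ⟨hcase.2, hFq.2 hcase.1⟩)
    obtain ⟨eV⟩ := equiv_of_same_ker (kerProj _ (psiA (plusQF F m) hQ hc7 hall) hN) φ
      (kerProj_surjective _ _ hN) hφs (by rw [kerProj_ker, hφk])
    have e1 : Cfsg.Out (Cfsg.POmega F ⇑(plusQF F m)) ≃*
        Multiplicative (ZMod 2 × ZMod 2) × Multiplicative (ZMod f) :=
      e.symm.trans (MulEquiv.prodCongr eV eK)
    exact ⟨e1.trans ((MulEquiv.prodMultiplicative _ _).symm.trans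
      (AddEquiv.toMultiplicative (AddEquiv.prodAssoc (M := ZMod 2) (N := ZMod 2) (P := ZMod f))))⟩
  · intro hcase
    have hcase' : ¬ (Odd m ∧ Fintype.card F % 4 = 3) := by
      rw [hFq]
      exact fun h => hcase ⟨h.2, h.1⟩
    obtain ⟨φ, hφs, hφk⟩ := transport_hom hkerO.symm (hD8 hcase')
    obtain ⟨eV⟩ := equiv_of_same_ker (kerProj _ (psiA (plusQF F m) hQ hc7 hall) hN) φ
      (kerProj_surjective _ _ hN) hφs (by rw [kerProj_ker, hφk])
    exact ⟨e.symm.trans (MulEquiv.prodCongr eV eK)⟩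

end plusbig

end

end Cfsg.Agent.Lib.H13.Tri
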