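import Mathlib
import Cfsg.Agent.Lib.H13.Tri9

/-!
Triality, part 10 (helper13): `Out(PΩ⁺₈(q)) ≅ S₄ × C_f` for odd `q`. An abstract recognition of `S₄ × C` from generators
`t, b, s` (`S4Rel`, `S4Rel.s4_of_card`, `S4Rel.s4_times`); similarity related triples `A(xy) = (Bx)(Cy)` (`SRT`), intertwined
by triality (`trial_Phi`); the triple of `r_a r_b`, `L_a L_b̄` (`tr_mem`); the relations in `Out` (`s4rel_out8`), `out8_odd`,
and S2608 (`out_plus_odd`).
-/

set_option autoImplicit false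
set_option linter.unusedSectionVars false
set_option linter.unusedVariables false
set_option linter.unusedSimpArgs false
set_option linter.deprecated false

namespace Cfsg.Agent.Lib.H13.Tri

section

open Cfsg.Agent.Lib.H13.AutPO

section s4

variable {G : Type*} [Group G]

/-- the relations defining `S₄ = V₄ ⋊ S₃` on generators `t, b` (of `S₃`) and `s`, `d = t s t`
(in `V₄`) -/
structure S4Rel (t b s d : G) : Prop where
  ht : t * t = 1
  hb : b * b = 1
  hs : s * s = 1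
  htb : t * b * t = b * t * b
  hd : t * s * t = d
  hsd : s * d = d * s
  hbs : b * s = s * b
  hbd : b * d * b = s * d

namespace S4Rel

variable {t b s d : G} (h : S4Rel t b s d)

include h

theorem ti : t⁻¹ = t := inv_eq_of_mul_eq_one_left h.ht
theorem bi : b⁻¹ = b := inv_eq_of_mul_eq_one_left h.hb
theorem si : s⁻¹ = s := inv_eq_of_mul_eq_one_left h.hs

theorem dd : d * d = 1 := by
  rw [← h.hd]
  calc (t * s * t) * (t * s * t) = t * s * (t * t) * s * t := by simp only [mul_assoc]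
    _ = 1 := by rw [h.ht, mul_one, mul_assoc t s s, h.hs, mul_one, h.ht]

theorem t_s : t * s = d * t := by
  rw [← h.hd, mul_assoc (t * s), h.ht, mul_one]

theorem t_d : t * d = s * t := by
  rw [← h.hd, ← mul_assoc, ← mul_assoc, h.ht, one_mul]

theorem b_d : b * d = s * d * b := by
  rw [← h.hbd, mul_assoc (b * d), h.hb, mul_one]

omit h in
def lV (s d : G) : List G := [1, s, d, s * d]
omit h in
def lS (t b : G) : List G := [1, t, b, t * b, b * t, t * b * t]

theorem tV : ∀ v ∈ lV s d, ∃ v' ∈ lV s d, t * v = v' * t := by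
  intro v hv
  simp only [lV, List.mem_cons, List.not_mem_nil, or_false] at hv
  rcases hv with h1 | h1 | h1 | h1 <;> rw [h1]
  · exact ⟨1, by simp [lV], by rw [mul_one, one_mul]⟩
  · exact ⟨d, by simp [lV], h.t_s⟩
  · exact ⟨s, by simp [lV], h.t_d⟩
  · refine ⟨s * d, by simp [lV], ?_⟩
    rw [← mul_assoc, h.t_s, mul_assoc d, h.t_d, ← mul_assoc, ← h.hsd]

theorem bV : ∀ v ∈ lV s d, ∃ v' ∈ lV s d, b * v = v' * b := by
  intro v hv
  simp only [lV, List.mem_cons, List.not_mem_nil, or_false] at hv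
  rcases hv with h1 | h1 | h1 | h1 <;> rw [h1]
  · exact ⟨1, by simp [lV], by rw [mul_one, one_mul]⟩
  · exact ⟨s, by simp [lV], h.hbs⟩
  · exact ⟨s * d, by simp [lV], h.b_d⟩
  · refine ⟨d, by simp [lV], ?_⟩
    rw [← mul_assoc, h.hbs, mul_assoc s, h.b_d, ← mul_assoc, ← mul_assoc, h.hs, one_mul]

theorem sV : ∀ v ∈ lV s d, s * v ∈ lV s d := by
  intro v hv
  simp only [lV, List.mem_cons, List.not_mem_nil, or_false] at hv ⊢
  rcases hv with h1 | h1 | h1 | h1 <;> rw [h1]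
  · right; left; rw [mul_one]
  · left; exact h.hs
  · right; right; right; rfl
  · right; right; left; rw [← mul_assoc, h.hs, one_mul]

theorem tS : ∀ w ∈ lS t b, t * w ∈ lS t b := by
  intro w hw
  simp only [lS, List.mem_cons, List.not_mem_nil, or_false] at hw ⊢
  rcases hw with h1 | h1 | h1 | h1 | h1 | h1 <;> rw [h1]
  · right; left; rw [mul_one]
  · left; exact h.ht
  · right; right; right; left; rfl
  · right; right; left; rw [← mul_assoc, h.ht, one_mul]
  · right; right; right; right; right; rw [mul_assoc]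
  · right; right; right; right; left; rw [← mul_assoc, ← mul_assoc, h.ht, one_mul]

theorem bS : ∀ w ∈ lS t b, b * w ∈ lS t b := by
  intro w hw
  simp only [lS, List.mem_cons, List.not_mem_nil, or_false] at hw ⊢
  rcases hw with h1 | h1 | h1 | h1 | h1 | h1 <;> rw [h1]
  · right; right; left; rw [mul_one]
  · right; right; right; right; left; rfl
  · left; exact h.hb
  · right; right; right; right; right; rw [h.htb, mul_assoc]
  · right; left; rw [← mul_assoc, h.hb, one_mul]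
  · right; right; right; left
    rw [h.htb, ← mul_assoc, ← mul_assoc, h.hb, one_mul]

omit h in
/-- the list of the 24 elements `v * w` -/
def l24 (t b s d : G) : List G := (lV s d).flatMap (fun v => (lS t b).map (fun w => v * w))

omit h in
theorem mem_l24 {g : G} : g ∈ l24 t b s d ↔ ∃ v ∈ lV s d, ∃ w ∈ lS t b, v * w = g := by
  unfold l24
  rw [List.mem_flatMap]
  constructor
  · rintro ⟨v, hv, hg⟩
    obtain ⟨w, hw, rfl⟩ := List.mem_map.1 hg
    exact ⟨v, hv, w, hw, rfl⟩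
  · rintro ⟨v, hv, w, hw, rfl⟩
    exact ⟨v, hv, List.mem_map.2 ⟨w, hw, rfl⟩⟩

omit h in
theorem length_l24 : (l24 t b s d).length = 24 := rfl

theorem closure_le_l24 : ∀ g ∈ Subgroup.closure ({t, b, s} : Set G), g ∈ l24 t b s d := by
  have hmul : ∀ x ∈ ({t, b, s} : Set G), ∀ y ∈ l24 t b s d, x * y ∈ l24 t b s d := by
    intro x hx y hy
    obtain ⟨v, hv, w, hw, rfl⟩ := mem_l24.1 hy
    rcases hx with h1 | h1 | h1
    · rw [h1]
      obtain ⟨v', hv', e⟩ := h.tV v hv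
      exact mem_l24.2 ⟨v', hv', t * w, h.tS w hw, by rw [← mul_assoc, ← e, mul_assoc]⟩
    · rw [h1]
      obtain ⟨v', hv', e⟩ := h.bV v hv
      exact mem_l24.2 ⟨v', hv', b * w, h.bS w hw, by rw [← mul_assoc, ← e, mul_assoc]⟩
    · have h1' : x = s := h1
      rw [h1']
      exact mem_l24.2 ⟨s * v, h.sV v hv, w, hw, by rw [mul_assoc]⟩
  apply closure_subset_list _ _ _ hmul
  · intro x hx y hy
    have hxi : x⁻¹ = x := by
      rcases hx with h1 | h1 | h1
      · rw [h1]; exact h.ti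
      · rw [h1]; exact h.bi
      · have h1' : x = s := h1
        rw [h1']; exact h.si
    rw [hxi]
    exact hmul x hx y hy
  · exact mem_l24.2 ⟨1, by simp [lV], 1, by simp [lS], by rw [mul_one]⟩

theorem closure_le_lS : ∀ g ∈ Subgroup.closure ({t, b} : Set G), g ∈ lS t b := by
  have hmul : ∀ x ∈ ({t, b} : Set G), ∀ y ∈ lS t b, x * y ∈ lS t b := by
    intro x hx y hy
    rcases hx with h1 | h1
    · rw [h1]; exact h.tS y hy
    · have h1' : x = b := h1
      rw [h1']; exact h.bS y hy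
  apply closure_subset_list _ _ _ hmul
  · intro x hx y hy
    have hxi : x⁻¹ = x := by
      rcases hx with h1 | h1
      · rw [h1]; exact h.ti
      · have h1' : x = b := h1
        rw [h1']; exact h.bi
    rw [hxi]
    exact hmul x hx y hy
  · simp [lS]

omit h in
theorem lS_le_closure : ∀ w ∈ lS t b, w ∈ Subgroup.closure ({t, b} : Set G) := by
  have ht : t ∈ Subgroup.closure ({t, b} : Set G) := Subgroup.subset_closure (by simp)
  have hb : b ∈ Subgroup.closure ({t, b} : Set G) := Subgroup.subset_closure (by simp)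
  intro w hw
  simp only [lS, List.mem_cons, List.not_mem_nil, or_false] at hw
  rcases hw with h1 | h1 | h1 | h1 | h1 | h1 <;> rw [h1]
  · exact one_mem _
  · exact ht
  · exact hb
  · exact mul_mem ht hb
  · exact mul_mem hb ht
  · exact mul_mem (mul_mem ht hb) ht

/-- a group of order 24 generated by elements satisfying the relations is `S₄` -/
theorem s4_of_card [Finite G] (hgen : ∀ g : G, g ∈ Subgroup.closure ({t, b, s} : Set G))
    (hcard : Nat.card G = 24) : Nonempty (G ≃* Equiv.Perm (Fin 4)) := by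
  classical
  set S := Subgroup.closure ({t, b} : Set G) with hS
  have htS : t ∈ S := Subgroup.subset_closure (by simp)
  have hbS : b ∈ S := Subgroup.subset_closure (by simp)
  have hS6 : Nat.card ↥S ≤ 6 := card_le_of_subset_list S (lS t b) h.closure_le_lS
  -- `G = V S`
  have hsurj : Function.Surjective
      (fun p : Fin (lV s d).length × ↥S => (lV s d).get p.1 * (p.2 : G)) := by
    intro g
    obtain ⟨v, hv, w, hw, rfl⟩ := mem_l24.1 (h.closure_le_l24 g (hgen g))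
    obtain ⟨i, rfl⟩ := List.mem_iff_get.1 hv
    exact ⟨(i, ⟨w, lS_le_closure w hw⟩), rfl⟩
  have h24 : 24 ≤ 4 * Nat.card ↥S := by
    have := Nat.card_le_card_of_surjective _ hsurj
    rw [hcard, Nat.card_prod, Nat.card_fin] at this
    exact this
  have hS6' : Nat.card ↥S = 6 := by omega
  have hidx : S.index = 4 := by
    have := Subgroup.card_mul_index S
    rw [hS6', hcard] at this
    omega
  -- `V ∩ S = 1`
  have hsS : s ∉ S := by
    intro hs
    have : (⊤ : Subgroup G) ≤ S := by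
      intro g _
      have h1 : Subgroup.closure ({t, b, s} : Set G) ≤ S := by
        rw [Subgroup.closure_le]
        rintro x (rfl | rfl | rfl)
        · exact htS
        · exact hbS
        · exact hs
      exact h1 (hgen g)
    have h2 : S = ⊤ := top_le_iff.1 this
    rw [h2, Subgroup.card_top, hcard] at hS6
    omega
  have hdS : d ∉ S := by
    intro hd
    apply hsS
    have : s = t * d * t := by rw [h.t_d, mul_assoc, h.ht, mul_one]
    rw [this]
    exact mul_mem (mul_mem htS hd) htS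
  have hsdS : s * d ∉ S := by
    intro hsd
    apply hdS
    have : d = b * (s * d) * b := by
      rw [← mul_assoc, h.hbs, mul_assoc s, h.b_d, ← mul_assoc, ← mul_assoc, h.hs, one_mul,
        mul_assoc, h.hb, mul_one]
    rw [this]
    exact mul_mem (mul_mem hbS hsd) hbS
  have hdi : d⁻¹ = d := inv_eq_of_mul_eq_one_left h.dd
  have hsts : s * t * s = s * d * t := by rw [mul_assoc, mul_assoc, h.t_s]
  -- the core
  have hcore : S.normalCore = ⊥ := by
    rw [eq_bot_iff]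
    intro x hx
    rw [Subgroup.mem_bot]
    have hn : (S.normalCore).Normal := Subgroup.normalCore_normal S
    have hxS : x ∈ S := Subgroup.normalCore_le S hx
    have hconj : ∀ g : G, g * x * g⁻¹ ∈ S := fun g => Subgroup.normalCore_le S (hn.conj_mem x hx g)
    have hxl := h.closure_le_lS x hxS
    simp only [lS, List.mem_cons, List.not_mem_nil, or_false] at hxl
    rcases hxl with h1 | h1 | h1 | h1 | h1 | h1
    · exact h1
    · exfalso
      apply hsdS
      have h2 := hconj s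
      rw [h1, h.si, hsts] at h2
      have := mul_mem h2 htS
      rwa [mul_assoc, h.ht, mul_one] at this
    · exfalso
      apply hsS
      have h2 := hconj d
      rw [h1, hdi] at h2
      have e : d * b * d = s * b := by
        rw [mul_assoc, h.b_d, ← mul_assoc, ← mul_assoc, ← h.hsd, mul_assoc s, h.dd, mul_one]
      rw [e] at h2
      have := mul_mem h2 hbS
      rwa [mul_assoc, h.hb, mul_one] at this
    · exfalso
      apply hsdS
      have h2 := hconj s
      rw [h1, h.si] at h2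
      have e : s * (t * b) * s = s * d * (t * b) := by
        calc s * (t * b) * s = s * t * (b * s) := by simp only [mul_assoc]
          _ = s * t * (s * b) := by rw [h.hbs]
          _ = (s * t * s) * b := by simp only [mul_assoc]
          _ = s * d * (t * b) := by rw [hsts]; simp only [mul_assoc]
      rw [e] at h2
      have := mul_mem h2 (inv_mem (mul_mem htS hbS))
      rwa [mul_inv_cancel_right] at this
    · exfalso
      apply hdS
      have h2 := hconj s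
      rw [h1, h.si] at h2
      have e : s * (b * t) * s = d * (b * t) := by
        calc s * (b * t) * s = (s * b) * (t * s) := by simp only [mul_assoc]
          _ = (b * s) * (d * t) := by rw [h.hbs, h.t_s]
          _ = b * (s * d) * t := by simp only [mul_assoc]
          _ = d * (b * t) := by
              rw [← mul_assoc b, h.hbs, mul_assoc s, h.b_d, ← mul_assoc, ← mul_assoc, h.hs, one_mul]
              simp only [mul_assoc]
      rw [e] at h2
      have := mul_mem h2 (inv_mem (mul_mem hbS htS))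
      rwa [mul_inv_cancel_right] at this
    · exfalso
      apply hdS
      have h2 := hconj s
      rw [h1, h.si] at h2
      have e : s * (t * b * t) * s = d * (t * b * t) := by
        calc s * (t * b * t) * s = s * t * b * (t * s) := by simp only [mul_assoc]
          _ = s * t * b * (d * t) := by rw [h.t_s]
          _ = s * t * (b * d) * t := by simp only [mul_assoc]
          _ = s * t * (s * d * b) * t := by rw [h.b_d]
          _ = s * (t * s) * d * b * t := by simp only [mul_assoc]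
          _ = s * (d * t) * d * b * t := by rw [h.t_s]
          _ = s * d * (t * d) * b * t := by simp only [mul_assoc]
          _ = s * d * (s * t) * b * t := by rw [h.t_d]
          _ = (s * d * s) * (t * b * t) := by simp only [mul_assoc]
          _ = d * (t * b * t) := by
              rw [h.hsd, mul_assoc d, h.hs, mul_one]
      rw [e] at h2
      have := mul_mem h2 (inv_mem (mul_mem (mul_mem htS hbS) htS))
      rwa [mul_inv_cancel_right] at this
  exact mulEquiv_perm_of_core S 4 hidx hcore (by rw [hcard]; rfl)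

/-- recognition of `S₄ × C` -/
theorem s4_times [Finite G] (C : Subgroup G) (hC : C ≤ Subgroup.center G)
    (hgen : ∀ g : G, ∃ k ∈ Subgroup.closure ({t, b, s} : Set G), ∃ c ∈ C, g = k * c)
    (hcard : Nat.card G = 24 * Nat.card ↥C) :
    Nonempty (G ≃* Equiv.Perm (Fin 4) × ↥C) := by
  set K := Subgroup.closure ({t, b, s} : Set G) with hK
  have hK24 : Nat.card ↥K ≤ 24 := by
    have := card_le_of_subset_list K (l24 t b s d) h.closure_le_l24
    rwa [length_l24] at this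
  obtain ⟨hKn, hdisj, ⟨e⟩⟩ := split_of_bound K C hC 24 hgen hK24 hcard
  have htK : t ∈ K := Subgroup.subset_closure (by simp)
  have hbK : b ∈ K := Subgroup.subset_closure (by simp)
  have hsK : s ∈ K := Subgroup.subset_closure (by simp)
  have hdK : d ∈ K := by
    rw [← h.hd]
    exact mul_mem (mul_mem htK hsK) htK
  have h' : S4Rel (⟨t, htK⟩ : ↥K) ⟨b, hbK⟩ ⟨s, hsK⟩ ⟨d, hdK⟩ :=
    { ht := Subtype.ext h.ht
      hb := Subtype.ext h.hb
      hs := Subtype.ext h.hs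
      htb := Subtype.ext h.htb
      hd := Subtype.ext h.hd
      hsd := Subtype.ext h.hsd
      hbs := Subtype.ext h.hbs
      hbd := Subtype.ext h.hbd }
  have hgen' : ∀ g : ↥K, g ∈ Subgroup.closure
      ({(⟨t, htK⟩ : ↥K), ⟨b, hbK⟩, ⟨s, hsK⟩} : Set ↥K) := by
    rintro ⟨g, hg⟩
    induction hg using Subgroup.closure_induction with
    | mem x hx =>
      apply Subgroup.subset_closure
      rcases hx with h1 | h1 | h1
      · left; exact Subtype.ext h1
      · right; left; exact Subtype.ext h1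
      · right; right; exact Subtype.ext h1
    | one => exact one_mem _
    | mul x y hx hy ihx ihy => exact mul_mem ihx ihy
    | inv x hx ihx => exact inv_mem ihx
  obtain ⟨e4⟩ := h'.s4_of_card hgen' hKn
  exact ⟨e.symm.trans (MulEquiv.prodCongr e4 (MulEquiv.refl _))⟩

end S4Rel

end s4

end

section

open Matrix QuadraticMap Module
open Cfsg.Agent.Lib.H13 Cfsg.Agent.Lib.H13.AutPO Cfsg.Agent.Lib.H13.HypPairs
open Cfsg.Agent.Lib.H11.ConfOrth
open scoped commutatorElement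

section simtriple

variable {F : Type*} [Field F]

/-- the action of a similarity on vectors -/
def smv (g : ↥(Sim ⇑(Q8 F))) (x : I8 → F) : I8 → F := ((g : GL I8 F) : Matrix I8 I8 F) *ᵥ x

theorem smv_one (x : I8 → F) : smv (1 : ↥(Sim ⇑(Q8 F))) x = x := by
  unfold smv; simp

theorem smv_mul (g h : ↥(Sim ⇑(Q8 F))) (x : I8 → F) : smv (g * h) x = smv g (smv h x) := by
  unfold smv
  rw [Matrix.mulVec_mulVec]
  rfl

theorem smv_inv_smv (g : ↥(Sim ⇑(Q8 F))) (x : I8 → F) : smv g⁻¹ (smv g x) = x := by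
  rw [← smv_mul, inv_mul_cancel, smv_one]

theorem smv_smv_inv (g : ↥(Sim ⇑(Q8 F))) (x : I8 → F) : smv g (smv g⁻¹ x) = x := by
  rw [← smv_mul, mul_inv_cancel, smv_one]

theorem smv_oS (X : O8 F) (x : I8 → F) : smv (oSHom (Q8 F) X) x = ov X x := rfl

/-- a linear map multiplying the norm by a non-zero scalar is a similarity -/
noncomputable def simOfLin (f : (I8 → F) →ₗ[F] (I8 → F)) (μ : F) (hμ : μ ≠ 0)
    (hf : ∀ x, oN (f x) = μ * oN x) : ↥(Sim ⇑(Q8 F)) :=
  ⟨glOfEquiv (LinearEquiv.ofInjectiveEndo f (by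
    rw [← LinearMap.ker_eq_bot, LinearMap.ker_eq_bot']
    intro x hx
    apply oB_nondeg
    intro y
    have h1 : oB (f x) (f y) = μ * oB x y := by
      rw [oB_eq, oB_eq, ← map_add, hf, hf, hf]
      ring
    have h2 : μ * oB x y = 0 := by
      rw [← h1, hx]
      simp [oB]
    rcases mul_eq_zero.1 h2 with h3 | h3
    · exact absurd h3 hμ
    · exact h3)),
  ⟨Units.mk0 μ hμ, fun v => by
    rw [glOfEquiv_mulVec, Q8_apply, Q8_apply]
    exact hf v⟩⟩

theorem smv_simOfLin (f : (I8 → F) →ₗ[F] (I8 → F)) (μ : F) (hμ : μ ≠ 0)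
    (hf : ∀ x, oN (f x) = μ * oN x) (x : I8 → F) : smv (simOfLin f μ hμ hf) x = f x := by
  unfold smv simOfLin
  rw [glOfEquiv_mulVec]
  rfl

/-- similarity related triples -/
def SRT (F : Type*) [Field F] : Subgroup (↥(Sim ⇑(Q8 F)) × ↥(Sim ⇑(Q8 F)) × ↥(Sim ⇑(Q8 F))) where
  carrier := {ρ | ∀ x y, smv ρ.1 (omul x y) = omul (smv ρ.2.1 x) (smv ρ.2.2 y)}
  one_mem' := by
    intro x y
    simp only [Prod.fst_one, Prod.snd_one, smv_one]
  mul_mem' := by
    intro ρ ρ' h h' x y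
    simp only [Prod.fst_mul, Prod.snd_mul, smv_mul]
    rw [h' x y, h]
  inv_mem' := by
    intro ρ h x y
    simp only [Prod.fst_inv, Prod.snd_inv]
    have := h (smv ρ.2.1⁻¹ x) (smv ρ.2.2⁻¹ y)
    rw [smv_smv_inv, smv_smv_inv] at this
    rw [← this, smv_inv_smv]

theorem mem_SRT {ρ : ↥(Sim ⇑(Q8 F)) × ↥(Sim ⇑(Q8 F)) × ↥(Sim ⇑(Q8 F))} :
    ρ ∈ SRT F ↔ ∀ x y, smv ρ.1 (omul x y) = omul (smv ρ.2.1 x) (smv ρ.2.2 y) := Iff.rfl

theorem ov_conjOmega (g : ↥(Sim ⇑(Q8 F))) (X : Om8 F) (x : I8 → F) :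
    ov (conjOmega ⇑(Q8 F) g X : Om8 F).1 x = smv g (ov X.1 (smv g⁻¹ x)) := by
  unfold ov smv
  rw [conjOmega_val, Units.val_mul, Units.val_mul, Matrix.mulVec_mulVec, Matrix.mulVec_mulVec]
  rfl

/-- conjugating a related triple by a similarity related triple -/
theorem RTΩ_conj {A₀ B₀ C₀ : ↥(Sim ⇑(Q8 F))} (h : (A₀, B₀, C₀) ∈ SRT F) {X Y Z : Om8 F}
    (hX : (X, Y, Z) ∈ RTΩ F) :
    (conjOmega ⇑(Q8 F) A₀ X, conjOmega ⇑(Q8 F) B₀ Y, conjOmega ⇑(Q8 F) C₀ Z) ∈ RTΩ F := by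
  rw [mem_RTΩ, mem_RT]
  intro x y
  show ov (conjOmega ⇑(Q8 F) A₀ X : Om8 F).1 (omul x y) =
    omul (ov (conjOmega ⇑(Q8 F) B₀ Y : Om8 F).1 x) (ov (conjOmega ⇑(Q8 F) C₀ Z : Om8 F).1 y)
  rw [ov_conjOmega, ov_conjOmega, ov_conjOmega]
  have hinv := (SRT F).inv_mem h
  have h1 : smv A₀⁻¹ (omul x y) = omul (smv B₀⁻¹ x) (smv C₀⁻¹ y) := hinv x y
  rw [h1, (mem_RT.1 (mem_RTΩ.1 hX)) _ _]
  exact h _ _

/-- triality intertwines the first two components of a similarity related triple -/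
theorem trial_Phi [Fintype F] {A₀ B₀ C₀ : ↥(Sim ⇑(Q8 F))} (h : (A₀, B₀, C₀) ∈ SRT F) :
    (trial F : A8 F) * Phi ⇑(Q8 F) A₀ = Phi ⇑(Q8 F) B₀ * trial F := by
  apply MulEquiv.ext
  intro x
  obtain ⟨X, rfl⟩ := pr_surjective (Q8 F) x
  obtain ⟨Y, Z, hX⟩ := RTΩ_total X
  rw [MulAut.mul_apply, MulAut.mul_apply, trial_RTΩ hX]
  show trial F (pr (Q8 F) (conjOmega ⇑(Q8 F) A₀ X)) = pr (Q8 F) (conjOmega ⇑(Q8 F) B₀ Y)
  exact trial_RTΩ (RTΩ_conj h hX)

end simtriple

section spec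

variable {F : Type*} [Field F]

/-- the product of two reflections in octonion terms -/
theorem ov_refl_mul (a b : I8 → F) (ha : Q8 F a ≠ 0) (hb : Q8 F b ≠ 0) (x : I8 → F) :
    ov (reflG (Q8 F) a ha * reflG (Q8 F) b hb) x = mA a b x := by
  rw [ov_mul, ov_reflG, ov_reflG]
  have h1 : okap (-((oN b)⁻¹ • omul (omul b (okap x)) b)) =
      -((oN b)⁻¹ • omul (omul (okap b) x) (okap b)) := by
    rw [← okap_Bm]
    show Km (-((oN b)⁻¹ • omul (omul b (okap x)) b)) = _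
    rw [map_neg, map_smul]
    rfl
  rw [h1, omul_neg_right, omul_smul_right, omul_neg_left, omul_smul_left]
  simp only [mA, LinearMap.smul_apply, LinearMap.comp_apply, Bm_apply]
  rw [smul_neg, neg_neg, smul_smul, mul_inv]

theorem oN_LL (a b x : I8 → F) :
    oN (((Lm a).comp (Lm (okap b))) x) = (oN a * oN b) * oN x := by
  simp only [LinearMap.comp_apply, Lm_apply, oN_omul, oN_okap]
  ring

theorem oN_RR (a b : I8 → F) (hμ : oN a * oN b ≠ 0) (x : I8 → F) :
    oN (((oN a * oN b)⁻¹ • (Rm a).comp (Rm (okap b))) x) = (oN a * oN b)⁻¹ * oN x := by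
  simp only [LinearMap.smul_apply, LinearMap.comp_apply, Rm_apply, oN_smul, oN_omul, oN_okap]
  field_simp

/-- the three components of the similarity triple attached to `a, b` -/
noncomputable def trA (a b : I8 → F) (ha : Q8 F a ≠ 0) (hb : Q8 F b ≠ 0) : ↥(Sim ⇑(Q8 F)) :=
  oSHom (Q8 F) (reflG (Q8 F) a ha * reflG (Q8 F) b hb)

noncomputable def trB (a b : I8 → F) (hμ : oN a * oN b ≠ 0) : ↥(Sim ⇑(Q8 F)) :=
  simOfLin ((Lm a).comp (Lm (okap b))) (oN a * oN b) hμ (oN_LL a b)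

noncomputable def trC (a b : I8 → F) (hμ : oN a * oN b ≠ 0) : ↥(Sim ⇑(Q8 F)) :=
  simOfLin ((oN a * oN b)⁻¹ • (Rm a).comp (Rm (okap b))) (oN a * oN b)⁻¹ (inv_ne_zero hμ)
    (oN_RR a b hμ)

theorem tr_mem (a b : I8 → F) (ha : Q8 F a ≠ 0) (hb : Q8 F b ≠ 0) (hμ : oN a * oN b ≠ 0) :
    (trA a b ha hb, trB a b hμ, trC a b hμ) ∈ SRT F := by
  intro x y
  show smv (trA a b ha hb) (omul x y) = omul (smv (trB a b hμ) x) (smv (trC a b hμ) y)
  unfold trA trB trC
  rw [smv_oS, ov_refl_mul, smv_simOfLin, smv_simOfLin]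
  simp only [mA, LinearMap.smul_apply, LinearMap.comp_apply, Bm_apply, Lm_apply, Rm_apply]
  rw [omul_smul_right, ← moufang (okap b) x y, ← moufang a]

theorem mult_trB (hne : ∃ v, Q8 F v ≠ 0) (a b : I8 → F) (hμ : oN a * oN b ≠ 0) :
    (mult (⇑(Q8 F)) hne (trB a b hμ) : F) = oN a * oN b := by
  have : mult (⇑(Q8 F)) hne (trB a b hμ) = Units.mk0 _ hμ := by
    apply mult_eq
    intro v
    have := smv_simOfLin ((Lm a).comp (Lm (okap b))) (oN a * oN b) hμ (oN_LL a b) v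
    unfold smv at this
    unfold trB
    rw [this, Q8_apply, Q8_apply, Units.val_mk0]
    exact oN_LL a b v
  rw [this, Units.val_mk0]

end spec

end

section

open Matrix QuadraticMap Module
open Cfsg.Agent.Lib.H13 Cfsg.Agent.Lib.H13.AutPO Cfsg.Agent.Lib.H13.HypPairs
open Cfsg.Agent.Lib.H11.ConfOrth Cfsg.Agent.Lib.H13.PlusLevi
open scoped commutatorElement

section out8odd

variable {F : Type*} [Field F] [Fintype F]

/-- the class in `Out` of the automorphism induced by a similarity -/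
noncomputable def Ψ8 (F : Type*) [Field F] [Fintype F] : ↥(Sim ⇑(Q8 F)) →* Out8 F :=
  (π8 F).comp (Phi ⇑(Q8 F))

theorem Ψ8_apply (g : ↥(Sim ⇑(Q8 F))) : Ψ8 F g = π8 F (Phi ⇑(Q8 F) g) := rfl

theorem hne8 : ∃ v, Q8 F v ≠ 0 := ⟨oe, Q8_oe⟩

theorem hcard8 : Fintype.card I8 = 2 * 4 := by rw [card_I8]

variable (h2 : (2 : F) ≠ 0)

include h2

theorem Ψ8_eq_one (g : ↥(Sim ⇑(Q8 F))) (c : Fˣ) (ω : GL I8 F)
    (hω : ω ∈ Cfsg.Geo.omegaGL ⇑(Q8 F))
    (hg : g.1 = Matrix.GeneralLinearGroup.scalar I8 c * ω) : Ψ8 F g = 1 := by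
  rw [Ψ8_apply, QuotientGroup.mk'_apply, QuotientGroup.eq_one_iff]
  exact Phi_mem_inn_of (Q8 F) hQ8 h2 4 le_rfl hcard8 g c ω hω hg

theorem Ψ8_eq_one' (g : ↥(Sim ⇑(Q8 F))) (hg : g.1 ∈ Cfsg.Geo.omegaGL ⇑(Q8 F)) : Ψ8 F g = 1 :=
  Ψ8_eq_one h2 g 1 g.1 hg (by rw [map_one, one_mul])

/-- two reflections have the same class iff the product of the norms is a square -/
theorem Ψ8_refl_eq (u v : I8 → F) (hu : Q8 F u ≠ 0) (hv : Q8 F v ≠ 0)
    (hs : IsSquare (Q8 F u * Q8 F v)) :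
    Ψ8 F (oSHom (Q8 F) (reflG (Q8 F) u hu)) = Ψ8 F (oSHom (Q8 F) (reflG (Q8 F) v hv)) := by
  rw [← mul_inv_eq_one, ← map_inv, ← map_mul]
  apply Ψ8_eq_one' h2
  exact refl_pair_mem (Q8 F) hQ8 h2 4 le_rfl hcard8 u v hu hv hs

theorem Ψ8_refl_sq (u : I8 → F) (hu : Q8 F u ≠ 0) :
    Ψ8 F (oSHom (Q8 F) (reflG (Q8 F) u hu)) * Ψ8 F (oSHom (Q8 F) (reflG (Q8 F) u hu)) = 1 := by
  have : reflG (Q8 F) u hu * reflG (Q8 F) u hu = 1 :=
    mul_eq_one_iff_eq_inv.2 (reflG_inv' (Q8 F) u hu).symm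
  rw [← map_mul, ← map_mul, this, map_one, map_one]

/-- two elements of `SO ∖ Ω` have the same class -/
theorem Ψ8_eq_of_not_mem (g₁ g₂ : ↥(Sim ⇑(Q8 F)))
    (h₁ : g₁.1 ∈ Cfsg.specialIsometryGL F ⇑(Q8 F)) (h₂ : g₂.1 ∈ Cfsg.specialIsometryGL F ⇑(Q8 F))
    (n₁ : g₁.1 ∉ Cfsg.Geo.omegaGL ⇑(Q8 F)) (n₂ : g₂.1 ∉ Cfsg.Geo.omegaGL ⇑(Q8 F)) :
    Ψ8 F g₁ = Ψ8 F g₂ := by
  rw [← mul_inv_eq_one, ← map_inv, ← map_mul]
  apply Ψ8_eq_one' h2
  rw [Subgroup.coe_mul, Subgroup.coe_inv,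
    mul_mem_omegaGL_iff (Q8 F) hQ8 h2 (by rw [card_I8]; omega) _ _ h₁ (inv_mem h₂)]
  constructor
  · intro h; exact absurd h n₁
  · intro h
    exact absurd (by simpa using inv_mem h) n₂

omit h2 in
/-- a vector of norm `ν` -/
def bν (ν : F) : I8 → F := Pi.single (Sum.inl 0) 1 - Pi.single (Sum.inr 0) (-ν)

omit h2 in
theorem bν_Q (ν : F) : Q8 F (bν ν) = ν := by
  unfold bν
  rw [hyp_Q_minus_c (hypPair_plusQF (0 : Fin 4)), neg_neg]

omit h2 in
theorem bν_ne (ν : Fˣ) : Q8 F (bν (ν : F)) ≠ 0 := by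
  rw [bν_Q]; exact Units.ne_zero ν

omit h2 in
theorem hμν (ν : Fˣ) : oN (oe : I8 → F) * oN (bν (ν : F)) ≠ 0 := by
  rw [oN_oe, one_mul, ← Q8_apply, bν_Q]
  exact Units.ne_zero ν

omit h2 in
theorem trA_val (a b : I8 → F) (ha : Q8 F a ≠ 0) (hb : Q8 F b ≠ 0) :
    (((trA a b ha hb : ↥(Sim ⇑(Q8 F))) : GL I8 F) : Matrix I8 I8 F) =
      ([a, b].map (fun v => Cfsg.reflectionMatrix ⇑(Q8 F) v)).prod := by
  unfold trA
  rw [oSHom_val, Subgroup.coe_mul, Units.val_mul, reflG_val, reflG_val]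
  simp

theorem trA_mem_sO (a b : I8 → F) (ha : Q8 F a ≠ 0) (hb : Q8 F b ≠ 0) :
    (trA a b ha hb).1 ∈ Cfsg.specialIsometryGL F ⇑(Q8 F) := by
  rw [sO_iff_even (Q8 F) h2 (trA a b ha hb).1
    (show (trA a b ha hb).1 ∈ Cfsg.isometryGroup F ⇑(Q8 F) from
      (reflG (Q8 F) a ha * reflG (Q8 F) b hb).2) [a, b]
    (by
      intro w hw
      rcases List.mem_pair.1 hw with rfl | rfl
      · exact ha
      · exact hb) (trA_val a b ha hb)]
  exact ⟨1, rfl⟩

theorem trA_not_mem (a b : I8 → F) (ha : Q8 F a ≠ 0) (hb : Q8 F b ≠ 0)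
    (hs : ¬ IsSquare (Q8 F a * Q8 F b)) :
    (trA a b ha hb).1 ∉ Cfsg.Geo.omegaGL ⇑(Q8 F) := by
  rw [omegaGL_iff_list (Q8 F) hQ8 h2 (by rw [card_I8]; omega) (trA a b ha hb).1
    (show (trA a b ha hb).1 ∈ Cfsg.isometryGroup F ⇑(Q8 F) from
      (reflG (Q8 F) a ha * reflG (Q8 F) b hb).2) [a, b]
    (by
      intro w hw
      rcases List.mem_pair.1 hw with rfl | rfl
      · exact ha
      · exact hb) (trA_val a b ha hb)]
  rintro ⟨_, h⟩
  apply hs
  simpa using h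

omit h2 in
theorem bK_eq : bK F = Ψ8 F (oSHom (Q8 F) (rE F)) := by
  unfold bK
  rw [cO_eq_PhiO]
  rfl

/-- the relations of `S₄` in `Out(PΩ⁺₈(q))`, `q` odd -/
theorem s4rel_out8 (ν : Fˣ) (hν : ¬ IsSquare (ν : F)) :
    S4Rel (aT F) (bK F) (Ψ8 F (trA oe (bν (ν : F)) Q8_oe (bν_ne ν)))
      (Ψ8 F (trB oe (bν (ν : F)) (hμν ν))) := by
  have hc2 : 2 ≤ Fintype.card I8 := by rw [card_I8]; omega
  set A₀ := trA (oe : I8 → F) (bν (ν : F)) Q8_oe (bν_ne ν) with hA₀
  set B₀ := trB (oe : I8 → F) (bν (ν : F)) (hμν ν) with hB₀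
  set ρ := oSHom (Q8 F) (rE F) with hρ
  have hASO := trA_mem_sO h2 (oe : I8 → F) (bν (ν : F)) Q8_oe (bν_ne ν)
  have hAn : A₀.1 ∉ Cfsg.Geo.omegaGL ⇑(Q8 F) := by
    apply trA_not_mem h2
    rw [Q8_apply, oN_oe, one_mul, bν_Q]
    exact hν
  have hBm : ¬ IsSquare (mult (⇑(Q8 F)) hne8 B₀ : F) := by
    rw [hB₀, mult_trB, oN_oe, one_mul, ← Q8_apply, bν_Q]
    exact hν
  have hss : Ψ8 F A₀ * Ψ8 F A₀ = 1 := by
    rw [← map_mul]
    apply Ψ8_eq_one' h2
    rw [Subgroup.coe_mul, mul_mem_omegaGL_iff (Q8 F) hQ8 h2 hc2 _ _ hASO hASO]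
  have hsi : (Ψ8 F A₀)⁻¹ = Ψ8 F A₀ := inv_eq_of_mul_eq_one_left hss
  have hbi : (bK F)⁻¹ = bK F := inv_eq_of_mul_eq_one_left bK_sq
  have htd : aT F * Ψ8 F A₀ = Ψ8 F B₀ * aT F := by
    have := congrArg (π8 F) (trial_Phi (tr_mem (oe : I8 → F) (bν (ν : F)) Q8_oe (bν_ne ν) (hμν ν)))
    rw [map_mul, map_mul] at this
    exact this
  have hΨc : ∀ x y : ↥(Sim ⇑(Q8 F)), Ψ8 F x * Ψ8 F y * (Ψ8 F x)⁻¹ * (Ψ8 F y)⁻¹ =
      Ψ8 F (x * y * x⁻¹ * y⁻¹) := by
    intro x y
    simp only [map_mul, map_inv]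
  have hcomm1 : Ψ8 F B₀ * Ψ8 F A₀ = Ψ8 F A₀ * Ψ8 F B₀ := by
    rw [← commutatorElement_eq_one_iff_mul_comm, commutatorElement_def, hΨc]
    apply Ψ8_eq_one' h2
    exact comm_mem_omegaGL (Q8 F) hne8 hQ8 h2 hc2 B₀ A₀.1 hASO
  have hcomm2 : Ψ8 F ρ * Ψ8 F A₀ = Ψ8 F A₀ * Ψ8 F ρ := by
    rw [← commutatorElement_eq_one_iff_mul_comm, commutatorElement_def, hΨc]
    apply Ψ8_eq_one' h2
    exact comm_mem_omegaGL (Q8 F) hne8 hQ8 h2 hc2 ρ A₀.1 hASO
  have hcomm3 : Ψ8 F B₀ * Ψ8 F ρ * (Ψ8 F B₀)⁻¹ * (Ψ8 F ρ)⁻¹ = Ψ8 F A₀ := by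
    rw [hΨc]
    apply Ψ8_eq_of_not_mem h2 _ _ _ hASO _ hAn
    · exact comm_mem_sO (Q8 F) _ _ B₀.2 (rE F).2
    · exact comm_refl_not_mem (Q8 F) hne8 hQ8 h2 hc2 B₀ hBm oe Q8_oe
  rw [← bK_eq] at hcomm2 hcomm3
  refine ⟨aT_sq, bK_sq, hss, aba, ?_, hcomm1.symm, hcomm2, ?_⟩
  · rw [htd, mul_assoc, aT_sq, mul_one]
  · have h5 : bK F * Ψ8 F B₀ * (bK F)⁻¹ * (Ψ8 F B₀)⁻¹ = (Ψ8 F A₀)⁻¹ := by
      rw [← hcomm3]
      group
    rw [hsi, hbi] at h5
    rw [← h5, inv_mul_cancel_right]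

omit h2 in
theorem isSquare_sigma_mul (σ : F ≃+* F) (x : F) : IsSquare (σ x * x) := by
  by_cases hx : x = 0
  · rw [hx, mul_zero]; exact ⟨0, by simp⟩
  by_cases hs : IsSquare x
  · obtain ⟨y, rfl⟩ := hs
    exact ⟨σ y * y, by rw [map_mul]; ring⟩
  · have hs' : ¬ IsSquare (σ x) := by
      rintro ⟨y, hy⟩
      apply hs
      refine ⟨σ.symm y, ?_⟩
      apply σ.injective
      rw [map_mul, σ.apply_symm_apply, hy]
    exact SOIndexTwo.isSquare_mul_of_not _ _ ((map_ne_zero σ).2 hx) hx hs' hs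

/-- the classes of the similarities lie in the subgroup generated by `t`, `b`, `s` -/
theorem Ψ8_mem_closure (ν : Fˣ) (hν : ¬ IsSquare (ν : F)) (g : ↥(Sim ⇑(Q8 F))) :
    Ψ8 F g ∈ Subgroup.closure ({aT F, bK F,
      Ψ8 F (trA oe (bν (ν : F)) Q8_oe (bν_ne ν))} : Set (Out8 F)) := by
  have hrel := s4rel_out8 h2 ν hν
  set K := Subgroup.closure ({aT F, bK F,
      Ψ8 F (trA oe (bν (ν : F)) Q8_oe (bν_ne ν))} : Set (Out8 F)) with hK
  have htK : aT F ∈ K := Subgroup.subset_closure (by simp)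
  have hbK : bK F ∈ K := Subgroup.subset_closure (by simp)
  have hsK : Ψ8 F (trA oe (bν (ν : F)) Q8_oe (bν_ne ν)) ∈ K := Subgroup.subset_closure (by simp)
  have hBm : ¬ IsSquare (mult (⇑(Q8 F)) hne8 (trB oe (bν (ν : F)) (hμν ν)) : F) := by
    rw [mult_trB, oN_oe, one_mul, ← Q8_apply, bν_Q]
    exact hν
  have hsplit : Ψ8 F (trA oe (bν (ν : F)) Q8_oe (bν_ne ν)) =
      bK F * Ψ8 F (oSHom (Q8 F) (reflG (Q8 F) (bν (ν : F)) (bν_ne ν))) := by
    rw [bK_eq, ← map_mul, ← map_mul]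
    rfl
  have hr2K : Ψ8 F (oSHom (Q8 F) (reflG (Q8 F) (bν (ν : F)) (bν_ne ν))) ∈ K := by
    have : Ψ8 F (oSHom (Q8 F) (reflG (Q8 F) (bν (ν : F)) (bν_ne ν))) =
        (bK F)⁻¹ * Ψ8 F (trA oe (bν (ν : F)) Q8_oe (bν_ne ν)) := by
      rw [hsplit, inv_mul_cancel_left]
    rw [this]
    exact mul_mem (inv_mem hbK) hsK
  apply sim_gen (Q8 F) hQ8 h2 hne8 (K.comap (Ψ8 F)) _ _ (trB oe (bν (ν : F)) (hμν ν)) hBm
  · rw [Subgroup.mem_comap, ← hrel.hd]
    exact mul_mem (mul_mem htK hsK) htK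
  · intro c
    rw [Subgroup.mem_comap, Ψ8_eq_one h2 (zS (Q8 F) c) c 1 (one_mem _) (by rw [mul_one]; rfl)]
    exact one_mem _
  · intro v hv
    rw [Subgroup.mem_comap]
    by_cases hs : IsSquare (Q8 F v)
    · rw [Ψ8_refl_eq h2 v oe hv Q8_oe (by rw [Q8_apply oe, oN_oe, mul_one]; exact hs)]
      have : Ψ8 F (oSHom (Q8 F) (reflG (Q8 F) oe Q8_oe)) = bK F := bK_eq.symm
      rw [this]
      exact hbK
    · rw [Ψ8_refl_eq h2 v (bν (ν : F)) hv (bν_ne ν) (by
        rw [bν_Q]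
        exact SOIndexTwo.isSquare_mul_of_not _ _ hv (Units.ne_zero ν) hs hν)]
      exact hr2K

/-- the field automorphisms centralise the image of `PGO` in `Out` -/
theorem field_central8 (n : A8 F) (hn : n ∈ (Phi ⇑(Q8 F)).range) (σ : F ≃+* F) :
    π8 F (fO8 F σ) * π8 F n = π8 F n * π8 F (fO8 F σ) := by
  obtain ⟨g, rfl⟩ := hn
  obtain ⟨ν, hν⟩ := exists_nonsquare_unit (F := F) h2
  obtain ⟨c, hc⟩ := plus_field_data (m := 4) σ (isSquare_sigma_mul σ) ν
  have hl : ((levi (Matrix.GeneralLinearGroup.scalar (Fin 4) c) :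
      ↥(Cfsg.isometryGroup F ⇑(plusQF F 4))) : GL I8 F) ∈ Cfsg.Geo.omegaGL ⇑(Q8 F) := by
    rw [mem_omegaGL_iff]
    refine ⟨(levi _).2, ?_⟩
    apply (levi_mem_iff (by norm_num) (Or.inr (by norm_num)) _).2
    have hdet : ((Matrix.GeneralLinearGroup.scalar (Fin 4) c : GL (Fin 4) F) :
        Matrix (Fin 4) (Fin 4) F).det = (c : F) ^ 4 := by
      have := congrArg Units.val (Matrix.GeneralLinearGroup.det_scalar (n := Fin 4) c)
      rw [Matrix.GeneralLinearGroup.val_det_apply, Units.val_pow_eq_pow_val, Fintype.card_fin] at this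
      exact this
    rw [hdet]
    exact ⟨(c : F) ^ 2, by ring⟩
  have hA := field_act_A (Q8 F) σ (sigEq_plus σ) hQ8 h2 4 le_rfl hcard8 hne8 (isSquare_sigma_mul σ)
    ⟨dPlus ν, dPlus_mem ν⟩ (by rw [dPlus_mult]; exact hν) c _ hc hl g
  rw [← div_eq_mul_inv, ← QuotientGroup.eq_iff_div_mem] at hA
  have e1 : fO8 F σ = stdAut (Q8 F) σ (sigEq_plus σ) := rfl
  rw [← map_mul, ← map_mul, e1, stdAut_mul_Phi', map_mul, map_mul]
  congr 1

/-- **`Out(PΩ⁺₈(q)) ≅ S₄ × C_f`** for odd `q = p^f` -/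
theorem out8_odd {p f : ℕ} [Fact p.Prime] (hf : 1 ≤ f) (hF : Fintype.card F = p ^ f)
    (hp2 : p ≠ 2) : Nonempty (Out8 F ≃* Equiv.Perm (Fin 4) × Multiplicative (ZMod f)) := by
  haveI := charP_of_card (p := p) hF
  haveI : Finite (Out8 F) := by
    haveI : Finite (Cfsg.POmega F ⇑(Q8 F)) := by
      unfold Cfsg.POmega
      infer_instance
    haveI : Finite (A8 F) := Finite.of_injective
      (fun f : A8 F => (f : Cfsg.POmega F ⇑(Q8 F) → Cfsg.POmega F ⇑(Q8 F)))
      (fun f g h => MulEquiv.ext (congrFun h))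
    infer_instance
  obtain ⟨ν, hν⟩ := exists_nonsquare_unit (F := F) h2
  have hrel := s4rel_out8 h2 ν hν
  set s := Ψ8 F (trA oe (bν (ν : F)) Q8_oe (bν_ne ν)) with hs
  set K := Subgroup.closure ({aT F, bK F, s} : Set (Out8 F)) with hK
  have hamem : aT F ∈ K := Subgroup.subset_closure (by simp)
  have hbmem : bK F ∈ K := Subgroup.subset_closure (by simp)
  have hcen : CF F ≤ Subgroup.center (Out8 F) := CF_central (field_central8 h2)
  have hgenΓ : ∀ γ ∈ Γ8 F, ∃ k ∈ K, ∃ c ∈ CF F, π8 F γ = k * c := by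
    intro γ hγ
    obtain ⟨τ, n, ⟨g, rfl⟩, rfl⟩ := gamma_decomp hγ
    rw [map_mul]
    exact ⟨_, Ψ8_mem_closure h2 ν hν g, _, mem_CF.2 ⟨τ, rfl⟩, rfl⟩
  have hgen : ∀ g : Out8 F, ∃ k ∈ K, ∃ c ∈ CF F, g = k * c := by
    intro g
    obtain ⟨θ, rfl⟩ := QuotientGroup.mk'_surjective _ g
    rcases cosets_A8 (rE F) ⟨oe, Q8_oe, rfl⟩ θ with h | h | h
    · exact hgenΓ θ h
    · obtain ⟨k, hk, c, hc, e⟩ := hgenΓ _ h
      refine ⟨aT F * k, Subgroup.mul_mem _ hamem hk, c, hc, ?_⟩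
      have e' : θ = trial F * ((trial F : A8 F)⁻¹ * θ) := (mul_inv_cancel_left _ _).symm
      show π8 F θ = _
      rw [e', map_mul, e, mul_assoc]
      rfl
    · obtain ⟨k, hk, c, hc, e⟩ := hgenΓ _ h
      refine ⟨bK F * (aT F * k), Subgroup.mul_mem _ hbmem (Subgroup.mul_mem _ hamem hk), c, hc, ?_⟩
      have e' : θ = cO (rE F) * (trial F * ((cO (rE F) * (trial F : A8 F))⁻¹ * θ)) := by
        rw [← mul_assoc, mul_inv_cancel_left]
      show π8 F θ = _
      rw [e', map_mul, map_mul, e, mul_assoc, mul_assoc]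
      rfl
  have hcard : Nat.card (Out8 F) = 24 * Nat.card ↥(CF F) := by
    rw [card_Out8 (p := p) hf hF, if_neg hp2, card_CF (p := p) hF]
  obtain ⟨e⟩ := hrel.s4_times (CF F) hcen hgen hcard
  obtain ⟨e2⟩ := CF_equiv (p := p) hF
  exact ⟨e.trans (MulEquiv.prodCongr (MulEquiv.refl _) e2)⟩

end out8odd

end

section

open Matrix QuadraticMap Module
open Cfsg.Agent.Lib.H13 Cfsg.Agent.Lib.H13.AutPO Cfsg.Agent.Lib.H13.HypPairs
open Cfsg.Agent.Lib.H11.ConfOrth

section finalodd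

variable {F : Type*} [Field F] [Fintype F]

/-- S2608 -/
theorem out_plus_odd {p f m : ℕ} [Fact p.Prime] (hf : 1 ≤ f) (hF : Fintype.card F = p ^ f)
    (hp : p ≠ 2) (hm : 4 ≤ m) :
    if m = 4 then
      Nonempty (Cfsg.Out (Cfsg.POmega F ⇑(plusQF F m)) ≃*
        Equiv.Perm (Fin 4) × Multiplicative (ZMod f))
    else if p ^ f % 4 = 3 ∧ Odd m then
      Nonempty (Cfsg.Out (Cfsg.POmega F ⇑(plusQF F m)) ≃*
        Multiplicative (ZMod 2 × ZMod 2 × ZMod f))
    else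
      Nonempty (Cfsg.Out (Cfsg.POmega F ⇑(plusQF F m)) ≃*
        DihedralGroup 4 × Multiplicative (ZMod f)) := by
  by_cases h4 : m = 4
  · subst h4
    rw [if_pos rfl]
    haveI := charP_of_card (p := p) hF
    exact out8_odd (two_ne_zero_of_char (F := F) hp) hf hF hp
  · rw [if_neg h4]
    obtain ⟨h1, h3⟩ := out_plus_odd_big (F := F) hf hF hp (by omega : 5 ≤ m)
    by_cases hc : p ^ f % 4 = 3 ∧ Odd m
    · rw [if_pos hc]; exact h1 hc
    · rw [if_neg hc]; exact h3 hc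

end finalodd

end

end Cfsg.Agent.Lib.H13.Tri
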