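import Mathlib
import Cfsg.Agent.Lib.H13.Tri10
import Cfsg.Agent.Lib.H13.AutPO16

/-!
Triality, part 11 (helper13): the inner-diagonal group of `PΩ⁺₈(q)`, `q` odd, is normal in the full automorphism group
(`DD8_map_normal`). The subgroup `⟨s, d⟩` of an `S4Rel` configuration is normalised by `⟨t, b, s⟩` (`S4Rel.conj_V`); the
order of the standard field automorphism without any hypothesis on `Γ` (`orderOf_stdAutG`); `-1 ∈ Ω⁺₈(q)` (`negOne_mem8`); the
similarity `B₀` of the triality triple has `delta = 1` (`trB_mem_DD`); the classes of the similarities with `delta = 1` form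
the normal four-group (`Ψ8_DD_mem`); generation of `Out` (`out8_gen`).
-/

set_option autoImplicit false
set_option linter.unusedSectionVars false
set_option linter.unusedVariables false
set_option linter.unusedSimpArgs false
set_option linter.deprecated false

namespace Cfsg.Agent.Lib.H13.Tri

section

open Cfsg.Agent.Lib.H13.AutPO

section s4norm

variable {G : Type*} [Group G]

/-- conjugation by an element sending the generators into the closure preserves the closure -/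
theorem conj_closure_mem (g x y : G) (hx : g * x * g⁻¹ ∈ Subgroup.closure ({x, y} : Set G))
    (hy : g * y * g⁻¹ ∈ Subgroup.closure ({x, y} : Set G)) :
    ∀ v ∈ Subgroup.closure ({x, y} : Set G), g * v * g⁻¹ ∈ Subgroup.closure ({x, y} : Set G) := by
  intro v hv
  have hle : Subgroup.closure ({x, y} : Set G) ≤
      (Subgroup.closure ({x, y} : Set G)).comap (MulAut.conj g).toMonoidHom := by
    rw [Subgroup.closure_le]
    intro z hz
    rcases hz with rfl | hz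
    · exact hx
    · rw [Set.mem_singleton_iff] at hz
      subst hz
      exact hy
  exact hle hv

/-- an involution mapping a subgroup into itself normalises it -/
theorem mem_normalizer_of_invol (V : Subgroup G) (g : G) (hg : g * g = 1)
    (h : ∀ v ∈ V, g * v * g⁻¹ ∈ V) : g ∈ Subgroup.normalizer (V : Set G) := by
  rw [Subgroup.mem_normalizer_iff]
  intro v
  refine ⟨h v, fun hv => ?_⟩
  have hgi : g⁻¹ = g := inv_eq_of_mul_eq_one_left hg
  have := h _ hv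
  have e : g * (g * v * g⁻¹) * g⁻¹ = v := by
    rw [hgi]
    calc g * (g * v * g) * g = (g * g) * v * (g * g) := by simp only [mul_assoc]
      _ = v := by rw [hg, one_mul, mul_one]
  rwa [e] at this

namespace S4Rel

variable {t b s d : G} (h : S4Rel t b s d)

include h

/-- the subgroup generated by `s` and `d` is normalised by `t`, `b`, `s` -/
theorem closure_le_normalizer : Subgroup.closure ({t, b, s} : Set G) ≤
    Subgroup.normalizer ((Subgroup.closure ({s, d} : Set G) : Subgroup G) : Set G) := by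
  have hsV : s ∈ Subgroup.closure ({s, d} : Set G) := Subgroup.subset_closure (by simp)
  have hdV : d ∈ Subgroup.closure ({s, d} : Set G) := Subgroup.subset_closure (by simp)
  have ht := conj_closure_mem t s d (by rw [h.ti, h.hd]; exact hdV)
    (by rw [h.ti, h.t_d, mul_assoc, h.ht, mul_one]; exact hsV)
  have hb := conj_closure_mem b s d (by rw [h.bi, h.hbs, mul_assoc, h.hb, mul_one]; exact hsV)
    (by rw [h.bi, h.hbd]; exact mul_mem hsV hdV)
  have hs := conj_closure_mem s s d (by rw [h.si, h.hs, one_mul]; exact hsV)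
    (by rw [h.si, h.hsd, mul_assoc, h.hs, mul_one]; exact hdV)
  rw [Subgroup.closure_le]
  intro x hx
  rcases hx with rfl | rfl | hx
  · exact mem_normalizer_of_invol _ _ h.ht ht
  · exact mem_normalizer_of_invol _ _ h.hb hb
  · rw [Set.mem_singleton_iff] at hx
    subst hx
    exact mem_normalizer_of_invol _ _ h.hs hs

theorem conj_V (k : G) (hk : k ∈ Subgroup.closure ({t, b, s} : Set G)) (v : G)
    (hv : v ∈ Subgroup.closure ({s, d} : Set G)) :
    k * v * k⁻¹ ∈ Subgroup.closure ({s, d} : Set G) :=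
  (Subgroup.mem_normalizer_iff.1 (h.closure_le_normalizer hk) v).1 hv

/-- `(b d)² = s` -/
theorem bd_sq : (d * b) * (d * b) = s := by
  calc (d * b) * (d * b) = d * (b * d * b) := by simp only [mul_assoc]
    _ = s := by rw [h.hbd, h.hsd, ← mul_assoc, h.dd, one_mul]

end S4Rel

end s4norm

section ordstd

open Matrix QuadraticMap Module
open Cfsg.Agent.Lib.H11.ConfOrth

variable {F : Type*} [Field F] [Fintype F] {ι : Type} [Fintype ι] [DecidableEq ι]
variable (Q : QuadraticForm F (ι → F)) (σ : F ≃+* F)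

/-- the order of the standard field automorphism (no hypothesis on `Γ`) -/
theorem orderOf_stdAutG (hQ : (polarBilin Q).Nondegenerate) (hcard : 7 ≤ Fintype.card ι)
    (hσQ : SigEq σ Q) : orderOf (stdAut Q σ hσQ) = orderOf σ := by
  apply orderOf_eq_orderOf_iff.2
  intro i
  rw [stdAut_pow]
  constructor
  · intro h
    unfold stdAut at h
    exact (semi_ker_all Q hQ hcard _ _ _ h).1
  · intro h
    unfold stdAut
    have h1 : semiAut ⇑Q 1 (σ ^ i) (pair_one_of_sigEq Q (σ ^ i) (sigEq_pow Q σ hσQ i)) =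
        semiAut ⇑Q 1 1 (pair_one_of_sigEq Q 1 (fun v => rfl)) :=
      semiAut_congr ⇑Q rfl h _ _
    rw [h1]
    exact semiAut_one ⇑Q _

end ordstd

end

section

section

open Matrix QuadraticMap Module
open Cfsg.Agent.Lib.H13 Cfsg.Agent.Lib.H13.AutPO Cfsg.Agent.Lib.H13.HypPairs
open Cfsg.Agent.Lib.H11.ConfOrth Cfsg.Agent.Lib.H13.PlusLevi
open scoped commutatorElement

section norm8

variable {F : Type*} [Field F] [Fintype F]

variable (h2 : (2 : F) ≠ 0)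

include h2



/-- `-1 ∈ Ω⁺₈(q)` -/
theorem negOne_mem8 : negOne I8 F ∈ Cfsg.Geo.omegaGL ⇑(Q8 F) := by
  have hodd : Odd (Fintype.card F) := card_odd_of_two_ne_zero h2
  rw [negOne_mem_plus_iff (F := F) (m := 4) rfl hodd (by omega)]
  obtain ⟨k, hk⟩ := hodd
  rw [hk]
  have : (2 * k + 1) ^ 4 = 4 * (4 * k ^ 4 + 8 * k ^ 3 + 6 * k ^ 2 + 2 * k) + 1 := by ring
  rw [this]
  omega

/-- the class of an element of `SO ∖ Ω` is non-trivial -/
theorem Ψ8_ne_one (g : ↥(Sim ⇑(Q8 F))) (hg : g.1 ∈ Cfsg.specialIsometryGL F ⇑(Q8 F))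
    (hn : g.1 ∉ Cfsg.Geo.omegaGL ⇑(Q8 F)) : Ψ8 F g ≠ 1 := by
  intro h
  rw [Ψ8_apply, QuotientGroup.mk'_apply, QuotientGroup.eq_one_iff] at h
  have hiso : g.1 ∈ Cfsg.isometryGroup F ⇑(Q8 F) := ((mem_sO_iff (Q8 F) g.1).1 hg).1
  rw [mem_inn_iff_neg (Q8 F) hQ8 hc7_8 (negOne_mem8 h2) 1 ⟨g.1, hiso⟩ g
    (by rw [map_one, one_mul])] at h
  exact hn ((mem_omegaGL_iff (⇑(Q8 F)) g.1).2 ⟨hiso, h⟩)

omit h2 in
/-- elements of `SO` have `delta = 1` -/
theorem mem_DD_of_sO (g : ↥(Sim ⇑(Q8 F))) (hg : g.1 ∈ Cfsg.specialIsometryGL F ⇑(Q8 F)) :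
    g ∈ DD (Q8 F) 4 hne8 :=
  (mem_DD _ _ _ _).2 ((mem_sO_iff' (Q8 F) hne8 4 g).1 hg).2

/-- the inner-diagonal group modulo the inner automorphisms has exponent two -/
theorem DD8_sq (g : ↥(Sim ⇑(Q8 F))) (hg : g ∈ DD (Q8 F) 4 hne8) : Ψ8 F g * Ψ8 F g = 1 := by
  classical
  have hodd : Odd (Fintype.card F) := card_odd_of_two_ne_zero h2
  have hA := inndiag_plus_eq_odd (m := 4) h2 (hne8 (F := F))
  obtain ⟨-, -, hV4⟩ := plus_inndiag_aux hodd (le_refl 4) ⇑(plusQF F 4) rfl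
    ((DD (plusQF F 4) 4 hne8).map (Phi ⇑(plusQF F 4))) hA.symm
  obtain ⟨φ, -, hker⟩ := hV4 ⟨2, rfl⟩
  have hmem : Phi ⇑(plusQF F 4) g ∈ (DD (plusQF F 4) 4 hne8).map (Phi ⇑(plusQF F 4)) :=
    Subgroup.mem_map_of_mem _ hg
  have h1 : (⟨Phi ⇑(plusQF F 4) g, hmem⟩ : ↥((DD (plusQF F 4) 4 hne8).map (Phi ⇑(plusQF F 4)))) *
      ⟨Phi ⇑(plusQF F 4) g, hmem⟩ ∈ φ.ker := by
    rw [MonoidHom.mem_ker, map_mul]
    have : ∀ x : Multiplicative (ZMod 2 × ZMod 2), x * x = 1 := by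
      intro x
      apply Multiplicative.toAdd.injective
      show Multiplicative.toAdd x + Multiplicative.toAdd x = 0
      ext
      · exact CharTwo.add_self_eq_zero _
      · exact CharTwo.add_self_eq_zero _
    exact this _
  rw [hker, Subgroup.mem_subgroupOf] at h1
  have h3 : Phi ⇑(plusQF F 4) g * Phi ⇑(plusQF F 4) g ∈
      Cfsg.Inn (Cfsg.POmega F ⇑(plusQF F 4)) := h1
  rw [← map_mul]
  have h4 : Phi ⇑(Q8 F) (g * g) ∈ Cfsg.Inn (Cfsg.POmega F ⇑(Q8 F)) := by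
    rw [map_mul]; exact h3
  exact (QuotientGroup.eq_one_iff _).2 h4

/-- the similarity `B₀` of the triality triple has `delta = 1` -/
theorem trB_mem_DD (ν : Fˣ) (hν : ¬ IsSquare (ν : F)) :
    trB oe (bν (ν : F)) (hμν ν) ∈ DD (Q8 F) 4 hne8 := by
  have hrel := s4rel_out8 h2 ν hν
  rcases DD_dichotomy (Q8 F) hQ8 4 hcard8 hne8 (oSHom (Q8 F) (rE F)) oe Q8_oe rfl
    (trB oe (bν (ν : F)) (hμν ν)) with h | h
  · exact h
  · exfalso
    have h1 := DD8_sq h2 _ h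
    rw [map_mul, ← bK_eq, hrel.bd_sq] at h1
    refine Ψ8_ne_one h2 _ (trA_mem_sO h2 oe (bν (ν : F)) Q8_oe (bν_ne ν)) ?_ h1
    apply trA_not_mem h2
    rw [Q8_apply, oN_oe, one_mul, bν_Q]
    exact hν

/-- the classes of the similarities with `delta = 1` and square multiplier -/
theorem Ψ8_DD_sq (ν : Fˣ) (hν : ¬ IsSquare (ν : F)) (g : ↥(Sim ⇑(Q8 F)))
    (hg : g ∈ DD (Q8 F) 4 hne8) (hsq : IsSquare (mult (⇑(Q8 F)) hne8 g : F)) :
    Ψ8 F g ∈ Subgroup.closure ({Ψ8 F (trA oe (bν (ν : F)) Q8_oe (bν_ne ν)),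
      Ψ8 F (trB oe (bν (ν : F)) (hμν ν))} : Set (Out8 F)) := by
  classical
  have hpsi : psi (Q8 F) hne8 4 hQ8 h2 hcard8 g = 1 := by
    rw [psi_eq_one_iff]
    exact ⟨hsq, (mem_DD _ _ hne8 _).1 hg⟩
  rw [psi_eq_one_iff'] at hpsi
  obtain ⟨c, s, hs, hgs⟩ := hpsi
  by_cases hsω : s ∈ Cfsg.Geo.omegaGL ⇑(Q8 F)
  · rw [Ψ8_eq_one h2 g c s hsω hgs]
    exact one_mem _
  · have hiso : s ∈ Cfsg.isometryGroup F ⇑(Q8 F) := ((mem_sO_iff (Q8 F) s).1 hs).1
    have hg' : g = zS (Q8 F) c * oSHom (Q8 F) ⟨s, hiso⟩ := Subtype.ext hgs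
    have hA₀ : (trA oe (bν (ν : F)) Q8_oe (bν_ne ν)).1 ∉ Cfsg.Geo.omegaGL ⇑(Q8 F) := by
      apply trA_not_mem h2
      rw [Q8_apply, oN_oe, one_mul, bν_Q]
      exact hν
    rw [hg', map_mul, Ψ8_eq_one h2 (zS (Q8 F) c) c 1 (one_mem _) (by rw [mul_one]; rfl), one_mul,
      Ψ8_eq_of_not_mem h2 (oSHom (Q8 F) ⟨s, hiso⟩) (trA oe (bν (ν : F)) Q8_oe (bν_ne ν)) hs
        (trA_mem_sO h2 oe (bν (ν : F)) Q8_oe (bν_ne ν)) hsω hA₀]
    exact Subgroup.subset_closure (by simp)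

/-- the classes of the similarities with `delta = 1` form the normal four-group -/
theorem Ψ8_DD_mem (ν : Fˣ) (hν : ¬ IsSquare (ν : F)) (g : ↥(Sim ⇑(Q8 F)))
    (hg : g ∈ DD (Q8 F) 4 hne8) :
    Ψ8 F g ∈ Subgroup.closure ({Ψ8 F (trA oe (bν (ν : F)) Q8_oe (bν_ne ν)),
      Ψ8 F (trB oe (bν (ν : F)) (hμν ν))} : Set (Out8 F)) := by
  by_cases hsq : IsSquare (mult (⇑(Q8 F)) hne8 g : F)
  · exact Ψ8_DD_sq h2 ν hν g hg hsq
  · have hBD := trB_mem_DD h2 ν hν
    have hBm : (mult (⇑(Q8 F)) hne8 (trB oe (bν (ν : F)) (hμν ν)) : F) = (ν : F) := by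
      rw [mult_trB, oN_oe, one_mul, ← Q8_apply, bν_Q]
    have h1 : g * (trB oe (bν (ν : F)) (hμν ν))⁻¹ ∈ DD (Q8 F) 4 hne8 :=
      Subgroup.mul_mem _ hg (Subgroup.inv_mem _ hBD)
    have hsq' : IsSquare (mult (⇑(Q8 F)) hne8 (g * (trB oe (bν (ν : F)) (hμν ν))⁻¹) : F) := by
      rw [map_mul, map_inv, Units.val_mul, Units.val_inv_eq_inv_val, hBm]
      have hν0 : (ν : F) ≠ 0 := ν.ne_zero
      obtain ⟨u, hu⟩ := isSquare_mul_of_nonsquare h2 (ν : F) _ hν hsq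
      refine ⟨u * (ν : F)⁻¹, ?_⟩
      field_simp
      linear_combination hu
    have h3 := Ψ8_DD_sq h2 ν hν _ h1 hsq'
    have h4 : Ψ8 F g = Ψ8 F (g * (trB oe (bν (ν : F)) (hμν ν))⁻¹) *
        Ψ8 F (trB oe (bν (ν : F)) (hμν ν)) := by
      rw [← map_mul, inv_mul_cancel_right]
    rw [h4]
    exact mul_mem h3 (Subgroup.subset_closure (by simp))

/-- every outer automorphism class is a product of an element of `⟨t, b, s⟩` and a central
field automorphism class -/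
theorem out8_gen (ν : Fˣ) (hν : ¬ IsSquare (ν : F)) (g : Out8 F) :
    ∃ k ∈ Subgroup.closure ({aT F, bK F,
      Ψ8 F (trA oe (bν (ν : F)) Q8_oe (bν_ne ν))} : Set (Out8 F)), ∃ c ∈ CF F, g = k * c := by
  have hamem : aT F ∈ Subgroup.closure ({aT F, bK F,
      Ψ8 F (trA oe (bν (ν : F)) Q8_oe (bν_ne ν))} : Set (Out8 F)) :=
    Subgroup.subset_closure (by simp)
  have hbmem : bK F ∈ Subgroup.closure ({aT F, bK F,
      Ψ8 F (trA oe (bν (ν : F)) Q8_oe (bν_ne ν))} : Set (Out8 F)) :=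
    Subgroup.subset_closure (by simp)
  have hgenΓ : ∀ γ ∈ Γ8 F, ∃ k ∈ Subgroup.closure ({aT F, bK F,
      Ψ8 F (trA oe (bν (ν : F)) Q8_oe (bν_ne ν))} : Set (Out8 F)),
      ∃ c ∈ CF F, π8 F γ = k * c := by
    intro γ hγ
    obtain ⟨τ, n, ⟨g, rfl⟩, rfl⟩ := gamma_decomp hγ
    rw [map_mul]
    exact ⟨_, Ψ8_mem_closure h2 ν hν g, _, mem_CF.2 ⟨τ, rfl⟩, rfl⟩
  obtain ⟨θ, rfl⟩ := QuotientGroup.mk'_surjective _ g
  rcases cosets_A8 (rE F) ⟨oe, Q8_oe, rfl⟩ θ with h | h | h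
  · exact hgenΓ θ h
  · obtain ⟨k, hk, c, hc, e⟩ := hgenΓ _ h
    refine ⟨aT F * k, Subgroup.mul_mem _ hamem hk, c, hc, ?_⟩
    have e' : θ = trial F * ((trial F : A8 F)⁻¹ * θ) := (mul_inv_cancel_left _ _).symm
    show π8 F θ = _
    rw [e', map_mul, e, mul_assoc]
    rfl
  · obtain ⟨k, hk, c, hc, e⟩ := hgenΓ _ h
    refine ⟨bK F * (aT F * k), Subgroup.mul_mem _ hbmem (Subgroup.mul_mem _ hamem hk), c, hc, ?_⟩
    have e' : θ = cO (rE F) * (trial F * ((cO (rE F) * (trial F : A8 F))⁻¹ * θ)) := by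
      rw [← mul_assoc, mul_inv_cancel_left]
    show π8 F θ = _
    rw [e', map_mul, map_mul, e, mul_assoc, mul_assoc]
    rfl

/-- **the inner-diagonal group of `PΩ⁺₈(q)`, `q` odd, is normal in the full automorphism group** -/
theorem DD8_map_normal : ((DD (Q8 F) 4 hne8).map (Phi ⇑(Q8 F))).Normal := by
  obtain ⟨ν, hν⟩ := exists_nonsquare_unit (F := F) h2
  have hrel := s4rel_out8 h2 ν hν
  have hcen : CF F ≤ Subgroup.center (Out8 F) := CF_central (field_central8 h2)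
  have hInn := inn_le_DD_map (Q8 F) hQ8 h2 4 (by omega) hcard8 hne8
  have hA₀D : trA oe (bν (ν : F)) Q8_oe (bν_ne ν) ∈ DD (Q8 F) 4 hne8 :=
    mem_DD_of_sO _ (trA_mem_sO h2 oe (bν (ν : F)) Q8_oe (bν_ne ν))
  have hB₀D := trB_mem_DD h2 ν hν
  -- the four-group lies in the image of the inner-diagonal group
  have hV : Subgroup.closure ({Ψ8 F (trA oe (bν (ν : F)) Q8_oe (bν_ne ν)),
      Ψ8 F (trB oe (bν (ν : F)) (hμν ν))} : Set (Out8 F)) ≤
      ((DD (Q8 F) 4 hne8).map (Phi ⇑(Q8 F))).map (π8 F) := by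
    rw [Subgroup.closure_le]
    intro z hz
    rcases hz with rfl | hz
    · exact ⟨_, Subgroup.mem_map_of_mem _ hA₀D, rfl⟩
    · rw [Set.mem_singleton_iff] at hz
      subst hz
      exact ⟨_, Subgroup.mem_map_of_mem _ hB₀D, rfl⟩
  constructor
  rintro _ ⟨g, hg, rfl⟩ θ
  obtain ⟨k, hk, c, hc, e⟩ := out8_gen h2 ν hν (π8 F θ)
  have hcc := Subgroup.mem_center_iff.1 (hcen hc)
  have h1 : π8 F (θ * Phi ⇑(Q8 F) g * θ⁻¹) = k * Ψ8 F g * k⁻¹ := by
    rw [map_mul, map_mul, map_inv, e, ← Ψ8_apply, _root_.mul_inv_rev]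
    calc k * c * Ψ8 F g * (c⁻¹ * k⁻¹) = k * (c * Ψ8 F g) * c⁻¹ * k⁻¹ := by simp only [mul_assoc]
      _ = k * (Ψ8 F g * c) * c⁻¹ * k⁻¹ := by rw [hcc]
      _ = k * Ψ8 F g * k⁻¹ := by simp only [mul_assoc, mul_inv_cancel_left]
  have h3 := hV (hrel.conj_V k hk _ (Ψ8_DD_mem h2 ν hν g hg))
  rw [← h1] at h3
  obtain ⟨a, ha, hae⟩ := h3
  have h4 : a⁻¹ * (θ * Phi ⇑(Q8 F) g * θ⁻¹) ∈ Cfsg.Inn (Cfsg.POmega F ⇑(Q8 F)) := by
    rw [← QuotientGroup.eq_one_iff, QuotientGroup.mk_mul, QuotientGroup.mk_inv]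
    have hae' : (QuotientGroup.mk a : Out8 F) = QuotientGroup.mk (θ * Phi ⇑(Q8 F) g * θ⁻¹) := hae
    rw [hae', inv_mul_cancel]
  have := Subgroup.mul_mem _ ha (hInn h4)
  rwa [mul_inv_cancel_left] at this

end norm8

end

end

end Cfsg.Agent.Lib.H13.Tri
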