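import Mathlib
import Cfsg.Agent.Lib.H13.Tri11

/-!
Triality, part 12 (helper13): field automorphisms of prime order of `PΩ⁺_{2m}(q)`, `m ≥ 4` (S2715). Normality of the
inner-diagonal group for all `m ≥ 4` (`DD_plus_normal`), descent to the fixed field (`descend_plus`, `cent_plus_odd`,
`cent_plus_two`), fixed representatives modulo inner automorphisms for `σ` of odd order (`hP8_gen`, `hP8_plus`), the index
`|Inndiag : Inn| = 4` for `q ≡ 1 (mod 4)` (`relIndex_inn_four'`), `dPlus_sq_inn_iff`, the class count for an involutory field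
automorphism (`field_count`), and `s2715_odd`, `s2715_two`.
-/

set_option autoImplicit false
set_option linter.unusedSectionVars false
set_option linter.unusedVariables false
set_option linter.unusedSimpArgs false
set_option linter.deprecated false

namespace Cfsg.Agent.Lib.H13.Tri

section

section

open Matrix QuadraticMap Module
open Cfsg.Agent.Lib.H13 Cfsg.Agent.Lib.H13.AutPO Cfsg.Agent.Lib.H13.HypPairs
open Cfsg.Agent.Lib.H11.ConfOrth Cfsg.Agent.Lib.H13.PlusLevi Cfsg.Agent.Lib.H13.PlusTS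

section plusfield

universe u v

variable {F : Type u} [Field F] [Fintype F] {m : ℕ}

local notation "KK" => (Fin m ⊕ Fin m)

/-- the inner-diagonal group of `PΩ⁺_{2m}(q)`, `q` odd, `m ≥ 4`, is normal in the automorphism
group -/
theorem DD_plus_normal (h2 : (2 : F) ≠ 0) (hm : 4 ≤ m) (hne : ∃ v, plusQF F m v ≠ 0) :
    ((DD (plusQF F m) m hne).map (Phi ⇑(plusQF F m))).Normal := by
  rcases Nat.lt_or_ge 4 m with h | h
  · exact DD_map_normal (plusQF F m) m hne (hall_plus h)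
  · have : m = 4 := by omega
    subst this
    exact DD8_map_normal h2

/-- the data over an isomorphic copy of the fixed field -/
theorem descend_plus {p f : ℕ} [Fact p.Prime] (hF : Fintype.card F = p ^ f)
    (σ : F ≃+* F) (hσQ : SigEq σ (plusQF F m))
    {r : ℕ} (hr : 0 < r) (hσr : orderOf σ = r)
    (F₀ : Type v) [Field F₀] [Fintype F₀] (hF₀ : Fintype.card F₀ = p ^ (f / r)) :
    ∃ (e : AutPSL.fixF σ ≃+* F₀),
      (∀ v, plusQF F₀ m (fun i => e (v i)) = e (down (plusQF F m) hσQ v)) := by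
  haveI : Fintype (AutPSL.fixF σ) := Fintype.ofFinite _
  have hce : Fintype.card (AutPSL.fixF σ) = Fintype.card F₀ := by
    rw [hF₀, ← AutPSL.card_fixF' σ hr hσr hF, Nat.card_eq_fintype_card]
  refine ⟨FiniteField.ringEquivOfCardEq hce, ?_⟩
  intro v
  rw [down_plus σ hσQ, plusQF_apply, plusQF_apply]
  exact quadFormPlus_map m ((FiniteField.ringEquivOfCardEq hce : AutPSL.fixF σ ≃+* F₀) :
    AutPSL.fixF σ →+* F₀) v

/-- the centraliser of the standard field automorphism in the inner-diagonal group, odd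
characteristic -/
theorem cent_plus_odd (h2 : (2 : F) ≠ 0) (hm : 4 ≤ m) {p f : ℕ} [Fact p.Prime]
    (hF : Fintype.card F = p ^ f) (σ : F ≃+* F) {r : ℕ} (hr : 0 < r) (hσr : orderOf σ = r)
    (hne : ∃ v, plusQF F m v ≠ 0)
    (F₀ : Type v) [Field F₀] [Fintype F₀] (hF₀ : Fintype.card F₀ = p ^ (f / r)) :
    (2 : F₀) ≠ 0 ∧ ∀ hne₂ : ∃ v, plusQF F₀ m v ≠ 0,
      Nonempty (↥((DD (plusQF F m) m hne).map (Phi ⇑(plusQF F m)) ⊓
        Subgroup.centralizer {stdAut (plusQF F m) σ (sigEq_plus σ)}) ≃*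
        ↥((DD (plusQF F₀ m) m hne₂).map (Phi ⇑(plusQF F₀ m)))) := by
  have hQ : (polarBilin (plusQF F m)).Nondegenerate := Cfsg.Agent.S0287.nondeg (F := F) m
  have hcard : Fintype.card KK = 2 * m := card_plus
  have hc7 : 7 ≤ Fintype.card KK := by rw [hcard]; omega
  obtain ⟨e, hQe⟩ := descend_plus hF σ (sigEq_plus σ) hr hσr F₀ hF₀
  have h2₀ : (2 : F₀) ≠ 0 := by
    intro h
    apply two_ne_zero_fix (σ := σ) h2
    apply e.injective
    rw [map_zero, map_ofNat]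
    exact h
  have hQ₂ : (polarBilin (plusQF F₀ m)).Nondegenerate := Cfsg.Agent.S0287.nondeg (F := F₀) m
  have hker₂ := ker_Phi_all (plusQF F₀ m) hQ₂ hc7
  have hZ := ker_Phi_le_DD (plusQF F m) hQ hc7 m hcard hne
  haveI : Nonempty KK := ⟨Sum.inl ⟨0, by omega⟩⟩
  refine ⟨h2₀, fun hne₂ => ?_⟩
  exact centralizer_D_equiv (plusQF F m) (sigEq_plus σ) (ker_Phi_all (plusQF F m) hQ hc7) hne hr hσr
    (DD (plusQF F m) m hne) hZ _ e hQe hker₂ (DD (plusQF F₀ m) m hne₂)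
    (hcomp_odd (plusQF F m) (sigEq_plus σ) hne m (plusQF F₀ m) hne₂ e hQe)

/-- the centraliser of the standard field automorphism in the inner automorphism group,
characteristic two -/
theorem cent_plus_two [CharP F 2] (hm : 4 ≤ m) {p f : ℕ} [Fact p.Prime]
    (hF : Fintype.card F = p ^ f) (σ : F ≃+* F) {r : ℕ} (hr : 0 < r) (hσr : orderOf σ = r)
    (F₀ : Type v) [Field F₀] [Fintype F₀] (hF₀ : Fintype.card F₀ = p ^ (f / r)) :
    (2 : F₀) = 0 ∧
      Nonempty (↥(Cfsg.Inn (Cfsg.POmega F ⇑(plusQF F m)) ⊓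
        Subgroup.centralizer {stdAut (plusQF F m) σ (sigEq_plus σ)}) ≃*
        ↥(Cfsg.Inn (Cfsg.POmega F₀ ⇑(plusQF F₀ m)))) := by
  have hQ : (polarBilin (plusQF F m)).Nondegenerate := Cfsg.Agent.S0287.nondeg (F := F) m
  have hcard : Fintype.card KK = 2 * m := card_plus
  have hc7 : 7 ≤ Fintype.card KK := by rw [hcard]; omega
  have hne := exists_neO (plusQF F m) hQ hc7
  obtain ⟨e, hQe⟩ := descend_plus hF σ (sigEq_plus σ) hr hσr F₀ hF₀
  have h2₀ : (2 : F₀) = 0 := by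
    have h : (2 : AutPSL.fixF σ) = 0 := CharTwo.two_eq_zero
    have := congrArg e h
    rwa [map_zero, map_ofNat] at this
  haveI : CharP F₀ 2 := CharTwo.of_one_ne_zero_of_two_eq_zero one_ne_zero h2₀
  have hQ₂ : (polarBilin (plusQF F₀ m)).Nondegenerate := Cfsg.Agent.S0287.nondeg (F := F₀) m
  have hker₂ := ker_Phi_all (plusQF F₀ m) hQ₂ hc7
  have hZ : (Phi ⇑(plusQF F m)).ker ≤
      (Cfsg.Inn (Cfsg.POmega F ⇑(plusQF F m))).comap (Phi ⇑(plusQF F m)) := by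
    intro g hg
    rw [Subgroup.mem_comap, MonoidHom.mem_ker.1 hg]
    exact Subgroup.one_mem _
  haveI : Nonempty KK := ⟨Sum.inl ⟨0, by omega⟩⟩
  refine ⟨h2₀, ?_⟩
  have := centralizer_D_equiv (plusQF F m) (sigEq_plus σ) (ker_Phi_all (plusQF F m) hQ hc7) hne hr
    hσr ((Cfsg.Inn (Cfsg.POmega F ⇑(plusQF F m))).comap (Phi ⇑(plusQF F m))) hZ _ e hQe hker₂
    ((Cfsg.Inn (Cfsg.POmega F₀ ⇑(plusQF F₀ m))).comap (Phi ⇑(plusQF F₀ m)))
    (hcomp_two (plusQF F m) (sigEq_plus σ) hQ hc7 (plusQF F₀ m) hQ₂ e hQe)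
  rwa [map_comap_inn _ hQ₂ hc7, map_comap_inn _ hQ hc7] at this

end plusfield

end

end

section

section

open Matrix QuadraticMap Module
open Cfsg.Agent.Lib.H13 Cfsg.Agent.Lib.H13.AutPO Cfsg.Agent.Lib.H13.HypPairs
open Cfsg.Agent.Lib.H11.ConfOrth Cfsg.Agent.Lib.H13.PlusLevi Cfsg.Agent.Lib.H13.PlusTS

section p8gen

variable {F : Type*} [Field F] [Fintype F] {ι : Type} [Fintype ι] [DecidableEq ι]
variable (Q : QuadraticForm F (ι → F)) (hQ : (polarBilin Q).Nondegenerate)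

include hQ in
/-- odd characteristic, `σ` of odd order: modulo inner automorphisms every element of
`ker delta` is represented by a matrix fixed by `σ`, provided one fixed element with non-square
multiplier exists -/
theorem hP8_gen (h2 : (2 : F) ≠ 0) (d : ℕ) (hcard : Fintype.card ι = 2 * d)
    (hc7 : 7 ≤ Fintype.card ι) (σ : F ≃+* F) (hσQ : SigEq σ Q) {r : ℕ} (hrodd : Odd r)
    (hσ : orderOf σ = r) (hne : ∃ v, Q v ≠ 0)
    (hk : ∃ k₁ ∈ DD Q d hne, glmap σ k₁.1 = k₁.1 ∧ ¬ IsSquare ((mult (⇑Q) hne k₁ : Fˣ) : F))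
    (g : ↥(Sim ⇑Q)) (hg : g ∈ DD Q d hne) :
    ∃ g' ∈ DD Q d hne, glmap σ g'.1 = g'.1 ∧
      Phi ⇑Q (g * g'⁻¹) ∈ Cfsg.Inn (Cfsg.POmega F ⇑Q) := by
  classical
  have hker := ker_Phi_all Q hQ hc7
  haveI : Fintype (AutPSL.fixF σ) := Fintype.ofFinite _
  have hns := exists_nonsquare_coe σ h2 hrodd hσ
  have step1 : ∃ k₁ ∈ DD Q d hne, glmap σ k₁.1 = k₁.1 ∧
      IsSquare ((mult (⇑Q) hne (g * k₁⁻¹) : Fˣ) : F) := by
    by_cases hsq : IsSquare ((mult (⇑Q) hne g : Fˣ) : F)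
    · refine ⟨1, Subgroup.one_mem _, by rw [Subgroup.coe_one, map_one], ?_⟩
      rw [inv_one, mul_one]
      exact hsq
    · obtain ⟨k₁, hk₁D, hk₁σ, hk₁ns⟩ := hk
      refine ⟨k₁, hk₁D, hk₁σ, ?_⟩
      rw [map_mul, map_inv, Units.val_mul, Units.val_inv_eq_inv_val]
      have hν0 : ((mult (⇑Q) hne k₁ : Fˣ) : F) ≠ 0 := Units.ne_zero _
      obtain ⟨u, hu⟩ := isSquare_mul_of_nonsquare h2 ((mult (⇑Q) hne k₁ : Fˣ) : F) _ hk₁ns hsq
      refine ⟨u * ((mult (⇑Q) hne k₁ : Fˣ) : F)⁻¹, ?_⟩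
      field_simp
      linear_combination hu
  obtain ⟨k₁, hk₁D, hk₁σ, hsq⟩ := step1
  have hg₁D : g * k₁⁻¹ ∈ DD Q d hne := Subgroup.mul_mem _ hg (Subgroup.inv_mem _ hk₁D)
  have hpsi : psi Q hne d hQ h2 hcard (g * k₁⁻¹) = 1 := by
    rw [psi_eq_one_iff]
    exact ⟨hsq, (mem_DD _ _ hne _).1 hg₁D⟩
  rw [psi_eq_one_iff'] at hpsi
  obtain ⟨c, s, hs, hgs⟩ := hpsi
  by_cases hsω : s ∈ Cfsg.Geo.omegaGL ⇑Q
  · refine ⟨k₁, hk₁D, hk₁σ, ?_⟩
    rw [inn_eq]
    exact (mem_comap_map Q hker (Cfsg.Geo.omegaGL ⇑Q) (g * k₁⁻¹)).2 ⟨c, s, hsω, hgs⟩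
  · obtain ⟨s₀, hs₀, hs₀ω⟩ := exists_so_not_omega Q hσQ hQ h2 (by omega) hns
    have hs₀O := ((mem_sO_iff (down Q hσQ) s₀).1 hs₀).1
    have hs₀det := ((mem_sO_iff (down Q hσQ) s₀).1 hs₀).2
    have hs₀S : s₀ ∈ Sim ⇑(down Q hσQ) := iso_le_sim _ hs₀O
    have htso : upGL s₀ ∈ Cfsg.specialIsometryGL F ⇑Q := by
      rw [mem_sO_iff]
      refine ⟨upGL_mem_iso Q hσQ s₀ hs₀O, ?_⟩
      rw [det_upGL, hs₀det]
      rfl
    have hTD : upSim Q hσQ ⟨s₀, hs₀S⟩ ∈ DD Q d hne := by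
      rw [mem_DD]
      have := (mem_sO_iff' Q hne d (upSim Q hσQ ⟨s₀, hs₀S⟩)).1 htso
      exact this.2
    refine ⟨upSim Q hσQ ⟨s₀, hs₀S⟩ * k₁, Subgroup.mul_mem _ hTD hk₁D, ?_, ?_⟩
    · rw [Subgroup.coe_mul, map_mul, hk₁σ, upSim_val, glmap_upGL]
    · rw [inn_eq]
      refine (mem_comap_map Q hker (Cfsg.Geo.omegaGL ⇑Q)
        (g * (upSim Q hσQ ⟨s₀, hs₀S⟩ * k₁)⁻¹)).2 ⟨c, s * (upGL s₀)⁻¹, ?_, ?_⟩
      · rw [mul_mem_omegaGL_iff Q hQ h2 (by omega) s (upGL s₀)⁻¹ hs (Subgroup.inv_mem _ htso)]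
        constructor
        · intro h; exact absurd h hsω
        · intro h
          exfalso
          apply hs₀ω
          have := Subgroup.inv_mem _ h
          rwa [inv_inv] at this
      · have e1 : g * (upSim Q hσQ ⟨s₀, hs₀S⟩ * k₁)⁻¹ =
            (g * k₁⁻¹) * (upSim Q hσQ ⟨s₀, hs₀S⟩)⁻¹ := by group
        rw [e1, Subgroup.coe_mul, hgs, Subgroup.coe_inv, upSim_val, mul_assoc]

end p8gen

section p8plus

variable {F : Type*} [Field F] [Fintype F] {m : ℕ}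

local notation "KK" => (Fin m ⊕ Fin m)

theorem hP8_plus (h2 : (2 : F) ≠ 0) (hm : 4 ≤ m) (σ : F ≃+* F) {r : ℕ} (hrodd : Odd r)
    (hσ : orderOf σ = r) (hne : ∃ v, plusQF F m v ≠ 0) (g : ↥(Sim ⇑(plusQF F m)))
    (hg : g ∈ DD (plusQF F m) m hne) :
    ∃ g' ∈ DD (plusQF F m) m hne, glmap σ g'.1 = g'.1 ∧
      Phi ⇑(plusQF F m) (g * g'⁻¹) ∈ Cfsg.Inn (Cfsg.POmega F ⇑(plusQF F m)) := by
  have hQ : (polarBilin (plusQF F m)).Nondegenerate := Cfsg.Agent.S0287.nondeg (F := F) m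
  have hcard : Fintype.card KK = 2 * m := card_plus
  have hc7 : 7 ≤ Fintype.card KK := by rw [hcard]; omega
  obtain ⟨x₀, hx₀, hx₀ns⟩ := exists_nonsquare_coe σ h2 hrodd hσ
  have hx₀F : (x₀ : F) ≠ 0 := fun h => hx₀ (Subtype.ext h)
  refine hP8_gen (plusQF F m) hQ h2 m hcard hc7 σ (sigEq_plus σ) hrodd hσ hne
    ⟨⟨dPlus (Units.mk0 (x₀ : F) hx₀F), dPlus_mem _⟩, (mem_DD _ _ hne _).2 (dPlus_delta hne _),
      ?_, ?_⟩ g hg
  · show glmap σ (dPlus (Units.mk0 (x₀ : F) hx₀F)) = dPlus (Units.mk0 (x₀ : F) hx₀F)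
    rw [glmap_dPlus]
    congr 1
    apply Units.ext
    exact (AutPSL.mem_fixF_iff σ _).1 x₀.2
  · rw [dPlus_mult, Units.val_mk0]
    exact hx₀ns

end p8plus

end

end

section

section

open Matrix QuadraticMap Module
open Cfsg.Agent.Lib.H13 Cfsg.Agent.Lib.H13.AutPO Cfsg.Agent.Lib.H13.HypPairs
open Cfsg.Agent.Lib.H11.ConfOrth Cfsg.Agent.Lib.H13.PlusLevi Cfsg.Agent.Lib.H13.PlusTS

section fcount

universe u

variable {F : Type u} [Field F] [Fintype F] {m : ℕ}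

local notation "KK" => (Fin m ⊕ Fin m)

/-- the index of the inner automorphism group in the inner-diagonal group is four -/
theorem relIndex_inn_four' (h2 : (2 : F) ≠ 0) (hm : 4 ≤ m) (hne : ∃ v, plusQF F m v ≠ 0)
    (hc4 : Fintype.card F % 4 = 1) :
    (Cfsg.Inn (Cfsg.POmega F ⇑(plusQF F m))).relIndex
      ((DD (plusQF F m) m hne).map (Phi ⇑(plusQF F m))) = 4 := by
  classical
  have hodd : Odd (Fintype.card F) := card_odd_of_two_ne_zero h2
  have hA := inndiag_plus_eq_odd (m := m) h2 hne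
  obtain ⟨-, hZ4, hV4⟩ := plus_inndiag_aux hodd hm ⇑(plusQF F m) rfl
    ((DD (plusQF F m) m hne).map (Phi ⇑(plusQF F m))) hA.symm
  by_cases hmo : Odd m
  · obtain ⟨φ, hsurj, hker⟩ := hZ4 ⟨hmo, hc4⟩
    unfold Subgroup.relIndex
    rw [← hker, Subgroup.index_ker, MonoidHom.range_eq_top.2 hsurj, Subgroup.card_top]
    simp [Nat.card_eq_fintype_card]
  · rw [Nat.not_odd_iff_even] at hmo
    obtain ⟨φ, hsurj, hker⟩ := hV4 hmo
    unfold Subgroup.relIndex
    rw [← hker, Subgroup.index_ker, MonoidHom.range_eq_top.2 hsurj, Subgroup.card_top]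
    simp [Nat.card_eq_fintype_card]

/-- `diag(c², …, c², 1, …, 1)` induces an inner automorphism iff `c ^ m` is a square -/
theorem dPlus_sq_inn_iff (h2 : (2 : F) ≠ 0) (hm : 4 ≤ m) (hc4 : Fintype.card F % 4 = 1)
    (c : Fˣ) :
    Phi ⇑(plusQF F m) ⟨dPlus (c * c), dPlus_mem _⟩ ∈ Cfsg.Inn (Cfsg.POmega F ⇑(plusQF F m)) ↔
      IsSquare ((c : F) ^ m) := by
  have hQ : (polarBilin (plusQF F m)).Nondegenerate := Cfsg.Agent.S0287.nondeg (F := F) m
  have hcard : Fintype.card KK = 2 * m := card_plus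
  have hc7 : 7 ≤ Fintype.card KK := by rw [hcard]; omega
  have hodd : Odd (Fintype.card F) := card_odd_of_two_ne_zero h2
  have hneg : negOne KK F ∈ Cfsg.Geo.omegaGL ⇑(plusQF F m) := by
    rw [negOne_mem_plus_iff (F := F) (m := m) rfl hodd (by omega),
      pow_mod_four_eq_one_iff hodd]
    rintro ⟨-, h⟩
    omega
  have hdet : ((Matrix.GeneralLinearGroup.scalar (Fin m) c : GL (Fin m) F) :
      Matrix (Fin m) (Fin m) F).det = (c : F) ^ m := by
    have := congrArg Units.val (Matrix.GeneralLinearGroup.det_scalar (n := Fin m) c)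
    rw [Matrix.GeneralLinearGroup.val_det_apply, Units.val_pow_eq_pow_val, Fintype.card_fin] at this
    exact this
  rw [mem_inn_iff_neg (plusQF F m) hQ hc7 hneg c
    (levi (Matrix.GeneralLinearGroup.scalar (Fin m) c)) ⟨dPlus (c * c), dPlus_mem _⟩
    (by
      show dPlus (c * c) = _
      rw [dPlus_mul, dPlus_sq]),
    levi_mem_iff (by omega) (Or.inr (by omega)), hdet]

set_option maxHeartbeats 1600000 in
/-- the number of classes into which the class of the standard field automorphism of order two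
splits -/
theorem field_count (h2 : (2 : F) ≠ 0) (hm : 4 ≤ m) {p f : ℕ} [Fact p.Prime]
    (hF : Fintype.card F = p ^ f) (hf : 1 ≤ f) (σ : F ≃+* F) (hσ2 : orderOf σ = 2)
    (hne : ∃ v, plusQF F m v ≠ 0) :
    ((Odd m ∧ p ^ (f / 2) % 4 = 1) →
      Cfsg.splitClassCount ((DD (plusQF F m) m hne).map (Phi ⇑(plusQF F m)))
        (Cfsg.Inn (Cfsg.POmega F ⇑(plusQF F m))) (stdAut (plusQF F m) σ (sigEq_plus σ)) = 2) ∧
    (¬ (Odd m ∧ p ^ (f / 2) % 4 = 1) →
      Cfsg.splitClassCount ((DD (plusQF F m) m hne).map (Phi ⇑(plusQF F m)))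
        (Cfsg.Inn (Cfsg.POmega F ⇑(plusQF F m))) (stdAut (plusQF F m) σ (sigEq_plus σ)) = 4) := by
  classical
  have hQ : (polarBilin (plusQF F m)).Nondegenerate := Cfsg.Agent.S0287.nondeg (F := F) m
  have hcard : Fintype.card KK = 2 * m := card_plus
  have hc7 : 7 ≤ Fintype.card KK := by rw [hcard]; omega
  have hker := ker_Phi_all (plusQF F m) hQ hc7
  have hσQ : SigEq σ (plusQF F m) := sigEq_plus σ
  haveI : Fintype (AutPSL.fixF σ) := Fintype.ofFinite _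
  have hnd₀ := down_nondeg (plusQF F m) hσQ hQ
  have hne₀ := exists_ne_of_nondeg (down (plusQF F m) hσQ) hnd₀ (by rw [hcard]; omega)
  obtain ⟨t, ht, hhalf⟩ := exists_half h2 hF σ hσ2
  have hodd : Odd (Fintype.card F) := card_odd_of_two_ne_zero h2
  have hc4 : Fintype.card F % 4 = 1 := by
    obtain ⟨s, hs⟩ := hodd
    have h1 : Fintype.card F = 4 * (t * (t + 1)) + 1 := by
      have : Fintype.card F / 2 = s := by omega
      rw [this] at hhalf
      rw [hs, hhalf]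
      ring
    omega
  obtain ⟨c, hc, hσc⟩ := exists_anti h2 σ hσ2
  have hZ := ker_Phi_le_DD (plusQF F m) hQ hc7 m hcard hne
  have hInnA := inn_le_DD_map (plusQF F m) hQ h2 m (by omega) hcard hne
  haveI := inn_normal (Cfsg.POmega F ⇑(plusQF F m))
  have h4 := relIndex_inn_four' h2 hm hne hc4
  have hcent := centralizer_D (plusQF F m) σ hσQ hker hne (by norm_num : 0 < 2) hσ2
    (DD (plusQF F m) m hne) hZ
  -- the subgroup `B`
  have hIB := inn_le_sqSub_map (plusQF F m) hne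
  have hCB : (DD (plusQF F m) m hne).map (Phi ⇑(plusQF F m)) ⊓
      Subgroup.centralizer {stdAut (plusQF F m) σ hσQ} ≤
      (sqSub (plusQF F m) hne).map (Phi ⇑(plusQF F m)) := by
    rw [hcent]
    rintro _ ⟨k, hk, rfl⟩
    refine ⟨upSim (plusQF F m) hσQ k, ?_, rfl⟩
    rw [SetLike.mem_coe, mem_sqSub, mult_upSim (plusQF F m) hσQ hne hne₀ k]
    exact isSquare_coe_of_two σ h2 hσ2 _
  have hAB : ¬ (DD (plusQF F m) m hne).map (Phi ⇑(plusQF F m)) ≤
      (sqSub (plusQF F m) hne).map (Phi ⇑(plusQF F m)) := by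
    intro hle
    obtain ⟨ν, hν⟩ := exists_nonsquare_unit (F := F) h2
    have h1 : Phi ⇑(plusQF F m) ⟨dPlus ν, dPlus_mem ν⟩ ∈
        (DD (plusQF F m) m hne).map (Phi ⇑(plusQF F m)) :=
      Subgroup.mem_map_of_mem _ ((mem_DD _ _ hne _).2 (dPlus_delta hne ν))
    have h3 := hle h1
    rw [mem_map_Phi_iff _ _ (ker_le_sqSub _ hne hker), mem_sqSub, dPlus_mult] at h3
    exact hν h3
  obtain ⟨hfour, htwo⟩ := count_two_or_four _ _
    ((DD (plusQF F m) m hne).map (Phi ⇑(plusQF F m)) ⊓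
      Subgroup.centralizer {stdAut (plusQF F m) σ hσQ}) _ hInnA inf_le_left h4 hIB hCB hAB
  rw [AutPSL.splitClassCount_eq _ _ hInnA]
  -- the special element
  have hiff := dPlus_sq_inn_iff (m := m) h2 hm hc4 (Units.mk0 c hc)
  rw [Units.val_mk0] at hiff
  have hg₁D : (⟨dPlus (Units.mk0 c hc * Units.mk0 c hc), dPlus_mem _⟩ : ↥(Sim ⇑(plusQF F m))) ∈
      DD (plusQF F m) m hne := (mem_DD _ _ hne _).2 (dPlus_delta hne _)
  have hg₁σ : glmap σ (dPlus (Units.mk0 c hc * Units.mk0 c hc) : GL KK F) =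
      dPlus (Units.mk0 c hc * Units.mk0 c hc) := by
    rw [glmap_dPlus]
    congr 1
    apply Units.ext
    simp only [Units.coe_map, MonoidHom.coe_coe, Units.val_mul, Units.val_mk0, map_mul, hσc]
    ring
  -- the arithmetic
  have hN3 := isSquare_anti_iff h2 hF hf σ hσ2 c hc hσc
  have hsq : IsSquare (c ^ m) ↔ ¬ (Odd m ∧ p ^ (f / 2) % 4 = 1) := by
    have hq : p ^ (f / 2) % 4 = 1 ∨ p ^ (f / 2) % 4 = 3 := by omega
    rcases hq with hq | hq
    · have hcns : ¬ IsSquare c := by rw [hN3]; omega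
      rw [isSquare_pow_iff_of_nonsquare c hcns m]
      constructor
      · rintro h ⟨h', -⟩
        rw [← Nat.not_even_iff_odd] at h'
        exact h' h
      · intro h
        by_contra h'
        rw [Nat.not_even_iff_odd] at h'
        exact h ⟨h', hq⟩
    · have hcs : IsSquare c := by rw [hN3]; exact hq
      constructor
      · rintro - ⟨-, h⟩
        omega
      · intro _
        exact hcs.pow m
  constructor
  · intro hcond
    apply htwo
    intro hle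
    apply hsq.1 _ hcond
    rw [← hiff]
    apply hle
    refine ⟨Subgroup.mem_map_of_mem _ hg₁D, ?_⟩
    show _ ∈ Subgroup.centralizer {stdAut (plusQF F m) σ hσQ}
    rw [Subgroup.mem_centralizer_iff]
    intro y hy
    rw [Set.mem_singleton_iff] at hy
    rw [hy]
    exact Phi_comm_of_fixed (plusQF F m) σ hσQ _ hg₁σ
  · intro hcond
    apply hfour
    rw [hcent]
    rintro _ ⟨k, hk, rfl⟩
    show Phi ⇑(plusQF F m) (upSim (plusQF F m) hσQ k) ∈ _
    -- descend the special element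
    have hτ : σ ((mult (⇑(plusQF F m)) hne
        ⟨dPlus (Units.mk0 c hc * Units.mk0 c hc), dPlus_mem _⟩ : Fˣ) : F) =
        ((mult (⇑(plusQF F m)) hne
          ⟨dPlus (Units.mk0 c hc * Units.mk0 c hc), dPlus_mem _⟩ : Fˣ) : F) := by
      rw [dPlus_mult, Units.val_mul, Units.val_mk0, map_mul, hσc]
      ring
    have hL1 : ∀ v, plusQF F m ((1 : GL KK F).1 *ᵥ v) = plusQF F m v := by
      intro v
      rw [Units.val_one, Matrix.one_mulVec]
    obtain ⟨k₁, hk₁⟩ := descend_conj (plusQF F m) (plusQF F m) hne 1 hL1 hσQ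
      ⟨dPlus (Units.mk0 c hc * Units.mk0 c hc), dPlus_mem _⟩ hτ
      (by rw [inv_one, one_mul, mul_one]; exact hg₁σ)
    have hk₁' : upSim (plusQF F m) hσQ k₁ =
        ⟨dPlus (Units.mk0 c hc * Units.mk0 c hc), dPlus_mem _⟩ := by
      apply Subtype.ext
      have := congrArg Subtype.val hk₁
      rw [conjLSim_val, one_mul, inv_one, mul_one] at this
      exact this
    have hk₁d := (delta_down_iff (plusQF F m) hσQ hne hne₀ m k₁).1 (by rw [hk₁']; exact hg₁D)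
    have hk₁m : (((mult (⇑(down (plusQF F m) hσQ)) hne₀ k₁ : (AutPSL.fixF σ)ˣ) :
        AutPSL.fixF σ) : F) = c * c := by
      rw [← mult_upSim (plusQF F m) hσQ hne hne₀ k₁, hk₁', dPlus_mult, Units.val_mul,
        Units.val_mk0]
    have hk₁ns : ¬ IsSquare ((mult (⇑(down (plusQF F m) hσQ)) hne₀ k₁ : (AutPSL.fixF σ)ˣ) :
        AutPSL.fixF σ) := by
      rintro ⟨w, hw⟩
      have h3 := congrArg (fun y : AutPSL.fixF σ => (y : F)) hw
      simp only [Subfield.coe_mul] at h3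
      rw [hk₁m] at h3
      have hwσ : σ (w : F) = w := (AutPSL.mem_fixF_iff σ _).1 w.2
      have h4' : (c - w) * (c + w) = 0 := by linear_combination h3
      have h5 : σ c = c := by
        rcases mul_eq_zero.1 h4' with h | h
        · have : c = w := by linear_combination h
          rw [this, hwσ]
        · have : c = -w := by linear_combination h
          rw [this, map_neg, hwσ]
      rw [hσc] at h5
      apply hc
      have h6 : (2 : F) * c = 0 := by linear_combination -h5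
      rcases mul_eq_zero.1 h6 with h | h
      · exact absurd h h2
      · exact h
    have hk₁inn : Phi ⇑(plusQF F m) (upSim (plusQF F m) hσQ k₁) ∈
        Cfsg.Inn (Cfsg.POmega F ⇑(plusQF F m)) := by
      rw [hk₁']
      exact hiff.2 (hsq.2 hcond)
    exact up_inn_all (plusQF F m) hσQ hQ h2 hc7 m hcard hσ2 hne₀ k₁ hk₁d hk₁ns hk₁inn k
      ((delta_down_iff (plusQF F m) hσQ hne hne₀ m k).1 hk)

end fcount

end

end

section

section

open Matrix QuadraticMap Module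
open Cfsg.Agent.Lib.H13 Cfsg.Agent.Lib.H13.AutPO Cfsg.Agent.Lib.H13.HypPairs
open Cfsg.Agent.Lib.H11.ConfOrth Cfsg.Agent.Lib.H13.PlusLevi Cfsg.Agent.Lib.H13.PlusTS

section s2715

universe u v

variable {F : Type u} [Field F] [Fintype F] {m : ℕ}

local notation "KK" => (Fin m ⊕ Fin m)

set_option maxHeartbeats 1600000 in
/-- S2715 in odd characteristic -/
theorem s2715_odd (h2 : (2 : F) ≠ 0) (hm : 4 ≤ m) {p f : ℕ} [Fact p.Prime]
    (hF : Fintype.card F = p ^ f) (hf : 1 ≤ f)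
    (Q₀ : (KK → F) → F) (hQ₀ : ⇑(plusQF F m) = Q₀)
    (x : MulAut (Cfsg.POmega F Q₀)) (hx : Cfsg.IsFieldAutClassPOmega Q₀ x)
    {r : ℕ} (hr : r.Prime) (hxr : orderOf x = r)
    (F₀ : Type v) [Field F₀] [Fintype F₀] (hF₀ : Fintype.card F₀ = p ^ (f / r))
    (A : Subgroup (MulAut (Cfsg.POmega F Q₀)))
    (hA : A = Cfsg.autSubgroupOf (fun β : Cfsg.POmega F Q₀ ≃* Cfsg.POmega F Q₀ =>
      ∃ g : GL KK F, g ∈ Cfsg.Geo.quadSimilarityGroup (F := F) Q₀ ∧
        Cfsg.PreservesSingularClasses Q₀ (g : Matrix KK KK F) ∧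
        Cfsg.IsInducedBySemilinearPOmega Q₀ g (RingEquiv.refl F) β)) :
    r ∣ f ∧
    (∀ (Q₂ : (KK → F₀) → F₀) (hQ₂ : ⇑(plusQF F₀ m) = Q₂)
        (B : Subgroup (MulAut (Cfsg.POmega F₀ Q₂)))
        (hB : B = Cfsg.autSubgroupOf (fun β : Cfsg.POmega F₀ Q₂ ≃* Cfsg.POmega F₀ Q₂ =>
          ∃ g : GL KK F₀, g ∈ Cfsg.Geo.quadSimilarityGroup (F := F₀) Q₂ ∧
            Cfsg.PreservesSingularClasses Q₂ (g : Matrix KK KK F₀) ∧
            Cfsg.IsInducedBySemilinearPOmega Q₂ g (RingEquiv.refl F₀) β)),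
        Nonempty (↥(A ⊓ Subgroup.centralizer {x}) ≃* ↥B)) ∧
    ((Odd r ∨ p = 2) → Cfsg.splitClassCount A (Cfsg.Inn (Cfsg.POmega F Q₀)) x = 1) ∧
    ((r = 2 ∧ p ≠ 2 ∧ Odd m ∧ p ^ (f / 2) % 4 = 1) →
      Cfsg.splitClassCount A (Cfsg.Inn (Cfsg.POmega F Q₀)) x = 2) ∧
    ((r = 2 ∧ p ≠ 2 ∧ ¬ (Odd m ∧ p ^ (f / 2) % 4 = 1)) →
      Cfsg.splitClassCount A (Cfsg.Inn (Cfsg.POmega F Q₀)) x = 4) := by
  subst hQ₀
  have hQ : (polarBilin (plusQF F m)).Nondegenerate := Cfsg.Agent.S0287.nondeg (F := F) m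
  have hcard : Fintype.card KK = 2 * m := card_plus
  have hc7 : 7 ≤ Fintype.card KK := by rw [hcard]; omega
  have hne := exists_ne_of_nondeg (plusQF F m) hQ (by rw [hcard]; omega)
  rw [inndiag_plus_eq_odd h2 hne] at hA
  subst hA
  haveI := DD_plus_normal h2 hm hne
  haveI := inn_normal (Cfsg.POmega F ⇑(plusQF F m))
  haveI := charP_of_card hF
  have hInnA := inn_le_DD_map (plusQF F m) hQ h2 m (by omega) hcard hne
  obtain ⟨α, φ, σ, hσ1, hfield, hαx⟩ := hx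
  have hφ : φ = stdAut (plusQF F m) σ (sigEq_plus σ) :=
    eq_stdAut_of_isField (plusQF F m) σ (sigEq_plus σ) φ hfield
  have hxα : x = α⁻¹ * stdAut (plusQF F m) σ (sigEq_plus σ) * α⁻¹⁻¹ := by
    rw [← hφ, ← hαx]; group
  obtain ⟨hE, hcount⟩ := conj_transport
    ((DD (plusQF F m) m hne).map (Phi ⇑(plusQF F m)))
    (Cfsg.Inn (Cfsg.POmega F ⇑(plusQF F m))) hInnA α⁻¹ (stdAut (plusQF F m) σ (sigEq_plus σ))
  rw [← hxα] at hE hcount
  have hσr : orderOf σ = r := by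
    rw [← orderOf_stdAutG (plusQF F m) σ hQ hc7 (sigEq_plus σ), ← hφ, ← hαx, ← hxr]
    exact (MulAut.conj α).orderOf_eq x
  have hp2 : p ≠ 2 := by
    rintro rfl
    apply h2
    exact CharTwo.two_eq_zero
  refine ⟨?_, ?_, ?_, ?_, ?_⟩
  · rw [← hσr]
    exact order_dvd_f hF σ
  · obtain ⟨h2₀, H⟩ := cent_plus_odd h2 hm hF σ hr.pos hσr hne F₀ hF₀
    intro Q₂ hQ₂ B hB
    subst hQ₂
    have hQ₂ : (polarBilin (plusQF F₀ m)).Nondegenerate := Cfsg.Agent.S0287.nondeg (F := F₀) m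
    have hne₂ := exists_ne_of_nondeg (plusQF F₀ m) hQ₂ (by rw [hcard]; omega)
    rw [inndiag_plus_eq_odd h2₀ hne₂] at hB
    subst hB
    obtain ⟨E1⟩ := hE
    obtain ⟨E2⟩ := H hne₂
    exact ⟨E1.trans E2⟩
  · rintro (hodd | h)
    · rw [hcount]
      exact split_D (plusQF F m) (sigEq_plus σ) (DD (plusQF F m) m hne) hInnA
        (fun g hg => hP8_plus h2 hm σ hodd hσr hne g hg)
    · exact absurd h hp2
  · rintro ⟨rfl, -, h⟩
    rw [hcount]
    exact (field_count h2 hm hF hf σ hσr hne).1 h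
  · rintro ⟨rfl, -, h⟩
    rw [hcount]
    exact (field_count h2 hm hF hf σ hσr hne).2 h

set_option maxHeartbeats 1600000 in
/-- S2715 in characteristic two -/
theorem s2715_two [CharP F 2] (hm : 4 ≤ m) {p f : ℕ} [Fact p.Prime]
    (hF : Fintype.card F = p ^ f) (hf : 1 ≤ f)
    (Q₀ : (KK → F) → F) (hQ₀ : ⇑(plusQF F m) = Q₀)
    (x : MulAut (Cfsg.POmega F Q₀)) (hx : Cfsg.IsFieldAutClassPOmega Q₀ x)
    {r : ℕ} (hr : r.Prime) (hxr : orderOf x = r)
    (F₀ : Type v) [Field F₀] [Fintype F₀] (hF₀ : Fintype.card F₀ = p ^ (f / r))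
    (A : Subgroup (MulAut (Cfsg.POmega F Q₀)))
    (hA : A = Cfsg.autSubgroupOf (fun β : Cfsg.POmega F Q₀ ≃* Cfsg.POmega F Q₀ =>
      ∃ g : GL KK F, g ∈ Cfsg.Geo.quadSimilarityGroup (F := F) Q₀ ∧
        Cfsg.PreservesSingularClasses Q₀ (g : Matrix KK KK F) ∧
        Cfsg.IsInducedBySemilinearPOmega Q₀ g (RingEquiv.refl F) β)) :
    r ∣ f ∧
    (∀ (Q₂ : (KK → F₀) → F₀) (hQ₂ : ⇑(plusQF F₀ m) = Q₂)
        (B : Subgroup (MulAut (Cfsg.POmega F₀ Q₂)))
        (hB : B = Cfsg.autSubgroupOf (fun β : Cfsg.POmega F₀ Q₂ ≃* Cfsg.POmega F₀ Q₂ =>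
          ∃ g : GL KK F₀, g ∈ Cfsg.Geo.quadSimilarityGroup (F := F₀) Q₂ ∧
            Cfsg.PreservesSingularClasses Q₂ (g : Matrix KK KK F₀) ∧
            Cfsg.IsInducedBySemilinearPOmega Q₂ g (RingEquiv.refl F₀) β)),
        Nonempty (↥(A ⊓ Subgroup.centralizer {x}) ≃* ↥B)) ∧
    ((Odd r ∨ p = 2) → Cfsg.splitClassCount A (Cfsg.Inn (Cfsg.POmega F Q₀)) x = 1) ∧
    ((r = 2 ∧ p ≠ 2 ∧ Odd m ∧ p ^ (f / 2) % 4 = 1) →
      Cfsg.splitClassCount A (Cfsg.Inn (Cfsg.POmega F Q₀)) x = 2) ∧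
    ((r = 2 ∧ p ≠ 2 ∧ ¬ (Odd m ∧ p ^ (f / 2) % 4 = 1)) →
      Cfsg.splitClassCount A (Cfsg.Inn (Cfsg.POmega F Q₀)) x = 4) := by
  subst hQ₀
  have hQ : (polarBilin (plusQF F m)).Nondegenerate := Cfsg.Agent.S0287.nondeg (F := F) m
  have hcard : Fintype.card KK = 2 * m := card_plus
  have hc7 : 7 ≤ Fintype.card KK := by rw [hcard]; omega
  rw [inndiag_plus_eq_two hm] at hA
  subst hA
  haveI := inn_normal (Cfsg.POmega F ⇑(plusQF F m))
  have hp2 : p = 2 := CharP.eq F (charP_of_card hF) ‹CharP F 2›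
  obtain ⟨α, φ, σ, hσ1, hfield, hαx⟩ := hx
  have hφ : φ = stdAut (plusQF F m) σ (sigEq_plus σ) :=
    eq_stdAut_of_isField (plusQF F m) σ (sigEq_plus σ) φ hfield
  have hxα : x = α⁻¹ * stdAut (plusQF F m) σ (sigEq_plus σ) * α⁻¹⁻¹ := by
    rw [← hφ, ← hαx]; group
  obtain ⟨hE, -⟩ := conj_transport
    (Cfsg.Inn (Cfsg.POmega F ⇑(plusQF F m)))
    (Cfsg.Inn (Cfsg.POmega F ⇑(plusQF F m))) le_rfl α⁻¹ (stdAut (plusQF F m) σ (sigEq_plus σ))
  rw [← hxα] at hE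
  have hσr : orderOf σ = r := by
    rw [← orderOf_stdAutG (plusQF F m) σ hQ hc7 (sigEq_plus σ), ← hφ, ← hαx, ← hxr]
    exact (MulAut.conj α).orderOf_eq x
  refine ⟨?_, ?_, ?_, ?_, ?_⟩
  · rw [← hσr]
    exact order_dvd_f hF σ
  · obtain ⟨h2₀, H⟩ := cent_plus_two hm hF σ hr.pos hσr F₀ hF₀
    intro Q₂ hQ₂ B hB
    subst hQ₂
    haveI : CharP F₀ 2 := CharTwo.of_one_ne_zero_of_two_eq_zero one_ne_zero h2₀
    rw [inndiag_plus_eq_two hm] at hB
    subst hB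
    obtain ⟨E1⟩ := hE
    obtain ⟨E2⟩ := H
    exact ⟨E1.trans E2⟩
  · intro _
    exact splitClassCount_self _ x
  · rintro ⟨-, h, -⟩
    exact absurd hp2 h
  · rintro ⟨-, h, -⟩
    exact absurd hp2 h

end s2715

end

end

end Cfsg.Agent.Lib.H13.Tri
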