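import Mathlib

/-!
# S0720 piece CENT (helper13): `centralizer_two_p`

The centraliser in `G` (degree `2p`, `p ^ 2 ∤ |G|`) of a fixed-point-free element `x` of order `p` is `⟨x⟩`,
or `G` contains a `2p`-cycle.
-/

set_option autoImplicit false
set_option linter.unusedSectionVars false

namespace Cfsg.Agent.Lib.H13.W2P

open Equiv

section
variable {α : Type*} [Fintype α] [DecidableEq α]

/-- powers of a fixed-point-free element of prime order -/
theorem cent_zpow_apply_eq_iff {p : ℕ} (hp : p.Prime) (x : Perm α) (hox : orderOf x = p)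
    (hfpf : ∀ a : α, x a ≠ a) (a : α) (k : ℤ) : (x ^ k) a = a ↔ (p : ℤ) ∣ k := by
  have h1 : MulAction.period x a = p := by
    have hd : MulAction.period x a ∣ p := hox ▸ MulAction.period_dvd_orderOf x a
    rcases (Nat.dvd_prime hp).1 hd with h | h
    · exact absurd (MulAction.period_eq_one_iff.1 h) (hfpf a)
    · exact h
  have := MulAction.zpow_smul_eq_iff_period_dvd (j := k) (g := x) (a := a)
  rw [h1] at this
  simpa using this

theorem cent_comm_apply_zpow (x c : Perm α) (hc : c * x = x * c) (a : α) (i k : ℤ)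
    (h : c a = (x ^ i) a) : c ((x ^ k) a) = (x ^ i) ((x ^ k) a) := by
  have hcomm : Commute c x := hc
  have h2 : c * x ^ k = x ^ k * c := (hcomm.zpow_right k).eq
  calc c ((x ^ k) a) = (c * x ^ k) a := rfl
    _ = (x ^ k * c) a := by rw [h2]
    _ = (x ^ k) ((x ^ i) a) := by rw [Perm.mul_apply, h]
    _ = (x ^ i) ((x ^ k) a) := by
      rw [← Perm.mul_apply, ← Perm.mul_apply, ← zpow_add, ← zpow_add, add_comm]

theorem cent_cover {p : ℕ} (hp : p.Prime) (hα : Fintype.card α = 2 * p) (x : Perm α)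
    (hox : orderOf x = p) (hfpf : ∀ a : α, x a ≠ a) (a b : α) (hb : ∀ k : ℤ, (x ^ k) a ≠ b)
    (y : α) : (∃ k : ℕ, y = (x ^ k) a) ∨ (∃ k : ℕ, y = (x ^ k) b) := by
  have : NeZero p := ⟨hp.ne_zero⟩
  let f : Fin p × Bool → α :=
    fun t => if t.2 then (x ^ (t.1 : ℕ)) b else (x ^ (t.1 : ℕ)) a
  have hshift : ∀ (c c' : α) (k l : ℕ), (x ^ k) c = (x ^ l) c' →
      c' = (x ^ ((k : ℤ) - (l : ℤ))) c := by
    intro c c' k l h
    have h1 : (x ^ ((k : ℤ) - (l : ℤ))) c = (x ^ (-(l : ℤ))) ((x ^ (k : ℤ)) c) := by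
      rw [← Perm.mul_apply, ← zpow_add]; congr 2; ring
    rw [h1, zpow_natCast, h, ← zpow_natCast, ← Perm.mul_apply, ← zpow_add, neg_add_cancel,
      zpow_zero]
    rfl
  have key : ∀ (c : α) (k l : Fin p), (x ^ (k : ℕ)) c = (x ^ (l : ℕ)) c → k = l := by
    intro c k l h
    have h1 := (hshift c c k l h).symm
    rw [cent_zpow_apply_eq_iff hp x hox hfpf] at h1
    have h2 : ((k : ℕ) : ℤ) - ((l : ℕ) : ℤ) = 0 := by
      apply Int.eq_zero_of_abs_lt_dvd h1
      have hk := k.2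
      have hl := l.2
      rw [abs_lt]
      constructor <;> omega
    apply Fin.ext
    omega
  have hinj : Function.Injective f := by
    rintro ⟨k, s⟩ ⟨l, t⟩ h
    cases s <;> cases t <;> simp only [f, Bool.false_eq_true, if_false, if_true] at h
    · rw [key a k l h]
    · exact absurd (hshift a b k l h).symm (hb _)
    · exact absurd (hshift a b l k h.symm).symm (hb _)
    · rw [key b k l h]
  have hbij : Function.Bijective f := by
    rw [Fintype.bijective_iff_injective_and_card]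
    refine ⟨hinj, ?_⟩
    rw [Fintype.card_prod, Fintype.card_fin, Fintype.card_bool, hα, mul_comm]
  obtain ⟨⟨k, s⟩, hk⟩ := hbij.2 y
  cases s <;> simp only [f, Bool.false_eq_true, if_false, if_true] at hk
  · exact Or.inl ⟨k, hk.symm⟩
  · exact Or.inr ⟨k, hk.symm⟩

/-- if `p ^ 2 ∤ |G|`, all elements of order `p` of `G` are conjugate to powers of `x`, so
fixed-point-free. -/
theorem cent_fpf_of_orderOf_eq {p : ℕ} (hp : p.Prime) (G : Subgroup (Perm α))
    (hp2G : ¬ p ^ 2 ∣ Nat.card G) (x : Perm α) (hx : x ∈ G) (hox : orderOf x = p)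
    (hfpf : ∀ a : α, x a ≠ a) (d : Perm α) (hd : d ∈ G) (hod : orderOf d = p) :
    ∀ a : α, d a ≠ a := by
  have : Fact p.Prime := ⟨hp⟩
  have hsyl : ∀ y : G, orderOf y = p →
      ∃ P : Sylow p G, (P : Subgroup G) = Subgroup.zpowers y := by
    intro y hy
    have hpg : IsPGroup p (Subgroup.zpowers y) :=
      IsPGroup.of_card (n := 1) (by rw [Nat.card_zpowers, hy, pow_one])
    obtain ⟨P, hP⟩ := hpg.exists_le_sylow
    refine ⟨P, ?_⟩
    symm
    apply Subgroup.eq_of_le_of_card_ge hP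
    rw [Nat.card_zpowers, hy, Sylow.card_eq_multiplicity]
    have h1 : (Nat.card G).factorization p ≤ 1 := by
      by_contra hlt
      push Not at hlt
      apply hp2G
      exact (pow_dvd_pow p hlt).trans (Nat.ordProj_dvd _ _)
    calc p ^ (Nat.card G).factorization p ≤ p ^ 1 := Nat.pow_le_pow_right hp.pos h1
      _ = p := pow_one p
  obtain ⟨P, hP⟩ := hsyl ⟨x, hx⟩ (by rw [← hox]; exact Subgroup.orderOf_mk x hx)
  obtain ⟨Q, hQ⟩ := hsyl ⟨d, hd⟩ (by rw [← hod]; exact Subgroup.orderOf_mk d hd)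
  obtain ⟨g, hg⟩ := MulAction.exists_smul_eq G P Q
  have hdQ : (⟨d, hd⟩ : G) ∈ (Q : Subgroup G) := by rw [hQ]; exact Subgroup.mem_zpowers _
  rw [← hg, Sylow.coe_subgroup_smul, Subgroup.mem_pointwise_smul_iff_inv_smul_mem, hP,
    Subgroup.mem_zpowers_iff] at hdQ
  obtain ⟨m, hm⟩ := hdQ
  have hm' : x ^ m = (g : Perm α)⁻¹ * d * (g : Perm α) := by
    have := congrArg (fun t : G => (t : Perm α)) hm
    simpa [MulAut.smul_def] using this
  intro a ha
  have h1 : (x ^ m) ((g : Perm α)⁻¹ a) = (g : Perm α)⁻¹ a := by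
    rw [hm']; simp [ha]
  rw [cent_zpow_apply_eq_iff hp x hox hfpf] at h1
  have h2 : x ^ m = 1 := by
    rw [← hox] at h1
    exact (orderOf_dvd_iff_zpow_eq_one).1 h1
  have h3 : d = 1 := by
    rw [h2] at hm'
    have : d = (g : Perm α) * ((g : Perm α)⁻¹ * d * (g : Perm α)) * (g : Perm α)⁻¹ := by group
    rw [this, ← hm']; group
  rw [h3, orderOf_one] at hod
  exact hp.one_lt.ne hod

theorem cent_pow_apply (x d : Perm α) (b : α) (j : ℤ)
    (h : ∀ k : ℤ, d ((x ^ k) b) = (x ^ j) ((x ^ k) b)) (n : ℕ) (k : ℤ) :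
    (d ^ n) ((x ^ k) b) = (x ^ (j * n)) ((x ^ k) b) := by
  induction n with
  | zero => simp
  | succ n ih =>
    calc (d ^ (n + 1)) ((x ^ k) b) = d ((d ^ n) ((x ^ k) b)) := by rw [pow_succ']; rfl
      _ = d ((x ^ (j * n + k)) b) := by rw [ih, zpow_add]; rfl
      _ = (x ^ j) ((x ^ (j * n + k)) b) := h _
      _ = (x ^ (j * (n + 1 : ℕ))) ((x ^ k) b) := by
        rw [← Perm.mul_apply, ← zpow_add, ← Perm.mul_apply, ← zpow_add]
        congr 2
        push_cast
        ring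

end

/-- CENT: the centraliser of a fixed-point-free element `x` of order `p` (degree `2p`, `p ^ 2 ∤ |G|`) is
`⟨x⟩`, or `G` contains a `2p`-cycle. -/
theorem centralizer_two_p {α : Type*} [Fintype α] [DecidableEq α] {p : ℕ} (hp : p.Prime)
    (hp2 : p ≠ 2) (hα : Fintype.card α = 2 * p) (G : Subgroup (Equiv.Perm α))
    (hp2G : ¬ p ^ 2 ∣ Nat.card G) (x : Equiv.Perm α) (hx : x ∈ G) (hox : orderOf x = p)
    (hfpf : ∀ a : α, x a ≠ a) :
    (∀ c ∈ G, c * x = x * c → c ∈ Subgroup.zpowers x) ∨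
      ∃ g ∈ G, g.IsCycle ∧ g.support.card = 2 * p := by
  have : Fact p.Prime := ⟨hp⟩
  by_cases h : ∀ c ∈ G, c * x = x * c → c ∈ Subgroup.zpowers x
  · exact Or.inl h
  right
  push Not at h
  obtain ⟨c, hcG, hcx, hcn⟩ := h
  have hne : Nonempty α := by
    rw [← Fintype.card_pos_iff, hα]; have := hp.pos; omega
  obtain ⟨a⟩ := hne
  have hxp : ∀ j : ℤ, x ^ (j * (p : ℤ)) = 1 := by
    intro j
    rw [mul_comm, zpow_mul, zpow_natCast, ← hox, pow_orderOf_eq_one, one_zpow]
  -- Lemma B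
  have hB : ∀ c ∈ G, c * x = x * c → (∃ i : ℤ, c a = (x ^ i) a) → c ∈ Subgroup.zpowers x := by
    intro c hcG hcx ⟨i, hi⟩
    by_contra hcn
    set d := c * x ^ (-i) with hd
    have hdG : d ∈ G := G.mul_mem hcG (G.zpow_mem hx _)
    have hdx : d * x = x * d := by
      have h1 : Commute c x := hcx
      have h2 : Commute (x ^ (-i)) x := (Commute.refl x).zpow_left _
      exact (h1.mul_left h2).eq
    have hda : d a = a := by
      have := cent_comm_apply_zpow x c hcx a i (-i) hi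
      rw [hd, Perm.mul_apply, this, ← Perm.mul_apply, ← zpow_add, add_neg_cancel, zpow_zero]
      rfl
    have hdA : ∀ k : ℤ, d ((x ^ k) a) = (x ^ (0 : ℤ)) ((x ^ k) a) := by
      intro k
      exact cent_comm_apply_zpow x d hdx a 0 k (by rw [zpow_zero]; exact hda)
    have hdA' : ∀ k : ℤ, d ((x ^ k) a) = (x ^ k) a := by
      intro k; rw [hdA, zpow_zero]; rfl
    have hd1 : d ≠ 1 := by
      intro h1
      apply hcn
      have h2 : c = d * x ^ i := by
        rw [hd, mul_assoc, ← zpow_add, neg_add_cancel, zpow_zero, mul_one]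
      rw [h2, h1, one_mul]; exact Subgroup.zpow_mem_zpowers x i
    obtain ⟨b, hb⟩ : ∃ b, d b ≠ b := by
      by_contra hall
      push Not at hall
      exact hd1 (Perm.ext hall)
    have hbA : ∀ k : ℤ, (x ^ k) a ≠ b := by
      intro k hk
      apply hb
      rw [← hk, hdA']
    have hdb : ∃ j : ℕ, d b = (x ^ j) b := by
      rcases cent_cover hp hα x hox hfpf a b hbA (d b) with ⟨k, hk⟩ | h
      · exfalso
        have h1 : d ((x ^ (k : ℤ)) a) = (x ^ (k : ℤ)) a := hdA' k
        rw [zpow_natCast, ← hk] at h1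
        have h2 := d.injective h1
        exact hbA k (by rw [zpow_natCast, ← hk, h2])
      · exact h
    obtain ⟨j, hj⟩ := hdb
    have hdB : ∀ k : ℤ, d ((x ^ k) b) = (x ^ (j : ℤ)) ((x ^ k) b) :=
      fun k => cent_comm_apply_zpow x d hdx b j k (by rw [zpow_natCast]; exact hj)
    have hdp : d ^ p = 1 := by
      ext y
      rcases cent_cover hp hα x hox hfpf a b hbA y with ⟨k, hk⟩ | ⟨k, hk⟩
      · rw [hk, ← zpow_natCast x k, cent_pow_apply x d a 0 hdA p k, hxp]
      · rw [hk, ← zpow_natCast x k, cent_pow_apply x d b j hdB p k, hxp]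
    have hod : orderOf d = p := orderOf_eq_prime hdp hd1
    exact cent_fpf_of_orderOf_eq hp G hp2G x hx hox hfpf d hdG hod a hda
  -- case 2
  have hbA : ∀ k : ℤ, (x ^ k) a ≠ c a := by
    intro k hk
    exact hcn (hB c hcG hcx ⟨k, hk.symm⟩)
  have hcc : c * c ∈ Subgroup.zpowers x := by
    apply hB (c * c) (G.mul_mem hcG hcG)
    · have h1 : Commute c x := hcx
      exact (h1.mul_left h1).eq
    · rcases cent_cover hp hα x hox hfpf a (c a) hbA (c (c a)) with ⟨k, hk⟩ | ⟨k, hk⟩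
      · exact ⟨k, by rw [zpow_natCast]; exact hk⟩
      · exfalso
        have h1 : c ((x ^ (k : ℤ)) a) = (x ^ (k : ℤ)) (c a) := by
          have h2 : Commute c x := hcx
          have h3 := (h2.zpow_right (k : ℤ)).eq
          calc c ((x ^ (k : ℤ)) a) = (c * x ^ (k : ℤ)) a := rfl
            _ = (x ^ (k : ℤ) * c) a := by rw [h3]
            _ = _ := rfl
        rw [zpow_natCast, ← hk] at h1
        exact hbA k (c.injective h1)
  obtain ⟨i, hi⟩ := Subgroup.mem_zpowers_iff.1 hcc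
  obtain ⟨t, ht⟩ : ∃ t : ℕ, p = 2 * t + 1 := by
    rcases hp.eq_two_or_odd' with h | h
    · exact absurd h hp2
    · obtain ⟨t, ht⟩ := h; exact ⟨t, ht⟩
  set z := c * x ^ (-(i * (t + 1 : ℤ))) with hz
  have hzG : z ∈ G := G.mul_mem hcG (G.zpow_mem hx _)
  have hcx' : Commute c x := hcx
  have hzx : Commute z x := hcx'.mul_left ((Commute.refl x).zpow_left _)
  have hzz : z * z = 1 := by
    have h1 : Commute (x ^ (-(i * (t + 1 : ℤ)))) c := (hcx'.zpow_right _).symm
    have h2 : z * z = (c * c) * (x ^ (-(i * (t + 1 : ℤ))) * x ^ (-(i * (t + 1 : ℤ)))) := by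
      rw [hz]
      calc c * x ^ (-(i * (t + 1 : ℤ))) * (c * x ^ (-(i * (t + 1 : ℤ))))
          = c * (x ^ (-(i * (t + 1 : ℤ))) * c) * x ^ (-(i * (t + 1 : ℤ))) := by group
        _ = c * (c * x ^ (-(i * (t + 1 : ℤ)))) * x ^ (-(i * (t + 1 : ℤ))) := by rw [h1.eq]
        _ = _ := by group
    rw [h2, ← hi, ← zpow_add, ← zpow_add]
    have h3 : i + (-(i * (t + 1 : ℤ)) + -(i * (t + 1 : ℤ))) = (-i) * (p : ℤ) := by
      rw [ht]; push_cast; ring
    rw [h3, hxp]
  have hza : ∀ k : ℤ, (x ^ k) a ≠ z a := by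
    intro k hk
    -- z a = x^(-(i(t+1))) (c a)
    have h1 : z a = (x ^ (-(i * (t + 1 : ℤ)))) (c a) := by
      have h3 := (hcx'.zpow_right (-(i * (t + 1 : ℤ)))).eq
      calc z a = (c * x ^ (-(i * (t + 1 : ℤ)))) a := rfl
        _ = (x ^ (-(i * (t + 1 : ℤ))) * c) a := by rw [h3]
        _ = _ := rfl
    apply hbA (k + i * (t + 1 : ℤ))
    rw [add_comm, zpow_add, Perm.mul_apply, hk, h1, ← Perm.mul_apply, ← zpow_add, add_neg_cancel,
      zpow_zero]
    rfl
  have hzpow_even : ∀ m : ℕ, Even m → z ^ m = 1 := by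
    rintro m ⟨s, rfl⟩
    rw [← two_mul, pow_mul, pow_two, hzz, one_pow]
  have hzpow_odd : ∀ m : ℕ, Odd m → z ^ m = z := by
    rintro m ⟨s, rfl⟩
    rw [pow_succ, hzpow_even (2 * s) (even_two_mul s), one_mul]
  have hpodd : Odd p := ⟨t, ht⟩
  have hxpow : ∀ k : ℕ, x ^ (k + p) = x ^ k := by
    intro k; rw [pow_add, ← hox, pow_orderOf_eq_one, mul_one]
  have hev : ∀ k : ℕ, ∃ m, Even m ∧ x ^ m = x ^ k := by
    intro k
    rcases Nat.even_or_odd k with h | h
    · exact ⟨k, h, rfl⟩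
    · exact ⟨k + p, h.add_odd hpodd, hxpow k⟩
  have hodd : ∀ k : ℕ, ∃ m, Odd m ∧ x ^ m = x ^ k := by
    intro k
    rcases Nat.even_or_odd k with h | h
    · exact ⟨k + p, h.add_odd hpodd, hxpow k⟩
    · exact ⟨k, h, rfl⟩
  set g := z * x with hg
  have hgG : g ∈ G := G.mul_mem hzG hx
  have hgpow : ∀ m : ℕ, g ^ m = z ^ m * x ^ m := fun m => hzx.mul_pow m
  have hreach : ∀ y : α, ∃ m : ℕ, (g ^ m) a = y := by
    intro y
    rcases cent_cover hp hα x hox hfpf a (z a) hza y with ⟨k, hk⟩ | ⟨k, hk⟩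
    · obtain ⟨m, hm, hmx⟩ := hev k
      exact ⟨m, by rw [hgpow, hzpow_even m hm, one_mul, hmx, hk]⟩
    · obtain ⟨m, hm, hmx⟩ := hodd k
      refine ⟨m, ?_⟩
      rw [hgpow, hzpow_odd m hm, hmx, hk]
      have h3 := (hzx.pow_right k).eq
      calc (z * x ^ k) a = (x ^ k * z) a := by rw [h3]
        _ = _ := rfl
  have hga : g a ≠ a := by
    intro h1
    -- z (x a) = a → x a = z a
    have h2 : (x ^ (1 : ℤ)) a = z a := by
      rw [zpow_one]
      have h3 : z (z (x a)) = z a := by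
        have : (z * x) a = a := h1
        rw [Perm.mul_apply] at this
        rw [this]
      rw [← Perm.mul_apply, hzz] at h3
      exact h3
    exact hza 1 h2
  have hgall : ∀ y : α, g y ≠ y := by
    intro y hy
    obtain ⟨m, hm⟩ := hreach y
    apply hga
    have h1 : (g ^ m) (g a) = (g ^ m) a := by
      have h2 : (g ^ m * g) a = (g * g ^ m) a := by
        rw [← pow_succ, ← pow_succ']
      have h2' : (g ^ m) (g a) = g ((g ^ m) a) := h2
      rw [h2', hm, hy]
    exact (g ^ m).injective h1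
  refine ⟨g, hgG, ⟨a, hga, ?_⟩, ?_⟩
  · intro y _
    obtain ⟨m, hm⟩ := hreach y
    exact ⟨m, by rw [zpow_natCast]; exact hm⟩
  · have : g.support = Finset.univ := by
      rw [Finset.eq_univ_iff_forall]
      intro y
      rw [Perm.mem_support]
      exact hgall y
    rw [this, Finset.card_univ, hα]

end Cfsg.Agent.Lib.H13.W2P
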