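import Mathlib

/-!
# S0720 piece FIN (helper13): `false_of_fixed`

If the point stabiliser `L_a` of a transitive subgroup `L ∋ x` normalised by the primitive group `G` (degree `2p`)
fixes a point `b` outside the `⟨x⟩`-orbit of `a`, contradiction: `Fix (L_a)` is a block of `G` containing
`a ≠ b`, so everything, `L` is regular of order `2p`, `⟨x⟩` (of index 2 in `L`) is normalised by `G` and its
orbit `⟨x⟩ a` is a block of `G` of size `p`.
-/

set_option autoImplicit false
set_option linter.unusedSectionVars false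

namespace Cfsg.Agent.Lib.H13.W2P

open Equiv

section
variable {α : Type*} [Fintype α] [DecidableEq α]

/-- the orbits of a subgroup normalised by `G` are blocks of `G`. -/
theorem fin_isBlock_orbit (G H : Subgroup (Perm α))
    (hn : ∀ g ∈ G, ∀ h ∈ H, g * h * g⁻¹ ∈ H) (a : α) :
    MulAction.IsBlock G (MulAction.orbit H a) := by
  have hn' : ∀ g ∈ G, ∀ h ∈ H, g⁻¹ * h * g ∈ H := by
    intro g hg h hh
    have := hn g⁻¹ (G.inv_mem hg) h hh
    simpa using this
  have hmem : ∀ y : α, y ∈ MulAction.orbit H a ↔ ∃ h ∈ H, h a = y := by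
    intro y
    rw [MulAction.mem_orbit_iff]
    constructor
    · rintro ⟨h, rfl⟩; exact ⟨h.1, h.2, rfl⟩
    · rintro ⟨h, hh, rfl⟩; exact ⟨⟨h, hh⟩, rfl⟩
  rw [MulAction.isBlock_iff_smul_eq_of_mem]
  intro g c hc hgc
  obtain ⟨h₀, hh₀, rfl⟩ := (hmem c).1 hc
  obtain ⟨h₁, hh₁, hh₁a⟩ := (hmem _).1 hgc
  have hh₁a' : h₁ a = (g : Perm α) (h₀ a) := hh₁a
  apply Set.Subset.antisymm
  · rintro _ ⟨y, hy, rfl⟩
    obtain ⟨h, hh, rfl⟩ := (hmem y).1 hy
    rw [hmem]
    refine ⟨(g : Perm α) * (h * h₀⁻¹) * (g : Perm α)⁻¹ * h₁,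
      H.mul_mem (hn g g.2 _ (H.mul_mem hh (H.inv_mem hh₀))) hh₁, ?_⟩
    show _ = (g : Perm α) (h a)
    simp only [Perm.mul_apply]
    rw [hh₁a']
    simp
  · intro y hy
    obtain ⟨h, hh, rfl⟩ := (hmem y).1 hy
    refine ⟨(g : Perm α)⁻¹ (h a), ?_, ?_⟩
    · rw [hmem]
      refine ⟨(g : Perm α)⁻¹ * (h * h₁⁻¹) * (g : Perm α) * h₀,
        H.mul_mem (hn' g g.2 _ (H.mul_mem hh (H.inv_mem hh₁))) hh₀, ?_⟩
      simp only [Perm.mul_apply]
      rw [← hh₁a']
      simp
    · show (g : Perm α) ((g : Perm α)⁻¹ (h a)) = h a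
      simp

end

/-- FIN: if the point stabiliser of a transitive subgroup `L ∋ x` normalised by the primitive group `G`
fixes a point `b` outside the `⟨x⟩`-orbit of `a`, contradiction (block `Fix (L_a)` of size `2`, `p`, `2p`). -/
theorem false_of_fixed {α : Type*} [Fintype α] [DecidableEq α] {p : ℕ} (hp : p.Prime) (hp2 : p ≠ 2)
    (hα : Fintype.card α = 2 * p) (G : Subgroup (Equiv.Perm α)) (hG : MulAction.IsPreprimitive G α)
    (L : Subgroup (Equiv.Perm α)) (hLG : L ≤ G) (hnorm : ∀ g ∈ G, ∀ l ∈ L, g * l * g⁻¹ ∈ L)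
    (htr : MulAction.IsPretransitive L α) (x : Equiv.Perm α) (hx : x ∈ L) (hox : orderOf x = p)
    (hfpf : ∀ a : α, x a ≠ a) (a b : α) (hb : b ∉ MulAction.orbit (Subgroup.zpowers x) a)
    (hfix : ∀ l ∈ L, l a = a → l b = b) : False := by
  classical
  have hab : a ≠ b := by
    rintro rfl
    exact hb (MulAction.mem_orbit_self a)
  set F : Set α := {c | ∀ l ∈ L, l a = a → l c = c} with hF
  have haF : a ∈ F := fun l _ h => h
  have hbF : b ∈ F := hfix
  have hstab : ∀ c ∈ F, ∀ l ∈ L, l c = c → l a = a := by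
    intro c hc l hl hlc
    have hle : MulAction.stabilizer L a ≤ MulAction.stabilizer L c := by
      intro m hm
      rw [MulAction.mem_stabilizer_iff] at hm ⊢
      exact hc m.1 m.2 hm
    have hidx1 := MulAction.index_stabilizer_of_transitive L a
    have hidx2 := MulAction.index_stabilizer_of_transitive L c
    have hcard : Nat.card (MulAction.stabilizer L c) ≤ Nat.card (MulAction.stabilizer L a) := by
      have h1 := Subgroup.card_mul_index (MulAction.stabilizer L a)
      have h2 := Subgroup.card_mul_index (MulAction.stabilizer L c)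
      rw [hidx1] at h1
      rw [hidx2] at h2
      have hpos : 0 < Nat.card α := by
        haveI : Nonempty α := ⟨a⟩
        exact Nat.card_pos
      exact le_of_eq (Nat.eq_of_mul_eq_mul_right hpos (h2.trans h1.symm))
    have heq := Subgroup.eq_of_le_of_card_ge hle hcard
    have h3 : (⟨l, hl⟩ : L) ∈ MulAction.stabilizer L a := by
      rw [heq]; exact hlc
    exact h3
  have hconj : ∀ g ∈ G, ∀ l ∈ L, g⁻¹ * l * g ∈ L := by
    intro g hg l hl
    have := hnorm g⁻¹ (G.inv_mem hg) l hl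
    simpa using this
  have hN : ∀ g ∈ G, ∀ c ∈ F, g c ∈ F → ∀ l ∈ L, l a = a → (g⁻¹ * l * g) a = a := by
    intro g hg c hc hgc l hl hla
    apply hstab c hc _ (hconj g hg l hl)
    have h1 : l (g c) = g c := hgc l hl hla
    simp only [Perm.mul_apply]
    rw [h1]
    simp
  have hsub : ∀ g ∈ G, (∀ l ∈ L, l a = a → (g⁻¹ * l * g) a = a) → ∀ c ∈ F, g c ∈ F := by
    intro g hg hNg c hc l hl hla
    have h1 := hc _ (hconj g hg l hl) (hNg l hl hla)
    simp only [Perm.mul_apply] at h1
    have := congrArg g h1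
    simpa using this
  have hblockF : MulAction.IsBlock G F := by
    rw [MulAction.isBlock_iff_smul_eq_of_mem]
    intro g c hc hgc
    have hgc' : (g : Perm α) c ∈ F := hgc
    apply Set.Subset.antisymm
    · rintro _ ⟨c', hc', rfl⟩
      exact hsub g g.2 (hN g g.2 c hc hgc') c' hc'
    · intro y hy
      refine ⟨(g : Perm α)⁻¹ y, ?_, ?_⟩
      · have h1 := hN (g : Perm α)⁻¹ (G.inv_mem g.2) ((g : Perm α) c) hgc' (by simpa using hc)
        exact hsub (g : Perm α)⁻¹ (G.inv_mem g.2) h1 y hy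
      · show (g : Perm α) ((g : Perm α)⁻¹ y) = y
        simp
  have hFuniv : F = Set.univ := by
    rcases hG.isTrivialBlock_of_isBlock hblockF with h | h
    · exact absurd (h haF hbF) hab
    · exact h
  have hLa : ∀ l ∈ L, l a = a → l = 1 := by
    intro l hl hla
    ext c
    have hc : c ∈ F := by rw [hFuniv]; trivial
    exact hc l hl hla
  -- |L| = 2p
  have hstabbot : MulAction.stabilizer L a = ⊥ := by
    rw [eq_bot_iff]
    intro m hm
    rw [MulAction.mem_stabilizer_iff] at hm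
    rw [Subgroup.mem_bot]
    apply Subtype.ext
    exact hLa m.1 m.2 hm
  have hcardL : Nat.card L = 2 * p := by
    have h1 := MulAction.index_stabilizer_of_transitive L a
    rw [hstabbot, Subgroup.index_bot, Nat.card_eq_fintype_card (α := α), hα] at h1
    exact h1
  -- ⟨x⟩ has index 2 in L
  set x' : L := ⟨x, hx⟩ with hx'
  have hox' : orderOf x' = p := by rw [← hox]; exact Subgroup.orderOf_mk x hx
  have hidx : (Subgroup.zpowers x').index = 2 := by
    have h1 := Subgroup.card_mul_index (Subgroup.zpowers x')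
    rw [Nat.card_zpowers, hox', hcardL, mul_comm] at h1
    exact Nat.eq_of_mul_eq_mul_right hp.pos h1
  obtain ⟨t, ht⟩ : ∃ t : ℕ, p = 2 * t + 1 := by
    rcases hp.eq_two_or_odd' with h | h
    · exact absurd h hp2
    · obtain ⟨t, ht⟩ := h; exact ⟨t, ht⟩
  have hnx : ∀ g ∈ G, g * x * g⁻¹ ∈ Subgroup.zpowers x := by
    intro g hg
    set y' : L := ⟨g * x * g⁻¹, hnorm g hg x hx⟩ with hy'
    have h1 : y' ^ 2 ∈ Subgroup.zpowers x' := Subgroup.sq_mem_of_index_two hidx y'
    have h2 : y' ^ p = 1 := by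
      apply Subtype.ext
      show (g * x * g⁻¹) ^ p = 1
      rw [conj_pow, ← hox, pow_orderOf_eq_one]
      simp
    have h3 : y' = (y' ^ 2) ^ (t + 1) := by
      rw [← pow_mul]
      have : 2 * (t + 1) = p + 1 := by omega
      rw [this, pow_succ, h2, one_mul]
    have h4 : y' ∈ Subgroup.zpowers x' := by
      rw [h3]; exact Subgroup.pow_mem _ h1 _
    obtain ⟨m, hm⟩ := Subgroup.mem_zpowers_iff.1 h4
    rw [Subgroup.mem_zpowers_iff]
    refine ⟨m, ?_⟩
    have := congrArg (fun t : L => (t : Perm α)) hm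
    simpa using this
  have hnP : ∀ g ∈ G, ∀ h ∈ Subgroup.zpowers x, g * h * g⁻¹ ∈ Subgroup.zpowers x := by
    intro g hg h hh
    obtain ⟨k, rfl⟩ := Subgroup.mem_zpowers_iff.1 hh
    rw [← conj_zpow]
    exact Subgroup.zpow_mem _ (hnx g hg) k
  have hblockB := fin_isBlock_orbit G (Subgroup.zpowers x) hnP a
  rcases hG.isTrivialBlock_of_isBlock hblockB with h | h
  · have h1 : a ∈ MulAction.orbit (Subgroup.zpowers x) a := MulAction.mem_orbit_self a
    have h2 : x a ∈ MulAction.orbit (Subgroup.zpowers x) a :=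
      ⟨⟨x, Subgroup.mem_zpowers x⟩, rfl⟩
    exact hfpf a (h h2 h1)
  · apply hb
    rw [h]
    trivial

end Cfsg.Agent.Lib.H13.W2P
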